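import Mathlib

/-! Cardinality formulas for subgroups (helper1). -/

namespace Cfsg.Agent.H1

lemma card_eq_relIndex_mul_card {G : Type*} [Group G] {H K : Subgroup G} (h : H ≤ K) :
    Nat.card K = H.relIndex K * Nat.card H := by
  have := Subgroup.relIndex_mul_relIndex (⊥ : Subgroup G) H K bot_le h
  rw [Subgroup.relIndex_bot_left, Subgroup.relIndex_bot_left] at this
  rw [← this, mul_comm]

/-- product formula `|HN| |H ∩ N| = |H| |N|` when `H` normalizes `N` -/
lemma card_sup_mul_card_inf {G : Type*} [Group G] (H N : Subgroup G) (hLE : H ≤ Subgroup.normalizer (N : Set G)) :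
    Nat.card (H ⊔ N : Subgroup G) * Nat.card (H ⊓ N : Subgroup G) = Nat.card H * Nat.card N := by
  have h1 : N.relIndex (H ⊔ N) = N.relIndex H := by
    have i1 := Subgroup.normal_subgroupOf_of_le_normalizer hLE
    have i2 := Subgroup.normal_subgroupOf_sup_of_le_normalizer hLE
    have e := QuotientGroup.quotientInfEquivProdNormalizerQuotient H N hLE
    exact (Nat.card_congr e.toEquiv).symm
  have h2 : Nat.card (H ⊔ N : Subgroup G) = N.relIndex (H ⊔ N) * Nat.card N :=
    card_eq_relIndex_mul_card le_sup_right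
  have h3 : Nat.card H = (H ⊓ N).relIndex H * Nat.card (H ⊓ N : Subgroup G) :=
    card_eq_relIndex_mul_card inf_le_left
  have h4 : (H ⊓ N).relIndex H = N.relIndex H := Subgroup.inf_relIndex_left H N
  rw [h2, h3, h4, h1]
  ring

/-- `[H : T ∩ H] = [TH : T]` when `T` normalizes `H` -/
lemma relIndex_inf_eq_relIndex_sup {G : Type*} [Group G] [Finite G] (T H : Subgroup G)
    (hTH : T ≤ Subgroup.normalizer (H : Set G)) : (T ⊓ H).relIndex H = T.relIndex (T ⊔ H) := by
  have h1 := card_sup_mul_card_inf T H hTH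
  have h2 : Nat.card H = (T ⊓ H).relIndex H * Nat.card (T ⊓ H : Subgroup G) := card_eq_relIndex_mul_card inf_le_right
  have h3 : Nat.card (T ⊔ H : Subgroup G) = T.relIndex (T ⊔ H) * Nat.card T := card_eq_relIndex_mul_card le_sup_left
  have hpos1 : 0 < Nat.card T := Nat.card_pos
  have hpos2 : 0 < Nat.card (T ⊓ H : Subgroup G) := Nat.card_pos
  rw [h3, h2] at h1
  have : T.relIndex (T ⊔ H) * (Nat.card T * Nat.card (T ⊓ H : Subgroup G)) =
      (T ⊓ H).relIndex H * (Nat.card T * Nat.card (T ⊓ H : Subgroup G)) := by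
    rw [← mul_assoc, h1]; ring
  exact (Nat.eq_of_mul_eq_mul_right (Nat.mul_pos hpos1 hpos2) this).symm

/-- if `H ⊴ K` then `[H : S ∩ H]` divides `[K : S ∩ K]` -/
lemma relIndex_dvd_relIndex_of_normal {G : Type*} [Group G] [Finite G] (S H K : Subgroup G) (hHK : H ≤ K)
    (hK : K ≤ Subgroup.normalizer (H : Set G)) : S.relIndex H ∣ S.relIndex K := by
  have hT : S ⊓ K ≤ Subgroup.normalizer (H : Set G) := inf_le_right.trans hK
  have e1 : S.relIndex H = ((S ⊓ K) ⊓ H).relIndex H := by
    rw [inf_assoc, inf_eq_right.mpr hHK, Subgroup.inf_relIndex_right]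
  have e2 : S.relIndex K = (S ⊓ K).relIndex K := (Subgroup.inf_relIndex_right S K).symm
  rw [e1, e2, relIndex_inf_eq_relIndex_sup _ _ hT]
  have hle : (S ⊓ K) ⊔ H ≤ K := sup_le inf_le_right hHK
  rw [← Subgroup.relIndex_mul_relIndex (S ⊓ K) ((S ⊓ K) ⊔ H) K le_sup_left hle]
  exact Dvd.intro _ rfl

end Cfsg.Agent.H1
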