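import Mathlib
import Cfsg.Agent.H2.UniqueOrderP

set_option autoImplicit false
open scoped Pointwise commutatorElement

namespace Cfsg.Agent.H1

universe u

/-- subgroups of a finite cyclic group are determined by their order -/
lemma eq_of_card_eq_of_isCyclic {C : Type*} [Group C] [Finite C] [IsCyclic C] (A B : Subgroup C)
    (h : Nat.card A = Nat.card B) : A = B := by
  classical
  have := Fintype.ofFinite C
  obtain ⟨n, hn⟩ : ∃ n, n = Nat.card A := ⟨_, rfl⟩
  have hn0 : 0 < n := by rw [hn]; exact Nat.card_pos
  have hS := IsCyclic.card_pow_eq_one_le (α := C) hn0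
  have key : ∀ D : Subgroup C, Nat.card D = n → (D : Set C) = {x | x ^ n = 1} := by
    intro D hD
    have hsub : (D : Set C) ⊆ {x | x ^ n = 1} := by
      intro x hx
      show x ^ n = 1
      have := pow_card_eq_one' (G := D) (x := ⟨x, hx⟩)
      rw [hD] at this
      exact congrArg Subtype.val this
    apply Set.eq_of_subset_of_ncard_le hsub _ (Set.toFinite _)
    rw [Set.ncard_eq_toFinset_card', Set.toFinset_ofPred]
    have h2 : (D : Set C).ncard = n := by
      rw [← hD]; rfl
    rw [h2]
    exact hS
  apply SetLike.coe_injective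
  rw [key A hn.symm, key B (by rw [hn, h])]

end Cfsg.Agent.H1

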