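import Mathlib
import Cfsg.Prelude.Def_Transfer
import Cfsg.Agent.H1.CyclicSub
import Cfsg.Agent.H1.Card

set_option autoImplicit false
open scoped Pointwise commutatorElement

namespace Cfsg.Agent.H1

universe u

/-- two commuting elements of order `p`, one outside the powers of the other, span an abelian group
of order `p²` and exponent `p` -/
lemma exists_elem_abelian_sq {G : Type*} [Group G] {p : ℕ} (hp : p.Prime) (a z : G) (hc : a * z = z * a)
    (ha : orderOf a = p) (hz : orderOf z = p) (haz : a ∉ Subgroup.zpowers z) :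
    ∃ E : Subgroup G, IsMulCommutative E ∧ Nat.card E = p ^ 2 ∧ ∀ e ∈ E, e ^ p = 1 := by
  have hcomm : ∀ x ∈ ({a, z} : Set G), ∀ y ∈ ({a, z} : Set G), x * y = y * x := by
    intro x hx y hy
    rcases hx with rfl | rfl <;> rcases hy with rfl | rfl
    · rfl
    · exact hc
    · exact hc.symm
    · rfl
  have hE : IsMulCommutative (Subgroup.closure ({a, z} : Set G)) := Subgroup.isMulCommutative_closure hcomm
  refine ⟨Subgroup.closure ({a, z} : Set G), hE, ?_, ?_⟩
  · have h1 : Subgroup.closure ({a, z} : Set G) = Subgroup.zpowers a ⊔ Subgroup.zpowers z := by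
      rw [Set.insert_eq, Subgroup.closure_union, Subgroup.zpowers_eq_closure, Subgroup.zpowers_eq_closure]
    rw [h1]
    have hnorm : Subgroup.zpowers a ≤ Subgroup.normalizer ((Subgroup.zpowers z : Subgroup G) : Set G) := by
      rw [Subgroup.zpowers_le, Subgroup.mem_normalizer_iff]
      intro h
      have hcz : ∀ k : ℤ, a * z ^ k * a⁻¹ = z ^ k := by
        intro k
        have : Commute a (z ^ k) := (Commute.zpow_right hc k)
        rw [this.eq, mul_inv_cancel_right]
      constructor
      · intro hh
        obtain ⟨k, rfl⟩ := Subgroup.mem_zpowers_iff.mp hh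
        rw [hcz]; exact hh
      · intro hh
        obtain ⟨k, hk⟩ := Subgroup.mem_zpowers_iff.mp hh
        have : h = a⁻¹ * z ^ k * a := by rw [hk]; group
        rw [this]
        have h2 : a⁻¹ * z ^ k * a = z ^ k := by
          have := hcz k
          calc a⁻¹ * z ^ k * a = a⁻¹ * (a * z ^ k * a⁻¹) * a := by rw [this]
            _ = z ^ k := by group
        rw [h2]; exact Subgroup.zpow_mem_zpowers z k
    have hinf : Subgroup.zpowers a ⊓ Subgroup.zpowers z = ⊥ := by
      by_contra hne
      have h2 : Nat.card (Subgroup.zpowers a ⊓ Subgroup.zpowers z : Subgroup G) ∣ p := by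
        rw [← ha, ← Nat.card_zpowers]; exact Subgroup.card_dvd_of_le inf_le_left
      have : Finite (Subgroup.zpowers a) := by
        apply Nat.finite_of_card_ne_zero
        rw [Nat.card_zpowers, ha]; exact hp.ne_zero
      rcases (Nat.dvd_prime hp).mp h2 with h3 | h3
      · exact hne (Subgroup.card_eq_one.mp h3)
      · have e1 : Subgroup.zpowers a ⊓ Subgroup.zpowers z = Subgroup.zpowers a :=
          Subgroup.eq_of_le_of_card_ge inf_le_left (by rw [h3, Nat.card_zpowers, ha])
        apply haz
        have : a ∈ Subgroup.zpowers a ⊓ Subgroup.zpowers z := by rw [e1]; exact Subgroup.mem_zpowers a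
        exact this.2
    have h3 := card_sup_mul_card_inf _ _ hnorm
    rw [hinf, Subgroup.card_bot, mul_one, Nat.card_zpowers, Nat.card_zpowers, ha, hz] at h3
    rw [h3, pow_two]
  · intro e he
    induction he using Subgroup.closure_induction with
    | mem x hx =>
      rcases hx with rfl | rfl
      · rw [← ha, pow_orderOf_eq_one]
      · rw [← hz, pow_orderOf_eq_one]
    | one => exact one_pow _
    | mul x y hx hy ihx ihy =>
      have hxy : Commute x y := by
        have := hE.is_comm.comm ⟨x, hx⟩ ⟨y, hy⟩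
        exact congrArg Subtype.val this
      rw [hxy.mul_pow, ihx, ihy, one_mul]
    | inv x hx ihx => rw [inv_pow, ihx, inv_one]

/-- hypothesis: abelian subgroups of the same order are conjugate -/
def AbConj (G : Type*) [Group G] : Prop :=
  ∀ A B : Subgroup G, IsMulCommutative ↥A → IsMulCommutative ↥B → Nat.card ↥A = Nat.card ↥B →
    ∃ g : G, B = A.map (MulAut.conj g).toMonoidHom

/-- under `AbConj`, a Sylow `p`-subgroup with an element of order `p²` has a unique subgroup of order `p` -/
lemma unique_order_p_of_abConj {G : Type*} [Group G] [Finite G] (hB : AbConj G) {p : ℕ} [Fact p.Prime]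
    (P : Sylow p G) (hx : ∃ x ∈ (P : Subgroup G), x ^ p ≠ 1) :
    ∀ A B : Subgroup ↥(P : Subgroup G), Nat.card A = p → Nat.card B = p → A = B := by
  have hp : p.Prime := Fact.out
  obtain ⟨x, hxP, hxp⟩ := hx
  -- an element y of order p²
  obtain ⟨y, hy⟩ : ∃ y : G, orderOf y = p ^ 2 := by
    obtain ⟨j, hj⟩ := (IsPGroup.iff_orderOf.mp P.isPGroup') ⟨x, hxP⟩
    rw [Subgroup.orderOf_mk] at hj
    have hj2 : 2 ≤ j := by
      by_contra hcon
      apply hxp
      have : orderOf x ∣ p := by
        rw [hj]
        have : j ≤ 1 := by omega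
        calc p ^ j ∣ p ^ 1 := pow_dvd_pow p this
          _ = p := pow_one p
      exact orderOf_dvd_iff_pow_eq_one.mp this
    refine ⟨x ^ p ^ (j - 2), ?_⟩
    rw [orderOf_pow_of_dvd (pow_pos hp.pos _).ne', hj]
    · rw [Nat.pow_div (Nat.sub_le j 2) hp.pos]
      congr 1; omega
    · rw [hj]; exact pow_dvd_pow p (Nat.sub_le j 2)
  -- no elementary abelian subgroup of order p²
  have hnoE : ¬ ∃ E : Subgroup G, IsMulCommutative E ∧ Nat.card E = p ^ 2 ∧ ∀ e ∈ E, e ^ p = 1 := by
    rintro ⟨E, hEc, hEcard, hEp⟩
    obtain ⟨g, hg⟩ := hB E (Subgroup.zpowers y) hEc inferInstance (by rw [hEcard, Nat.card_zpowers, hy])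
    have hy' : y ∈ E.map (MulAut.conj g).toMonoidHom := by rw [← hg]; exact Subgroup.mem_zpowers y
    obtain ⟨e, he, hey⟩ := hy'
    have h1 : y ^ p = 1 := by
      rw [← hey, ← map_pow, hEp e he, map_one]
    have h2 := orderOf_dvd_of_pow_eq_one h1
    rw [hy] at h2
    have h3 : p ^ 2 ≤ p := Nat.le_of_dvd hp.pos h2
    have h4 : p < p ^ 2 := by
      calc p = p ^ 1 := (pow_one p).symm
        _ < p ^ 2 := Nat.pow_lt_pow_right hp.one_lt (by norm_num)
    omega
  -- a central element of order p
  have hPnt : Nontrivial (P : Subgroup G) := ⟨⟨⟨x, hxP⟩, 1, fun h => hxp (by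
    have : x = 1 := congrArg Subtype.val h
    rw [this, one_pow])⟩⟩
  have hZnt : Nontrivial (Subgroup.center (P : Subgroup G)) := P.isPGroup'.center_nontrivial
  have hZp : p ∣ Nat.card (Subgroup.center (P : Subgroup G)) := by
    obtain ⟨n, hn⟩ := (P.isPGroup'.to_subgroup (Subgroup.center (P : Subgroup G))).exists_card_eq
    have hn0 : n ≠ 0 := by
      rintro rfl
      rw [pow_zero] at hn
      have := (Nat.card_eq_one_iff_unique.mp hn).1
      exact not_subsingleton _ this
    rw [hn]; exact dvd_pow_self p hn0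
  obtain ⟨z, hzo⟩ := exists_prime_orderOf_dvd_card' p hZp
  -- every subgroup of order p equals ⟨z⟩
  have hall : ∀ D : Subgroup ↥(P : Subgroup G), Nat.card D = p → D = Subgroup.zpowers (z : ↥(P : Subgroup G)) := by
    intro D hD
    by_contra hne
    have hDnt : D ≠ ⊥ := by
      intro h
      rw [h, Subgroup.card_bot] at hD
      exact hp.one_lt.ne hD
    obtain ⟨⟨a, haD⟩, ha1⟩ := (Subgroup.ne_bot_iff_exists_ne_one).mp hDnt
    have ha1' : a ≠ 1 := fun h => ha1 (Subtype.ext h)
    have hao : orderOf a = p := by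
      have h1 : orderOf a ∣ p := by
        have := orderOf_dvd_natCard (⟨a, haD⟩ : D)
        rwa [hD, Subgroup.orderOf_mk] at this
      rcases (Nat.dvd_prime hp).mp h1 with h2 | h2
      · exact absurd (orderOf_eq_one_iff.mp h2) ha1'
      · exact h2
    have hzo' : orderOf ((z : ↥(P : Subgroup G))) = p := by rw [Subgroup.orderOf_coe]; exact hzo
    have haz : a ∉ Subgroup.zpowers (z : ↥(P : Subgroup G)) := by
      intro h
      apply hne
      have h1 : Subgroup.zpowers a ≤ Subgroup.zpowers (z : ↥(P : Subgroup G)) := Subgroup.zpowers_le.mpr h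
      have h2 : Subgroup.zpowers a = Subgroup.zpowers (z : ↥(P : Subgroup G)) :=
        Subgroup.eq_of_le_of_card_ge h1 (by rw [Nat.card_zpowers, Nat.card_zpowers, hao, hzo'])
      have h3 : Subgroup.zpowers a ≤ D := Subgroup.zpowers_le.mpr haD
      have h4 : Subgroup.zpowers a = D := Subgroup.eq_of_le_of_card_ge h3 (by rw [Nat.card_zpowers, hao, hD])
      rw [← h4, h2]
    -- pass to G
    apply hnoE
    apply exists_elem_abelian_sq hp (a : G) ((z : ↥(P : Subgroup G)) : G)
    · have := Subgroup.mem_center_iff.mp z.2 a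
      exact congrArg Subtype.val this
    · rw [Subgroup.orderOf_coe]; exact hao
    · rw [Subgroup.orderOf_coe]; exact hzo'
    · intro h
      apply haz
      obtain ⟨k, hk⟩ := Subgroup.mem_zpowers_iff.mp h
      rw [Subgroup.mem_zpowers_iff]
      refine ⟨k, Subtype.ext ?_⟩
      rw [Subgroup.coe_zpow]; exact hk
  intro A B hA hB
  rw [hall A hA, hall B hB]

end Cfsg.Agent.H1

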