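import Mathlib

/-! Basic helper lemmas (helper1). -/

namespace Cfsg.Agent.H1

open scoped Pointwise

variable {G : Type*} [Group G]

lemma mem_conj_smul (g x : G) (H : Subgroup G) :
    x ∈ MulAut.conj g • H ↔ g⁻¹ * x * g ∈ H := by
  rw [Subgroup.mem_pointwise_smul_iff_inv_smul_mem]
  simp [MulAut.smul_def]

lemma conj_mem_conj_smul (g x : G) (H : Subgroup G) :
    g * x * g⁻¹ ∈ MulAut.conj g • H ↔ x ∈ H := by
  rw [mem_conj_smul]
  have : g⁻¹ * (g * x * g⁻¹) * g = x := by group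
  rw [this]

lemma mem_sylow_smul {p : ℕ} (g x : G) (P : Sylow p G) :
    x ∈ g • P ↔ g⁻¹ * x * g ∈ P := by
  have : x ∈ g • P ↔ x ∈ ((g • P : Sylow p G) : Subgroup G) := Iff.rfl
  rw [this, Sylow.coe_subgroup_smul, mem_conj_smul]
  rfl

lemma conj_mem_sylow_smul {p : ℕ} (g x : G) (P : Sylow p G) :
    g * x * g⁻¹ ∈ g • P ↔ x ∈ P := by
  rw [mem_sylow_smul]
  have : g⁻¹ * (g * x * g⁻¹) * g = x := by group
  rw [this]

lemma conj_smul_eq_map (g : G) (H : Subgroup G) :
    MulAut.conj g • H = H.map (MulAut.conj g).toMonoidHom := rfl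

lemma mem_centralizer_singleton_iff (g x : G) :
    g ∈ Subgroup.centralizer ({x} : Set G) ↔ g * x = x * g := by
  rw [Subgroup.mem_centralizer_iff]
  constructor
  · intro h; exact (h x rfl).symm
  · intro h y hy; rw [Set.mem_singleton_iff] at hy; rw [hy]; exact h.symm

end Cfsg.Agent.H1
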