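import Mathlib
import Cfsg.Agent.H1.Basic
import Cfsg.Agent.H1.Card
import Cfsg.Agent.Lib.helper3.Burnside

set_option autoImplicit false

namespace Cfsg.Agent.H1

universe u

/-- has an abelian subgroup of 2-power index -/
def HasAbTwo (X : Type u) [Group X] : Prop :=
  ∃ C : Subgroup X, (∀ a ∈ C, ∀ b ∈ C, a * b = b * a) ∧ ∃ k : ℕ, C.index = 2 ^ k

theorem hasAbTwo_normal {X : Type u} [Group X] [Finite X] (h : HasAbTwo X) (N : Subgroup X) [N.Normal] :
    HasAbTwo N := by
  obtain ⟨C, hcomm, k, hk⟩ := h
  refine ⟨C.subgroupOf N, ?_, ?_⟩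
  · intro a ha b hb
    exact Subtype.ext (hcomm a ha b hb)
  · have h1 : (C.subgroupOf N).index = C.relIndex N := rfl
    have h2 : C.relIndex N ∣ C.index := by
      have hn : C ≤ Subgroup.normalizer (N : Set X) := by
        rw [Subgroup.normalizer_eq_top]; exact le_top
      have := relIndex_inf_eq_relIndex_sup C N hn
      rw [Subgroup.inf_relIndex_right] at this
      rw [this]
      exact Dvd.intro _ (Subgroup.relIndex_mul_index (le_sup_left : C ≤ C ⊔ N))
    rw [hk] at h2
    obtain ⟨j, _, hj⟩ := (Nat.dvd_prime_pow Nat.prime_two).mp h2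
    exact ⟨j, by rw [h1, hj]⟩

theorem hasAbTwo_quotient {X : Type u} [Group X] [Finite X] (h : HasAbTwo X) (N : Subgroup X) [N.Normal] :
    HasAbTwo (X ⧸ N) := by
  obtain ⟨C, hcomm, k, hk⟩ := h
  refine ⟨C.map (QuotientGroup.mk' N), ?_, ?_⟩
  · rintro _ ⟨a, ha, rfl⟩ _ ⟨b, hb, rfl⟩
    rw [← map_mul, ← map_mul, hcomm a ha b hb]
  · have h2 := Subgroup.index_map_dvd C (QuotientGroup.mk'_surjective N)
    rw [hk] at h2
    obtain ⟨j, _, hj⟩ := (Nat.dvd_prime_pow Nat.prime_two).mp h2
    exact ⟨j, hj⟩

theorem solvable_of_hasAbTwo_aux : ∀ n : ℕ, ∀ (X : Type u) [Group X] [Finite X], Nat.card X = n → HasAbTwo X →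
    Group.IsSolvable X := by
  intro n
  induction n using Nat.strong_induction_on with
  | _ n ih =>
    intro X _ _ hn hAC
    by_cases hsimple : IsSimpleGroup X
    · obtain ⟨C, hcomm, k, hk⟩ := hAC
      by_cases hCbot : C = ⊥
      · -- X is a 2-group
        have hcard : Nat.card X = 2 ^ k := by
          rw [← hk, hCbot, Subgroup.index_bot]
        haveI : Fact (Nat.Prime 2) := ⟨Nat.prime_two⟩
        have hp : IsPGroup 2 X := IsPGroup.of_card hcard
        haveI := hp.isNilpotent
        infer_instance
      · obtain ⟨⟨c, hcC⟩, hc1'⟩ := (Subgroup.ne_bot_iff_exists_ne_one).mp hCbot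
        have hc1 : c ≠ 1 := fun h => hc1' (Subtype.ext h)
        have hle : C ≤ Subgroup.centralizer ({c} : Set X) := by
          intro a ha
          rw [Subgroup.mem_centralizer_singleton_iff]
          exact hcomm a ha c hcC
        have hdvd : (Subgroup.centralizer ({c} : Set X)).index ∣ 2 ^ k := by
          rw [← hk]
          exact Subgroup.index_dvd_of_le hle
        obtain ⟨j, _, hj⟩ := (Nat.dvd_prime_pow Nat.prime_two).mp hdvd
        have hprime := Cfsg.Agent.Lib.helper3.Burnside.prime_card_of_prime_pow_class 2 j Nat.prime_two c hc1 hj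
        have := Fact.mk hprime
        have hcyc : IsCyclic X := isCyclic_of_prime_card (p := Nat.card X) rfl
        exact Group.isSolvable_of_comm (fun a b => (IsCyclic.isMulCommutative (α := X)).is_comm.comm a b)
    · by_cases htriv : Subsingleton X
      · infer_instance
      · have hnt : Nontrivial X := not_subsingleton_iff_nontrivial.mp htriv
        have : ∃ N : Subgroup X, N.Normal ∧ N ≠ ⊥ ∧ N ≠ ⊤ := by
          by_contra hcon
          apply hsimple
          refine { exists_pair_ne := hnt.exists_pair_ne, eq_bot_or_eq_top_of_normal := ?_ }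
          intro N hN
          by_contra h2
          rw [not_or] at h2
          exact hcon ⟨N, hN, h2.1, h2.2⟩
        obtain ⟨N, hN, hNbot, hNtop⟩ := this
        have hNlt : Nat.card N < n := by
          rw [← hn]
          rcases (Subgroup.card_le_card_group N).lt_or_eq with h | h
          · exact h
          · exact absurd (Subgroup.card_eq_iff_eq_top N |>.mp h) hNtop
        have hQlt : Nat.card (X ⧸ N) < n := by
          rw [← hn, ← Subgroup.index_eq_card, ← Subgroup.card_mul_index N]
          have h1 : 1 < Nat.card N := by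
            rw [Subgroup.one_lt_card_iff_ne_bot]; exact hNbot
          have h2 : 0 < N.index := Nat.pos_of_ne_zero Subgroup.index_ne_zero_of_finite
          nlinarith
        have s1 : Group.IsSolvable N := ih _ hNlt N rfl (hasAbTwo_normal hAC N)
        have s2 : Group.IsSolvable (X ⧸ N) := ih _ hQlt (X ⧸ N) rfl (hasAbTwo_quotient hAC N)
        refine Group.isSolvable_of_ker_le_range N.subtype (QuotientGroup.mk' N) ?_
        rw [QuotientGroup.ker_mk', Subgroup.range_subtype]



end Cfsg.Agent.H1
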