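import Mathlib
import Cfsg.Agent.H1.Basic

/-! Abelian subgroups (helper1). -/

namespace Cfsg.Agent.H1

variable {G : Type*} [Group G]

/-- adjoining a centralizing element to an abelian subgroup gives an abelian subgroup -/
lemma isMulCommutative_sup_zpowers (A : Subgroup G) (hA : IsMulCommutative A) (x : G)
    (hx : x ∈ Subgroup.centralizer (A : Set G)) : IsMulCommutative (A ⊔ Subgroup.zpowers x : Subgroup G) := by
  have : A ⊔ Subgroup.zpowers x = Subgroup.closure ((A : Set G) ∪ {x}) := by
    rw [Subgroup.closure_union, Subgroup.closure_eq, ← Subgroup.zpowers_eq_closure]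
  rw [this]
  apply Subgroup.isMulCommutative_closure
  rw [Subgroup.mem_centralizer_iff] at hx
  rintro a (ha | ha) b (hb | hb)
  · exact setLike_mul_comm ha hb
  · rw [Set.mem_singleton_iff] at hb; subst hb
    exact hx a ha
  · rw [Set.mem_singleton_iff] at ha; subst ha
    exact (hx b hb).symm
  · rw [Set.mem_singleton_iff] at ha hb; rw [ha, hb]

/-- an abelian subgroup lies in its centralizer -/
lemma le_centralizer_of_isMulCommutative (A : Subgroup G) (hA : IsMulCommutative A) :
    A ≤ Subgroup.centralizer (A : Set G) := by
  intro x hx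
  rw [Subgroup.mem_centralizer_iff]
  intro y hy
  exact setLike_mul_comm hy hx

/-- a maximal abelian subgroup is self-centralizing -/
lemma centralizer_eq_of_maximal_abelian (A : Subgroup G) (hA : IsMulCommutative A)
    (hmax : ∀ B : Subgroup G, IsMulCommutative B → A ≤ B → B = A) :
    Subgroup.centralizer (A : Set G) = A := by
  apply le_antisymm _ (le_centralizer_of_isMulCommutative A hA)
  intro x hx
  have h1 := hmax _ (isMulCommutative_sup_zpowers A hA x hx) le_sup_left
  rw [← h1]
  exact Subgroup.mem_sup_right (Subgroup.mem_zpowers x)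

end Cfsg.Agent.H1
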