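import Mathlib

set_option autoImplicit false
open scoped Pointwise commutatorElement

namespace Cfsg.Agent.H1

universe u

/-- Maschke for finite abelian groups under coprime action: an invariant complemented subgroup has an
invariant complement -/
theorem exists_invariant_complement {V : Type*} [CommGroup V] [Finite V] {A : Type*} [Group A] [Finite A]
    [MulDistribMulAction A V] (hcop : (Nat.card A).Coprime (Nat.card V)) (U W : Subgroup V)
    (hU : ∀ a : A, ∀ u ∈ U, a • u ∈ U) (hUW : U ⊓ W = ⊥) (hsup : U ⊔ W = ⊤) :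
    ∃ W' : Subgroup V, (∀ a : A, ∀ w ∈ W', a • w ∈ W') ∧ U ⊓ W' = ⊥ ∧ U ⊔ W' = ⊤ := by
  classical
  have := Fintype.ofFinite A
  -- projection
  let φ : U →* V ⧸ W := (QuotientGroup.mk' W).comp U.subtype
  have hφinj : Function.Injective φ := by
    rw [injective_iff_map_eq_one]
    intro u hu
    have h1 : (u : V) ∈ W := by
      have : QuotientGroup.mk' W (u : V) = 1 := hu
      rwa [QuotientGroup.mk'_apply, QuotientGroup.eq_one_iff] at this
    have h2 : (u : V) ∈ U ⊓ W := ⟨u.2, h1⟩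
    rw [hUW] at h2; exact Subtype.ext (Subgroup.mem_bot.mp h2)
  have hφsurj : Function.Surjective φ := by
    intro q
    obtain ⟨v, rfl⟩ := QuotientGroup.mk'_surjective W q
    have hv : v ∈ U ⊔ W := hsup ▸ Subgroup.mem_top v
    obtain ⟨u, hu, w, hw, rfl⟩ := Subgroup.mem_sup.mp hv
    refine ⟨⟨u, hu⟩, ?_⟩
    show QuotientGroup.mk' W u = QuotientGroup.mk' W (u * w)
    rw [map_mul]
    have : QuotientGroup.mk' W w = 1 := by
      rw [QuotientGroup.mk'_apply, QuotientGroup.eq_one_iff]; exact hw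
    rw [this, mul_one]
  let e := MulEquiv.ofBijective φ ⟨hφinj, hφsurj⟩
  let π : V →* V := U.subtype.comp (e.symm.toMonoidHom.comp (QuotientGroup.mk' W))
  have hπU : ∀ v, π v ∈ U := fun v => (e.symm _).2
  have hπu : ∀ u ∈ U, π u = u := by
    intro u hu
    have h1 : e ⟨u, hu⟩ = QuotientGroup.mk' W u := rfl
    show ((e.symm (QuotientGroup.mk' W u) : U) : V) = u
    rw [← h1, e.symm_apply_apply]
  -- averaging
  let θ : V →* V :=
    { toFun := fun v => ∏ a : A, a • π (a⁻¹ • v)
      map_one' := by simp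
      map_mul' := fun v w => by simp [Finset.prod_mul_distrib] }
  have hθ : ∀ v, θ v = ∏ a : A, a • π (a⁻¹ • v) := fun v => rfl
  have hθU : ∀ v, θ v ∈ U := by
    intro v
    rw [hθ]
    exact Subgroup.prod_mem U (fun a _ => hU a _ (hπU _))
  have hθu : ∀ u ∈ U, θ u = u ^ Nat.card A := by
    intro u hu
    rw [hθ]
    have : ∀ a : A, a • π (a⁻¹ • u) = u := by
      intro a
      rw [hπu _ (hU a⁻¹ u hu), smul_inv_smul]
    simp only [this]
    rw [Finset.prod_const, Finset.card_univ, Nat.card_eq_fintype_card]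
  have hθeq : ∀ (b : A) v, θ (b • v) = b • θ v := by
    intro b v
    rw [hθ, hθ, Finset.smul_prod']  -- b • ∏ = ∏ b •
    refine (Fintype.prod_equiv (Equiv.mulLeft b) _ _ (fun a => ?_)).symm
    simp only [Equiv.coe_mulLeft, mul_inv_rev, mul_smul, inv_smul_smul]
  refine ⟨θ.ker, ?_, ?_, ?_⟩
  · intro a w hw
    rw [MonoidHom.mem_ker] at hw ⊢
    rw [hθeq, hw, smul_one]
  · rw [eq_bot_iff]
    intro u hu
    obtain ⟨hu1, hu2⟩ := Subgroup.mem_inf.mp hu
    rw [MonoidHom.mem_ker, hθu u hu1] at hu2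
    have h5 : orderOf u ∣ Nat.card A := orderOf_dvd_of_pow_eq_one hu2
    have h6 : orderOf u ∣ Nat.card V := orderOf_dvd_natCard u
    have := Nat.eq_one_of_dvd_coprimes hcop h5 h6
    exact Subgroup.mem_bot.mpr (orderOf_eq_one_iff.mp this)
  · rw [eq_top_iff]
    intro v _
    have hcop' : (Nat.card A).Coprime (orderOf (θ v)) :=
      Nat.Coprime.coprime_dvd_right (orderOf_dvd_natCard _) hcop
    obtain ⟨m, hm⟩ := exists_pow_eq_self_of_coprime hcop'
    have hu' : (θ v) ^ m ∈ U := pow_mem (hθU v) m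
    have hker : v * ((θ v) ^ m)⁻¹ ∈ θ.ker := by
      rw [MonoidHom.mem_ker, map_mul, map_inv, hθu _ hu', ← pow_mul, mul_comm m, pow_mul, hm, mul_inv_cancel]
    have : v = (θ v) ^ m * (v * ((θ v) ^ m)⁻¹) := by
      rw [mul_comm v, ← mul_assoc, mul_inv_cancel, one_mul]
    rw [this]
    exact mul_mem (Subgroup.mem_sup_left hu') (Subgroup.mem_sup_right hker)

end Cfsg.Agent.H1
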