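import Mathlib
import Cfsg.Agent.H1.Maschke

set_option autoImplicit false

namespace Cfsg.Agent.H1

open scoped Pointwise

/-- in a section of exponent `p` of an abelian group every subgroup has a (relative) complement -/
theorem exists_rel_complement {V : Type*} [CommGroup V] [Finite V] (p : ℕ) (hp : p.Prime)
    (N D Q : Subgroup V) (hND : N ≤ D) (hDQ : D ≤ Q) (hexp : ∀ q ∈ Q, q ^ p ∈ N) :
    ∃ W : Subgroup V, N ≤ W ∧ W ≤ Q ∧ D ⊓ W ≤ N ∧ D ⊔ W = Q := by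
  obtain ⟨W, hW⟩ := Set.Finite.exists_maximal (Set.toFinite {W : Subgroup V | N ≤ W ∧ W ≤ Q ∧ D ⊓ W ≤ N})
    ⟨N, le_rfl, hND.trans hDQ, inf_le_right⟩
  obtain ⟨hNW, hWQ, hDW⟩ := hW.prop
  refine ⟨W, hNW, hWQ, hDW, ?_⟩
  apply le_antisymm (sup_le hDQ hWQ)
  intro v hv
  by_contra hvn
  set M := D ⊔ W with hM
  have hvW : v ∉ W := fun h => hvn (Subgroup.mem_sup_right h)
  have hmem : W ⊔ Subgroup.zpowers v ∈ {W : Subgroup V | N ≤ W ∧ W ≤ Q ∧ D ⊓ W ≤ N} := by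
    refine ⟨hNW.trans le_sup_left, sup_le hWQ (by rw [Subgroup.zpowers_le]; exact hv), ?_⟩
    rintro d ⟨hdD, hdW⟩
    obtain ⟨w, hw, z, hz, rfl⟩ := Subgroup.mem_sup.mp hdW
    have hz' : z ∈ Submonoid.powers v := mem_powers_iff_mem_zpowers.mpr hz
    obtain ⟨k, rfl⟩ := hz'
    by_cases hpk : p ∣ k
    · obtain ⟨j, rfl⟩ := hpk
      have h1 : v ^ (p * j) ∈ N := by rw [pow_mul]; exact N.pow_mem (hexp v hv) j
      apply hDW
      exact ⟨hdD, W.mul_mem hw (hNW h1)⟩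
    · exfalso
      apply hvn
      have hcop : Nat.Coprime k p := ((Nat.Prime.coprime_iff_not_dvd hp).mpr hpk).symm
      have h1 : v ^ k ∈ M := by
        have : v ^ k = w⁻¹ * (w * v ^ k) := by group
        rw [this]
        exact M.mul_mem (M.inv_mem (Subgroup.mem_sup_right hw)) (Subgroup.mem_sup_left hdD)
      have h2 : v ^ p ∈ M := Subgroup.mem_sup_left (hND (hexp v hv))
      rw [← QuotientGroup.eq_one_iff (N := M), ← orderOf_eq_one_iff]
      have h3 : orderOf (v : V ⧸ M) ∣ k := by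
        apply orderOf_dvd_of_pow_eq_one
        rw [← QuotientGroup.mk_pow]; exact (QuotientGroup.eq_one_iff _).mpr h1
      have h4 : orderOf (v : V ⧸ M) ∣ p := by
        apply orderOf_dvd_of_pow_eq_one
        rw [← QuotientGroup.mk_pow]; exact (QuotientGroup.eq_one_iff _).mpr h2
      exact Nat.eq_one_of_dvd_coprimes hcop h3 h4
  have := hW.le_of_ge hmem le_sup_left
  exact hvW (this (Subgroup.mem_sup_right (Subgroup.mem_zpowers v)))

/-- relative Maschke: an invariant subgroup of an invariant section of exponent `p` has an invariant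
relative complement -/
theorem exists_invariant_rel_complement {V : Type*} [CommGroup V] [Finite V] {Y : Type*} [Group Y] [Finite Y]
    [MulDistribMulAction Y V] (hcop : (Nat.card Y).Coprime (Nat.card V)) (p : ℕ) (hp : p.Prime)
    (N D Q : Subgroup V) (hND : N ≤ D) (hDQ : D ≤ Q)
    (hN : ∀ y : Y, ∀ v ∈ N, y • v ∈ N) (hD : ∀ y : Y, ∀ v ∈ D, y • v ∈ D) (hQ : ∀ y : Y, ∀ v ∈ Q, y • v ∈ Q)
    (hexp : ∀ q ∈ Q, q ^ p ∈ N) :
    ∃ E : Subgroup V, (∀ y : Y, ∀ v ∈ E, y • v ∈ E) ∧ N ≤ E ∧ E ≤ Q ∧ D ⊓ E ≤ N ∧ D ⊔ E = Q := by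
  classical
  have := Fintype.ofFinite Y
  obtain ⟨W, hNW, hWQ, hDW, hDWQ⟩ := exists_rel_complement p hp N D Q hND hDQ hexp
  -- decomposition function
  have hdec : ∀ q : V, ∃ d : V, q ∈ Q → (d ∈ D ∧ d⁻¹ * q ∈ W) := by
    intro q
    by_cases hq : q ∈ Q
    · have : q ∈ D ⊔ W := hDWQ ▸ hq
      obtain ⟨d, hd, w, hw, rfl⟩ := Subgroup.mem_sup.mp this
      exact ⟨d, fun _ => ⟨hd, by simpa using hw⟩⟩
    · exact ⟨1, fun h => absurd h hq⟩
  choose dfun hdfun using hdec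
  have mkeq : ∀ {a b : V}, ((a : V) : V ⧸ N) = ((b : V) : V ⧸ N) ↔ a⁻¹ * b ∈ N := fun {a b} => QuotientGroup.eq
  -- congruences
  have c2 : ∀ q ∈ Q, ∀ q' ∈ Q, ((dfun (q * q') : V) : V ⧸ N) = ((dfun q * dfun q' : V) : V ⧸ N) := by
    intro q hq q' hq'
    rw [mkeq]
    apply hDW
    obtain ⟨h1, h1'⟩ := hdfun (q * q') (Q.mul_mem hq hq')
    obtain ⟨h2, h2'⟩ := hdfun q hq
    obtain ⟨h3, h3'⟩ := hdfun q' hq'
    refine ⟨D.mul_mem (D.inv_mem h1) (D.mul_mem h2 h3), ?_⟩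
    have e : (dfun (q * q'))⁻¹ * (dfun q * dfun q') =
        ((dfun (q * q'))⁻¹ * (q * q')) * ((dfun q)⁻¹ * q)⁻¹ * ((dfun q')⁻¹ * q')⁻¹ := by
      simp only [mul_inv_rev, inv_inv]
      rw [mul_comm q'⁻¹ (dfun q'), mul_comm q⁻¹ (dfun q)]
      have : (dfun (q * q'))⁻¹ * (q * q') * (dfun q * q⁻¹) * (dfun q' * q'⁻¹) =
          (dfun (q * q'))⁻¹ * (dfun q * dfun q') * (q * q⁻¹) * (q' * q'⁻¹) := by
        simp only [mul_assoc, mul_comm, mul_left_comm]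
      rw [this]; simp
    rw [e]
    exact W.mul_mem (W.mul_mem h1' (W.inv_mem h2')) (W.inv_mem h3')
  have c3 : ∀ d₀ ∈ D, ((dfun d₀ : V) : V ⧸ N) = ((d₀ : V) : V ⧸ N) := by
    intro d₀ hd₀
    rw [mkeq]
    apply hDW
    obtain ⟨h1, h1'⟩ := hdfun d₀ (hDQ hd₀)
    exact ⟨D.mul_mem (D.inv_mem h1) hd₀, h1'⟩
  have csmul : ∀ (y : Y) {a b : V}, ((a : V) : V ⧸ N) = ((b : V) : V ⧸ N) →
      ((y • a : V) : V ⧸ N) = ((y • b : V) : V ⧸ N) := by
    intro y a b hab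
    rw [mkeq] at hab ⊢
    have := hN y _ hab
    rwa [smul_mul', smul_inv'] at this
  -- θ
  let θ : V → V := fun v => ∏ y : Y, y • dfun (y⁻¹ • v)
  have hθ : ∀ v, θ v = ∏ y : Y, y • dfun (y⁻¹ • v) := fun v => rfl
  have hmkθ : ∀ v, ((θ v : V) : V ⧸ N) = ∏ y : Y, ((y • dfun (y⁻¹ • v) : V) : V ⧸ N) := by
    intro v
    rw [hθ]
    exact map_prod (QuotientGroup.mk' N) _ _
  have hθD : ∀ q ∈ Q, θ q ∈ D := by
    intro q hq
    rw [hθ]
    exact Subgroup.prod_mem D (fun y _ => hD y _ (hdfun _ (hQ y⁻¹ q hq)).1)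
  have hθmul : ∀ q ∈ Q, ∀ q' ∈ Q, ((θ (q * q') : V) : V ⧸ N) = ((θ q : V) : V ⧸ N) * ((θ q' : V) : V ⧸ N) := by
    intro q hq q' hq'
    rw [hmkθ, hmkθ, hmkθ, ← Finset.prod_mul_distrib]
    apply Finset.prod_congr rfl
    intro y _
    rw [← QuotientGroup.mk_mul, ← smul_mul', smul_mul']
    apply csmul
    exact c2 _ (hQ y⁻¹ q hq) _ (hQ y⁻¹ q' hq')
  have hθd : ∀ d₀ ∈ D, ((θ d₀ : V) : V ⧸ N) = ((d₀ : V) : V ⧸ N) ^ Nat.card Y := by
    intro d₀ hd₀
    rw [hmkθ]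
    have : ∀ y : Y, ((y • dfun (y⁻¹ • d₀) : V) : V ⧸ N) = ((d₀ : V) : V ⧸ N) := by
      intro y
      have h1 := csmul y (c3 _ (hD y⁻¹ d₀ hd₀))
      rwa [smul_inv_smul] at h1
    simp only [this]
    rw [Finset.prod_const, Finset.card_univ, Nat.card_eq_fintype_card]
  have hθeq : ∀ (b : Y) v, θ (b • v) = b • θ v := by
    intro b v
    rw [hθ, hθ, Finset.smul_prod']
    refine (Fintype.prod_equiv (Equiv.mulLeft b) _ _ (fun a => ?_)).symm
    simp only [Equiv.coe_mulLeft, mul_inv_rev, mul_smul, inv_smul_smul]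
  -- the homomorphism
  let θb : ↥Q →* V ⧸ N := MonoidHom.mk' (fun q => ((θ (q : V) : V) : V ⧸ N)) (fun q q' => hθmul q q.2 q' q'.2)
  have hθb : ∀ q : Q, θb q = ((θ (q : V) : V) : V ⧸ N) := fun q => rfl
  have hcopq : ∀ c : V ⧸ N, (Nat.card Y).Coprime (orderOf c) := by
    intro c
    have h1 : orderOf c ∣ Nat.card (V ⧸ N) := orderOf_dvd_natCard c
    have h2 : Nat.card (V ⧸ N) ∣ Nat.card V := by
      rw [Subgroup.card_eq_card_quotient_mul_card_subgroup N]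
      exact Dvd.intro _ rfl
    exact Nat.Coprime.coprime_dvd_right (h1.trans h2) hcop
  refine ⟨θb.ker.map Q.subtype, ?_, ?_, ?_, ?_, ?_⟩
  · rintro y _ ⟨q, hq, rfl⟩
    refine ⟨⟨y • (q : V), hQ y q q.2⟩, ?_, rfl⟩
    rw [SetLike.mem_coe, MonoidHom.mem_ker, hθb] at hq ⊢
    show ((θ (y • (q : V)) : V) : V ⧸ N) = 1
    rw [hθeq, QuotientGroup.eq_one_iff]
    exact hN y _ ((QuotientGroup.eq_one_iff _).mp hq)
  · intro n hn
    refine ⟨⟨n, hDQ (hND hn)⟩, ?_, rfl⟩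
    rw [SetLike.mem_coe, MonoidHom.mem_ker, hθb]
    show ((θ n : V) : V ⧸ N) = 1
    rw [hθd n (hND hn), (QuotientGroup.eq_one_iff n).mpr hn, one_pow]
  · rintro _ ⟨q, -, rfl⟩
    exact q.2
  · rintro d₀ ⟨hd₀, ⟨q, hq, hqd⟩⟩
    rw [SetLike.mem_coe, MonoidHom.mem_ker, hθb] at hq
    have hqd' : (q : V) = d₀ := hqd
    rw [hqd', hθd d₀ hd₀] at hq
    have h1 : orderOf ((d₀ : V) : V ⧸ N) ∣ Nat.card Y := orderOf_dvd_of_pow_eq_one hq
    have h2 := hcopq ((d₀ : V) : V ⧸ N)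
    have h3 : orderOf ((d₀ : V) : V ⧸ N) = 1 := Nat.eq_one_of_dvd_coprimes h2 h1 dvd_rfl
    exact (QuotientGroup.eq_one_iff d₀).mp (orderOf_eq_one_iff.mp h3)
  · apply le_antisymm
    · apply sup_le hDQ
      rintro _ ⟨q, -, rfl⟩
      exact q.2
    · intro q hq
      set c : V ⧸ N := ((θ q : V) : V ⧸ N) with hc
      obtain ⟨m, hm⟩ := exists_pow_eq_self_of_coprime (hcopq c)
      set u : V := (θ q) ^ m with hu
      have huD : u ∈ D := D.pow_mem (hθD q hq) m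
      have h1 : ((θ u : V) : V ⧸ N) = c := by
        rw [hθd u huD, hu, QuotientGroup.mk_pow, ← hc, ← pow_mul, mul_comm, pow_mul, hm]
      have h2 : q * u⁻¹ ∈ θb.ker.map Q.subtype := by
        have hquQ : q * u⁻¹ ∈ Q := Q.mul_mem hq (Q.inv_mem (hDQ huD))
        refine ⟨⟨q * u⁻¹, hquQ⟩, ?_, rfl⟩
        rw [SetLike.mem_coe, MonoidHom.mem_ker]
        have e : (⟨q * u⁻¹, hquQ⟩ : Q) = ⟨q, hq⟩ * (⟨u, hDQ huD⟩ : Q)⁻¹ := rfl
        rw [e, map_mul, map_inv, hθb, hθb]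
        show ((θ q : V) : V ⧸ N) * (((θ u : V) : V ⧸ N))⁻¹ = 1
        rw [h1, ← hc, mul_inv_cancel]
      have : q = u * (q * u⁻¹) := by rw [mul_comm q, ← mul_assoc, mul_inv_cancel, one_mul]
      rw [this]
      exact mul_mem (Subgroup.mem_sup_left huD) (Subgroup.mem_sup_right h2)


/-- a subgroup `Q` of a finite abelian group of exponent dividing `p ^ e` with `Q ∩ Ω_{e-1} ≤ Q ^ p` is a direct factor -/
theorem exists_complement_of_pure {A : Type*} [CommGroup A] [Finite A] (p : ℕ) (hp : p.Prime) (e : ℕ)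
    (hexp : ∀ a : A, a ^ p ^ e = 1) (Q : Subgroup A)
    (hH : ∀ q ∈ Q, q ^ p ^ (e - 1) = 1 → ∃ q₁ ∈ Q, q = q₁ ^ p) (he : 1 ≤ e) :
    ∃ R : Subgroup A, Q ⊓ R = ⊥ ∧ Q ⊔ R = ⊤ := by
  classical
  obtain ⟨R, hR⟩ := Set.Finite.exists_maximal (Set.toFinite {R : Subgroup A | Q ⊓ R = ⊥}) ⟨⊥, inf_bot_eq Q⟩
  have hQR : Q ⊓ R = ⊥ := hR.prop
  refine ⟨R, hQR, ?_⟩
  by_contra hne
  set M := Q ⊔ R with hM
  obtain ⟨a, haM⟩ : ∃ a : A, a ∉ M := by
    by_contra hcon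
    push_neg at hcon
    exact hne (eq_top_iff.mpr (fun a _ => hcon a))
  -- an element outside M whose p-th power lies in M
  have hex : ∃ k, a ^ p ^ k ∈ M := ⟨e, by rw [hexp]; exact M.one_mem⟩
  set k₀ := Nat.find hex with hk₀
  have hk₀spec : a ^ p ^ k₀ ∈ M := Nat.find_spec hex
  have hk₀pos : 1 ≤ k₀ := by
    by_contra h0
    have : k₀ = 0 := by omega
    rw [this, pow_zero, pow_one] at hk₀spec
    exact haM hk₀spec
  set a' := a ^ p ^ (k₀ - 1) with ha'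
  have ha'M : a' ∉ M := Nat.find_min hex (by omega)
  have ha'p : a' ^ p ∈ M := by
    rw [ha', ← pow_mul, ← pow_succ, Nat.sub_add_cancel hk₀pos]; exact hk₀spec
  obtain ⟨q, hq, r, hr, hqr⟩ := Subgroup.mem_sup.mp ha'p
  have hq1 : q ^ p ^ (e - 1) = 1 := by
    have h1 : (q * r) ^ p ^ (e - 1) = 1 := by
      rw [hqr, ← pow_mul, ← pow_succ', Nat.sub_add_cancel he]; exact hexp a'
    rw [mul_pow] at h1
    have h2 : q ^ p ^ (e - 1) = (r ^ p ^ (e - 1))⁻¹ := eq_inv_of_mul_eq_one_left h1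
    have h3 : q ^ p ^ (e - 1) ∈ Q ⊓ R := ⟨Q.pow_mem hq _, by rw [h2]; exact R.inv_mem (R.pow_mem hr _)⟩
    rw [hQR, Subgroup.mem_bot] at h3
    exact h3
  obtain ⟨q₁, hq₁, hqq₁⟩ := hH q hq hq1
  set a₁ := a' * q₁⁻¹ with ha₁
  have ha₁M : a₁ ∉ M := by
    intro h
    apply ha'M
    have : a' = a₁ * q₁ := by rw [ha₁]; group
    rw [this]
    exact M.mul_mem h (Subgroup.mem_sup_left hq₁)
  have ha₁p : a₁ ^ p ∈ R := by
    have : a₁ ^ p = r := by
      rw [ha₁, mul_pow, inv_pow, ← hqq₁, ← hqr]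
      rw [mul_comm q r, mul_assoc, mul_inv_cancel, mul_one]
    rw [this]; exact hr
  -- enlarge R
  have hnot : ¬ Q ⊓ (R ⊔ Subgroup.zpowers a₁) = ⊥ := by
    intro h
    have := hR.le_of_ge h le_sup_left
    exact ha₁M (Subgroup.mem_sup_right (this (Subgroup.mem_sup_right (Subgroup.mem_zpowers a₁))))
  apply hnot
  rw [eq_bot_iff]
  rintro q₂ ⟨hq₂Q, hq₂R⟩
  rw [Subgroup.mem_bot]
  obtain ⟨r', hr', z, hz, rfl⟩ := Subgroup.mem_sup.mp hq₂R
  have hz' : z ∈ Submonoid.powers a₁ := mem_powers_iff_mem_zpowers.mpr hz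
  obtain ⟨k, rfl⟩ := hz'
  by_cases hpk : p ∣ k
  · obtain ⟨j, rfl⟩ := hpk
    have h1 : a₁ ^ (p * j) ∈ R := by rw [pow_mul]; exact R.pow_mem ha₁p j
    have h2 : r' * a₁ ^ (p * j) ∈ Q ⊓ R := ⟨hq₂Q, R.mul_mem hr' h1⟩
    rw [hQR, Subgroup.mem_bot] at h2
    exact h2
  · exfalso
    apply ha₁M
    have hcop : Nat.Coprime k p := ((Nat.Prime.coprime_iff_not_dvd hp).mpr hpk).symm
    have h1 : a₁ ^ k ∈ M := by
      have : a₁ ^ k = r'⁻¹ * (r' * a₁ ^ k) := by group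
      rw [this]
      exact M.mul_mem (M.inv_mem (Subgroup.mem_sup_right hr')) (Subgroup.mem_sup_left hq₂Q)
    have h2 : a₁ ^ p ∈ M := Subgroup.mem_sup_right ha₁p
    rw [← QuotientGroup.eq_one_iff (N := M), ← orderOf_eq_one_iff]
    have h3 : orderOf (a₁ : A ⧸ M) ∣ k := by
      apply orderOf_dvd_of_pow_eq_one
      rw [← QuotientGroup.mk_pow]; exact (QuotientGroup.eq_one_iff _).mpr h1
    have h4 : orderOf (a₁ : A ⧸ M) ∣ p := by
      apply orderOf_dvd_of_pow_eq_one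
      rw [← QuotientGroup.mk_pow]; exact (QuotientGroup.eq_one_iff _).mpr h2
    exact Nat.eq_one_of_dvd_coprimes hcop h3 h4


section indec

variable {A : Type*} [CommGroup A] [Finite A] {p : ℕ} [Fact p.Prime] (X : Subgroup (MulAut A))

/-- invariance under the group `X` of automorphisms -/
def AInv (B : Subgroup A) : Prop := ∀ y : X, ∀ b ∈ B, y • b ∈ B

omit [Finite A] in
lemma aInv_iff (B : Subgroup A) : (∀ x ∈ X, B.map x.toMonoidHom = B) ↔ AInv X B := by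
  constructor
  · intro h y b hb
    have h1 := h (y : MulAut A) y.2
    rw [← h1]
    exact ⟨b, hb, rfl⟩
  · intro h x hx
    apply le_antisymm
    · rintro _ ⟨b, hb, rfl⟩
      exact h ⟨x, hx⟩ b hb
    · intro b hb
      refine ⟨x⁻¹ b, h ⟨x⁻¹, X.inv_mem hx⟩ b hb, ?_⟩
      simp

omit [Finite A] in
lemma aInv_map_pow (B : Subgroup A) (hB : AInv X B) (n : ℕ) : AInv X (B.map (powMonoidHom n)) := by
  rintro y _ ⟨b, hb, rfl⟩
  refine ⟨y • b, hB y b hb, ?_⟩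
  rw [powMonoidHom_apply, powMonoidHom_apply, smul_pow']

omit [Finite A] in
lemma aInv_comap_pow (B : Subgroup A) (hB : AInv X B) (n : ℕ) : AInv X (B.comap (powMonoidHom n)) := by
  intro y a ha
  rw [Subgroup.mem_comap, powMonoidHom_apply] at ha ⊢
  rw [← smul_pow']
  exact hB y _ ha

omit [Finite A] in
lemma aInv_inf (B C : Subgroup A) (hB : AInv X B) (hC : AInv X C) : AInv X (B ⊓ C) :=
  fun y a ha => ⟨hB y a ha.1, hC y a ha.2⟩

omit [Finite A] in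
lemma aInv_ker_pow (n : ℕ) : AInv X (powMonoidHom n : A →* A).ker := by
  intro y a ha
  rw [MonoidHom.mem_ker, powMonoidHom_apply] at ha ⊢
  rw [← smul_pow', ha, smul_one]

/-- (iii) ⇒ (ii) -/
theorem omega_of_irreducible (hA : IsPGroup p A)
    (hirr : ∀ B : Subgroup A, AInv X B → (∀ b ∈ B, b ^ p = 1) → B = ⊥ ∨ ∀ a : A, a ∈ B ↔ a ^ p = 1) :
    ∀ B : Subgroup A, AInv X B → ∃ i : ℕ, ∀ a : A, a ∈ B ↔ a ^ p ^ i = 1 := by
  classical
  have key : ∀ i : ℕ, ∀ B : Subgroup A, AInv X B → (∀ b ∈ B, b ^ p ^ i = 1) →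
      (i = 0 ∨ ∃ b ∈ B, b ^ p ^ (i - 1) ≠ 1) → ∀ a : A, a ^ p ^ i = 1 → a ∈ B := by
    intro i
    induction i with
    | zero =>
      intro B _ _ _ a ha
      rw [pow_zero, pow_one] at ha
      rw [ha]; exact B.one_mem
    | succ i ih =>
      intro B hB hBe hBm a ha
      obtain ⟨b₀, hb₀, hb₀ne⟩ : ∃ b ∈ B, b ^ p ^ i ≠ 1 := by
        rcases hBm with h | h
        · omega
        · simpa using h
      -- B^p
      have h1 : ∀ a : A, a ^ p ^ i = 1 → a ∈ B.map (powMonoidHom p) := by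
        apply ih _ (aInv_map_pow X B hB p)
        · rintro _ ⟨b, hb, rfl⟩
          rw [powMonoidHom_apply, ← pow_mul, ← pow_succ']
          exact hBe b hb
        · rcases Nat.eq_zero_or_pos i with h0 | h0
          · left; exact h0
          · right
            refine ⟨b₀ ^ p, ⟨b₀, hb₀, rfl⟩, ?_⟩
            rw [← pow_mul, ← pow_succ', Nat.sub_add_cancel h0]
            exact hb₀ne
      -- B^(p^i)
      have h2 : ∀ a : A, a ∈ B.map (powMonoidHom (p ^ i)) ↔ a ^ p = 1 := by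
        have := hirr _ (aInv_map_pow X B hB (p ^ i)) (by
          rintro _ ⟨b, hb, rfl⟩
          rw [powMonoidHom_apply, ← pow_mul, ← pow_succ]
          exact hBe b hb)
        rcases this with h | h
        · exfalso
          apply hb₀ne
          have : b₀ ^ p ^ i ∈ B.map (powMonoidHom (p ^ i)) := ⟨b₀, hb₀, rfl⟩
          rw [h, Subgroup.mem_bot] at this
          exact this
        · exact h
      have h3 : B.map (powMonoidHom (p ^ i)) ≤ B := by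
        rintro _ ⟨b, hb, rfl⟩
        exact B.pow_mem hb _
      have h4 : a ^ p ∈ B.map (powMonoidHom p) := by
        apply h1
        rw [← pow_mul, ← pow_succ']; exact ha
      obtain ⟨b, hb, hba⟩ := h4
      rw [powMonoidHom_apply] at hba
      have h5 : (a * b⁻¹) ^ p = 1 := by
        rw [mul_pow, inv_pow, hba, mul_inv_cancel]
      have h6 : a * b⁻¹ ∈ B := h3 ((h2 _).mpr h5)
      have : a = (a * b⁻¹) * b := by group
      rw [this]
      exact B.mul_mem h6 hb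
  intro B hB
  have hex : ∃ i : ℕ, ∀ b ∈ B, b ^ p ^ i = 1 := by
    obtain ⟨n, hn⟩ := hA.exists_card_eq
    exact ⟨n, fun b _ => by rw [← hn]; exact pow_card_eq_one'⟩
  refine ⟨Nat.find hex, fun a => ⟨fun ha => Nat.find_spec hex a ha, ?_⟩⟩
  apply key _ B hB (Nat.find_spec hex)
  by_cases h0 : Nat.find hex = 0
  · left; exact h0
  · right
    have := Nat.find_min hex (m := Nat.find hex - 1) (by omega)
    push_neg at this
    exact this

/-- (i) ⇒ (iii) -/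
theorem irreducible_of_indecomposable (hA : IsPGroup p A) (hX : (Nat.card X).Coprime p)
    (hind : ¬ ∃ B C : Subgroup A, B ≠ ⊥ ∧ C ≠ ⊥ ∧ AInv X B ∧ AInv X C ∧ B ⊓ C = ⊥ ∧ B ⊔ C = ⊤) :
    ∀ B : Subgroup A, AInv X B → (∀ b ∈ B, b ^ p = 1) → B = ⊥ ∨ ∀ a : A, a ∈ B ↔ a ^ p = 1 := by
  classical
  have hpp : p.Prime := Fact.out
  intro B hB hBp
  by_cases htriv : ∀ a : A, a = 1
  · left
    rw [eq_bot_iff]
    intro b _
    rw [Subgroup.mem_bot]; exact htriv b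
  push_neg at htriv
  obtain ⟨n, hn⟩ := hA.exists_card_eq
  have hcop : (Nat.card X).Coprime (Nat.card A) := by rw [hn]; exact Nat.Coprime.pow_right n hX
  have hex : ∃ e : ℕ, ∀ a : A, a ^ p ^ e = 1 := ⟨n, fun a => by rw [← hn]; exact pow_card_eq_one'⟩
  set e := Nat.find hex with hedef
  have he : ∀ a : A, a ^ p ^ e = 1 := Nat.find_spec hex
  have he1 : 1 ≤ e := by
    by_contra h0
    have h00 : e = 0 := by omega
    obtain ⟨a, ha⟩ := htriv
    apply ha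
    have := he a
    rwa [h00, pow_zero, pow_one] at this
  have hmin : ¬ ∀ a : A, a ^ p ^ (e - 1) = 1 := Nat.find_min hex (by omega)
  set f : A →* A := powMonoidHom (p ^ (e - 1)) with hf
  have hfa : ∀ a, f a = a ^ p ^ (e - 1) := fun a => powMonoidHom_apply _ a
  -- V₀ and U
  have hV₀ne : f.range ≠ ⊥ := by
    intro h
    apply hmin
    intro a
    have : f a ∈ f.range := ⟨a, rfl⟩
    rw [h, Subgroup.mem_bot, hfa] at this
    exact this
  have hV₀inv : AInv X f.range := by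
    rw [MonoidHom.range_eq_map]
    exact aInv_map_pow X ⊤ (fun _ _ _ => Subgroup.mem_top _) _
  obtain ⟨U, hU⟩ := Set.Finite.exists_minimal (Set.toFinite {U : Subgroup A | AInv X U ∧ U ≠ ⊥ ∧ U ≤ f.range})
    ⟨f.range, hV₀inv, hV₀ne, le_rfl⟩
  obtain ⟨hUinv, hUne, hUV⟩ := hU.prop
  have hUmin : ∀ U' : Subgroup A, AInv X U' → U' ≤ U → U' = ⊥ ∨ U' = U := by
    intro U' hU' hle
    by_cases h : U' = ⊥
    · left; exact h
    · right
      exact le_antisymm hle (hU.le_of_le ⟨hU', h, hle.trans hUV⟩ hle)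
  -- Q
  obtain ⟨Q, hQ⟩ := Set.Finite.exists_minimal (Set.toFinite {Q : Subgroup A | AInv X Q ∧ Q.map f = U})
    ⟨U.comap f, aInv_comap_pow X U hUinv _, Subgroup.map_comap_eq_self hUV⟩
  obtain ⟨hQinv, hQU⟩ := hQ.prop
  have hQmin : ∀ E : Subgroup A, AInv X E → E ≤ Q → E ≠ Q → E ≤ f.ker := by
    intro E hE hEQ hne
    have h1 : E.map f ≤ U := hQU ▸ Subgroup.map_mono hEQ
    rcases hUmin _ (aInv_map_pow X E hE _) h1 with h | h
    · exact (Subgroup.map_eq_bot_iff E).mp h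
    · exfalso
      exact hne (le_antisymm hEQ (hQ.le_of_le ⟨hE, h⟩ hEQ))
  have hQne : Q ≠ ⊥ := by
    intro h
    apply hUne
    rw [← hQU, h, Subgroup.map_bot]
  -- Claim 1
  have hclaim : Q ⊓ f.ker ≤ Q.map (powMonoidHom p) := by
    have hND : Q.map (powMonoidHom p) ≤ Q ⊓ f.ker := by
      rintro _ ⟨q, hq, rfl⟩
      refine ⟨Q.pow_mem hq _, MonoidHom.mem_ker.mpr ?_⟩
      rw [hfa, powMonoidHom_apply, ← pow_mul, ← pow_succ', Nat.sub_add_cancel he1]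
      exact he q
    obtain ⟨E, hEinv, hNE, hEQ, hDE, hDEQ⟩ := exists_invariant_rel_complement (Y := X) hcop p hpp
      (Q.map (powMonoidHom p)) (Q ⊓ f.ker) Q hND inf_le_left
      (aInv_map_pow X Q hQinv p) (aInv_inf X _ _ hQinv (aInv_ker_pow X _)) hQinv
      (fun q hq => ⟨q, hq, rfl⟩)
    by_cases hEQ' : E = Q
    · rw [hEQ'] at hDE
      intro d hd
      exact hDE ⟨hd, hd.1⟩
    · exfalso
      have h1 : E ≤ Q ⊓ f.ker := le_inf hEQ (hQmin E hEinv hEQ hEQ')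
      have h2 : Q ≤ f.ker := by
        rw [← hDEQ]
        exact sup_le inf_le_right (h1.trans inf_le_right)
      apply hUne
      rw [← hQU]
      exact (Subgroup.map_eq_bot_iff Q).mpr h2
  have hH : ∀ q ∈ Q, q ^ p ^ (e - 1) = 1 → ∃ q₁ ∈ Q, q = q₁ ^ p := by
    intro q hq hq1
    have : q ∈ Q ⊓ f.ker := ⟨hq, MonoidHom.mem_ker.mpr (by rw [hfa]; exact hq1)⟩
    obtain ⟨q₁, hq₁, hqq⟩ := hclaim this
    exact ⟨q₁, hq₁, by rw [← hqq, powMonoidHom_apply]⟩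
  -- Q is a direct factor, hence everything
  obtain ⟨R, hQR, hQRtop⟩ := exists_complement_of_pure p hpp e he Q hH he1
  obtain ⟨R', hR'inv, hQR', hQR'top⟩ := exists_invariant_complement (A := X) hcop Q R hQinv hQR hQRtop
  have hR'bot : R' = ⊥ := by
    by_contra hne
    exact hind ⟨Q, R', hQne, hne, hQinv, hR'inv, hQR', hQR'top⟩
  have hQtop : Q = ⊤ := by rw [← hQR'top, hR'bot, sup_bot_eq]
  have hUrange : U = f.range := by rw [← hQU, hQtop, MonoidHom.range_eq_map]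
  have hH' : ∀ a : A, a ^ p ^ (e - 1) = 1 → ∃ c : A, a = c ^ p := by
    intro a ha
    obtain ⟨c, -, hc⟩ := hH a (hQtop ▸ Subgroup.mem_top a) ha
    exact ⟨c, hc⟩
  -- Ω₁ ≤ V₀
  have hroot : ∀ k i : ℕ, k + i = e → ∀ a : A, a ^ p ^ i = 1 → ∃ b : A, b ^ p ^ k = a := by
    intro k
    induction k with
    | zero =>
      intro i _ a _
      exact ⟨a, by simp⟩
    | succ k ih =>
      intro i hki a ha
      have h1 : a ^ p ^ (e - 1) = 1 := by
        have : e - 1 = i + k := by omega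
        rw [this, pow_add, pow_mul, ha, one_pow]
      obtain ⟨c, hc⟩ := hH' a h1
      have h2 : c ^ p ^ (i + 1) = 1 := by
        rw [pow_succ', pow_mul, ← hc]; exact ha
      obtain ⟨b, hb⟩ := ih (i + 1) (by omega) c h2
      exact ⟨b, by rw [pow_succ, pow_mul, hb, hc]⟩
  have hΩU : ∀ a : A, a ^ p = 1 → a ∈ U := by
    intro a ha
    obtain ⟨b, hb⟩ := hroot (e - 1) 1 (by omega) a (by rwa [pow_one])
    rw [hUrange]
    exact ⟨b, by rw [hfa]; exact hb⟩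
  -- conclusion
  have hBU : B ≤ U := fun b hb => hΩU b (hBp b hb)
  rcases hUmin B hB hBU with h | h
  · left; exact h
  · right
    intro a
    exact ⟨fun ha => hBp a ha, fun ha => h ▸ hΩU a ha⟩

end indec

end Cfsg.Agent.H1
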