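import Mathlib
import Cfsg.Prelude.Def_Solvable
import Cfsg.Agent.H1.Basic
import Cfsg.Agent.S4253

set_option autoImplicit false

namespace Cfsg.Agent.H1

open scoped Pointwise

universe u

lemma card_subtype_ne' (α : Type*) [Finite α] (a : α) : Nat.card {x : α // x ≠ a} = Nat.card α - 1 := by
  classical
  have := Fintype.ofFinite α
  rw [Nat.card_eq_fintype_card, Nat.card_eq_fintype_card]
  simp

lemma mem_conj_smul_iff' {L : Type*} [Group L] (H : Subgroup L) (g x : L) :
    x ∈ MulAut.conj g • H ↔ g⁻¹ * x * g ∈ H := by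
  rw [Subgroup.mem_pointwise_smul_iff_inv_smul_mem, MulAut.smul_def, MulAut.conj_inv_apply]

/-- the conjugation map from cosets × nonidentity elements -/
noncomputable def frobMap {G : Type*} [Group G] (H : Subgroup G) :
    (G ⧸ H) × {m : H // m ≠ 1} → G := fun x => x.1.out * (x.2.1 : G) * x.1.out⁻¹

lemma frobMap_injective {G : Type*} [Group G] (H : Subgroup G) (hH : Cfsg.IsFrobeniusComplement H) :
    Function.Injective (frobMap H) := by
  rintro ⟨c, m, hm⟩ ⟨c', m', hm'⟩ h
  simp only [frobMap] at h
  have hc : c = c' := by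
    by_contra hne
    have hnotin : c.out⁻¹ * c'.out ∉ H := by
      intro hin
      apply hne
      rw [← QuotientGroup.out_eq' c, ← QuotientGroup.out_eq' c']
      exact QuotientGroup.eq.mpr hin
    have h1 := hH.2.2 _ hnotin
    have h2 : (m : G) ∈ H ⊓ (MulAut.conj (c.out⁻¹ * c'.out) • H) := by
      refine Subgroup.mem_inf.2 ⟨m.2, ?_⟩
      rw [mem_conj_smul_iff']
      have e : (c.out⁻¹ * c'.out)⁻¹ * (m : G) * (c.out⁻¹ * c'.out) = (m' : G) := by
        have : (m : G) = c.out⁻¹ * (c'.out * (m' : G) * c'.out⁻¹) * c.out := by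
          rw [← h]; group
        rw [this]; group
      rw [e]; exact m'.2
    rw [h1, Subgroup.mem_bot] at h2
    exact hm (Subtype.ext h2)
  subst hc
  have : (m : G) = (m' : G) := by
    have h3 : c.out⁻¹ * (c.out * (m : G) * c.out⁻¹) * c.out = c.out⁻¹ * (c.out * (m' : G) * c.out⁻¹) * c.out := by
      rw [h]
    have e1 : c.out⁻¹ * (c.out * (m : G) * c.out⁻¹) * c.out = (m : G) := by group
    have e2 : c.out⁻¹ * (c.out * (m' : G) * c.out⁻¹) * c.out = (m' : G) := by group
    rw [e1, e2] at h3
    exact h3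
  have hmm : m = m' := Subtype.ext this
  subst hmm
  rfl

lemma range_frobMap {G : Type*} [Group G] (H : Subgroup G) :
    Set.range (frobMap H) = (Cfsg.frobeniusKernel H)ᶜ := by
  ext y
  simp only [Set.mem_range, Set.mem_compl_iff, Cfsg.frobeniusKernel, Set.mem_ofPred_eq, not_or, not_forall,
    not_not]
  constructor
  · rintro ⟨⟨c, m, hm⟩, rfl⟩
    simp only [frobMap]
    constructor
    · intro h
      apply hm
      have : (m : G) = c.out⁻¹ * (c.out * (m : G) * c.out⁻¹) * c.out := by group
      rw [h] at this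
      apply Subtype.ext
      rw [this]; simp
    · refine ⟨c.out, ?_⟩
      rw [mem_conj_smul_iff']
      have : c.out⁻¹ * (c.out * (m : G) * c.out⁻¹) * c.out = (m : G) := by group
      rw [this]; exact m.2
  · rintro ⟨hy1, g, hg⟩
    rw [mem_conj_smul_iff'] at hg
    set c : G ⧸ H := QuotientGroup.mk g with hc
    have hu : c.out⁻¹ * g ∈ H := by
      rw [← QuotientGroup.eq, QuotientGroup.out_eq']
    have hm : c.out⁻¹ * y * c.out ∈ H := by
      have := H.mul_mem (H.mul_mem hu hg) (H.inv_mem hu)
      have e : c.out⁻¹ * g * (g⁻¹ * y * g) * (c.out⁻¹ * g)⁻¹ = c.out⁻¹ * y * c.out := by group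
      rwa [e] at this
    refine ⟨⟨c, ⟨⟨c.out⁻¹ * y * c.out, hm⟩, ?_⟩⟩, ?_⟩
    · intro h
      apply hy1
      have h2 := congrArg Subtype.val h
      simp only [Subgroup.coe_one] at h2
      have : y = c.out * (c.out⁻¹ * y * c.out) * c.out⁻¹ := by group
      rw [this, h2]; group
    · simp only [frobMap]
      group

theorem card_frobeniusKernel {G : Type*} [Group G] [Finite G] (H : Subgroup G) (hH : Cfsg.IsFrobeniusComplement H) :
    Nat.card (Cfsg.frobeniusKernel H) = H.index := by
  have h1 : Nat.card (Set.range (frobMap H)) = H.index * (Nat.card H - 1) := by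
    rw [Nat.card_range_of_injective (frobMap_injective H hH), Nat.card_prod, card_subtype_ne',
      Subgroup.index_eq_card]
  rw [range_frobMap] at h1
  have h2 := Set.ncard_add_ncard_compl (Cfsg.frobeniusKernel H)
  rw [Nat.card_coe_set_eq] at h1 ⊢
  rw [h1, ← H.card_mul_index] at h2
  have hpos : 0 < Nat.card H := Nat.card_pos
  have h3 : H.index * (Nat.card H - 1) + H.index = Nat.card H * H.index := by
    have : Nat.card H = (Nat.card H - 1) + 1 := by omega
    nth_rewrite 2 [this]
    ring
  omega

theorem index_mod_card_of_frobenius {G : Type*} [Group G] [Finite G] (H : Subgroup G) (hH : Cfsg.IsFrobeniusComplement H) :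
    H.index % Nat.card H = 1 % Nat.card H := by
  classical
  haveI : Fintype G := Fintype.ofFinite G
  haveI : Fintype H := Fintype.ofFinite H
  haveI : Fintype (G ⧸ H) := Fintype.ofFinite _
  haveI : Fintype (Quotient (MulAction.orbitRel H (G ⧸ H))) := Fintype.ofFinite _
  have hB := MulAction.sum_card_fixedBy_eq_card_orbits_mul_card_group H (G ⧸ H)
  have hfix : ∀ a : H, Fintype.card (MulAction.fixedBy (G ⧸ H) a) = 1 + (if a = 1 then H.index - 1 else 0) := by
    intro a
    by_cases ha : a = 1
    · subst ha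
      rw [if_pos rfl]
      have : Fintype.card (MulAction.fixedBy (G ⧸ H) (1 : H)) = Fintype.card (G ⧸ H) := by
        apply Fintype.card_of_subtype
        simp
      rw [this, ← Nat.card_eq_fintype_card, ← Subgroup.index_eq_card]
      have : 0 < H.index := Nat.pos_of_ne_zero Subgroup.index_ne_zero_of_finite
      omega
    · rw [if_neg ha, add_zero]
      rw [Fintype.card_eq_one_iff]
      have hmem : ((1 : G) : G ⧸ H) ∈ MulAction.fixedBy (G ⧸ H) a := by
        rw [MulAction.mem_fixedBy]
        show (((a : G) * 1 : G) : G ⧸ H) = ((1 : G) : G ⧸ H)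
        rw [QuotientGroup.eq]
        simp
      refine ⟨⟨_, hmem⟩, ?_⟩
      rintro ⟨c, hc⟩
      apply Subtype.ext
      have ha' : (a : G) ≠ 1 := fun h => ha (Subtype.ext h)
      exact Cfsg.Agent.S4253.result H hH (a : G) ha' c _ hc hmem
  simp_rw [hfix] at hB
  rw [Finset.sum_add_distrib, Finset.sum_ite_eq' Finset.univ (1 : H)] at hB
  simp only [Finset.sum_const, Finset.card_univ, smul_eq_mul, mul_one, Finset.mem_univ, if_true] at hB
  rw [← Nat.card_eq_fintype_card (α := H)] at hB
  have hpos : 0 < H.index := Nat.pos_of_ne_zero Subgroup.index_ne_zero_of_finite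
  have h2 : H.index + Nat.card H = Fintype.card (Quotient (MulAction.orbitRel H (G ⧸ H))) * Nat.card H + 1 := by
    omega
  have h3 : (H.index + Nat.card H) % Nat.card H = H.index % Nat.card H := Nat.add_mod_right _ _
  rw [← h3, h2, Nat.mul_add_mod_self_right]


end Cfsg.Agent.H1
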