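import Mathlib
import Cfsg.Agent.H1.Basic

/-! More on Frattini subgroups, coatoms, minimal normal subgroups (helper1). -/

namespace Cfsg.Agent.H1

variable {G : Type*} [Group G]

lemma exists_coatom_not_le_of_not_le_frattini (N : Subgroup G) (h : ¬ N ≤ frattini G) :
    ∃ M : Subgroup G, IsCoatom M ∧ ¬ N ≤ M := by
  by_contra hcon
  push Not at hcon
  apply h
  unfold frattini Order.radical
  rw [le_iInf₂_iff]
  exact hcon

lemma sup_eq_top_of_coatom_not_le {N M : Subgroup G} (hM : IsCoatom M) (h : ¬ N ≤ M) : N ⊔ M = ⊤ := by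
  apply hM.2
  apply lt_of_le_of_ne le_sup_right
  intro heq
  apply h
  rw [heq]
  exact le_sup_left

/-- if `A` is abelian normal and `A ⊔ H = ⊤` then `A ⊓ H` is normal -/
lemma inf_normal_of_abelian_normal_sup_eq_top (A H : Subgroup G) [A.Normal] [IsMulCommutative A]
    (h : A ⊔ H = ⊤) : (A ⊓ H).Normal := by
  have hdecomp : ∀ g : G, ∃ a ∈ A, ∃ h ∈ H, a * h = g := by
    intro g
    have : g ∈ A ⊔ H := by rw [h]; trivial
    exact Subgroup.mem_sup_of_normal_left.mp this
  constructor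
  intro d hd g
  obtain ⟨a, ha, h, hh, rfl⟩ := hdecomp g
  have hdA := (Subgroup.mem_inf.mp hd).1
  have hdH := (Subgroup.mem_inf.mp hd).2
  have h1 : h * d * h⁻¹ ∈ A := (inferInstance : A.Normal).conj_mem d hdA h
  have h2 : h * d * h⁻¹ ∈ H := mul_mem (mul_mem hh hdH) (inv_mem hh)
  have e : a * h * d * (a * h)⁻¹ = a * (h * d * h⁻¹) * a⁻¹ := by group
  have e2 : a * (h * d * h⁻¹) * a⁻¹ = h * d * h⁻¹ := by
    rw [setLike_mul_comm ha h1, mul_inv_cancel_right]
  rw [e, e2]
  exact Subgroup.mem_inf.mpr ⟨h1, h2⟩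

/-- a normal maximal subgroup contains the derived subgroup -/
lemma commutator_le_of_normal_coatom (M : Subgroup G) [hn : M.Normal] (hM : IsCoatom M) :
    commutator G ≤ M := by
  rw [← Subgroup.Normal.quotient_commutative_iff_commutator_le]
  have : ∃ x : G, x ∉ M := by
    by_contra hcon
    push Not at hcon
    exact hM.1 (eq_top_iff.mpr (fun x _ => hcon x))
  obtain ⟨x, hx⟩ := this
  have hsup : M ⊔ Subgroup.zpowers x = ⊤ := by
    rw [sup_comm]
    apply sup_eq_top_of_coatom_not_le hM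
    intro hle
    exact hx (hle (Subgroup.mem_zpowers x))
  have hpow : ∀ a : G ⧸ M, ∃ k : ℤ, a = (QuotientGroup.mk x : G ⧸ M) ^ k := by
    intro a
    induction a using QuotientGroup.induction_on with
    | H g =>
      have : g ∈ M ⊔ Subgroup.zpowers x := by rw [hsup]; trivial
      obtain ⟨m, hm, y, hy, rfl⟩ := Subgroup.mem_sup_of_normal_left.mp this
      obtain ⟨k, rfl⟩ := Subgroup.mem_zpowers_iff.mp hy
      refine ⟨k, ?_⟩
      rw [QuotientGroup.mk_mul, (QuotientGroup.eq_one_iff m).mpr hm, one_mul, QuotientGroup.mk_zpow]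
  constructor; constructor
  intro a b
  obtain ⟨k, rfl⟩ := hpow a
  obtain ⟨l, rfl⟩ := hpow b
  rw [← zpow_add, ← zpow_add, add_comm]

/-- in a finite nilpotent group the derived subgroup lies in the Frattini subgroup -/
lemma commutator_le_frattini_of_nilpotent [Finite G] [hnil : Group.IsNilpotent G] :
    commutator G ≤ frattini G := by
  unfold frattini Order.radical
  rw [le_iInf₂_iff]
  intro M hM
  have htfae := (Group.isNilpotent_of_finite_tfae (G := G)).out 0 2
  have hn : M.Normal := htfae.mp hnil M hM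
  exact commutator_le_of_normal_coatom M hM

/-- a nontrivial normal subgroup of a finite group contains a minimal normal subgroup -/
lemma exists_minimal_normal_le [Finite G] (N : Subgroup G) [hN : N.Normal] (hne : N ≠ ⊥) :
    ∃ K : Subgroup G, K.Normal ∧ K ≠ ⊥ ∧ K ≤ N ∧
      ∀ L : Subgroup G, L.Normal → L ≤ K → L = ⊥ ∨ L = K := by
  obtain ⟨K, hK, hKmin⟩ := (wellFounded_lt (α := Subgroup G)).has_min
    {K : Subgroup G | K.Normal ∧ K ≠ ⊥ ∧ K ≤ N} ⟨N, hN, hne, le_rfl⟩
  obtain ⟨hKn, hKne, hKN⟩ := hK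
  refine ⟨K, hKn, hKne, hKN, ?_⟩
  intro L hL hLK
  by_cases hL0 : L = ⊥
  · exact Or.inl hL0
  · right
    by_contra hne2
    exact hKmin L ⟨hL, hL0, hLK.trans hKN⟩ (lt_of_le_of_ne hLK hne2)

end Cfsg.Agent.H1
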