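import Mathlib
import Cfsg.Agent.H1.Basic

/-! Miscellaneous helper lemmas (helper1). -/

namespace Cfsg.Agent.H1
open scoped commutatorElement

lemma comm_commute_of_conj_pow {Q : Type*} [Group Q] (a : Q) (hn : ∀ q : Q, ∃ m : ℤ, q * a * q⁻¹ = a ^ m) (g h : Q) :
    Commute ⁅g, h⁆ a := by
  obtain ⟨m, hm⟩ := hn g
  obtain ⟨n, hn'⟩ := hn h
  obtain ⟨m', hm'⟩ := hn g⁻¹
  obtain ⟨n', hn''⟩ := hn h⁻¹
  rw [inv_inv] at hm' hn''
  have hconj : ∀ (q : Q) (k l : ℤ), q * a * q⁻¹ = a ^ k → q * a ^ l * q⁻¹ = a ^ (k * l) := by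
    intro q k l hq
    rw [← conj_zpow, hq, zpow_mul]
  have h1 : a ^ (m * m') = a := by
    rw [← hconj g m m' hm, ← hm']; group
  have h2 : a ^ (n * n') = a := by
    rw [← hconj h n n' hn', ← hn'']; group
  have h3 : ⁅g, h⁆ * a * ⁅g, h⁆⁻¹ = a := by
    have e : ⁅g, h⁆ * a * ⁅g, h⁆⁻¹ = g * (h * (g⁻¹ * (h⁻¹ * a * h) * g) * h⁻¹) * g⁻¹ := by
      rw [commutatorElement_def]; group
    rw [e, hn'']
    have e2 : g⁻¹ * a ^ n' * g = a ^ (m' * n') := by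
      have := hconj g⁻¹ m' n' (by rw [inv_inv]; exact hm')
      rw [inv_inv] at this
      exact this
    rw [e2, hconj h n (m' * n') hn', hconj g m (n * (m' * n')) hm]
    have : m * (n * (m' * n')) = (m * m') * (n * n') := by ring
    rw [this, zpow_mul, h1, h2]
  show ⁅g, h⁆ * a = a * ⁅g, h⁆
  calc ⁅g, h⁆ * a = (⁅g, h⁆ * a * ⁅g, h⁆⁻¹) * ⁅g, h⁆ := by group
    _ = a * ⁅g, h⁆ := by rw [h3]

lemma le_normalizer_sup_of {G : Type*} [Group G] (X A B : Subgroup G)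
    (hA : ∀ x ∈ X, ∀ a ∈ A, x * a * x⁻¹ ∈ A ⊔ B) (hB : ∀ x ∈ X, ∀ b ∈ B, x * b * x⁻¹ ∈ A ⊔ B) :
    X ≤ Subgroup.normalizer ((A ⊔ B : Subgroup G) : Set G) := by
  rw [Subgroup.le_normalizer_iff]
  intro x hx k hk
  have hle : A ⊔ B ≤ (A ⊔ B).comap (MulAut.conj x).toMonoidHom := by
    apply sup_le
    · intro a ha
      rw [Subgroup.mem_comap]
      exact hA x hx a ha
    · intro b hb
      rw [Subgroup.mem_comap]
      exact hB x hx b hb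
  exact hle hk

end Cfsg.Agent.H1
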