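import Mathlib
import Cfsg.Agent.H1.Basic

/-! Helper lemmas on Sylow conjugacy (helper1). -/

namespace Cfsg.Agent.H1

open scoped Pointwise

/-- two Sylow subgroups of `G` contained in a subgroup `H` are conjugate under `H` -/
lemma sylow_conj_in_subgroup {G : Type*} [Group G] [Finite G] {p : ℕ} [Fact p.Prime] (P R : Sylow p G)
    (H : Subgroup G) (hP : (P : Subgroup G) ≤ H) (hR : (R : Subgroup G) ≤ H) : ∃ h ∈ H, h • P = R := by
  obtain ⟨h, hh⟩ := MulAction.exists_smul_eq H (P.subtype hP) (R.subtype hR)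
  rw [Sylow.smul_subtype] at hh
  exact ⟨h, h.2, Sylow.subtype_injective hh⟩

lemma mem_map_conj_iff {G : Type*} [Group G] (g x : G) (H : Subgroup G) :
    x ∈ H.map (MulAut.conj g).toMonoidHom ↔ g⁻¹ * x * g ∈ H := by
  rw [← conj_smul_eq_map, mem_conj_smul]

lemma conj_mem_map_conj_iff {G : Type*} [Group G] (g x : G) (H : Subgroup G) :
    g * x * g⁻¹ ∈ H.map (MulAut.conj g).toMonoidHom ↔ x ∈ H := by
  rw [mem_map_conj_iff]
  have : g⁻¹ * (g * x * g⁻¹) * g = x := by group
  rw [this]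

end Cfsg.Agent.H1
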