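import Mathlib
import Cfsg.Agent.H1.Basic
import Cfsg.Agent.H1.SylowConj

/-! Conjugates of subgroups as images under `MulAut.conj` (helper1). -/

namespace Cfsg.Agent.H1

lemma map_conj_map_conj {G : Type*} [Group G] (a b : G) (H : Subgroup G) :
    (H.map (MulAut.conj a).toMonoidHom).map (MulAut.conj b).toMonoidHom = H.map (MulAut.conj (b * a)).toMonoidHom := by
  ext x
  simp only [mem_map_conj_iff]
  have : a⁻¹ * (b⁻¹ * x * b) * a = (b * a)⁻¹ * x * (b * a) := by group
  rw [this]

lemma map_conj_one {G : Type*} [Group G] (H : Subgroup G) :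
    H.map (MulAut.conj (1 : G)).toMonoidHom = H := by
  ext x
  simp

lemma map_conj_eq_self_iff {G : Type*} [Group G] (g : G) (H : Subgroup G) :
    H.map (MulAut.conj g).toMonoidHom = H ↔ g ∈ Subgroup.normalizer (H : Set G) :=
  Subgroup.mem_normalizer_iff_map_conj_eq.symm

lemma subgroupOf_map_conj {G : Type*} [Group G] (A K : Subgroup G) (a : A) :
    (K.subgroupOf A).map (MulAut.conj a).toMonoidHom = (K.map (MulAut.conj (a : G)).toMonoidHom).subgroupOf A := by
  ext y
  rw [mem_map_conj_iff, Subgroup.mem_subgroupOf, Subgroup.mem_subgroupOf, mem_map_conj_iff]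
  simp

end Cfsg.Agent.H1
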