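import Mathlib
import Cfsg.Agent.H1.Basic
import Cfsg.Agent.H1.SylowConj
import Cfsg.Agent.H1.ConjMap
import Cfsg.Agent.H1.Card

/-! Transfer lemmas for complements, towards Schur–Zassenhaus conjugacy (helper1). -/

namespace Cfsg.Agent.H1

open scoped Pointwise

variable {G : Type*} [Group G]

/-- conjugacy inside a subgroup gives conjugacy in the big group -/
lemma conj_of_conj_subgroupOf (L H K : Subgroup G) (hH : H ≤ L) (hK : K ≤ L)
    (h : ∃ g : L, MulAut.conj g • (H.subgroupOf L) = K.subgroupOf L) :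
    ∃ g : G, g ∈ L ∧ MulAut.conj g • H = K := by
  obtain ⟨g, hg⟩ := h
  refine ⟨g, g.2, ?_⟩
  ext x
  rw [mem_conj_smul]
  constructor
  · intro hx
    have hxL : x ∈ L := by
      have : x = (g : G) * ((g : G)⁻¹ * x * g) * (g : G)⁻¹ := by group
      rw [this]
      exact mul_mem (mul_mem g.2 (hH hx)) (inv_mem g.2)
    have h1 : (⟨x, hxL⟩ : L) ∈ MulAut.conj g • (H.subgroupOf L) := by
      rw [mem_conj_smul, Subgroup.mem_subgroupOf]
      simpa using hx
    rw [hg, Subgroup.mem_subgroupOf] at h1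
    exact h1
  · intro hx
    have h1 : (⟨x, hK hx⟩ : L) ∈ K.subgroupOf L := Subgroup.mem_subgroupOf.mpr hx
    rw [← hg, mem_conj_smul, Subgroup.mem_subgroupOf] at h1
    simpa using h1

/-- conjugacy in a quotient by a normal subgroup contained in both gives conjugacy -/
lemma conj_of_conj_quotient (P : Subgroup G) [P.Normal] (H K : Subgroup G) (hPH : P ≤ H) (hPK : P ≤ K)
    (h : ∃ q : G ⧸ P, MulAut.conj q • (H.map (QuotientGroup.mk' P)) = K.map (QuotientGroup.mk' P)) :
    ∃ g : G, MulAut.conj g • H = K := by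
  obtain ⟨q, hq⟩ := h
  obtain ⟨g, rfl⟩ := QuotientGroup.mk'_surjective P q
  have hmem : ∀ (S : Subgroup G), P ≤ S → ∀ x : G, QuotientGroup.mk' P x ∈ S.map (QuotientGroup.mk' P) ↔ x ∈ S := by
    intro S hS x
    rw [← Subgroup.mem_comap, Subgroup.comap_map_eq, QuotientGroup.ker_mk', sup_eq_left.mpr hS]
  refine ⟨g, ?_⟩
  ext x
  rw [mem_conj_smul, ← hmem H hPH, ← hmem K hPK, ← hq, mem_conj_smul]
  simp only [map_mul, map_inv]

/-- a complement of `N` contained in `L` gives a complement of `N ∩ L` in `L` -/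
lemma isComplement'_subgroupOf (N H L : Subgroup G) [N.Normal] (hc : Subgroup.IsComplement' N H) (hHL : H ≤ L) :
    Subgroup.IsComplement' (N.subgroupOf L) (H.subgroupOf L) := by
  apply Subgroup.isComplement'_of_disjoint_and_mul_eq_univ
  · rw [disjoint_iff, eq_bot_iff]
    intro x hx
    have h1 : (x : G) ∈ N := Subgroup.mem_subgroupOf.mp (Subgroup.mem_inf.mp hx).1
    have h2 : (x : G) ∈ H := Subgroup.mem_subgroupOf.mp (Subgroup.mem_inf.mp hx).2
    have h3 : (x : G) ∈ N ⊓ H := Subgroup.mem_inf.mpr ⟨h1, h2⟩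
    rw [hc.disjoint.eq_bot, Subgroup.mem_bot] at h3
    rw [Subgroup.mem_bot]
    exact Subtype.ext h3
  · rw [Set.eq_univ_iff_forall]
    intro x
    have hx : (x : G) ∈ N ⊔ H := by rw [hc.sup_eq_top]; trivial
    obtain ⟨n, hn, h, hh, hnh⟩ := Subgroup.mem_sup_of_normal_left.mp hx
    have hnL : n ∈ L := by
      have : n = x * h⁻¹ := by rw [← hnh]; group
      rw [this]
      exact mul_mem x.2 (inv_mem (hHL hh))
    refine ⟨⟨n, hnL⟩, Subgroup.mem_subgroupOf.mpr hn, ⟨h, hHL hh⟩, Subgroup.mem_subgroupOf.mpr hh, ?_⟩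
    exact Subtype.ext hnh

/-- images of complements in a quotient by a normal subgroup contained in one of them are complements -/
lemma isComplement'_map_quotient (N H P : Subgroup G) [N.Normal] [P.Normal] (hc : Subgroup.IsComplement' N H)
    (hP : P ≤ N ∨ P ≤ H) :
    Subgroup.IsComplement' (N.map (QuotientGroup.mk' P)) (H.map (QuotientGroup.mk' P)) := by
  have hNn : (N.map (QuotientGroup.mk' P)).Normal :=
    Subgroup.Normal.map inferInstance _ (QuotientGroup.mk'_surjective P)
  apply Subgroup.isComplement'_of_disjoint_and_mul_eq_univ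
  · rw [disjoint_iff, eq_bot_iff]
    rintro x hx
    obtain ⟨⟨n, hn, rfl⟩, ⟨h, hh, hnh⟩⟩ := Subgroup.mem_inf.mp hx
    rw [Subgroup.mem_bot]
    -- h⁻¹ * n ∈ P
    have h1 : h⁻¹ * n ∈ P := by
      rw [← QuotientGroup.eq]
      exact hnh
    rcases hP with hP | hP
    · have h2 : h ∈ N := by
        have : h = n * (h⁻¹ * n)⁻¹ := by group
        rw [this]
        exact mul_mem hn (inv_mem (hP h1))
      have h3 : h ∈ N ⊓ H := Subgroup.mem_inf.mpr ⟨h2, hh⟩
      rw [hc.disjoint.eq_bot, Subgroup.mem_bot] at h3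
      rw [← hnh, h3, map_one]
    · have h2 : n ∈ H := by
        have : n = h * (h⁻¹ * n) := by group
        rw [this]
        exact mul_mem hh (hP h1)
      have h3 : n ∈ N ⊓ H := Subgroup.mem_inf.mpr ⟨hn, h2⟩
      rw [hc.disjoint.eq_bot, Subgroup.mem_bot] at h3
      rw [h3, map_one]
  · rw [Set.eq_univ_iff_forall]
    intro x
    obtain ⟨g, rfl⟩ := QuotientGroup.mk'_surjective P x
    have hx : g ∈ N ⊔ H := by rw [hc.sup_eq_top]; trivial
    obtain ⟨n, hn, h, hh, rfl⟩ := Subgroup.mem_sup_of_normal_left.mp hx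
    exact ⟨_, Subgroup.mem_map_of_mem _ hn, _, Subgroup.mem_map_of_mem _ hh, (map_mul _ _ _).symm⟩

/-- a conjugate of a complement of a normal subgroup is again a complement -/
lemma isComplement'_conj (N H : Subgroup G) [N.Normal] (hc : Subgroup.IsComplement' N H) (g : G) :
    Subgroup.IsComplement' N (MulAut.conj g • H) := by
  apply Subgroup.isComplement'_of_disjoint_and_mul_eq_univ
  · rw [disjoint_iff, eq_bot_iff]
    intro x hx
    obtain ⟨h1, h2⟩ := Subgroup.mem_inf.mp hx
    rw [mem_conj_smul] at h2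
    have h3 : g⁻¹ * x * g ∈ N := by
      have := (inferInstance : N.Normal).conj_mem x h1 g⁻¹
      simpa using this
    have h4 : g⁻¹ * x * g ∈ N ⊓ H := Subgroup.mem_inf.mpr ⟨h3, h2⟩
    rw [hc.disjoint.eq_bot, Subgroup.mem_bot] at h4
    rw [Subgroup.mem_bot]
    have : x = g * (g⁻¹ * x * g) * g⁻¹ := by group
    rw [this, h4]; group
  · rw [Set.eq_univ_iff_forall]
    intro x
    have hx : g⁻¹ * x * g ∈ N ⊔ H := by rw [hc.sup_eq_top]; trivial
    obtain ⟨n, hn, h, hh, hnh⟩ := Subgroup.mem_sup_of_normal_left.mp hx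
    refine ⟨g * n * g⁻¹, (inferInstance : N.Normal).conj_mem n hn g, g * h * g⁻¹, ?_, ?_⟩
    · show g * h * g⁻¹ ∈ MulAut.conj g • H
      rw [conj_mem_conj_smul]; exact hh
    · show g * n * g⁻¹ * (g * h * g⁻¹) = x
      have : g * n * g⁻¹ * (g * h * g⁻¹) = g * (n * h) * g⁻¹ := by group
      rw [this, hnh]; group

lemma isSolvable_subgroupOf_of_le {H L : Subgroup G} (h : H ≤ L) (hs : Group.IsSolvable H) :
    Group.IsSolvable (H.subgroupOf L) :=
  Group.isSolvable_of_isSolvable_injective (f := (Subgroup.subgroupOfEquivOfLe h).toMonoidHom)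
    (Subgroup.subgroupOfEquivOfLe h).injective

lemma card_subgroupOf_of_le {H L : Subgroup G} (h : H ≤ L) : Nat.card (H.subgroupOf L) = Nat.card H :=
  Nat.card_congr (Subgroup.subgroupOfEquivOfLe h).toEquiv

lemma isSolvable_map {G' : Type*} [Group G'] (f : G →* G') (H : Subgroup G) (hs : Group.IsSolvable H) :
    Group.IsSolvable (H.map f) :=
  Group.isSolvable_of_surjective (f := f.subgroupMap H) (f.subgroupMap_surjective H)

/-- Schur–Zassenhaus conjugacy for a subgroup `L` (viewed as a group) gives the relative statement inside `G` -/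
lemma sz_relative [Finite G] (L N' H' K' : Subgroup G) (hN'L : N' ≤ L)
    (hLN : L ≤ Subgroup.normalizer (N' : Set G)) (hH'L : H' ≤ L) (hK'L : K' ≤ L)
    (hdH : N' ⊓ H' = ⊥) (hsH : N' ⊔ H' = L) (hdK : N' ⊓ K' = ⊥) (hsK : N' ⊔ K' = L)
    (hcop : (Nat.card N').Coprime (Nat.card H')) (hsolv : Group.IsSolvable N' ∨ Group.IsSolvable H')
    (SZ : ∀ (N : Subgroup L) [N.Normal] (H K : Subgroup L), Subgroup.IsComplement' N H → Subgroup.IsComplement' N K →
      (Nat.card N).Coprime (Nat.card H) → (Group.IsSolvable N ∨ Group.IsSolvable H) → ∃ g : L, MulAut.conj g • H = K) :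
    ∃ g : G, g ∈ L ∧ MulAut.conj g • H' = K' := by
  have hNn : (N'.subgroupOf L).Normal := (Subgroup.normal_subgroupOf_iff_le_normalizer hN'L).mpr hLN
  have hcompl : ∀ X : Subgroup G, X ≤ L → N' ⊓ X = ⊥ → N' ⊔ X = L →
      Subgroup.IsComplement' (N'.subgroupOf L) (X.subgroupOf L) := by
    intro X hXL hd hs
    apply Subgroup.isComplement'_of_disjoint_and_mul_eq_univ
    · rw [disjoint_iff, eq_bot_iff]
      intro x hx
      have h1 : (x : G) ∈ N' := Subgroup.mem_subgroupOf.mp (Subgroup.mem_inf.mp hx).1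
      have h2 : (x : G) ∈ X := Subgroup.mem_subgroupOf.mp (Subgroup.mem_inf.mp hx).2
      have h3 : (x : G) ∈ N' ⊓ X := Subgroup.mem_inf.mpr ⟨h1, h2⟩
      rw [hd, Subgroup.mem_bot] at h3
      rw [Subgroup.mem_bot]
      exact Subtype.ext h3
    · rw [← Subgroup.normal_mul, ← Subgroup.subgroupOf_sup hN'L hXL, hs, Subgroup.subgroupOf_self, Subgroup.coe_top]
  have h1 := hcompl H' hH'L hdH hsH
  have h2 := hcompl K' hK'L hdK hsK
  have h3 : (Nat.card (N'.subgroupOf L)).Coprime (Nat.card (H'.subgroupOf L)) := by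
    rw [card_subgroupOf_of_le hN'L, card_subgroupOf_of_le hH'L]; exact hcop
  have h4 : Group.IsSolvable (N'.subgroupOf L) ∨ Group.IsSolvable (H'.subgroupOf L) := by
    rcases hsolv with h | h
    · exact Or.inl (isSolvable_subgroupOf_of_le hN'L h)
    · exact Or.inr (isSolvable_subgroupOf_of_le hH'L h)
  exact conj_of_conj_subgroupOf L H' K' hH'L hK'L (SZ _ _ _ h1 h2 h3 h4)

/-- Schur–Zassenhaus conjugacy for a quotient `G ⧸ P` with `P ≤ H ∩ K` gives conjugacy in `G` -/
lemma sz_quotient [Finite G] (P N H K : Subgroup G) [P.Normal] [N.Normal]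
    (hcH : Subgroup.IsComplement' N H) (hcK : Subgroup.IsComplement' N K) (hPH : P ≤ H) (hPK : P ≤ K)
    (hcop : (Nat.card N).Coprime (Nat.card H)) (hsolv : Group.IsSolvable N ∨ Group.IsSolvable H)
    (SZ : ∀ (N : Subgroup (G ⧸ P)) [N.Normal] (H K : Subgroup (G ⧸ P)), Subgroup.IsComplement' N H → Subgroup.IsComplement' N K →
      (Nat.card N).Coprime (Nat.card H) → (Group.IsSolvable N ∨ Group.IsSolvable H) → ∃ g : G ⧸ P, MulAut.conj g • H = K) :
    ∃ g : G, MulAut.conj g • H = K := by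
  have hNn : (N.map (QuotientGroup.mk' P)).Normal :=
    Subgroup.Normal.map inferInstance _ (QuotientGroup.mk'_surjective P)
  have h1 := isComplement'_map_quotient N H P hcH (Or.inr hPH)
  have h2 := isComplement'_map_quotient N K P hcK (Or.inr hPK)
  have h3 : (Nat.card (N.map (QuotientGroup.mk' P))).Coprime (Nat.card (H.map (QuotientGroup.mk' P))) :=
    Nat.Coprime.coprime_dvd_left (Subgroup.card_map_dvd _ _) (Nat.Coprime.coprime_dvd_right (Subgroup.card_map_dvd _ _) hcop)
  have h4 : Group.IsSolvable (N.map (QuotientGroup.mk' P)) ∨ Group.IsSolvable (H.map (QuotientGroup.mk' P)) := by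
    rcases hsolv with h | h
    · exact Or.inl (isSolvable_map _ N h)
    · exact Or.inr (isSolvable_map _ H h)
  exact conj_of_conj_quotient P H K hPH hPK (SZ _ _ _ h1 h2 h3 h4)

end Cfsg.Agent.H1
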