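import Mathlib
import Cfsg.Agent.H1.Basic
import Cfsg.Agent.H1.SylowConj
import Cfsg.Agent.H1.ConjMap
import Cfsg.Agent.H1.Card

/-! More Sylow-type helper lemmas (helper1). -/

namespace Cfsg.Agent.H1

open scoped Pointwise

/-- A `p`-subgroup `P ≤ K` of `p'`-index in `K` contains a `K`-conjugate of every `p`-subgroup of `K`. -/
lemma exists_le_map_conj_of_pgroup {G : Type*} [Group G] [Finite G] {p : ℕ} [Fact p.Prime]
    (K P Q : Subgroup G) (hPK : P ≤ K) (hP : IsPGroup p P) (hidx : ¬ p ∣ P.relIndex K)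
    (hQK : Q ≤ K) (hQ : IsPGroup p Q) :
    ∃ k ∈ K, Q ≤ P.map (MulAut.conj k).toMonoidHom := by
  have hP' : IsPGroup p (P.subgroupOf K) := hP.comap_subtype
  have hQ' : IsPGroup p (Q.subgroupOf K) := hQ.comap_subtype
  obtain ⟨S, hS⟩ : ∃ S : Sylow p K, (S : Subgroup K) = P.subgroupOf K := ⟨hP'.toSylow hidx, hP'.toSylow_coe hidx⟩
  obtain ⟨S', hS'⟩ := hQ'.exists_le_sylow
  obtain ⟨k, rfl⟩ := MulAction.exists_smul_eq K S S'
  refine ⟨k, k.2, ?_⟩
  intro q hq
  have h1 : (⟨q, hQK hq⟩ : K) ∈ k • S := hS' (Subgroup.mem_subgroupOf.mpr hq)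
  rw [mem_sylow_smul] at h1
  have h2 : k⁻¹ * (⟨q, hQK hq⟩ : K) * k ∈ P.subgroupOf K := by rw [← hS]; exact h1
  rw [Subgroup.mem_subgroupOf] at h2
  rw [mem_map_conj_iff]
  simpa using h2

/-- in a finite group, `t P t⁻¹ ≤ P` implies `t ∈ N(P)` -/
lemma mem_normalizer_of_map_conj_le {G : Type*} [Group G] [Finite G] (P : Subgroup G) (t : G)
    (h : P.map (MulAut.conj t).toMonoidHom ≤ P) : t ∈ Subgroup.normalizer (P : Set G) := by
  rw [← map_conj_eq_self_iff]
  apply Subgroup.eq_of_le_of_card_ge h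
  rw [Subgroup.card_map_of_injective (MulAut.conj t).injective]

/-- if `x ∈ P` then `x P x⁻¹ = P` -/
lemma map_conj_of_mem {G : Type*} [Group G] (P : Subgroup G) (x : G) (hx : x ∈ P) :
    P.map (MulAut.conj x).toMonoidHom = P := by
  rw [map_conj_eq_self_iff]
  exact Subgroup.le_normalizer hx

end Cfsg.Agent.H1
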