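import Mathlib
import Cfsg.Agent.H1.SZ
import Cfsg.Agent.H1.Misc
import Cfsg.Agent.H1.SylowMore
import Cfsg.Agent.H1.FrattiniExtra
import Cfsg.Agent.S0002
import Cfsg.Agent.S0043

/-! Schur–Zassenhaus conjugacy (helper1). -/

namespace Cfsg.Agent.H1

open scoped Pointwise commutatorElement

universe u

/-- the Schur–Zassenhaus conjugacy statement for a group `G` -/
abbrev SZProp (G : Type u) [Group G] : Prop :=
  ∀ (N : Subgroup G) [N.Normal] (H K : Subgroup G), Subgroup.IsComplement' N H → Subgroup.IsComplement' N K →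
    (Nat.card N).Coprime (Nat.card H) → (Group.IsSolvable N ∨ Group.IsSolvable H) → ∃ g : G, MulAut.conj g • H = K

lemma card_lt_card_of_lt' {G : Type*} [Group G] [Finite G] {A B : Subgroup G} (h : A < B) : Nat.card A < Nat.card B := by
  rcases (Subgroup.card_le_of_le h.le).lt_or_eq with h1 | h1
  · exact h1
  · exact absurd (Subgroup.eq_of_le_of_card_ge h.le h1.ge) h.ne

lemma card_conj_smul {G : Type*} [Group G] (g : G) (H : Subgroup G) : Nat.card (MulAut.conj g • H : Subgroup G) = Nat.card H :=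
  Subgroup.card_map_of_injective (MulAut.conj g).injective

lemma map_conj_smul_quotient {G : Type*} [Group G] (P : Subgroup G) [P.Normal] (a : G) (H : Subgroup G) :
    (MulAut.conj a • H).map (QuotientGroup.mk' P) = MulAut.conj (QuotientGroup.mk' P a) • (H.map (QuotientGroup.mk' P)) := by
  ext x
  constructor
  · rintro ⟨y, hy, rfl⟩
    have hy : y ∈ MulAut.conj a • H := hy
    rw [mem_conj_smul] at hy
    rw [mem_conj_smul]
    exact ⟨a⁻¹ * y * a, hy, by simp⟩
  · intro hx
    rw [mem_conj_smul] at hx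
    obtain ⟨h, hh, hx⟩ := hx
    refine ⟨a * h * a⁻¹, (conj_mem_conj_smul a h H).mpr hh, ?_⟩
    rw [map_mul, map_mul, hx, map_inv]
    group

theorem sz_case1 {G : Type u} [Group G] [Finite G] (N : Subgroup G) [N.Normal] (H K : Subgroup G)
    (hH : Subgroup.IsComplement' N H) (hK : Subgroup.IsComplement' N K)
    (hcop : (Nat.card N).Coprime (Nat.card H)) (hNs : Group.IsSolvable N)
    (ihL : ∀ L : Subgroup G, Nat.card L < Nat.card G → SZProp L) : ∃ g : G, MulAut.conj g • H = K := by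
  by_cases hN0 : N = ⊥
  · subst hN0
    have h1 : H = ⊤ := Subgroup.isComplement'_bot_left.mp hH
    have h2 : K = ⊤ := Subgroup.isComplement'_bot_left.mp hK
    exact ⟨1, by rw [h1, h2, map_one, one_smul]⟩
  have hle : ⁅N, N⁆ ≤ N := Subgroup.commutator_le_self N
  have hne : ⁅N, N⁆ ≠ N := by
    intro heq
    have : Nontrivial N := (Subgroup.nontrivial_iff_ne_bot N).mpr hN0
    have h1 := Group.IsSolvable.commutator_lt_top_of_nontrivial N
    apply h1.ne
    apply Subgroup.map_injective N.subtype_injective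
    rw [Subgroup.map_subtype_commutator, heq, ← MonoidHom.range_eq_map, Subgroup.range_subtype]
  by_cases hN'0 : ⁅N, N⁆ = ⊥
  · have hab : IsMulCommutative N := Subgroup.commutator_self_eq_bot_iff.mp hN'0
    have hidx : (Nat.card N).Coprime N.index := by rw [hH.symm.index_eq_card]; exact hcop
    obtain ⟨a, _, ha⟩ := Cfsg.Agent.S0002.result N hidx H K hH hK
    exact ⟨a, ha⟩
  -- the quotient by N'
  have hsurj : Function.Surjective (QuotientGroup.mk' ⁅N, N⁆) := QuotientGroup.mk'_surjective _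
  have hNbn : (N.map (QuotientGroup.mk' ⁅N, N⁆)).Normal := Subgroup.Normal.map inferInstance _ hsurj
  have hNbab : IsMulCommutative (N.map (QuotientGroup.mk' ⁅N, N⁆)) := by
    apply IsMulCommutative.of_setLike_mul_comm
    rintro _ ⟨x, hx, rfl⟩ _ ⟨y, hy, rfl⟩
    rw [← map_mul, ← map_mul, QuotientGroup.mk'_apply, QuotientGroup.mk'_apply, QuotientGroup.eq]
    have : (x * y)⁻¹ * (y * x) = ⁅y⁻¹, x⁻¹⁆ := by rw [commutatorElement_def]; group
    rw [this]
    exact Subgroup.commutator_mem_commutator (inv_mem hy) (inv_mem hx)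
  have hHb := isComplement'_map_quotient N H ⁅N, N⁆ hH (Or.inl hle)
  have hKb := isComplement'_map_quotient N K ⁅N, N⁆ hK (Or.inl hle)
  have hidxb : (Nat.card (N.map (QuotientGroup.mk' ⁅N, N⁆))).Coprime (N.map (QuotientGroup.mk' ⁅N, N⁆)).index := by
    rw [hHb.symm.index_eq_card]
    exact Nat.Coprime.coprime_dvd_left (Subgroup.card_map_dvd _ _) (Nat.Coprime.coprime_dvd_right (Subgroup.card_map_dvd _ _) hcop)
  obtain ⟨ab, _, hab⟩ := Cfsg.Agent.S0002.result _ hidxb _ _ hHb hKb
  obtain ⟨a, rfl⟩ := hsurj ab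
  have hH₁ : Subgroup.IsComplement' N (MulAut.conj a • H) := isComplement'_conj N H hH a
  have hsup : ⁅N, N⁆ ⊔ MulAut.conj a • H = ⁅N, N⁆ ⊔ K := by
    rw [← map_conj_smul_quotient] at hab
    have := congrArg (Subgroup.comap (QuotientGroup.mk' ⁅N, N⁆)) hab
    rw [Subgroup.comap_map_eq, Subgroup.comap_map_eq, QuotientGroup.ker_mk'] at this
    rw [sup_comm, this, sup_comm]
  have hdK : ⁅N, N⁆ ⊓ K = ⊥ := by
    rw [eq_bot_iff, ← hK.disjoint.eq_bot]
    exact inf_le_inf_right K hle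
  have hdH : ⁅N, N⁆ ⊓ MulAut.conj a • H = ⊥ := by
    rw [eq_bot_iff, ← hH₁.disjoint.eq_bot]
    exact inf_le_inf_right _ hle
  have hcardL : Nat.card (⁅N, N⁆ ⊔ K : Subgroup G) < Nat.card G := by
    have hn : K ≤ Subgroup.normalizer ((⁅N, N⁆ : Subgroup G) : Set G) := by
      rw [Subgroup.normalizer_eq_top]; exact le_top
    have h1 := card_sup_mul_card_inf K ⁅N, N⁆ hn
    rw [inf_comm, hdK, Subgroup.card_bot, mul_one, sup_comm] at h1
    rw [h1, ← hK.card_mul_card, mul_comm]
    exact Nat.mul_lt_mul_of_pos_right (card_lt_card_of_lt' (lt_of_le_of_ne hle hne)) Nat.card_pos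
  have hN's : Group.IsSolvable (⁅N, N⁆ : Subgroup G) :=
    Group.isSolvable_of_isSolvable_injective (f := Subgroup.inclusion hle) (Subgroup.inclusion_injective hle)
  obtain ⟨g, _, hg⟩ := sz_relative (⁅N, N⁆ ⊔ K) ⁅N, N⁆ (MulAut.conj a • H) K le_sup_left
    (by rw [Subgroup.normalizer_eq_top]; exact le_top) (by rw [← hsup]; exact le_sup_right) le_sup_right
    hdH hsup hdK rfl
    (Nat.Coprime.coprime_dvd_left (Subgroup.card_dvd_of_le hle) (by rw [card_conj_smul]; exact hcop))
    (Or.inl hN's) (ihL _ hcardL)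
  exact ⟨g * a, by rw [map_mul, mul_smul, hg]⟩

theorem sz_case2 {G : Type u} [Group G] [Finite G] (N : Subgroup G) [N.Normal] (H K : Subgroup G)
    (hH : Subgroup.IsComplement' N H) (hK : Subgroup.IsComplement' N K)
    (hcop : (Nat.card N).Coprime (Nat.card H)) (hHs : Group.IsSolvable H)
    (ihL : ∀ L : Subgroup G, Nat.card L < Nat.card G → SZProp L)
    (ihQ : ∀ (P : Subgroup G) [P.Normal], Nat.card (G ⧸ P) < Nat.card G → SZProp (G ⧸ P)) :
    ∃ g : G, MulAut.conj g • H = K := by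
  have hHK : Nat.card H = Nat.card K :=
    Nat.eq_of_mul_eq_mul_left Nat.card_pos (hH.card_mul_card.trans hK.card_mul_card.symm)
  by_cases hH0 : H = ⊥
  · have hK0 : K = ⊥ := by
      rw [← Subgroup.card_eq_one, ← hHK, hH0, Subgroup.card_bot]
    exact ⟨1, by rw [hH0, hK0, map_one, one_smul]⟩
  -- a minimal normal subgroup of H
  have hnt : (⊤ : Subgroup H) ≠ ⊥ := by
    have : Nontrivial H := (Subgroup.nontrivial_iff_ne_bot H).mpr hH0
    exact top_ne_bot
  obtain ⟨P₀, hP₀n, hP₀ne, -, hP₀min⟩ := exists_minimal_normal_le (⊤ : Subgroup H) hnt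
  obtain ⟨-, p, hp, hpow⟩ := Cfsg.Agent.S0043.result P₀ hP₀ne hP₀min
  have : Fact p.Prime := ⟨hp⟩
  obtain ⟨P, hPdef⟩ : ∃ P : Subgroup G, P = P₀.map H.subtype := ⟨_, rfl⟩
  have hPH : P ≤ H := by rw [hPdef]; exact Subgroup.map_subtype_le _
  have hPne : P ≠ ⊥ := by
    rw [hPdef, Ne, Subgroup.map_eq_bot_iff_of_injective _ H.subtype_injective]; exact hP₀ne
  have hPp : IsPGroup p P := by
    rintro ⟨x, hx⟩
    refine ⟨1, ?_⟩
    rw [pow_one]
    apply Subtype.ext
    rw [hPdef] at hx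
    obtain ⟨y, hy, rfl⟩ := hx
    have := hpow y hy
    show (H.subtype y) ^ p = 1
    rw [← map_pow, this, map_one]
  have hHnP : H ≤ Subgroup.normalizer (P : Set G) := by
    have h1 := Subgroup.le_normalizer_map H.subtype (H := P₀)
    rw [Subgroup.normalizer_eq_top_iff.mpr hP₀n, ← MonoidHom.range_eq_map, Subgroup.range_subtype, ← hPdef] at h1
    exact h1
  have hpH : p ∣ Nat.card H := by
    obtain ⟨k, hk⟩ := hPp.exists_card_eq
    have hk0 : k ≠ 0 := by
      intro h0
      rw [h0, pow_zero, Subgroup.card_eq_one] at hk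
      exact hPne hk
    exact (dvd_pow_self p hk0).trans (hk ▸ Subgroup.card_dvd_of_le hPH)
  have hpN : ¬ p ∣ Nat.card N := by
    intro h
    have := Nat.Coprime.eq_one_of_dvd (Nat.Coprime.coprime_dvd_right hpH hcop).symm h
    exact hp.one_lt.ne' this
  have hPN : P ⊓ N = ⊥ := by
    rw [eq_bot_iff, ← hH.disjoint.eq_bot, inf_comm]
    exact inf_le_inf_left N hPH
  -- M = N ⊔ P is normal
  obtain ⟨M, hMdef⟩ : ∃ M : Subgroup G, M = N ⊔ P := ⟨_, rfl⟩
  have hNM : N ≤ M := by rw [hMdef]; exact le_sup_left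
  have hPM : P ≤ M := by rw [hMdef]; exact le_sup_right
  have hMn : M.Normal := by
    rw [← Subgroup.normalizer_eq_top_iff, eq_top_iff, ← hH.sup_eq_top]
    apply sup_le
    · exact hNM.trans Subgroup.le_normalizer
    · rw [hMdef]
      apply le_normalizer_sup_of
      · intro x _ a ha
        exact Subgroup.mem_sup_left ((inferInstance : N.Normal).conj_mem a ha x)
      · intro x hx b hb
        exact Subgroup.mem_sup_right ((Subgroup.mem_normalizer_iff.mp (hHnP hx) b).mp hb)
  -- P has p'-index in M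
  have hPnN : P ≤ Subgroup.normalizer (N : Set G) := by
    rw [Subgroup.normalizer_eq_top]; exact le_top
  have hidx : ¬ p ∣ P.relIndex M := by
    rw [hMdef, sup_comm, ← relIndex_inf_eq_relIndex_sup P N hPnN, hPN, Subgroup.relIndex_bot_left]
    exact hpN
  have hcardM : Nat.card M = Nat.card P * Nat.card N := by
    have := card_sup_mul_card_inf P N hPnN
    rw [hPN, Subgroup.card_bot, mul_one, sup_comm, ← hMdef] at this
    exact this
  -- K ⊓ M
  have hKM : N ⊔ (K ⊓ M) = M := by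
    apply le_antisymm (sup_le hNM inf_le_right)
    intro x hx
    have hx' : x ∈ N ⊔ K := by rw [hK.sup_eq_top]; trivial
    obtain ⟨n, hn, k, hk, rfl⟩ := Subgroup.mem_sup_of_normal_left.mp hx'
    have hkM : k ∈ M := by
      have : k = n⁻¹ * (n * k) := by group
      rw [this]
      exact mul_mem (inv_mem (hNM hn)) hx
    exact mul_mem (Subgroup.mem_sup_left hn) (Subgroup.mem_sup_right (Subgroup.mem_inf.mpr ⟨hk, hkM⟩))
  have hKMN : (K ⊓ M) ⊓ N = ⊥ := by
    rw [eq_bot_iff, ← hK.disjoint.eq_bot, inf_comm N K]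
    exact inf_le_inf_right N inf_le_left
  have hcardKM : Nat.card (K ⊓ M : Subgroup G) = Nat.card P := by
    have hn : K ⊓ M ≤ Subgroup.normalizer (N : Set G) := by
      rw [Subgroup.normalizer_eq_top]; exact le_top
    have := card_sup_mul_card_inf (K ⊓ M) N hn
    rw [hKMN, Subgroup.card_bot, mul_one, sup_comm, hKM, hcardM] at this
    exact (Nat.eq_of_mul_eq_mul_right Nat.card_pos this).symm
  have hKMp : IsPGroup p (K ⊓ M : Subgroup G) := by
    obtain ⟨k, hk⟩ := hPp.exists_card_eq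
    exact IsPGroup.of_card (hcardKM.trans hk)
  obtain ⟨m, hmM, hle⟩ := exists_le_map_conj_of_pgroup M P (K ⊓ M) hPM hPp hidx inf_le_right hKMp
  have heq : K ⊓ M = P.map (MulAut.conj m).toMonoidHom := by
    apply Subgroup.eq_of_le_of_card_ge hle
    rw [Subgroup.card_map_of_injective (MulAut.conj m).injective, hcardKM]
  -- H₁
  have hH₁ : Subgroup.IsComplement' N (MulAut.conj m • H) := isComplement'_conj N H hH m
  have hP₁H₁ : K ⊓ M ≤ MulAut.conj m • H := by
    rw [heq]; exact Subgroup.map_mono hPH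
  have hH₁n : MulAut.conj m • H ≤ Subgroup.normalizer ((K ⊓ M : Subgroup G) : Set G) := by
    rw [heq]
    exact (Subgroup.map_mono hHnP).trans (Subgroup.le_normalizer_map _)
  have hKn : K ≤ Subgroup.normalizer ((K ⊓ M : Subgroup G) : Set G) := by
    rw [Subgroup.le_normalizer_iff]
    intro k hk x hx
    exact Subgroup.mem_inf.mpr ⟨mul_mem (mul_mem hk (Subgroup.mem_inf.mp hx).1) (inv_mem hk),
      hMn.conj_mem x (Subgroup.mem_inf.mp hx).2 k⟩
  have hcop₁ : (Nat.card N).Coprime (Nat.card (MulAut.conj m • H : Subgroup G)) := by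
    rw [card_conj_smul]; exact hcop
  have hH₁s : Group.IsSolvable (MulAut.conj m • H : Subgroup G) := isSolvable_map _ H hHs
  have hP₁ne : K ⊓ M ≠ ⊥ := by
    intro h
    rw [h, Subgroup.card_bot] at hcardKM
    exact hPne (Subgroup.card_eq_one.mp hcardKM.symm)
  suffices hsuff : ∃ g : G, MulAut.conj g • (MulAut.conj m • H) = K by
    obtain ⟨g, hg⟩ := hsuff
    exact ⟨g * m, by rw [map_mul, mul_smul, hg]⟩
  by_cases hG₁ : Subgroup.normalizer ((K ⊓ M : Subgroup G) : Set G) = ⊤
  · have hP₁n : (K ⊓ M).Normal := Subgroup.normalizer_eq_top_iff.mp hG₁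
    have hcardQ : Nat.card (G ⧸ (K ⊓ M)) < Nat.card G := by
      rw [← Subgroup.index_eq_card, ← Subgroup.card_mul_index (K ⊓ M)]
      have h1 : 1 < Nat.card (K ⊓ M : Subgroup G) := by
        rw [Subgroup.one_lt_card_iff_ne_bot]; exact hP₁ne
      have h2 : 0 < (K ⊓ M).index := Nat.pos_of_ne_zero Subgroup.index_ne_zero_of_finite
      nlinarith
    exact sz_quotient (K ⊓ M) N (MulAut.conj m • H) K hH₁ hK hP₁H₁ inf_le_left hcop₁ (Or.inr hH₁s) (ihQ _ hcardQ)
  · have hcardG₁ : Nat.card (Subgroup.normalizer ((K ⊓ M : Subgroup G) : Set G)) < Nat.card G := by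
      rw [← Subgroup.card_top (G := G)]
      exact card_lt_card_of_lt' (lt_top_iff_ne_top.mpr hG₁)
    obtain ⟨G₁, hG₁def⟩ : ∃ G₁ : Subgroup G, G₁ = Subgroup.normalizer ((K ⊓ M : Subgroup G) : Set G) := ⟨_, rfl⟩
    rw [← hG₁def] at hcardG₁ hH₁n hKn
    have hdec : ∀ X : Subgroup G, Subgroup.IsComplement' N X → X ≤ G₁ → (N ⊓ G₁) ⊔ X = G₁ := by
      intro X hX hXG
      apply le_antisymm (sup_le inf_le_right hXG)
      intro x hx
      have hx' : x ∈ N ⊔ X := by rw [hX.sup_eq_top]; trivial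
      obtain ⟨n, hn, k, hk, rfl⟩ := Subgroup.mem_sup_of_normal_left.mp hx'
      have hnG : n ∈ G₁ := by
        have : n = (n * k) * k⁻¹ := by group
        rw [this]
        exact mul_mem hx (inv_mem (hXG hk))
      exact mul_mem (Subgroup.mem_sup_left (Subgroup.mem_inf.mpr ⟨hn, hnG⟩)) (Subgroup.mem_sup_right hk)
    have hnorm : G₁ ≤ Subgroup.normalizer ((N ⊓ G₁ : Subgroup G) : Set G) := by
      rw [Subgroup.le_normalizer_iff]
      intro g hg x hx
      exact Subgroup.mem_inf.mpr ⟨(inferInstance : N.Normal).conj_mem x (Subgroup.mem_inf.mp hx).1 g,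
        mul_mem (mul_mem hg (Subgroup.mem_inf.mp hx).2) (inv_mem hg)⟩
    obtain ⟨g, _, hg⟩ := sz_relative G₁ (N ⊓ G₁) (MulAut.conj m • H) K inf_le_right hnorm hH₁n hKn
      (by rw [eq_bot_iff, ← hH₁.disjoint.eq_bot]; exact inf_le_inf_right _ inf_le_left)
      (hdec _ hH₁ hH₁n)
      (by rw [eq_bot_iff, ← hK.disjoint.eq_bot]; exact inf_le_inf_right _ inf_le_left)
      (hdec _ hK hKn)
      (Nat.Coprime.coprime_dvd_left (Subgroup.card_dvd_of_le inf_le_left) hcop₁)
      (Or.inr hH₁s) (ihL _ hcardG₁)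
    exact ⟨g, hg⟩

theorem sz_conj_aux : ∀ n : ℕ, ∀ (G : Type u) [Group G] [Finite G], Nat.card G = n → SZProp G := by
  intro n
  induction n using Nat.strong_induction_on with
  | _ n ih =>
    intro G _ _ hn N _ H K hH hK hcop hsolv
    have ihL : ∀ L : Subgroup G, Nat.card L < Nat.card G → SZProp L :=
      fun L hL => ih (Nat.card L) (hn ▸ hL) L rfl
    have ihQ : ∀ (P : Subgroup G) [P.Normal], Nat.card (G ⧸ P) < Nat.card G → SZProp (G ⧸ P) :=
      fun P _ hP => ih (Nat.card (G ⧸ P)) (hn ▸ hP) (G ⧸ P) rfl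
    rcases hsolv with hNs | hHs
    · exact sz_case1 N H K hH hK hcop hNs ihL
    · exact sz_case2 N H K hH hK hcop hHs ihL ihQ

/-- Schur–Zassenhaus conjugacy -/
theorem sz_conj {G : Type u} [Group G] [Finite G] (N : Subgroup G) [N.Normal] (H K : Subgroup G)
    (hH : Subgroup.IsComplement' N H) (hK : Subgroup.IsComplement' N K)
    (hcop : (Nat.card N).Coprime (Nat.card H)) (hsolv : Group.IsSolvable N ∨ Group.IsSolvable H) :
    ∃ g : G, MulAut.conj g • H = K :=
  sz_conj_aux _ G rfl N H K hH hK hcop hsolv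

end Cfsg.Agent.H1
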