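import Mathlib
import Cfsg.Agent.H1.SZConj
import Cfsg.Agent.H1.SylowMore

/-! Coprime action via Schur–Zassenhaus (helper1). -/

namespace Cfsg.Agent.H1

open scoped Pointwise commutatorElement

variable {G : Type*} [Group G]

lemma mem_sup_of_le_normalizer (K₀ A : Subgroup G) (hAK : A ≤ Subgroup.normalizer (K₀ : Set G)) {g : G} :
    g ∈ K₀ ⊔ A ↔ ∃ n ∈ K₀, ∃ a ∈ A, g = n * a := by
  have h := Subgroup.coe_mul_of_right_le_normalizer_left K₀ A hAK
  constructor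
  · intro hg
    have : g ∈ ((K₀ ⊔ A : Subgroup G) : Set G) := hg
    rw [h] at this
    obtain ⟨n, hn, a, ha, rfl⟩ := this
    exact ⟨n, hn, a, ha, rfl⟩
  · rintro ⟨n, hn, a, ha, rfl⟩
    exact mul_mem (Subgroup.mem_sup_left hn) (Subgroup.mem_sup_right ha)

/-- if `c ∈ K` normalizes `A` and `K ∩ A = 1` with `A` normalizing `K`, then `c` centralizes `A` -/
lemma mem_centralizer_of_conj_eq (A K : Subgroup G) (hAK : A ≤ Subgroup.normalizer (K : Set G))
    (hdisj : K ⊓ A = ⊥) (c : G) (hcK : c ∈ K) (hc : MulAut.conj c • A = A) :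
    c ∈ Subgroup.centralizer (A : Set G) := by
  rw [Subgroup.mem_centralizer_iff]
  intro u hu
  have h1 : c * u * c⁻¹ ∈ A := by
    have : c * u * c⁻¹ ∈ MulAut.conj c • A := (conj_mem_conj_smul _ _ _).mpr hu
    rw [hc] at this; exact this
  have h2 : ⁅c, u⁆ ∈ A := by
    rw [commutatorElement_def]; exact mul_mem h1 (inv_mem hu)
  have h3 : ⁅c, u⁆ ∈ K := by
    rw [commutatorElement_def, mul_assoc, mul_assoc]
    refine mul_mem hcK ?_
    rw [← mul_assoc]
    exact (Subgroup.mem_normalizer_iff.mp (hAK hu) c⁻¹).mp (inv_mem hcK)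
  have h4 : ⁅c, u⁆ ∈ K ⊓ A := Subgroup.mem_inf.mpr ⟨h3, h2⟩
  rw [hdisj, Subgroup.mem_bot, commutatorElement_eq_one_iff_mul_comm] at h4
  exact h4.symm

/-- relative Schur–Zassenhaus conjugacy for coprime action -/
lemma coprime_conj [Finite G] (A K₀ B : Subgroup G) (hAK : A ≤ Subgroup.normalizer (K₀ : Set G))
    (hcop : (Nat.card A).Coprime (Nat.card K₀)) (hsolv : Group.IsSolvable A ∨ Group.IsSolvable K₀)
    (hB : B ≤ K₀ ⊔ A) (hcard : Nat.card B = Nat.card A) : ∃ n ∈ K₀, MulAut.conj n • A = B := by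
  have hLn : K₀ ⊔ A ≤ Subgroup.normalizer (K₀ : Set G) := sup_le Subgroup.le_normalizer hAK
  have hdA : K₀ ⊓ A = ⊥ := (Subgroup.disjoint_of_coprime_natCard hcop.symm).eq_bot
  have hdB : K₀ ⊓ B = ⊥ := (Subgroup.disjoint_of_coprime_natCard (hcard ▸ hcop.symm)).eq_bot
  have hsB : K₀ ⊔ B = K₀ ⊔ A := by
    apply Subgroup.eq_of_le_of_card_ge (sup_le le_sup_left hB)
    have h1 := card_sup_mul_card_inf B K₀ (hB.trans hLn)
    have h2 := card_sup_mul_card_inf A K₀ hAK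
    rw [inf_comm, hdB, Subgroup.card_bot, mul_one, sup_comm] at h1
    rw [inf_comm, hdA, Subgroup.card_bot, mul_one, sup_comm] at h2
    rw [h1, h2, hcard]
  obtain ⟨g, hgL, hg⟩ := sz_relative (K₀ ⊔ A) K₀ A B le_sup_left hLn le_sup_right hB hdA rfl hdB hsB hcop.symm
    hsolv.symm (fun N _ H K h1 h2 h3 h4 => sz_conj N H K h1 h2 h3 h4)
  obtain ⟨n, hn, a, ha, rfl⟩ := (mem_sup_of_le_normalizer K₀ A hAK).mp hgL
  refine ⟨n, hn, ?_⟩
  have haA : MulAut.conj a • A = A := by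
    rw [conj_smul_eq_map]; exact map_conj_of_mem A a ha
  rw [map_mul, mul_smul, haA] at hg
  exact hg

lemma sylow_smul_map_subtype {G : Type*} [Group G] {p : ℕ} (K : Subgroup G) (P₀ : Sylow p K) (k : K) :
    ((k • P₀ : Sylow p K) : Subgroup K).map K.subtype = ((P₀ : Subgroup K).map K.subtype).map (MulAut.conj (k : G)).toMonoidHom := by
  ext x
  rw [mem_map_conj_iff]
  constructor
  · rintro ⟨y, hy, rfl⟩
    have hy' : y ∈ k • P₀ := hy
    rw [mem_sylow_smul] at hy'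
    exact ⟨k⁻¹ * y * k, hy', by simp⟩
  · rintro ⟨y, hy, hyx⟩
    have hxK : x ∈ K := by
      have e : x = (k : G) * ((k : G)⁻¹ * x * k) * (k : G)⁻¹ := by group
      rw [e, ← hyx]
      exact mul_mem (mul_mem k.2 y.2) (inv_mem k.2)
    refine ⟨⟨x, hxK⟩, ?_, rfl⟩
    show (⟨x, hxK⟩ : K) ∈ k • P₀
    rw [mem_sylow_smul]
    have : k⁻¹ * (⟨x, hxK⟩ : K) * k = y := by
      apply Subtype.ext
      simpa using hyx.symm
    rw [this]; exact hy

end Cfsg.Agent.H1
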