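import Mathlib
import Cfsg.Agent.H1.Basic
import Cfsg.Agent.H1.SylowMore

/-! The Baer–Suzuki theorem (helper1): `baer_suzuki_sylow`, `baer_suzuki`. -/

set_option autoImplicit false
open scoped Pointwise commutatorElement

namespace Cfsg.Agent.H1

lemma lt_normalizer_inf_of_pgroup {G : Type*} [Group G] [Finite G] {p : ℕ} [Fact p.Prime] (F D : Subgroup G)
    (hD : IsPGroup p D) (hFD : F < D) : F < Subgroup.normalizer (F : Set G) ⊓ D := by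
  have hnil : Group.IsNilpotent D := hD.isNilpotent
  have hnc := @Group.normalizerCondition_of_isNilpotent D _ hnil
  have hlt : F.subgroupOf D < ⊤ := by
    rw [lt_top_iff_ne_top, Ne, Subgroup.subgroupOf_eq_top]
    exact not_le_of_gt hFD
  have h1 := hnc _ hlt
  rw [← Subgroup.subgroupOf_normalizer_eq hFD.le] at h1
  obtain ⟨x, hx1, hx2⟩ := SetLike.exists_of_lt h1
  refine lt_of_le_of_ne (le_inf Subgroup.le_normalizer hFD.le) ?_
  intro heq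
  apply hx2
  rw [Subgroup.mem_subgroupOf] at hx1 ⊢
  rw [heq]
  exact Subgroup.mem_inf.mpr ⟨hx1, x.2⟩

lemma exists_normalizing_member {G : Type*} [Group G] [Finite G] {p : ℕ} [Fact p.Prime] (P : Subgroup G)
    (hP : IsPGroup p P) (Δ Γ : Set (Subgroup G)) (hΔP : ∀ Y ∈ Δ, Y ≤ P)
    (hconj : ∀ Y ∈ Δ, ∀ g ∈ P, MulAut.conj g • Y ∈ Δ) (hΓ : Γ ⊂ Δ) :
    ∃ Y ∈ Δ, Y ∉ Γ ∧ Y ≤ Subgroup.normalizer ((sSup Γ : Subgroup G) : Set G) := by
  obtain ⟨Y₀, hY₀Δ, hY₀Γ⟩ := Set.exists_of_ssubset hΓ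
  by_cases hY₀ : Y₀ ≤ sSup Γ
  · exact ⟨Y₀, hY₀Δ, hY₀Γ, hY₀.trans Subgroup.le_normalizer⟩
  have hED : sSup Γ ≤ sSup Δ := sSup_le_sSup hΓ.subset
  have hDP : sSup Δ ≤ P := sSup_le hΔP
  obtain ⟨F, hF, hFmax⟩ := (wellFounded_gt (α := Subgroup G)).has_min
    {F : Subgroup G | sSup Γ ≤ F ∧ F ≤ sSup Δ ∧ ∀ Y ∈ Δ, Y ≤ F → Y ≤ sSup Γ}
    ⟨sSup Γ, le_rfl, hED, fun _ _ h => h⟩
  obtain ⟨hEF, hFD, hFstar⟩ := hF
  have hFne : F ≠ sSup Δ := by
    rintro rfl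
    exact hY₀ (hFstar Y₀ hY₀Δ (le_sSup hY₀Δ))
  have hFlt : F < sSup Δ := lt_of_le_of_ne hFD hFne
  have hlt := lt_normalizer_inf_of_pgroup F (sSup Δ) (hP.to_le hDP) hFlt
  have hnot : ¬ (∀ Y ∈ Δ, Y ≤ Subgroup.normalizer (F : Set G) ⊓ sSup Δ → Y ≤ sSup Γ) := by
    intro hall
    exact hFmax _ ⟨hEF.trans hlt.le, inf_le_right, hall⟩ hlt
  push Not at hnot
  obtain ⟨Y, hYΔ, hYF', hYE⟩ := hnot
  refine ⟨Y, hYΔ, fun hYΓ => hYE (le_sSup hYΓ), ?_⟩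
  intro y hy
  apply mem_normalizer_of_map_conj_le
  rw [Subgroup.map_le_iff_le_comap]
  apply sSup_le
  intro Z hZ
  rw [← Subgroup.map_le_iff_le_comap, ← conj_smul_eq_map]
  have hyF : y ∈ Subgroup.normalizer (F : Set G) := (Subgroup.mem_inf.mp (hYF' hy)).1
  have hyP : y ∈ P := hDP (Subgroup.mem_inf.mp (hYF' hy)).2
  apply hFstar _ (hconj Z (hΓ.subset hZ) y hyP)
  have hZF : Z ≤ F := (le_sSup hZ).trans hEF
  intro x hx
  rw [mem_conj_smul] at hx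
  have := (Subgroup.mem_normalizer_iff.mp hyF _).mp (hZF hx)
  have e : y * (y⁻¹ * x * y) * y⁻¹ = x := by group
  rwa [e] at this

lemma conj_smul_le_iff {G : Type*} [Group G] (g : G) (H K : Subgroup G) :
    MulAut.conj g • H ≤ MulAut.conj g • K ↔ H ≤ K := by
  constructor
  · intro h x hx
    have := h ((conj_mem_conj_smul g x H).mpr hx)
    exact (conj_mem_conj_smul g x K).mp this
  · intro h x hx
    rw [mem_conj_smul] at hx ⊢
    exact h hx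

theorem baer_suzuki_sylow {G : Type*} [Group G] [Finite G] {p : ℕ} [Fact p.Prime] (X : Subgroup G)
    (hX : IsPGroup p X) (h : ∀ g : G, IsPGroup p ↥(X ⊔ MulAut.conj g • X)) (Q₀ : Sylow p G) :
    X ≤ Q₀ := by
  by_contra hXQ₀
  obtain ⟨P₀, hXP₀⟩ := hX.exists_le_sylow
  -- the family of conjugates
  obtain ⟨Δ, hΔ⟩ : ∃ Δ : Set (Subgroup G), Δ = Set.range (fun g : G => MulAut.conj g • X) := ⟨_, rfl⟩
  have hXΔ : X ∈ Δ := by rw [hΔ]; exact ⟨1, by simp⟩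
  have hΔconj : ∀ Y ∈ Δ, ∀ a : G, MulAut.conj a • Y ∈ Δ := by
    intro Y hY a
    rw [hΔ] at hY ⊢
    obtain ⟨g, rfl⟩ := hY
    exact ⟨a * g, by simp [mul_smul]⟩
  have hpair : ∀ Y ∈ Δ, ∀ Z ∈ Δ, IsPGroup p ↥(Y ⊔ Z) := by
    intro Y hY Z hZ
    rw [hΔ] at hY hZ
    obtain ⟨a, rfl⟩ := hY
    obtain ⟨b, rfl⟩ := hZ
    have h1 := h (a⁻¹ * b)
    have h2 : MulAut.conj a • X ⊔ MulAut.conj b • X = MulAut.conj a • (X ⊔ MulAut.conj (a⁻¹ * b) • X) := by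
      rw [Subgroup.smul_sup, ← mul_smul, ← map_mul, mul_inv_cancel_left]
    rw [h2, conj_smul_eq_map]
    exact h1.map _
  -- members of Δ inside a subgroup
  obtain ⟨D, hD⟩ : ∃ D : Subgroup G → Set (Subgroup G), D = fun S => {Y | Y ∈ Δ ∧ Y ≤ S} := ⟨_, rfl⟩
  have hDmem : ∀ S Y, Y ∈ D S ↔ Y ∈ Δ ∧ Y ≤ S := by intro S Y; rw [hD]; rfl
  -- conjugate Sylows have the same number of members
  have hcard : ∀ P Q : Sylow p G, (D P).ncard = (D Q).ncard := by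
    intro P Q
    obtain ⟨g, rfl⟩ := MulAction.exists_smul_eq G P Q
    have : D ((g • P : Sylow p G) : Subgroup G) = (fun Y => MulAut.conj g • Y) '' D P := by
      ext Y
      rw [hDmem, Set.mem_image]
      constructor
      · rintro ⟨hY, hYP⟩
        refine ⟨MulAut.conj g⁻¹ • Y, (hDmem _ _).mpr ⟨hΔconj Y hY _, ?_⟩, by simp [← mul_smul]⟩
        rw [← conj_smul_le_iff g, ← mul_smul, ← map_mul, mul_inv_cancel, map_one, one_smul]
        exact hYP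
      · rintro ⟨Z, hZ, rfl⟩
        rw [hDmem] at hZ
        exact ⟨hΔconj Z hZ.1 g, (conj_smul_le_iff g Z P).mpr hZ.2⟩
    rw [this]
    exact (Set.ncard_image_of_injective _ (MulAction.injective (MulAut.conj g))).symm
  -- choose a pair of Sylow subgroups with different member sets and maximal common members
  have hne : ({PQ : Sylow p G × Sylow p G | D PQ.1 ≠ D PQ.2}).Nonempty := by
    refine ⟨(P₀, Q₀), ?_⟩
    intro heq
    have h1 : X ∈ D (P₀ : Subgroup G) := (hDmem _ _).mpr ⟨hXΔ, hXP₀⟩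
    rw [heq, hDmem] at h1
    exact hXQ₀ h1.2
  obtain ⟨⟨P, Q⟩, hPQ, hmax⟩ := Set.exists_max_image {PQ : Sylow p G × Sylow p G | D PQ.1 ≠ D PQ.2}
    (fun PQ => (D ((PQ.1 : Subgroup G) ⊓ PQ.2)).ncard) (Set.toFinite _) hne
  have hPQ' : D (P : Subgroup G) ≠ D (Q : Subgroup G) := hPQ
  have hmax' : ∀ P' Q' : Sylow p G, D (P' : Subgroup G) ≠ D (Q' : Subgroup G) →
      (D ((P' : Subgroup G) ⊓ Q')).ncard ≤ (D ((P : Subgroup G) ⊓ Q)).ncard :=
    fun P' Q' hne' => hmax (P', Q') hne'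
  obtain ⟨Γ, hΓ⟩ : ∃ Γ : Set (Subgroup G), Γ = D ((P : Subgroup G) ⊓ Q) := ⟨_, rfl⟩
  have hΓmem : ∀ Y, Y ∈ Γ ↔ Y ∈ Δ ∧ Y ≤ P ∧ Y ≤ Q := by
    intro Y; rw [hΓ, hDmem, le_inf_iff]
  have hΓP : Γ ⊂ D (P : Subgroup G) := by
    refine ⟨fun Y hY => (hDmem _ _).mpr ⟨((hΓmem Y).mp hY).1, ((hΓmem Y).mp hY).2.1⟩, ?_⟩
    intro hsub
    apply hPQ'
    apply Set.eq_of_subset_of_ncard_le _ (hcard Q P).le (Set.toFinite _)
    intro Y hY
    have := (hΓmem Y).mp (hsub hY)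
    exact (hDmem _ _).mpr ⟨this.1, this.2.2⟩
  have hΓQ : Γ ⊂ D (Q : Subgroup G) := by
    refine ⟨fun Y hY => (hDmem _ _).mpr ⟨((hΓmem Y).mp hY).1, ((hΓmem Y).mp hY).2.2⟩, ?_⟩
    intro hsub
    apply hPQ'.symm
    apply Set.eq_of_subset_of_ncard_le _ (hcard P Q).le (Set.toFinite _)
    intro Y hY
    have := (hΓmem Y).mp (hsub hY)
    exact (hDmem _ _).mpr ⟨this.1, this.2.1⟩
  have hclosed : ∀ S : Sylow p G, ∀ Y ∈ D (S : Subgroup G), ∀ g ∈ (S : Subgroup G), MulAut.conj g • Y ∈ D (S : Subgroup G) := by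
    intro S Y hY g hg
    rw [hDmem] at hY ⊢
    refine ⟨hΔconj Y hY.1 g, ?_⟩
    intro x hx
    rw [mem_conj_smul] at hx
    have : x = g * (g⁻¹ * x * g) * g⁻¹ := by group
    rw [this]
    exact mul_mem (mul_mem hg (hY.2 hx)) (inv_mem hg)
  obtain ⟨Y, hYP, hYΓ, hYn⟩ := exists_normalizing_member (P : Subgroup G) P.isPGroup' (D (P : Subgroup G)) Γ
    (fun Y hY => ((hDmem _ _).mp hY).2) (hclosed P) hΓP
  obtain ⟨Z, hZQ, hZΓ, hZn⟩ := exists_normalizing_member (Q : Subgroup G) Q.isPGroup' (D (Q : Subgroup G)) Γ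
    (fun Y hY => ((hDmem _ _).mp hY).2) (hclosed Q) hΓQ
  rw [hDmem] at hYP hZQ
  have hE : IsPGroup p (sSup Γ : Subgroup G) := by
    apply P.isPGroup'.to_le
    apply sSup_le
    intro W hW
    exact ((hΓmem W).mp hW).2.1
  have hT : IsPGroup p ↥((Y ⊔ Z) ⊔ sSup Γ : Subgroup G) :=
    IsPGroup.to_sup_of_normal_right' (hpair Y hYP.1 Z hZQ.1) hE (sup_le hYn hZn)
  obtain ⟨R, hR⟩ := hT.exists_le_sylow
  have hΓR : ∀ W ∈ Γ, W ≤ R := fun W hW => (le_sSup hW).trans (le_sup_right.trans hR)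
  have hYR : Y ≤ R := (le_sup_left.trans le_sup_left).trans hR
  have hZR : Z ≤ R := (le_sup_right.trans le_sup_left).trans hR
  have h1 : D (P : Subgroup G) = D (R : Subgroup G) := by
    by_contra hne'
    have hle := hmax' P R hne'
    have hlt : Γ.ncard < (D ((P : Subgroup G) ⊓ R)).ncard := by
      apply Set.ncard_lt_ncard _ (Set.toFinite _)
      refine ⟨fun W hW => (hDmem _ _).mpr ⟨((hΓmem W).mp hW).1, le_inf ((hΓmem W).mp hW).2.1 (hΓR W hW)⟩, ?_⟩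
      intro hsub
      exact hYΓ (hsub ((hDmem _ _).mpr ⟨hYP.1, le_inf hYP.2 hYR⟩))
    rw [hΓ] at hlt
    omega
  have h2 : D (Q : Subgroup G) = D (R : Subgroup G) := by
    by_contra hne'
    have hle := hmax' Q R hne'
    have hlt : Γ.ncard < (D ((Q : Subgroup G) ⊓ R)).ncard := by
      apply Set.ncard_lt_ncard _ (Set.toFinite _)
      refine ⟨fun W hW => (hDmem _ _).mpr ⟨((hΓmem W).mp hW).1, le_inf ((hΓmem W).mp hW).2.2 (hΓR W hW)⟩, ?_⟩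
      intro hsub
      exact hZΓ (hsub ((hDmem _ _).mpr ⟨hZQ.1, le_inf hZQ.2 hZR⟩))
    rw [hΓ] at hlt
    omega
  exact hPQ' (h1.trans h2.symm)

/-- Baer–Suzuki: `X` lies in a normal `p`-subgroup -/
theorem baer_suzuki {G : Type*} [Group G] [Finite G] {p : ℕ} [Fact p.Prime] (X : Subgroup G)
    (hX : IsPGroup p X) (h : ∀ g : G, IsPGroup p ↥(X ⊔ MulAut.conj g • X)) :
    ∃ N : Subgroup G, N.Normal ∧ IsPGroup p N ∧ X ≤ N := by
  obtain ⟨P₀, -⟩ := hX.exists_le_sylow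
  refine ⟨(P₀ : Subgroup G).normalCore, inferInstance, P₀.isPGroup'.to_le (Subgroup.normalCore_le _), ?_⟩
  intro x hx
  rw [Subgroup.normalCore]
  intro b
  have h1 := baer_suzuki_sylow X hX h (b⁻¹ • P₀) hx
  have h2 : x ∈ MulAut.conj b⁻¹ • (P₀ : Subgroup G) := h1
  rw [mem_conj_smul, inv_inv] at h2
  exact h2

end Cfsg.Agent.H1
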