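import Mathlib
import Cfsg.Prelude.Def_Solvable
import Cfsg.Agent.H1.Basic

/-! Basic facts on `O_p`, `O_{p'}` and the Fitting subgroup (helper1). -/

namespace Cfsg.Agent.H1

open scoped Pointwise

variable {G : Type*} [Group G]

/-- In a finite group, a family of subgroups containing `⊥` and closed under `⊔` contains its
supremum. -/
lemma sSup_mem_of_sup_closed [Finite G] (S : Set (Subgroup G)) (hbot : ⊥ ∈ S)
    (hsup : ∀ A ∈ S, ∀ B ∈ S, A ⊔ B ∈ S) : sSup S ∈ S := by
  have hfin : S.Finite := Set.toFinite S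
  have h1 : sSup S = hfin.toFinset.sup id := by
    rw [Finset.sup_id_eq_sSup]; simp
  rw [h1]
  exact Finset.sup_mem S hbot hsup _ _ (fun i hi => by simpa using hi)

lemma card_sup_dvd_of_normal [Finite G] (N M : Subgroup G) [M.Normal] :
    Nat.card (N ⊔ M : Subgroup G) ∣ Nat.card N * Nat.card M := by
  have h1 : M.relIndex (N ⊔ M) = M.relIndex N := Subgroup.relIndex_sup_right N M
  have h2 : Nat.card (N ⊔ M : Subgroup G) = M.relIndex (N ⊔ M) * Nat.card M := by
    have := Subgroup.relIndex_mul_relIndex (⊥ : Subgroup G) M (N ⊔ M) bot_le le_sup_right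
    rw [Subgroup.relIndex_bot_left, Subgroup.relIndex_bot_left] at this
    rw [← this, mul_comm]
  rw [h2, h1]
  exact Nat.mul_dvd_mul_right (Subgroup.relIndex_dvd_card M N) _

/-! ### `O_{p'}` -/

lemma pPrimeCore_mem [Finite G] (p : ℕ) :
    (Cfsg.pPrimeCore p G).Normal ∧ (Nat.card (Cfsg.pPrimeCore p G)).Coprime p := by
  apply sSup_mem_of_sup_closed {N : Subgroup G | N.Normal ∧ (Nat.card N).Coprime p}
  · refine ⟨inferInstance, ?_⟩
    rw [Subgroup.card_bot]; exact Nat.coprime_one_left p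
  · rintro A ⟨hA1, hA2⟩ B ⟨hB1, hB2⟩
    refine ⟨inferInstance, ?_⟩
    exact Nat.Coprime.coprime_dvd_left (card_sup_dvd_of_normal A B) (Nat.Coprime.mul_left hA2 hB2)

instance pPrimeCore_normal [Finite G] (p : ℕ) : (Cfsg.pPrimeCore p G).Normal := (pPrimeCore_mem p).1

lemma pPrimeCore_coprime [Finite G] (p : ℕ) : (Nat.card (Cfsg.pPrimeCore p G)).Coprime p :=
  (pPrimeCore_mem p).2

lemma le_pPrimeCore {p : ℕ} {N : Subgroup G} (hN : N.Normal) (hc : (Nat.card N).Coprime p) :
    N ≤ Cfsg.pPrimeCore p G := le_sSup ⟨hN, hc⟩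

/-! ### `O_p` -/

instance pCore_normal (p : ℕ) : (Cfsg.pCore p G).Normal :=
  Subgroup.sSup_normal _ (fun _ h => h.1)

lemma pCore_isPGroup (p : ℕ) : IsPGroup p (Cfsg.pCore p G) :=
  Sylow.sSup_of_normal _ (fun _ h => h.2) (fun _ h => h.1)

lemma le_pCore {p : ℕ} {N : Subgroup G} (hN : N.Normal) (hp : IsPGroup p N) :
    N ≤ Cfsg.pCore p G := le_sSup ⟨hN, hp⟩

lemma pCore_le_sylow {p : ℕ} (P : Sylow p G) : Cfsg.pCore p G ≤ P :=
  (pCore_isPGroup p).le_sylow_of_normal P

/-! ### Fitting subgroup -/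

/-- a subgroup containing a Sylow `p`-subgroup for each prime `p` is everything -/
lemma eq_top_of_forall_sylow_le [Finite G] (K : Subgroup G)
    (h : ∀ p : ℕ, ∀ [Fact p.Prime], ∃ P : Sylow p G, (P : Subgroup G) ≤ K) : K = ⊤ := by
  rw [← Subgroup.index_eq_one]
  by_contra hne
  obtain ⟨p, hp, hpd⟩ := Nat.exists_prime_and_dvd hne
  have := Fact.mk hp
  obtain ⟨P, hP⟩ := h p
  exact P.not_dvd_index (hpd.trans (Subgroup.index_dvd_of_le hP))

/-- a normal nilpotent subgroup is contained in the join of the `O_p`'s -/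
lemma le_iSup_pCore_of_normal_nilpotent [Finite G] (N : Subgroup G) [N.Normal]
    (hN : Group.IsNilpotent N) : N ≤ ⨆ p : Nat.Primes, Cfsg.pCore (p : ℕ) G := by
  have : (⨆ p : Nat.Primes, Cfsg.pCore (p : ℕ) G).subgroupOf N = ⊤ := by
    apply eq_top_of_forall_sylow_le
    intro p hp
    obtain ⟨P⟩ : Nonempty (Sylow p N) := inferInstance
    refine ⟨P, ?_⟩
    have hPn : (P : Subgroup N).Normal := inferInstance
    have hPc : (P : Subgroup N).Characteristic := Sylow.characteristic_of_normal P hPn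
    have hPG : ((P : Subgroup N).map N.subtype).Normal := ConjAct.normal_of_characteristic_of_normal
    have hPp : IsPGroup p ((P : Subgroup N).map N.subtype) := P.isPGroup'.map _
    have hle : (P : Subgroup N).map N.subtype ≤ ⨆ p : Nat.Primes, Cfsg.pCore (p : ℕ) G :=
      (le_pCore hPG hPp).trans (le_iSup (fun q : Nat.Primes => Cfsg.pCore (q : ℕ) G) ⟨p, hp.out⟩)
    intro x hx
    rw [Subgroup.mem_subgroupOf]
    exact hle ⟨x, hx, rfl⟩
  rwa [Subgroup.subgroupOf_eq_top] at this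

lemma sylow_normal_of_le_sup [Finite G] {p : ℕ} [Fact p.Prime] (K Y X : Subgroup G) [Y.Normal]
    [X.Normal] (hY : IsPGroup p Y) (hX : (Nat.card X).Coprime p) (hYK : Y ≤ K) (hK : K ≤ Y ⊔ X)
    (P : Sylow p K) : (P : Subgroup K).Normal := by
  have hidx : ¬ p ∣ (Y.subgroupOf K).index := by
    have h1 : Y.relIndex K ∣ Y.relIndex (Y ⊔ X) :=
      Dvd.intro _ (Subgroup.relIndex_mul_relIndex Y K (Y ⊔ X) hYK hK)
    have h2 : Y.relIndex (Y ⊔ X) = Y.relIndex X := Subgroup.relIndex_sup_left X Y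
    have h3 : Y.relIndex X ∣ Nat.card X := Subgroup.relIndex_dvd_card Y X
    intro hp
    have : p ∣ Nat.card X := (hp.trans h1).trans (h2 ▸ h3)
    exact (Nat.Prime.coprime_iff_not_dvd Fact.out).mp hX.symm this
  let Q : Sylow p K := (hY.comap_subtype (K := K)).toSylow hidx
  have hQn : (Q : Subgroup K).Normal := by
    show (Y.subgroupOf K).Normal
    infer_instance
  obtain ⟨g, rfl⟩ := MulAction.exists_smul_eq K Q P
  rw [Sylow.smul_eq_of_normal]
  exact hQn

lemma pCore_coprime_of_ne [Finite G] {p q : ℕ} (hp : p.Prime) (hq : q.Prime) (hne : q ≠ p) :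
    (Nat.card (Cfsg.pCore q G)).Coprime p := by
  have := Fact.mk hq
  obtain ⟨n, hn⟩ := (pCore_isPGroup (G := G) q).exists_card_eq
  rw [hn]
  exact Nat.Coprime.pow_left n ((Nat.coprime_primes hq hp).mpr hne)

lemma iSup_pCore_nilpotent [Finite G] :
    Group.IsNilpotent (⨆ p : Nat.Primes, Cfsg.pCore (p : ℕ) G : Subgroup G) := by
  apply (Group.isNilpotent_of_finite_tfae.out 0 3).mpr
  intro p hp P
  refine sylow_normal_of_le_sup (p := p) _ (Cfsg.pCore p G) (Cfsg.pPrimeCore p G) (pCore_isPGroup p)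
    (pPrimeCore_coprime p) (le_iSup (fun q : Nat.Primes => Cfsg.pCore (q : ℕ) G) ⟨p, hp.out⟩) ?_ P
  apply iSup_le
  intro q
  by_cases hq : (q : ℕ) = p
  · rw [hq]; exact le_sup_left
  · exact le_trans (le_pPrimeCore inferInstance (pCore_coprime_of_ne hp.out q.2 hq)) le_sup_right

lemma fittingSubgroup_eq_iSup_pCore [Finite G] :
    Cfsg.fittingSubgroup G = ⨆ p : Nat.Primes, Cfsg.pCore (p : ℕ) G := by
  apply le_antisymm
  · apply sSup_le
    rintro N ⟨hN1, hN2⟩
    exact le_iSup_pCore_of_normal_nilpotent N hN2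
  · apply iSup_le
    intro p
    apply le_sSup
    have := Fact.mk p.2
    exact ⟨inferInstance, (pCore_isPGroup (G := G) (p : ℕ)).isNilpotent⟩

lemma fittingSubgroup_nilpotent [Finite G] : Group.IsNilpotent (Cfsg.fittingSubgroup G) := by
  rw [fittingSubgroup_eq_iSup_pCore]
  exact iSup_pCore_nilpotent

instance fittingSubgroup_normal : (Cfsg.fittingSubgroup G).Normal :=
  Subgroup.sSup_normal _ (fun _ h => h.1)

lemma le_fittingSubgroup {N : Subgroup G} (hN : N.Normal) (hn : Group.IsNilpotent N) :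
    N ≤ Cfsg.fittingSubgroup G := le_sSup ⟨hN, hn⟩

end Cfsg.Agent.H1
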