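import Mathlib
import Cfsg.Prelude.Def_Solvable
import Cfsg.Agent.H1.Basic
import Cfsg.Agent.H1.FrobeniusCount
import Cfsg.Agent.H1.BaerSuzuki
import Cfsg.Agent.H1.SZConj

set_option autoImplicit false

namespace Cfsg.Agent.H1

open scoped Pointwise

universe u

/-- normalizer condition, stated inside the ambient group -/
lemma lt_normalizer_inf_of_nilpotent {G : Type*} [Group G] [Finite G] (F D : Subgroup G)
    (hD : Group.IsNilpotent D) (hFD : F < D) : F < Subgroup.normalizer (F : Set G) ⊓ D := by
  have hnc := @Group.normalizerCondition_of_isNilpotent D _ hD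
  have hlt : F.subgroupOf D < ⊤ := by
    rw [lt_top_iff_ne_top, Ne, Subgroup.subgroupOf_eq_top]
    exact not_le_of_gt hFD
  have h1 := hnc _ hlt
  rw [← Subgroup.subgroupOf_normalizer_eq hFD.le] at h1
  obtain ⟨x, hx1, hx2⟩ := SetLike.exists_of_lt h1
  refine lt_of_le_of_ne (le_inf Subgroup.le_normalizer hFD.le) ?_
  intro heq
  apply hx2
  rw [Subgroup.mem_subgroupOf] at hx1 ⊢
  rw [heq]
  exact Subgroup.mem_inf.mpr ⟨hx1, x.2⟩

/-- in a simple group with all maximal subgroups nilpotent, distinct maximal subgroups meet trivially -/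
lemma coatom_inf_eq_bot_of_simple {X : Type*} [Group X] [Finite X] [IsSimpleGroup X]
    (h : ∀ M : Subgroup X, IsCoatom M → Group.IsNilpotent M) :
    ∀ M₁ M₂ : Subgroup X, IsCoatom M₁ → IsCoatom M₂ → M₁ ≠ M₂ → M₁ ⊓ M₂ = ⊥ := by
  by_contra hcon
  push Not at hcon
  let S := {p : Subgroup X × Subgroup X // IsCoatom p.1 ∧ IsCoatom p.2 ∧ p.1 ≠ p.2 ∧ p.1 ⊓ p.2 ≠ ⊥}
  haveI : Nonempty S := by
    obtain ⟨M₁, M₂, h1, h2, h3, h4⟩ := hcon
    exact ⟨⟨(M₁, M₂), h1, h2, h3, h4⟩⟩
  obtain ⟨⟨⟨M₁, M₂⟩, hM₁, hM₂, hne, hD⟩, hmax⟩ := Finite.exists_max (fun p : S => Nat.card (p.1.1 ⊓ p.1.2 : Subgroup X))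
  simp only at hM₁ hM₂ hne hD hmax
  set D := M₁ ⊓ M₂ with hDdef
  -- normalizer of D is proper
  have hNtop : Subgroup.normalizer (D : Set X) ≠ ⊤ := by
    intro htop
    rw [Subgroup.normalizer_eq_top_iff] at htop
    rcases htop.eq_bot_or_eq_top with h1 | h1
    · exact hD h1
    · have : M₁ = ⊤ := top_le_iff.mp (h1 ▸ inf_le_left)
      exact hM₁.1 this
  obtain ⟨M, hM, hNM⟩ := (eq_top_or_exists_le_coatom _).resolve_left hNtop
  have key : ∀ M' M'' : Subgroup X, IsCoatom M' → IsCoatom M'' → M' ≠ M'' → M' ⊓ M'' = D → M = M' := by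
    intro M' M'' hM' hM'' hne' hD'
    by_contra hMM'
    have hDlt : D < M' := by
      refine lt_of_le_of_ne (hD' ▸ inf_le_left) ?_
      intro heq
      have : M' ≤ M'' := by rw [← heq, ← hD']; exact inf_le_right
      exact hne' ((hM'.le_iff_eq hM''.1).mp this).symm
    have h1 := lt_normalizer_inf_of_nilpotent D M' (h M' hM') hDlt
    have h2 : Subgroup.normalizer (D : Set X) ⊓ M' ≤ M ⊓ M' := inf_le_inf_right _ hNM
    have h3 : D < M ⊓ M' := lt_of_lt_of_le h1 h2
    have h4 : M ⊓ M' ≠ ⊥ := by
      intro h5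
      rw [h5] at h3
      exact not_lt_bot h3
    have := hmax ⟨(M, M'), hM, hM', hMM', h4⟩
    simp only at this
    have h6 := card_lt_card_of_lt' h3
    omega
  have e1 := key M₁ M₂ hM₁ hM₂ hne rfl
  have e2 := key M₂ M₁ hM₂ hM₁ hne.symm (inf_comm _ _)
  exact hne (e1.symm.trans e2)

lemma conj_smul_isCoatom {X : Type*} [Group X] (g : X) {M : Subgroup X} (hM : IsCoatom M) :
    IsCoatom (MulAut.conj g • M) :=
  (OrderIso.isCoatom_iff (MulEquiv.mapSubgroup (MulAut.conj g)) M).mpr hM

/-- in a nonabelian simple group with all maximal subgroups nilpotent, every maximal subgroup is a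
Frobenius complement -/
lemma coatom_isFrobeniusComplement {X : Type*} [Group X] [Finite X] [IsSimpleGroup X]
    (hnc : ¬ ∀ a b : X, a * b = b * a)
    (h : ∀ M : Subgroup X, IsCoatom M → Group.IsNilpotent M) (M : Subgroup X) (hM : IsCoatom M) :
    Cfsg.IsFrobeniusComplement M := by
  have hMbot : M ≠ ⊥ := by
    rintro rfl
    apply hnc
    -- X is cyclic
    obtain ⟨x, hx⟩ : ∃ x : X, x ≠ 1 := by
      by_contra hcon
      push Not at hcon
      apply hnc
      intro a b
      rw [hcon a, hcon b]
    have hz : Subgroup.zpowers x = ⊤ := by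
      by_contra hne
      have h1 : (⊥ : Subgroup X) < Subgroup.zpowers x := by
        rw [bot_lt_iff_ne_bot]
        intro h2
        rw [Subgroup.zpowers_eq_bot] at h2
        exact hx h2
      exact hne (hM.2 _ h1)
    intro a b
    have ha : a ∈ Subgroup.zpowers x := hz ▸ Subgroup.mem_top a
    have hb : b ∈ Subgroup.zpowers x := hz ▸ Subgroup.mem_top b
    obtain ⟨i, rfl⟩ := Subgroup.mem_zpowers_iff.mp ha
    obtain ⟨j, rfl⟩ := Subgroup.mem_zpowers_iff.mp hb
    rw [← zpow_add, ← zpow_add, add_comm]
  refine ⟨hMbot, hM.1, ?_⟩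
  intro g hg
  apply coatom_inf_eq_bot_of_simple h M _ hM (conj_smul_isCoatom g hM)
  intro heq
  -- g normalizes M, so M is normal
  have hnorm : Subgroup.normalizer (M : Set X) = M := by
    rcases eq_or_ne (Subgroup.normalizer (M : Set X)) ⊤ with h1 | h1
    · rw [Subgroup.normalizer_eq_top_iff] at h1
      rcases h1.eq_bot_or_eq_top with h2 | h2
      · exact absurd h2 hMbot
      · exact absurd h2 hM.1
    · by_contra h2
      exact h1 (hM.2 _ (lt_of_le_of_ne Subgroup.le_normalizer (Ne.symm h2)))
  apply hg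
  rw [← hnorm]
  rw [Subgroup.mem_normalizer_iff]
  intro x
  constructor
  · intro hx
    have : g * x * g⁻¹ ∈ MulAut.conj g • M := (conj_mem_conj_smul g x M).mpr hx
    rwa [← heq] at this
  · intro hx
    rw [heq] at hx
    exact (conj_mem_conj_smul g x M).mp hx

/-- contradiction: a nonabelian simple group cannot have all maximal subgroups nilpotent -/
lemma false_of_simple_of_max_nilpotent {X : Type*} [Group X] [Finite X] [IsSimpleGroup X]
    (hnc : ¬ ∀ a b : X, a * b = b * a)
    (h : ∀ M : Subgroup X, IsCoatom M → Group.IsNilpotent M) : False := by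
  have hnt : Nontrivial X := IsSimpleGroup.toNontrivial
  -- X is not cyclic: every element generates a proper subgroup
  have hzp : ∀ x : X, Subgroup.zpowers x ≠ ⊤ := by
    intro x hz
    apply hnc
    intro a b
    have ha : a ∈ Subgroup.zpowers x := hz ▸ Subgroup.mem_top a
    have hb : b ∈ Subgroup.zpowers x := hz ▸ Subgroup.mem_top b
    obtain ⟨i, rfl⟩ := Subgroup.mem_zpowers_iff.mp ha
    obtain ⟨j, rfl⟩ := Subgroup.mem_zpowers_iff.mp hb
    rw [← zpow_add, ← zpow_add, add_comm]
  have hidx_le : ∀ M : Subgroup X, Cfsg.IsFrobeniusComplement M → 2 * M.index ≤ Nat.card X := by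
    intro M hM
    rw [← M.card_mul_index]
    have : 1 < Nat.card M := by
      rw [Subgroup.one_lt_card_iff_ne_bot]; exact hM.1
    exact Nat.mul_le_mul_right _ this
  have hidx_two : ∀ M : Subgroup X, Cfsg.IsFrobeniusComplement M → 2 ≤ M.index := by
    intro M hM
    have h1 : M.index ≠ 1 := fun h1 => hM.2.1 (Subgroup.index_eq_one.mp h1)
    have h0 : M.index ≠ 0 := Subgroup.index_ne_zero_of_finite
    omega
  obtain ⟨M, hM, -⟩ := (eq_top_or_exists_le_coatom (⊥ : Subgroup X)).resolve_left bot_ne_top
  have hMF := coatom_isFrobeniusComplement hnc h M hM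
  have hcM := card_frobeniusKernel M hMF
  -- a nonidentity element of the kernel
  obtain ⟨x, hxK, hx1⟩ : ∃ x ∈ Cfsg.frobeniusKernel M, x ≠ 1 := by
    by_contra hcon
    push Not at hcon
    have hsub : Cfsg.frobeniusKernel M ⊆ {1} := fun y hy => hcon y hy
    have := Set.ncard_le_ncard hsub
    rw [Set.ncard_singleton, ← Nat.card_coe_set_eq, hcM] at this
    have := hidx_two M hMF
    omega
  obtain ⟨L, hL, hxL⟩ := (eq_top_or_exists_le_coatom _).resolve_left (hzp x)
  have hLF := coatom_isFrobeniusComplement hnc h L hL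
  have hcL := card_frobeniusKernel L hLF
  have hxL' : x ∈ L := hxL (Subgroup.mem_zpowers x)
  -- the two kernels cover X
  have hcover : (Set.univ : Set X) ⊆ Cfsg.frobeniusKernel M ∪ Cfsg.frobeniusKernel L := by
    intro y _
    by_contra hy
    rw [Set.mem_union, not_or] at hy
    obtain ⟨hyM, hyL⟩ := hy
    simp only [Cfsg.frobeniusKernel, Set.mem_ofPred_eq, not_or, not_forall, not_not] at hyM hyL
    obtain ⟨hy1, g, hg⟩ := hyM
    obtain ⟨-, k, hk⟩ := hyL
    have heq : MulAut.conj g • M = MulAut.conj k • L := by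
      by_contra hne
      have := coatom_inf_eq_bot_of_simple h _ _ (conj_smul_isCoatom g hM) (conj_smul_isCoatom k hL) hne
      have hmem : y ∈ MulAut.conj g • M ⊓ MulAut.conj k • L := Subgroup.mem_inf.2 ⟨hg, hk⟩
      rw [this, Subgroup.mem_bot] at hmem
      exact hy1 hmem
    have hL2 : L = MulAut.conj (k⁻¹ * g) • M := by
      rw [map_mul, mul_smul, heq, ← mul_smul, ← map_mul, inv_mul_cancel, map_one, one_smul]
    rcases hxK with hx | hx
    · exact hx1 hx
    · exact hx (k⁻¹ * g) (hL2 ▸ hxL')
  have h1 := Set.ncard_le_ncard hcover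
  rw [Set.ncard_univ] at h1
  have h2 := Set.ncard_union_add_ncard_inter (Cfsg.frobeniusKernel M) (Cfsg.frobeniusKernel L)
  have h3 : 0 < (Cfsg.frobeniusKernel M ∩ Cfsg.frobeniusKernel L).ncard := by
    rw [Set.ncard_pos]
    exact ⟨1, Or.inl rfl, Or.inl rfl⟩
  rw [Nat.card_coe_set_eq] at hcM hcL
  rw [hcM, hcL] at h2
  have := hidx_le M hMF
  have := hidx_le L hLF
  omega

theorem schmidt_aux : ∀ n : ℕ, ∀ (X : Type u) [Group X] [Finite X], Nat.card X = n →
    (∀ M : Subgroup X, IsCoatom M → Group.IsNilpotent M) → Group.IsSolvable X := by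
  intro n
  induction n using Nat.strong_induction_on with
  | _ n ih =>
    intro X _ _ hn h
    by_cases hsimple : IsSimpleGroup X
    · by_cases hc : ∀ a b : X, a * b = b * a
      · exact Group.isSolvable_of_comm hc
      · exact (false_of_simple_of_max_nilpotent hc h).elim
    · by_cases htriv : Subsingleton X
      · infer_instance
      · have hnt : Nontrivial X := not_subsingleton_iff_nontrivial.mp htriv
        have : ∃ N : Subgroup X, N.Normal ∧ N ≠ ⊥ ∧ N ≠ ⊤ := by
          by_contra hcon
          apply hsimple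
          refine { exists_pair_ne := hnt.exists_pair_ne, eq_bot_or_eq_top_of_normal := ?_ }
          intro N hN
          by_contra h2
          rw [not_or] at h2
          exact hcon ⟨N, hN, h2.1, h2.2⟩
        obtain ⟨N, hN, hNbot, hNtop⟩ := this
        have hQlt : Nat.card (X ⧸ N) < n := by
          rw [← hn, ← Subgroup.index_eq_card, ← Subgroup.card_mul_index N]
          have h1 : 1 < Nat.card N := by
            rw [Subgroup.one_lt_card_iff_ne_bot]; exact hNbot
          have h2 : 0 < N.index := Nat.pos_of_ne_zero Subgroup.index_ne_zero_of_finite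
          nlinarith
        have s1 : Group.IsSolvable N := by
          obtain ⟨M, hM, hNM⟩ := (eq_top_or_exists_le_coatom N).resolve_left hNtop
          haveI := h M hM
          haveI : Group.IsNilpotent N := by
            apply isNilpotent_of_ker_le_center (Subgroup.inclusion hNM)
            rw [(Subgroup.inclusion hNM).ker_eq_bot_iff.mpr (Subgroup.inclusion_injective hNM)]
            exact bot_le
          infer_instance
        have s2 : Group.IsSolvable (X ⧸ N) := by
          apply ih _ hQlt (X ⧸ N) rfl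
          intro M hM
          have h1 := Subgroup.isCoatom_comap_of_surjective (QuotientGroup.mk'_surjective N) hM
          haveI := h _ h1
          have hsurj : Function.Surjective ((QuotientGroup.mk' N).subgroupComap M) :=
            (QuotientGroup.mk' N).subgroupComap_surjective_of_surjective M (QuotientGroup.mk'_surjective N)
          exact Group.nilpotent_of_surjective _ hsurj
        refine Group.isSolvable_of_ker_le_range N.subtype (QuotientGroup.mk' N) ?_
        rw [QuotientGroup.ker_mk', Subgroup.range_subtype]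


end Cfsg.Agent.H1
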