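import Mathlib
import Cfsg.Prelude.Def_SolvableStructure
import Cfsg.Agent.H1.Basic
import Cfsg.Agent.H1.Card
import Cfsg.Agent.H1.Cores
import Cfsg.Agent.H1.Schmidt
import Cfsg.Agent.Lib.Helper4.Nilpotent

set_option autoImplicit false

namespace Cfsg.Agent.H1

open scoped Pointwise commutatorElement

universe u

/-- a nontrivial finite solvable group has a normal subgroup of prime index -/
lemma exists_normal_prime_index_of_solvable {G : Type*} [Group G] [Finite G] [Group.IsSolvable G] [Nontrivial G] :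
    ∃ M : Subgroup G, M.Normal ∧ M.index.Prime := by
  have hlt : commutator G < ⊤ := Group.IsSolvable.commutator_lt_top_of_nontrivial G
  obtain ⟨M, hM, hle⟩ := (eq_top_or_exists_le_coatom _).resolve_left hlt.ne
  have hMn : M.Normal := by
    constructor
    intro x hx g
    have h1 : ⁅g, x⁆ ∈ commutator G := by
      rw [commutator_def]
      exact Subgroup.commutator_mem_commutator (Subgroup.mem_top g) (Subgroup.mem_top x)
    have h2 : g * x * g⁻¹ = ⁅g, x⁆ * x := by rw [commutatorElement_def]; group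
    rw [h2]
    exact M.mul_mem (hle h1) hx
  refine ⟨M, hMn, ?_⟩
  -- the quotient has only trivial subgroups
  have hq : ∀ K : Subgroup (G ⧸ M), K = ⊥ ∨ K = ⊤ := by
    intro K
    have h1 : M ≤ K.comap (QuotientGroup.mk' M) := by
      intro x hx
      rw [Subgroup.mem_comap]
      have : (QuotientGroup.mk' M) x = 1 := (QuotientGroup.eq_one_iff x).mpr hx
      rw [this]; exact K.one_mem
    rcases eq_or_lt_of_le h1 with h2 | h2
    · left
      rw [eq_bot_iff]
      intro y hy
      obtain ⟨x, rfl⟩ := QuotientGroup.mk'_surjective M y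
      have : x ∈ K.comap (QuotientGroup.mk' M) := hy
      rw [← h2] at this
      rw [Subgroup.mem_bot]
      exact (QuotientGroup.eq_one_iff x).mpr this
    · right
      have h3 := hM.2 _ h2
      rw [eq_top_iff]
      intro y _
      obtain ⟨x, rfl⟩ := QuotientGroup.mk'_surjective M y
      have : x ∈ K.comap (QuotientGroup.mk' M) := h3 ▸ Subgroup.mem_top x
      exact this
  have hnt : Nontrivial (G ⧸ M) := by
    rw [← Finite.one_lt_card_iff_nontrivial, ← Subgroup.index_eq_card]
    have h1 : M.index ≠ 1 := fun h => hM.1 (Subgroup.index_eq_one.mp h)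
    have h0 : M.index ≠ 0 := Subgroup.index_ne_zero_of_finite
    omega
  have hcard1 : Nat.card (G ⧸ M) ≠ 1 := (Finite.one_lt_card_iff_nontrivial.mpr hnt).ne'
  obtain ⟨r, hr, hrd⟩ := Nat.exists_prime_and_dvd hcard1
  haveI : Fact r.Prime := ⟨hr⟩
  obtain ⟨y, hy⟩ := exists_prime_orderOf_dvd_card' r hrd
  have hz : Subgroup.zpowers y = ⊤ := by
    rcases hq (Subgroup.zpowers y) with h1 | h1
    · rw [Subgroup.zpowers_eq_bot] at h1
      rw [h1, orderOf_one] at hy
      exact absurd hy.symm hr.one_lt.ne'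
    · exact h1
  rw [Subgroup.index_eq_card, ← Nat.card_congr (Subgroup.topEquiv (G := G ⧸ M)).toEquiv, ← hz, Nat.card_zpowers, hy]
  exact hr

/-- a `r`-subgroup lies in every normal subgroup of index prime to `r` -/
lemma pgroup_le_normal_of_coprime_index {X : Type*} [Group X] [Finite X] {r : ℕ} [Fact r.Prime]
    (R M : Subgroup X) [M.Normal] (hR : IsPGroup r R) (hM : M.index.Coprime r) : R ≤ M := by
  rw [← Subgroup.relIndex_eq_one]
  have h1 : M.relIndex R ∣ Nat.card R := Subgroup.relIndex_dvd_card M R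
  have h2 : M.relIndex R ∣ M.index := Subgroup.relIndex_dvd_index_of_normal M R
  obtain ⟨k, hk⟩ := hR.exists_card_eq
  rw [hk] at h1
  have h3 : (M.relIndex R).Coprime (r ^ k) := (Nat.Coprime.coprime_dvd_left h2 hM).pow_right k
  exact Nat.Coprime.eq_one_of_dvd h3 h1

/-- a Sylow subgroup of a normal nilpotent subgroup `M` that is Sylow in `X` is normal in `X` -/
lemma sylow_normal_of_le_normal_nilpotent {X : Type*} [Group X] [Finite X] {r : ℕ} [Fact r.Prime]
    (R : Sylow r X) (M : Subgroup X) [hMn : M.Normal] (hM : Group.IsNilpotent M) (hRM : (R : Subgroup X) ≤ M) :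
    (R : Subgroup X).Normal := by
  have h1 : ((R.subtype hRM : Sylow r M) : Subgroup M).Normal := inferInstance
  have h2 : ((R.subtype hRM : Sylow r M) : Subgroup M).Characteristic := Sylow.characteristic_of_normal _ h1
  have h3 : (((R.subtype hRM : Sylow r M) : Subgroup M).map M.subtype).Normal :=
    ConjAct.normal_of_characteristic_of_normal
  rw [Sylow.coe_subtype, Subgroup.map_subgroupOf_eq_of_le hRM] at h3
  exact h3

theorem minimal_non_nilpotent_aux {G : Type u} [Group G] [Finite G] (hG : Cfsg.IsMinimalNonNilpotent G) :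
    ∃ p q : ℕ, p.Prime ∧ q.Prime ∧ p ≠ q ∧ ∃ (P : Sylow p G) (Q : Sylow q G), IsCyclic P ∧ (Q : Subgroup G).Normal ∧
      (P : Subgroup G) ⊔ Q = ⊤ ∧ ¬ (P : Subgroup G).Normal ∧
      (∀ x ∈ (P : Subgroup G), Subgroup.zpowers x ≠ (P : Subgroup G) → ∀ y ∈ (Q : Subgroup G), x * y = y * x) := by
  obtain ⟨hnn, hprop⟩ := hG
  haveI hsol : Group.IsSolvable G := schmidt_aux _ G rfl (fun M hM => hprop M hM.1)
  haveI hnt : Nontrivial G := by
    by_contra h
    rw [not_nontrivial_iff_subsingleton] at h
    apply hnn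
    infer_instance
  obtain ⟨M, hMn, hMp⟩ := exists_normal_prime_index_of_solvable (G := G)
  set p := M.index with hpdef
  haveI : Fact p.Prime := ⟨hMp⟩
  have hMtop : M ≠ ⊤ := by
    intro h
    rw [hpdef, h, Subgroup.index_top] at hMp
    exact Nat.not_prime_one hMp
  have hMnil : Group.IsNilpotent M := hprop M hMtop
  -- Sylow r-subgroups are normal for r ≠ p
  have hnormal : ∀ r : ℕ, ∀ _ : Fact r.Prime, r ≠ p → ∀ R : Sylow r G, (R : Subgroup G).Normal := by
    intro r hr hrp R
    have hRM : (R : Subgroup G) ≤ M := by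
      apply pgroup_le_normal_of_coprime_index (R : Subgroup G) M R.isPGroup'
      exact (Nat.coprime_primes hMp hr.out).mpr (Ne.symm hrp)
    exact sylow_normal_of_le_normal_nilpotent R M hMnil hRM
  -- a non-normal Sylow p-subgroup
  have hex : ∃ P : Sylow p G, ¬ (P : Subgroup G).Normal := by
    by_contra hcon
    push Not at hcon
    apply hnn
    apply (Group.isNilpotent_of_finite_tfae (G := G)).out 3 0 rfl rfl |>.mp
    intro r hr R
    by_cases hrp : r = p
    · subst hrp
      exact hcon R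
    · exact hnormal r hr hrp R
  obtain ⟨P, hPnn⟩ := hex
  -- some Sylow q-subgroup together with P generates G
  have hexq : ∃ q : ℕ, ∃ _ : Fact q.Prime, q ≠ p ∧ ∃ Q : Sylow q G, (P : Subgroup G) ⊔ Q = ⊤ := by
    by_contra hcon
    push Not at hcon
    apply hPnn
    rw [← Subgroup.normalizer_eq_top_iff]
    apply eq_top_of_forall_sylow_le
    intro r hr
    by_cases hrp : r = p
    · subst hrp
      exact ⟨P, Subgroup.le_normalizer⟩
    · obtain Q : Sylow r G := default
      refine ⟨Q, ?_⟩
      have hT := hcon r hr hrp Q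
      haveI hTnil : Group.IsNilpotent ((P : Subgroup G) ⊔ Q : Subgroup G) := hprop _ hT
      have hPT : (P : Subgroup G) ≤ (P : Subgroup G) ⊔ Q := le_sup_left
      have h1 : ((P.subtype hPT : Sylow p _) : Subgroup ((P : Subgroup G) ⊔ Q : Subgroup G)).Normal := inferInstance
      rw [Sylow.coe_subtype, Subgroup.normal_subgroupOf_iff_le_normalizer hPT] at h1
      exact le_sup_right.trans h1
  obtain ⟨q, hq, hqp, Q, hPQ⟩ := hexq
  have hQn : (Q : Subgroup G).Normal := hnormal q hq hqp Q
  have hcop : (Nat.card (P : Subgroup G)).Coprime (Nat.card (Q : Subgroup G)) := by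
    obtain ⟨a, ha⟩ := P.isPGroup'.exists_card_eq
    obtain ⟨b, hb⟩ := Q.isPGroup'.exists_card_eq
    rw [ha, hb]
    exact Nat.Coprime.pow _ _ ((Nat.coprime_primes hMp hq.out).mpr (Ne.symm hqp))
  have hcent : ∀ x ∈ (P : Subgroup G), Subgroup.zpowers x ≠ (P : Subgroup G) → ∀ y ∈ (Q : Subgroup G), x * y = y * x := by
    intro x hx hzx y hy
    have hzP : Subgroup.zpowers x ≤ (P : Subgroup G) := Subgroup.zpowers_le.mpr hx
    have hzlt : Subgroup.zpowers x < (P : Subgroup G) := lt_of_le_of_ne hzP hzx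
    have hnQ : ∀ H : Subgroup G, H ≤ Subgroup.normalizer ((Q : Subgroup G) : Set G) := by
      intro H
      rw [Subgroup.normalizer_eq_top_iff.mpr hQn]; exact le_top
    have c1 := card_sup_mul_card_inf (Subgroup.zpowers x) (Q : Subgroup G) (hnQ _)
    have c2 := card_sup_mul_card_inf (P : Subgroup G) (Q : Subgroup G) (hnQ _)
    have hi2 : (P : Subgroup G) ⊓ Q = ⊥ := (Subgroup.disjoint_of_coprime_natCard hcop).eq_bot
    have hi1 : Subgroup.zpowers x ⊓ (Q : Subgroup G) = ⊥ := by
      rw [eq_bot_iff, ← hi2]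
      exact inf_le_inf_right _ hzP
    rw [hi1, Subgroup.card_bot, mul_one] at c1
    rw [hi2, Subgroup.card_bot, mul_one, hPQ, Subgroup.card_top] at c2
    have hlt := card_lt_card_of_lt' hzlt
    have hT : Subgroup.zpowers x ⊔ (Q : Subgroup G) ≠ ⊤ := by
      intro h
      rw [h, Subgroup.card_top, c2] at c1
      have : 0 < Nat.card (Q : Subgroup G) := Nat.card_pos
      nlinarith
    haveI hTnil : Group.IsNilpotent (Subgroup.zpowers x ⊔ (Q : Subgroup G) : Subgroup G) := hprop _ hT
    have hxT : x ∈ Subgroup.zpowers x ⊔ (Q : Subgroup G) := Subgroup.mem_sup_left (Subgroup.mem_zpowers x)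
    have hyT : y ∈ Subgroup.zpowers x ⊔ (Q : Subgroup G) := Subgroup.mem_sup_right hy
    have hco : (orderOf (⟨x, hxT⟩ : (Subgroup.zpowers x ⊔ (Q : Subgroup G) : Subgroup G))).Coprime
        (orderOf (⟨y, hyT⟩ : (Subgroup.zpowers x ⊔ (Q : Subgroup G) : Subgroup G))) := by
      rw [Subgroup.orderOf_mk, Subgroup.orderOf_mk]
      have h1 : orderOf x ∣ Nat.card (P : Subgroup G) := by
        have := orderOf_dvd_natCard (⟨x, hx⟩ : (P : Subgroup G))
        rwa [Subgroup.orderOf_mk] at this
      have h2 : orderOf y ∣ Nat.card (Q : Subgroup G) := by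
        have := orderOf_dvd_natCard (⟨y, hy⟩ : (Q : Subgroup G))
        rwa [Subgroup.orderOf_mk] at this
      exact Nat.Coprime.coprime_dvd_left h1 (Nat.Coprime.coprime_dvd_right h2 hcop)
    have := Cfsg.Agent.Lib.Helper4.Nilpotent.commute_of_coprime_orderOf _ _ _ hco
    exact congrArg Subtype.val this
  refine ⟨p, q, hMp, hq.out, Ne.symm hqp, P, Q, ?_, hQn, hPQ, hPnn, hcent⟩
  -- P is cyclic
  by_contra hncyc
  apply hPnn
  rw [← Subgroup.normalizer_eq_top_iff, eq_top_iff, ← hPQ]
  apply sup_le Subgroup.le_normalizer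
  have hall : ∀ x ∈ (P : Subgroup G), Subgroup.zpowers x ≠ (P : Subgroup G) := by
    intro x hx hz
    apply hncyc
    refine ⟨⟨⟨x, hx⟩, ?_⟩⟩
    intro y
    have : (y : G) ∈ Subgroup.zpowers x := by rw [hz]; exact y.2
    obtain ⟨k, hk⟩ := Subgroup.mem_zpowers_iff.mp this
    exact ⟨k, Subtype.ext (by simpa using hk)⟩
  intro y hy
  rw [Subgroup.mem_normalizer_iff]
  intro x
  have hconj : ∀ z ∈ (P : Subgroup G), y * z * y⁻¹ = z := by
    intro z hz
    rw [← hcent z hz (hall z hz) y hy, mul_inv_cancel_right]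
  constructor
  · intro hx
    rw [hconj x hx]; exact hx
  · intro hx
    have hz := hconj _ hx
    have e1 : y⁻¹ * (y * (y * x * y⁻¹) * y⁻¹) * y = y * x * y⁻¹ := by group
    rw [hz] at e1
    have e2 : y⁻¹ * (y * x * y⁻¹) * y = x := by group
    rw [e2] at e1
    rw [e1]; exact hx


end Cfsg.Agent.H1
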