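import Mathlib
import Cfsg.Prelude.Def_SolvableStructure
import Cfsg.Agent.H1.Basic
import Cfsg.Agent.H1.Card
import Cfsg.Agent.H1.Cores
import Cfsg.Agent.H1.BaerSuzuki
import Cfsg.Agent.H1.SZConj
import Cfsg.Agent.H1.SchmidtStructure
import Cfsg.Agent.Lib.Helper4.Nilpotent

set_option autoImplicit false

namespace Cfsg.Agent.H1

open scoped Pointwise commutatorElement

universe u

/-- a subgroup of a conjugate of a nilpotent subgroup is nilpotent -/
lemma nilpotent_of_le_conj {G : Type*} [Group G] (H K₁ : Subgroup G) (hH : Group.IsNilpotent H) (x : G)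
    (h : K₁ ≤ MulAut.conj x • H) : Group.IsNilpotent K₁ := by
  haveI : Group.IsNilpotent (MulAut.conj x • H : Subgroup G) :=
    (Group.isNilpotent_congr (Subgroup.equivSMul (MulAut.conj x) H)).mp hH
  apply isNilpotent_of_ker_le_center (Subgroup.inclusion h)
  rw [(Subgroup.inclusion h).ker_eq_bot_iff.mpr (Subgroup.inclusion_injective h)]
  exact bot_le

/-- a nontrivial finite group all of whose proper subgroups are nilpotent has a nontrivial
normal Sylow subgroup -/
lemma exists_normal_sylow_of_proper_nilpotent (K : Type u) [Group K] [Finite K] [Nontrivial K]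
    (h : ∀ K₁ : Subgroup K, K₁ ≠ ⊤ → Group.IsNilpotent K₁) :
    ∃ q : ℕ, ∃ _ : Fact q.Prime, ∃ Q : Sylow q K, (Q : Subgroup K).Normal ∧ (Q : Subgroup K) ≠ ⊥ := by
  by_cases hnil : Group.IsNilpotent K
  · have hcard : Nat.card K ≠ 1 := (Finite.one_lt_card (α := K)).ne'
    obtain ⟨q, hq, hqd⟩ := Nat.exists_prime_and_dvd hcard
    haveI : Fact q.Prime := ⟨hq⟩
    obtain Q : Sylow q K := default
    exact ⟨q, ⟨hq⟩, Q, inferInstance, Q.ne_bot_of_dvd_card hqd⟩
  · obtain ⟨p, q, hp, hq, hpq, P, Q, -, hQn, hPQ, hPnn, -⟩ := minimal_non_nilpotent_aux ⟨hnil, h⟩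
    refine ⟨q, ⟨hq⟩, Q, hQn, ?_⟩
    intro hbot
    apply hPnn
    rw [hbot, sup_bot_eq] at hPQ
    rw [hPQ]; infer_instance

lemma nilpotent_sylow_complement {H : Type*} [Group H] [Finite H] [Group.IsNilpotent H] (q : ℕ) [Fact q.Prime]
    (S : Sylow q H) : ∃ T : Subgroup H, Nat.card (S : Subgroup H) * Nat.card T = Nat.card H ∧
      (Nat.card T).Coprime q ∧ ∀ t ∈ T, ∀ s ∈ (S : Subgroup H), t * s = s * t := by
  have hcop : (Nat.card (S : Subgroup H)).Coprime (S : Subgroup H).index := by
    obtain ⟨k, hk⟩ := S.isPGroup'.exists_card_eq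
    rw [hk]
    exact Nat.Coprime.pow_left _ ((Nat.Prime.coprime_iff_not_dvd Fact.out).mpr S.not_dvd_index)
  obtain ⟨T, hT⟩ := Subgroup.exists_right_complement'_of_coprime hcop
  have hTq : (Nat.card T).Coprime q := by
    rw [← hT.symm.index_eq_card]
    exact ((Nat.Prime.coprime_iff_not_dvd Fact.out).mpr S.not_dvd_index).symm
  refine ⟨T, hT.card_mul_card, hTq, ?_⟩
  intro t ht s hs
  apply Cfsg.Agent.Lib.Helper4.Nilpotent.commute_of_coprime_orderOf
  obtain ⟨j, hj⟩ := (IsPGroup.iff_orderOf.mp S.isPGroup') ⟨s, hs⟩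
  rw [Subgroup.orderOf_mk] at hj
  rw [hj]
  have h1 : orderOf t ∣ Nat.card T := by
    have := orderOf_dvd_natCard (⟨t, ht⟩ : T)
    rwa [Subgroup.orderOf_mk] at this
  exact (Nat.Coprime.coprime_dvd_left h1 hTq).pow_right j

lemma centralizer_subgroupOf_normalizer_normal {G : Type*} [Group G] (Q : Subgroup G) :
    ((Subgroup.centralizer (Q : Set G)).subgroupOf (Subgroup.normalizer (Q : Set G))).Normal := by
  constructor
  rintro ⟨c, hcN⟩ hc ⟨n, hn⟩
  rw [Subgroup.mem_subgroupOf] at hc ⊢
  simp only [Subgroup.coe_mul, Subgroup.coe_inv]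
  rw [Subgroup.mem_centralizer_iff] at hc ⊢
  intro y hy
  have hn' := (Subgroup.mem_normalizer_iff.mp (Subgroup.inv_mem _ hn)) y
  rw [inv_inv] at hn'
  have hy' : n⁻¹ * y * n ∈ Q := hn'.mp hy
  have h1 := hc _ hy'
  calc y * (n * c * n⁻¹) = n * ((n⁻¹ * y * n) * c) * n⁻¹ := by group
    _ = n * (c * (n⁻¹ * y * n)) * n⁻¹ := by rw [h1]
    _ = n * c * n⁻¹ * y := by group

theorem wielandt_nilpotent_hall_aux : ∀ n : ℕ, ∀ (G : Type u) [Group G] [Finite G] (H K : Subgroup G),
    Nat.card K = n → Group.IsNilpotent H → (Nat.card H).Coprime H.index →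
    (∀ p : ℕ, p.Prime → p ∣ Nat.card K → p ∣ Nat.card H) → ∃ x : G, K ≤ MulAut.conj x • H := by
  intro n
  induction n using Nat.strong_induction_on with
  | _ n ih =>
    intro G _ _ H K hn hH hHall hK
    by_cases hKbot : K = ⊥
    · exact ⟨1, by rw [hKbot]; exact bot_le⟩
    haveI hKnt : Nontrivial K := (Subgroup.nontrivial_iff_ne_bot K).mpr hKbot
    -- proper subgroups of K are nilpotent
    have hprop : ∀ K₁ : Subgroup K, K₁ ≠ ⊤ → Group.IsNilpotent K₁ := by
      intro K₁ hK₁
      have hc1 : Nat.card (K₁.map K.subtype) = Nat.card K₁ := Subgroup.card_map_of_injective K.subtype_injective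
      have hlt : Nat.card (K₁.map K.subtype) < n := by
        rw [← hn, hc1]
        rcases (Subgroup.card_le_card_group K₁).lt_or_eq with h | h
        · exact h
        · exact absurd (Subgroup.card_eq_iff_eq_top K₁ |>.mp h) hK₁
      have hdvd : Nat.card (K₁.map K.subtype) ∣ Nat.card K := by
        rw [hc1]; exact Subgroup.card_subgroup_dvd_card K₁
      obtain ⟨x, hx⟩ := ih _ hlt G H (K₁.map K.subtype) rfl hH hHall
        (fun p hp hpd => hK p hp (hpd.trans hdvd))
      have := nilpotent_of_le_conj H _ hH x hx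
      exact (Group.isNilpotent_congr (K₁.equivMapOfInjective K.subtype K.subtype_injective)).mpr this
    obtain ⟨q, hq, Q, hQn, hQbot⟩ := exists_normal_sylow_of_proper_nilpotent K hprop
    have hcopQ : (Nat.card (Q : Subgroup K)).Coprime (Q : Subgroup K).index := by
      obtain ⟨k, hk⟩ := Q.isPGroup'.exists_card_eq
      rw [hk]
      exact Nat.Coprime.pow_left _ ((Nat.Prime.coprime_iff_not_dvd Fact.out).mpr Q.not_dvd_index)
    obtain ⟨L, hL⟩ := Subgroup.exists_right_complement'_of_coprime hcopQ
    have hLq : (Nat.card L).Coprime q := by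
      rw [← hL.symm.index_eq_card]
      exact ((Nat.Prime.coprime_iff_not_dvd Fact.out).mpr Q.not_dvd_index).symm
    obtain ⟨QG, hQG⟩ : ∃ QG : Subgroup G, QG = (Q : Subgroup K).map K.subtype := ⟨_, rfl⟩
    obtain ⟨LG, hLG⟩ : ∃ LG : Subgroup G, LG = L.map K.subtype := ⟨_, rfl⟩
    have hKeq : K = QG ⊔ LG := by
      rw [hQG, hLG, ← Subgroup.map_sup, hL.sup_eq_top, ← MonoidHom.range_eq_map, Subgroup.range_subtype]
    have hcQG : Nat.card QG = Nat.card (Q : Subgroup K) := by
      rw [hQG]; exact Subgroup.card_map_of_injective K.subtype_injective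
    have hcLG : Nat.card LG = Nat.card L := by
      rw [hLG]; exact Subgroup.card_map_of_injective K.subtype_injective
    have hq_dvd_Q : q ∣ Nat.card (Q : Subgroup K) := by
      obtain ⟨k, hk⟩ := Q.isPGroup'.exists_card_eq
      have hk0 : k ≠ 0 := by
        rintro rfl
        rw [pow_zero] at hk
        exact hQbot (Subgroup.card_eq_one.mp hk)
      rw [hk]; exact dvd_pow_self q hk0
    have hq_dvd_K : q ∣ Nat.card K := hq_dvd_Q.trans (Subgroup.card_subgroup_dvd_card _)
    have hq_dvd_H : q ∣ Nat.card H := hK q hq.out hq_dvd_K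
    have hQGp : IsPGroup q QG := by rw [hQG]; exact Q.isPGroup'.map _
    -- conjugate H so that QG ≤ H
    obtain ⟨g, hg⟩ : ∃ g : G, QG ≤ MulAut.conj g • H := by
      obtain SH : Sylow q H := default
      have hcardS : Nat.card ((SH : Subgroup H).map H.subtype) = q ^ (Nat.card G).factorization q := by
        rw [Subgroup.card_map_of_injective H.subtype_injective, SH.card_eq_multiplicity]
        congr 1
        rw [← H.card_mul_index, Nat.factorization_mul Nat.card_pos.ne' Subgroup.index_ne_zero_of_finite]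
        have h0 : H.index.factorization q = 0 := by
          apply Nat.factorization_eq_zero_of_not_dvd
          intro hqi
          exact hq.out.one_lt.ne' (Nat.eq_one_of_dvd_coprimes hHall hq_dvd_H hqi)
        simp [h0]
      obtain ⟨P', hP'⟩ := hQGp.exists_le_sylow
      obtain ⟨g, hgS⟩ := MulAction.exists_smul_eq G (Sylow.ofCard _ hcardS) P'
      refine ⟨g, hP'.trans ?_⟩
      rw [← hgS, Sylow.coe_subgroup_smul]
      exact (conj_smul_le_iff g _ _).mpr (Subgroup.map_subtype_le _)
    obtain ⟨H1, hH1⟩ : ∃ H1 : Subgroup G, H1 = MulAut.conj g • H := ⟨_, rfl⟩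
    rw [← hH1] at hg
    have hH1nil : Group.IsNilpotent H1 := by
      rw [hH1]; exact (Group.isNilpotent_congr (Subgroup.equivSMul (MulAut.conj g) H)).mp hH
    have hH1card : Nat.card H1 = Nat.card H := by rw [hH1]; exact card_conj_smul g H
    have hH1idx : H1.index = H.index := by
      have h1 := H1.card_mul_index
      have h2 := H.card_mul_index
      rw [hH1card, ← h2] at h1
      exact Nat.eq_of_mul_eq_mul_left Nat.card_pos h1
    suffices hsuff : ∃ c : G, K ≤ MulAut.conj c • H1 by
      obtain ⟨c, hc⟩ := hsuff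
      exact ⟨c * g, by rw [map_mul, mul_smul, ← hH1]; exact hc⟩
    haveI := hH1nil
    obtain S1 : Sylow q H1 := default
    obtain ⟨T, hTcard, hTq, hTcomm⟩ := nilpotent_sylow_complement q S1
    obtain ⟨TG, hTG⟩ : ∃ TG : Subgroup G, TG = T.map H1.subtype := ⟨_, rfl⟩
    obtain ⟨C, hC⟩ : ∃ C : Subgroup G, C = Subgroup.centralizer (QG : Set G) := ⟨_, rfl⟩
    have hcTG : Nat.card TG = Nat.card T := by
      rw [hTG]; exact Subgroup.card_map_of_injective H1.subtype_injective
    -- QG ⊆ S1
    have hQS : ∀ y ∈ QG, ∃ hy : y ∈ H1, (⟨y, hy⟩ : H1) ∈ (S1 : Subgroup H1) := by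
      intro y hy
      refine ⟨hg hy, ?_⟩
      obtain ⟨k, hk⟩ := hQGp ⟨y, hy⟩
      apply Cfsg.Agent.Lib.Helper4.Nilpotent.mem_sylow_of_pow_eq_one S1 _ k
      apply Subtype.ext
      have := congrArg Subtype.val hk
      simpa using this
    have hTC : TG ≤ C := by
      rw [hTG, hC]
      rintro _ ⟨t, ht, rfl⟩
      rw [Subgroup.mem_centralizer_iff]
      intro y hy
      obtain ⟨hyH, hyS⟩ := hQS y hy
      have := hTcomm t ht ⟨y, hyH⟩ hyS
      exact (congrArg Subtype.val this).symm
    obtain ⟨k1, hk1⟩ := S1.isPGroup'.exists_card_eq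
    have hTidx : T.index = Nat.card (S1 : Subgroup H1) := by
      have h1 := T.card_mul_index
      rw [← hTcard, mul_comm] at h1
      exact Nat.eq_of_mul_eq_mul_right Nat.card_pos h1
    have hTGidx : TG.index = Nat.card (S1 : Subgroup H1) * H1.index := by
      rw [hTG, Subgroup.index_map_subtype, hTidx]
    -- card T is coprime to TG.index
    have hTcop : (Nat.card T).Coprime TG.index := by
      rw [hTGidx]
      apply Nat.Coprime.mul_right
      · rw [hk1]; exact hTq.pow_right k1
      · have : Nat.card T ∣ Nat.card H1 := Subgroup.card_subgroup_dvd_card T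
        rw [hH1idx]
        rw [hH1card] at this
        exact Nat.Coprime.coprime_dvd_left this hHall
    -- primes dividing card L divide card T
    have hLT : ∀ r : ℕ, r.Prime → r ∣ Nat.card L → r ∣ Nat.card T := by
      intro r hr hrL
      have h1 : r ∣ Nat.card H1 := by
        rw [hH1card]
        exact hK r hr (hrL.trans (Subgroup.card_subgroup_dvd_card L))
      rw [← hTcard, hk1] at h1
      rcases (Nat.Prime.dvd_mul hr).mp h1 with h2 | h2
      · have h3 := (Nat.prime_dvd_prime_iff_eq hr hq.out).mp (hr.dvd_of_dvd_pow h2)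
        subst h3
        exact absurd (Nat.Coprime.eq_one_of_dvd hLq.symm hrL) hr.one_lt.ne'
      · exact h2
    have hLcop : (Nat.card L).Coprime TG.index := by
      apply Nat.Coprime.symm
      apply Nat.Coprime.symm
      by_contra hnc
      obtain ⟨r, hr, h1, h2⟩ := Nat.Prime.not_coprime_iff_dvd.mp hnc
      exact hr.one_lt.ne' (Nat.eq_one_of_dvd_coprimes hTcop (hLT r hr h1) h2)
    -- LG ≤ C
    have hKN : K ≤ Subgroup.normalizer (QG : Set G) := by
      intro x hx
      rw [Subgroup.mem_normalizer_iff]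
      intro y
      rw [hQG]
      constructor
      · rintro ⟨y', hy', rfl⟩
        exact ⟨⟨x, hx⟩ * y' * ⟨x, hx⟩⁻¹, hQn.conj_mem y' hy' _, rfl⟩
      · rintro ⟨z, hz, hze⟩
        have := hQn.conj_mem z hz ⟨x, hx⟩⁻¹
        refine ⟨⟨x, hx⟩⁻¹ * z * ⟨x, hx⟩⁻¹⁻¹, this, ?_⟩
        simp only [Subgroup.subtype_apply, Subgroup.coe_mul, Subgroup.coe_inv, inv_inv] at hze ⊢
        rw [hze]; group
    have hLK : LG ≤ K := by rw [hLG]; exact Subgroup.map_subtype_le _
    have hLC : LG ≤ C := by
      rw [← Subgroup.relIndex_eq_one]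
      have h1 : C.relIndex LG ∣ Nat.card LG := Subgroup.relIndex_dvd_card C LG
      have hLN : LG ≤ Subgroup.normalizer (QG : Set G) := hLK.trans hKN
      have h2 : C.relIndex LG ∣ C.relIndex (Subgroup.normalizer (QG : Set G)) := by
        haveI : (C.subgroupOf (Subgroup.normalizer (QG : Set G))).Normal := by
          rw [hC]; exact centralizer_subgroupOf_normalizer_normal QG
        have := Subgroup.relIndex_dvd_index_of_normal (C.subgroupOf (Subgroup.normalizer (QG : Set G)))
          (LG.subgroupOf (Subgroup.normalizer (QG : Set G)))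
        rwa [Subgroup.relIndex_subgroupOf hLN] at this
      have h3 : C.relIndex (Subgroup.normalizer (QG : Set G)) ∣ C.index := by
        apply Subgroup.relIndex_dvd_index_of_le
        rw [hC]; exact Subgroup.centralizer_le_normalizer _
      have h4 : C.index ∣ TG.index := Subgroup.index_dvd_of_le hTC
      rw [hcLG] at h1
      exact Nat.eq_one_of_dvd_coprimes hLcop h1 (h2.trans (h3.trans h4))
    -- induction inside C
    have hcL' : Nat.card (LG.subgroupOf C) = Nat.card L := by
      rw [Nat.card_congr (Subgroup.subgroupOfEquivOfLe hLC).toEquiv, hcLG]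
    have hcT' : Nat.card (TG.subgroupOf C) = Nat.card T := by
      rw [Nat.card_congr (Subgroup.subgroupOfEquivOfLe hTC).toEquiv, hcTG]
    have hLlt : Nat.card (LG.subgroupOf C) < n := by
      rw [hcL', ← hn, ← hL.card_mul_card]
      have h1 : 1 < Nat.card (Q : Subgroup K) := by
        rw [Subgroup.one_lt_card_iff_ne_bot]; exact hQbot
      have h2 : 0 < Nat.card L := Nat.card_pos
      nlinarith
    have hT'nil : Group.IsNilpotent (TG.subgroupOf C) := by
      have h1 : Group.IsNilpotent TG := by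
        rw [hTG]
        exact (Group.isNilpotent_congr (T.equivMapOfInjective H1.subtype H1.subtype_injective)).mp inferInstance
      exact (Group.isNilpotent_congr (Subgroup.subgroupOfEquivOfLe hTC)).mpr h1
    have hT'hall : (Nat.card (TG.subgroupOf C)).Coprime (TG.subgroupOf C).index := by
      rw [hcT']
      have h1 : (TG.subgroupOf C).index = TG.relIndex C := rfl
      rw [h1]
      exact Nat.Coprime.coprime_dvd_right (Subgroup.relIndex_dvd_index_of_le hTC) hTcop
    obtain ⟨c, hc⟩ := ih _ hLlt C (TG.subgroupOf C) (LG.subgroupOf C) rfl hT'nil hT'hall (by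
      intro r hr hrd
      rw [hcL'] at hrd
      rw [hcT']
      exact hLT r hr hrd)
    refine ⟨(c : G), ?_⟩
    rw [hKeq]
    apply sup_le
    · -- QG is centralized by c
      intro y hy
      rw [mem_conj_smul]
      have hcC : (c : G) ∈ Subgroup.centralizer (QG : Set G) := by rw [← hC]; exact c.2
      have := (Subgroup.mem_centralizer_iff.mp hcC) y hy
      have e : (c : G)⁻¹ * y * (c : G) = y := by
        rw [mul_assoc, this, ← mul_assoc, inv_mul_cancel, one_mul]
      rw [e]
      exact hg hy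
    · intro y hy
      rw [mem_conj_smul]
      have h1 : (⟨y, hLC hy⟩ : C) ∈ LG.subgroupOf C := by
        rw [Subgroup.mem_subgroupOf]; exact hy
      have h2 := hc h1
      rw [mem_conj_smul, Subgroup.mem_subgroupOf] at h2
      simp only [Subgroup.coe_mul, Subgroup.coe_inv] at h2
      rw [hTG] at h2
      exact Subgroup.map_subtype_le _ h2


end Cfsg.Agent.H1
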