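import Mathlib
import Cfsg.Agent.H1.FrobeniusCount
import Cfsg.Agent.S0087
import Cfsg.Agent.S0023

set_option autoImplicit false
open scoped Pointwise commutatorElement

universe u

namespace Cfsg.Agent.H1

/-- a Frobenius-type abelian maximal subgroup gives metabelian group -/
theorem derived_two_of_abelian_frobenius_coatom {G : Type*} [Group G] [Finite G] (A : Subgroup G)
    (hA : IsCoatom A) (hab : IsMulCommutative A) (hF : Cfsg.IsFrobeniusComplement A) :
    derivedSeries G 2 = ⊥ := by
  -- Hall
  have hHall : (Nat.card A).Coprime A.index := by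
    have h1 := index_mod_card_of_frobenius A hF
    show Nat.gcd (Nat.card A) A.index = 1
    rw [Nat.gcd_rec, h1, ← Nat.gcd_rec]
    exact Nat.gcd_one_right _
  -- N(A) ≤ C(A)
  have hNA : Subgroup.normalizer (A : Set G) ≤ Subgroup.centralizer (A : Set G) := by
    intro g hg
    by_cases hgA : g ∈ A
    · rw [Subgroup.mem_centralizer_iff]
      intro a ha
      have := hab.is_comm.comm (⟨a, ha⟩ : A) ⟨g, hgA⟩
      exact congrArg Subtype.val this
    · exfalso
      have h1 := hF.2.2 g hgA
      have h2 : MulAut.conj g • A = A := by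
        ext x
        rw [mem_conj_smul]
        have := (Subgroup.mem_normalizer_iff.mp (inv_mem hg) x)
        rw [inv_inv] at this
        exact this.symm
      rw [h2, inf_idem] at h1
      exact hF.1 h1
  obtain ⟨N, hNn, hNc⟩ := Cfsg.Agent.S0087.result A hHall hNA
  have hsup : N ⊔ A = ⊤ := hNc.sup_eq_top
  have hdisj : N ⊓ A = ⊥ := hNc.disjoint.eq_bot
  have hcardN : Nat.card N = A.index := hNc.index_eq_card.symm
  have hd1 : commutator G ≤ N := hNn.commutator_le_of_self_sup_commutative_eq_top hsup hab
  -- N is abelian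
  have hcard : Nat.card N * Nat.card A = Nat.card G := hNc.card_mul_card
  have hcopAN : (Nat.card A).Coprime (Nat.card N) := by rw [hcardN]; exact hHall
  -- key: an A-invariant subgroup D of N normal... is ⊥ or N
  have hkey : ∀ D : Subgroup G, D ≤ N → A ≤ Subgroup.normalizer (D : Set G) → D = ⊥ ∨ D = N := by
    intro D hDN hAD
    have hAD' : A ≤ D ⊔ A := le_sup_right
    rcases eq_or_lt_of_le hAD' with h | h
    · left
      have : D ≤ A := by rw [h]; exact le_sup_left
      rw [eq_bot_iff, ← hdisj]; exact le_inf hDN this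
    · right
      have htop : D ⊔ A = ⊤ := hA.2 _ h
      have hc := card_sup_mul_card_inf A D hAD
      have hAD0 : A ⊓ D = ⊥ := by
        rw [eq_bot_iff, ← hdisj, inf_comm N A]; exact inf_le_inf_left A hDN
      rw [sup_comm, htop, hAD0, Subgroup.card_bot, mul_one, Subgroup.card_top, ← hcard, mul_comm] at hc
      have : Nat.card N = Nat.card D := Nat.eq_of_mul_eq_mul_left Nat.card_pos hc
      exact Subgroup.eq_of_le_of_card_ge hDN this.le
  have hAN : A ≤ Subgroup.normalizer (N : Set G) := by rw [Subgroup.normalizer_eq_top]; exact le_top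
  have hNne : N ≠ ⊥ := by
    intro h
    rw [h, bot_sup_eq] at hsup
    exact hF.2.1 hsup
  -- N is a p-group
  obtain ⟨p, hp, hpd⟩ := Nat.exists_prime_and_dvd (fun h1 : Nat.card N = 1 => hNne (Subgroup.card_eq_one.mp h1))
  have : Fact p.Prime := ⟨hp⟩
  obtain ⟨P, hP⟩ := Cfsg.Agent.S0023.result A N hAN hcopAN (Or.inl (by
    let _ : CommGroup A := { (inferInstance : Group A) with mul_comm := hab.is_comm.comm }
    infer_instance)) p
  have hPN : (P : Subgroup N).map N.subtype ≤ N := Subgroup.map_subtype_le _
  have hPne : (P : Subgroup N).map N.subtype ≠ ⊥ := by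
    intro h
    have : (P : Subgroup N) = ⊥ := by
      rw [← Subgroup.map_eq_bot_iff_of_injective _ N.subtype_injective]; exact h
    have h2 := P.card_eq_multiplicity
    rw [this, Subgroup.card_bot] at h2
    have : (Nat.card N).factorization p = 0 := by
      by_contra h0
      have : 1 < p ^ (Nat.card N).factorization p := Nat.one_lt_pow h0 hp.one_lt
      omega
    rw [Nat.factorization_eq_zero_iff] at this
    rcases this with h | h | h
    · exact h hp
    · exact h hpd
    · exact Nat.card_pos.ne' h
  have hPeq : (P : Subgroup N).map N.subtype = N := (hkey _ hPN hP).resolve_left hPne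
  have hNp : IsPGroup p N := by
    have : IsPGroup p ((P : Subgroup N).map N.subtype) := P.isPGroup'.map _
    rw [hPeq] at this; exact this
  -- N' < N
  have hN'lt : ⁅N, N⁆ < N := by
    have hnil : Group.IsNilpotent N := hNp.isNilpotent
    have hsolv : Group.IsSolvable N := IsNilpotent.to_isSolvable
    have : Nontrivial N := (Subgroup.nontrivial_iff_ne_bot N).mpr hNne
    have h1 := Group.IsSolvable.commutator_lt_top_of_nontrivial N
    have h2 : (commutator N).map N.subtype = ⁅N, N⁆ := Subgroup.map_subtype_commutator N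
    rw [← h2]
    have h3 : (commutator N).map N.subtype < (⊤ : Subgroup N).map N.subtype :=
      Subgroup.map_lt_map_iff_of_injective N.subtype_injective |>.mpr h1
    rwa [← MonoidHom.range_eq_map, Subgroup.range_subtype] at h3
  have hN'n : (⁅N, N⁆ : Subgroup G).Normal := inferInstance
  have hN'bot : ⁅N, N⁆ = ⊥ := by
    rcases hkey ⁅N, N⁆ hN'lt.le (by rw [Subgroup.normalizer_eq_top]; exact le_top) with h | h
    · exact h
    · exact absurd h hN'lt.ne
  rw [derivedSeries_succ, derivedSeries_one, eq_bot_iff, ← hN'bot]
  exact Subgroup.commutator_mono hd1 hd1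

end Cfsg.Agent.H1

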