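import Mathlib
import Cfsg.Agent.H1.Basic

set_option autoImplicit false
open scoped Pointwise commutatorElement IsMulCommutative

namespace Cfsg.Agent.H1

universe u

section norm
variable {G : Type*} [Group G]

/-- conjugation by `a ∈ A` as an endomorphism of `V` -/
def cjHom (V A : Subgroup G) (hAV : A ≤ Subgroup.normalizer (V : Set G)) (a : A) : V →* V where
  toFun v := ⟨(a : G) * v * (a : G)⁻¹, (Subgroup.mem_normalizer_iff.mp (hAV a.2) v).mp v.2⟩
  map_one' := by apply Subtype.ext; simp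
  map_mul' v w := by apply Subtype.ext; simp

lemma cjHom_coe (V A : Subgroup G) (hAV : A ≤ Subgroup.normalizer (V : Set G)) (a : A) (v : V) :
    ((cjHom V A hAV a v : V) : G) = (a : G) * v * (a : G)⁻¹ := rfl

lemma cjHom_mul (V A : Subgroup G) (hAV : A ≤ Subgroup.normalizer (V : Set G)) (a b : A) (v : V) :
    cjHom V A hAV a (cjHom V A hAV b v) = cjHom V A hAV (a * b) v := by
  apply Subtype.ext
  simp only [cjHom_coe, Subgroup.coe_mul, mul_inv_rev]
  group

/-- the norm map of an abelian subgroup `V` under a finite group `A` normalizing it -/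
theorem exists_normMap [Finite G] (V A : Subgroup G) (hVab : IsMulCommutative V)
    (hAV : A ≤ Subgroup.normalizer (V : Set G)) :
    ∃ ν : V →* V, (∀ v : V, ∀ b : A, cjHom V A hAV b (ν v) = ν v) ∧
      (∀ v : V, ∀ b : A, ν (cjHom V A hAV b v) = ν v) ∧
      (∀ v : V, (∀ b : A, cjHom V A hAV b v = v) → ν v = v ^ Nat.card A) ∧
      (∀ v : V, ((v ^ Nat.card A * (ν v)⁻¹ : V) : G) ∈ ⁅V, A⁆) := by
  classical
  have := Fintype.ofFinite A
  let ν : V →* V :=
    { toFun := fun v => ∏ a : A, cjHom V A hAV a v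
      map_one' := by simp
      map_mul' := fun v w => by simp [Finset.prod_mul_distrib] }
  have hν : ∀ v, ν v = ∏ a : A, cjHom V A hAV a v := fun v => rfl
  refine ⟨ν, ?_, ?_, ?_, ?_⟩
  · intro v b
    rw [hν, map_prod]
    simp only [cjHom_mul]
    exact Fintype.prod_equiv (Equiv.mulLeft b) _ _ (fun a => rfl)
  · intro v b
    rw [hν, hν]
    simp only [cjHom_mul]
    exact Fintype.prod_equiv (Equiv.mulRight b) _ _ (fun a => rfl)
  · intro v hv
    rw [hν]
    simp only [hv]
    rw [Finset.prod_const, Finset.card_univ, Nat.card_eq_fintype_card]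
  · intro v
    have e : v ^ Nat.card A * (ν v)⁻¹ = ∏ a : A, (v * (cjHom V A hAV a v)⁻¹) := by
      rw [Finset.prod_mul_distrib, Finset.prod_inv_distrib, Finset.prod_const, Finset.card_univ,
        Nat.card_eq_fintype_card, hν]
    rw [e]
    have : (∏ a : A, (v * (cjHom V A hAV a v)⁻¹)) ∈ (⁅V, A⁆ : Subgroup G).subgroupOf V := by
      apply Subgroup.prod_mem
      intro a _
      rw [Subgroup.mem_subgroupOf]
      have : ((v * (cjHom V A hAV a v)⁻¹ : V) : G) = ⁅(v : G), (a : G)⁆ := by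
        simp only [Subgroup.coe_mul, Subgroup.coe_inv, cjHom_coe, commutatorElement_def]
        group
      rw [this]
      exact Subgroup.commutator_mem_commutator v.2 a.2
    exact Subgroup.mem_subgroupOf.mp this

/-- Fitting: for coprime action on an abelian subgroup, `[V,A] ∩ C_V(A) = 1` -/
theorem commutator_inf_centralizer_eq_bot_of_abelian [Finite G] (V A : Subgroup G) (hVab : IsMulCommutative V)
    (hAV : A ≤ Subgroup.normalizer (V : Set G)) (hcop : (Nat.card A).Coprime (Nat.card V)) :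
    ⁅V, A⁆ ⊓ Subgroup.centralizer (A : Set G) = ⊥ := by
  obtain ⟨ν, h1, h2, h3, h4⟩ := exists_normMap V A hVab hAV
  have hVn : V ≤ Subgroup.normalizer (V : Set G) := Subgroup.le_normalizer
  have hcomm_le : ⁅V, A⁆ ≤ V := by
    rw [Subgroup.commutator_le]
    intro v hv a ha
    rw [commutatorElement_def]
    have : a * v⁻¹ * a⁻¹ ∈ V := (Subgroup.mem_normalizer_iff.mp (hAV ha) v⁻¹).mp (inv_mem hv)
    rw [mul_assoc, mul_assoc]
    exact mul_mem hv (by rw [← mul_assoc]; exact this)
  have hker : ⁅V, A⁆ ≤ (ν.ker).map V.subtype := by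
    rw [Subgroup.commutator_le]
    intro v hv a ha
    refine ⟨(⟨v, hv⟩ : V) * (cjHom V A hAV ⟨a, ha⟩ ⟨v, hv⟩)⁻¹, ?_, ?_⟩
    · rw [SetLike.mem_coe, MonoidHom.mem_ker, map_mul, map_inv, h2, mul_inv_cancel]
    · simp only [Subgroup.subtype_apply, Subgroup.coe_mul, Subgroup.coe_inv, cjHom_coe, commutatorElement_def]
      group
  rw [eq_bot_iff]
  intro x hx
  obtain ⟨hx1, hx2⟩ := Subgroup.mem_inf.mp hx
  obtain ⟨x', hx'ker, hx'⟩ := hker hx1
  rw [Subgroup.subtype_apply] at hx'
  have hfix : ∀ b : A, cjHom V A hAV b x' = x' := by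
    intro b
    apply Subtype.ext
    rw [cjHom_coe, hx']
    have := Subgroup.mem_centralizer_iff.mp hx2 b b.2
    rw [this]; group
  have hpow : x' ^ Nat.card A = 1 := by
    rw [← h3 x' hfix]; exact hx'ker
  have hpow2 : x' ^ Nat.card V = 1 := pow_card_eq_one'
  have hx'1 : x' = 1 := by
    have h5 : orderOf x' ∣ Nat.card A := orderOf_dvd_of_pow_eq_one hpow
    have h6 : orderOf x' ∣ Nat.card V := orderOf_dvd_of_pow_eq_one hpow2
    have := Nat.eq_one_of_dvd_coprimes hcop h5 h6
    exact orderOf_eq_one_iff.mp this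
  rw [Subgroup.mem_bot, ← hx', hx'1]; rfl

/-- Fitting: for coprime action on an abelian subgroup, `[V,A] C_V(A) = V` -/
theorem commutator_sup_centralizer_eq_of_abelian [Finite G] (V A : Subgroup G) (hVab : IsMulCommutative V)
    (hAV : A ≤ Subgroup.normalizer (V : Set G)) (hcop : (Nat.card A).Coprime (Nat.card V)) :
    ⁅V, A⁆ ⊔ (V ⊓ Subgroup.centralizer (A : Set G)) = V := by
  obtain ⟨ν, h1, h2, h3, h4⟩ := exists_normMap V A hVab hAV
  have hcomm_le : ⁅V, A⁆ ≤ V := by
    rw [Subgroup.commutator_le]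
    intro v hv a ha
    rw [commutatorElement_def]
    have : a * v⁻¹ * a⁻¹ ∈ V := (Subgroup.mem_normalizer_iff.mp (hAV ha) v⁻¹).mp (inv_mem hv)
    rw [mul_assoc, mul_assoc]
    exact mul_mem hv (by rw [← mul_assoc]; exact this)
  apply le_antisymm (sup_le hcomm_le inf_le_left)
  intro v hv
  obtain ⟨v', hv'⟩ : ∃ v' : V, (v' : G) = v := ⟨⟨v, hv⟩, rfl⟩
  have hmem : ((v' ^ Nat.card A : V) : G) ∈ ⁅V, A⁆ ⊔ (V ⊓ Subgroup.centralizer (A : Set G)) := by
    have e : v' ^ Nat.card A = (v' ^ Nat.card A * (ν v')⁻¹) * ν v' := by group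
    rw [e, Subgroup.coe_mul]
    refine mul_mem (Subgroup.mem_sup_left (h4 v')) (Subgroup.mem_sup_right ?_)
    refine Subgroup.mem_inf.mpr ⟨(ν v').2, ?_⟩
    rw [Subgroup.mem_centralizer_iff]
    intro b hb
    have := congrArg Subtype.val (h1 v' ⟨b, hb⟩)
    rw [cjHom_coe] at this
    simp only at this
    calc b * (ν v' : G) = (b * (ν v' : G) * b⁻¹) * b := by group
      _ = (ν v' : G) * b := by rw [this]
  have hcop' : (Nat.card A).Coprime (orderOf v') :=
    Nat.Coprime.coprime_dvd_right (orderOf_dvd_natCard v') hcop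
  obtain ⟨m, hm⟩ := exists_pow_eq_self_of_coprime hcop'
  rw [← hv', ← hm, Subgroup.coe_pow]
  exact pow_mem hmem m

end norm

end Cfsg.Agent.H1
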