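import Mathlib
import Cfsg.Agent.H1.CoprimeAction
import Cfsg.Agent.H1.ConjMap
import Cfsg.Agent.S0027

/-! Thompson's P x Q lemma (helper1). -/

set_option autoImplicit false
open scoped Pointwise commutatorElement

namespace Cfsg.Agent.H1

/-- a `p`-group acting on a nontrivial `p`-group has proper commutator -/
lemma commutator_lt_of_pgroup {G : Type*} [Group G] [Finite G] {p : ℕ} [Fact p.Prime] (U P : Subgroup G)
    (hU : IsPGroup p U) (hP : IsPGroup p P) (hPU : P ≤ Subgroup.normalizer (U : Set G)) (hne : U ≠ ⊥) :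
    ⁅U, P⁆ < U := by
  have hle : ⁅U, P⁆ ≤ U := Subgroup.le_normalizer_iff_commutator_le_left.mp hPU
  refine lt_of_le_of_ne hle ?_
  intro heq
  have hT : IsPGroup p (U ⊔ P : Subgroup G) := by
    rw [sup_comm]; exact IsPGroup.to_sup_of_normal_right' hP hU hPU
  have hnil : Group.IsNilpotent (U ⊔ P : Subgroup G) := hT.isNilpotent
  obtain ⟨n, hn⟩ := (Subgroup.isNilpotent_iff_lowerCentralSeries _).mp hnil
  have key : ∀ m, U ≤ (U ⊔ P : Subgroup G).lowerCentralSeries m := by
    intro m
    induction m with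
    | zero => exact le_sup_left
    | succ m ih =>
      rw [Subgroup.lowerCentralSeries_succ]
      calc U = ⁅U, P⁆ := heq.symm
        _ ≤ _ := Subgroup.commutator_mono ih le_sup_right
  exact hne (le_bot_iff.mp (hn ▸ key n))

lemma le_normalizer_commutator {G : Type*} [Group G] (X H₁ H₂ : Subgroup G)
    (h1 : X ≤ Subgroup.normalizer (H₁ : Set G)) (h2 : X ≤ Subgroup.normalizer (H₂ : Set G)) :
    X ≤ Subgroup.normalizer ((⁅H₁, H₂⁆ : Subgroup G) : Set G) := by
  intro x hx
  rw [← map_conj_eq_self_iff, Subgroup.map_commutator, (map_conj_eq_self_iff x H₁).mpr (h1 hx),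
    (map_conj_eq_self_iff x H₂).mpr (h2 hx)]

lemma pq_aux {G : Type*} [Group G] [Finite G] (p : ℕ) [Fact p.Prime]
    (P Q : Subgroup G) (hP : IsPGroup p P) (hQ : (Nat.card Q).Coprime p)
    (hPQ : P ≤ Subgroup.centralizer (Q : Set G)) : ∀ n : ℕ, ∀ U : Subgroup G, Nat.card U = n → IsPGroup p U →
    P ≤ Subgroup.normalizer (U : Set G) → Q ≤ Subgroup.normalizer (U : Set G) →
    U ⊓ Subgroup.centralizer (P : Set G) ≤ Subgroup.centralizer (Q : Set G) →
    Q ≤ Subgroup.centralizer (U : Set G) := by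
  intro n
  induction n using Nat.strong_induction_on with
  | _ n ih =>
    intro U hn hU hPU hQU hC
    -- coprime action of Q on U
    have hcop : (Nat.card Q).Coprime (Nat.card U) := by
      obtain ⟨m, hm⟩ := hU.exists_card_eq
      rw [hm]; exact Nat.Coprime.pow_right _ hQ
    have hnilU : Group.IsNilpotent U := hU.isNilpotent
    have hsolv : Group.IsSolvable Q ∨ Group.IsSolvable U := Or.inr inferInstance
    have hRR : ⁅⁅U, Q⁆, Q⁆ = ⁅U, Q⁆ := Cfsg.Agent.S0027.result Q U hQU hcop hsolv
    have hRU : ⁅U, Q⁆ ≤ U := Subgroup.le_normalizer_iff_commutator_le_left.mp hQU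
    have hPQn : P ≤ Subgroup.normalizer (Q : Set G) := hPQ.trans (Subgroup.centralizer_le_normalizer _)
    have hcent_iff : ∀ V : Subgroup G, Q ≤ Subgroup.centralizer (V : Set G) ↔ ⁅V, Q⁆ = ⊥ := by
      intro V
      rw [Subgroup.commutator_comm, Subgroup.commutator_eq_bot_iff_le_centralizer]
    have hcardlt : ∀ V : Subgroup G, V < U → Nat.card V < n := by
      intro V hV
      rw [← hn]; exact card_lt_card_of_lt' hV
    rcases lt_or_eq_of_le hRU with hlt | heq
    · -- R < U
      have hR : Q ≤ Subgroup.centralizer ((⁅U, Q⁆ : Subgroup G) : Set G) := by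
        refine ih _ (hcardlt _ hlt) ⁅U, Q⁆ rfl (hU.to_le hRU) (le_normalizer_commutator P U Q hPU hPQn)
          (Subgroup.normalizer_commutator_ge_right U Q) ?_
        exact le_trans (inf_le_inf_right _ hRU) hC
      rw [hcent_iff, hRR] at hR
      rw [hcent_iff]; exact hR
    · -- ⁅U,Q⁆ = U
      by_cases hne : U = ⊥
      · rw [hcent_iff, hne]; exact Subgroup.commutator_bot_left Q
      have hVlt : ⁅U, P⁆ < U := commutator_lt_of_pgroup U P hU hP hPU hne
      have hV : Q ≤ Subgroup.centralizer ((⁅U, P⁆ : Subgroup G) : Set G) := by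
        refine ih _ (hcardlt _ hVlt) ⁅U, P⁆ rfl (hU.to_le hVlt.le) (Subgroup.normalizer_commutator_ge_right U P)
          (le_normalizer_commutator Q U P hQU ?_) ?_
        · exact (Subgroup.le_centralizer_iff.mp hPQ).trans (Subgroup.centralizer_le_normalizer _)
        · exact le_trans (inf_le_inf_right _ hVlt.le) hC
      rw [hcent_iff] at hV
      have h2 : ⁅⁅P, Q⁆, U⁆ = ⊥ := by
        rw [Subgroup.commutator_eq_bot_iff_le_centralizer.mpr hPQ]
        exact Subgroup.commutator_bot_left U
      have h3 : ⁅⁅Q, U⁆, P⁆ = ⊥ := Subgroup.commutator_commutator_eq_bot_of_rotate hV h2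
      rw [Subgroup.commutator_comm Q U, heq] at h3
      have hUP : U ≤ Subgroup.centralizer (P : Set G) := Subgroup.commutator_eq_bot_iff_le_centralizer.mp h3
      have : U ≤ Subgroup.centralizer (Q : Set G) := le_trans (le_inf le_rfl hUP) hC
      exact Subgroup.le_centralizer_iff.mp this

end Cfsg.Agent.H1
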