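import Mathlib
import Cfsg.Agent.H2.ElemAbCount
import Cfsg.Agent.H1.NormMap
import Cfsg.Agent.H1.PQ
import Cfsg.Prelude.Def_Transfer

set_option autoImplicit false

namespace Cfsg.Agent.H1

/-- In a finite commutative group `P`, a subgroup of exponent `p` has order at most `p ^ rank P`. -/
theorem card_le_pow_rank_of_exponent_comm {P : Type*} [CommGroup P] [Finite P] (p : ℕ) [hp : Fact p.Prime]
    (W : Subgroup P) (hW : ∀ w ∈ W, w ^ p = 1) : Nat.card W ≤ p ^ Group.rank P := by
  classical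
  set φ : P →* P := powMonoidHom p with hφ
  have hWle : W ≤ φ.ker := fun w hw => by rw [MonoidHom.mem_ker]; exact hW w hw
  have h1 : Nat.card φ.ker = Nat.card (P ⧸ φ.range) := by
    have h2 := Subgroup.card_mul_index φ.ker
    rw [Subgroup.index_ker] at h2
    have h3 := Subgroup.card_mul_index φ.range
    rw [Subgroup.index_eq_card, ← h2, mul_comm] at h3
    exact (Nat.eq_of_mul_eq_mul_right Nat.card_pos h3).symm
  have h4 : Nat.card (P ⧸ φ.range) ∣ p ^ Group.rank P := by
    obtain ⟨S, hS1, hS2⟩ := Group.rank_spec P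
    let v : Fin (Group.rank P) → P ⧸ φ.range :=
      fun i => QuotientGroup.mk ((S.equivFin.symm (Fin.cast hS1.symm i)) : P)
    have hexp : ∀ x : P ⧸ φ.range, x ^ p = 1 := by
      intro x
      induction x using QuotientGroup.induction_on with
      | H x =>
        rw [← QuotientGroup.mk_pow, QuotientGroup.eq_one_iff]
        exact ⟨x, rfl⟩
    have h5 := H2.ElemAb.card_closure_dvd hexp _ v
    have htop : Subgroup.closure (Set.range v) = ⊤ := by
      have hr : Set.range v = (QuotientGroup.mk' φ.range) '' (S : Set P) := by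
        ext y
        constructor
        · rintro ⟨i, rfl⟩
          exact ⟨_, (S.equivFin.symm (Fin.cast hS1.symm i)).2, rfl⟩
        · rintro ⟨x, hx, rfl⟩
          refine ⟨Fin.cast hS1 (S.equivFin ⟨x, hx⟩), ?_⟩
          simp [v]
      rw [hr, ← MonoidHom.map_closure, hS2, ← MonoidHom.range_eq_map,
        MonoidHom.range_eq_top.mpr (QuotientGroup.mk'_surjective _)]
    rw [htop] at h5
    simpa using h5
  calc Nat.card W ≤ Nat.card φ.ker := Subgroup.card_le_of_le hWle
    _ = Nat.card (P ⧸ φ.range) := h1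
    _ ≤ p ^ Group.rank P := Nat.le_of_dvd (pow_pos hp.out.pos _) h4

theorem card_le_pow_rank_of_exponent {P : Type*} [Group P] [Finite P] (hcomm : ∀ x y : P, x * y = y * x)
    (p : ℕ) [hp : Fact p.Prime]
    (W : Subgroup P) (hW : ∀ w ∈ W, w ^ p = 1) : Nat.card W ≤ p ^ Group.rank P := by
  letI : CommGroup P := { (inferInstance : Group P) with mul_comm := hcomm }
  exact card_le_pow_rank_of_exponent_comm p W hW

end Cfsg.Agent.H1

namespace Cfsg.Agent.H1

open scoped Pointwise commutatorElement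

/-- A `q`-group `A` normalizing an abelian `p`-subgroup `V` (`q ≠ p`) and not centralizing it:
there is `k` with `1 ≤ k`, `p ^ k ≤` the bound for exponent-`p` subgroups of `V`, and `q ∣ p ^ k - 1`. -/
theorem exists_dvd_pow_sub_one_of_not_centralize {G : Type*} [Group G] [Finite G] {p q : ℕ} [hp : Fact p.Prime]
    [hq : Fact q.Prime] (hpq : q ≠ p) (V A : Subgroup G) (hVab : IsMulCommutative V) (hV : IsPGroup p V)
    (hA : IsPGroup q A) (hAV : A ≤ Subgroup.normalizer (V : Set G))
    (hnc : ¬ A ≤ Subgroup.centralizer (V : Set G)) (B : ℕ)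
    (hB : ∀ W : Subgroup G, W ≤ V → (∀ w ∈ W, w ^ p = 1) → Nat.card W ≤ p ^ B) :
    ∃ k : ℕ, 1 ≤ k ∧ k ≤ B ∧ q ∣ p ^ k - 1 := by
  classical
  have hpp := hp.out
  have hqq := hq.out
  have hcop : (Nat.card A).Coprime (Nat.card V) := by
    obtain ⟨a, ha⟩ := IsPGroup.iff_card.mp hA
    obtain ⟨b, hb⟩ := IsPGroup.iff_card.mp hV
    rw [ha, hb]
    exact Nat.Coprime.pow _ _ ((Nat.coprime_primes hqq hpp).mpr hpq)
  set W : Subgroup G := ⁅V, A⁆ with hW
  have hWV : W ≤ V := by
    rw [hW, Subgroup.commutator_le]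
    intro v hv a ha
    have h1 : a * v⁻¹ * a⁻¹ ∈ V := by
      have := (Subgroup.mem_normalizer_iff.mp (hAV ha) v⁻¹).mp (V.inv_mem hv)
      exact this
    have : ⁅v, a⁆ = v * (a * v⁻¹ * a⁻¹) := by rw [commutatorElement_def]; group
    rw [this]
    exact V.mul_mem hv h1
  have hWne : W ≠ ⊥ := by
    intro h
    apply hnc
    rw [hW, Subgroup.commutator_eq_bot_iff_le_centralizer] at h
    exact Subgroup.le_centralizer_iff.mp h
  have hWA : W ⊓ Subgroup.centralizer (A : Set G) = ⊥ :=
    commutator_inf_centralizer_eq_bot_of_abelian V A hVab hAV hcop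
  have hAW : A ≤ Subgroup.normalizer (W : Set G) :=
    le_normalizer_commutator A V A hAV Subgroup.le_normalizer
  have hWcomm : ∀ x ∈ W, ∀ y ∈ W, x * y = y * x := by
    intro x hx y hy
    have := hVab.is_comm.comm ⟨x, hWV hx⟩ ⟨y, hWV hy⟩
    exact congrArg Subtype.val this
  -- W₁
  let W₁ : Subgroup G :=
    { carrier := {w | w ∈ W ∧ w ^ p = 1}
      mul_mem' := by
        rintro x y ⟨hx, hx1⟩ ⟨hy, hy1⟩
        refine ⟨W.mul_mem hx hy, ?_⟩
        have hc : Commute x y := hWcomm x hx y hy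
        rw [hc.mul_pow, hx1, hy1, one_mul]
      one_mem' := ⟨W.one_mem, one_pow _⟩
      inv_mem' := by
        rintro x ⟨hx, hx1⟩
        exact ⟨W.inv_mem hx, by rw [inv_pow, hx1, inv_one]⟩ }
  have hW₁mem : ∀ w : G, w ∈ W₁ ↔ w ∈ W ∧ w ^ p = 1 := fun w => Iff.rfl
  have hW₁W : W₁ ≤ W := fun w hw => hw.1
  have hW₁ne : W₁ ≠ ⊥ := by
    intro h
    have hWp : IsPGroup p W := hV.to_le hWV
    have hWnt : Nontrivial W := (Subgroup.nontrivial_iff_ne_bot W).mpr hWne
    obtain ⟨k, hk0, hk⟩ := (hWp.nontrivial_iff_card).mp hWnt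
    have hdvd : p ∣ Nat.card W := by rw [hk]; exact dvd_pow_self p (by omega)
    obtain ⟨w, hw⟩ := exists_prime_orderOf_dvd_card' p hdvd
    have hw1 : (w : G) ∈ W₁ := by
      refine ⟨w.2, ?_⟩
      have : w ^ p = 1 := by rw [← hw, pow_orderOf_eq_one]
      have h2 := congrArg Subtype.val this
      simpa using h2
    rw [h, Subgroup.mem_bot] at hw1
    have : w = 1 := Subtype.ext hw1
    rw [this, orderOf_one] at hw
    exact hpp.one_lt.ne hw
  -- action
  have hconj : ∀ a ∈ A, ∀ w ∈ W₁, a * w * a⁻¹ ∈ W₁ := by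
    intro a ha w hw
    refine ⟨(Subgroup.mem_normalizer_iff.mp (hAW ha) w).mp hw.1, ?_⟩
    rw [conj_pow, hw.2, mul_one, mul_inv_cancel]
  letI act : MulAction A W₁ :=
    { smul := fun a w => ⟨(a : G) * w * (a : G)⁻¹, hconj a a.2 w w.2⟩
      one_smul := by
        intro w
        apply Subtype.ext
        show ((1 : A) : G) * w * ((1 : A) : G)⁻¹ = w
        simp
      mul_smul := by
        intro a b w
        apply Subtype.ext
        show ((a * b : A) : G) * w * ((a * b : A) : G)⁻¹ = (a : G) * ((b : G) * w * (b : G)⁻¹) * (a : G)⁻¹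
        simp only [Subgroup.coe_mul, mul_inv_rev]
        group }
  have hsmul : ∀ (a : A) (w : W₁), ((a • w : W₁) : G) = (a : G) * w * (a : G)⁻¹ := fun a w => rfl
  have hfix : MulAction.fixedPoints A W₁ = {1} := by
    ext w
    rw [MulAction.mem_fixedPoints, Set.mem_singleton_iff]
    constructor
    · intro h
      have h1 : (w : G) ∈ W ⊓ Subgroup.centralizer (A : Set G) := by
        refine Subgroup.mem_inf.mpr ⟨w.2.1, ?_⟩
        rw [Subgroup.mem_centralizer_iff]
        intro a ha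
        have h2 := congrArg Subtype.val (h ⟨a, ha⟩)
        rw [hsmul] at h2
        simp only at h2
        calc a * (w : G) = (a * w * a⁻¹) * a := by group
          _ = w * a := by rw [h2]
      rw [hWA, Subgroup.mem_bot] at h1
      exact Subtype.ext h1
    · rintro rfl a
      apply Subtype.ext
      rw [hsmul]
      simp
  have hmod := hA.card_modEq_card_fixedPoints W₁
  rw [hfix] at hmod
  have h1 : Nat.card ({1} : Set W₁) = 1 := by simp
  rw [h1] at hmod
  have hW₁p : IsPGroup p W₁ := hV.to_le (hW₁W.trans hWV)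
  have hW₁nt : Nontrivial W₁ := (Subgroup.nontrivial_iff_ne_bot W₁).mpr hW₁ne
  obtain ⟨k, hk0, hk⟩ := (hW₁p.nontrivial_iff_card).mp hW₁nt
  refine ⟨k, hk0, ?_, ?_⟩
  · have h2 := hB W₁ (hW₁W.trans hWV) (fun w hw => hw.2)
    rw [hk] at h2
    exact (Nat.pow_le_pow_iff_right hpp.one_lt).mp h2
  · rw [hk] at hmod
    exact (Nat.modEq_iff_dvd' (Nat.one_le_pow _ _ hpp.pos)).mp hmod.symm

end Cfsg.Agent.H1
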