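import Mathlib
import Cfsg.Agent.H1.NormMap

set_option autoImplicit false

namespace Cfsg.Agent.H1

open scoped IsMulCommutative

theorem abelian_sylow_quotient {G : Type*} [Group G] [Finite G] {p : ℕ} [Fact p.Prime] (P : Sylow p G)
    (hP : IsMulCommutative P) :
    ∃ (N : Subgroup G) (hN : N.Normal), Nonempty (G ⧸ N ≃* ((P : Subgroup G) ⊓
      Subgroup.centralizer (Subgroup.normalizer (P : Set G) : Set G) : Subgroup G)) := by
  have hpp : p.Prime := Fact.out
  haveI : IsMulCommutative (P : Subgroup G) := hP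
  obtain ⟨L, hL⟩ : ∃ L, L = Subgroup.normalizer ((P : Subgroup G) : Set G) := ⟨_, rfl⟩
  have hPL : (P : Subgroup G) ≤ L := hL ▸ Subgroup.le_normalizer
  have hPLn : ((P : Subgroup G).subgroupOf L).Normal := by
    rw [hL]; exact Subgroup.normal_in_normalizer
  have hidx : ¬ p ∣ ((P : Subgroup G).subgroupOf L).index := by
    intro hd
    have := Subgroup.relIndex_mul_index hPL
    exact P.not_dvd_index (this ▸ Dvd.dvd.mul_right hd _)
  have hcop : Nat.Coprime (Nat.card ((P : Subgroup G).subgroupOf L)) ((P : Subgroup G).subgroupOf L).index := by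
    have hpg : IsPGroup p ((P : Subgroup G).subgroupOf L) := P.2.comap_subtype
    obtain ⟨n, hn⟩ := hpg.exists_card_eq
    rw [hn]
    exact Nat.Coprime.pow_left _ ((Nat.Prime.coprime_iff_not_dvd hpp).2 hidx)
  obtain ⟨K', hK'⟩ := Subgroup.exists_right_complement'_of_coprime hcop
  obtain ⟨K, hK⟩ : ∃ K, K = K'.map L.subtype := ⟨_, rfl⟩
  have hKL : K ≤ L := by rw [hK]; exact Subgroup.map_subtype_le K'
  have hKcard : ¬ p ∣ Nat.card K := by
    rw [hK, Subgroup.card_map_of_injective L.subtype_injective, ← hK'.symm.index_eq_card]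
    exact hidx
  have hdecomp : ∀ n ∈ L, ∃ u ∈ (P : Subgroup G), ∃ k ∈ K, n = u * k := by
    intro n hn
    obtain ⟨⟨u', k'⟩, huk⟩ := hK'.2 ⟨n, hn⟩
    refine ⟨(u' : L), u'.2, (k' : L), ?_, ?_⟩
    · rw [hK]; exact Subgroup.mem_map_of_mem L.subtype k'.2
    · have := congrArg Subtype.val huk
      simpa using this.symm
  have hKP : K ≤ Subgroup.normalizer ((P : Subgroup G) : Set G) := hL ▸ hKL
  obtain ⟨ν, hν1, -, hν3, -⟩ := exists_normMap (P : Subgroup G) K hP hKP
  obtain ⟨Z₀, hZ₀⟩ : ∃ Z₀, Z₀ = (P : Subgroup G) ⊓ Subgroup.centralizer (L : Set G) := ⟨_, rfl⟩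
  change ∃ (N : Subgroup G) (hN : N.Normal), Nonempty (G ⧸ N ≃* ((P : Subgroup G) ⊓
      Subgroup.centralizer ((Subgroup.normalizer ((P : Subgroup G) : Set G) : Subgroup G) : Set G) : Subgroup G))
  rw [← hL, ← hZ₀]
  let V : G →* (P : Subgroup G) := MonoidHom.transfer (MonoidHom.id (P : Subgroup G))
  let ψ : G →* G := (P : Subgroup G).subtype.comp (ν.comp V)
  have hψ : ∀ g, ψ g ∈ Z₀ := by
    intro g
    have h1 : ψ g = ((ν (V g) : (P : Subgroup G)) : G) := rfl
    rw [h1, hZ₀]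
    refine Subgroup.mem_inf.2 ⟨(ν (V g)).2, ?_⟩
    rw [Subgroup.mem_centralizer_iff]
    intro n hn
    obtain ⟨u, hu, k, hk, rfl⟩ := hdecomp n hn
    have e1 : u * (ν (V g) : G) = (ν (V g) : G) * u := by
      have := hP.is_comm.comm (⟨u, hu⟩ : (P : Subgroup G)) (ν (V g))
      exact congrArg Subtype.val this
    have e2 : k * (ν (V g) : G) * k⁻¹ = (ν (V g) : G) := by
      have := hν1 (V g) ⟨k, hk⟩
      exact congrArg Subtype.val this
    calc u * k * (ν (V g) : G) = u * (k * (ν (V g) : G) * k⁻¹) * k := by group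
      _ = (ν (V g) : G) * (u * k) := by rw [e2, e1]; group
  let φ : G →* Z₀ := ψ.codRestrict Z₀ hψ
  have hφsurj : Function.Surjective φ := by
    intro z
    have hZ₀P : Z₀ ≤ (P : Subgroup G) := by rw [hZ₀]; exact inf_le_left
    have hZ₀C : Z₀ ≤ Subgroup.centralizer (L : Set G) := by rw [hZ₀]; exact inf_le_right
    have hZp : IsPGroup p Z₀ := P.2.to_le hZ₀P
    have hm : ¬ p ∣ (P : Subgroup G).index * Nat.card K :=
      Nat.Prime.not_dvd_mul hpp P.not_dvd_index hKcard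
    obtain ⟨w, hw⟩ := (hZp.powEquiv' hm).surjective z
    have hw' : w ^ ((P : Subgroup G).index * Nat.card K) = z := hw
    have hwP : ∀ i : ℕ, (w : G) ^ i ∈ (P : Subgroup G) := fun i =>
      Subgroup.pow_mem _ (hZ₀P w.2) i
    have hwC : ∀ i : ℕ, ∀ n ∈ L, n * (w : G) ^ i * n⁻¹ = (w : G) ^ i := by
      intro i n hn
      have h1 : (w : G) ^ i ∈ Subgroup.centralizer (L : Set G) :=
        Subgroup.pow_mem _ (hZ₀C w.2) i
      rw [Subgroup.mem_centralizer_iff] at h1
      rw [h1 n hn, mul_inv_cancel_right]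
    refine ⟨(w : G), ?_⟩
    apply Subtype.ext
    show ((ν (V (w : G)) : (P : Subgroup G)) : G) = z
    have key : ∀ (k : ℕ) (g₀ : G), g₀⁻¹ * (w : G) ^ k * g₀ ∈ (P : Subgroup G) →
        g₀⁻¹ * (w : G) ^ k * g₀ = (w : G) ^ k := by
      intro k g₀ hk
      obtain ⟨n, hn, h⟩ := P.conj_eq_normalizer_conj_of_mem ((w : G) ^ k) g₀ (hwP k) hk
      rw [h]
      have h2 := hwC k n⁻¹ (L.inv_mem (hL ▸ hn))
      rw [inv_inv] at h2
      exact h2
    have hV : V (w : G) = ⟨(w : G) ^ (P : Subgroup G).index, hwP _⟩ := by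
      have := MonoidHom.transfer_eq_pow (MonoidHom.id (P : Subgroup G)) (w : G) key
      exact this
    rw [hV]
    have hν := hν3 ⟨(w : G) ^ (P : Subgroup G).index, hwP _⟩ (by
      intro b
      apply Subtype.ext
      exact hwC _ (b : G) (hKL b.2))
    rw [hν]
    rw [Subgroup.coe_pow, Subgroup.coe_mk, ← pow_mul, ← hw']
    rfl
  exact ⟨φ.ker, inferInstance, ⟨QuotientGroup.quotientKerEquivOfSurjective φ hφsurj⟩⟩

end Cfsg.Agent.H1
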