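import Mathlib
import Cfsg.Agent.H1.Basic

/-! Helper lemmas on finite `p`-groups (helper1). -/

namespace Cfsg.Agent.H1

variable {G : Type*} [Group G]

/-- maximal subgroups of a finite `p`-group are normal of index `p` -/
lemma coatom_normal_index_of_pgroup [Finite G] {p : ℕ} [Fact p.Prime] (hG : IsPGroup p G)
    (M : Subgroup G) (hM : IsCoatom M) : M.Normal ∧ M.index = p := by
  have hnil : Group.IsNilpotent G := hG.isNilpotent
  have hn : M.Normal := ((Group.isNilpotent_of_finite_tfae (G := G)).out 0 2 rfl rfl).mp hnil M hM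
  refine ⟨hn, ?_⟩
  obtain ⟨m, hm⟩ := (hG.to_subgroup M).exists_card_eq
  obtain ⟨n, hn'⟩ := hG.exists_card_eq
  have hlt : m < n := by
    have h1 : Nat.card M < Nat.card G := by
      rcases (Subgroup.card_le_card_group M).lt_or_eq with h | h
      · exact h
      · exact absurd ((Subgroup.card_eq_iff_eq_top M).mp h) hM.1
    rw [hm, hn'] at h1
    exact (Nat.pow_lt_pow_iff_right (Fact.out : p.Prime).one_lt).mp h1
  have hdvd : p ^ (m + 1) ∣ Nat.card G := by rw [hn']; exact pow_dvd_pow p hlt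
  obtain ⟨K, hK, hMK⟩ := Sylow.exists_subgroup_card_pow_succ hdvd hm
  have hKtop : K = ⊤ := by
    by_contra hne
    have := hM.2 K (lt_of_le_of_ne hMK (by
      intro h
      rw [← h, hm] at hK
      have := Nat.pow_right_injective (Fact.out : p.Prime).two_le hK
      omega))
    exact hne this
  rw [hKtop, Subgroup.card_top, hn'] at hK
  have hnm : n = m + 1 := Nat.pow_right_injective (Fact.out : p.Prime).two_le hK
  have h3 := M.card_mul_index
  rw [hm, hn', hnm, pow_succ] at h3
  exact Nat.eq_of_mul_eq_mul_left (pow_pos (Fact.out : p.Prime).pos m) h3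

/-- an abelian group of exponent `p` has trivial Frattini subgroup -/
lemma frattini_eq_bot_of_elementary_abelian {V : Type*} [Group V] [Finite V] {p : ℕ} [Fact p.Prime]
    (hcomm : ∀ a b : V, a * b = b * a) (hexp : ∀ v : V, v ^ p = 1) : frattini V = ⊥ := by
  rw [eq_bot_iff]
  intro x hx
  rw [Subgroup.mem_bot]
  by_contra hx1
  -- a subgroup maximal with respect to avoiding x
  obtain ⟨H, hH⟩ := Set.Finite.exists_maximal (Set.toFinite {H : Subgroup V | x ∉ H})
    ⟨⊥, by simpa using hx1⟩
  have hxH : x ∉ H := hH.prop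
  have hmax : ∀ K : Subgroup V, H < K → x ∈ K := by
    intro K hK
    by_contra hxK
    exact absurd (hH.le_of_ge hxK hK.le) (not_le_of_gt hK)
  have hsup : H ⊔ Subgroup.zpowers x = ⊤ := by
    rw [eq_top_iff]
    intro y _
    by_contra hy
    have hyH : y ∉ H := fun h => hy (le_sup_left (a := H) h)
    have hlt : H < H ⊔ Subgroup.zpowers y :=
      lt_of_le_of_ne le_sup_left (fun h => hyH (h ▸ (le_sup_right (a := H) (Subgroup.mem_zpowers y))))
    have hxK := hmax _ hlt
    let _ : CommGroup V := { ‹Group V› with mul_comm := hcomm }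
    have hxK' : ∃ h ∈ H, ∃ z ∈ Subgroup.zpowers y, h * z = x := Subgroup.mem_sup.mp hxK
    replace hxK := hxK'
    obtain ⟨h, hh, z, hz, hxz⟩ := hxK
    obtain ⟨i, rfl⟩ := Subgroup.mem_zpowers_iff.mp hz
    -- y ^ i = h⁻¹ * x ∈ H ⊔ zpowers x
    have hyi : y ^ i ∈ H ⊔ Subgroup.zpowers x := by
      have : y ^ i = h⁻¹ * x := by rw [← hxz]; group
      rw [this]
      exact Subgroup.mul_mem _ (le_sup_left (a := H) (H.inv_mem hh))
        (le_sup_right (a := H) (Subgroup.mem_zpowers x))
    by_cases hpi : (p : ℤ) ∣ i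
    · obtain ⟨j, rfl⟩ := hpi
      have : y ^ ((p : ℤ) * j) = 1 := by rw [zpow_mul, zpow_natCast, hexp, one_zpow]
      rw [this, mul_one] at hxz
      exact hxH (hxz ▸ hh)
    · -- gcd(i, p) = 1
      have hcop : IsCoprime i (p : ℤ) := by
        rw [isCoprime_comm]
        exact (Int.prime_iff_natAbs_prime.mpr (by simpa using (Fact.out : p.Prime))).coprime_iff_not_dvd.mpr hpi
      obtain ⟨a, b, hab⟩ := hcop
      have : y = (y ^ i) ^ a * (y ^ (p : ℤ)) ^ b := by
        rw [← zpow_mul, ← zpow_mul, ← zpow_add, mul_comm i a, mul_comm (p : ℤ) b, hab, zpow_one]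
      rw [zpow_natCast, hexp, one_zpow, mul_one] at this
      apply hy
      rw [this]
      exact Subgroup.zpow_mem _ hyi a
  have hco : IsCoatom H := by
    refine ⟨fun h => hxH (h ▸ Subgroup.mem_top x), ?_⟩
    intro K hK
    rw [eq_top_iff, ← hsup]
    exact sup_le hK.le (by rw [Subgroup.zpowers_le]; exact hmax K hK)
  exact hxH (frattini_le_coatom hco hx)

open scoped commutatorElement in
/-- in a finite p-group, p-th powers lie in the Frattini subgroup -/
lemma pow_p_mem_frattini {P : Type*} [Group P] [Finite P] {p : ℕ} [Fact p.Prime] (hP : IsPGroup p P) (x : P) :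
    x ^ p ∈ frattini P := by
  unfold frattini Order.radical
  rw [Subgroup.mem_iInf]
  intro M
  rw [Subgroup.mem_iInf]
  intro hM
  obtain ⟨hn, hidx⟩ := coatom_normal_index_of_pgroup hP M hM
  rw [← hidx]
  exact Subgroup.pow_index_mem M x

open scoped commutatorElement in
/-- if ⁅x,y⁆ is central then ⁅x^n, y⁆ = ⁅x,y⁆^n -/
lemma commutator_pow_of_central {P : Type*} [Group P] (x y : P) (h : ⁅x, y⁆ ∈ Subgroup.center P) (n : ℕ) :
    ⁅x ^ n, y⁆ = ⁅x, y⁆ ^ n := by
  induction n with
  | zero => simp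
  | succ n ih =>
    have h1 : ⁅x ^ (n + 1), y⁆ = x * ⁅x ^ n, y⁆ * x⁻¹ * ⁅x, y⁆ := by
      simp only [commutatorElement_def, pow_succ']
      group
    rw [h1, ih]
    have h2 : ⁅x, y⁆ ^ n ∈ Subgroup.center P := pow_mem h n
    rw [Subgroup.mem_center_iff] at h2
    rw [h2 x, mul_inv_cancel_right, pow_succ]


end Cfsg.Agent.H1
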