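import Mathlib
import Cfsg.Agent.H1.PGroup

/-! Frattini subgroup of finite `p`-groups (helper1). -/

namespace Cfsg.Agent.H1

/-- the derived subgroup of a finite p-group lies in its Frattini subgroup -/
lemma commutator_le_frattini {P : Type*} [Group P] [Finite P] {p : ℕ} [Fact p.Prime] (hP : IsPGroup p P) :
    commutator P ≤ frattini P := by
  unfold frattini Order.radical
  rw [le_iInf_iff]
  intro M
  rw [le_iInf_iff]
  intro hM
  obtain ⟨hn, hidx⟩ := coatom_normal_index_of_pgroup hP M hM
  rw [← Subgroup.Normal.quotient_commutative_iff_commutator_le]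
  have : Nat.card (P ⧸ M) = p := hidx
  have hcyc : IsCyclic (P ⧸ M) := isCyclic_of_prime_card this
  infer_instance

end Cfsg.Agent.H1
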