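import Mathlib
import Cfsg.Agent.H1.Frattini
import Cfsg.Agent.H1.PGroup

set_option autoImplicit false

namespace Cfsg.Agent.H1

open scoped commutatorElement

section
variable {G : Type*} [Group G] [Finite G] {p : ℕ} [Fact p.Prime]

/-- adjoining an element `x ∉ K` with `x ^ p ∈ K` to a normal subgroup divides the index by `p` -/
lemma index_eq_mul_index_sup_zpowers (K : Subgroup G) [K.Normal] (x : G) (hxK : x ∉ K) (hxp : x ^ p ∈ K) :
    K.index = p * (K ⊔ Subgroup.zpowers x).index := by
  have hpp : p.Prime := Fact.out
  have hsurj := QuotientGroup.mk'_surjective K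
  have h1 : (K ⊔ Subgroup.zpowers x) = (Subgroup.zpowers (QuotientGroup.mk' K x)).comap (QuotientGroup.mk' K) := by
    rw [← MonoidHom.map_zpowers, Subgroup.comap_map_eq, QuotientGroup.ker_mk', sup_comm]
  rw [h1, Subgroup.index_comap_of_surjective _ hsurj]
  have h2 : orderOf (QuotientGroup.mk' K x) = p := by
    apply orderOf_eq_prime
    · rw [← map_pow]; exact (QuotientGroup.eq_one_iff _).2 hxp
    · intro h; exact hxK ((QuotientGroup.eq_one_iff _).1 h)
  have h3 := Subgroup.card_mul_index (Subgroup.zpowers (QuotientGroup.mk' K x))
  rw [Nat.card_zpowers, h2] at h3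
  rw [h3]; rfl

lemma normal_of_frattini_le (hG : IsPGroup p G) (K : Subgroup G) (hK : frattini G ≤ K) : K.Normal := by
  constructor
  intro k hk g
  have h1 : ⁅g, k⁆ ∈ K := hK (commutator_le_frattini hG (Subgroup.commutator_mem_commutator (Subgroup.mem_top g) (Subgroup.mem_top k)))
  have : g * k * g⁻¹ = ⁅g, k⁆ * k := by rw [commutatorElement_def]; group
  rw [this]; exact K.mul_mem h1 hk

lemma frattini_sup_closure_insert [DecidableEq G] (T : Finset G) (s : G) :
    frattini G ⊔ Subgroup.closure ((insert s T : Finset G) : Set G) =
      (frattini G ⊔ Subgroup.closure (T : Set G)) ⊔ Subgroup.zpowers s := by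
  rw [Finset.coe_insert, Set.insert_eq, Subgroup.closure_union, ← Subgroup.zpowers_eq_closure,
    sup_comm (Subgroup.zpowers s), sup_assoc]

theorem burnside_basis (p n : ℕ) [Fact p.Prime]
    (hG : IsPGroup p G) (hn : (frattini G).index = p ^ n) :
    (∀ S : Finset G, Subgroup.closure (S : Set G) = ⊤ → ∃ T : Finset G, T ⊆ S ∧ T.card = n ∧ Subgroup.closure (T : Set G) = ⊤) ∧
    (∀ T : Finset G, Subgroup.closure (T : Set G) = ⊤ → n ≤ T.card) := by
  classical
  have hpp : p.Prime := Fact.out
  constructor
  · intro S hS
    have key : ∀ k ≤ n, ∃ T : Finset G, T ⊆ S ∧ T.card = k ∧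
        (frattini G ⊔ Subgroup.closure (T : Set G)).index = p ^ (n - k) := by
      intro k
      induction k with
      | zero =>
        intro _
        refine ⟨∅, Finset.empty_subset _, rfl, ?_⟩
        simp [hn]
      | succ k ih =>
        intro hk
        obtain ⟨T, hTS, hTc, hTi⟩ := ih (by omega)
        have hne : frattini G ⊔ Subgroup.closure (T : Set G) ≠ ⊤ := by
          intro h
          rw [h, Subgroup.index_top] at hTi
          have : 1 < p ^ (n - k) := Nat.one_lt_pow (by omega) hpp.one_lt
          omega
        obtain ⟨s, hsS, hs⟩ : ∃ s ∈ S, s ∉ frattini G ⊔ Subgroup.closure (T : Set G) := by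
          by_contra hcon
          push Not at hcon
          apply hne
          rw [eq_top_iff, ← hS, Subgroup.closure_le]
          intro s hs
          exact hcon s hs
        have hsT : s ∉ T := fun h => hs (Subgroup.mem_sup_right (Subgroup.subset_closure h))
        refine ⟨insert s T, Finset.insert_subset hsS hTS, ?_, ?_⟩
        · rw [Finset.card_insert_of_notMem hsT, hTc]
        · rw [frattini_sup_closure_insert]
          have := normal_of_frattini_le hG (frattini G ⊔ Subgroup.closure (T : Set G)) le_sup_left
          have h1 := index_eq_mul_index_sup_zpowers (p := p) (frattini G ⊔ Subgroup.closure (T : Set G)) s hs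
            (Subgroup.mem_sup_left (pow_p_mem_frattini hG s))
          rw [hTi] at h1
          have h2 : p ^ (n - k) = p * p ^ (n - (k + 1)) := by
            rw [← pow_succ']; congr 1; omega
          rw [h2] at h1
          exact (Nat.eq_of_mul_eq_mul_left hpp.pos h1).symm
    obtain ⟨T, hTS, hTc, hTi⟩ := key n le_rfl
    refine ⟨T, hTS, hTc, ?_⟩
    rw [Nat.sub_self, pow_zero, Subgroup.index_eq_one, sup_comm] at hTi
    exact frattini_nongenerating hTi
  · intro T hT
    have key : ∀ T : Finset G, p ^ n ≤ (frattini G ⊔ Subgroup.closure (T : Set G)).index * p ^ T.card := by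
      intro T
      induction T using Finset.induction_on with
      | empty => simp [hn]
      | insert s T hsT ih =>
        rw [Finset.card_insert_of_notMem hsT, frattini_sup_closure_insert]
        by_cases hs : s ∈ frattini G ⊔ Subgroup.closure (T : Set G)
        · have : (frattini G ⊔ Subgroup.closure (T : Set G)) ⊔ Subgroup.zpowers s =
              frattini G ⊔ Subgroup.closure (T : Set G) := by
            rw [sup_eq_left, Subgroup.zpowers_le]; exact hs
          rw [this, pow_succ, ← mul_assoc]
          exact ih.trans (Nat.le_mul_of_pos_right _ hpp.pos)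
        · have := normal_of_frattini_le hG (frattini G ⊔ Subgroup.closure (T : Set G)) le_sup_left
          have h1 := index_eq_mul_index_sup_zpowers (p := p) (frattini G ⊔ Subgroup.closure (T : Set G)) s hs
            (Subgroup.mem_sup_left (pow_p_mem_frattini hG s))
          rw [h1] at ih
          calc p ^ n ≤ p * _ * p ^ T.card := ih
            _ = _ := by ring
    have h := key T
    rw [hT, sup_top_eq, Subgroup.index_top, one_mul] at h
    exact (Nat.pow_le_pow_iff_right hpp.one_lt).1 h

end

end Cfsg.Agent.H1
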