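import Mathlib
import Cfsg.Agent.Lib.Lead.PGroup
import Cfsg.Agent.Lib.Helper7.Core

set_option autoImplicit false

namespace Cfsg.Agent.H1

/-- In a finite `p`-group, between normal subgroups `M < Q` there is an element of `Q` outside `M`
that is central of order `p` modulo `M`. -/
lemma exists_central_order_p_mod {P : Type*} [Group P] [Finite P] {p : ℕ} [Fact p.Prime]
    (hP : IsPGroup p P) (M Q : Subgroup P) [hM : M.Normal] [hQ : Q.Normal] (hne : ¬ Q ≤ M) :
    ∃ x ∈ Q, x ∉ M ∧ x ^ p ∈ M ∧ ∀ g : P, x * g * x⁻¹ * g⁻¹ ∈ M := by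
  have hπ1 : ∀ g : P, (QuotientGroup.mk' M g = 1) ↔ g ∈ M := by
    intro g
    rw [QuotientGroup.mk'_apply, QuotientGroup.eq_one_iff]
  have hsurj : Function.Surjective (QuotientGroup.mk' M) := QuotientGroup.mk'_surjective M
  haveI : (Q.map (QuotientGroup.mk' M)).Normal := hQ.map _ hsurj
  have hPbar : IsPGroup p (P ⧸ M) := hP.to_quotient M
  have hQne : Q.map (QuotientGroup.mk' M) ≠ ⊥ := by
    intro h
    apply hne
    intro x hx
    rw [← hπ1]
    have : QuotientGroup.mk' M x ∈ Q.map (QuotientGroup.mk' M) := Subgroup.mem_map_of_mem _ hx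
    rw [h, Subgroup.mem_bot] at this
    exact this
  obtain ⟨z, hzQ, hzZ, hz1⟩ :=
    Cfsg.Agent.Lib.Lead.PGroup.exists_mem_center_of_normal hPbar (Q.map (QuotientGroup.mk' M)) hQne
  obtain ⟨k, hk⟩ := IsPGroup.iff_orderOf.1 hPbar z
  have hk0 : k ≠ 0 := by
    intro h
    rw [h, pow_zero, orderOf_eq_one_iff] at hk
    exact hz1 hk
  have hp : p.Prime := Fact.out
  have hw1 : z ^ (p ^ (k - 1)) ≠ 1 := by
    apply pow_ne_one_of_lt_orderOf (pow_ne_zero _ hp.ne_zero)
    rw [hk]
    exact Nat.pow_lt_pow_right hp.one_lt (by omega)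
  have hwp : (z ^ (p ^ (k - 1))) ^ p = 1 := by
    rw [← pow_mul, ← pow_succ, Nat.sub_add_cancel (Nat.one_le_iff_ne_zero.2 hk0), ← hk,
      pow_orderOf_eq_one]
  have hwQ : z ^ (p ^ (k - 1)) ∈ Q.map (QuotientGroup.mk' M) := Subgroup.pow_mem _ hzQ _
  have hwZ : z ^ (p ^ (k - 1)) ∈ Subgroup.center (P ⧸ M) := Subgroup.pow_mem _ hzZ _
  obtain ⟨x, hxQ, hxw⟩ := Subgroup.mem_map.1 hwQ
  refine ⟨x, hxQ, ?_, ?_, ?_⟩
  · intro hxM
    apply hw1
    rw [← hxw]
    exact (hπ1 x).2 hxM
  · rw [← hπ1, map_pow, hxw]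
    exact hwp
  · intro g
    rw [← hπ1, map_mul, map_mul, map_mul, map_inv, map_inv, hxw]
    rw [Subgroup.mem_center_iff] at hwZ
    rw [← hwZ (QuotientGroup.mk' M g)]
    group

/-- Thompson's critical subgroup. -/
theorem exists_critical_subgroup' {P : Type*} [Group P] [Finite P] {p : ℕ} [Fact p.Prime]
    (hP : IsPGroup p P) :
    ∃ H : Subgroup P, H.Characteristic ∧
      (frattini H).map H.subtype ≤ Subgroup.centralizer (H : Set P) ∧
      ⁅H, (⊤ : Subgroup P)⁆ ≤ H ⊓ Subgroup.centralizer (H : Set P) ∧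
      Subgroup.centralizer (H : Set P) ≤ H := by
  classical
  -- maximal characteristic abelian subgroup
  obtain ⟨M, -, hMmax⟩ := Finite.exists_le_maximal
    (p := fun A : Subgroup P => A.Characteristic ∧ ∀ a ∈ A, ∀ b ∈ A, a * b = b * a)
    (a := (⊥ : Subgroup P)) ⟨inferInstance, by
      intro a ha b hb
      rw [Subgroup.mem_bot] at ha hb
      rw [ha, hb]⟩
  obtain ⟨⟨hMchar, hMab⟩, hMmax'⟩ := hMmax
  haveI := hMchar
  haveI hMn : M.Normal := inferInstance
  have hπ1 : ∀ g : P, (QuotientGroup.mk' M g = 1) ↔ g ∈ M := by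
    intro g
    rw [QuotientGroup.mk'_apply, QuotientGroup.eq_one_iff]
  have hCchar : (Subgroup.centralizer (M : Set P)).Characteristic := inferInstance
  -- the subgroup H
  let H : Subgroup P :=
    { carrier := {x | x ∈ Subgroup.centralizer (M : Set P) ∧ x ^ p ∈ M ∧
        ∀ g : P, x * g * x⁻¹ * g⁻¹ ∈ M}
      one_mem' := ⟨one_mem _, by rw [one_pow]; exact one_mem _, fun g => by
        have : (1 : P) * g * 1⁻¹ * g⁻¹ = 1 := by group
        rw [this]; exact one_mem _⟩
      mul_mem' := by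
        rintro x y ⟨hx1, hx2, hx3⟩ ⟨hy1, hy2, hy3⟩
        refine ⟨mul_mem hx1 hy1, ?_, ?_⟩
        · rw [← hπ1, map_pow, map_mul]
          have hcomm : Commute (QuotientGroup.mk' M x) (QuotientGroup.mk' M y) := by
            have h := (hπ1 _).2 (hx3 y)
            rw [map_mul, map_mul, map_mul, map_inv, map_inv] at h
            show _ * _ = _ * _
            calc QuotientGroup.mk' M x * QuotientGroup.mk' M y
                = (QuotientGroup.mk' M x * QuotientGroup.mk' M y * (QuotientGroup.mk' M x)⁻¹ *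
                  (QuotientGroup.mk' M y)⁻¹) * (QuotientGroup.mk' M y * QuotientGroup.mk' M x) := by
                  group
              _ = QuotientGroup.mk' M y * QuotientGroup.mk' M x := by rw [h, one_mul]
          rw [hcomm.mul_pow, ← map_pow, ← map_pow, (hπ1 _).2 hx2, (hπ1 _).2 hy2, one_mul]
        · intro g
          have : x * y * g * (x * y)⁻¹ * g⁻¹ = x * (y * g * y⁻¹ * g⁻¹) * x⁻¹ * (x * g * x⁻¹ * g⁻¹) := by
            group
          rw [this]
          exact mul_mem (hMn.conj_mem _ (hy3 g) x) (hx3 g)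
      inv_mem' := by
        rintro x ⟨hx1, hx2, hx3⟩
        refine ⟨inv_mem hx1, ?_, ?_⟩
        · rw [inv_pow]; exact inv_mem hx2
        · intro g
          have : x⁻¹ * g * x⁻¹⁻¹ * g⁻¹ = x⁻¹ * (x * g * x⁻¹ * g⁻¹)⁻¹ * x⁻¹⁻¹ := by group
          rw [this]
          exact hMn.conj_mem _ (inv_mem (hx3 g)) x⁻¹ }
  have hmemH : ∀ x, x ∈ H ↔ (x ∈ Subgroup.centralizer (M : Set P) ∧ x ^ p ∈ M ∧
        ∀ g : P, x * g * x⁻¹ * g⁻¹ ∈ M) := fun x => Iff.rfl
  -- H is characteristic
  have hHchar : H.Characteristic := by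
    rw [Subgroup.characteristic_iff_le_comap]
    intro φ x hx
    obtain ⟨hx1, hx2, hx3⟩ := (hmemH x).1 hx
    rw [Subgroup.mem_comap]
    refine (hmemH _).2 ⟨?_, ?_, ?_⟩
    · exact Subgroup.characteristic_iff_le_comap.1 hCchar φ hx1
    · have := Subgroup.characteristic_iff_le_comap.1 hMchar φ hx2
      rw [Subgroup.mem_comap, map_pow] at this
      exact this
    · intro g
      have h1 := Subgroup.characteristic_iff_le_comap.1 hMchar φ (hx3 (φ.symm g))
      rw [Subgroup.mem_comap] at h1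
      simp only [MulEquiv.coe_toMonoidHom, map_mul, map_inv, MulEquiv.apply_symm_apply] at h1
      exact h1
  haveI := hHchar
  haveI hHn : H.Normal := inferInstance
  -- M ≤ H
  have hMH : M ≤ H := by
    intro m hm
    refine (hmemH m).2 ⟨?_, pow_mem hm _, ?_⟩
    · rw [Subgroup.mem_centralizer_iff]
      intro a ha
      exact hMab a ha m hm
    · intro g
      have h := hMn.conj_mem _ (inv_mem hm) g
      have e : m * g * m⁻¹ * g⁻¹ = m * (g * m⁻¹ * g⁻¹) := by group
      rw [e]
      exact mul_mem hm h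
  -- M centralizes H
  have hMcH : M ≤ Subgroup.centralizer (H : Set P) := by
    intro m hm
    rw [Subgroup.mem_centralizer_iff]
    intro h hh
    have := ((hmemH h).1 hh).1
    rw [Subgroup.mem_centralizer_iff] at this
    exact (this m hm).symm
  -- Z(H) = M
  have hZchar : (H ⊓ Subgroup.centralizer (H : Set P)).Characteristic := inferInstance
  have hZM : H ⊓ Subgroup.centralizer (H : Set P) ≤ M := by
    apply hMmax' ⟨hZchar, ?_⟩ (le_inf hMH hMcH)
    intro a ha b hb
    have ha2 := (Subgroup.mem_inf.1 ha).2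
    rw [Subgroup.mem_centralizer_iff] at ha2
    exact (ha2 b (Subgroup.mem_inf.1 hb).1).symm
  refine ⟨H, hHchar, ?_, ?_, ?_⟩
  · -- Frattini
    have h1 : frattini H ≤ M.subgroupOf H := by
      apply Cfsg.Agent.Lib.Helper7.frattini_le_of_elemAb_quotient p
      · intro x y
        rw [Subgroup.mem_subgroupOf]
        have := ((hmemH x).1 x.2).2.2 (y : P)
        simpa using this
      · intro x
        rw [Subgroup.mem_subgroupOf]
        have := ((hmemH x).1 x.2).2.1
        simpa using this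
    intro y hy
    obtain ⟨x, hx, rfl⟩ := Subgroup.mem_map.1 hy
    exact hMcH (Subgroup.mem_subgroupOf.1 (h1 hx))
  · rw [Subgroup.commutator_le]
    intro x hx g _
    rw [commutatorElement_def]
    exact le_inf hMH hMcH (((hmemH x).1 hx).2.2 g)
  · by_contra hcon
    haveI : (Subgroup.centralizer (H : Set P)).Normal := inferInstance
    have hne : ¬ Subgroup.centralizer (H : Set P) ≤ M := fun h => hcon (h.trans hMH)
    obtain ⟨x, hxQ, hxM, hxp, hxc⟩ :=
      exists_central_order_p_mod hP M (Subgroup.centralizer (H : Set P)) hne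
    have hxH : x ∈ H := by
      refine (hmemH x).2 ⟨?_, hxp, hxc⟩
      exact Subgroup.centralizer_le hMH hxQ
    exact hxM (hZM (Subgroup.mem_inf.2 ⟨hxH, hxQ⟩))

end Cfsg.Agent.H1
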