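import Mathlib
import Cfsg.Prelude.Def_Transfer

set_option autoImplicit false
open scoped Pointwise

namespace Cfsg.Agent.H1

universe u

/-- all elements of the commutative subring generated by `f` (with `f ^ n = f`, char `q`, `n = q^e`)
are fixed by `r ↦ r ^ n` -/
lemma pow_eq_self_of_mem_closure {E : Type*} [Ring E] {q : ℕ} [Fact q.Prime] [CharP E q] (e : ℕ)
    (f : E) (hf : f ^ q ^ e = f) : ∀ x ∈ Subring.closure ({f} : Set E), x ^ q ^ e = x := by
  have hcomm : ∀ x ∈ Subring.closure ({f} : Set E), ∀ y ∈ Subring.closure ({f} : Set E), Commute x y := by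
    intro x hx y hy
    have hc : IsMulCommutative (Subring.closure ({f} : Set E)) := Subring.isMulCommutative_closure (by
      intro a ha b hb
      rw [Set.mem_singleton_iff] at ha hb
      rw [ha, hb])
    have := hc.is_comm.comm (⟨x, hx⟩ : Subring.closure ({f} : Set E)) ⟨y, hy⟩
    exact congrArg Subtype.val this
  intro x hx
  induction hx using Subring.closure_induction with
  | mem x hx =>
    rw [Set.mem_singleton_iff] at hx
    rw [hx, hf]
  | zero => exact zero_pow (pow_pos (Fact.out : q.Prime).pos e).ne'
  | one => exact one_pow _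
  | add x y hx hy ihx ihy =>
    rw [add_pow_char_pow_of_commute q e (hcomm x hx y hy), ihx, ihy]
  | neg x hx ihx =>
    rw [neg_pow, ihx, neg_one_pow_char_pow, neg_one_mul]
  | mul x y hx hy ihx ihy =>
    rw [(hcomm x hx y hy).mul_pow, ihx, ihy]

/-- a finite commutative domain all of whose elements satisfy `x ^ n = x` (`2 ≤ n`) has at most `n` elements -/
lemma card_le_of_pow_eq_self {R : Type*} [CommRing R] [IsDomain R] [Finite R] (n : ℕ) (hn : 2 ≤ n)
    (h : ∀ x : R, x ^ n = x) : Nat.card R ≤ n := by
  classical
  have := Fintype.ofFinite R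
  rw [Nat.card_eq_fintype_card]
  let P : Polynomial R := Polynomial.X ^ n - Polynomial.X
  have hdeg : P.natDegree = n := by
    have h1 : (Polynomial.X ^ n - Polynomial.X : Polynomial R).natDegree = (Polynomial.X ^ n : Polynomial R).natDegree := by
      apply Polynomial.natDegree_sub_eq_left_of_natDegree_lt
      rw [Polynomial.natDegree_X, Polynomial.natDegree_X_pow]
      omega
    rw [Polynomial.natDegree_X_pow] at h1
    exact h1
  have hP0 : P ≠ 0 := by
    intro h0
    rw [h0, Polynomial.natDegree_zero] at hdeg
    omega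
  have hroots : ∀ x : R, x ∈ P.roots := by
    intro x
    rw [Polynomial.mem_roots hP0]
    simp [P, h x]
  calc Fintype.card R = (Finset.univ : Finset R).card := rfl
    _ ≤ P.roots.toFinset.card := by
        apply Finset.card_le_card
        intro x _
        rw [Multiset.mem_toFinset]; exact hroots x
    _ ≤ Multiset.card P.roots := Multiset.toFinset_card_le _
    _ ≤ P.natDegree := Polynomial.card_roots' P
    _ = n := hdeg

open scoped IsMulCommutative in
/-- an irreducible module for a cyclic group of prime order `p` over the field of `q` elements,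
with nontrivial action, has `q ^ (order of q mod p)` elements -/
theorem card_of_irreducible_prime_order {V : Type*} [AddCommGroup V] [Finite V] {p q : ℕ}
    (hp : p.Prime) (hq : q.Prime) (hpq : q ≠ p)
    (hV : ∀ v : V, q • v = 0) (f : AddMonoid.End V) (hfp : f ^ p = 1) (hf1 : f ≠ 1)
    (hirr : ∀ W : AddSubgroup V, (∀ w ∈ W, f w ∈ W) → W = ⊥ ∨ W = ⊤) :
    Nat.card V = q ^ orderOf (q : ZMod p) := by
  have : Fact p.Prime := ⟨hp⟩
  have : Fact q.Prime := ⟨hq⟩
  have hVnt : Nontrivial V := by
    by_contra h
    rw [not_nontrivial_iff_subsingleton] at h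
    apply hf1
    ext v
    exact Subsingleton.elim _ _
  obtain ⟨v, hv⟩ := exists_ne (0 : V)
  have hEnt : Nontrivial (AddMonoid.End V) := ⟨⟨0, 1, fun h => by
    apply hv
    have := DFunLike.congr_fun h v
    rw [AddMonoid.End.zero_apply, AddMonoid.End.one_apply] at this
    exact this.symm⟩⟩
  have hq0 : ((q : ℕ) : AddMonoid.End V) = 0 := by
    ext w
    rw [AddMonoid.End.natCast_apply, hV, AddMonoid.End.zero_apply]
  have hchar : CharP (AddMonoid.End V) q := (CharP.charP_iff_prime_eq_zero hq).mpr hq0
  obtain ⟨e, he⟩ : ∃ e, e = orderOf (q : ZMod p) := ⟨_, rfl⟩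
  rw [← he]
  -- q ^ e = 1 + p * k
  have hqe : ∃ k, q ^ e = 1 + p * k := by
    have h1 : ((q ^ e : ℕ) : ZMod p) = ((1 : ℕ) : ZMod p) := by
      rw [Nat.cast_pow, he, pow_orderOf_eq_one, Nat.cast_one]
    rw [ZMod.natCast_eq_natCast_iff] at h1
    have h2 := (Nat.modEq_iff_dvd' (Nat.one_le_pow e q hq.pos)).mp h1.symm
    obtain ⟨k, hk⟩ := h2
    exact ⟨k, by have := Nat.one_le_pow e q hq.pos; omega⟩
  obtain ⟨k, hk⟩ := hqe
  have hfqe : f ^ q ^ e = f := by
    rw [hk, pow_add, pow_one, pow_mul, hfp, one_pow, mul_one]
  have hfix := pow_eq_self_of_mem_closure e f hfqe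
  obtain ⟨R, hR⟩ : ∃ R : Subring (AddMonoid.End V), R = Subring.closure ({f} : Set (AddMonoid.End V)) := ⟨_, rfl⟩
  rw [← hR] at hfix
  have hfR : f ∈ R := by rw [hR]; exact Subring.subset_closure rfl
  have hRc : IsMulCommutative R := by
    rw [hR]
    exact Subring.isMulCommutative_closure (by
      intro a ha b hb
      rw [Set.mem_singleton_iff] at ha hb
      rw [ha, hb])
  have hcommf : ∀ r ∈ R, r * f = f * r := by
    intro r hr
    have := hRc.is_comm.comm (⟨r, hr⟩ : R) ⟨f, hfR⟩
    exact congrArg Subtype.val this
  -- nonzero elements of R are injective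
  have hinj : ∀ r ∈ R, r ≠ 0 → ∀ w : V, r w = 0 → w = 0 := by
    intro r hr hr0 w hw
    let W : AddSubgroup V :=
      { carrier := {w | r w = 0}
        zero_mem' := map_zero r
        add_mem' := by
          intro a b ha hb
          show r (a + b) = 0
          rw [map_add, ha, hb, add_zero]
        neg_mem' := by
          intro a ha
          show r (-a) = 0
          rw [map_neg, ha, neg_zero] }
    have hker : ∀ w ∈ W, f w ∈ W := by
      intro w hw
      show r (f w) = 0
      have h1 : r (f w) = (r * f) w := rfl
      rw [h1, hcommf r hr]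
      show f (r w) = 0
      rw [hw, map_zero]
    rcases hirr _ hker with h1 | h1
    · have : w ∈ W := hw
      rw [h1, AddSubgroup.mem_bot] at this
      exact this
    · exfalso; apply hr0
      ext u
      have : u ∈ W := by rw [h1]; trivial
      exact this
  have hdom : NoZeroDivisors R := ⟨by
    intro a b hab
    by_contra hcon
    push Not at hcon
    obtain ⟨ha, hb⟩ := hcon
    have ha' : (a : AddMonoid.End V) ≠ 0 := fun h => ha (Subtype.ext h)
    have hb' : (b : AddMonoid.End V) ≠ 0 := fun h => hb (Subtype.ext h)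
    apply hb'
    ext u
    have h1 : (a : AddMonoid.End V) ((b : AddMonoid.End V) u) = ((a * b : R) : AddMonoid.End V) u := rfl
    rw [hab] at h1
    exact hinj a a.2 ha' _ h1⟩
  have hRnt : Nontrivial R := inferInstance
  have hRdom : IsDomain R := NoZeroDivisors.to_isDomain R
  have hEfin : Finite (AddMonoid.End V) := by
    show Finite (V →+ V)
    exact DFunLike.finite _
  have hRfin : Finite R := inferInstance
  have hcardR : Nat.card R ≤ q ^ e := by
    apply card_le_of_pow_eq_self
    · have h1 : 1 ≤ e := by
        rw [he]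
        apply orderOf_pos_iff.mpr
        have hunit : IsUnit (q : ZMod p) := by
          rw [ZMod.isUnit_iff_coprime]
          exact (Nat.coprime_primes hq hp).mpr hpq
        exact hunit.isOfFinOrder
      calc 2 ≤ q := hq.two_le
        _ = q ^ 1 := (pow_one q).symm
        _ ≤ q ^ e := Nat.pow_le_pow_right hq.pos h1
    · intro x
      apply Subtype.ext
      exact hfix x x.2
  -- R ≃ V
  let ev : R → V := fun r => (r : AddMonoid.End V) v
  have hev_inj : Function.Injective ev := by
    intro a b hab
    by_contra hne
    have hsub : ((a - b : R) : AddMonoid.End V) ≠ 0 := fun h => hne (sub_eq_zero.mp (Subtype.ext h))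
    have h0 : ((a - b : R) : AddMonoid.End V) v = 0 := by
      show (a : AddMonoid.End V) v - (b : AddMonoid.End V) v = 0
      exact sub_eq_zero.mpr hab
    exact hv (hinj _ (a - b).2 hsub v h0)
  have hev_surj : Function.Surjective ev := by
    let W : AddSubgroup V :=
      { carrier := Set.range ev
        zero_mem' := ⟨0, rfl⟩
        add_mem' := by
          rintro _ _ ⟨a, rfl⟩ ⟨b, rfl⟩
          exact ⟨a + b, rfl⟩
        neg_mem' := by
          rintro _ ⟨a, rfl⟩
          exact ⟨-a, rfl⟩ }
    have hWinv : ∀ w ∈ W, f w ∈ W := by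
      rintro _ ⟨a, rfl⟩
      exact ⟨⟨f, hfR⟩ * a, rfl⟩
    rcases hirr W hWinv with h1 | h1
    · exfalso
      have : v ∈ W := ⟨1, rfl⟩
      rw [h1, AddSubgroup.mem_bot] at this
      exact hv this
    · intro w
      have : w ∈ W := by rw [h1]; trivial
      exact this
  have hcardV : Nat.card V = Nat.card R := (Nat.card_eq_of_bijective ev ⟨hev_inj, hev_surj⟩).symm
  -- V is a q-group
  have hVq : IsPGroup q (Multiplicative V) := by
    intro g
    refine ⟨1, ?_⟩
    rw [pow_one]
    exact congrArg Multiplicative.ofAdd (hV (Multiplicative.toAdd g))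
  obtain ⟨d, hd⟩ := IsPGroup.iff_card.mp hVq
  have hd' : Nat.card V = q ^ d := hd
  -- fixed points
  have hmod : q ^ d ≡ 1 [MOD p] := by
    classical
    have := Fintype.ofFinite V
    obtain ⟨F, hFdef⟩ : ∃ F : Function.End V, F = ⇑f := ⟨⇑f, rfl⟩
    have hF : ∀ n : ℕ, ∃ F' : Function.End V, F' = ⇑(f ^ n) ∧ F ^ n = F' := by
      intro n
      induction n with
      | zero => exact ⟨1, rfl, rfl⟩
      | succ n ih =>
        obtain ⟨F', h1, h2⟩ := ih
        refine ⟨F' * F, ?_, by rw [pow_succ, h2]⟩
        rw [h1, hFdef, pow_succ]; rfl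
    have hFp : F ^ p ^ 1 = 1 := by
      obtain ⟨F', h1, h2⟩ := hF p
      rw [pow_one, h2, h1, hfp]; rfl
    have h1 := Equiv.Perm.card_fixedPoints_modEq hFp
    have h2 : Nat.card ↥(Function.fixedPoints F) = 1 := by
      rw [Nat.card_eq_one_iff_exists]
      refine ⟨⟨0, by rw [hFdef]; exact map_zero f⟩, ?_⟩
      rintro ⟨w, hw⟩
      apply Subtype.ext
      show w = 0
      rw [hFdef] at hw
      let W : AddSubgroup V :=
        { carrier := {w | f w = w}
          zero_mem' := map_zero f
          add_mem' := by
            intro a b ha hb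
            show f (a + b) = a + b
            rw [map_add, ha, hb]
          neg_mem' := by
            intro a ha
            show f (-a) = -a
            rw [map_neg, ha] }
      have hWinv : ∀ w ∈ W, f w ∈ W := by
        intro w hw
        have hw' : f w = w := hw
        show f (f w) = f w
        exact congrArg f hw'
      rcases hirr W hWinv with h3 | h3
      · have : w ∈ W := hw
        rw [h3, AddSubgroup.mem_bot] at this
        exact this
      · exfalso; apply hf1
        ext u
        have : u ∈ W := by rw [h3]; trivial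
        exact this
    rw [Fintype.card_eq_nat_card, Fintype.card_eq_nat_card, h2, hd'] at h1
    exact h1
  have hed : e ∣ d := by
    rw [he]
    apply orderOf_dvd_of_pow_eq_one
    have := (ZMod.natCast_eq_natCast_iff _ _ _).mpr hmod
    rw [Nat.cast_pow, Nat.cast_one] at this
    exact this
  have hd1 : 1 ≤ d := by
    by_contra hcon
    have : d = 0 := by omega
    rw [this, pow_zero] at hd'
    have : Subsingleton V := (Nat.card_eq_one_iff_unique.mp hd').1
    exact hv (Subsingleton.elim _ _)
  have hde : d ≤ e := by
    rw [hcardV] at hd'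
    rw [hd'] at hcardR
    exact (Nat.pow_le_pow_iff_right hq.one_lt).mp hcardR
  have : d = e := le_antisymm hde (Nat.le_of_dvd hd1 hed)
  rw [hd', this]

/-- multiplicative version -/
theorem card_of_irreducible_mulAut {A : Type*} [CommGroup A] [Finite A] {p q : ℕ}
    (hp : p.Prime) (hq : q.Prime) (hpq : q ≠ p) (hA : ∀ a : A, a ^ q = 1)
    (φ : MulAut A) (hφp : φ ^ p = 1) (hφ1 : φ ≠ 1)
    (hirr : ∀ B : Subgroup A, (∀ b ∈ B, φ b ∈ B) → B = ⊥ ∨ B = ⊤) :
    Nat.card A = q ^ orderOf (q : ZMod p) := by
  have hcard : Nat.card A = Nat.card (Additive A) := rfl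
  rw [hcard]
  let f : AddMonoid.End (Additive A) := MonoidHom.toAdditive φ.toMonoidHom
  have hfpow : ∀ n : ℕ, ∀ a : A, (f ^ n) (Additive.ofMul a) = Additive.ofMul ((φ ^ n) a) := by
    intro n
    induction n with
    | zero => intro a; rfl
    | succ n ih =>
      intro a
      rw [pow_succ, pow_succ]
      show (f ^ n) (f (Additive.ofMul a)) = Additive.ofMul ((φ ^ n) (φ a))
      exact ih (φ a)
  apply card_of_irreducible_prime_order hp hq hpq _ f
  · ext a
    have := hfpow p (Additive.toMul a)
    rw [hφp] at this
    exact this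
  · intro h
    apply hφ1
    ext a
    have := DFunLike.congr_fun h (Additive.ofMul a)
    exact this
  · intro W hW
    rcases hirr (AddSubgroup.toSubgroup' W) (by
      intro b hb
      rw [AddSubgroup.mem_toSubgroup'] at hb ⊢
      exact hW _ hb) with h1 | h1
    · left
      have := congrArg (AddSubgroup.toSubgroup' (G := A)).symm h1
      rw [OrderIso.symm_apply_apply] at this
      rw [this]; exact map_bot _
    · right
      have := congrArg (AddSubgroup.toSubgroup' (G := A)).symm h1
      rw [OrderIso.symm_apply_apply] at this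
      rw [this]; exact map_top _
  · intro v
    exact congrArg Additive.ofMul (hA (Additive.toMul v))

open scoped IsMulCommutative in
/-- subgroup version: a normal elementary abelian `q`-subgroup on which `x` acts irreducibly and
nontrivially with `x ^ p` acting trivially has order `q ^ (order of q mod p)` -/
theorem card_of_irreducible_conj {G : Type*} [Group G] [Finite G] {p q : ℕ}
    (hp : p.Prime) (hq : q.Prime) (hpq : q ≠ p)
    (A : Subgroup G) [A.Normal] (hA : Cfsg.IsElementaryAbelian q A) (x : G)
    (hxp : x ^ p ∈ Subgroup.centralizer (A : Set G)) (hx : x ∉ Subgroup.centralizer (A : Set G))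
    (hirr : ∀ B : Subgroup G, B ≤ A → (∀ b ∈ B, x * b * x⁻¹ ∈ B) → B = ⊥ ∨ B = A) :
    Nat.card A = q ^ orderOf (q : ZMod p) := by
  have hAc : IsMulCommutative A := hA.1
  apply card_of_irreducible_mulAut hp hq hpq (A := A) _ (MulAut.conjNormal x)
  · rw [← map_pow]
    ext a
    rw [MulAut.conjNormal_apply, MulAut.one_apply]
    rw [Subgroup.mem_centralizer_iff] at hxp
    rw [← hxp a a.2, mul_inv_cancel_right]
  · intro h
    apply hx
    rw [Subgroup.mem_centralizer_iff]
    intro a ha
    have := DFunLike.congr_fun h ⟨a, ha⟩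
    have h2 := congrArg Subtype.val this
    rw [MulAut.conjNormal_apply, MulAut.one_apply] at h2
    have h3 : x * a * x⁻¹ = a := h2
    rw [mul_inv_eq_iff_eq_mul] at h3
    exact h3.symm
  · intro B hB
    rcases hirr (B.map A.subtype) (Subgroup.map_subtype_le B) (by
      rintro _ ⟨b, hb, rfl⟩
      refine ⟨MulAut.conjNormal x b, hB b hb, ?_⟩
      rw [Subgroup.coe_subtype, MulAut.conjNormal_apply]) with h1 | h1
    · left
      rw [Subgroup.map_eq_bot_iff_of_injective _ A.subtype_injective] at h1
      exact h1
    · right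
      rw [eq_top_iff]
      intro a _
      have : (a : G) ∈ B.map A.subtype := by rw [h1]; exact a.2
      obtain ⟨b, hb, hba⟩ := this
      have : b = a := Subtype.ext hba
      rw [← this]; exact hb
  · intro a
    apply Subtype.ext
    exact hA.2 a a.2

end Cfsg.Agent.H1
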