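import Mathlib
import Cfsg.Prelude.Def_SolvableStructure
import Cfsg.Prelude.Def_Transfer
import Cfsg.Agent.H1.Basic
import Cfsg.Agent.H1.Card
import Cfsg.Agent.H1.SchmidtStructure
import Cfsg.Agent.S0056

set_option autoImplicit false

namespace Cfsg.Agent.H1

open scoped Pointwise commutatorElement

universe u

/-- elements of order dividing `q` in a commutative subgroup -/
def omegaSub {G : Type*} [Group G] (q : ℕ) (Q : Subgroup G) (hQ : ∀ a ∈ Q, ∀ b ∈ Q, a * b = b * a) : Subgroup G where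
  carrier := {y | y ∈ Q ∧ y ^ q = 1}
  mul_mem' := by
    rintro a b ⟨ha, ha'⟩ ⟨hb, hb'⟩
    refine ⟨Q.mul_mem ha hb, ?_⟩
    have hc : Commute a b := hQ a ha b hb
    rw [hc.mul_pow, ha', hb', one_mul]
  one_mem' := ⟨Q.one_mem, one_pow q⟩
  inv_mem' := by
    rintro a ⟨ha, ha'⟩
    exact ⟨Q.inv_mem ha, by rw [inv_pow, ha', inv_one]⟩

lemma mem_omegaSub {G : Type*} [Group G] (q : ℕ) (Q : Subgroup G) (hQ : ∀ a ∈ Q, ∀ b ∈ Q, a * b = b * a) (y : G) :
    y ∈ omegaSub q Q hQ ↔ y ∈ Q ∧ y ^ q = 1 := Iff.rfl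

lemma omegaSub_normal {G : Type*} [Group G] (q : ℕ) (Q : Subgroup G) [hQn : Q.Normal]
    (hQ : ∀ a ∈ Q, ∀ b ∈ Q, a * b = b * a) : (omegaSub q Q hQ).Normal := by
  constructor
  rintro y ⟨hy, hy'⟩ g
  refine ⟨hQn.conj_mem y hy g, ?_⟩
  rw [conj_pow, hy', mul_one, mul_inv_cancel]

theorem minimal_non_abelian_aux {G : Type u} [Group G] [Finite G] (hna : ¬ IsMulCommutative G)
    (h : ∀ H : Subgroup G, H ≠ ⊤ → IsMulCommutative H) :
    (∃ p : ℕ, p.Prime ∧ IsPGroup p G) ∨ ∃ p q : ℕ, p.Prime ∧ q.Prime ∧ p ≠ q ∧ ∃ (P : Sylow p G) (Q : Sylow q G),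
      IsCyclic P ∧ (Q : Subgroup G).Normal ∧ Cfsg.IsElementaryAbelian q (Q : Subgroup G) ∧ (P : Subgroup G) ⊔ Q = ⊤ := by
  have hcomm_of : ∀ H : Subgroup G, H ≠ ⊤ → ∀ a ∈ H, ∀ b ∈ H, a * b = b * a := by
    intro H hH a ha b hb
    have := (h H hH).is_comm.comm ⟨a, ha⟩ ⟨b, hb⟩
    exact congrArg Subtype.val this
  have hnil_of : ∀ H : Subgroup G, H ≠ ⊤ → Group.IsNilpotent H := by
    intro H hH
    haveI := h H hH
    letI : CommGroup H := { (inferInstance : Group H) with mul_comm := fun a b => (h H hH).is_comm.comm a b }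
    infer_instance
  by_cases hnil : Group.IsNilpotent G
  · left
    by_contra hcon
    push Not at hcon
    apply hna
    obtain ⟨e⟩ := (Group.isNilpotent_of_finite_tfae (G := G)).out 0 4 rfl rfl |>.mp hnil
    have hsyl : ∀ (r : ℕ) (R : Sylow r G), r.Prime → ∀ a ∈ (R : Subgroup G), ∀ b ∈ (R : Subgroup G), a * b = b * a := by
      intro r R hr
      apply hcomm_of
      intro htop
      apply hcon r hr
      intro g
      obtain ⟨k, hk⟩ := R.isPGroup' ⟨g, htop ▸ Subgroup.mem_top g⟩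
      exact ⟨k, by simpa using congrArg Subtype.val hk⟩
    constructor
    constructor
    intro a b
    apply e.symm.injective
    rw [map_mul, map_mul]
    funext r R
    apply Subtype.ext
    simp only [Pi.mul_apply, Subgroup.coe_mul]
    exact hsyl r R (Nat.prime_of_mem_primeFactors r.2) _ (e.symm a r R).2 _ (e.symm b r R).2
  · right
    obtain ⟨p, q, hp, hq, hpq, P, Q, hcyc, hQn, hPQ, hPnn, hcent⟩ := minimal_non_nilpotent_aux ⟨hnil, hnil_of⟩
    haveI : Fact p.Prime := ⟨hp⟩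
    haveI : Fact q.Prime := ⟨hq⟩
    have hQtop : (Q : Subgroup G) ≠ ⊤ := by
      intro htop
      apply hnil
      have : IsPGroup q G := by
        intro g
        obtain ⟨k, hk⟩ := Q.isPGroup' ⟨g, htop ▸ Subgroup.mem_top g⟩
        exact ⟨k, by simpa using congrArg Subtype.val hk⟩
      exact this.isNilpotent
    have hQc := hcomm_of _ hQtop
    refine ⟨p, q, hp, hq, hpq, P, Q, hcyc, hQn, ⟨h _ hQtop, ?_⟩, hPQ⟩
    by_contra hexp
    push Not at hexp
    obtain ⟨y0, hy0Q, hy0⟩ := hexp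
    set Ω := omegaSub q (Q : Subgroup G) hQc with hΩdef
    haveI hΩn : Ω.Normal := omegaSub_normal q (Q : Subgroup G) hQc
    have hΩQ : Ω ≤ (Q : Subgroup G) := fun y hy => hy.1
    have hΩlt : Ω < (Q : Subgroup G) := by
      refine lt_of_le_of_ne hΩQ ?_
      intro heq
      have : y0 ∈ Ω := by rw [heq]; exact hy0Q
      exact hy0 this.2
    have hcop : (Nat.card (P : Subgroup G)).Coprime (Nat.card (Q : Subgroup G)) := by
      obtain ⟨a, ha⟩ := P.isPGroup'.exists_card_eq
      obtain ⟨b, hb⟩ := Q.isPGroup'.exists_card_eq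
      rw [ha, hb]
      exact Nat.Coprime.pow _ _ ((Nat.coprime_primes hp hq).mpr hpq)
    have hntop : ∀ (N : Subgroup G), N.Normal → ∀ H : Subgroup G, H ≤ Subgroup.normalizer (N : Set G) := by
      intro N hN H
      rw [Subgroup.normalizer_eq_top_iff.mpr hN]; exact le_top
    have c1 := card_sup_mul_card_inf (P : Subgroup G) Ω (hntop _ hΩn _)
    have c2 := card_sup_mul_card_inf (P : Subgroup G) (Q : Subgroup G) (hntop _ hQn _)
    have hi2 : (P : Subgroup G) ⊓ Q = ⊥ := (Subgroup.disjoint_of_coprime_natCard hcop).eq_bot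
    have hi1 : (P : Subgroup G) ⊓ Ω = ⊥ := by
      rw [eq_bot_iff, ← hi2]
      exact inf_le_inf_left _ hΩQ
    rw [hi1, Subgroup.card_bot, mul_one] at c1
    rw [hi2, Subgroup.card_bot, mul_one, hPQ, Subgroup.card_top] at c2
    have hlt := card_lt_card_of_lt' hΩlt
    have hT : (P : Subgroup G) ⊔ Ω ≠ ⊤ := by
      intro h
      rw [h, Subgroup.card_top, c2] at c1
      have : 0 < Nat.card (P : Subgroup G) := Nat.card_pos
      nlinarith
    have hTc := hcomm_of _ hT
    haveI : IsMulCommutative (Q : Subgroup G) := h _ hQtop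
    have hPle := Cfsg.Agent.S0056.result (P : Subgroup G) (Q : Subgroup G) (hntop _ hQn _) hcop (by
      intro v hv hvp a ha
      have h1 : orderOf v ∣ Nat.card (Q : Subgroup G) := by
        have := orderOf_dvd_natCard (⟨v, hv⟩ : (Q : Subgroup G))
        rwa [Subgroup.orderOf_mk] at this
      obtain ⟨b, hb⟩ := Q.isPGroup'.exists_card_eq
      rw [hb] at h1
      have h2 : orderOf v = q := (Nat.prime_dvd_prime_iff_eq hvp hq).mp (hvp.dvd_of_dvd_pow h1)
      have hvΩ : v ∈ Ω := ⟨hv, by rw [← h2]; exact pow_orderOf_eq_one v⟩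
      exact hTc a (Subgroup.mem_sup_left ha) v (Subgroup.mem_sup_right hvΩ))
    apply hPnn
    rw [← Subgroup.normalizer_eq_top_iff, eq_top_iff, ← hPQ]
    apply sup_le Subgroup.le_normalizer
    exact (Subgroup.le_centralizer_iff.mp hPle).trans (Subgroup.centralizer_le_normalizer _)


end Cfsg.Agent.H1
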