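import Mathlib
import Cfsg.Prelude.Def_LocalStructure
import Cfsg.Prelude.Def_Transfer
import Cfsg.Agent.H1.Cores
import Cfsg.Agent.H1.Card
import Cfsg.Agent.H1.MinNonAbelian
import Cfsg.Agent.H1.IrrCyclic
import Cfsg.Agent.S0023

set_option autoImplicit false
open scoped Pointwise commutatorElement

namespace Cfsg.Agent.H1

universe u

/-- a Sylow subgroup of `G` inside a normal `p`-closed subgroup is normal in `G` -/
lemma sylow_normal_of_le_normal_pclosed {G : Type*} [Group G] [Finite G] {p : ℕ} [Fact p.Prime]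
    (K : Subgroup G) [hKn : K.Normal] (hK : Cfsg.IsPClosed p K) (P : Sylow p G) (hPK : (P : Subgroup G) ≤ K) :
    (P : Subgroup G).Normal := by
  have hPKn : ((P.subtype hPK : Sylow p K) : Subgroup K).Normal := hK _
  have hchar := Sylow.characteristic_of_normal (P.subtype hPK) hPKn
  have h1 : (((P.subtype hPK : Sylow p K) : Subgroup K).map K.subtype).Normal :=
    ConjAct.normal_of_characteristic_of_normal
  rw [Sylow.coe_subtype, Subgroup.map_subgroupOf_eq_of_le hPK] at h1
  exact h1

/-- if `G ⧸ N` is `p`-closed then `P N` is normal -/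
lemma sup_normal_of_quotient_pclosed {G : Type*} [Group G] [Finite G] {p : ℕ} [Fact p.Prime]
    (N : Subgroup G) [N.Normal] (hN : Cfsg.IsPClosed p (G ⧸ N)) (P : Sylow p G) :
    ((P : Subgroup G) ⊔ N).Normal := by
  have h1 : ((P.mapSurjective (QuotientGroup.mk'_surjective N) : Sylow p (G ⧸ N)) : Subgroup (G ⧸ N)).Normal := hN _
  rw [Sylow.coe_mapSurjective] at h1
  have h2 : (((P : Subgroup G).map (QuotientGroup.mk' N)).comap (QuotientGroup.mk' N)).Normal := h1.comap _
  rw [Subgroup.comap_map_eq, QuotientGroup.ker_mk'] at h2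
  exact h2

/-- a normal `p`-closed subgroup of a group with `O_p(G) = 1` is a `p'`-group -/
lemma not_dvd_card_of_normal_pclosed {G : Type*} [Group G] [Finite G] {p : ℕ} [Fact p.Prime]
    (N : Subgroup G) [N.Normal] (hN : Cfsg.IsPClosed p N) (hcore : Cfsg.pCore p G = ⊥) :
    ¬ p ∣ Nat.card N := by
  intro hdiv
  obtain ⟨S⟩ : Nonempty (Sylow p N) := inferInstance
  have hSb := S.ne_bot_of_dvd_card hdiv
  have hSn : (S : Subgroup N).Normal := hN S
  have hchar := Sylow.characteristic_of_normal S hSn
  have h1 : ((S : Subgroup N).map N.subtype).Normal := ConjAct.normal_of_characteristic_of_normal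
  have h2 : IsPGroup p ((S : Subgroup N).map N.subtype) := S.isPGroup'.map _
  have h3 := le_pCore h1 h2
  rw [hcore, le_bot_iff, Subgroup.map_eq_bot_iff_of_injective _ N.subtype_injective] at h3
  exact hSb h3

/-- a minimal normal subgroup which is a `q`-group is elementary abelian -/
lemma isElementaryAbelian_of_minimal_normal_pgroup {G : Type*} [Group G] [Finite G] {q : ℕ} [Fact q.Prime]
    (N : Subgroup G) [hNn : N.Normal] (hNq : IsPGroup q N) (hNb : N ≠ ⊥)
    (hmin : ∀ B : Subgroup G, B.Normal → B ≤ N → B = ⊥ ∨ B = N) : Cfsg.IsElementaryAbelian q N := by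
  have hNnt : Nontrivial N := (Subgroup.nontrivial_iff_ne_bot N).mpr hNb
  have hZ : Nontrivial (Subgroup.center N) := hNq.center_nontrivial
  have hZn : ((Subgroup.center N).map N.subtype).Normal := ConjAct.normal_of_characteristic_of_normal
  have hZle : (Subgroup.center N).map N.subtype ≤ N := Subgroup.map_subtype_le _
  have hZb : (Subgroup.center N).map N.subtype ≠ ⊥ := by
    rw [Ne, Subgroup.map_eq_bot_iff_of_injective _ N.subtype_injective]
    exact (Subgroup.nontrivial_iff_ne_bot _).mp hZ
  have hZN : (Subgroup.center N).map N.subtype = N := (hmin _ hZn hZle).resolve_left hZb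
  have hcomm : ∀ a ∈ N, ∀ b ∈ N, a * b = b * a := by
    intro a ha b hb
    have : a ∈ (Subgroup.center N).map N.subtype := by rw [hZN]; exact ha
    obtain ⟨a', ha', rfl⟩ := this
    have := Subgroup.mem_center_iff.mp ha' ⟨b, hb⟩
    exact (congrArg Subtype.val this).symm
  have hOn : (omegaSub q N hcomm).Normal := omegaSub_normal q N hcomm
  have hOle : omegaSub q N hcomm ≤ N := fun y hy => hy.1
  have hOb : omegaSub q N hcomm ≠ ⊥ := by
    have hq : q ∣ Nat.card N := by
      obtain ⟨n, hn⟩ := hNq.exists_card_eq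
      have hn0 : n ≠ 0 := by
        rintro rfl
        rw [pow_zero] at hn
        have := (Subgroup.card_eq_one).mp hn
        exact hNb this
      rw [hn]; exact dvd_pow_self q hn0
    obtain ⟨x, hx⟩ := exists_prime_orderOf_dvd_card' q hq
    intro hb
    have : (x : G) ∈ omegaSub q N hcomm := by
      refine ⟨x.2, ?_⟩
      have := pow_orderOf_eq_one x
      rw [hx] at this
      exact congrArg Subtype.val this
    rw [hb, Subgroup.mem_bot] at this
    have hx1 : x = 1 := Subtype.ext this
    rw [hx1, orderOf_one] at hx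
    exact (Fact.out : q.Prime).one_lt.ne hx
  have hON : omegaSub q N hcomm = N := (hmin _ hOn hOle).resolve_left hOb
  refine ⟨⟨⟨?_⟩⟩, ?_⟩
  · rintro ⟨a, ha⟩ ⟨b, hb⟩
    exact Subtype.ext (hcomm a ha b hb)
  · intro a ha
    have : a ∈ omegaSub q N hcomm := by rw [hON]; exact ha
    exact this.2

/-- conjugation-invariance under `x` of finite order gives membership of the normalizer -/
lemma mem_normalizer_of_conj_mem {G : Type*} [Group G] [Finite G] (B : Subgroup G) (x : G)
    (h : ∀ b ∈ B, x * b * x⁻¹ ∈ B) : x ∈ Subgroup.normalizer (B : Set G) := by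
  have hpow : ∀ n : ℕ, ∀ b ∈ B, x ^ n * b * (x ^ n)⁻¹ ∈ B := by
    intro n
    induction n with
    | zero => intro b hb; simpa using hb
    | succ n ih =>
      intro b hb
      have := h _ (ih b hb)
      rw [pow_succ']
      convert this using 1
      group
  rw [Subgroup.mem_normalizer_iff]
  intro b
  constructor
  · exact h b
  · intro hb
    have h1 := hpow (orderOf x - 1) _ hb
    have hx : x ^ (orderOf x - 1) = x⁻¹ := by
      rw [eq_inv_iff_mul_eq_one, ← pow_succ, Nat.sub_add_cancel (orderOf_pos x), pow_orderOf_eq_one]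
    rw [hx] at h1
    convert h1 using 1
    group

/-- a `p`-closed subgroup containing a Sylow `p`-subgroup of `G` normalizes it -/
lemma le_normalizer_of_pclosed {G : Type*} [Group G] [Finite G] {p : ℕ} [Fact p.Prime]
    (X : Subgroup G) (hX : Cfsg.IsPClosed p X) (P : Sylow p G) (hPX : (P : Subgroup G) ≤ X) :
    X ≤ Subgroup.normalizer ((P : Subgroup G) : Set G) := by
  have hPXn : ((P.subtype hPX : Sylow p X) : Subgroup X).Normal := hX _
  rw [Sylow.coe_subtype] at hPXn
  exact (Subgroup.normal_subgroupOf_iff_le_normalizer hPX).mp hPXn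

end Cfsg.Agent.H1

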