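import Mathlib
import Cfsg.Agent.H1.BurnsideBasis
import Cfsg.Agent.H1.MinNonPClosed
import Cfsg.Agent.H1.CriticalSubgroup
import Cfsg.Agent.H2.RegularPGroup
import Cfsg.Agent.H2.CyclicDerivedRegular

set_option autoImplicit false

namespace Cfsg.Agent.H1

open scoped commutatorElement

section alperin
variable {G : Type*} [Group G]

/-- if `⁅x, y⁆` commutes with `x` then `⁅x ^ n, y⁆ = ⁅x, y⁆ ^ n` -/
lemma commutator_pow_of_commute (x y : G) (h : Commute ⁅x, y⁆ x) (n : ℕ) :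
    ⁅x ^ n, y⁆ = ⁅x, y⁆ ^ n := by
  induction n with
  | zero => simp
  | succ n ih =>
    have h1 : ⁅x ^ (n + 1), y⁆ = x * ⁅x ^ n, y⁆ * x⁻¹ * ⁅x, y⁆ := by
      simp only [commutatorElement_def, pow_succ']
      group
    rw [h1, ih]
    have h2 : Commute (⁅x, y⁆ ^ n) x := h.pow_left n
    rw [← h2.eq, mul_inv_cancel_right, pow_succ]

lemma map_conj_sup_zpowers_le (A : Subgroup G) [hA : A.Normal] (g u : G) :
    (A ⊔ Subgroup.zpowers u).map (MulAut.conj g).toMonoidHom ≤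
      A ⊔ Subgroup.zpowers (g * u * g⁻¹) := by
  rw [Subgroup.map_sup]
  apply sup_le_sup
  · intro x hx
    obtain ⟨a, ha, rfl⟩ := Subgroup.mem_map.1 hx
    exact hA.conj_mem a ha g
  · rw [MonoidHom.map_zpowers]
    exact le_of_eq rfl

lemma mem_normalizer_sup_zpowers [Finite G] (A : Subgroup G) [hA : A.Normal] (g s : G)
    (h : g * s * g⁻¹ ∈ A ⊔ Subgroup.zpowers s) :
    g ∈ Subgroup.normalizer ((A ⊔ Subgroup.zpowers s : Subgroup G) : Set G) := by
  apply mem_normalizer_of_conj_mem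
  intro b hb
  have h1 : g * b * g⁻¹ ∈ (A ⊔ Subgroup.zpowers s).map (MulAut.conj g).toMonoidHom :=
    Subgroup.mem_map.2 ⟨b, hb, rfl⟩
  have h2 := map_conj_sup_zpowers_le A g s h1
  have h3 : A ⊔ Subgroup.zpowers (g * s * g⁻¹) ≤ A ⊔ Subgroup.zpowers s := by
    apply sup_le le_sup_left
    rw [Subgroup.zpowers_le]
    exact h
  exact h3 h2

lemma sup_zpowers_comm (A : Subgroup G) (hA : ∀ a ∈ A, ∀ b ∈ A, a * b = b * a) (y : G)
    (hy : y ∈ Subgroup.centralizer (A : Set G)) :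
    ∀ e ∈ A ⊔ Subgroup.zpowers y, ∀ f ∈ A ⊔ Subgroup.zpowers y, e * f = f * e := by
  rw [Subgroup.mem_centralizer_iff] at hy
  have key : A ⊔ Subgroup.zpowers y ≤
      Subgroup.centralizer ((A ⊔ Subgroup.zpowers y : Subgroup G) : Set G) := by
    apply sup_le
    · intro a ha
      rw [Subgroup.mem_centralizer_iff]
      have h1 : A ⊔ Subgroup.zpowers y ≤ Subgroup.centralizer ({a} : Set G) := by
        apply sup_le
        · intro b hb
          rw [Subgroup.mem_centralizer_singleton_iff]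
          exact hA b hb a ha
        · rw [Subgroup.zpowers_le, Subgroup.mem_centralizer_singleton_iff]
          exact (hy a ha).symm
      intro e he
      have := h1 he
      rw [Subgroup.mem_centralizer_singleton_iff] at this
      exact this
    · rw [Subgroup.zpowers_le, Subgroup.mem_centralizer_iff]
      have h1 : A ⊔ Subgroup.zpowers y ≤ Subgroup.centralizer ({y} : Set G) := by
        apply sup_le
        · intro b hb
          rw [Subgroup.mem_centralizer_singleton_iff]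
          exact (hy b hb)
        · rw [Subgroup.zpowers_le, Subgroup.mem_centralizer_singleton_iff]
      intro e he
      have := h1 he
      rw [Subgroup.mem_centralizer_singleton_iff] at this
      exact this
  intro e he f hf
  have := key hf
  rw [Subgroup.mem_centralizer_iff] at this
  exact this e he

lemma sup_zpowers_pow (A : Subgroup G) (hA : ∀ a ∈ A, ∀ b ∈ A, a * b = b * a) (y : G)
    (hy : y ∈ Subgroup.centralizer (A : Set G)) (m : ℕ) (hAm : ∀ a ∈ A, a ^ m = 1)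
    (hym : y ^ m = 1) : ∀ e ∈ A ⊔ Subgroup.zpowers y, e ^ m = 1 := by
  have hcomm := sup_zpowers_comm A hA y hy
  let W : Subgroup G :=
    { carrier := {e | e ∈ A ⊔ Subgroup.zpowers y ∧ e ^ m = 1}
      one_mem' := ⟨one_mem _, one_pow _⟩
      mul_mem' := by
        rintro a b ⟨ha, ha'⟩ ⟨hb, hb'⟩
        refine ⟨mul_mem ha hb, ?_⟩
        have : Commute a b := hcomm a ha b hb
        rw [this.mul_pow, ha', hb', one_mul]
      inv_mem' := by
        rintro a ⟨ha, ha'⟩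
        exact ⟨inv_mem ha, by rw [inv_pow, ha', inv_one]⟩ }
  have hW : A ⊔ Subgroup.zpowers y ≤ W := by
    apply sup_le
    · intro a ha
      exact ⟨Subgroup.mem_sup_left ha, hAm a ha⟩
    · rw [Subgroup.zpowers_le]
      exact ⟨Subgroup.mem_sup_right (Subgroup.mem_zpowers y), hym⟩
  intro e he
  exact (hW he).2

/-- **Alperin.** -/
theorem alperin_omega_centralizer [Finite G] {p : ℕ} [Fact p.Prime] (hG : IsPGroup p G) (n : ℕ)
    (hn : p ^ n ≠ 2) (A : Subgroup G) [hAn : A.Normal] (hA : ∀ a ∈ A, ∀ b ∈ A, a * b = b * a)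
    (hAe : ∀ a ∈ A, a ^ p ^ n = 1)
    (hmax : ∀ B : Subgroup G, B.Normal → (∀ a ∈ B, ∀ b ∈ B, a * b = b * a) →
      (∀ b ∈ B, b ^ p ^ n = 1) → A ≤ B → B = A)
    (x : G) (hx : x ∈ Subgroup.centralizer (A : Set G)) (hxn : x ^ p ^ n = 1) : x ∈ A := by
  classical
  have hp : p.Prime := Fact.out
  by_contra hxA
  obtain ⟨C, hCdef⟩ : ∃ C : Subgroup G, C = Subgroup.centralizer (A : Set G) := ⟨_, rfl⟩
  haveI hCn : C.Normal := hCdef ▸ inferInstance
  have hAC : A ≤ C := by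
    rw [hCdef]
    intro a ha
    rw [Subgroup.mem_centralizer_iff]
    intro b hb
    exact hA b hb a ha
  have hCcomm : ∀ c ∈ C, ∀ a ∈ A, a * c = c * a := by
    intro c hc a ha
    rw [hCdef, Subgroup.mem_centralizer_iff] at hc
    exact hc a ha
  rw [← hCdef] at hx
  obtain ⟨X₁, hX₁def⟩ : ∃ X₁ : Set G, X₁ = {y | y ∈ C ∧ y ∉ A ∧ y ^ p ∈ A ∧ y ^ p ^ n = 1} :=
    ⟨_, rfl⟩
  have hX₁ne : X₁.Nonempty := by
    have hex : ∃ j, x ^ p ^ j ∈ A := ⟨n, hxn ▸ one_mem A⟩
    have hj : x ^ p ^ (Nat.find hex) ∈ A := Nat.find_spec hex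
    have hj0 : Nat.find hex ≠ 0 := by
      intro h0
      rw [h0, pow_zero, pow_one] at hj
      exact hxA hj
    obtain ⟨i, hi⟩ := Nat.exists_eq_succ_of_ne_zero hj0
    refine ⟨x ^ p ^ i, ?_⟩
    rw [hX₁def]
    refine ⟨pow_mem hx _, Nat.find_min hex (by omega), ?_, ?_⟩
    · rw [← pow_mul, ← pow_succ, ← Nat.succ_eq_add_one, ← hi]
      exact hj
    · rw [← pow_mul, mul_comm, pow_mul, hxn, one_pow]
  obtain ⟨y, hyX, hymax⟩ := Set.exists_max_image X₁
    (fun y => Nat.card (Subgroup.normalizer ((A ⊔ Subgroup.zpowers y : Subgroup G) : Set G)))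
    (Set.toFinite _) hX₁ne
  have hyX' := hyX
  rw [hX₁def] at hyX'
  obtain ⟨hyC, hyA, hypA, hypn⟩ := hyX'
  obtain ⟨E, hEdef⟩ : ∃ E : Subgroup G, E = A ⊔ Subgroup.zpowers y := ⟨_, rfl⟩
  obtain ⟨N, hNdef⟩ : ∃ N : Subgroup G, N = Subgroup.normalizer (E : Set G) := ⟨_, rfl⟩
  rw [← hEdef, ← hNdef] at hymax
  -- facts about E_s for s in X₁
  have hEcomm : ∀ s ∈ X₁, ∀ e ∈ A ⊔ Subgroup.zpowers s, ∀ f ∈ A ⊔ Subgroup.zpowers s,
      e * f = f * e := by
    intro s hs
    rw [hX₁def] at hs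
    exact sup_zpowers_comm A hA s (hCdef ▸ hs.1)
  have hEpow : ∀ s ∈ X₁, ∀ e ∈ A ⊔ Subgroup.zpowers s, e ^ p ^ n = 1 := by
    intro s hs
    rw [hX₁def] at hs
    exact sup_zpowers_pow A hA s (hCdef ▸ hs.1) _ hAe hs.2.2.2
  have hErel : ∀ s ∈ X₁, A.relIndex (A ⊔ Subgroup.zpowers s) = p := by
    intro s hs
    rw [hX₁def] at hs
    have h1 := index_eq_mul_index_sup_zpowers A s hs.2.1 hs.2.2.1
    have h2 := Subgroup.relIndex_mul_index (le_sup_left : A ≤ A ⊔ Subgroup.zpowers s)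
    rw [h1] at h2
    have h3 : (A ⊔ Subgroup.zpowers s).index ≠ 0 := Subgroup.index_ne_zero_of_finite
    exact Nat.eq_of_mul_eq_mul_right (Nat.pos_of_ne_zero h3) h2
  -- N ≠ ⊤
  have hNtop : N ≠ ⊤ := by
    intro hN
    rw [hNdef, Subgroup.normalizer_eq_top_iff] at hN
    have h1 := hmax E hN (hEdef ▸ hEcomm y hyX) (hEdef ▸ hEpow y hyX) (hEdef ▸ le_sup_left)
    apply hyA
    rw [← h1, hEdef]
    exact Subgroup.mem_sup_right (Subgroup.mem_zpowers y)
  haveI : Group.IsNilpotent G := hG.isNilpotent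
  have hNlt : N < Subgroup.normalizer (N : Set G) :=
    Group.normalizerCondition_of_isNilpotent N (lt_top_iff_ne_top.2 hNtop)
  obtain ⟨N₂, hN₂def⟩ : ∃ N₂ : Subgroup G, N₂ = Subgroup.normalizer (N : Set G) := ⟨_, rfl⟩
  rw [← hN₂def] at hNlt
  have hEN : E ≤ N := hNdef ▸ Subgroup.le_normalizer
  have hyE : y ∈ E := hEdef ▸ Subgroup.mem_sup_right (Subgroup.mem_zpowers y)
  -- the set of conjugates
  obtain ⟨S, hSdef⟩ : ∃ S : Set G, S = {s | ∃ h ∈ N₂, s = h * y * h⁻¹} := ⟨_, rfl⟩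
  have hyS : y ∈ S := by
    rw [hSdef]
    exact ⟨1, one_mem _, by simp⟩
  have hSX : ∀ s ∈ S, s ∈ X₁ := by
    intro s hs
    rw [hSdef] at hs
    obtain ⟨h, _, rfl⟩ := hs
    rw [hX₁def]
    refine ⟨hCn.conj_mem y hyC h, ?_, ?_, ?_⟩
    · intro hc
      apply hyA
      have := hAn.conj_mem _ hc h⁻¹
      simpa [mul_assoc] using this
    · rw [conj_pow]
      exact hAn.conj_mem _ hypA h
    · rw [conj_pow, hypn]
      simp
  have hSN : ∀ s ∈ S, s ∈ N := by
    intro s hs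
    rw [hSdef] at hs
    obtain ⟨h, hh, rfl⟩ := hs
    rw [hN₂def, Subgroup.mem_normalizer_iff] at hh
    exact (hh y).1 (hEN hyE)
  have hSnorm : ∀ s ∈ S, N ≤ Subgroup.normalizer ((A ⊔ Subgroup.zpowers s : Subgroup G) : Set G) := by
    intro s hs g hg
    rw [hSdef] at hs
    obtain ⟨h, hh, rfl⟩ := hs
    apply mem_normalizer_sup_zpowers
    rw [hN₂def, Subgroup.mem_normalizer_iff''] at hh
    have hg' : h⁻¹ * g * h ∈ N := (hh g).1 hg
    have h1 : (h⁻¹ * g * h) * y * (h⁻¹ * g * h)⁻¹ ∈ E := by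
      rw [hNdef, Subgroup.mem_normalizer_iff] at hg'
      exact (hg' y).1 hyE
    have h2 : h * ((h⁻¹ * g * h) * y * (h⁻¹ * g * h)⁻¹) * h⁻¹ ∈
        E.map (MulAut.conj h).toMonoidHom := Subgroup.mem_map.2 ⟨_, h1, rfl⟩
    rw [hEdef] at h2
    have h3 := map_conj_sup_zpowers_le A h y h2
    have e : g * (h * y * h⁻¹) * g⁻¹ = h * ((h⁻¹ * g * h) * y * (h⁻¹ * g * h)⁻¹) * h⁻¹ := by group
    rw [e]
    exact h3
  have hScomm : ∀ s ∈ S, ∀ t ∈ S, ⁅s, t⁆ ∈ A := by
    intro s hs t ht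
    have hsE : s ∈ A ⊔ Subgroup.zpowers s := Subgroup.mem_sup_right (Subgroup.mem_zpowers s)
    have htE : t ∈ A ⊔ Subgroup.zpowers t := Subgroup.mem_sup_right (Subgroup.mem_zpowers t)
    have h1 : ⁅s, t⁆ ∈ A ⊔ Subgroup.zpowers t := by
      rw [commutatorElement_def]
      have := hSnorm t ht (hSN s hs)
      rw [Subgroup.mem_normalizer_iff] at this
      exact mul_mem ((this t).1 htE) (inv_mem htE)
    have h2 : ⁅s, t⁆ ∈ A ⊔ Subgroup.zpowers s := by
      rw [commutatorElement_def]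
      have := hSnorm s hs (hSN t ht)
      rw [Subgroup.mem_normalizer_iff] at this
      have h3 := (this s⁻¹).1 (inv_mem hsE)
      have e : s * t * s⁻¹ * t⁻¹ = s * (t * s⁻¹ * t⁻¹) := by group
      rw [e]
      exact mul_mem hsE h3
    obtain ⟨D, hDdef⟩ : ∃ D : Subgroup G, D = (A ⊔ Subgroup.zpowers s) ⊓ (A ⊔ Subgroup.zpowers t) :=
      ⟨_, rfl⟩
    have hAD : A ≤ D := hDdef ▸ le_inf le_sup_left le_sup_left
    have hDE : D ≤ A ⊔ Subgroup.zpowers s := hDdef ▸ inf_le_left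
    have hcD : ⁅s, t⁆ ∈ D := hDdef ▸ Subgroup.mem_inf.2 ⟨h2, h1⟩
    have h4 := Subgroup.relIndex_mul_relIndex A D _ hAD hDE
    rw [hErel s (hSX s hs)] at h4
    rcases Nat.Prime.eq_one_or_self_of_dvd hp _ (Dvd.intro _ h4) with h5 | h5
    · exact (Subgroup.relIndex_eq_one.1 h5) hcD
    · rw [h5] at h4
      have h6 : D.relIndex (A ⊔ Subgroup.zpowers s) = 1 := by
        have : p * D.relIndex (A ⊔ Subgroup.zpowers s) = p * 1 := by rw [h4, mul_one]
        exact Nat.eq_of_mul_eq_mul_left hp.pos this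
      have h7 : A ⊔ Subgroup.zpowers s ≤ D := Subgroup.relIndex_eq_one.1 h6
      have h8' := h7 hsE
      rw [hDdef] at h8'
      have h8 : s ∈ A ⊔ Subgroup.zpowers t := (Subgroup.mem_inf.1 h8').2
      have h9 := hEcomm t (hSX t ht) s h8 t htE
      rw [commutatorElement_eq_one_iff_mul_comm.2 h9]
      exact one_mem _
  -- F
  obtain ⟨F, hFdef⟩ : ∃ F : Subgroup G, F = Subgroup.closure ((A : Set G) ∪ S) := ⟨_, rfl⟩
  have hAF : A ≤ F := by
    rw [hFdef]
    intro a ha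
    exact Subgroup.subset_closure (Or.inl ha)
  have hSF : ∀ s ∈ S, s ∈ F := by
    intro s hs
    rw [hFdef]
    exact Subgroup.subset_closure (Or.inr hs)
  have hFC : F ≤ C := by
    rw [hFdef, Subgroup.closure_le]
    rintro t (ht | ht)
    · exact hAC ht
    · have := hSX t ht
      rw [hX₁def] at this
      exact this.1
  have hFcomm : ⁅F, F⁆ ≤ A := by
    rw [hFdef]
    apply Cfsg.Agent.H2.RegP.commutator_closure_le
    · rw [Subgroup.normalizer_eq_top_iff.2 hAn]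
      exact le_top
    · rintro s (hs | hs) t (ht | ht)
      · rw [commutatorElement_def]
        exact mul_mem (mul_mem (mul_mem hs ht) (inv_mem hs)) (inv_mem ht)
      · rw [commutatorElement_def]
        have := hAn.conj_mem _ (inv_mem hs) t
        have e : s * t * s⁻¹ * t⁻¹ = s * (t * s⁻¹ * t⁻¹) := by group
        rw [e]
        exact mul_mem hs this
      · rw [commutatorElement_def]
        exact mul_mem (hAn.conj_mem _ ht s) (inv_mem ht)
      · exact hScomm s hs t ht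
  -- exponent of F
  have hFpow : ∀ f ∈ F, f ^ p ∈ A ∧ f ^ p ^ n = 1 := by
    let W : Subgroup G :=
      { carrier := {f | f ∈ F ∧ f ^ p ∈ A ∧ f ^ p ^ n = 1}
        one_mem' := ⟨one_mem _, by rw [one_pow]; exact one_mem _, one_pow _⟩
        mul_mem' := by
          rintro a b ⟨ha, ha1, ha2⟩ ⟨hb, hb1, hb2⟩
          have hc : ⁅b, a⁆ ∈ A := hFcomm (Subgroup.commutator_mem_commutator hb ha)
          have hca : Commute ⁅b, a⁆ a := hCcomm a (hFC ha) _ hc
          have hcb : Commute ⁅b, a⁆ b := hCcomm b (hFC hb) _ hc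
          have hcp : ⁅b, a⁆ ^ p = 1 := by
            rw [← commutator_pow_of_commute b a hcb p, commutatorElement_eq_one_iff_mul_comm]
            exact hCcomm a (hFC ha) _ hb1
          refine ⟨mul_mem ha hb, ?_, ?_⟩
          · rw [Cfsg.Agent.H2.CycDer.mul_pow_of_commute_commutator a b hca hcb p]
            exact mul_mem (mul_mem ha1 hb1) (pow_mem hc _)
          · rw [Cfsg.Agent.H2.CycDer.mul_pow_of_commute_commutator a b hca hcb (p ^ n), ha2, hb2,
              one_mul, one_mul]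
            obtain ⟨k, hk⟩ := Nat.Prime.dvd_choose_pow hp (n := n) (k := 2) two_ne_zero
              (fun h => hn h.symm)
            rw [hk, pow_mul, hcp, one_pow]
        inv_mem' := by
          rintro a ⟨ha, ha1, ha2⟩
          refine ⟨inv_mem ha, ?_, ?_⟩
          · rw [inv_pow]; exact inv_mem ha1
          · rw [inv_pow, ha2, inv_one] }
    have hW : F ≤ W := by
      rw [hFdef, Subgroup.closure_le]
      rintro t (ht | ht)
      · exact ⟨hAF ht, pow_mem ht _, hAe t ht⟩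
      · have := hSX t ht
        rw [hX₁def] at this
        exact ⟨hSF t ht, this.2.2.1, this.2.2.2⟩
    intro f hf
    exact (hW hf).2
  -- N₂ normalizes F
  have hFnorm : ∀ h ∈ N₂, ∀ f ∈ F, h * f * h⁻¹ ∈ F := by
    intro h hh f hf
    have h1 : h * f * h⁻¹ ∈ F.map (MulAut.conj h).toMonoidHom := Subgroup.mem_map.2 ⟨f, hf, rfl⟩
    rw [hFdef, MonoidHom.map_closure] at h1
    have h2 : Subgroup.closure ((MulAut.conj h).toMonoidHom '' ((A : Set G) ∪ S)) ≤ F := by
      rw [Subgroup.closure_le]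
      rintro _ ⟨t, ht, rfl⟩
      rcases ht with ht | ht
      · exact hAF (hAn.conj_mem t ht h)
      · apply hSF
        rw [hSdef] at ht ⊢
        obtain ⟨h', hh', rfl⟩ := ht
        exact ⟨h * h', mul_mem hh hh', by simp [mul_assoc]⟩
    exact h2 h1
  have hN₂F : N₂ ≤ Subgroup.normalizer (F : Set G) := by
    intro h hh
    exact mem_normalizer_of_conj_mem F h (hFnorm h hh)
  have hNN₂ : N ≤ N₂ := hNlt.le
  have hyN₂ : y ∈ N₂ := hNN₂ (hEN hyE)
  -- central element of F/A in N₂/A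
  haveI : (A.subgroupOf N₂).Normal := inferInstance
  haveI : (F.subgroupOf N₂).Normal := Subgroup.normal_subgroupOf_of_le_normalizer hN₂F
  have hne : ¬ F.subgroupOf N₂ ≤ A.subgroupOf N₂ := by
    intro hle
    have : (⟨y, hyN₂⟩ : N₂) ∈ A.subgroupOf N₂ := hle (Subgroup.mem_subgroupOf.2 (hSF y hyS))
    exact hyA (Subgroup.mem_subgroupOf.1 this)
  obtain ⟨x', hx'F, hx'A, hx'p, hx'c⟩ :=
    exists_central_order_p_mod (hG.to_subgroup N₂) (A.subgroupOf N₂) (F.subgroupOf N₂) hne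
  rw [Subgroup.mem_subgroupOf] at hx'F hx'A hx'p
  have hy'X : (x' : G) ∈ X₁ := by
    rw [hX₁def]
    refine ⟨hFC hx'F, hx'A, ?_, (hFpow _ hx'F).2⟩
    simpa using hx'p
  have hN₂norm : N₂ ≤ Subgroup.normalizer ((A ⊔ Subgroup.zpowers (x' : G) : Subgroup G) : Set G) := by
    intro h hh
    apply mem_normalizer_sup_zpowers
    have hc := hx'c ⟨h, hh⟩
    rw [Subgroup.mem_subgroupOf] at hc
    simp only [Subgroup.coe_mul, Subgroup.coe_inv] at hc
    have e : h * (x' : G) * h⁻¹ = ((x' : G) * h * (x' : G)⁻¹ * h⁻¹)⁻¹ * (x' : G) := by group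
    rw [e]
    exact mul_mem (Subgroup.mem_sup_left (inv_mem hc)) (Subgroup.mem_sup_right (Subgroup.mem_zpowers _))
  have h1 := hymax _ hy'X
  have h2 : Nat.card N₂ ≤ Nat.card N := le_trans (Subgroup.card_le_of_le hN₂norm) h1
  have h3 : N = N₂ := Subgroup.eq_of_le_of_card_ge hNN₂ h2
  exact hNlt.ne h3

end alperin

end Cfsg.Agent.H1
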