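import Mathlib

/-!
# Explicit elements of alternating groups with prescribed fixed-point data (for S4560)
-/

namespace Cfsg.Agent.H1.AltElts

open Equiv Equiv.Perm

section general

variable {α : Type*} [Fintype α] [DecidableEq α]

/-- pointwise form of "no 2-cycles". -/
def NoTwoCycle (x : Perm α) : Prop := ∀ i, x (x i) = i → x i = i

/-- number of fixed points. -/
def fix (x : Perm α) : ℕ := (Finset.univ.filter fun i => x i = i).card

theorem fix_eq (x : Perm α) : fix x = Fintype.card α - x.cycleType.sum := by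
  unfold fix
  rw [sum_cycleType, ← Finset.card_compl]
  congr 1
  ext i
  simp [mem_support]

theorem pow_apply_mem_of_sq (x : Perm α) (i : α) (hi : x (x i) = i) (m : ℕ) :
    (x ^ m) i = i ∨ (x ^ m) i = x i := by
  induction m with
  | zero => left; simp
  | succ k ih =>
    rw [pow_succ', Perm.mul_apply]
    rcases ih with h | h
    · right; rw [h]
    · left; rw [h, hi]

theorem noTwoCycle_of_not_mem (x : Perm α) (h : 2 ∉ x.cycleType) : NoTwoCycle x := by
  intro i hi
  by_contra hne
  apply h
  have hcyc : IsCycle (x.cycleOf i) := isCycle_cycleOf _ hne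
  have hmem : x.cycleOf i ∈ x.cycleFactorsFinset := by
    rw [cycleOf_mem_cycleFactorsFinset_iff, mem_support]; exact hne
  have hsub : (x.cycleOf i).support ⊆ {i, x i} := by
    intro y hy
    rw [mem_support_cycleOf_iff] at hy
    obtain ⟨m, hm⟩ := hy.1.exists_nat_pow_eq
    rcases pow_apply_mem_of_sq x i hi m with h1 | h1
    · rw [h1] at hm; simp [← hm]
    · rw [h1] at hm; simp [← hm]
  have hcard : (x.cycleOf i).support.card = 2 := by
    apply le_antisymm
    · calc (x.cycleOf i).support.card ≤ ({i, x i} : Finset α).card := Finset.card_le_card hsub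
        _ ≤ 2 := Finset.card_le_two
    · exact hcyc.two_le_card_support
  rw [cycleType_def, Multiset.mem_map]
  exact ⟨x.cycleOf i, hmem, hcard⟩

theorem noTwoCycle_of_pow_three (x : Perm α) (h : x ^ 3 = 1) : NoTwoCycle x := by
  intro i hi
  have h3 : x (x (x i)) = i := by
    have := congrArg (fun f : Perm α => f i) h
    simpa [pow_succ, Perm.mul_apply] using this
  rw [hi] at h3
  exact h3

end general

theorem exists_perm_cycleType (n : ℕ) (m : Multiset ℕ) (hs : m.sum ≤ n)
    (h2 : ∀ a ∈ m, 2 ≤ a) : ∃ g : Perm (Fin n), g.cycleType = m := by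
  apply (Equiv.Perm.exists_with_cycleType_iff (Fin n)).mpr
  refine ⟨?_, h2⟩
  simpa using hs

theorem exists_of_multiset (n : ℕ) (m : Multiset ℕ) (N : ℕ) (hs : m.sum ≤ n)
    (h2 : ∀ a ∈ m, 2 ≤ a) (hN : ∀ a ∈ m, a ∣ 2 ^ N)
    (hev : Even (m.sum + Multiset.card m)) :
    ∃ x : Perm (Fin n), (∃ j, orderOf x = 2 ^ j) ∧ sign x = 1 ∧
      (2 ∉ m → NoTwoCycle x) ∧ fix x = n - m.sum := by
  obtain ⟨x, hx⟩ := exists_perm_cycleType n m hs h2
  refine ⟨x, ?_, ?_, ?_, ?_⟩
  · have hdvd : orderOf x ∣ 2 ^ N := by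
      rw [← lcm_cycleType, hx]
      exact Multiset.lcm_dvd.2 hN
    obtain ⟨j, _, hj⟩ := (Nat.dvd_prime_pow Nat.prime_two).1 hdvd
    exact ⟨j, hj⟩
  · rw [sign_of_cycleType, hx]
    exact hev.neg_one_pow
  · intro h
    apply noTwoCycle_of_not_mem
    rw [hx]; exact h
  · rw [fix_eq, hx]; simp

theorem exists_order3 (n : ℕ) (hn : 7 ≤ n) :
    ∃ x : Perm (Fin n), orderOf x = 3 ∧ sign x = 1 ∧ NoTwoCycle x ∧ fix x = n % 3 := by
  set a := n / 3 with ha
  have ha2 : 2 ≤ a := by omega
  obtain ⟨x, hx⟩ := exists_perm_cycleType n (Multiset.replicate a 3)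
    (by simp; omega) (by intro b hb; rw [Multiset.eq_of_mem_replicate hb]; norm_num)
  have hdvd : orderOf x ∣ 3 := by
    rw [← lcm_cycleType, hx]
    exact Multiset.lcm_dvd.2 (by intro b hb; rw [Multiset.eq_of_mem_replicate hb])
  have hne : x ≠ 1 := by
    intro h1
    have : x.cycleType = 0 := by rw [h1]; simp
    rw [hx] at this
    have hc := congrArg Multiset.card this
    simp at hc
    omega
  have ho : orderOf x = 3 := by
    rcases (Nat.Prime.eq_one_or_self_of_dvd Nat.prime_three _ hdvd) with h | h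
    · exact absurd (orderOf_eq_one_iff.1 h) hne
    · exact h
  refine ⟨x, ho, ?_, ?_, ?_⟩
  · rw [sign_of_cycleType, hx]
    apply Even.neg_one_pow
    simp
    exact ⟨2 * a, by ring⟩
  · apply noTwoCycle_of_pow_three
    rw [← ho]; exact pow_orderOf_eq_one x
  · rw [fix_eq, hx]; simp; omega

theorem exists_two_elt (n : ℕ) (hn : 7 ≤ n) :
    ∃ x : Perm (Fin n), (∃ j, orderOf x = 2 ^ j) ∧ sign x = 1 ∧
      ((n % 2 = 1 ∧ fix x = 1) ∨ (n % 4 = 0 ∧ NoTwoCycle x ∧ fix x = 0) ∨
        (n % 4 = 2 ∧ NoTwoCycle x ∧ fix x = 2)) := by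
  by_cases hodd : n % 2 = 1
  · -- n odd
    set k := (n - 1) / 2 with hk
    have hk3 : 3 ≤ k := by omega
    by_cases hke : Even k
    · obtain ⟨x, h1, h2, _, h4⟩ := exists_of_multiset n (Multiset.replicate k 2) 1
        (by simp; omega) (by intro b hb; rw [Multiset.eq_of_mem_replicate hb])
        (by intro b hb; rw [Multiset.eq_of_mem_replicate hb]; norm_num)
        (by
          obtain ⟨t, ht⟩ := hke
          simp
          exact ⟨3 * t, by rw [ht]; ring⟩)
      refine ⟨x, h1, h2, Or.inl ⟨hodd, ?_⟩⟩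
      rw [h4]; simp; omega
    · have hko : Odd k := Nat.not_even_iff_odd.1 hke
      obtain ⟨x, h1, h2, _, h4⟩ := exists_of_multiset n (4 ::ₘ Multiset.replicate (k - 2) 2) 2
        (by simp; omega)
        (by
          intro b hb
          rcases Multiset.mem_cons.1 hb with h | h
          · omega
          · rw [Multiset.eq_of_mem_replicate h])
        (by
          intro b hb
          rcases Multiset.mem_cons.1 hb with h | h
          · rw [h]; norm_num
          · rw [Multiset.eq_of_mem_replicate h]; norm_num)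
        (by
          obtain ⟨t, ht⟩ := hko
          simp
          exact ⟨3 * t + 1, by omega⟩)
      refine ⟨x, h1, h2, Or.inl ⟨hodd, ?_⟩⟩
      rw [h4]; simp; omega
  · -- n even
    have key : ∀ a : ℕ, 2 ≤ a → 4 * a ≤ n →
        ∃ x : Perm (Fin n), (∃ j, orderOf x = 2 ^ j) ∧ sign x = 1 ∧
          NoTwoCycle x ∧ fix x = n - 4 * a := by
      intro a ha2 han
      by_cases hae : Even a
      · obtain ⟨x, h1, h2, h3, h4⟩ := exists_of_multiset n (Multiset.replicate a 4) 2
          (by simp; omega) (by intro b hb; rw [Multiset.eq_of_mem_replicate hb]; norm_num)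
          (by intro b hb; rw [Multiset.eq_of_mem_replicate hb]; norm_num)
          (by
            obtain ⟨t, ht⟩ := hae
            simp
            exact ⟨5 * t, by rw [ht]; ring⟩)
        refine ⟨x, h1, h2, h3 ?_, ?_⟩
        · intro hb
          have := Multiset.eq_of_mem_replicate hb
          omega
        · rw [h4]; simp; omega
      · have hao : Odd a := Nat.not_even_iff_odd.1 hae
        have ha3 : 3 ≤ a := by
          obtain ⟨t, ht⟩ := hao
          omega
        obtain ⟨x, h1, h2, h3, h4⟩ := exists_of_multiset n (8 ::ₘ Multiset.replicate (a - 2) 4) 3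
          (by simp; omega)
          (by
            intro b hb
            rcases Multiset.mem_cons.1 hb with h | h
            · omega
            · rw [Multiset.eq_of_mem_replicate h]; norm_num)
          (by
            intro b hb
            rcases Multiset.mem_cons.1 hb with h | h
            · rw [h]; norm_num
            · rw [Multiset.eq_of_mem_replicate h]; norm_num)
          (by
            obtain ⟨t, ht⟩ := hao
            simp
            exact ⟨5 * t + 2, by omega⟩)
        refine ⟨x, h1, h2, h3 ?_, ?_⟩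
        · intro hb
          rcases Multiset.mem_cons.1 hb with h | h
          · omega
          · have := Multiset.eq_of_mem_replicate h
            omega
        · rw [h4]; simp; omega
    by_cases h4 : n % 4 = 0
    · obtain ⟨x, h1, h2, h3, h5⟩ := key (n / 4) (by omega) (by omega)
      exact ⟨x, h1, h2, Or.inr (Or.inl ⟨h4, h3, by rw [h5]; omega⟩)⟩
    · have h42 : n % 4 = 2 := by omega
      obtain ⟨x, h1, h2, h3, h5⟩ := key ((n - 2) / 4) (by omega) (by omega)
      exact ⟨x, h1, h2, Or.inr (Or.inr ⟨h42, h3, by rw [h5]; omega⟩)⟩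

/-! ### helper4's interface -/

/-- number of fixed points. -/
def fixCount {n : ℕ} (g : Equiv.Perm (Fin n)) : ℕ :=
  (Finset.univ.filter (fun a => g a = a)).card

/-- number of points lying in 2-cycles. -/
def twoCount {n : ℕ} (g : Equiv.Perm (Fin n)) : ℕ :=
  (Finset.univ.filter (fun a => g a ≠ a ∧ g (g a) = a)).card

theorem fixCount_eq_fix {n : ℕ} (g : Equiv.Perm (Fin n)) : fixCount g = fix g := rfl

theorem twoCount_eq_zero {n : ℕ} (g : Equiv.Perm (Fin n)) (h : NoTwoCycle g) :
    twoCount g = 0 := by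
  unfold twoCount
  rw [Finset.card_eq_zero, Finset.filter_eq_empty_iff]
  intro a _ ha
  exact ha.1 (h a ha.2)

theorem exists_order_three (n : ℕ) (hn : 7 ≤ n) :
    ∃ g : Equiv.Perm (Fin n), g ∈ alternatingGroup (Fin n) ∧ orderOf g = 3 ∧
      twoCount g = 0 ∧ fixCount g = n % 3 := by
  obtain ⟨x, h1, h2, h3, h4⟩ := exists_order3 n hn
  exact ⟨x, Equiv.Perm.mem_alternatingGroup.2 h2, h1, twoCount_eq_zero x h3, h4⟩

theorem exists_two_elt_count (n : ℕ) (hn : 7 ≤ n) :
    ∃ g : Equiv.Perm (Fin n), g ∈ alternatingGroup (Fin n) ∧ (∃ j, orderOf g = 2 ^ j) ∧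
      (fixCount g = 1 ∨ (fixCount g = 0 ∧ twoCount g = 0) ∨
        (fixCount g = 2 ∧ twoCount g = 0)) := by
  obtain ⟨x, h1, h2, h3⟩ := exists_two_elt n hn
  refine ⟨x, Equiv.Perm.mem_alternatingGroup.2 h2, h1, ?_⟩
  rcases h3 with ⟨_, h⟩ | ⟨_, h, h'⟩ | ⟨_, h, h'⟩
  · exact Or.inl h
  · exact Or.inr (Or.inl ⟨h', twoCount_eq_zero x h⟩)
  · exact Or.inr (Or.inr ⟨h', twoCount_eq_zero x h⟩)

end Cfsg.Agent.H1.AltElts
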