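import Mathlib

set_option autoImplicit false

namespace Cfsg.Agent.H1.AutOrbA

open scoped commutatorElement

/-- weighted orbit counting: if every class of an equivalence relation has total weight at least `N`,
then `N` times the number of classes is at most the total weight. -/
theorem quotient_weight_bound {X : Type*} [Fintype X] (r : Setoid X) [DecidableRel r.r] (w : X → ℕ) (N : ℕ)
    (h : ∀ x : X, N ≤ ∑ y ∈ Finset.univ.filter (fun y => r y x), w y) :
    N * Nat.card (Quotient r) ≤ ∑ x, w x := by
  classical
  haveI : Fintype (Quotient r) := Fintype.ofFinite _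
  rw [Nat.card_eq_fintype_card]
  have h1 : ∑ x, w x = ∑ q : Quotient r, ∑ x ∈ Finset.univ.filter (fun x => (Quotient.mk r x) = q), w x := by
    rw [Finset.sum_fiberwise]
  rw [h1]
  have h2 : ∀ q : Quotient r, N ≤ ∑ x ∈ Finset.univ.filter (fun x => (Quotient.mk r x) = q), w x := by
    intro q
    obtain ⟨x, rfl⟩ := Quotient.exists_rep q
    refine le_trans (h x) (le_of_eq ?_)
    apply Finset.sum_congr _ (fun _ _ => rfl)
    ext y
    simp only [Finset.mem_filter, Finset.mem_univ, true_and]
    exact (Quotient.eq (r := r)).symm
  calc N * Fintype.card (Quotient r) = ∑ _q : Quotient r, N := by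
        rw [Finset.sum_const, Finset.card_univ, smul_eq_mul, mul_comm]
    _ ≤ _ := Finset.sum_le_sum (fun q _ => h2 q)

variable {G : Type*} [Group G]

/-- the number of automorphism orbits is at most the class number -/
theorem orbits_le_conjClasses [Finite G] :
    Nat.card (MulAction.orbitRel.Quotient (MulAut G) G) ≤ Nat.card (ConjClasses G) := by
  have hf : ∀ a b : G, IsConj a b → (MulAction.orbitRel (MulAut G) G) a b := by
    intro a b hab
    obtain ⟨c, hc⟩ := isConj_iff.mp hab
    rw [MulAction.orbitRel_apply]
    refine ⟨(MulAut.conj c)⁻¹, ?_⟩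
    rw [← hc]
    simp [MulAut.smul_def]
    group
  let f : ConjClasses G → MulAction.orbitRel.Quotient (MulAut G) G :=
    Quotient.map' id hf
  have hs : Function.Surjective f := by
    intro q
    obtain ⟨x, rfl⟩ := Quotient.exists_rep q
    exact ⟨ConjClasses.mk x, rfl⟩
  exact Nat.card_le_card_of_surjective f hs

/-- the sum of the centralizer orders is `k(G) |G|` -/
theorem sum_card_centralizer [Fintype G] :
    ∑ g : G, Nat.card (Subgroup.centralizer ({g} : Set G)) = Nat.card (ConjClasses G) * Nat.card G := by
  classical
  rw [← card_comm_eq_card_conjClasses_mul_card]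
  rw [Nat.card_eq_fintype_card, Fintype.card_subtype]
  have : (Finset.univ.filter (fun p : G × G => Commute p.1 p.2)).card
      = ∑ g : G, (Finset.univ.filter (fun h : G => Commute g h)).card := by
    rw [← Finset.card_sigma]
    apply Finset.card_bij (fun p _ => ⟨p.1, p.2⟩)
    · intro p hp
      simp only [Finset.mem_filter, Finset.mem_univ, true_and] at hp
      simp [hp]
    · intro p _ q _ h
      simp only [Sigma.mk.injEq, heq_eq_eq] at h
      exact Prod.ext h.1 h.2
    · intro s hs
      simp only [Finset.mem_sigma, Finset.mem_filter, Finset.mem_univ, true_and] at hs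
      exact ⟨(s.1, s.2), by simp [hs], rfl⟩
  rw [this]
  apply Finset.sum_congr rfl
  intro g _
  rw [Nat.card_eq_fintype_card, ← Fintype.card_subtype]
  apply Fintype.card_congr
  refine Equiv.subtypeEquivRight ?_
  intro h
  rw [Subgroup.mem_centralizer_singleton_iff]
  exact ⟨fun hh => hh.symm, fun hh => hh.symm⟩

end Cfsg.Agent.H1.AutOrbA
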