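import Mathlib
import Cfsg.Agent.H1.AutOrbA

set_option autoImplicit false

namespace Cfsg.Agent.H1.AutOrbB

open scoped commutatorElement

variable {G : Type*} [Group G]

/-- order of the centralizer of an element -/
noncomputable def cz (g : G) : ℕ := Nat.card (Subgroup.centralizer ({g} : Set G))

theorem cz_dvd [Finite G] (g : G) : cz g ∣ Nat.card G := Subgroup.card_subgroup_dvd_card _

theorem cz_pos [Finite G] (g : G) : 0 < cz g := Nat.card_pos

theorem cz_eq_iff [Finite G] (g : G) : cz g = Nat.card G ↔ g ∈ Subgroup.center G := by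
  unfold cz
  rw [Subgroup.card_eq_iff_eq_top, Subgroup.centralizer_eq_top_iff_subset, Set.singleton_subset_iff]
  rfl

theorem cz_mid [Finite G] (g : G) (hg : g ∉ Subgroup.center G)
    (h : Nat.card G ≤ (Nat.card G).minFac * cz g) : (Nat.card G).minFac * cz g = Nat.card G := by
  obtain ⟨j, hj⟩ := cz_dvd g
  have hne : cz g ≠ Nat.card G := fun h' => hg ((cz_eq_iff g).mp h')
  have hpos := cz_pos g
  have hj1 : j ≠ 1 := by
    rintro rfl
    rw [mul_one] at hj
    exact hne hj.symm
  have hjp : (Nat.card G).minFac ≤ j := Nat.minFac_le_of_dvd (by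
    rcases j with _ | _ | j
    · simp at hj
      have := Nat.card_pos (α := G)
      omega
    · exact absurd rfl hj1
    · omega) ⟨cz g, by rw [hj, mul_comm]⟩
  have hjle : j ≤ (Nat.card G).minFac := by
    generalize (Nat.card G).minFac = p at h ⊢
    rw [hj, mul_comm] at h
    exact Nat.le_of_mul_le_mul_right h hpos
  have : j = (Nat.card G).minFac := le_antisymm hjle hjp
  rw [← this, mul_comm, ← hj]

theorem cz_bad [Finite G] (g : G)
    (h : (Nat.card G).minFac * cz g < Nat.card G) : ((Nat.card G).minFac + 1) * cz g ≤ Nat.card G := by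
  obtain ⟨j, hj⟩ := cz_dvd g
  have hpos := cz_pos g
  have : (Nat.card G).minFac < j := by
    generalize (Nat.card G).minFac = p at h ⊢
    rw [hj, mul_comm] at h
    exact Nat.lt_of_mul_lt_mul_left h
  calc ((Nat.card G).minFac + 1) * cz g ≤ j * cz g := Nat.mul_le_mul_right _ this
    _ = Nat.card G := by rw [hj, mul_comm]

/-- the pointwise inequality behind the count of elements with small centralizers -/
theorem cz_pointwise [Finite G] [DecidablePred (· ∈ Subgroup.center G)] (hnt : Nontrivial G) (g : G) :
    (Nat.card G).minFac * ((Nat.card G).minFac + 1) * cz g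
      + (if (Nat.card G).minFac * cz g < Nat.card G then Nat.card G else 0)
    ≤ ((Nat.card G).minFac + 1) * Nat.card G
      + (if g ∈ Subgroup.center G then ((Nat.card G).minFac * (Nat.card G).minFac - 1) * Nat.card G else 0) := by
  have hn1 : Nat.card G ≠ 1 := by
    intro h
    have := Finite.one_lt_card (α := G)
    omega
  have hp : (Nat.card G).minFac.Prime := Nat.minFac_prime hn1
  have hp2 := hp.two_le
  by_cases hz : g ∈ Subgroup.center G
  · have h1 : cz g = Nat.card G := (cz_eq_iff g).mpr hz
    have h2 : ¬ (Nat.card G).minFac * cz g < Nat.card G := by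
      rw [h1]
      have := Nat.card_pos (α := G)
      nlinarith
    rw [if_neg h2, if_pos hz, h1]
    generalize (Nat.card G).minFac = p at hp2 ⊢
    generalize Nat.card G = n
    obtain ⟨q, rfl⟩ : ∃ q, p = q + 2 := ⟨p - 2, by omega⟩
    have : (q + 2) * (q + 2) - 1 = q * q + 4 * q + 3 := by
      have : (q + 2) * (q + 2) = q * q + 4 * q + 4 := by ring
      omega
    rw [this]
    ring_nf
    exact le_refl _
  · rw [if_neg hz, add_zero]
    by_cases hb : (Nat.card G).minFac * cz g < Nat.card G
    · rw [if_pos hb]
      have := cz_bad g hb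
      generalize (Nat.card G).minFac = p at this ⊢
      generalize Nat.card G = n at this ⊢
      nlinarith
    · rw [if_neg hb, add_zero]
      have := cz_mid g hz (not_lt.mp hb)
      generalize (Nat.card G).minFac = p at this ⊢
      generalize Nat.card G = n at this ⊢
      nlinarith

/-- the set of elements whose class has more than `p` elements -/
noncomputable def bad (G : Type*) [Group G] [Fintype G] : Finset G :=
  open scoped Classical in
  Finset.univ.filter (fun g : G => (Nat.card G).minFac * cz g < Nat.card G)

theorem card_bad_lt [Fintype G] (hnt : Nontrivial G)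
    (h2 : Nat.card G < (Nat.card G).minFac * Nat.card (ConjClasses G)) :
    (bad G).card + (Nat.card G).minFac + 1
      ≤ Nat.card (Subgroup.center G) * ((Nat.card G).minFac * (Nat.card G).minFac - 1) := by
  classical
  have hsum := Finset.sum_le_sum (s := (Finset.univ : Finset G)) (fun g _ => cz_pointwise hnt g)
  rw [Finset.sum_add_distrib, Finset.sum_add_distrib, ← Finset.mul_sum] at hsum
  have e1 : ∑ g : G, cz g = Nat.card (ConjClasses G) * Nat.card G := AutOrbA.sum_card_centralizer
  have e2 : ∑ g : G, (if (Nat.card G).minFac * cz g < Nat.card G then Nat.card G else 0)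
      = (bad G).card * Nat.card G := by
    rw [← Finset.sum_filter, Finset.sum_const, smul_eq_mul]
    rfl
  have e3 : ∑ g : G, (if g ∈ Subgroup.center G then
      ((Nat.card G).minFac * (Nat.card G).minFac - 1) * Nat.card G else 0)
      = Nat.card (Subgroup.center G) * (((Nat.card G).minFac * (Nat.card G).minFac - 1) * Nat.card G) := by
    rw [← Finset.sum_filter, Finset.sum_const, smul_eq_mul]
    congr 1
    rw [Nat.card_eq_fintype_card, Fintype.card_subtype]
  have e4 : ∑ _g : G, ((Nat.card G).minFac + 1) * Nat.card G
      = Nat.card G * (((Nat.card G).minFac + 1) * Nat.card G) := by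
    rw [Finset.sum_const, smul_eq_mul, Finset.card_univ, Nat.card_eq_fintype_card]
  rw [e1, e2, e3, e4] at hsum
  have hn : 0 < Nat.card G := Nat.card_pos
  generalize (Nat.card G).minFac = p at *
  generalize Nat.card G = n at *
  generalize Nat.card (ConjClasses G) = k at *
  generalize (bad G).card = b at *
  generalize Nat.card (Subgroup.center G) = z at *
  generalize p * p - 1 = t at *
  have h3 : (p * (p + 1) * k + b) * n ≤ ((p + 1) * n + z * t) * n := by nlinarith
  have h4 := Nat.le_of_mul_le_mul_right h3 hn
  have h5 : n + 1 ≤ p * k := h2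
  nlinarith

/-- a composite divisor of `n` is at least `p²` (`p` the least prime divisor), and equals `p²` if below `p (p + 1)` -/
theorem composite_dvd {n m : ℕ} (hn : 0 < n) (hm : m ∣ n) (hm1 : m ≠ 1) (hmp : ¬ m.Prime) :
    n.minFac * n.minFac ≤ m ∧ (m < n.minFac * (n.minFac + 1) → m = n.minFac * n.minFac) := by
  have hm0 : 0 < m := Nat.pos_of_dvd_of_pos hm hn
  have hq : m.minFac.Prime := Nat.minFac_prime hm1
  have hpq : n.minFac ≤ m.minFac :=
    Nat.minFac_le_of_dvd hq.two_le ((Nat.minFac_dvd m).trans hm)
  obtain ⟨m', hm'⟩ := Nat.minFac_dvd m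
  have hm'1 : m' ≠ 1 := by
    rintro rfl
    rw [mul_one] at hm'
    exact hmp (hm' ▸ hq)
  have hm'0 : 0 < m' := by
    rcases Nat.eq_zero_or_pos m' with h | h
    · rw [h, mul_zero] at hm'
      omega
    · exact h
  have hq' : m'.minFac.Prime := Nat.minFac_prime hm'1
  have hm'n : m' ∣ n := (Dvd.intro_left _ hm'.symm).trans hm
  have hpq' : n.minFac ≤ m'.minFac :=
    Nat.minFac_le_of_dvd hq'.two_le ((Nat.minFac_dvd m').trans hm'n)
  have hle : m'.minFac ≤ m' := Nat.minFac_le hm'0
  have hpm' : n.minFac ≤ m' := hpq'.trans hle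
  constructor
  · rw [hm']
    exact Nat.mul_le_mul hpq hpm'
  · intro hlt
    have h1 : m.minFac = n.minFac := by
      by_contra hne
      have : n.minFac + 1 ≤ m.minFac := by omega
      have : (n.minFac + 1) * n.minFac ≤ m.minFac * m' := Nat.mul_le_mul this hpm'
      rw [← hm'] at this
      nlinarith
    have h2 : m' = n.minFac := by
      by_contra hne
      have : n.minFac + 1 ≤ m' := by omega
      have : n.minFac * (n.minFac + 1) ≤ m.minFac * m' := Nat.mul_le_mul hpq this
      rw [← hm'] at this
      omega
    rw [hm', h1, h2]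

/-- the index of the centre of a non-abelian group is not `1` and not a prime -/
theorem index_center_ne_one (hna : ∃ a b : G, a * b ≠ b * a) : (Subgroup.center G).index ≠ 1 := by
  intro h
  rw [Subgroup.index_eq_one] at h
  obtain ⟨a, b, hab⟩ := hna
  have : a ∈ Subgroup.center G := h ▸ Subgroup.mem_top a
  exact hab ((Subgroup.mem_center_iff.mp this b).symm)

theorem index_center_not_prime [Finite G] (hna : ∃ a b : G, a * b ≠ b * a) :
    ¬ (Subgroup.center G).index.Prime := by
  intro h
  haveI : Fact (Nat.card (G ⧸ Subgroup.center G)).Prime := ⟨by rwa [← Subgroup.index_eq_card]⟩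
  haveI : IsCyclic (G ⧸ Subgroup.center G) := isCyclic_of_prime_card rfl
  obtain ⟨a, b, hab⟩ := hna
  exact hab ((MonoidHom.isMulCommutative_of_isCyclic_of_ker_le_center (QuotientGroup.mk' (Subgroup.center G))
    (by rw [QuotientGroup.ker_mk'])).is_comm.comm a b)

theorem sq_mul_card_center_le [Finite G] (hna : ∃ a b : G, a * b ≠ b * a) :
    (Nat.card G).minFac * (Nat.card G).minFac * Nat.card (Subgroup.center G) ≤ Nat.card G := by
  have h := (composite_dvd (n := Nat.card G) Nat.card_pos (Subgroup.index_dvd_card (Subgroup.center G))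
    (index_center_ne_one hna) (index_center_not_prime hna)).1
  calc _ ≤ (Subgroup.center G).index * Nat.card (Subgroup.center G) := Nat.mul_le_mul_right _ h
    _ = Nat.card G := by rw [mul_comm, Subgroup.card_mul_index]

/-- if the centre has index `p²`, every non-central element has a centralizer of index `p` -/
theorem cz_of_index_center_sq [Finite G] {p : ℕ} (hp : p.Prime) (hZ : (Subgroup.center G).index = p * p)
    (g : G) (hg : g ∉ Subgroup.center G) : p * cz g = Nat.card G := by
  have hle : Subgroup.center G ≤ Subgroup.centralizer ({g} : Set G) := Subgroup.center_le_centralizer _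
  have h1 := Subgroup.relIndex_mul_index hle
  rw [hZ, ← sq] at h1
  have h2 : (Subgroup.centralizer ({g} : Set G)).index ∣ p ^ 2 := Dvd.intro_left _ h1
  obtain ⟨i, hi, hi'⟩ := (Nat.dvd_prime_pow hp).mp h2
  have hgc : g ∈ Subgroup.centralizer ({g} : Set G) := Subgroup.mem_centralizer_singleton_iff.mpr rfl
  interval_cases i
  · exfalso
    rw [pow_zero, Subgroup.index_eq_one, Subgroup.centralizer_eq_top_iff_subset,
      Set.singleton_subset_iff] at hi'
    exact hg hi'
  · unfold cz
    rw [pow_one] at hi'
    rw [← hi', mul_comm, Subgroup.card_mul_index]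
  · exfalso
    rw [hi'] at h1
    have hpos : 0 < p ^ 2 := pow_pos hp.pos 2
    have h3 : (Subgroup.center G).relIndex (Subgroup.centralizer ({g} : Set G)) = 1 := by
      have : (Subgroup.center G).relIndex (Subgroup.centralizer ({g} : Set G)) * p ^ 2 = 1 * p ^ 2 := by
        rw [h1, one_mul]
      exact Nat.eq_of_mul_eq_mul_right hpos this
    rw [Subgroup.relIndex_eq_one] at h3
    exact hg (h3 hgc)

/-- **Key lemma**: if `k(G) > |G|/p`, any subgroup containing all elements with at most `p` conjugates is `G` -/
theorem eq_top_of_good_le [Finite G] (hna : ∃ a b : G, a * b ≠ b * a)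
    (h2 : Nat.card G < (Nat.card G).minFac * Nat.card (ConjClasses G)) (H : Subgroup G)
    (hH : ∀ g : G, Nat.card G ≤ (Nat.card G).minFac * cz g → g ∈ H) : H = ⊤ := by
  classical
  haveI : Fintype G := Fintype.ofFinite G
  have hnt : Nontrivial G := by
    obtain ⟨a, b, hab⟩ := hna
    refine ⟨⟨a, 1, ?_⟩⟩
    rintro rfl
    simp at hab
  have hn1 : Nat.card G ≠ 1 := by
    intro h
    have := Finite.one_lt_card (α := G)
    omega
  have hp : (Nat.card G).minFac.Prime := Nat.minFac_prime hn1
  by_contra hne
  have hb := card_bad_lt hnt h2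
  -- the good elements
  have hgood : (Finset.univ.filter (fun g : G => ¬ (Nat.card G).minFac * cz g < Nat.card G)).card
      ≤ Nat.card H := by
    rw [Nat.card_eq_fintype_card (α := H), Fintype.card_subtype]
    apply Finset.card_le_card
    intro g hg
    simp only [Finset.mem_filter, Finset.mem_univ, true_and] at hg ⊢
    exact hH g (not_lt.mp hg)
  have hsplit : (bad G).card
      + (Finset.univ.filter (fun g : G => ¬ (Nat.card G).minFac * cz g < Nat.card G)).card
      = Nat.card G := by
    unfold bad
    rw [Finset.card_filter_add_card_filter_not, Finset.card_univ, Nat.card_eq_fintype_card]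
  have hidx : (Nat.card G).minFac ≤ H.index := by
    apply Nat.minFac_le_of_dvd _ (Subgroup.index_dvd_card H)
    have h0 : H.index ≠ 0 := Subgroup.index_ne_zero_of_finite
    have h1 : H.index ≠ 1 := fun h => hne (Subgroup.index_eq_one.mp h)
    omega
  have hHn : (Nat.card G).minFac * Nat.card H ≤ Nat.card G := by
    calc _ ≤ H.index * Nat.card H := Nat.mul_le_mul_right _ hidx
      _ = Nat.card G := by rw [mul_comm, Subgroup.card_mul_index]
  have hZ := Subgroup.card_mul_index (Subgroup.center G)
  have hcomp := composite_dvd (n := Nat.card G) Nat.card_pos (Subgroup.index_dvd_card (Subgroup.center G))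
    (index_center_ne_one hna) (index_center_not_prime hna)
  have hlt : (Subgroup.center G).index < (Nat.card G).minFac * ((Nat.card G).minFac + 1) := by
    have hz0 : 0 < Nat.card (Subgroup.center G) := Nat.card_pos
    have hp2 := hp.two_le
    generalize (Nat.card G).minFac = p at *
    generalize Nat.card G = n at *
    generalize (bad G).card = b at *
    generalize (Finset.univ.filter (fun g : G => ¬ p * cz g < n)).card = c at *
    generalize Nat.card (Subgroup.center G) = z at *
    generalize (Subgroup.center G).index = m at *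
    generalize Nat.card H = h at *
    obtain ⟨q, rfl⟩ : ∃ q, p = q + 2 := ⟨p - 2, by omega⟩
    have e : (q + 2) * (q + 2) - 1 = (q + 1) * (q + 3) := by
      have : (q + 2) * (q + 2) = (q + 1) * (q + 3) + 1 := by ring
      omega
    rw [e] at hb
    -- (q+1) c ≤ b
    have h3 : (q + 1) * c ≤ b := by nlinarith
    have h4 : (q + 1) * c < (q + 1) * (z * (q + 3)) := by nlinarith
    have h5 : c < z * (q + 3) := Nat.lt_of_mul_lt_mul_left h4
    have h6 : z * m < z * ((q + 2) * (q + 2 + 1)) := by nlinarith
    exact Nat.lt_of_mul_lt_mul_left h6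
  have hm := hcomp.2 hlt
  have hall : ∀ g : G, Nat.card G ≤ (Nat.card G).minFac * cz g := by
    intro g
    by_cases hg : g ∈ Subgroup.center G
    · rw [(cz_eq_iff g).mpr hg]
      exact Nat.le_mul_of_pos_left _ hp.pos
    · exact (cz_of_index_center_sq hp hm g hg).ge
  apply hne
  rw [eq_top_iff]
  intro g _
  exact hH g (hall g)

end Cfsg.Agent.H1.AutOrbB
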