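import Mathlib
import Cfsg.Agent.H1.AutOrbB

set_option autoImplicit false

namespace Cfsg.Agent.H1.AutOrbC

open scoped commutatorElement

variable {G : Type*} [Group G]

section class2

variable (hc : ∀ a b : G, ⁅a, b⁆ ∈ Subgroup.center G)
include hc

theorem comm_mul_right (a b c : G) : ⁅a, b * c⁆ = ⁅a, b⁆ * ⁅a, c⁆ := by
  have h1 : ⁅a, b * c⁆ = ⁅a, b⁆ * (b * ⁅a, c⁆ * b⁻¹) := by
    simp only [commutatorElement_def]; group
  have h2 : b * ⁅a, c⁆ * b⁻¹ = ⁅a, c⁆ := by
    rw [Subgroup.mem_center_iff.mp (hc a c) b]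
    group
  rw [h1, h2]

theorem comm_mul_left (a b c : G) : ⁅a * b, c⁆ = ⁅a, c⁆ * ⁅b, c⁆ := by
  have h1 : ⁅a * b, c⁆ = (a * ⁅b, c⁆ * a⁻¹) * ⁅a, c⁆ := by
    simp only [commutatorElement_def]; group
  have h2 : a * ⁅b, c⁆ * a⁻¹ = ⁅b, c⁆ := by
    rw [Subgroup.mem_center_iff.mp (hc b c) a]
    group
  rw [h1, h2]
  exact (Subgroup.mem_center_iff.mp (hc b c) _).symm

theorem comm_pow_right (a b : G) (k : ℕ) : ⁅a, b ^ k⁆ = ⁅a, b⁆ ^ k := by
  induction k with
  | zero => simp
  | succ k ih => rw [pow_succ, pow_succ, comm_mul_right hc, ih]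

theorem comm_pow_left (a b : G) (k : ℕ) : ⁅a ^ k, b⁆ = ⁅a, b⁆ ^ k := by
  induction k with
  | zero => simp
  | succ k ih => rw [pow_succ, pow_succ, comm_mul_left hc, ih]

/-- `a b = b a [a,b]` -/
theorem mul_swap (a b : G) : a * b = b * a * ⁅a, b⁆ := by
  rw [Subgroup.mem_center_iff.mp (hc a b) (b * a)]
  simp only [commutatorElement_def]; group

/-- `a^k b = b a^k [a,b]^k` -/
theorem pow_mul_swap (a b : G) (k : ℕ) : a ^ k * b = b * a ^ k * ⁅a, b⁆ ^ k := by
  rw [mul_swap hc (a ^ k) b, comm_pow_left hc]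

/-- the power formula in class two -/
theorem mul_pow_class2 (a b : G) (n : ℕ) : (a * b) ^ n = a ^ n * b ^ n * ⁅b, a⁆ ^ (n.choose 2) := by
  induction n with
  | zero => simp
  | succ n ih =>
    have hz : ∀ k : ℕ, ∀ x : G, ⁅b, a⁆ ^ k * x = x * ⁅b, a⁆ ^ k := fun k x =>
      (Subgroup.mem_center_iff.mp (Subgroup.pow_mem _ (hc b a) k) x).symm
    have h1 : b ^ n * a = a * b ^ n * ⁅b, a⁆ ^ n := pow_mul_swap hc b a n
    have h2 : (n + 1).choose 2 = n + n.choose 2 := by
      rw [Nat.choose_succ_succ', Nat.choose_one_right]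
    calc (a * b) ^ (n + 1) = (a * b) ^ n * (a * b) := pow_succ _ _
      _ = a ^ n * b ^ n * ⁅b, a⁆ ^ (n.choose 2) * (a * b) := by rw [ih]
      _ = a ^ n * (b ^ n * a) * b * ⁅b, a⁆ ^ (n.choose 2) := by
        rw [mul_assoc (a ^ n * b ^ n), hz]; group
      _ = a ^ n * (a * b ^ n * ⁅b, a⁆ ^ n) * b * ⁅b, a⁆ ^ (n.choose 2) := by rw [h1]
      _ = a ^ (n + 1) * b ^ (n + 1) * (⁅b, a⁆ ^ n * ⁅b, a⁆ ^ (n.choose 2)) := by
        rw [mul_assoc (a ^ n * (a * b ^ n * ⁅b, a⁆ ^ n)), mul_assoc (a ^ n), mul_assoc (a * b ^ n),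
          hz n, pow_succ, pow_succ]
        group
      _ = _ := by rw [← pow_add, h2]

end class2

open AutOrbB

/-- a non-central element with at most `p` conjugates has a normal centralizer of index `p` -/
theorem centralizer_normal_of_mid [Finite G] (g : G)
    (h : (Nat.card G).minFac * cz g = Nat.card G) :
    (Subgroup.centralizer ({g} : Set G)).Normal ∧
      (Subgroup.centralizer ({g} : Set G)).index = (Nat.card G).minFac := by
  have hidx : (Subgroup.centralizer ({g} : Set G)).index = (Nat.card G).minFac := by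
    have h1 := Subgroup.card_mul_index (Subgroup.centralizer ({g} : Set G))
    unfold cz at h
    have hpos : 0 < Nat.card (Subgroup.centralizer ({g} : Set G)) := Nat.card_pos
    have : Nat.card (Subgroup.centralizer ({g} : Set G)) * (Subgroup.centralizer ({g} : Set G)).index
        = Nat.card (Subgroup.centralizer ({g} : Set G)) * (Nat.card G).minFac := by
      rw [h1, mul_comm, h]
    exact Nat.eq_of_mul_eq_mul_left hpos this
  exact ⟨Subgroup.normal_of_index_eq_minFac_card hidx, hidx⟩

/-- commutators lie in a normal subgroup of prime index -/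
theorem comm_mem_of_index_prime (N : Subgroup G) [N.Normal] (hN : N.index.Prime) (a b : G) :
    ⁅a, b⁆ ∈ N := by
  haveI : Fact (Nat.card (G ⧸ N)).Prime := ⟨by rwa [← Subgroup.index_eq_card]⟩
  haveI : IsCyclic (G ⧸ N) := isCyclic_of_prime_card rfl
  letI : CommGroup (G ⧸ N) := IsCyclic.commGroup
  rw [← QuotientGroup.eq_one_iff]
  have : ((⁅a, b⁆ : G) : G ⧸ N) = ⁅(a : G ⧸ N), (b : G ⧸ N)⁆ :=
    map_commutatorElement (QuotientGroup.mk' N) a b
  rw [this]
  exact commutatorElement_eq_one_iff_commute.mpr (Commute.all _ _)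

/-- `p`-th powers lie in a normal subgroup of index `p` -/
theorem pow_mem_of_index (N : Subgroup G) [N.Normal] (a : G) : a ^ N.index ∈ N :=
  Subgroup.pow_index_mem N a

/-- in Case 2 the group has class two -/
theorem comm_mem_center [Finite G] (hna : ∃ a b : G, a * b ≠ b * a)
    (h2 : Nat.card G < (Nat.card G).minFac * Nat.card (ConjClasses G)) (a b : G) :
    ⁅a, b⁆ ∈ Subgroup.center G := by
  have hn1 : Nat.card G ≠ 1 := by
    intro h
    obtain ⟨a, b, hab⟩ := hna
    haveI : Subsingleton G := (Nat.card_eq_one_iff_unique.mp h).1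
    exact hab (Subsingleton.elim _ _)
  have hp : (Nat.card G).minFac.Prime := Nat.minFac_prime hn1
  have key := eq_top_of_good_le hna h2
    (Subgroup.centralizer (Set.range (fun ab : G × G => ⁅ab.1, ab.2⁆))) (by
      intro g hg
      by_cases hz : g ∈ Subgroup.center G
      · exact Subgroup.center_le_centralizer _ hz
      · obtain ⟨hN, hi⟩ := centralizer_normal_of_mid g (cz_mid g hz hg)
        rw [Subgroup.mem_centralizer_iff]
        rintro _ ⟨⟨x, y⟩, rfl⟩
        have := comm_mem_of_index_prime _ (hi ▸ hp) x y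
        exact (Subgroup.mem_centralizer_singleton_iff.mp this))
  rw [Subgroup.mem_center_iff]
  intro g
  have hg : g ∈ Subgroup.centralizer (Set.range (fun ab : G × G => ⁅ab.1, ab.2⁆)) := key ▸ Subgroup.mem_top g
  exact (Subgroup.mem_centralizer_iff.mp hg _ ⟨(a, b), rfl⟩).symm

/-- in Case 2 all `p`-th powers are central -/
theorem pow_mem_center [Finite G] (hna : ∃ a b : G, a * b ≠ b * a)
    (h2 : Nat.card G < (Nat.card G).minFac * Nat.card (ConjClasses G)) (x : G) :
    x ^ (Nat.card G).minFac ∈ Subgroup.center G := by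
  have hc := comm_mem_center hna h2
  have hn1 : Nat.card G ≠ 1 := by
    intro h
    obtain ⟨a, b, hab⟩ := hna
    haveI : Subsingleton G := (Nat.card_eq_one_iff_unique.mp h).1
    exact hab (Subsingleton.elim _ _)
  have hp : (Nat.card G).minFac.Prime := Nat.minFac_prime hn1
  let H : Subgroup G :=
    { carrier := {x | x ^ (Nat.card G).minFac ∈ Subgroup.center G}
      mul_mem' := by
        intro a b ha hb
        simp only [Set.mem_ofPred_eq] at ha hb ⊢
        rw [mul_pow_class2 hc]
        exact Subgroup.mul_mem _ (Subgroup.mul_mem _ ha hb) (Subgroup.pow_mem _ (hc b a) _)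
      one_mem' := by simp
      inv_mem' := by
        intro a ha
        simp only [Set.mem_ofPred_eq] at ha ⊢
        rw [inv_pow]
        exact Subgroup.inv_mem _ ha }
  have key := eq_top_of_good_le hna h2 H (by
    intro g hg
    by_cases hz : g ∈ Subgroup.center G
    · exact Subgroup.pow_mem _ hz _
    · obtain ⟨hN, hi⟩ := centralizer_normal_of_mid g (cz_mid g hz hg)
      change g ^ (Nat.card G).minFac ∈ Subgroup.center G
      rw [Subgroup.mem_center_iff]
      intro h
      have h3 : h ^ (Nat.card G).minFac ∈ Subgroup.centralizer ({g} : Set G) := by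
        have := pow_mem_of_index (Subgroup.centralizer ({g} : Set G)) h
        rwa [hi] at this
      have h4 : ⁅g, h ^ (Nat.card G).minFac⁆ = 1 := by
        rw [commutatorElement_eq_one_iff_commute]
        exact (Subgroup.mem_centralizer_singleton_iff.mp h3).symm
      have h5 : ⁅g ^ (Nat.card G).minFac, h⁆ = 1 := by
        rw [comm_pow_left hc, ← comm_pow_right hc, h4]
      exact (commutatorElement_eq_one_iff_commute.mp h5).symm)
  have : x ∈ H := key ▸ Subgroup.mem_top x
  exact this

end Cfsg.Agent.H1.AutOrbC
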