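import Mathlib
import Cfsg.Agent.H1.AutOrbC

set_option autoImplicit false

namespace Cfsg.Agent.H1.AutOrbD

open scoped commutatorElement

variable {G : Type*} [Group G]

/-- central automorphisms -/
theorem exists_central_aut [Finite G] (ψ : G →* G) (hψ : ∀ g, ψ g ∈ Subgroup.center G)
    (hinj : ∀ g, ψ g = g⁻¹ → g = 1) : ∃ α : MulAut G, ∀ g, α g = g * ψ g := by
  let f : G →* G := MonoidHom.mk' (fun g => g * ψ g) (by
    intro a b
    simp only [map_mul]
    have := Subgroup.mem_center_iff.mp (hψ a) b
    calc a * b * (ψ a * ψ b) = a * (b * ψ a) * ψ b := by group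
      _ = a * (ψ a * b) * ψ b := by rw [this]
      _ = _ := by group)
  have hf : Function.Injective f := by
    rw [injective_iff_map_eq_one]
    intro a ha
    have : a * ψ a = 1 := ha
    exact hinj a (eq_inv_of_mul_eq_one_right this)
  have hb : Function.Bijective f := Finite.injective_iff_bijective.mp hf
  exact ⟨MulEquiv.ofBijective f hb, fun g => rfl⟩

/-- a normal subgroup of prime index `p` is the kernel of a surjection onto `ZMod p` -/
theorem exists_hom_zmod (N : Subgroup G) [N.Normal] {p : ℕ} (hp : p.Prime) (hN : N.index = p) :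
    ∃ e : G →* Multiplicative (ZMod p), Function.Surjective e ∧ e.ker = N := by
  haveI : Fact p.Prime := ⟨hp⟩
  have h1 : Nat.card (G ⧸ N) = p := by rw [← Subgroup.index_eq_card, hN]
  have h2 : Nat.card (Multiplicative (ZMod p)) = p := by
    rw [Nat.card_congr Multiplicative.toAdd, Nat.card_zmod]
  let φ : (G ⧸ N) ≃* Multiplicative (ZMod p) := mulEquivOfPrimeCardEq h1 h2
  refine ⟨φ.toMonoidHom.comp (QuotientGroup.mk' N), ?_, ?_⟩
  · exact φ.surjective.comp (QuotientGroup.mk'_surjective N)
  · ext x
    simp only [MonoidHom.mem_ker, MonoidHom.comp_apply, MulEquiv.toMonoidHom_eq_coe,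
      MonoidHom.coe_coe, QuotientGroup.mk'_apply]
    rw [MulEquiv.map_eq_one_iff, QuotientGroup.eq_one_iff]

/-- the power map `ZMod p → G` attached to an element with `u ^ p = 1` -/
noncomputable def pw {p : ℕ} [NeZero p] (u : G) (hu : u ^ p = 1) : Multiplicative (ZMod p) →* G :=
  MonoidHom.mk' (fun k => u ^ (Multiplicative.toAdd k).val) (by
    intro a b
    rw [toAdd_mul, ZMod.val_add, ← pow_eq_pow_mod _ hu, pow_add])

theorem pw_apply {p : ℕ} [NeZero p] (u : G) (hu : u ^ p = 1) (k : Multiplicative (ZMod p)) :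
    pw u hu k = u ^ (Multiplicative.toAdd k).val := rfl

/-- **Case 2a**: with a surjection `e` onto `ZMod p` killing the centre, an element outside the kernel can
be multiplied by any central element of order dividing `p` by an automorphism. -/
theorem exists_aut_mul_central [Finite G] {p : ℕ} (hp : p.Prime) (e : G →* Multiplicative (ZMod p))
    (hZ : Subgroup.center G ≤ e.ker) (g : G) (hg : g ∉ e.ker) (u : G) (hu : u ∈ Subgroup.center G)
    (hup : u ^ p = 1) : ∃ α : MulAut G, α g = g * u := by
  haveI : Fact p.Prime := ⟨hp⟩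
  set k : ZMod p := Multiplicative.toAdd (e g) with hk
  have hk0 : k ≠ 0 := by
    intro h
    apply hg
    rw [MonoidHom.mem_ker]
    exact Multiplicative.toAdd.injective h
  set u' : G := u ^ (k⁻¹).val with hu'
  have hu'p : u' ^ p = 1 := by rw [hu', ← pow_mul, mul_comm, pow_mul, hup, one_pow]
  have hu'c : u' ∈ Subgroup.center G := Subgroup.pow_mem _ hu _
  obtain ⟨α, hα⟩ := exists_central_aut ((pw u' hu'p).comp e) (by
      intro x
      rw [MonoidHom.comp_apply, pw_apply]
      exact Subgroup.pow_mem _ hu'c _) (by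
      intro x hx
      have hx' : x⁻¹ ∈ Subgroup.center G := by
        rw [← hx, MonoidHom.comp_apply, pw_apply]
        exact Subgroup.pow_mem _ hu'c _
      have hx'' : x ∈ e.ker := hZ (by simpa using Subgroup.inv_mem _ hx')
      rw [MonoidHom.comp_apply, MonoidHom.mem_ker.mp hx'', map_one] at hx
      exact inv_eq_one.mp hx.symm)
  refine ⟨α, ?_⟩
  rw [hα, MonoidHom.comp_apply, pw_apply, ← hk, hu', ← pow_mul]
  congr 1
  have h1 : ((k⁻¹).val * k.val) % p = 1 := by
    rw [← ZMod.val_mul, inv_mul_cancel₀ hk0, ZMod.val_one]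
  rw [pow_eq_pow_mod _ hup, h1, pow_one]

end Cfsg.Agent.H1.AutOrbD
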