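import Mathlib
import Cfsg.Agent.H1.AutOrbD

set_option autoImplicit false

namespace Cfsg.Agent.H1.AutOrbE

open scoped commutatorElement
open AutOrbC

variable {G : Type*} [Group G]

theorem choose_two_add (k l : ℕ) : (k + l).choose 2 = k.choose 2 + l.choose 2 + k * l := by
  induction l with
  | zero => simp
  | succ l ih =>
    have h2 : ∀ n : ℕ, (n + 1).choose 2 = n + n.choose 2 := fun n => by
      rw [Nat.choose_succ_succ', Nat.choose_one_right]
    rw [← add_assoc, h2, h2, ih]
    ring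

/-- the cocycle `k ↦ u^k c^(k choose 2)` -/
def fc (u c : G) (k : ℕ) : G := u ^ k * c ^ (k.choose 2)

theorem fc_zero (u c : G) : fc u c 0 = 1 := by simp [fc]

theorem fc_add (u c : G) (hcc : c ∈ Subgroup.center G) (k l : ℕ) :
    fc u c (k + l) = fc u c k * fc u c l * c ^ (k * l) := by
  have hz : ∀ m : ℕ, ∀ x : G, c ^ m * x = x * c ^ m := fun m x =>
    (Subgroup.mem_center_iff.mp (Subgroup.pow_mem _ hcc m) x).symm
  unfold fc
  rw [choose_two_add, pow_add, pow_add, pow_add]
  calc u ^ k * u ^ l * (c ^ k.choose 2 * c ^ l.choose 2 * c ^ (k * l))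
      = u ^ k * (u ^ l * c ^ k.choose 2) * c ^ l.choose 2 * c ^ (k * l) := by group
    _ = u ^ k * (c ^ k.choose 2 * u ^ l) * c ^ l.choose 2 * c ^ (k * l) := by rw [hz]
    _ = _ := by group

theorem fc_add_period (u c : G) (hcc : c ∈ Subgroup.center G) {p : ℕ} (hcp : c ^ p = 1)
    (hf : fc u c p = 1) (k m : ℕ) : fc u c (k + p * m) = fc u c k := by
  induction m with
  | zero => simp
  | succ m ih =>
    rw [mul_add, mul_one, ← add_assoc, fc_add u c hcc, hf, mul_one, ih,
      mul_comm _ p, pow_mul, hcp, one_pow, mul_one]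

theorem fc_mod (u c : G) (hcc : c ∈ Subgroup.center G) {p : ℕ} (hcp : c ^ p = 1)
    (hf : fc u c p = 1) (k : ℕ) : fc u c (k % p) = fc u c k := by
  conv_rhs => rw [← Nat.mod_add_div k p]
  rw [fc_add_period u c hcc hcp hf]

/-- **the transvection** -/
theorem exists_transvection [Finite G] {p : ℕ} [NeZero p] (hc : ∀ a b : G, ⁅a, b⁆ ∈ Subgroup.center G)
    (e : G →* Multiplicative (ZMod p)) (u c : G) (hcc : c ∈ Subgroup.center G) (hcp : c ^ p = 1)
    (heu : e u = 1) (hecc : e c = 1)
    (hec : ∀ g, ⁅u, g⁆ = c ^ (Multiplicative.toAdd (e g)).val)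
    (hf : fc u c p = 1) :
    ∃ τ : MulAut G, ∀ g, τ g = g * fc u c (Multiplicative.toAdd (e g)).val := by
  have hz : ∀ m : ℕ, ∀ x : G, c ^ m * x = x * c ^ m := fun m x =>
    (Subgroup.mem_center_iff.mp (Subgroup.pow_mem _ hcc m) x).symm
  have hswap : ∀ (k : ℕ) (g : G), fc u c k * g
      = g * fc u c k * c ^ (k * (Multiplicative.toAdd (e g)).val) := by
    intro k g
    unfold fc
    have h1 := pow_mul_swap hc u g k
    rw [hec, ← pow_mul, mul_comm _ k] at h1
    calc u ^ k * c ^ k.choose 2 * g = u ^ k * g * c ^ k.choose 2 := by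
          rw [mul_assoc, hz, ← mul_assoc]
      _ = g * u ^ k * c ^ (k * (Multiplicative.toAdd (e g)).val) * c ^ k.choose 2 := by rw [h1]
      _ = _ := by
        rw [mul_assoc (g * u ^ k), hz, ← mul_assoc, ← mul_assoc]
  let f : G →* G := MonoidHom.mk' (fun g => g * fc u c (Multiplicative.toAdd (e g)).val) (by
    intro a b
    rw [map_mul, toAdd_mul, ZMod.val_add, fc_mod u c hcc hcp hf, fc_add u c hcc]
    calc a * b * (fc u c (Multiplicative.toAdd (e a)).val * fc u c (Multiplicative.toAdd (e b)).val *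
          c ^ ((Multiplicative.toAdd (e a)).val * (Multiplicative.toAdd (e b)).val))
        = a * (b * fc u c (Multiplicative.toAdd (e a)).val *
          c ^ ((Multiplicative.toAdd (e a)).val * (Multiplicative.toAdd (e b)).val)) *
            fc u c (Multiplicative.toAdd (e b)).val := by
          rw [mul_assoc (fc u c _), ← hz, ← mul_assoc (fc u c _)]
          group
      _ = a * (fc u c (Multiplicative.toAdd (e a)).val * b) * fc u c (Multiplicative.toAdd (e b)).val := by
          rw [hswap]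
      _ = _ := by group)
  have hefc : ∀ k : ℕ, e (fc u c k) = 1 := by
    intro k
    unfold fc
    rw [map_mul, map_pow, map_pow, heu, hecc, one_pow, one_pow, mul_one]
  have hfi : Function.Injective f := by
    rw [injective_iff_map_eq_one]
    intro a ha
    have h1 : a * fc u c (Multiplicative.toAdd (e a)).val = 1 := ha
    have h2 : a = (fc u c (Multiplicative.toAdd (e a)).val)⁻¹ := eq_inv_of_mul_eq_one_left h1
    have h3 : e a = 1 := by
      rw [h2, map_inv, hefc, inv_one]
    rw [h3] at h1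
    simpa [fc_zero] using h1
  have hb : Function.Bijective f := Finite.injective_iff_bijective.mp hfi
  exact ⟨MulEquiv.ofBijective f hb, fun g => rfl⟩

/-- if `u ∉ Z`, `u ^ p ∈ Z` and `u ^ m ∈ Z` then `p ∣ m` -/
theorem dvd_of_pow_mem_center {p : ℕ} (hp : p.Prime) (u : G) (hu : u ∉ Subgroup.center G)
    (hup : u ^ p ∈ Subgroup.center G) (m : ℕ) (hm : u ^ m ∈ Subgroup.center G) : p ∣ m := by
  by_contra hnd
  have hcop : Nat.Coprime m p := (Nat.Coprime.symm ((Nat.Prime.coprime_iff_not_dvd hp).mpr hnd))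
  have hb := Nat.gcd_eq_gcd_ab m p
  rw [hcop] at hb
  apply hu
  have : u = (u ^ m) ^ (m.gcdA p) * (u ^ p) ^ (m.gcdB p) := by
    rw [← zpow_natCast u m, ← zpow_natCast u p, ← zpow_mul, ← zpow_mul, ← zpow_add, ← hb]
    simp
  rw [this]
  exact Subgroup.mul_mem _ (Subgroup.zpow_mem _ hm _) (Subgroup.zpow_mem _ hup _)

/-- **orbit size in Case 2b** -/
theorem sq_le_card_orbit [Finite G] {p : ℕ} [NeZero p] (hp : p.Prime)
    (e : G →* Multiplicative (ZMod p))
    (u c : G) (hcc : c ∈ Subgroup.center G) (hc1 : c ≠ 1) (hcp : c ^ p = 1)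
    (hu : u ∉ Subgroup.center G) (hup : u ^ p ∈ Subgroup.center G)
    (heu : e u = 1) (hecc : e c = 1)
    (τ : MulAut G) (hτ : ∀ g, τ g = g * fc u c (Multiplicative.toAdd (e g)).val)
    (hconj : ∀ x : G, x ∉ e.ker → ∀ b : ℕ, ∃ h : G, h * x * h⁻¹ = x * c ^ b)
    (g : G) (hg : g ∉ e.ker) :
    p * p ≤ Nat.card (MulAction.orbit (MulAut G) g) := by
  have hz : ∀ m : ℕ, ∀ x : G, c ^ m * x = x * c ^ m := fun m x =>
    (Subgroup.mem_center_iff.mp (Subgroup.pow_mem _ hcc m) x).symm
  have huc : Commute u c := (Subgroup.mem_center_iff.mp hcc u)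
  set i : ℕ := (Multiplicative.toAdd (e g)).val with hi
  have hi0 : ¬ p ∣ i := by
    intro hd
    apply hg
    rw [MonoidHom.mem_ker]
    have h1 : i < p := ZMod.val_lt _
    have h2 : i = 0 := Nat.eq_zero_of_dvd_of_lt hd h1
    have h3 : Multiplicative.toAdd (e g) = 0 := (ZMod.val_eq_zero _).mp h2
    exact Multiplicative.toAdd.injective h3
  set F : G := fc u c i with hF
  have heF : e F = 1 := by
    rw [hF]; unfold fc
    rw [map_mul, map_pow, map_pow, heu, hecc, one_pow, one_pow, mul_one]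
  have hek : ∀ k : ℕ, e (g * F ^ k) = e g := by
    intro k
    rw [map_mul, map_pow, heF, one_pow, mul_one]
  have hτk : ∀ k : ℕ, (τ ^ k) g = g * F ^ k := by
    intro k
    induction k with
    | zero => simp
    | succ k ih =>
      rw [pow_succ', MulAut.mul_apply, ih, hτ, hek, ← hi, ← hF, mul_assoc, ← pow_succ]
  have hmem : ∀ k b : ℕ, g * F ^ k * c ^ b ∈ MulAction.orbit (MulAut G) g := by
    intro k b
    have hnk : g * F ^ k ∉ e.ker := by
      rw [MonoidHom.mem_ker, hek]
      exact fun h => hg (MonoidHom.mem_ker.mpr h)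
    obtain ⟨h, hh⟩ := hconj _ hnk b
    refine ⟨MulAut.conj h * τ ^ k, ?_⟩
    change (MulAut.conj h * τ ^ k) • g = _
    rw [MulAut.smul_def, MulAut.mul_apply, hτk, MulAut.conj_apply, hh]
  -- `F ^ k` modulo the centre
  have hFk : ∀ k : ℕ, F ^ k = u ^ (i * k) * c ^ (i.choose 2 * k) := by
    intro k
    rw [hF]; unfold fc
    rw [(huc.pow_pow _ _).mul_pow, ← pow_mul, ← pow_mul]
  have hFcen : ∀ k : ℕ, F ^ k ∈ Subgroup.center G → p ∣ k := by
    intro k hk
    rw [hFk] at hk
    have h1 : u ^ (i * k) ∈ Subgroup.center G := by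
      have := Subgroup.mul_mem _ hk (Subgroup.inv_mem _ (Subgroup.pow_mem _ hcc (i.choose 2 * k)))
      simpa using this
    have h2 := dvd_of_pow_mem_center hp u hu hup _ h1
    exact (hp.dvd_mul.mp h2).resolve_left hi0
  haveI : Fact p.Prime := ⟨hp⟩
  have hcord : orderOf c = p := orderOf_eq_prime hcp hc1
  let φ : Fin p × Fin p → MulAction.orbit (MulAut G) g := fun kb =>
    ⟨g * F ^ (kb.1 : ℕ) * c ^ (kb.2 : ℕ), hmem _ _⟩
  have hφ : Function.Injective φ := by
    -- wlog on the order of the first coordinates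
    have key : ∀ k k' b b' : ℕ, k ≤ k' → k' < p → b < p → b' < p →
        g * F ^ k * c ^ b = g * F ^ k' * c ^ b' → k = k' ∧ b = b' := by
      intro k k' b b' hkk hk' hb hb' h
      have h1 : F ^ (k' - k) = c ^ b * (c ^ b')⁻¹ := by
        have h2 : F ^ k * c ^ b = F ^ k' * c ^ b' := by
          have := congrArg (fun x => g⁻¹ * x) h
          simpa [mul_assoc] using this
        have h3 : F ^ k' = F ^ k * F ^ (k' - k) := by rw [← pow_add, Nat.add_sub_cancel' hkk]
        rw [h3, mul_assoc] at h2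
        have h4 := mul_left_cancel h2
        rw [h4]; group
      have h5 : F ^ (k' - k) ∈ Subgroup.center G := by
        rw [h1]
        exact Subgroup.mul_mem _ (Subgroup.pow_mem _ hcc _) (Subgroup.inv_mem _ (Subgroup.pow_mem _ hcc _))
      have h6 := hFcen _ h5
      have h7 : k' - k = 0 := Nat.eq_zero_of_dvd_of_lt h6 (by omega)
      have h8 : k = k' := by omega
      subst h8
      refine ⟨rfl, ?_⟩
      have h9 : c ^ b = c ^ b' := mul_left_cancel h
      rw [pow_eq_pow_iff_modEq, hcord] at h9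
      exact Nat.ModEq.eq_of_lt_of_lt h9 hb hb'
    rintro ⟨⟨k, hk⟩, ⟨b, hb⟩⟩ ⟨⟨k', hk'⟩, ⟨b', hb'⟩⟩ h
    have h' : g * F ^ k * c ^ b = g * F ^ k' * c ^ b' := congrArg Subtype.val h
    rcases le_total k k' with hkk | hkk
    · obtain ⟨h1, h2⟩ := key k k' b b' hkk hk' hb hb' h'
      subst h1; subst h2; rfl
    · obtain ⟨h1, h2⟩ := key k' k b' b hkk hk hb' hb h'.symm
      subst h1; subst h2; rfl
  have := Nat.card_le_card_of_injective φ hφ
  simpa using this

end Cfsg.Agent.H1.AutOrbE
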