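import Mathlib
import Cfsg.Agent.H1.AutOrbE

set_option autoImplicit false

namespace Cfsg.Agent.H1.AutOrbF

open scoped commutatorElement
open AutOrbB AutOrbC AutOrbD AutOrbE

variable {G : Type*} [Group G]

/-- a non-central element has at least `p` images under automorphisms -/
theorem minFac_le_card_orbit [Finite G] (g : G) (hg : g ∉ Subgroup.center G) :
    (Nat.card G).minFac ≤ Nat.card (MulAction.orbit (MulAut G) g) := by
  set C := Subgroup.centralizer ({g} : Set G) with hC
  have h1 : C.index ≠ 1 := by
    intro h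
    rw [Subgroup.index_eq_one, hC, Subgroup.centralizer_eq_top_iff_subset, Set.singleton_subset_iff] at h
    exact hg h
  have h0 : C.index ≠ 0 := Subgroup.index_ne_zero_of_finite
  have h2 : (Nat.card G).minFac ≤ C.index :=
    Nat.minFac_le_of_dvd (by omega) (Subgroup.index_dvd_card C)
  refine h2.trans ?_
  rw [Subgroup.index_eq_card]
  let φ : G ⧸ C → MulAction.orbit (MulAut G) g :=
    Quotient.lift (fun h : G => (⟨h * g * h⁻¹, ⟨MulAut.conj h, rfl⟩⟩ : MulAction.orbit (MulAut G) g)) (by
      intro a b hab
      have hab' : a⁻¹ * b ∈ C := QuotientGroup.leftRel_apply.mp hab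
      rw [hC, Subgroup.mem_centralizer_singleton_iff] at hab'
      apply Subtype.ext
      change a * g * a⁻¹ = b * g * b⁻¹
      have : b = a * (a⁻¹ * b) := by group
      rw [this]
      have h3 : a * (a⁻¹ * b) * g * (a * (a⁻¹ * b))⁻¹ = a * ((a⁻¹ * b) * g * (a⁻¹ * b)⁻¹) * a⁻¹ := by group
      rw [h3, hab']
      group)
  have hφ : Function.Injective φ := by
    intro x y
    refine Quotient.inductionOn₂ x y ?_
    intro a b hab
    have h3 : a * g * a⁻¹ = b * g * b⁻¹ := congrArg Subtype.val hab
    apply Quotient.sound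
    apply QuotientGroup.leftRel_apply.mpr
    rw [hC, Subgroup.mem_centralizer_singleton_iff]
    calc a⁻¹ * b * g = a⁻¹ * (b * g * b⁻¹) * b := by group
      _ = a⁻¹ * (a * g * a⁻¹) * b := by rw [h3]
      _ = g * (a⁻¹ * b) := by group
  exact Nat.card_le_card_of_injective φ hφ

/-- the central elements of order dividing `p` -/
def Up (G : Type*) [Group G] (p : ℕ) : Subgroup G where
  carrier := {z | z ∈ Subgroup.center G ∧ z ^ p = 1}
  mul_mem' := by
    rintro a b ⟨ha, ha'⟩ ⟨hb, hb'⟩
    refine ⟨Subgroup.mul_mem _ ha hb, ?_⟩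
    have : Commute a b := (Subgroup.mem_center_iff.mp hb a)
    rw [this.mul_pow, ha', hb', one_mul]
  one_mem' := ⟨Subgroup.one_mem _, one_pow _⟩
  inv_mem' := by
    rintro a ⟨ha, ha'⟩
    exact ⟨Subgroup.inv_mem _ ha, by rw [inv_pow, ha', inv_one]⟩

theorem mem_Up {p : ℕ} {z : G} : z ∈ Up G p ↔ z ∈ Subgroup.center G ∧ z ^ p = 1 := Iff.rfl

/-- orbit size in Case 2a -/
theorem card_Up_le_card_orbit [Finite G] {p : ℕ} (hp : p.Prime) (e : G →* Multiplicative (ZMod p))
    (hZ : Subgroup.center G ≤ e.ker) (g : G) (hg : g ∉ e.ker) :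
    Nat.card (Up G p) ≤ Nat.card (MulAction.orbit (MulAut G) g) := by
  let φ : Up G p → MulAction.orbit (MulAut G) g := fun u =>
    ⟨g * u, by
      obtain ⟨α, hα⟩ := exists_aut_mul_central hp e hZ g hg u u.2.1 u.2.2
      exact ⟨α, hα⟩⟩
  have hφ : Function.Injective φ := by
    intro a b hab
    have : g * (a : G) = g * b := congrArg Subtype.val hab
    exact Subtype.ext (mul_left_cancel this)
  exact Nat.card_le_card_of_injective φ hφ

/-- **the final count** -/
theorem count_final [Finite G] {p : ℕ} (hp : p.Prime) (hpmin : (Nat.card G).minFac = p)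
    (hsq : p * p * Nat.card (Subgroup.center G) ≤ Nat.card G)
    (e : G →* Multiplicative (ZMod p)) (hsurj : Function.Surjective e) (hZ : Subgroup.center G ≤ e.ker)
    (hO2 : ∀ g, g ∉ e.ker → p * p ≤ Nat.card (MulAction.orbit (MulAut G) g)) :
    p * Nat.card (MulAction.orbitRel.Quotient (MulAut G) G) ≤ Nat.card G := by
  classical
  haveI : Fintype G := Fintype.ofFinite G
  have hp2 := hp.two_le
  have hM : Nat.card e.ker * p = Nat.card G := by
    have h1 := Subgroup.card_mul_index e.ker
    rw [Subgroup.index_ker, Nat.card_congr (MonoidHom.range_eq_top.mpr hsurj ▸ Subgroup.topEquiv.toEquiv :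
      e.range ≃ Multiplicative (ZMod p))] at h1
    rw [← h1]
    congr 1
    rw [Nat.card_congr Multiplicative.toAdd, Nat.card_zmod]
  let w : G → ℕ := fun x => 1 + (if x ∈ e.ker then p - 1 else 0)
    + (if x ∈ Subgroup.center G then p * p - p else 0)
  have hw1 : ∀ x, 1 ≤ w x := fun x => by simp only [w]; omega
  have hwM : ∀ x, x ∈ e.ker → p ≤ w x := fun x hx => by simp only [w]; rw [if_pos hx]; omega
  have hwZ : ∀ x, x ∈ Subgroup.center G → p * p = w x := fun x hx => by
    simp only [w]; rw [if_pos hx, if_pos (hZ hx)]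
    have : p ≤ p * p := Nat.le_mul_self p
    omega
  have hcardF : ∀ x : G, (Finset.univ.filter (fun y => (MulAction.orbitRel (MulAut G) G) y x)).card
      = Nat.card (MulAction.orbit (MulAut G) x) := by
    intro x
    rw [Nat.card_eq_fintype_card, Fintype.card_subtype]
    congr 1
  have key := AutOrbA.quotient_weight_bound (MulAction.orbitRel (MulAut G) G) w (p * p) (by
    intro x
    by_cases hx : x ∈ Subgroup.center G
    · rw [hwZ x hx]
      apply Finset.single_le_sum (f := w) (fun _ _ => Nat.zero_le _)
      simp only [Finset.mem_filter, Finset.mem_univ, true_and]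
      exact MulAction.mem_orbit_self x
    · by_cases hex : ∃ y, y ∈ MulAction.orbit (MulAut G) x ∧ y ∉ e.ker
      · obtain ⟨y, hy, hyM⟩ := hex
        have h1 := hO2 y hyM
        rw [MulAction.orbit_eq_iff.mpr hy, ← hcardF] at h1
        refine h1.trans ?_
        rw [Finset.card_eq_sum_ones]
        exact Finset.sum_le_sum (fun y _ => hw1 y)
      · push Not at hex
        have h1 := minFac_le_card_orbit x hx
        rw [hpmin, ← hcardF] at h1
        calc p * p ≤ p * (Finset.univ.filter (fun y => (MulAction.orbitRel (MulAut G) G) y x)).card :=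
              Nat.mul_le_mul_left _ h1
          _ = ∑ _y ∈ Finset.univ.filter (fun y => (MulAction.orbitRel (MulAut G) G) y x), p := by
              rw [Finset.sum_const, smul_eq_mul, mul_comm]
          _ ≤ _ := by
              apply Finset.sum_le_sum
              intro y hy
              simp only [Finset.mem_filter, Finset.mem_univ, true_and] at hy
              exact hwM y (hex y hy))
  have hsum : ∑ x, w x = Nat.card G + Nat.card e.ker * (p - 1)
      + Nat.card (Subgroup.center G) * (p * p - p) := by
    simp only [w]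
    rw [Finset.sum_add_distrib, Finset.sum_add_distrib, ← Finset.sum_filter, ← Finset.sum_filter,
      Finset.sum_const, Finset.sum_const, Finset.sum_const, smul_eq_mul, smul_eq_mul, smul_eq_mul,
      mul_one, Finset.card_univ, Nat.card_eq_fintype_card (α := G),
      Nat.card_eq_fintype_card (α := e.ker), Nat.card_eq_fintype_card (α := Subgroup.center G),
      Fintype.card_subtype, Fintype.card_subtype]
  rw [hsum] at key
  generalize Nat.card (MulAction.orbitRel.Quotient (MulAut G) G) = ω at *
  generalize Nat.card G = n at *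
  generalize Nat.card e.ker = m at *
  generalize Nat.card (Subgroup.center G) = z at *
  obtain ⟨q, rfl⟩ : ∃ q, p = q + 2 := ⟨p - 2, by omega⟩
  have e1 : q + 2 - 1 = q + 1 := by omega
  have e2 : (q + 2) * (q + 2) - (q + 2) = (q + 2) * (q + 1) := by
    have : (q + 2) * (q + 2) = (q + 2) * (q + 1) + (q + 2) := by ring
    omega
  rw [e1, e2] at key
  by_contra hcon
  push Not at hcon
  have h3 : n + 1 ≤ (q + 2) * ω := hcon
  nlinarith [Nat.zero_le (q * n), Nat.zero_le (q * q * n)]

end Cfsg.Agent.H1.AutOrbF
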