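import Mathlib
import Cfsg.Agent.H1.AutOrbF

set_option autoImplicit false

namespace Cfsg.Agent.H1.AutOrbG

open scoped commutatorElement
open AutOrbB AutOrbC AutOrbD AutOrbE AutOrbF

variable {G : Type*} [Group G]

/-- odd `p`: a non-central element of order `p` -/
theorem exists_noncentral_pow_eq_one [Finite G] {p : ℕ} (hp : p.Prime) (hodd : p ≠ 2)
    (hc : ∀ a b : G, ⁅a, b⁆ ∈ Subgroup.center G) (hcp : ∀ a b : G, ⁅a, b⁆ ^ p = 1)
    (hpow : ∀ x : G, x ^ p ∈ Subgroup.center G) (hU : Nat.card (Up G p) = p)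
    (hsq : p * p * Nat.card (Subgroup.center G) ≤ Nat.card G) :
    ∃ u : G, u ∉ Subgroup.center G ∧ u ^ p = 1 := by
  have hch : p ∣ p.choose 2 := hp.dvd_choose_self (by norm_num) (by
    have := hp.two_le
    omega)
  let P : G →* G := MonoidHom.mk' (fun x => x ^ p) (by
    intro a b
    obtain ⟨m, hm⟩ := hch
    rw [mul_pow_class2 hc, hm, pow_mul, hcp, one_pow, mul_one])
  by_contra hcon
  push Not at hcon
  have hker : P.ker ≤ Up G p := by
    intro x hx
    have hx' : x ^ p = 1 := hx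
    refine ⟨?_, hx'⟩
    by_contra hxz
    exact hcon x hxz hx'
  have hrange : P.range ≤ Subgroup.center G := by
    rintro _ ⟨x, rfl⟩
    exact hpow x
  have h1 : Nat.card P.ker ≤ p := hU ▸ Subgroup.card_le_of_le hker
  have h2 : Nat.card P.range ≤ Nat.card (Subgroup.center G) := Subgroup.card_le_of_le hrange
  have h3 := Subgroup.card_mul_index P.ker
  rw [Subgroup.index_ker] at h3
  have hz : 0 < Nat.card (Subgroup.center G) := Nat.card_pos
  have hp2 := hp.two_le
  have h4 : Nat.card G ≤ p * Nat.card (Subgroup.center G) := by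
    rw [← h3]
    exact Nat.mul_le_mul h1 h2
  nlinarith

/-- `p = 2`: a non-central element whose square is the central involution -/
theorem exists_noncentral_sq [Finite G] (hna : ∃ a b : G, a * b ≠ b * a)
    (hc : ∀ a b : G, ⁅a, b⁆ ∈ Subgroup.center G) (hcp : ∀ a b : G, ⁅a, b⁆ ^ 2 = 1)
    (hpow : ∀ x : G, x ^ 2 ∈ Subgroup.center G) (hU : Nat.card (Up G 2) = 2) :
    ∃ u : G, u ∉ Subgroup.center G ∧ ∀ c ∈ Up G 2, c ≠ 1 → u ^ 2 * c = 1 := by
  obtain ⟨a, b, hab⟩ := hna
  set c₀ : G := ⁅a, b⁆ with hc₀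
  have hc₀1 : c₀ ≠ 1 := by
    intro h
    rw [hc₀, commutatorElement_eq_one_iff_commute] at h
    exact hab h
  have hc₀Z : c₀ ∈ Subgroup.center G := hc a b
  have hc₀2 : c₀ ^ 2 = 1 := hcp a b
  have hc₀U : c₀ ∈ Up G 2 := ⟨hc₀Z, hc₀2⟩
  have huniq : ∀ c ∈ Up G 2, c ≠ 1 → c = c₀ := by
    intro c hcU hc1
    obtain ⟨y, _, hy⟩ := (Nat.card_eq_two_iff' (1 : Up G 2)).mp hU
    have h1 : (⟨c, hcU⟩ : Up G 2) = y := hy _ (fun h => hc1 (congrArg Subtype.val h))
    have h2 : (⟨c₀, hc₀U⟩ : Up G 2) = y := hy _ (fun h => hc₀1 (congrArg Subtype.val h))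
    exact congrArg Subtype.val (h1.trans h2.symm)
  suffices h : ∃ u : G, u ∉ Subgroup.center G ∧ u ^ 2 * c₀ = 1 by
    obtain ⟨u, hu, hu2⟩ := h
    exact ⟨u, hu, fun c hcU hc1 => by rw [huniq c hcU hc1]; exact hu2⟩
  -- the squaring map on the centre
  have hcomm : ∀ w w' : Subgroup.center G, Commute w w' := fun w w' =>
    Subtype.ext (Subgroup.mem_center_iff.mp w'.2 w.1)
  let σ : Subgroup.center G →* Subgroup.center G := MonoidHom.mk' (fun w => w ^ 2) (by
    intro w w'
    exact (hcomm w w').mul_pow 2)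
  have hkerU : Nat.card σ.ker = 2 := by
    rw [← hU]
    apply Nat.card_congr
    refine ⟨fun w => ⟨w.1.1, w.1.2, ?_⟩, fun z => ⟨⟨z.1, z.2.1⟩, ?_⟩, ?_, ?_⟩
    · have : (w.1 : Subgroup.center G) ^ 2 = 1 := w.2
      exact congrArg Subtype.val this
    · change (⟨z.1, z.2.1⟩ : Subgroup.center G) ^ 2 = 1
      exact Subtype.ext z.2.2
    · intro w; rfl
    · intro z; rfl
  have hidx : σ.range.index = 2 := by
    have h1 := Subgroup.card_mul_index σ.ker
    rw [Subgroup.index_ker] at h1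
    have h2 := Subgroup.card_mul_index σ.range
    have hpos : 0 < Nat.card σ.range := Nat.card_pos
    rw [← h1, mul_comm] at h2
    rw [← hkerU]
    exact Nat.eq_of_mul_eq_mul_right hpos h2
  have hR := fun (s t : Subgroup.center G) => Subgroup.mul_mem_iff_of_index_two hidx (a := s) (b := t)
  -- the generic step
  have step : ∀ x : G, x ∉ Subgroup.center G →
      (⟨x ^ 2, hpow x⟩ * ⟨c₀, hc₀Z⟩ : Subgroup.center G) ∈ σ.range →
      ∃ u : G, u ∉ Subgroup.center G ∧ u ^ 2 * c₀ = 1 := by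
    rintro x hx ⟨w, hw⟩
    have hw' : (w : G) ^ 2 = x ^ 2 * c₀ := congrArg Subtype.val hw
    refine ⟨x * (w : G)⁻¹, ?_, ?_⟩
    · intro h
      apply hx
      have := Subgroup.mul_mem _ h w.2
      simpa using this
    · have hcw : Commute x (w : G)⁻¹ := (Subgroup.mem_center_iff.mp (Subgroup.inv_mem _ w.2) x)
      rw [hcw.mul_pow, inv_pow, hw']
      have hcc : Commute (x ^ 2) c₀ := (Subgroup.mem_center_iff.mp hc₀Z (x ^ 2))
      have h3 : (x ^ 2 * c₀)⁻¹ = (x ^ 2)⁻¹ * c₀⁻¹ := by rw [hcc.eq, mul_inv_rev]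
      rw [h3]
      group
  have ha : a ∉ Subgroup.center G := fun h => hab ((Subgroup.mem_center_iff.mp h b).symm)
  have hb : b ∉ Subgroup.center G := fun h => hab (Subgroup.mem_center_iff.mp h a)
  have hab' : a * b ∉ Subgroup.center G := by
    intro h
    apply hab
    have := Subgroup.mem_center_iff.mp h a
    -- a * (a * b) = a * b * a
    have h2 : a * (a * b) = a * (b * a) := by rw [this]; group
    exact mul_left_cancel h2
  by_cases hA : (⟨a ^ 2, hpow a⟩ * ⟨c₀, hc₀Z⟩ : Subgroup.center G) ∈ σ.range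
  · exact step a ha hA
  by_cases hB : (⟨b ^ 2, hpow b⟩ * ⟨c₀, hc₀Z⟩ : Subgroup.center G) ∈ σ.range
  · exact step b hb hB
  apply step (a * b) hab'
  have h1 : (⟨a ^ 2, hpow a⟩ * ⟨c₀, hc₀Z⟩ : Subgroup.center G) * (⟨b ^ 2, hpow b⟩ * ⟨c₀, hc₀Z⟩)
      ∈ σ.range := (hR _ _).mpr ⟨fun h => absurd h hA, fun h => absurd h hB⟩
  have h2 : (⟨(a * b) ^ 2, hpow (a * b)⟩ * ⟨c₀, hc₀Z⟩ : Subgroup.center G)
      = (⟨a ^ 2, hpow a⟩ * ⟨c₀, hc₀Z⟩ : Subgroup.center G) * (⟨b ^ 2, hpow b⟩ * ⟨c₀, hc₀Z⟩) := by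
    apply Subtype.ext
    change (a * b) ^ 2 * c₀ = a ^ 2 * c₀ * (b ^ 2 * c₀)
    rw [mul_pow_class2 hc]
    have hinv : ⁅b, a⁆ = c₀ := by
      rw [← commutatorElement_inv, ← hc₀, inv_eq_iff_mul_eq_one, ← sq, hc₀2]
    have hch : Nat.choose 2 2 = 1 := by decide
    rw [hinv, hch, pow_one]
    have hcc : ∀ y : G, c₀ * y = y * c₀ := fun y => (Subgroup.mem_center_iff.mp hc₀Z y).symm
    rw [mul_assoc (a ^ 2) c₀, ← mul_assoc c₀, hcc (b ^ 2)]
    group
  rw [h2]
  exact h1

/-- **Case 2**: the surjection onto `ZMod p` and the large orbits outside its kernel -/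
theorem case2 [Finite G] (hna : ∃ a b : G, a * b ≠ b * a)
    (h2 : Nat.card G < (Nat.card G).minFac * Nat.card (ConjClasses G)) (p : ℕ)
    (hpmin : (Nat.card G).minFac = p) :
    ∃ e : G →* Multiplicative (ZMod p), Function.Surjective e ∧ Subgroup.center G ≤ e.ker ∧
      ∀ g, g ∉ e.ker → p * p ≤ Nat.card (MulAction.orbit (MulAut G) g) := by
  have hn1 : Nat.card G ≠ 1 := by
    intro h
    obtain ⟨a, b, hab⟩ := hna
    haveI : Subsingleton G := (Nat.card_eq_one_iff_unique.mp h).1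
    exact hab (Subsingleton.elim _ _)
  have hp : p.Prime := hpmin ▸ Nat.minFac_prime hn1
  haveI : Fact p.Prime := ⟨hp⟩
  have hc := comm_mem_center hna h2
  have hpow : ∀ x : G, x ^ p ∈ Subgroup.center G := fun x => hpmin ▸ pow_mem_center hna h2 x
  have hcp : ∀ a b : G, ⁅a, b⁆ ^ p = 1 := by
    intro a b
    rw [← comm_pow_left hc, commutatorElement_eq_one_iff_commute]
    exact (Subgroup.mem_center_iff.mp (hpow a) b).symm
  have hcomU : ∀ a b : G, ⁅a, b⁆ ∈ Up G p := fun a b => ⟨hc a b, hcp a b⟩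
  have hUp : IsPGroup p (Up G p) := by
    intro z
    refine ⟨1, ?_⟩
    rw [pow_one]
    exact Subtype.ext z.2.2
  obtain ⟨k, hk⟩ := IsPGroup.iff_card.mp hUp
  have hsq : p * p * Nat.card (Subgroup.center G) ≤ Nat.card G := hpmin ▸ sq_mul_card_center_le hna
  have hk0 : k ≠ 0 := by
    rintro rfl
    rw [pow_zero, Subgroup.card_eq_one] at hk
    obtain ⟨a, b, hab⟩ := hna
    have : ⁅a, b⁆ ∈ (⊥ : Subgroup G) := hk ▸ hcomU a b
    rw [Subgroup.mem_bot, commutatorElement_eq_one_iff_commute] at this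
    exact hab this
  have hgoodv : ∃ v : G, v ∉ Subgroup.center G ∧ Nat.card G ≤ (Nat.card G).minFac * cz v := by
    by_contra hcon
    push Not at hcon
    have := eq_top_of_good_le hna h2 (Subgroup.center G) (fun g hg => by
      by_contra hgz
      exact absurd hg (not_le.mpr (hcon g hgz)))
    obtain ⟨a, b, hab⟩ := hna
    have ha : a ∈ Subgroup.center G := this ▸ Subgroup.mem_top a
    exact hab ((Subgroup.mem_center_iff.mp ha b).symm)
  by_cases hk2 : 2 ≤ k
  · -- Case 2a
    obtain ⟨v, hv, hvg⟩ := hgoodv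
    obtain ⟨hN, hi⟩ := centralizer_normal_of_mid v (cz_mid v hv hvg)
    haveI := hN
    obtain ⟨e, hsurj, hker⟩ := exists_hom_zmod (Subgroup.centralizer ({v} : Set G)) hp (hi.trans hpmin)
    have hZ : Subgroup.center G ≤ e.ker := hker ▸ Subgroup.center_le_centralizer _
    refine ⟨e, hsurj, hZ, ?_⟩
    intro g hg
    refine le_trans ?_ (card_Up_le_card_orbit hp e hZ g hg)
    rw [hk, ← sq]
    exact Nat.pow_le_pow_right hp.pos hk2
  · -- Case 2b
    have hk1 : k = 1 := by omega
    rw [hk1, pow_one] at hk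
    have hexu : ∃ u : G, u ∉ Subgroup.center G ∧ ∀ c ∈ Up G p, c ≠ 1 → fc u c p = 1 := by
      by_cases hp2 : p = 2
      · subst hp2
        obtain ⟨u, hu, hu2⟩ := exists_noncentral_sq hna hc hcp hpow hk
        refine ⟨u, hu, fun c hcU hc1 => ?_⟩
        unfold fc
        have hch : Nat.choose 2 2 = 1 := by decide
        rw [hch, pow_one]
        exact hu2 c hcU hc1
      · obtain ⟨u, hu, hu2⟩ := exists_noncentral_pow_eq_one hp hp2 hc hcp hpow hk hsq
        refine ⟨u, hu, fun c hcU _ => ?_⟩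
        unfold fc
        have hch : p ∣ p.choose 2 := hp.dvd_choose_self (by norm_num) (by
          have := hp.two_le
          omega)
        obtain ⟨m, hm⟩ := hch
        rw [hu2, hm, pow_mul, hcU.2, one_pow, mul_one]
    obtain ⟨u, hu, hfu⟩ := hexu
    let κ : G →* G := MonoidHom.mk' (fun g => ⁅u, g⁆) (comm_mul_right hc u)
    have hκker : κ.ker = Subgroup.centralizer ({u} : Set G) := by
      ext g
      rw [MonoidHom.mem_ker, Subgroup.mem_centralizer_singleton_iff]
      change ⁅u, g⁆ = 1 ↔ _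
      rw [commutatorElement_eq_one_iff_commute]
      exact ⟨fun h => h.eq.symm, fun h => h.symm⟩
    have hκrange : κ.range ≤ Up G p := by
      rintro _ ⟨g, rfl⟩
      exact hcomU u g
    have hκcard : Nat.card κ.range = p := by
      have h1 : Nat.card κ.range ∣ p := hk ▸ Subgroup.card_dvd_of_le hκrange
      have h3 : Nat.card κ.range ≠ 1 := by
        intro h
        rw [Subgroup.card_eq_one] at h
        apply hu
        rw [Subgroup.mem_center_iff]
        intro g
        have : κ g ∈ (⊥ : Subgroup G) := h ▸ ⟨g, rfl⟩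
        rw [Subgroup.mem_bot] at this
        have h4 : ⁅u, g⁆ = 1 := this
        exact (commutatorElement_eq_one_iff_commute.mp h4).eq.symm
      exact ((Nat.dvd_prime hp).mp h1).resolve_left h3
    have hidx : (Subgroup.centralizer ({u} : Set G)).index = p := by
      rw [← hκker, Subgroup.index_ker, hκcard]
    haveI hNn : (Subgroup.centralizer ({u} : Set G)).Normal := hκker ▸ MonoidHom.normal_ker κ
    obtain ⟨e, hsurj, hker⟩ := exists_hom_zmod (Subgroup.centralizer ({u} : Set G)) hp hidx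
    have hZ : Subgroup.center G ≤ e.ker := hker ▸ Subgroup.center_le_centralizer _
    refine ⟨e, hsurj, hZ, ?_⟩
    obtain ⟨y₀, hy₀⟩ := hsurj (Multiplicative.ofAdd 1)
    set c : G := ⁅u, y₀⁆ with hcdef
    have hcU : c ∈ Up G p := hcomU u y₀
    have hcc : c ∈ Subgroup.center G := hcU.1
    have hcpc : c ^ p = 1 := hcU.2
    have hc1 : c ≠ 1 := by
      intro h
      rw [hcdef, commutatorElement_eq_one_iff_commute] at h
      have h3 : y₀ ∈ e.ker := by
        rw [hker, Subgroup.mem_centralizer_singleton_iff]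
        exact h.eq.symm
      rw [MonoidHom.mem_ker, hy₀] at h3
      have h4 : (1 : ZMod p) = 0 := Multiplicative.ofAdd.symm.injective h3
      exact one_ne_zero h4
    have hmemker : ∀ g : G, g ∈ e.ker ↔ ⁅u, g⁆ = 1 := by
      intro g
      rw [hker, Subgroup.mem_centralizer_singleton_iff, commutatorElement_eq_one_iff_commute]
      exact ⟨fun h => h.symm, fun h => h.eq.symm⟩
    have hec : ∀ g, ⁅u, g⁆ = c ^ (Multiplicative.toAdd (e g)).val := by
      intro g
      set j := (Multiplicative.toAdd (e g)).val with hj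
      have h3 : e (y₀ ^ j) = e g := by
        rw [map_pow, hy₀, ← ofAdd_nsmul, nsmul_eq_mul, mul_one, hj, ZMod.natCast_zmod_val]
        rfl
      have h4 : g * (y₀ ^ j)⁻¹ ∈ e.ker := by
        rw [MonoidHom.mem_ker, map_mul, map_inv, h3, mul_inv_cancel]
      have h5 := (hmemker _).mp h4
      have h6 : g = g * (y₀ ^ j)⁻¹ * y₀ ^ j := by group
      rw [h6, comm_mul_right hc, h5, one_mul, comm_pow_right hc]
    have heu : e u = 1 := by
      have : u ∈ e.ker := (hmemker u).mpr (by simp)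
      exact this
    have hecc : e c = 1 := hZ hcc
    obtain ⟨τ, hτ⟩ := exists_transvection hc e u c hcc hcpc heu hecc hec (hfu c hcU hc1)
    have hconj : ∀ x : G, x ∉ e.ker → ∀ b : ℕ, ∃ h : G, h * x * h⁻¹ = x * c ^ b := by
      intro x hx b
      set j : ZMod p := Multiplicative.toAdd (e x) with hj
      have hj0 : j ≠ 0 := by
        intro h
        apply hx
        rw [MonoidHom.mem_ker]
        exact Multiplicative.toAdd.injective h
      set m : ℕ := ((b : ZMod p) * j⁻¹).val with hm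
      refine ⟨u ^ m, ?_⟩
      have h3 : u ^ m * x * (u ^ m)⁻¹ = x * ⁅u ^ m, x⁆ := by
        rw [Subgroup.mem_center_iff.mp (hc (u ^ m) x) x]
        simp only [commutatorElement_def]; group
      rw [h3, comm_pow_left hc, hec x, ← hj, ← pow_mul]
      congr 1
      rw [pow_eq_pow_mod _ hcpc, pow_eq_pow_mod b hcpc]
      congr 1
      rw [← ZMod.natCast_eq_natCast_iff']
      push_cast
      rw [hm, ZMod.natCast_zmod_val, ZMod.natCast_zmod_val, mul_comm (b : ZMod p), ← mul_assoc,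
        mul_inv_cancel₀ hj0, one_mul]
    intro g hg
    exact sq_le_card_orbit hp e u c hcc hc1 hcpc hu (hpow u) heu hecc τ hτ hconj g hg

end Cfsg.Agent.H1.AutOrbG
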