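import Mathlib

namespace Cfsg.Agent.H1

open Classical in
/-- counting lemma: automorphism-transitive on involutions ⇒ `(#invol) ∣ (#G - 1)` -/
theorem card_invol_dvd_card_sub_one {G : Type*} [Group G] [Fintype G] (hG : IsPGroup 2 G)
    (htrans : ∀ x y : G, x ≠ 1 → x ^ 2 = 1 → y ≠ 1 → y ^ 2 = 1 → ∃ a : MulAut G, a x = y) :
    ((Finset.univ.filter (fun z : G => z ≠ 1 ∧ z ^ 2 = 1)).card) ∣
      ((Finset.univ.filter (fun x : G => x ≠ 1)).card) := by
  classical
  set f : G → G := fun x => x ^ (orderOf x / 2) with hf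
  have hord : ∀ x : G, x ≠ 1 → 2 ∣ orderOf x := by
    intro x hx
    obtain ⟨k, hk⟩ := hG x
    have h1 : orderOf x ∣ 2 ^ k := orderOf_dvd_of_pow_eq_one hk
    obtain ⟨j, hj, hj2⟩ := (Nat.dvd_prime_pow Nat.prime_two).1 h1
    rcases Nat.eq_zero_or_pos j with h0 | h0
    · subst h0
      simp at hj2
      exact absurd hj2 hx
    · rw [hj2]; exact dvd_pow_self 2 (by omega)
  have hf1 : ∀ x : G, x ≠ 1 → f x ≠ 1 ∧ (f x) ^ 2 = 1 := by
    intro x hx
    have h2 := hord x hx
    have hpos : 0 < orderOf x := orderOf_pos x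
    constructor
    · apply pow_ne_one_of_lt_orderOf
      · intro h0
        have := Nat.div_mul_cancel h2
        rw [h0] at this; omega
      · exact Nat.div_lt_self hpos (by norm_num)
    · simp only [hf]
      rw [← pow_mul, Nat.div_mul_cancel h2, pow_orderOf_eq_one]
  have hfa : ∀ (a : MulAut G) (x : G), f (a x) = a (f x) := by
    intro a x
    simp only [hf]
    rw [MulEquiv.orderOf_eq, map_pow]
  set s := Finset.univ.filter (fun x : G => x ≠ 1) with hs
  set t := Finset.univ.filter (fun z : G => z ≠ 1 ∧ z ^ 2 = 1) with ht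
  have hmaps : ∀ x ∈ s, f x ∈ t := by
    intro x hx
    simp only [hs, Finset.mem_filter, Finset.mem_univ, true_and] at hx
    simp only [ht, Finset.mem_filter, Finset.mem_univ, true_and]
    exact hf1 x hx
  rw [Finset.card_eq_sum_card_fiberwise hmaps]
  rcases t.eq_empty_or_nonempty with hte | ⟨z0, hz0⟩
  · rw [hte]; simp
  have hfib : ∀ z ∈ t, (s.filter (fun x => f x = z)).card = (s.filter (fun x => f x = z0)).card := by
    intro z hz
    simp only [ht, Finset.mem_filter, Finset.mem_univ, true_and] at hz hz0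
    obtain ⟨a, ha⟩ := htrans z0 z hz0.1 hz0.2 hz.1 hz.2
    symm
    apply Finset.card_bij (fun x _ => a x)
    · intro x hx
      simp only [hs, Finset.mem_filter, Finset.mem_univ, true_and] at hx ⊢
      refine ⟨?_, ?_⟩
      · intro h
        apply hx.1
        have : a x = a 1 := by rw [h, map_one]
        exact a.injective this
      · rw [hfa, hx.2, ha]
    · intro x _ y _ hxy
      exact a.injective hxy
    · intro y hy
      simp only [hs, Finset.mem_filter, Finset.mem_univ, true_and] at hy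
      refine ⟨a.symm y, ?_, by simp⟩
      simp only [hs, Finset.mem_filter, Finset.mem_univ, true_and]
      refine ⟨?_, ?_⟩
      · intro h
        apply hy.1
        have : a (a.symm y) = a 1 := by rw [h]
        simpa using this
      · rw [hfa, hy.2, ← ha]; simp
  rw [Finset.sum_congr rfl hfib, Finset.sum_const, smul_eq_mul]
  exact dvd_mul_right _ _

theorem aut_transitive_involutions_central {G : Type*} [Group G] [Finite G] [Nontrivial G]
    (hG : IsPGroup 2 G)
    (htrans : ∀ x y : G, x ≠ 1 → x ^ 2 = 1 → y ≠ 1 → y ^ 2 = 1 → ∃ a : MulAut G, a x = y) :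
    ∀ x : G, x ^ 2 = 1 → x ∈ Subgroup.center G := by
  intro x hx
  by_cases hx1 : x = 1
  · subst hx1; exact one_mem _
  haveI : Fact (Nat.Prime 2) := ⟨Nat.prime_two⟩
  haveI := hG.center_nontrivial
  have hZ : IsPGroup 2 (Subgroup.center G) := hG.to_subgroup _
  obtain ⟨n, hn⟩ := hZ.exists_card_eq
  have hn0 : n ≠ 0 := by
    intro h0
    rw [h0, pow_zero] at hn
    have := Finite.one_lt_card (α := Subgroup.center G)
    omega
  have hdvd : 2 ∣ Nat.card (Subgroup.center G) := by rw [hn]; exact dvd_pow_self 2 hn0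
  obtain ⟨z, hz⟩ := exists_prime_orderOf_dvd_card' 2 hdvd
  have hz1 : (z : G) ≠ 1 := by
    intro h
    have : z = 1 := Subtype.ext h
    rw [this, orderOf_one] at hz; omega
  have hz2 : (z : G) ^ 2 = 1 := by
    have : z ^ 2 = 1 := by rw [← hz]; exact pow_orderOf_eq_one z
    have := congrArg (Subtype.val) this
    simpa using this
  obtain ⟨a, ha⟩ := htrans (z : G) x hz1 hz2 hx1 hx
  rw [Subgroup.mem_center_iff]
  intro g
  have hzc := Subgroup.mem_center_iff.1 z.2
  have hg : g = a (a.symm g) := by simp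
  rw [← ha]
  conv_lhs => rw [hg]
  conv_rhs => rw [hg]
  rw [← map_mul, ← map_mul, hzc]

theorem aut_transitive_involutions_card {G : Type*} [Group G] [Finite G] [Nontrivial G]
    (hG : IsPGroup 2 G)
    (htrans : ∀ x y : G, x ≠ 1 → x ^ 2 = 1 → y ≠ 1 → y ^ 2 = 1 → ∃ a : MulAut G, a x = y) :
    ∃ m : ℕ, Nat.card G = Nat.card {z : G // z ^ 2 = 1} ^ m := by
  classical
  haveI := Fintype.ofFinite G
  have hcen := aut_transitive_involutions_central hG htrans
  -- the subgroup of elements with z^2 = 1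
  let V : Subgroup G :=
    { carrier := {z | z ^ 2 = 1}
      one_mem' := by simp
      mul_mem' := by
        intro a b ha hb
        simp only [Set.mem_ofPred_eq] at ha hb ⊢
        have hc := Subgroup.mem_center_iff.1 (hcen a ha)
        rw [pow_two, mul_assoc, ← mul_assoc b a b, hc b, mul_assoc, ← mul_assoc, ← pow_two, ← pow_two,
          ha, hb, one_mul]
      inv_mem' := by
        intro a ha
        simp only [Set.mem_ofPred_eq] at ha ⊢
        rw [inv_pow, ha, inv_one] }
  have hVcard : Nat.card V = Nat.card {z : G // z ^ 2 = 1} := rfl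
  obtain ⟨m, hm⟩ := (hG.to_subgroup V).exists_card_eq
  obtain ⟨n, hn⟩ := hG.exists_card_eq
  have hdvd := card_invol_dvd_card_sub_one hG htrans
  have h1 : (Finset.univ.filter (fun x : G => x ≠ 1)).card = 2 ^ n - 1 := by
    rw [Finset.filter_ne', Finset.card_erase_of_mem (Finset.mem_univ _), Finset.card_univ,
      ← Nat.card_eq_fintype_card, hn]
  have h2 : (Finset.univ.filter (fun z : G => z ≠ 1 ∧ z ^ 2 = 1)).card = 2 ^ m - 1 := by
    have : (Finset.univ.filter (fun z : G => z ≠ 1 ∧ z ^ 2 = 1))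
        = (Finset.univ.filter (fun z : G => z ^ 2 = 1)).erase 1 := by
      ext z
      simp [and_comm]
    rw [this, Finset.card_erase_of_mem (by simp)]
    congr 1
    rw [← hm, hVcard, Nat.card_eq_fintype_card, Fintype.card_subtype]
  rw [h1, h2] at hdvd
  have hg := Nat.pow_sub_one_gcd_pow_sub_one 2 m n
  rw [Nat.gcd_eq_left hdvd] at hg
  have h3 : 2 ^ m = 2 ^ Nat.gcd m n := by
    have a1 : 1 ≤ 2 ^ m := Nat.one_le_two_pow
    have a2 : 1 ≤ 2 ^ Nat.gcd m n := Nat.one_le_two_pow
    omega
  have h4 : m = Nat.gcd m n := Nat.pow_right_injective (le_refl 2) h3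
  have h5 : m ∣ n := by rw [h4]; exact Nat.gcd_dvd_right m n
  obtain ⟨k, hk⟩ := h5
  refine ⟨k, ?_⟩
  rw [← hVcard, hm, hn, hk, pow_mul]

end Cfsg.Agent.H1
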