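import Mathlib
import Cfsg.Agent.H1.ConjMap
import Cfsg.Agent.H1.SylowMore
import Cfsg.Agent.H1.CoprimeAction
import Cfsg.Agent.Lib.Lead.Subnormal

set_option autoImplicit false
open scoped Pointwise commutatorElement

namespace Cfsg.Agent.H1

variable {G : Type*} [Group G]

lemma le_normalizer_inf (X W₁ W₂ : Subgroup G) (h1 : X ≤ Subgroup.normalizer (W₁ : Set G))
    (h2 : X ≤ Subgroup.normalizer (W₂ : Set G)) : X ≤ Subgroup.normalizer ((W₁ ⊓ W₂ : Subgroup G) : Set G) := by
  intro x hx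
  rw [Subgroup.mem_normalizer_iff]
  intro y
  rw [Subgroup.mem_inf, Subgroup.mem_inf, ← Subgroup.mem_normalizer_iff.mp (h1 hx) y,
    ← Subgroup.mem_normalizer_iff.mp (h2 hx) y]

lemma le_normalizer_sup (X W₁ W₂ : Subgroup G) (h1 : X ≤ Subgroup.normalizer (W₁ : Set G))
    (h2 : X ≤ Subgroup.normalizer (W₂ : Set G)) : X ≤ Subgroup.normalizer ((W₁ ⊔ W₂ : Subgroup G) : Set G) :=
  (le_inf h1 h2).trans (Lib.Lead.Subnormal.normalizer_inf_le_normalizer_sup W₁ W₂)

/-- transport of `A`-invariance along conjugation by an element normalizing `A` -/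
lemma le_normalizer_map_conj (A S : Subgroup G) (h : G) (hh : h ∈ Subgroup.normalizer (A : Set G))
    (hAS : A ≤ Subgroup.normalizer (S : Set G)) :
    A ≤ Subgroup.normalizer ((S.map (MulAut.conj h).toMonoidHom : Subgroup G) : Set G) := by
  intro a ha
  rw [Subgroup.mem_normalizer_iff]
  intro y
  rw [mem_map_conj_iff, mem_map_conj_iff]
  have ha' : h⁻¹ * a * h ∈ A := by
    have h1 : h⁻¹ ∈ Subgroup.normalizer (A : Set G) := Subgroup.inv_mem _ hh
    have := (Subgroup.mem_normalizer_iff.mp h1 a).mp ha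
    rwa [inv_inv] at this
  have h2 := Subgroup.mem_normalizer_iff.mp (hAS ha') (h⁻¹ * y * h)
  rw [h2]
  have : h⁻¹ * a * h * (h⁻¹ * y * h) * (h⁻¹ * a * h)⁻¹ = h⁻¹ * (a * y * a⁻¹) * h := by group
  rw [this]

/-- Clifford-type restriction of complete reducibility to a normal subgroup (subgroup form). -/
theorem complemented_of_normal_of_complemented [Finite G] (H A V : Subgroup G) (hVab : IsMulCommutative V)
    (hHV : H ≤ Subgroup.normalizer (V : Set G)) (hAH : A ≤ H) (hAn : H ≤ Subgroup.normalizer (A : Set G))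
    (hss : ∀ U : Subgroup G, U ≤ V → H ≤ Subgroup.normalizer (U : Set G) →
      ∃ W : Subgroup G, W ≤ V ∧ H ≤ Subgroup.normalizer (W : Set G) ∧ U ⊓ W = ⊥ ∧ U ⊔ W = V)
    (U : Subgroup G) (hUV : U ≤ V) (hAU : A ≤ Subgroup.normalizer (U : Set G)) :
    ∃ W : Subgroup G, W ≤ V ∧ A ≤ Subgroup.normalizer (W : Set G) ∧ U ⊓ W = ⊥ ∧ U ⊔ W = V := by
  classical
  -- irreducible A-invariant subgroups
  let Irr : Subgroup G → Prop := fun S => S ≤ V ∧ A ≤ Subgroup.normalizer (S : Set G) ∧ S ≠ ⊥ ∧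
    ∀ S' : Subgroup G, S' ≤ S → A ≤ Subgroup.normalizer (S' : Set G) → S' = ⊥ ∨ S' = S
  set T : Subgroup G := sSup {S | Irr S} with hT
  have hTV : T ≤ V := sSup_le (fun S hS => hS.1)
  have hcommV : ∀ x ∈ V, ∀ y ∈ V, x * y = y * x := by
    intro x hx y hy
    have := hVab.is_comm.comm ⟨x, hx⟩ ⟨y, hy⟩
    exact congrArg Subtype.val this
  have hnormV : ∀ W₁ W₂ : Subgroup G, W₁ ≤ V → W₂ ≤ V → W₂ ≤ Subgroup.normalizer (W₁ : Set G) := by
    intro W₁ W₂ h1 h2 x hx
    rw [Subgroup.mem_normalizer_iff]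
    intro y
    constructor
    · intro hy
      have : x * y * x⁻¹ = y := by
        rw [hcommV x (h2 hx) y (h1 hy)]; group
      rwa [this]
    · intro hy
      have hy' : x * y * x⁻¹ ∈ V := h1 hy
      have hyV : y ∈ V := by
        have : y = x⁻¹ * (x * y * x⁻¹) * x := by group
        rw [this]
        exact V.mul_mem (V.mul_mem (V.inv_mem (h2 hx)) hy') (h2 hx)
      have : x * y * x⁻¹ = y := by
        rw [hcommV x (h2 hx) y hyV]; group
      rwa [this] at hy
  -- conj of Irr by h ∈ H is Irr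
  have hIrrConj : ∀ S : Subgroup G, Irr S → ∀ h ∈ H, Irr (S.map (MulAut.conj h).toMonoidHom) := by
    intro S hS h hh
    obtain ⟨hSV, hSA, hSne, hSmin⟩ := hS
    refine ⟨?_, le_normalizer_map_conj A S h (hAn hh) hSA, ?_, ?_⟩
    · have hV := (map_conj_eq_self_iff h V).mpr (hHV hh)
      rw [← hV]
      exact Subgroup.map_mono hSV
    · intro hbot
      apply hSne
      rw [Subgroup.map_eq_bot_iff_of_injective _ (MulAut.conj h).injective] at hbot
      exact hbot
    · intro S' hS'le hS'A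
      have hh' : h⁻¹ ∈ H := H.inv_mem hh
      have h1 : S'.map (MulAut.conj h⁻¹).toMonoidHom ≤ S := by
        intro x hx
        rw [mem_map_conj_iff, inv_inv] at hx
        have := hS'le hx
        rw [mem_map_conj_iff] at this
        have e : h⁻¹ * (h * x * h⁻¹) * h = x := by group
        rwa [e] at this
      have h2 := le_normalizer_map_conj A S' h⁻¹ (hAn hh') hS'A
      rcases hSmin _ h1 h2 with h3 | h3
      · left
        rw [Subgroup.map_eq_bot_iff_of_injective _ (MulAut.conj h⁻¹).injective] at h3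
        exact h3
      · right
        rw [← h3, Subgroup.map_map]
        have : (MulAut.conj h).toMonoidHom.comp (MulAut.conj h⁻¹).toMonoidHom = MonoidHom.id G := by
          ext x
          simp
          group
        rw [this, Subgroup.map_id]
  -- T is H-invariant
  have hTH : H ≤ Subgroup.normalizer (T : Set G) := by
    intro h hh
    apply mem_normalizer_of_map_conj_le
    rw [Subgroup.map_le_iff_le_comap, hT]
    apply sSup_le
    intro S hS
    rw [← Subgroup.map_le_iff_le_comap]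
    exact le_sSup (hIrrConj S hS h hh)
  -- T = V
  have hTeq : T = V := by
    obtain ⟨W, hWV, hWH, hTW, hTWV⟩ := hss T hTV hTH
    have hWbot : W = ⊥ := by
      by_contra hWne
      have hWA : A ≤ Subgroup.normalizer (W : Set G) := hAH.trans hWH
      obtain ⟨S, ⟨hSW, hSA, hSne⟩, hSmin⟩ := (wellFounded_lt (α := Subgroup G)).has_min
        {S : Subgroup G | S ≤ W ∧ A ≤ Subgroup.normalizer (S : Set G) ∧ S ≠ ⊥} ⟨W, le_rfl, hWA, hWne⟩
      have hIrr : Irr S := by
        refine ⟨hSW.trans hWV, hSA, hSne, ?_⟩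
        intro S' hS'le hS'A
        by_contra hcon
        push Not at hcon
        exact hSmin S' ⟨hS'le.trans hSW, hS'A, hcon.1⟩ (lt_of_le_of_ne hS'le hcon.2)
      have h1 : S ≤ T := le_sSup hIrr
      have h2 : S ≤ T ⊓ W := le_inf h1 hSW
      rw [hTW] at h2
      exact hSne (le_bot_iff.mp h2)
    rw [hWbot, sup_bot_eq] at hTWV
    exact hTWV
  -- maximal complement
  obtain ⟨W, -, hWmax⟩ := Finite.exists_le_maximal
    (p := fun W : Subgroup G => W ≤ V ∧ A ≤ Subgroup.normalizer (W : Set G) ∧ U ⊓ W = ⊥) (a := ⊥)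
    ⟨bot_le, by
      intro a _
      rw [Subgroup.mem_normalizer_iff]
      intro y
      simp only [Subgroup.mem_bot]
      exact conj_eq_one_iff.symm, by simp⟩
  obtain ⟨⟨hWV, hWA, hUW⟩, hWm⟩ := hWmax
  refine ⟨W, hWV, hWA, hUW, ?_⟩
  apply le_antisymm (sup_le hUV hWV)
  rw [← hTeq, hT]
  apply sSup_le
  intro S hS
  obtain ⟨hSV, hSA, hSne, hSmin⟩ := hS
  by_contra hcon
  have hUWA : A ≤ Subgroup.normalizer ((U ⊔ W : Subgroup G) : Set G) := le_normalizer_sup A U W hAU hWA
  have hSint : S ⊓ (U ⊔ W) = ⊥ := by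
    rcases hSmin (S ⊓ (U ⊔ W)) inf_le_left (le_normalizer_inf A S (U ⊔ W) hSA hUWA) with h | h
    · exact h
    · exfalso; apply hcon
      rw [← h]; exact inf_le_right
  have hWS : W ⊔ S = W := by
    apply le_antisymm _ le_sup_left
    apply hWm ⟨sup_le hWV hSV, le_normalizer_sup A W S hWA hSA, ?_⟩ le_sup_left
    rw [eq_bot_iff]
    intro x hx
    obtain ⟨hxU, hxWS⟩ := Subgroup.mem_inf.mp hx
    obtain ⟨w, hw, s, hs, rfl⟩ := (mem_sup_of_le_normalizer W S (hnormV W S hWV hSV)).mp hxWS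
    have hs' : s ∈ S ⊓ (U ⊔ W) := by
      refine Subgroup.mem_inf.mpr ⟨hs, ?_⟩
      have : s = w⁻¹ * (w * s) := by group
      rw [this]
      exact Subgroup.mul_mem _ (Subgroup.mem_sup_right (W.inv_mem hw)) (Subgroup.mem_sup_left hxU)
    rw [hSint, Subgroup.mem_bot] at hs'
    rw [hs', mul_one] at hxU ⊢
    have : w ∈ U ⊓ W := Subgroup.mem_inf.mpr ⟨hxU, hw⟩
    rw [hUW] at this
    exact this
  apply hcon
  calc S ≤ W ⊔ S := le_sup_right
    _ = W := hWS
    _ ≤ U ⊔ W := le_sup_right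

end Cfsg.Agent.H1
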