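import Mathlib
import Cfsg.Agent.H1.CoprimeAction
import Cfsg.Agent.H1.ConjMap
import Cfsg.Agent.H1.Card
import Cfsg.Agent.H1.CliffordRestrict

set_option autoImplicit false

namespace Cfsg.Agent.H1

open scoped Pointwise

section glauberman
variable {X : Type*} [Group X] [Finite X]

/-- **Glauberman's lemma for subgroups, existence.** If `A` acts coprimely on `G` and the
`G`-conjugacy class of `H₀` is `A`-stable, some `G`-conjugate of `H₀` is `A`-invariant. -/
theorem exists_conj_invariant (A G H₀ : Subgroup X) (hAG : A ≤ Subgroup.normalizer (G : Set X))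
    (hcop : (Nat.card A).Coprime (Nat.card G)) (hsolv : Group.IsSolvable A ∨ Group.IsSolvable G)
    (hconj : ∀ a ∈ A, ∃ g ∈ G, H₀.map (MulAut.conj a).toMonoidHom = H₀.map (MulAut.conj g).toMonoidHom) :
    ∃ g ∈ G, A ≤ Subgroup.normalizer ((H₀.map (MulAut.conj g).toMonoidHom : Subgroup X) : Set X) := by
  obtain ⟨Γ, hΓdef⟩ : ∃ Γ : Subgroup X, Γ = G ⊔ A := ⟨_, rfl⟩
  have hΓn : Γ ≤ Subgroup.normalizer (G : Set X) := hΓdef ▸ sup_le Subgroup.le_normalizer hAG
  obtain ⟨N, hNdef⟩ : ∃ N : Subgroup X, N = Subgroup.normalizer (H₀ : Set X) ⊓ Γ := ⟨_, rfl⟩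
  have hNΓ : N ≤ Γ := hNdef ▸ inf_le_right
  have hNn : N ≤ Subgroup.normalizer (G : Set X) := hNΓ.trans hΓn
  have hGΓ : G ≤ Γ := hΓdef ▸ le_sup_left
  have hAΓ : A ≤ Γ := hΓdef ▸ le_sup_right
  -- N ⊔ G = Γ
  have hNG : N ⊔ G = Γ := by
    apply le_antisymm (sup_le hNΓ hGΓ)
    rw [hΓdef]
    apply sup_le le_sup_right
    intro a ha
    obtain ⟨g, hg, hag⟩ := hconj a ha
    have h1 : g⁻¹ * a ∈ N := by
      rw [hNdef]
      refine Subgroup.mem_inf.2 ⟨?_, mul_mem (inv_mem (hGΓ hg)) (hAΓ ha)⟩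
      rw [← map_conj_eq_self_iff, ← map_conj_map_conj, hag, map_conj_map_conj, inv_mul_cancel,
        map_conj_one]
    have : a = g * (g⁻¹ * a) := by group
    rw [this]
    exact mul_mem (Subgroup.mem_sup_right hg) (Subgroup.mem_sup_left h1)
  -- cardinalities
  have hdisj : A ⊓ G = ⊥ := (Subgroup.disjoint_of_coprime_natCard hcop).eq_bot
  have hcardΓ : Nat.card Γ = Nat.card A * Nat.card G := by
    have h1 := card_sup_mul_card_inf A G hAG
    rw [hdisj, Subgroup.card_bot, mul_one, sup_comm, ← hΓdef] at h1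
    exact h1
  obtain ⟨K₀, hK₀def⟩ : ∃ K₀ : Subgroup X, K₀ = N ⊓ G := ⟨_, rfl⟩
  have hcardN : Nat.card N = Nat.card A * Nat.card K₀ := by
    have h1 := card_sup_mul_card_inf N G hNn
    rw [hNG, hcardΓ, ← hK₀def] at h1
    have hpos : 0 < Nat.card G := Nat.card_pos
    have : Nat.card A * Nat.card K₀ * Nat.card G = Nat.card N * Nat.card G := by
      rw [← h1]; ring
    exact (Nat.eq_of_mul_eq_mul_right hpos this).symm
  have hK₀N : K₀ ≤ N := hK₀def ▸ inf_le_left
  have hK₀G : K₀ ≤ G := hK₀def ▸ inf_le_right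
  -- Schur–Zassenhaus in N
  haveI hK₀n : (K₀.subgroupOf N).Normal := by
    rw [hK₀def]
    have : (G.subgroupOf N).Normal := Subgroup.normal_subgroupOf_of_le_normalizer hNn
    rw [Subgroup.inf_subgroupOf_left]
    exact this
  have hcardK₀' : Nat.card (K₀.subgroupOf N) = Nat.card K₀ :=
    Nat.card_congr (Subgroup.subgroupOfEquivOfLe hK₀N).toEquiv
  have hidx : (K₀.subgroupOf N).index = Nat.card A := by
    have h1 := Subgroup.card_mul_index (K₀.subgroupOf N)
    rw [hcardK₀', hcardN, mul_comm] at h1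
    exact Nat.eq_of_mul_eq_mul_right Nat.card_pos h1
  have hcopK₀ : (Nat.card K₀).Coprime (Nat.card A) :=
    Nat.Coprime.coprime_dvd_left (Subgroup.card_dvd_of_le hK₀G) hcop.symm
  obtain ⟨B', hB'⟩ := Subgroup.exists_right_complement'_of_coprime
    (N := K₀.subgroupOf N) (by rw [hcardK₀', hidx]; exact hcopK₀)
  obtain ⟨B, hBdef⟩ : ∃ B : Subgroup X, B = B'.map N.subtype := ⟨_, rfl⟩
  have hBN : B ≤ N := hBdef ▸ Subgroup.map_subtype_le B'
  have hcardB : Nat.card B = Nat.card A := by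
    rw [hBdef, Subgroup.card_map_of_injective N.subtype_injective, ← hidx]
    exact hB'.symm.index_eq_card.symm
  have hBΓ : B ≤ G ⊔ A := hΓdef ▸ hBN.trans hNΓ
  obtain ⟨n, hn, hnA⟩ := coprime_conj A G B hAG hcop hsolv hBΓ hcardB
  refine ⟨n⁻¹, inv_mem hn, ?_⟩
  intro a ha
  have h1 : n * a * n⁻¹ ∈ B := by
    rw [← hnA]
    exact (conj_mem_conj_smul n a A).2 ha
  have h2 : n * a * n⁻¹ ∈ Subgroup.normalizer (H₀ : Set X) := by
    have := hBN h1
    rw [hNdef] at this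
    exact (Subgroup.mem_inf.1 this).1
  rw [← map_conj_eq_self_iff] at h2 ⊢
  rw [map_conj_map_conj]
  have e : a * n⁻¹ = n⁻¹ * (n * a * n⁻¹) := by group
  rw [e, ← map_conj_map_conj, h2]

/-- **Glauberman's lemma for subgroups, conjugacy.** Two `A`-invariant subgroups that are
`G`-conjugate are conjugate by an element of `C_G(A)`. -/
theorem conj_centralizer_of_invariant (A G H₁ H₂ : Subgroup X)
    (hAG : A ≤ Subgroup.normalizer (G : Set X))
    (hcop : (Nat.card A).Coprime (Nat.card G)) (hsolv : Group.IsSolvable A ∨ Group.IsSolvable G)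
    (h₁ : A ≤ Subgroup.normalizer (H₁ : Set X)) (h₂ : A ≤ Subgroup.normalizer (H₂ : Set X))
    (g : X) (hg : g ∈ G) (h12 : H₂ = H₁.map (MulAut.conj g).toMonoidHom) :
    ∃ c ∈ G ⊓ Subgroup.centralizer (A : Set X), H₂ = H₁.map (MulAut.conj c).toMonoidHom := by
  obtain ⟨K₀, hK₀def⟩ : ∃ K₀ : Subgroup X, K₀ = Subgroup.normalizer (H₁ : Set X) ⊓ G := ⟨_, rfl⟩
  have hK₀G : K₀ ≤ G := hK₀def ▸ inf_le_right
  have hAK₀ : A ≤ Subgroup.normalizer (K₀ : Set X) := by
    rw [hK₀def]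
    exact le_normalizer_inf A _ G (h₁.trans Subgroup.le_normalizer) hAG
  have hcopK₀ : (Nat.card A).Coprime (Nat.card K₀) :=
    Nat.Coprime.coprime_dvd_right (Subgroup.card_dvd_of_le hK₀G) hcop
  have hsolvK₀ : Group.IsSolvable A ∨ Group.IsSolvable K₀ := by
    rcases hsolv with h | h
    · exact Or.inl h
    · right
      exact Group.isSolvable_of_isSolvable_injective (f := Subgroup.inclusion hK₀G)
        (Subgroup.inclusion_injective hK₀G)
  obtain ⟨B, hBdef⟩ : ∃ B : Subgroup X, B = A.map (MulAut.conj g⁻¹).toMonoidHom := ⟨_, rfl⟩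
  have hcardB : Nat.card B = Nat.card A := by
    rw [hBdef]; exact Subgroup.card_map_of_injective (MulAut.conj g⁻¹).injective
  have hBle : B ≤ K₀ ⊔ A := by
    rw [hBdef]
    intro x hx
    obtain ⟨a, ha, rfl⟩ := Subgroup.mem_map.1 hx
    show g⁻¹ * a * g⁻¹⁻¹ ∈ _
    rw [inv_inv]
    have h3 : g⁻¹ * a * g ∈ Subgroup.normalizer (H₁ : Set X) := by
      have h4 := h₂ ha
      rw [← map_conj_eq_self_iff, h12, map_conj_map_conj] at h4
      rw [← map_conj_eq_self_iff]
      have e : g⁻¹ * a * g = g⁻¹ * (a * g) := by group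
      rw [e, ← map_conj_map_conj, h4, map_conj_map_conj, inv_mul_cancel, map_conj_one]
    have h5 : g⁻¹ * a * g * a⁻¹ ∈ K₀ := by
      rw [hK₀def]
      refine Subgroup.mem_inf.2 ⟨mul_mem h3 (inv_mem (h₁ ha)), ?_⟩
      have h6 := hAG ha
      rw [Subgroup.mem_normalizer_iff] at h6
      have e : g⁻¹ * a * g * a⁻¹ = g⁻¹ * (a * g * a⁻¹) := by group
      rw [e]
      exact mul_mem (inv_mem hg) ((h6 g).1 hg)
    have e : g⁻¹ * a * g = (g⁻¹ * a * g * a⁻¹) * a := by group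
    rw [e]
    exact mul_mem (Subgroup.mem_sup_left h5) (Subgroup.mem_sup_right ha)
  obtain ⟨n, hn, hnA⟩ := coprime_conj A K₀ B hAK₀ hcopK₀ hsolvK₀ hBle hcardB
  have hnN : n ∈ Subgroup.normalizer (H₁ : Set X) := by
    have := hn; rw [hK₀def] at this; exact (Subgroup.mem_inf.1 this).1
  refine ⟨g * n, Subgroup.mem_inf.2 ⟨mul_mem hg (hK₀G hn), ?_⟩, ?_⟩
  · apply mem_centralizer_of_conj_eq A G hAG (by rw [inf_comm]; exact (Subgroup.disjoint_of_coprime_natCard hcop).eq_bot)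
      (g * n) (mul_mem hg (hK₀G hn))
    rw [conj_smul_eq_map, ← map_conj_map_conj, ← conj_smul_eq_map n A, hnA, hBdef, map_conj_map_conj,
      mul_inv_cancel, map_conj_one]
  · rw [← map_conj_map_conj, (map_conj_eq_self_iff n H₁).2 hnN]
    exact h12

end glauberman

end Cfsg.Agent.H1
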