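import Mathlib
import Cfsg.Agent.H1.CoprimeAction
import Cfsg.Agent.H1.FrattiniExtra
import Cfsg.Agent.H1.Card
import Cfsg.Agent.S0043

/-! Hall's theorems for finite solvable groups (helper1): `hall_exists`, `hall_conj`, `hall_dominance`. -/

set_option autoImplicit false
open scoped Pointwise commutatorElement

namespace Cfsg.Agent.H1

universe u

abbrev HallProp (G : Type u) [Group G] : Prop :=
  ∀ m n : ℕ, Nat.card G = m * n → m.Coprime n →
    (∃ H : Subgroup G, Nat.card H = m) ∧
    (∀ H K : Subgroup G, Nat.card H = m → (Nat.card K).Coprime n → ∃ g : G, K ≤ MulAut.conj g • H)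

lemma card_of_index_eq {G : Type*} [Group G] [Finite G] {m n : ℕ} (hmn : Nat.card G = m * n) (hn : 0 < n)
    (H : Subgroup G) (h : H.index = n) : Nat.card H = m := by
  have := H.card_mul_index
  rw [h, hmn] at this
  exact Nat.eq_of_mul_eq_mul_right hn this

lemma index_of_card_eq {G : Type*} [Group G] [Finite G] {m n : ℕ} (hmn : Nat.card G = m * n) (hm : 0 < m)
    (H : Subgroup G) (h : Nat.card H = m) : H.index = n := by
  have := H.card_mul_index
  rw [h, hmn] at this
  exact Nat.eq_of_mul_eq_mul_left hm this

theorem hall_aux : ∀ c : ℕ, ∀ (G : Type u) [Group G] [Finite G] [Group.IsSolvable G], Nat.card G = c → HallProp G := by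
  intro c
  induction c using Nat.strong_induction_on with
  | _ c ih =>
    intro G _ _ _ hc m n hmn hcop
    have hmpos : 0 < m := Nat.pos_of_ne_zero (by
      rintro rfl; rw [zero_mul] at hmn; exact Nat.card_pos.ne' hmn)
    have hnpos : 0 < n := Nat.pos_of_ne_zero (by
      rintro rfl; rw [mul_zero] at hmn; exact Nat.card_pos.ne' hmn)
    by_cases htriv : Subsingleton G
    · have h1 : Nat.card G = 1 := Nat.card_eq_one_iff_unique.mpr ⟨htriv, ⟨1⟩⟩
      have hm1 : m = 1 := by
        rw [h1] at hmn; exact Nat.eq_one_of_mul_eq_one_right hmn.symm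
      refine ⟨⟨⊥, by rw [Subgroup.card_bot, hm1]⟩, ?_⟩
      intro H K _ _
      refine ⟨1, fun x _ => ?_⟩
      rw [Subsingleton.elim x 1]; exact one_mem _
    · have hnt : Nontrivial G := not_subsingleton_iff_nontrivial.mp htriv
      obtain ⟨N, hNn, hNne, -, hNmin⟩ := exists_minimal_normal_le (⊤ : Subgroup G) top_ne_bot
      obtain ⟨-, p, hp, hpow⟩ := Cfsg.Agent.S0043.result N hNne hNmin
      haveI : Fact p.Prime := ⟨hp⟩
      have hNp : IsPGroup p N := fun g => ⟨1, by
        rw [pow_one]; exact Subtype.ext (by simpa using hpow g g.2)⟩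
      obtain ⟨k, hk⟩ := hNp.exists_card_eq
      have hk0 : k ≠ 0 := by
        rintro rfl
        rw [pow_zero, Subgroup.card_eq_one] at hk; exact hNne hk
      have hcardQ : Nat.card (G ⧸ N) * p ^ k = m * n := by
        rw [← hk, ← hmn]; exact (Subgroup.card_eq_card_quotient_mul_card_subgroup N).symm
      have hlt : Nat.card (G ⧸ N) < c := by
        rw [← hc, hmn, ← hcardQ]
        have h1 : 1 < p ^ k := Nat.one_lt_pow hk0 hp.one_lt
        have h2 : 0 < Nat.card (G ⧸ N) := Nat.card_pos
        nlinarith
      have hNsolv : Group.IsSolvable N := inferInstance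
      obtain ⟨π, hπ⟩ : ∃ π : G →* G ⧸ N, π = QuotientGroup.mk' N := ⟨_, rfl⟩
      have hπs : Function.Surjective π := by rw [hπ]; exact QuotientGroup.mk'_surjective N
      have hker : π.ker = N := by rw [hπ]; exact QuotientGroup.ker_mk' N
      have hidx_map : ∀ H : Subgroup G, (H.map π).index = (H ⊔ N).index := by
        intro H
        rw [Subgroup.index_map, hker, MonoidHom.range_eq_top_of_surjective _ hπs, Subgroup.index_top, mul_one]
      have hpdvd : p ^ k ∣ m * n := Dvd.intro_left _ hcardQ
      by_cases hpm : p ∣ m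
      · -- case (a): p ∣ m
        have hpn : ¬ p ∣ n := fun h => hp.one_lt.ne' (Nat.eq_one_of_dvd_coprimes hcop hpm h)
        have hcopn : (p ^ k).Coprime n := Nat.Coprime.pow_left _ ((Nat.Prime.coprime_iff_not_dvd hp).mpr hpn)
        have hdm : p ^ k ∣ m := hcopn.dvd_of_dvd_mul_right hpdvd
        obtain ⟨m', hm'⟩ := hdm
        have hQ : Nat.card (G ⧸ N) = m' * n := by
          have : Nat.card (G ⧸ N) * p ^ k = (m' * n) * p ^ k := by rw [hcardQ, hm']; ring
          exact Nat.eq_of_mul_eq_mul_right (pow_pos hp.pos k) this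
        have hm'pos : 0 < m' := Nat.pos_of_ne_zero (by
          rintro rfl; rw [mul_zero] at hm'; exact hmpos.ne' hm')
        have hcop' : m'.Coprime n := Nat.Coprime.coprime_dvd_left (Dvd.intro_left _ hm'.symm) hcop
        obtain ⟨⟨Hq, hHq⟩, hD⟩ := ih _ hlt (G ⧸ N) rfl m' n hQ hcop'
        have hNle : ∀ H : Subgroup G, Nat.card H = m → N ≤ H := by
          intro H hH
          have hidx : H.index = n := index_of_card_eq hmn hmpos H hH
          have h1 : (H ⊓ N).relIndex N ∣ p ^ k := hk ▸ Subgroup.relIndex_dvd_card _ _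
          have h2 : (H ⊓ N).relIndex N ∣ n := by
            rw [Subgroup.inf_relIndex_right, ← hidx, ← Subgroup.relIndex_top_right H]
            exact relIndex_dvd_relIndex_of_normal H N ⊤ le_top (by rw [Subgroup.normalizer_eq_top])
          have h3 : (H ⊓ N).relIndex N = 1 := Nat.eq_one_of_dvd_coprimes hcopn h1 h2
          exact (Subgroup.relIndex_eq_one.mp h3).trans inf_le_left
        constructor
        · refine ⟨Hq.comap π, ?_⟩
          apply card_of_index_eq hmn hnpos
          rw [Subgroup.index_comap_of_surjective Hq hπs]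
          exact index_of_card_eq hQ hm'pos Hq hHq
        · intro H K hH hK
          have hNH := hNle H hH
          have hHq' : Nat.card (H.map π) = m' := by
            apply card_of_index_eq hQ hnpos
            rw [hidx_map, sup_eq_left.mpr hNH]
            exact index_of_card_eq hmn hmpos H hH
          have hKq : (Nat.card (K.map π)).Coprime n :=
            Nat.Coprime.coprime_dvd_left (Subgroup.card_map_dvd _ _) hK
          obtain ⟨q, hq⟩ := hD (H.map π) (K.map π) hHq' hKq
          obtain ⟨g, rfl⟩ := hπs q
          refine ⟨g, ?_⟩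
          intro x hx
          have h1 : π x ∈ MulAut.conj (π g) • H.map π := hq (Subgroup.mem_map_of_mem _ hx)
          rw [mem_conj_smul] at h1 ⊢
          have h2 : π (g⁻¹ * x * g) ∈ H.map π := by simpa using h1
          rw [← Subgroup.mem_comap, Subgroup.comap_map_eq, hker, sup_eq_left.mpr hNH] at h2
          exact h2
      · -- case (b): p ∤ m
        have hcopm : (p ^ k).Coprime m := Nat.Coprime.pow_left _ ((Nat.Prime.coprime_iff_not_dvd hp).mpr hpm)
        have hdn : p ^ k ∣ n := hcopm.dvd_of_dvd_mul_left hpdvd
        obtain ⟨n', hn'⟩ := hdn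
        have hQ : Nat.card (G ⧸ N) = m * n' := by
          have : Nat.card (G ⧸ N) * p ^ k = (m * n') * p ^ k := by rw [hcardQ, hn']; ring
          exact Nat.eq_of_mul_eq_mul_right (pow_pos hp.pos k) this
        have hn'pos : 0 < n' := Nat.pos_of_ne_zero (by
          rintro rfl; rw [mul_zero] at hn'; exact hnpos.ne' hn')
        have hn'dvd : n' ∣ n := Dvd.intro_left _ hn'.symm
        have hpkdvd : p ^ k ∣ n := Dvd.intro _ hn'.symm
        have hcop' : m.Coprime n' := Nat.Coprime.coprime_dvd_right hn'dvd hcop
        obtain ⟨⟨Hq, hHq⟩, hD⟩ := ih _ hlt (G ⧸ N) rfl m n' hQ hcop'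
        have hNtop : (⊤ : Subgroup G) ≤ Subgroup.normalizer (N : Set G) := by rw [Subgroup.normalizer_eq_top]
        have hdisj : ∀ H : Subgroup G, (Nat.card H).Coprime n → H ⊓ N = ⊥ := by
          intro H hH
          have : (Nat.card H).Coprime (Nat.card N) := by
            rw [hk]; exact Nat.Coprime.coprime_dvd_right hpkdvd hH
          exact (Subgroup.disjoint_of_coprime_natCard this).eq_bot
        constructor
        · -- existence
          obtain ⟨A, hA⟩ : ∃ A : Subgroup G, A = Hq.comap π := ⟨_, rfl⟩
          have hNA : N ≤ A := by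
            rw [hA]; exact hker.symm.le.trans (MonoidHom.ker_le_comap _ _)
          have hAidx : A.index = n' := by
            rw [hA, Subgroup.index_comap_of_surjective Hq hπs]; exact index_of_card_eq hQ hmpos Hq hHq
          have hAcard : Nat.card A = m * p ^ k := by
            have := A.card_mul_index
            rw [hAidx, hmn, hn'] at this
            have h2 : Nat.card A * n' = (m * p ^ k) * n' := by rw [this]; ring
            exact Nat.eq_of_mul_eq_mul_right hn'pos h2
          have hN'card : Nat.card (N.subgroupOf A) = p ^ k := by rw [card_subgroupOf_of_le hNA, hk]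
          have hN'idx : (N.subgroupOf A).index = m := by
            have := (N.subgroupOf A).card_mul_index
            rw [hN'card, hAcard, mul_comm m] at this
            exact Nat.eq_of_mul_eq_mul_left (pow_pos hp.pos k) this
          obtain ⟨H', hH'⟩ := Subgroup.exists_right_complement'_of_coprime (N := N.subgroupOf A)
            (by rw [hN'card, hN'idx]; exact hcopm)
          refine ⟨H'.map A.subtype, ?_⟩
          rw [Subgroup.card_map_of_injective A.subtype_injective]
          have := hH'.card_mul_card
          rw [hN'card, hAcard, mul_comm m] at this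
          exact Nat.eq_of_mul_eq_mul_left (pow_pos hp.pos k) this
        · intro H K hH hK
          have hHN : H ⊓ N = ⊥ := hdisj H (by rw [hH]; exact hcop)
          have hKN : K ⊓ N = ⊥ := hdisj K hK
          have hHNcard : Nat.card (H ⊔ N : Subgroup G) = m * p ^ k := by
            have := card_sup_mul_card_inf H N (le_top.trans hNtop)
            rw [hHN, Subgroup.card_bot, mul_one, hH, hk] at this; exact this
          have hHq' : Nat.card (H.map π) = m := by
            apply card_of_index_eq hQ hn'pos
            rw [hidx_map]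
            have := (H ⊔ N).card_mul_index
            rw [hHNcard, hmn, hn', ← mul_assoc] at this
            exact Nat.eq_of_mul_eq_mul_left (Nat.mul_pos hmpos (pow_pos hp.pos k)) this
          have hKq : (Nat.card (K.map π)).Coprime n' :=
            Nat.Coprime.coprime_dvd_left (Subgroup.card_map_dvd _ _) (Nat.Coprime.coprime_dvd_right hn'dvd hK)
          obtain ⟨q, hq⟩ := hD (H.map π) (K.map π) hHq' hKq
          obtain ⟨g, rfl⟩ := hπs q
          obtain ⟨H₁, hH₁⟩ : ∃ H₁ : Subgroup G, H₁ = MulAut.conj g • H := ⟨_, rfl⟩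
          have hH₁card : Nat.card H₁ = m := by rw [hH₁, card_conj_smul, hH]
          have hH₁N : H₁ ⊓ N = ⊥ := hdisj H₁ (by rw [hH₁card]; exact hcop)
          have hKle : K ≤ N ⊔ H₁ := by
            intro x hx
            have h1 : π x ∈ MulAut.conj (π g) • H.map π := hq (Subgroup.mem_map_of_mem _ hx)
            rw [mem_conj_smul] at h1
            have h2 : π (g⁻¹ * x * g) ∈ H.map π := by simpa using h1
            rw [← Subgroup.mem_comap, Subgroup.comap_map_eq, hker] at h2
            obtain ⟨h, hh, n₁, hn₁, e⟩ := Subgroup.mem_sup_of_normal_right.mp h2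
            have e2 : x = (g * h * g⁻¹) * (g * n₁ * g⁻¹) := by
              calc x = g * (g⁻¹ * x * g) * g⁻¹ := by group
                _ = _ := by rw [← e]; group
            rw [e2]
            exact mul_mem (Subgroup.mem_sup_right (by rw [hH₁]; exact (conj_mem_conj_smul _ _ _).mpr hh))
              (Subgroup.mem_sup_left (hNn.conj_mem _ hn₁ _))
          obtain ⟨K₁, hK₁⟩ : ∃ K₁ : Subgroup G, K₁ = (K ⊔ N) ⊓ H₁ := ⟨_, rfl⟩
          have hK₁N : K₁ ⊓ N = ⊥ := by
            rw [eq_bot_iff, ← hH₁N, hK₁]; exact inf_le_inf_right _ inf_le_right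
          have hsup : N ⊔ K₁ = N ⊔ K := by
            apply le_antisymm
            · refine sup_le le_sup_left ?_
              rw [hK₁, sup_comm N K]; exact inf_le_left
            · refine sup_le le_sup_left ?_
              intro x hx
              obtain ⟨n₁, hn₁, h₁, hh₁, e⟩ := Subgroup.mem_sup_of_normal_left.mp (hKle hx)
              have hmem : h₁ ∈ K₁ := by
                rw [hK₁]; refine Subgroup.mem_inf.mpr ⟨?_, hh₁⟩
                have : h₁ = n₁⁻¹ * x := by rw [← e]; group
                rw [this]; exact mul_mem (Subgroup.mem_sup_right (inv_mem hn₁)) (Subgroup.mem_sup_left hx)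
              rw [← e]; exact mul_mem (Subgroup.mem_sup_left hn₁) (Subgroup.mem_sup_right hmem)
          have hK₁card : Nat.card K₁ = Nat.card K := by
            have h1 := card_sup_mul_card_inf K₁ N (le_top.trans hNtop)
            have h2 := card_sup_mul_card_inf K N (le_top.trans hNtop)
            rw [hK₁N, Subgroup.card_bot, mul_one, sup_comm, hsup] at h1
            rw [hKN, Subgroup.card_bot, mul_one, sup_comm] at h2
            exact Nat.eq_of_mul_eq_mul_right Nat.card_pos (h1.symm.trans h2)
          have hcopK₁ : (Nat.card K₁).Coprime (Nat.card N) := by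
            rw [hK₁card, hk]; exact Nat.Coprime.coprime_dvd_right hpkdvd hK
          obtain ⟨x, hxN, hx⟩ := coprime_conj K₁ N K (le_top.trans hNtop) hcopK₁ (Or.inr hNsolv)
            (by rw [hsup]; exact le_sup_right) hK₁card.symm
          refine ⟨x * g, ?_⟩
          rw [← hx, map_mul, mul_smul, ← hH₁]
          intro y hy
          rw [mem_conj_smul] at hy ⊢
          rw [hK₁] at hy; exact (Subgroup.mem_inf.mp hy).2

theorem hall_exists {G : Type u} [Group G] [Finite G] [Group.IsSolvable G] (m n : ℕ)
    (hG : Nat.card G = m * n) (hmn : m.Coprime n) : ∃ H : Subgroup G, Nat.card H = m :=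
  (hall_aux _ G rfl m n hG hmn).1

theorem hall_dominance {G : Type u} [Group G] [Finite G] [Group.IsSolvable G] (m n : ℕ)
    (hG : Nat.card G = m * n) (hmn : m.Coprime n) (H K : Subgroup G) (hH : Nat.card H = m)
    (hK : (Nat.card K).Coprime n) : ∃ g : G, K ≤ MulAut.conj g • H :=
  (hall_aux _ G rfl m n hG hmn).2 H K hH hK

theorem hall_conj {G : Type u} [Group G] [Finite G] [Group.IsSolvable G] (m n : ℕ)
    (hG : Nat.card G = m * n) (hmn : m.Coprime n) (H K : Subgroup G) (hH : Nat.card H = m)
    (hK : Nat.card K = m) : ∃ g : G, MulAut.conj g • H = K := by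
  obtain ⟨g, hg⟩ := hall_dominance m n hG hmn H K hH (hK ▸ hmn)
  exact ⟨g, (Subgroup.eq_of_le_of_card_ge hg (by rw [card_conj_smul, hH, hK])).symm⟩

end Cfsg.Agent.H1
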