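import Mathlib
import Cfsg.Prelude.Def_OddOrderLocal
import Cfsg.Agent.H1.GlaubermanConj
import Cfsg.Agent.H1.Hall

set_option autoImplicit false

namespace Cfsg.Agent.H1

open scoped Pointwise

universe u

/-- all prime divisors of `n` lie in `π` -/
def PiNum (π : Set ℕ) (n : ℕ) : Prop := ∀ p : ℕ, p.Prime → p ∣ n → p ∈ π

lemma PiNum.of_dvd {π : Set ℕ} {m n : ℕ} (h : PiNum π n) (hd : m ∣ n) : PiNum π m :=
  fun p hp hpm => h p hp (hpm.trans hd)

lemma PiNum.mul {π : Set ℕ} {a b : ℕ} (ha : PiNum π a) (hb : PiNum π b) : PiNum π (a * b) := by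
  intro p hp hpd
  rcases (Nat.Prime.dvd_mul hp).1 hpd with h | h
  · exact ha p hp h
  · exact hb p hp h

lemma PiNum.one (π : Set ℕ) : PiNum π 1 := by
  intro p hp hpd
  exact absurd (Nat.dvd_one.1 hpd) hp.one_lt.ne'

lemma PiNum.coprime {π : Set ℕ} {a b : ℕ} (ha : PiNum π a) (hb : PiNum πᶜ b) : a.Coprime b := by
  apply Nat.coprime_of_dvd
  intro k hk hka hkb
  exact hb k hk hkb (ha k hk hka)

lemma exists_pi_factorization (π : Set ℕ) : ∀ N : ℕ, N ≠ 0 →
    ∃ m n : ℕ, N = m * n ∧ PiNum π m ∧ PiNum πᶜ n := by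
  intro N
  induction N using induction_on_primes with
  | zero => intro h; exact absurd rfl h
  | one => intro _; exact ⟨1, 1, rfl, PiNum.one _, PiNum.one _⟩
  | prime_mul p a hp ih =>
    intro hne
    have ha : a ≠ 0 := fun h => hne (by rw [h, mul_zero])
    obtain ⟨m, n, rfl, hm, hn⟩ := ih ha
    by_cases hpπ : p ∈ π
    · refine ⟨p * m, n, by ring, ?_, hn⟩
      apply PiNum.mul _ hm
      intro q hq hqp
      rw [(Nat.prime_dvd_prime_iff_eq hq hp).1 hqp]
      exact hpπ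
    · refine ⟨m, p * n, by ring, hm, ?_⟩
      apply PiNum.mul _ hn
      intro q hq hqp
      rw [(Nat.prime_dvd_prime_iff_eq hq hp).1 hqp]
      exact hpπ

section bridge
variable {X : Type u} [Group X] [Finite X]

lemma isPiHallOf_iff (π : Set ℕ) (H G : Subgroup X) :
    Cfsg.IsPiHallOf π H G ↔ H ≤ G ∧ PiNum π (Nat.card H) ∧ PiNum πᶜ (H.relIndex G) := by
  unfold Cfsg.IsPiHallOf PiNum
  constructor
  · rintro ⟨h1, h2, h3⟩
    exact ⟨h1, h2, fun p hp hpd hpπ => h3 p hp hpπ hpd⟩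
  · rintro ⟨h1, h2, h3⟩
    exact ⟨h1, h2, fun p hp hpπ hpd => h3 p hp hpd hpπ⟩

/-- conjugates (by elements normalizing `G`) of Hall subgroups are Hall subgroups -/
lemma isPiHallOf_map_conj (π : Set ℕ) (H G : Subgroup X) (h : Cfsg.IsPiHallOf π H G) (a : X)
    (ha : a ∈ Subgroup.normalizer (G : Set X)) :
    Cfsg.IsPiHallOf π (H.map (MulAut.conj a).toMonoidHom) G := by
  rw [isPiHallOf_iff] at h ⊢
  obtain ⟨h1, h2, h3⟩ := h
  have hle : H.map (MulAut.conj a).toMonoidHom ≤ G := by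
    intro x hx
    obtain ⟨y, hy, rfl⟩ := Subgroup.mem_map.1 hx
    rw [Subgroup.mem_normalizer_iff] at ha
    exact (ha y).1 (h1 hy)
  have hcard : Nat.card (H.map (MulAut.conj a).toMonoidHom : Subgroup X) = Nat.card H :=
    Subgroup.card_map_of_injective (MulAut.conj a).injective
  refine ⟨hle, by rw [hcard]; exact h2, ?_⟩
  have e1 := card_eq_relIndex_mul_card h1
  have e2 := card_eq_relIndex_mul_card hle
  rw [hcard] at e2
  have : (H.map (MulAut.conj a).toMonoidHom).relIndex G = H.relIndex G := by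
    have hpos : 0 < Nat.card H := Nat.card_pos
    rw [e1] at e2
    exact (Nat.eq_of_mul_eq_mul_right hpos e2).symm
  rw [this]
  exact h3

lemma exists_isPiHallOf (π : Set ℕ) (G : Subgroup X) (hs : Group.IsSolvable G) :
    ∃ H : Subgroup X, Cfsg.IsPiHallOf π H G := by
  obtain ⟨m, n, hmn, hm, hn⟩ := exists_pi_factorization π (Nat.card G) Nat.card_pos.ne'
  obtain ⟨H', hH'⟩ := hall_exists (G := G) m n hmn (hm.coprime hn)
  refine ⟨H'.map G.subtype, ?_⟩
  rw [isPiHallOf_iff]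
  have hcard : Nat.card (H'.map G.subtype : Subgroup X) = m := by
    rw [Subgroup.card_map_of_injective G.subtype_injective, hH']
  refine ⟨Subgroup.map_subtype_le _, hcard ▸ hm, ?_⟩
  have h1 : (H'.map G.subtype).relIndex G = H'.index := by
    show ((H'.map G.subtype).subgroupOf G).index = _
    congr 1
    exact Subgroup.comap_map_eq_self_of_injective G.subtype_injective _
  have hmpos : 0 < m := by
    rcases Nat.eq_zero_or_pos m with h | h
    · rw [h, zero_mul] at hmn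
      exact absurd hmn Nat.card_pos.ne'
    · exact h
  rw [h1, index_of_card_eq hmn hmpos H' hH']
  exact hn

lemma isPiHallOf_dominance (π : Set ℕ) (H G U : Subgroup X) (hs : Group.IsSolvable G)
    (hH : Cfsg.IsPiHallOf π H G) (hUG : U ≤ G) (hU : PiNum π (Nat.card U)) :
    ∃ g ∈ G, U ≤ H.map (MulAut.conj g).toMonoidHom := by
  rw [isPiHallOf_iff] at hH
  obtain ⟨h1, h2, h3⟩ := hH
  have hcardG : Nat.card G = Nat.card H * H.relIndex G := by
    rw [card_eq_relIndex_mul_card h1, mul_comm]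
  have hcH : Nat.card (H.subgroupOf G) = Nat.card H :=
    Nat.card_congr (Subgroup.subgroupOfEquivOfLe h1).toEquiv
  have hcU : Nat.card (U.subgroupOf G) = Nat.card U :=
    Nat.card_congr (Subgroup.subgroupOfEquivOfLe hUG).toEquiv
  obtain ⟨g, hg⟩ := hall_dominance (G := G) (Nat.card H) (H.relIndex G) hcardG (h2.coprime h3)
    (H.subgroupOf G) (U.subgroupOf G) hcH (hcU ▸ hU.coprime h3)
  refine ⟨(g : X), g.2, ?_⟩
  intro u hu
  have h4 : (⟨u, hUG hu⟩ : G) ∈ MulAut.conj g • H.subgroupOf G := hg (Subgroup.mem_subgroupOf.2 hu)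
  rw [mem_conj_smul, Subgroup.mem_subgroupOf] at h4
  rw [mem_map_conj_iff]
  simpa using h4

lemma isPiHallOf_conj (π : Set ℕ) (H₁ H₂ G : Subgroup X) (hs : Group.IsSolvable G)
    (h₁ : Cfsg.IsPiHallOf π H₁ G) (h₂ : Cfsg.IsPiHallOf π H₂ G) :
    ∃ g ∈ G, H₂ = H₁.map (MulAut.conj g).toMonoidHom := by
  have h₂' := (isPiHallOf_iff π H₂ G).1 h₂
  have h₁' := (isPiHallOf_iff π H₁ G).1 h₁
  obtain ⟨g, hg, hle⟩ := isPiHallOf_dominance π H₁ G H₂ hs h₁ h₂'.1 h₂'.2.1
  obtain ⟨g', hg', hle'⟩ := isPiHallOf_dominance π H₂ G H₁ hs h₂ h₁'.1 h₁'.2.1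
  refine ⟨g, hg, ?_⟩
  apply Subgroup.eq_of_le_of_card_ge hle
  rw [Subgroup.card_map_of_injective (MulAut.conj g).injective]
  have := Subgroup.card_le_of_le hle'
  rwa [Subgroup.card_map_of_injective (MulAut.conj g').injective] at this

/-- (a): existence of an invariant Hall subgroup -/
theorem exists_invariant_isPiHallOf (A G : Subgroup X) (hAG : A ≤ Subgroup.normalizer (G : Set X))
    (hcop : (Nat.card A).Coprime (Nat.card G)) (hsolv : Group.IsSolvable G) (π : Set ℕ) :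
    ∃ H : Subgroup X, Cfsg.IsPiHallOf π H G ∧ A ≤ Subgroup.normalizer (H : Set X) := by
  obtain ⟨H₀, hH₀⟩ := exists_isPiHallOf π G hsolv
  have hconj : ∀ a ∈ A, ∃ g ∈ G, H₀.map (MulAut.conj a).toMonoidHom = H₀.map (MulAut.conj g).toMonoidHom := by
    intro a ha
    exact isPiHallOf_conj π H₀ _ G hsolv hH₀ (isPiHallOf_map_conj π H₀ G hH₀ a (hAG ha))
  obtain ⟨g, hg, hgA⟩ := exists_conj_invariant A G H₀ hAG hcop (Or.inr hsolv) hconj
  exact ⟨_, isPiHallOf_map_conj π H₀ G hH₀ g (Subgroup.le_normalizer hg), hgA⟩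

/-- (b): invariant Hall subgroups are conjugate under the fixed points -/
theorem invariant_isPiHallOf_conj (A G : Subgroup X) (hAG : A ≤ Subgroup.normalizer (G : Set X))
    (hcop : (Nat.card A).Coprime (Nat.card G)) (hsolv : Group.IsSolvable G) (π : Set ℕ)
    (H₁ H₂ : Subgroup X) (h₁ : Cfsg.IsPiHallOf π H₁ G) (hA₁ : A ≤ Subgroup.normalizer (H₁ : Set X))
    (h₂ : Cfsg.IsPiHallOf π H₂ G) (hA₂ : A ≤ Subgroup.normalizer (H₂ : Set X)) :
    ∃ c ∈ G ⊓ Subgroup.centralizer (A : Set X), H₂ = H₁.map (MulAut.conj c).toMonoidHom := by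
  obtain ⟨g, hg, h12⟩ := isPiHallOf_conj π H₁ H₂ G hsolv h₁ h₂
  exact conj_centralizer_of_invariant A G H₁ H₂ hAG hcop (Or.inr hsolv) hA₁ hA₂ g hg h12

end bridge

end Cfsg.Agent.H1
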