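import Mathlib
import Cfsg.Agent.H1.Hall

/-! Tools for Sylow systems (helper1). -/

set_option autoImplicit false
open scoped Pointwise commutatorElement

namespace Cfsg.Agent.H1

lemma index_inf_of_coprime {G : Type*} [Group G] [Finite G] (H K : Subgroup G)
    (h : (H.index).Coprime K.index) : (H ⊓ K).index = H.index * K.index := by
  apply le_antisymm Subgroup.index_inf_le
  apply Nat.le_of_dvd (Nat.pos_of_ne_zero Subgroup.index_ne_zero_of_finite)
  exact h.mul_dvd_of_dvd_of_dvd (Subgroup.index_dvd_of_le inf_le_left) (Subgroup.index_dvd_of_le inf_le_right)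

lemma index_finset_inf {G : Type*} [Group G] [Finite G] (H : ℕ → Subgroup G) (e : ℕ → ℕ)
    (hH : ∀ q, (H q).index = q ^ e q) (s : Finset ℕ) (hs : ∀ q ∈ s, q.Prime) :
    (s.inf H).index = ∏ q ∈ s, q ^ e q := by
  induction s using Finset.induction_on with
  | empty => simp
  | insert q s hq ih =>
    have hs' : ∀ r ∈ s, r.Prime := fun r hr => hs r (Finset.mem_insert_of_mem hr)
    rw [Finset.inf_insert, Finset.prod_insert hq, ← ih hs', ← hH q]
    apply index_inf_of_coprime
    rw [ih hs', hH q]
    apply Nat.Coprime.prod_right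
    intro r hr
    apply Nat.Coprime.pow
    rw [Nat.coprime_primes (hs q (Finset.mem_insert_self q s)) (hs' r hr)]
    rintro rfl; exact hq hr

lemma pow_mul_prod_erase (n : ℕ) (hn : n ≠ 0) (p : ℕ) :
    p ^ n.factorization p * ∏ q ∈ n.primeFactors.erase p, q ^ n.factorization q = n := by
  by_cases hp : p ∈ n.primeFactors
  · rw [Finset.mul_prod_erase _ (fun q => q ^ n.factorization q) hp]
    exact Nat.prod_factorization_pow_eq_self hn
  · rw [Finset.erase_eq_of_notMem hp]
    have : n.factorization p = 0 := by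
      rw [← Nat.support_factorization] at hp
      exact Finsupp.notMem_support_iff.mp hp
    rw [this, pow_zero, one_mul]
    exact Nat.prod_factorization_pow_eq_self hn

lemma pow_mul_prod_erase' (s : Finset ℕ) (e : ℕ → ℕ) (q : ℕ) (h : q ∉ s → e q = 0) :
    q ^ e q * ∏ r ∈ s.erase q, r ^ e r = ∏ r ∈ s, r ^ e r := by
  by_cases hq : q ∈ s
  · exact Finset.mul_prod_erase _ (fun r => r ^ e r) hq
  · rw [Finset.erase_eq_of_notMem hq, h hq, pow_zero, one_mul]

lemma coe_mul_coe_eq_of_card {G : Type*} [Group G] [Finite G] (A B T : Subgroup G) (hA : A ≤ T) (hB : B ≤ T)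
    (hcard : Nat.card A * Nat.card B = Nat.card T) (hcop : (Nat.card A).Coprime (Nat.card B)) :
    (A : Set G) * (B : Set G) = (T : Set G) := by
  apply Set.Subset.antisymm
  · rintro _ ⟨a, ha, b, hb, rfl⟩
    exact mul_mem (hA ha) (hB hb)
  · intro t ht
    have hc : Subgroup.IsComplement' (A.subgroupOf T) (B.subgroupOf T) := by
      apply Subgroup.isComplement'_of_coprime
      · rw [card_subgroupOf_of_le hA, card_subgroupOf_of_le hB, hcard]
      · rw [card_subgroupOf_of_le hA, card_subgroupOf_of_le hB]; exact hcop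
    have h1 : (⟨t, ht⟩ : T) ∈ ((A.subgroupOf T : Subgroup T) : Set T) * ((B.subgroupOf T : Subgroup T) : Set T) := by
      rw [Subgroup.IsComplement.mul_eq hc]; trivial
    obtain ⟨a, ha, b, hb, hab⟩ := h1
    refine ⟨a, Subgroup.mem_subgroupOf.mp ha, b, Subgroup.mem_subgroupOf.mp hb, ?_⟩
    have := congrArg Subtype.val hab
    simpa using this

end Cfsg.Agent.H1
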