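import Mathlib
import Cfsg.Agent.H1.Basic
import Cfsg.Agent.H1.Card
import Cfsg.Agent.H1.SylowSystem
import Cfsg.Agent.H1.FrattiniExtra
import Cfsg.Agent.S0043
import Cfsg.Agent.Lib.helper3.Burnside

set_option autoImplicit false

namespace Cfsg.Agent.H1

universe u

lemma relIndex_dvd_index_of_normal_right {X : Type*} [Group X] [Finite X] (C N : Subgroup X) [N.Normal] :
    C.relIndex N ∣ C.index := by
  have hn : C ≤ Subgroup.normalizer (N : Set X) := by
    rw [Subgroup.normalizer_eq_top]; exact le_top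
  have := relIndex_inf_eq_relIndex_sup C N hn
  rw [Subgroup.inf_relIndex_right] at this
  rw [this]
  exact Dvd.intro _ (Subgroup.relIndex_mul_index (le_sup_left : C ≤ C ⊔ N))

/-- a normal `p`-subgroup lies in every subgroup of index prime to `p` -/
lemma normal_pgroup_le_of_coprime_index {X : Type*} [Group X] [Finite X] {p : ℕ} [Fact p.Prime]
    (N K : Subgroup X) [N.Normal] (hN : IsPGroup p N) (hK : K.index.Coprime p) : N ≤ K := by
  rw [← Subgroup.relIndex_eq_one]
  have h1 : K.relIndex N ∣ Nat.card N := Subgroup.relIndex_dvd_card K N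
  have h2 : K.relIndex N ∣ K.index := relIndex_dvd_index_of_normal_right K N
  obtain ⟨k, hk⟩ := hN.exists_card_eq
  rw [hk] at h1
  have h3 : (K.relIndex N).Coprime (p ^ k) := (Nat.Coprime.coprime_dvd_left h2 hK).pow_right k
  exact Nat.Coprime.eq_one_of_dvd h3 h1

/-- `relIndex` equals index when the indices are coprime -/
lemma relIndex_eq_index_of_coprime {X : Type*} [Group X] [Finite X] (H K : Subgroup X)
    (h : H.index.Coprime K.index) : H.relIndex K = H.index := by
  have h1 := index_inf_of_coprime H K h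
  have h2 : (H ⊓ K).relIndex K * K.index = (H ⊓ K).index := Subgroup.relIndex_mul_index inf_le_right
  rw [Subgroup.inf_relIndex_right, h1] at h2
  exact Nat.eq_of_mul_eq_mul_right (Nat.pos_of_ne_zero Subgroup.index_ne_zero_of_finite) h2

/-- every prime has a complement -/
def HasPComplements (G : Type u) [Group G] : Prop :=
  ∀ p : ℕ, p.Prime → ∃ H : Subgroup G, (∃ c : ℕ, H.index = p ^ c) ∧ (Nat.card H).Coprime p

theorem hasPComplements_quotient {X : Type u} [Group X] [Finite X] (h : HasPComplements X)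
    (N : Subgroup X) [N.Normal] : HasPComplements (X ⧸ N) := by
  intro p hp
  obtain ⟨H, ⟨c, hc⟩, hcop⟩ := h p hp
  refine ⟨H.map (QuotientGroup.mk' N), ?_, ?_⟩
  · have h2 := Subgroup.index_map_dvd H (QuotientGroup.mk'_surjective N)
    rw [hc] at h2
    obtain ⟨j, _, hj⟩ := (Nat.dvd_prime_pow hp).mp h2
    exact ⟨j, hj⟩
  · exact Nat.Coprime.coprime_dvd_left (Subgroup.card_map_dvd _ _) hcop

theorem hasPComplements_complement {X : Type u} [Group X] [Finite X] (h : HasPComplements X)
    {p1 : ℕ} (hp1 : p1.Prime) (H1 : Subgroup X) (a : ℕ) (ha : H1.index = p1 ^ a)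
    (hcop1 : (Nat.card H1).Coprime p1) : HasPComplements H1 := by
  intro p hp
  by_cases hpp : p = p1
  · subst hpp
    refine ⟨⊤, ⟨0, by simp⟩, ?_⟩
    rw [Subgroup.card_top]; exact hcop1
  · obtain ⟨H, ⟨c, hc⟩, hcop⟩ := h p hp
    refine ⟨H.subgroupOf H1, ⟨c, ?_⟩, ?_⟩
    · have h1 : (H.subgroupOf H1).index = H.relIndex H1 := rfl
      rw [h1, relIndex_eq_index_of_coprime H H1 _, hc]
      rw [hc, ha]
      exact Nat.Coprime.pow _ _ ((Nat.coprime_primes hp hp1).mpr hpp)
    · have h1 : Nat.card (H.subgroupOf H1) ∣ Nat.card H := by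
        rw [← Subgroup.inf_subgroupOf_right,
          Nat.card_congr (Subgroup.subgroupOfEquivOfLe (inf_le_right : H ⊓ H1 ≤ H1)).toEquiv]
        exact Subgroup.card_dvd_of_le inf_le_left
      exact Nat.Coprime.coprime_dvd_left h1 hcop

lemma exists_pow_mul_pow_of_prime_dvd {n p q : ℕ} (hn : n ≠ 0) (hp : p.Prime) (hq : q.Prime)
    (h : ∀ r : ℕ, r.Prime → r ∣ n → r = p ∨ r = q) : ∃ a b : ℕ, n = p ^ a * q ^ b := by
  have h1 := Nat.ordProj_mul_ordCompl_eq_self n p
  set m := n / p ^ n.factorization p with hm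
  have hm0 : m ≠ 0 := by
    intro h0; rw [h0, mul_zero] at h1; exact hn h1.symm
  have h2 := Nat.ordProj_mul_ordCompl_eq_self m q
  set k := m / q ^ m.factorization q with hk
  have hk0 : k ≠ 0 := by
    intro h0; rw [h0, mul_zero] at h2; exact hm0 h2.symm
  have hk1 : k = 1 := by
    rw [Nat.eq_one_iff_not_exists_prime_dvd]
    intro r hr hrk
    have hrm : r ∣ m := h2 ▸ Dvd.dvd.mul_left hrk _
    have hrn : r ∣ n := h1 ▸ Dvd.dvd.mul_left hrm _
    rcases h r hr hrn with rfl | rfl
    · exact Nat.not_dvd_ordCompl hr hn hrm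
    · exact Nat.not_dvd_ordCompl hr hm0 hrk
  refine ⟨n.factorization p, m.factorization q, ?_⟩
  rw [hk1, mul_one] at h2
  rw [h2]; exact h1.symm

theorem solvable_of_hasPComplements_aux : ∀ n : ℕ, ∀ (X : Type u) [Group X] [Finite X], Nat.card X = n →
    HasPComplements X → Group.IsSolvable X := by
  intro n
  induction n using Nat.strong_induction_on with
  | _ n ih =>
    intro X _ _ hn hPC
    by_cases htriv : Subsingleton X
    · infer_instance
    have hnt : Nontrivial X := not_subsingleton_iff_nontrivial.mp htriv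
    have hn1 : 1 < Nat.card X := Finite.one_lt_card
    obtain ⟨p1, hp1, hp1n⟩ := Nat.exists_prime_and_dvd (by omega : Nat.card X ≠ 1)
    obtain ⟨H1, ⟨a, ha⟩, hcop1⟩ := hPC p1 hp1
    have hlt_of_ne_top : ∀ H : Subgroup X, H ≠ ⊤ → Nat.card H < n := by
      intro H hH
      rw [← hn]
      rcases (Subgroup.card_le_card_group H).lt_or_eq with h | h
      · exact h
      · exact absurd (Subgroup.card_eq_iff_eq_top H |>.mp h) hH
    have hne_top_of : ∀ (p : ℕ) (hp : p.Prime) (H : Subgroup X), p ∣ Nat.card X → (Nat.card H).Coprime p → H ≠ ⊤ := by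
      intro p hp H hpn hcop
      rintro rfl
      rw [Subgroup.card_top] at hcop
      exact hp.one_lt.ne' (Nat.Coprime.eq_one_of_dvd hcop.symm hpn)
    have hH1top : H1 ≠ ⊤ := hne_top_of p1 hp1 H1 hp1n hcop1
    have hH1PC := hasPComplements_complement hPC hp1 H1 a ha hcop1
    have hH1sol : Group.IsSolvable H1 := ih _ (hlt_of_ne_top H1 hH1top) H1 rfl hH1PC
    by_cases hH1bot : H1 = ⊥
    · -- p-group
      have hcard : Nat.card X = p1 ^ a := by rw [← ha, hH1bot, Subgroup.index_bot]
      haveI : Fact p1.Prime := ⟨hp1⟩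
      have hp : IsPGroup p1 X := IsPGroup.of_card hcard
      haveI := hp.isNilpotent
      infer_instance
    -- minimal normal subgroup of H1
    have htopne : (⊤ : Subgroup H1) ≠ ⊥ := by
      intro h
      apply hH1bot
      rw [← Subgroup.subgroupOf_self, Subgroup.subgroupOf_eq_bot, disjoint_self] at h
      exact h
    obtain ⟨N, hNn, hNbot, -, hNmin⟩ := exists_minimal_normal_le (⊤ : Subgroup H1) htopne
    obtain ⟨-, p2, hp2, hNexp⟩ := Cfsg.Agent.S0043.result N hNbot (fun M hM hMN => hNmin M hM hMN)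
    haveI : Fact p2.Prime := ⟨hp2⟩
    have hNp : IsPGroup p2 N := by
      intro x
      refine ⟨1, ?_⟩
      rw [pow_one]
      exact Subtype.ext (hNexp x x.2)
    have hp2N : p2 ∣ Nat.card N := by
      obtain ⟨k, hk⟩ := hNp.exists_card_eq
      have hk0 : k ≠ 0 := by
        rintro rfl
        rw [pow_zero] at hk
        exact hNbot (Subgroup.card_eq_one.mp hk)
      rw [hk]; exact dvd_pow_self p2 hk0
    have hp2H1 : p2 ∣ Nat.card H1 := hp2N.trans (Subgroup.card_subgroup_dvd_card N)
    have hp21 : p2 ≠ p1 := by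
      rintro rfl
      exact hp2.one_lt.ne' (Nat.Coprime.eq_one_of_dvd hcop1.symm hp2H1)
    by_cases h3 : ∃ p3 : ℕ, p3.Prime ∧ p3 ∣ Nat.card X ∧ p3 ≠ p1 ∧ p3 ≠ p2
    · obtain ⟨p3, hp3, hp3n, hp31, hp32⟩ := h3
      obtain ⟨H3, ⟨c, hc⟩, hcop3⟩ := hPC p3 hp3
      have hH3top : H3 ≠ ⊤ := hne_top_of p3 hp3 H3 hp3n hcop3
      have hH3PC := hasPComplements_complement hPC hp3 H3 c hc hcop3
      have hH3sol : Group.IsSolvable H3 := ih _ (hlt_of_ne_top H3 hH3top) H3 rfl hH3PC
      -- N (mapped to X) lies in every conjugate of H3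
      have hNle : N.map H1.subtype ≤ H3.normalCore := by
        rw [Subgroup.normalCore_eq_iInf_map_conj]
        apply le_iInf
        intro g
        have hidx : (H3.map (MulAut.conj g : X →* X)).index = p3 ^ c := by
          rw [Subgroup.index_map_equiv, hc]
        have hcopidx : (H3.map (MulAut.conj g : X →* X)).index.Coprime H1.index := by
          rw [hidx, ha]
          exact Nat.Coprime.pow _ _ ((Nat.coprime_primes hp3 hp1).mpr hp31)
        have hrel := relIndex_eq_index_of_coprime _ _ hcopidx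
        have hK : ((H3.map (MulAut.conj g : X →* X)).subgroupOf H1).index.Coprime p2 := by
          have h1 : ((H3.map (MulAut.conj g : X →* X)).subgroupOf H1).index =
            (H3.map (MulAut.conj g : X →* X)).relIndex H1 := rfl
          rw [h1, hrel, hidx]
          exact Nat.Coprime.pow_left _ ((Nat.coprime_primes hp3 hp2).mpr hp32)
        have hle := normal_pgroup_le_of_coprime_index N _ hNp hK
        rintro _ ⟨x, hx, rfl⟩
        exact hle hx
      set M : Subgroup X := H3.normalCore with hM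
      have hMbot : M ≠ ⊥ := by
        intro h
        rw [h, le_bot_iff, Subgroup.map_eq_bot_iff_of_injective _ H1.subtype_injective] at hNle
        exact hNbot hNle
      have hMle : M ≤ H3 := Subgroup.normalCore_le H3
      have s1 : Group.IsSolvable M :=
        Group.isSolvable_of_isSolvable_injective (Subgroup.inclusion_injective hMle)
      have hQlt : Nat.card (X ⧸ M) < n := by
        rw [← hn, ← Subgroup.index_eq_card, ← Subgroup.card_mul_index M]
        have h1 : 1 < Nat.card M := by
          rw [Subgroup.one_lt_card_iff_ne_bot]; exact hMbot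
        have h2 : 0 < M.index := Nat.pos_of_ne_zero Subgroup.index_ne_zero_of_finite
        nlinarith
      have s2 : Group.IsSolvable (X ⧸ M) := ih _ hQlt (X ⧸ M) rfl (hasPComplements_quotient hPC M)
      refine Group.isSolvable_of_ker_le_range M.subtype (QuotientGroup.mk' M) ?_
      rw [QuotientGroup.ker_mk', Subgroup.range_subtype]
    · -- only two primes: Burnside
      have hab : ∃ a b : ℕ, Nat.card X = p1 ^ a * p2 ^ b := by
        apply exists_pow_mul_pow_of_prime_dvd (by omega) hp1 hp2
        intro r hr hrn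
        by_contra hcon
        rw [not_or] at hcon
        exact h3 ⟨r, hr, hrn, hcon.1, hcon.2⟩
      exact Cfsg.Agent.Lib.helper3.Burnside.isSolvable_of_card_eq p1 p2 hp1 hp2 _ X rfl hab

theorem hasPComplements_of_index {G : Type u} [Group G] [Finite G]
    (h : ∀ p : ℕ, p.Prime → ∃ H : Subgroup G, H.index = p ^ (Nat.card G).factorization p) :
    HasPComplements G := by
  intro p hp
  obtain ⟨H, hH⟩ := h p hp
  refine ⟨H, ⟨_, hH⟩, ?_⟩
  have h1 := H.card_mul_index
  rw [hH] at h1
  have hn : Nat.card G ≠ 0 := Nat.card_pos.ne'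
  have h2 : Nat.card H = Nat.card G / p ^ (Nat.card G).factorization p := by
    exact (Nat.div_eq_of_eq_mul_left (pow_pos hp.pos _) h1.symm).symm
  rw [h2]
  exact (Nat.coprime_ordCompl hp hn).symm


end Cfsg.Agent.H1
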