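import Mathlib
import Cfsg.Agent.H1.Basic

/-! Core-free maximal subgroups (helper1). -/

set_option autoImplicit false
open scoped Pointwise commutatorElement

namespace Cfsg.Agent.H1

/-- core-free maximal subgroup: a normal subgroup inside it is trivial -/
lemma eq_bot_of_normal_le_corefree {G : Type*} [Group G] (U : Subgroup G) (hcore : U.normalCore = ⊥)
    (K : Subgroup G) (hK : K.Normal) (hKU : K ≤ U) : K = ⊥ := by
  rw [eq_bot_iff, ← hcore]
  exact Subgroup.normal_le_normalCore.mpr hKU

lemma sup_eq_top_of_normal_corefree {G : Type*} [Group G] (U : Subgroup G) (hU : IsCoatom U)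
    (hcore : U.normalCore = ⊥) (K : Subgroup G) (hK : K.Normal) (hne : K ≠ ⊥) : K ⊔ U = ⊤ := by
  by_contra h
  have h1 : U ≤ K ⊔ U := le_sup_right
  rcases eq_or_lt_of_le h1 with h2 | h2
  · exact hne (eq_bot_of_normal_le_corefree U hcore K hK (by rw [h2]; exact le_sup_left))
  · exact h (hU.2 _ h2)

/-- S0549 part 1 -/
lemma centralizer_inf_corefree {G : Type*} [Group G] (U : Subgroup G) (hU : IsCoatom U)
    (hcore : U.normalCore = ⊥) (N : Subgroup G) [hNn : N.Normal] (hN : N ≠ ⊥) :
    Subgroup.centralizer (N : Set G) ⊓ U = ⊥ := by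
  have hCn : (Subgroup.centralizer (N : Set G)).Normal := inferInstance
  apply eq_bot_of_normal_le_corefree U hcore _ _ inf_le_right
  rw [← Subgroup.normalizer_eq_top_iff, eq_top_iff, ← sup_eq_top_of_normal_corefree U hU hcore N hNn hN]
  apply sup_le
  · -- N centralizes
    intro n hn
    rw [Subgroup.mem_normalizer_iff]
    intro x
    constructor
    · intro hx
      have hxc := (Subgroup.mem_inf.mp hx).1
      have : n * x * n⁻¹ = x := by
        rw [Subgroup.mem_centralizer_iff] at hxc
        rw [hxc n hn]; group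
      rw [this]; exact hx
    · intro hx
      have hxc := (Subgroup.mem_inf.mp hx).1
      have h1 : x = n * x * n⁻¹ := by
        rw [Subgroup.mem_centralizer_iff] at hxc
        have := hxc n hn
        calc x = n⁻¹ * ((n * x * n⁻¹) * n) := by group
          _ = n⁻¹ * (n * (n * x * n⁻¹)) := by rw [this]
          _ = _ := by group
      rw [h1]; exact hx
  · intro u hu
    rw [Subgroup.mem_normalizer_iff]
    intro x
    constructor
    · intro hx
      exact Subgroup.mem_inf.mpr ⟨hCn.conj_mem _ (Subgroup.mem_inf.mp hx).1 u,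
        mul_mem (mul_mem hu (Subgroup.mem_inf.mp hx).2) (inv_mem hu)⟩
    · intro hx
      have e : x = u⁻¹ * (u * x * u⁻¹) * u⁻¹⁻¹ := by group
      rw [e]
      exact Subgroup.mem_inf.mpr ⟨hCn.conj_mem _ (Subgroup.mem_inf.mp hx).1 u⁻¹,
        mul_mem (mul_mem (inv_mem hu) (Subgroup.mem_inf.mp hx).2) (inv_mem (inv_mem hu))⟩

lemma normalizer_conj_smul {G : Type*} [Group G] (g : G) (H : Subgroup G) :
    Subgroup.normalizer ((MulAut.conj g • H : Subgroup G) : Set G) = MulAut.conj g • Subgroup.normalizer (H : Set G) := by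
  rw [conj_smul_eq_map, conj_smul_eq_map]
  exact (Subgroup.map_normalizer_eq_of_bijective H (MulAut.conj g).bijective).symm

end Cfsg.Agent.H1
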