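import Mathlib
import Cfsg.Prelude.Def_Solvable
import Cfsg.Agent.H1.GlaubermanConj
import Cfsg.Agent.Lib.Helper7.Core
import Cfsg.Agent.H1.MinNonPClosed

set_option autoImplicit false

namespace Cfsg.Agent.H1

open scoped Pointwise

section primsub
variable {G : Type*} [Group G] [Finite G]

/-- a `p`-group `Q` normalizing `N` with `p ∣ |N|` has nontrivial fixed points on `N` -/
lemma exists_fixed_of_pgroup_of_dvd_card {p : ℕ} [Fact p.Prime] (Q N : Subgroup G) [hN : N.Normal]
    (hQ : IsPGroup p Q) (hdvd : p ∣ Nat.card N) :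
    ∃ b ∈ N, b ≠ 1 ∧ ∀ a ∈ Q, a * b = b * a := by
  letI : MulAction Q N := MulAction.compHom N ((MulAut.conjNormal : G →* MulAut N).comp Q.subtype)
  have hsmul : ∀ (a : Q) (n : N), ((a • n : N) : G) = (a : G) * n * (a : G)⁻¹ := fun a n => rfl
  have hfix : (1 : N) ∈ MulAction.fixedPoints Q N := by
    intro a
    apply Subtype.ext
    rw [hsmul]
    simp
  obtain ⟨b, hb, hb1⟩ := hQ.exists_fixed_point_of_prime_dvd_card_of_fixed_point N hdvd hfix
  refine ⟨(b : G), b.2, ?_, ?_⟩
  · intro h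
    apply hb1
    exact Subtype.ext h.symm
  · intro a ha
    have := congrArg Subtype.val (hb ⟨a, ha⟩)
    rw [hsmul] at this
    calc a * (b : G) = (a * (b : G) * a⁻¹) * a := by group
      _ = (b : G) * a := by rw [this]

/-- uniqueness of invariant "Sylow subgroups of `N`" under a fixed-point-free coprime action -/
lemma sylow_invariant_unique {q : ℕ} [Fact q.Prime] (Q N S₁ S₂ : Subgroup G) [hN : N.Normal]
    (hcop : (Nat.card Q).Coprime (Nat.card N)) (hsolv : Group.IsSolvable Q)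
    (hfpf : N ⊓ Subgroup.centralizer (Q : Set G) = ⊥)
    (hS₁N : S₁ ≤ N) (hS₁ : IsPGroup q S₁) (hS₁i : ¬ q ∣ S₁.relIndex N)
    (hS₂N : S₂ ≤ N) (hS₂ : IsPGroup q S₂) (hS₂i : ¬ q ∣ S₂.relIndex N)
    (h₁ : Q ≤ Subgroup.normalizer (S₁ : Set G)) (h₂ : Q ≤ Subgroup.normalizer (S₂ : Set G)) :
    S₂ = S₁ := by
  obtain ⟨k, hk, hle⟩ := exists_le_map_conj_of_pgroup N S₁ S₂ hS₁N hS₁ hS₁i hS₂N hS₂
  obtain ⟨k', hk', hle'⟩ := exists_le_map_conj_of_pgroup N S₂ S₁ hS₂N hS₂ hS₂i hS₁N hS₁
  have hc1 : Nat.card S₂ ≤ Nat.card S₁ := by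
    have := Subgroup.card_le_of_le hle
    rwa [Subgroup.card_map_of_injective (MulAut.conj k).injective] at this
  have hc2 : Nat.card S₁ ≤ Nat.card S₂ := by
    have := Subgroup.card_le_of_le hle'
    rwa [Subgroup.card_map_of_injective (MulAut.conj k').injective] at this
  have heq : S₂ = S₁.map (MulAut.conj k).toMonoidHom := by
    apply Subgroup.eq_of_le_of_card_ge hle
    rw [Subgroup.card_map_of_injective (MulAut.conj k).injective]
    exact hc2
  obtain ⟨c, hc, hcc⟩ := conj_centralizer_of_invariant Q N S₁ S₂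
    (le_trans le_top (Subgroup.normalizer_eq_top_iff.2 hN).ge) hcop (Or.inl hsolv) h₁ h₂ k hk heq
  rw [hfpf, Subgroup.mem_bot] at hc
  rw [hcc, hc, map_conj_one]

theorem primitive_subgroup_disjoint_normal (M : Subgroup G) (hM : M ≠ ⊤)
    (hprim : ∀ N : Subgroup G, N ≤ M → M ≤ Subgroup.normalizer (N : Set G) → N ≠ ⊥ →
      Subgroup.normalizer (N : Set G) = M)
    {p : ℕ} [Fact p.Prime] (hOp : Cfsg.pCore p ↥M ≠ ⊥) (N : Subgroup G) [hNn : N.Normal]
    (hMN : M ⊓ N = ⊥) :
    ¬ p ∣ Nat.card N ∧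
    (∀ q : ℕ, [Fact q.Prime] → ∃! Q : Sylow q ↥N,
      M ≤ Subgroup.normalizer ((Q : Subgroup ↥N).map N.subtype : Set G)) ∧
    ((∃ q r : ℕ, q.Prime ∧ r.Prime ∧ q ≠ r ∧ q ∣ Nat.card N ∧ r ∣ Nat.card N) → ¬ IsCoatom M) := by
  classical
  have hp : p.Prime := Fact.out
  obtain ⟨Q, hQdef⟩ : ∃ Q : Subgroup G, Q = (Cfsg.pCore p ↥M).map M.subtype := ⟨_, rfl⟩
  have hQM : Q ≤ M := hQdef ▸ Subgroup.map_subtype_le _
  have hQne : Q ≠ ⊥ := by
    rw [hQdef]
    intro h
    apply hOp
    rw [eq_bot_iff]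
    intro x hx
    have : (x : G) ∈ (Cfsg.pCore p ↥M).map M.subtype := Subgroup.mem_map.2 ⟨x, hx, rfl⟩
    rw [h, Subgroup.mem_bot] at this
    rw [Subgroup.mem_bot]
    exact Subtype.ext this
  have hQp : IsPGroup p Q := by
    rw [hQdef]
    exact (Cfsg.Agent.Lib.Helper7.pCore_isPGroup p M).map _
  have hMQ : M ≤ Subgroup.normalizer (Q : Set G) := by
    intro m hm
    apply mem_normalizer_of_conj_mem
    intro b hb
    rw [hQdef] at hb ⊢
    obtain ⟨y, hy, rfl⟩ := Subgroup.mem_map.1 hb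
    have := (Cfsg.Agent.Lib.Helper7.pCore_normal p M).conj_mem y hy ⟨m, hm⟩
    exact Subgroup.mem_map.2 ⟨_, this, rfl⟩
  have hNQ : Subgroup.normalizer (Q : Set G) = M := hprim Q hQM hMQ hQne
  have hfpf : N ⊓ Subgroup.centralizer (Q : Set G) = ⊥ := by
    rw [eq_bot_iff]
    intro c hc
    obtain ⟨hcN, hcC⟩ := Subgroup.mem_inf.1 hc
    have h1 : c ∈ Subgroup.normalizer (Q : Set G) := (Subgroup.centralizer_le_normalizer (Q : Set G)) hcC
    rw [hNQ] at h1
    have : c ∈ M ⊓ N := Subgroup.mem_inf.2 ⟨h1, hcN⟩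
    rwa [hMN] at this
  have hpN : ¬ p ∣ Nat.card N := by
    intro hdvd
    obtain ⟨b, hbN, hb1, hbc⟩ := exists_fixed_of_pgroup_of_dvd_card Q N hQp hdvd
    have : b ∈ N ⊓ Subgroup.centralizer (Q : Set G) := by
      refine Subgroup.mem_inf.2 ⟨hbN, ?_⟩
      rw [Subgroup.mem_centralizer_iff]
      exact hbc
    rw [hfpf, Subgroup.mem_bot] at this
    exact hb1 this
  have hcop : (Nat.card Q).Coprime (Nat.card N) := by
    obtain ⟨k, hk⟩ := IsPGroup.iff_card.1 hQp
    rw [hk]
    exact Nat.Coprime.pow_left k ((Nat.Prime.coprime_iff_not_dvd hp).2 hpN)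
  have hQsolv : Group.IsSolvable Q := by
    haveI : Group.IsNilpotent Q := hQp.isNilpotent
    infer_instance
  have hQN : Q ≤ Subgroup.normalizer (N : Set G) :=
    le_trans le_top (Subgroup.normalizer_eq_top_iff.2 hNn).ge
  -- existence and uniqueness of invariant Sylow subgroups
  have key : ∀ q : ℕ, [Fact q.Prime] → ∃ S : Subgroup G, S ≤ N ∧ IsPGroup q S ∧ ¬ q ∣ S.relIndex N ∧
      M ≤ Subgroup.normalizer (S : Set G) ∧
      ∀ S' : Subgroup G, S' ≤ N → IsPGroup q S' → ¬ q ∣ S'.relIndex N →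
        Q ≤ Subgroup.normalizer (S' : Set G) → S' = S := by
    intro q hq
    obtain ⟨S₀⟩ : Nonempty (Sylow q N) := inferInstance
    obtain ⟨H₀, hH₀def⟩ : ∃ H₀ : Subgroup G, H₀ = (S₀ : Subgroup N).map N.subtype := ⟨_, rfl⟩
    have hH₀N : H₀ ≤ N := hH₀def ▸ Subgroup.map_subtype_le _
    have hH₀q : IsPGroup q H₀ := hH₀def ▸ S₀.isPGroup'.map _
    have hH₀i : ¬ q ∣ H₀.relIndex N := by
      have : H₀.subgroupOf N = (S₀ : Subgroup N) := by
        rw [hH₀def]
        exact Subgroup.comap_map_eq_self_of_injective N.subtype_injective _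
      show ¬ q ∣ (H₀.subgroupOf N).index
      rw [this]
      exact S₀.not_dvd_index
    -- transport of the Sylow property along conjugation
    have htrans : ∀ (S : Subgroup G) (g : G), S ≤ N → IsPGroup q S → ¬ q ∣ S.relIndex N →
        (S.map (MulAut.conj g).toMonoidHom ≤ N ∧ IsPGroup q (S.map (MulAut.conj g).toMonoidHom : Subgroup G) ∧
          ¬ q ∣ (S.map (MulAut.conj g).toMonoidHom).relIndex N) := by
      intro S g hSN hSq hSi
      have h1 : S.map (MulAut.conj g).toMonoidHom ≤ N := by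
        intro x hx
        obtain ⟨y, hy, rfl⟩ := Subgroup.mem_map.1 hx
        exact hNn.conj_mem y (hSN hy) g
      refine ⟨h1, hSq.map _, ?_⟩
      have h2 := card_eq_relIndex_mul_card hSN
      have h3 := card_eq_relIndex_mul_card h1
      rw [Subgroup.card_map_of_injective (MulAut.conj g).injective] at h3
      have h4 : (S.map (MulAut.conj g).toMonoidHom).relIndex N = S.relIndex N := by
        have hpos : 0 < Nat.card S := Nat.card_pos
        rw [h2] at h3
        exact (Nat.eq_of_mul_eq_mul_right hpos h3).symm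
      rw [h4]
      exact hSi
    have hconj : ∀ a ∈ Q, ∃ g ∈ N, H₀.map (MulAut.conj a).toMonoidHom = H₀.map (MulAut.conj g).toMonoidHom := by
      intro a _
      obtain ⟨h1, h2, h3⟩ := htrans H₀ a hH₀N hH₀q hH₀i
      obtain ⟨k, hk, hle⟩ := exists_le_map_conj_of_pgroup N H₀ _ hH₀N hH₀q hH₀i h1 h2
      refine ⟨k, hk, ?_⟩
      apply Subgroup.eq_of_le_of_card_ge hle
      rw [Subgroup.card_map_of_injective (MulAut.conj k).injective,
        Subgroup.card_map_of_injective (MulAut.conj a).injective]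
    obtain ⟨g, hg, hgQ⟩ := exists_conj_invariant Q N H₀ hQN hcop (Or.inl hQsolv) hconj
    obtain ⟨S, hSdef⟩ : ∃ S : Subgroup G, S = H₀.map (MulAut.conj g).toMonoidHom := ⟨_, rfl⟩
    rw [← hSdef] at hgQ
    obtain ⟨hSN, hSq, hSi⟩ := hSdef ▸ htrans H₀ g hH₀N hH₀q hH₀i
    have huniq : ∀ S' : Subgroup G, S' ≤ N → IsPGroup q S' → ¬ q ∣ S'.relIndex N →
        Q ≤ Subgroup.normalizer (S' : Set G) → S' = S := by
      intro S' h1 h2 h3 h4
      exact sylow_invariant_unique Q N S S' hcop hQsolv hfpf hSN hSq hSi h1 h2 h3 hgQ h4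
    refine ⟨S, hSN, hSq, hSi, ?_, huniq⟩
    intro m hm
    obtain ⟨h1, h2, h3⟩ := htrans S m hSN hSq hSi
    have h4 : Q ≤ Subgroup.normalizer ((S.map (MulAut.conj m).toMonoidHom : Subgroup G) : Set G) := by
      intro a ha
      rw [← map_conj_eq_self_iff, map_conj_map_conj]
      have h5 : m⁻¹ * a * m ∈ Q := by
        have := hMQ (inv_mem hm)
        rw [Subgroup.mem_normalizer_iff] at this
        have h6 := (this a).1 ha
        simpa using h6
      have h6 := hgQ h5
      rw [← map_conj_eq_self_iff] at h6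
      have e : a * m = m * (m⁻¹ * a * m) := by group
      rw [e, ← map_conj_map_conj, h6]
    have h5 := huniq _ h1 h2 h3 h4
    rw [← map_conj_eq_self_iff]
    exact h5
  refine ⟨hpN, ?_, ?_⟩
  · intro q hq
    obtain ⟨S, hSN, hSq, hSi, hSM, hSu⟩ := key q
    have hSq' : IsPGroup q (S.subgroupOf N) := hSq.comap_subtype
    have hSi' : ¬ q ∣ (S.subgroupOf N).index := hSi
    have hmap : ((hSq'.toSylow hSi' : Sylow q N) : Subgroup N).map N.subtype = S := by
      rw [IsPGroup.toSylow_coe, Subgroup.subgroupOf_map_subtype]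
      exact inf_eq_left.2 hSN
    refine ⟨hSq'.toSylow hSi', ?_, ?_⟩
    · show M ≤ Subgroup.normalizer (((hSq'.toSylow hSi' : Sylow q N) : Subgroup N).map N.subtype : Set G)
      rw [hmap]
      exact hSM
    · intro Q'' hQ''
      have h1 : (Q'' : Subgroup N).map N.subtype ≤ N := Subgroup.map_subtype_le _
      have h2 : IsPGroup q ((Q'' : Subgroup N).map N.subtype : Subgroup G) := Q''.isPGroup'.map _
      have h3 : ¬ q ∣ ((Q'' : Subgroup N).map N.subtype).relIndex N := by
        have : ((Q'' : Subgroup N).map N.subtype).subgroupOf N = (Q'' : Subgroup N) :=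
          Subgroup.comap_map_eq_self_of_injective N.subtype_injective _
        show ¬ q ∣ (((Q'' : Subgroup N).map N.subtype).subgroupOf N).index
        rw [this]
        exact Q''.not_dvd_index
      have h4 := hSu _ h1 h2 h3 (hQM.trans hQ'')
      apply Sylow.ext
      apply Subgroup.map_injective N.subtype_injective
      rw [h4, hmap]
  · rintro ⟨q, r, hq, hr, hqr, hqN, hrN⟩ hco
    haveI : Fact q.Prime := ⟨hq⟩
    obtain ⟨S, hSN, hSq, hSi, hSM, -⟩ := key q
    -- S ≠ ⊥
    have hSne : S ≠ ⊥ := by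
      intro h
      apply hSi
      rw [h, Subgroup.relIndex_bot_left]
      exact hqN
    have hSneN : S ≠ N := by
      intro h
      obtain ⟨k, hk⟩ := IsPGroup.iff_card.1 hSq
      rw [h] at hk
      rw [hk] at hrN
      exact hqr ((Nat.prime_dvd_prime_iff_eq hr hq).1 (hr.dvd_of_dvd_pow hrN)).symm
    have hlt : M < M ⊔ S := by
      apply lt_of_le_of_ne le_sup_left
      intro h
      have hSM' : S ≤ M := by rw [h]; exact le_sup_right
      apply hSne
      rw [eq_bot_iff, ← hMN]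
      exact le_inf hSM' hSN
    have htop := hco.2 _ hlt
    apply hSneN
    apply le_antisymm hSN
    intro x hx
    have hx' : x ∈ S ⊔ M := by rw [sup_comm, htop]; exact Subgroup.mem_top x
    obtain ⟨s, hs, m, hm, rfl⟩ := (mem_sup_of_le_normalizer S M hSM).1 hx'
    have hmN : m ∈ N := by
      have : m = s⁻¹ * (s * m) := by group
      rw [this]
      exact mul_mem (inv_mem (hSN hs)) hx
    have : m ∈ M ⊓ N := Subgroup.mem_inf.2 ⟨hm, hmN⟩
    rw [hMN, Subgroup.mem_bot] at this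
    rw [this, mul_one]
    exact hs

end primsub

end Cfsg.Agent.H1
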