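import Mathlib
import Cfsg.Agent.H1.CoprimeAction
import Cfsg.Agent.H1.SylowMore
import Cfsg.Agent.S0023

set_option autoImplicit false
open scoped Pointwise commutatorElement

namespace Cfsg.Agent.H1

/-- an `A`-invariant `p`-subgroup of `K` lies in an `A`-invariant `p`-subgroup of `p'`-index -/
lemma invariant_pgroup_le_invariant_sylow_aux {G : Type*} [Group G] [Finite G] (A K : Subgroup G)
    (hAK : A ≤ Subgroup.normalizer (K : Set G))
    (hcop : (Nat.card A).Coprime (Nat.card K)) (hsolv : Group.IsSolvable A ∨ Group.IsSolvable K)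
    (p : ℕ) [Fact p.Prime] : ∀ d : ℕ, ∀ U : Subgroup G, U ≤ K → IsPGroup p U → A ≤ Subgroup.normalizer (U : Set G) →
      U.relIndex K = d →
      ∃ S : Subgroup G, S ≤ K ∧ U ≤ S ∧ IsPGroup p S ∧ A ≤ Subgroup.normalizer (S : Set G) ∧ ¬ p ∣ S.relIndex K := by
  intro d
  induction d using Nat.strong_induction_on with
  | _ d ih =>
    intro U hUK hU hUA hd
    by_cases hdvd : p ∣ U.relIndex K
    · -- N₁ = N_K(U)
      obtain ⟨N₁, hN₁⟩ : ∃ N₁ : Subgroup G, N₁ = Subgroup.normalizer (U : Set G) ⊓ K := ⟨_, rfl⟩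
      have hN₁K : N₁ ≤ K := by rw [hN₁]; exact inf_le_right
      have hUN₁ : U ≤ N₁ := by rw [hN₁]; exact le_inf Subgroup.le_normalizer hUK
      have hAN₁ : A ≤ Subgroup.normalizer (N₁ : Set G) := by
        rw [hN₁]
        exact le_trans (le_inf (hUA.trans Subgroup.le_normalizer) hAK) Subgroup.inf_normalizer_le_normalizer_inf
      have hcop₁ : (Nat.card A).Coprime (Nat.card N₁) :=
        Nat.Coprime.coprime_dvd_right (Subgroup.card_dvd_of_le hN₁K) hcop
      have hsolv₁ : Group.IsSolvable A ∨ Group.IsSolvable N₁ := by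
        rcases hsolv with h | h
        · exact Or.inl h
        · right
          exact Group.isSolvable_of_isSolvable_injective (f := Subgroup.inclusion hN₁K) (Subgroup.inclusion_injective _)
      obtain ⟨P₁, hP₁⟩ := Cfsg.Agent.S0023.result A N₁ hAN₁ hcop₁ hsolv₁ p
      obtain ⟨S₁, hS₁⟩ : ∃ S₁ : Subgroup G, S₁ = (P₁ : Subgroup N₁).map N₁.subtype := ⟨_, rfl⟩
      rw [← hS₁] at hP₁
      have hS₁N₁ : S₁ ≤ N₁ := by rw [hS₁]; exact Subgroup.map_subtype_le _
      have hS₁p : IsPGroup p S₁ := by rw [hS₁]; exact P₁.isPGroup'.map _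
      -- U ≤ S₁
      have hUn : (U.subgroupOf N₁).Normal := by
        apply Subgroup.normal_subgroupOf_of_le_normalizer
        rw [hN₁]; exact inf_le_left
      have hUS₁ : U ≤ S₁ := by
        have h1 : U.subgroupOf N₁ ≤ (P₁ : Subgroup N₁) := by
          have hUn' : (Subgroup.comap N₁.subtype U).Normal := hUn
          exact (hU.comap_subtype (K := N₁)).le_sylow_of_normal P₁
        intro x hx
        rw [hS₁]
        exact ⟨⟨x, hUN₁ hx⟩, h1 (Subgroup.mem_subgroupOf.mpr hx), rfl⟩
      -- card S₁ > card U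
      obtain ⟨n, hn⟩ := hU.exists_card_eq
      have hcardU' : Nat.card (U.subgroupOf K) = p ^ n := by rw [card_subgroupOf_of_le hUK]; exact hn
      have hpow : p ^ (n + 1) ∣ Nat.card K := by
        rw [← Subgroup.card_mul_index (U.subgroupOf K), hcardU', pow_succ]
        exact Nat.mul_dvd_mul_left _ hdvd
      have h2 := Sylow.prime_pow_dvd_card_normalizer hpow hcardU'
      rw [← Subgroup.subgroupOf_normalizer_eq hUK, ← Subgroup.inf_subgroupOf_right, card_subgroupOf_of_le inf_le_right, ← hN₁] at h2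
      have h3 : p ^ (n + 1) ∣ Nat.card S₁ := by
        rw [hS₁, Subgroup.card_map_of_injective N₁.subtype_injective]
        exact P₁.pow_dvd_card_of_pow_dvd_card h2
      have hlt : Nat.card U < Nat.card S₁ := by
        rw [hn]
        have hpos : 0 < Nat.card S₁ := Nat.card_pos
        exact lt_of_lt_of_le (Nat.pow_lt_pow_right (Fact.out : p.Prime).one_lt (Nat.lt_succ_self n)) (Nat.le_of_dvd hpos h3)
      have hS₁K : S₁ ≤ K := hS₁N₁.trans hN₁K
      have hrel : S₁.relIndex K < d := by
        have h4 := Subgroup.relIndex_mul_relIndex U S₁ K hUS₁ hS₁K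
        rw [hd] at h4
        have h5 : 1 < U.relIndex S₁ := by
          have h6 := card_eq_relIndex_mul_card hUS₁
          by_contra hcon
          have h7 : U.relIndex S₁ ≤ 1 := not_lt.mp hcon
          have : Nat.card S₁ ≤ Nat.card U := by
            rw [h6]
            calc U.relIndex S₁ * Nat.card U ≤ 1 * Nat.card U := Nat.mul_le_mul_right _ h7
              _ = Nat.card U := one_mul _
          omega
        have h8 : 0 < S₁.relIndex K := Nat.pos_of_ne_zero (by
          intro h0
          rw [h0, mul_zero] at h4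
          have : U.relIndex K ≠ 0 := by
            show (U.subgroupOf K).index ≠ 0
            exact Subgroup.index_ne_zero_of_finite
          exact this (hd ▸ h4.symm))
        nlinarith
      obtain ⟨S, hSK, hS₁S, hSp, hSA, hSidx⟩ := ih _ hrel S₁ hS₁K hS₁p hP₁ rfl
      exact ⟨S, hSK, hUS₁.trans hS₁S, hSp, hSA, hSidx⟩
    · exact ⟨U, hUK, le_rfl, hU, hUA, hdvd⟩

end Cfsg.Agent.H1
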