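import Mathlib

namespace Cfsg.Agent.H1.FrobFree

open Submodule

theorem iSupIndep_of_forall_sum {R V ι : Type*} [Ring R] [AddCommGroup V] [Module R V] [Fintype ι] [DecidableEq ι]
    (A : ι → Submodule R V)
    (h : ∀ f : ι → V, (∀ i, f i ∈ A i) → ∑ i, f i = 0 → ∀ i, f i = 0) : iSupIndep A := by
  classical
  apply iSupIndep_of_dfinsupp_lsum_injective
  rw [← LinearMap.ker_eq_bot, LinearMap.ker_eq_bot']
  intro x hx
  have h1 : ∑ i, ((x i : A i) : V) = 0 := by
    rw [← hx, DFinsupp.lsum_apply_apply, DFinsupp.sumAddHom_apply, DFinsupp.sum_eq_sum_fintype]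
    · rfl
    · intro i; simp
  have h2 := h (fun i => ((x i : A i) : V)) (fun i => (x i).2) h1
  ext i
  simpa using h2 i

section Galois
variable {k K L U : Type*} [Field k] [Field K] [Field L] [Algebra K L] [FiniteDimensional K L] [IsGalois K L]
  [AddCommGroup U] [Module k U] [Module L U] [SMulCommClass L k U]

/-- scalar multiplication by `c : L` as a `k`-linear map -/
def mulL (c : L) : U →ₗ[k] U where
  toFun u := c • u
  map_add' := smul_add c
  map_smul' a u := smul_comm c a u

omit [FiniteDimensional K L] [IsGalois K L] [Field K] [Algebra K L] in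
@[simp] theorem mulL_apply (c : L) (u : U) : (mulL (k := k) c) u = c • u := rfl

/-- the fixed vectors -/
def fixedSub (σ : (L ≃ₐ[K] L) →* (U →ₗ[k] U)) : Submodule k U where
  carrier := {u | ∀ j, σ j u = u}
  add_mem' := by
    intro a b ha hb j
    rw [map_add, ha j, hb j]
  zero_mem' := by intro j; simp
  smul_mem' := by
    intro c u hu j
    rw [map_smul, hu j]

theorem hq : Submodule.span L (Set.range fun (h : L ≃ₐ[K] L) (j : L ≃ₐ[K] L) ↦ j (IsGalois.normalBasis K L h)) = ⊤ := by
  apply span_flip_eq_top_iff_linearIndependent.mpr <|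
      ((linearIndependent_algHom_toLinearMap K L L).comp _
        (algEquivEquivAlgHom K L).injective).map' _ ((IsGalois.normalBasis K L).constr L).symm.ker

theorem hfree_gal (σ : (L ≃ₐ[K] L) →* (U →ₗ[k] U))
    (hsemi : ∀ (j : L ≃ₐ[K] L) (c : L) (u : U), σ j (c • u) = j c • σ j u) :
    ∃ W : Submodule k U, iSupIndep (fun j => W.map (σ j)) ∧ ⨆ j, W.map (σ j) = ⊤ := by
  classical
  set b := IsGalois.normalBasis K L with hb
  set θ := b 1 with hθ
  have hbj : ∀ j, b j = j θ := fun j => IsGalois.normalBasis_apply j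
  set U0 := fixedSub (k := k) σ with hU0
  have hmem0 : ∀ u, u ∈ U0 ↔ ∀ j, σ j u = u := fun u => Iff.rfl
  -- the images
  have himg : ∀ j, (U0.map (mulL (k := k) θ)).map (σ j) = U0.map (mulL (k := k) (j θ)) := by
    intro j
    ext u
    simp only [Submodule.mem_map]
    constructor
    · rintro ⟨_, ⟨u0, hu0, rfl⟩, rfl⟩
      refine ⟨u0, hu0, ?_⟩
      rw [mulL_apply, mulL_apply, hsemi, (hmem0 u0).1 hu0 j]
    · rintro ⟨u0, hu0, rfl⟩
      refine ⟨θ • u0, ⟨u0, hu0, rfl⟩, ?_⟩
      rw [mulL_apply, hsemi, (hmem0 u0).1 hu0 j]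
  -- the vectors v_h
  set v : (L ≃ₐ[K] L) → ((L ≃ₐ[K] L) → L) := fun h j => j (b h) with hv
  have hspan : Submodule.span L (Set.range v) = ⊤ := hq
  have hvli : LinearIndependent L v := by
    apply linearIndependent_of_top_le_span_of_card_eq_finrank hspan.ge
    simp
  refine ⟨U0.map (mulL (k := k) θ), ?_, ?_⟩
  · -- independence
    apply iSupIndep_of_forall_sum
    intro f hf hsum
    simp only [himg] at hf
    choose u hu huf using fun j => Submodule.mem_map.1 (hf j)
    -- for every functional
    have key : ∀ φ : Module.Dual L U, ∀ j, φ (u j) = 0 := by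
      intro φ
      have h1 : ∑ j, φ (u j) • v j = 0 := by
        funext g
        simp only [Finset.sum_apply, Pi.smul_apply, Pi.zero_apply, hv, smul_eq_mul]
        have h2 : σ g (∑ j, f j) = 0 := by rw [hsum, map_zero]
        rw [map_sum] at h2
        have h3 : ∀ j, σ g (f j) = g (b j) • u j := by
          intro j
          rw [← huf j, mulL_apply, hsemi, (hmem0 _).1 (hu j) g, hbj]
        simp only [h3] at h2
        have h4 := congrArg φ h2
        rw [map_sum, map_zero] at h4
        simp only [map_smul, smul_eq_mul] at h4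
        rw [← h4]
        apply Finset.sum_congr rfl
        intro j _
        ring
      exact Fintype.linearIndependent_iff.1 hvli _ h1
    intro j
    have h5 : u j = 0 := (Module.forall_dual_apply_eq_zero_iff L (u j)).1 (fun φ => key φ j)
    rw [← huf j, h5, map_zero]
  · -- spanning
    rw [eq_top_iff]
    intro w _
    simp only [himg]
    set S := ⨆ j : L ≃ₐ[K] L, U0.map (mulL (k := k) (j θ)) with hS
    -- (ii) c • u0 ∈ S
    have hii : ∀ (c : L) (u0 : U), u0 ∈ U0 → c • u0 ∈ S := by
      intro c u0 hu0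
      have hc : c = ∑ j, b.repr c j • b j := (b.sum_repr c).symm
      rw [hc, Finset.sum_smul]
      apply Submodule.sum_mem
      intro j _
      apply Submodule.mem_iSup_of_mem j
      refine Submodule.mem_map.2 ⟨algebraMap K L (b.repr c j) • u0, ?_, ?_⟩
      · rw [hmem0]
        intro g
        rw [hsemi, (hmem0 u0).1 hu0 g, AlgEquiv.commutes]
      · rw [mulL_apply, hbj, smul_smul, Algebra.smul_def, mul_comm]
    -- trace
    have htr : ∀ x : U, (∑ g, σ g x) ∈ U0 := by
      intro x
      rw [hmem0]
      intro j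
      rw [map_sum]
      have : ∀ g, σ j (σ g x) = σ (j * g) x := by
        intro g; rw [map_mul]; rfl
      simp only [this]
      exact Fintype.sum_equiv (Equiv.mulLeft j) _ _ (fun g => rfl)
    obtain ⟨c, hc⟩ := (Submodule.mem_span_range_iff_exists_fun _).mp
      (hspan ▸ Submodule.mem_top (x := (Pi.single 1 1 : (L ≃ₐ[K] L) → L)))
    have hw : w = ∑ h, c h • (∑ g, σ g (b h • w)) := by
      have h1 : ∀ h, c h • (∑ g, σ g (b h • w)) = ∑ g, (c h * g (b h)) • σ g w := by
        intro h
        rw [Finset.smul_sum]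
        apply Finset.sum_congr rfl
        intro g _
        rw [hsemi, smul_smul]
      simp only [h1]
      rw [Finset.sum_comm]
      have h2 : ∀ g, ∑ h, (c h * g (b h)) • σ g w = (Pi.single (1 : L ≃ₐ[K] L) (1 : L) : (L ≃ₐ[K] L) → L) g • σ g w := by
        intro g
        rw [← Finset.sum_smul]
        congr 1
        have := congrFun hc g
        simp only [Finset.sum_apply, Pi.smul_apply, hv, smul_eq_mul] at this
        exact this
      simp only [h2]
      rw [Finset.sum_eq_single 1]
      · simp
      · intro g _ hg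
        rw [Pi.single_eq_of_ne hg, zero_smul]
      · intro h; exact absurd (Finset.mem_univ _) h
    rw [hw]
    apply Submodule.sum_mem
    intro h _
    exact hii _ _ (htr _)

end Galois

section Field
variable {k L U H : Type*} [Field k] [Field L] [AddCommGroup U] [Module k U] [Module L U] [SMulCommClass L k U]
  [Group H] [Finite H] [MulSemiringAction H L] [FaithfulSMul H L]

theorem hfree_field (σ : H →* (U →ₗ[k] U))
    (hsemi : ∀ (h : H) (c : L) (u : U), σ h (c • u) = (h • c) • σ h u) :
    ∃ W : Submodule k U, iSupIndep (fun h => W.map (σ h)) ∧ ⨆ h, W.map (σ h) = ⊤ := by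
  classical
  let e := FixedPoints.toAlgAutMulEquiv H L
  let σ' : (L ≃ₐ[FixedPoints.subfield H L] L) →* (U →ₗ[k] U) := σ.comp e.symm.toMonoidHom
  have hsemi' : ∀ (j : L ≃ₐ[FixedPoints.subfield H L] L) (c : L) (u : U), σ' j (c • u) = j c • σ' j u := by
    intro j c u
    obtain ⟨h, rfl⟩ := e.surjective j
    have h1 : σ' (e h) = σ h := by
      show σ (e.symm (e h)) = σ h
      rw [MulEquiv.symm_apply_apply]
    rw [h1, hsemi]
    rfl
  obtain ⟨W, hW1, hW2⟩ := hfree_gal (k := k) (K := FixedPoints.subfield H L) σ' hsemi'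
  refine ⟨W, ?_, ?_⟩
  · have := hW1.comp e.injective
    convert this using 2
    rename_i h
    show W.map (σ h) = W.map (σ (e.symm (e h)))
    rw [MulEquiv.symm_apply_apply]
  · rw [← hW2]
    rw [← e.toEquiv.iSup_comp (g := fun j => W.map (σ' j))]
    congr 1
    funext h
    show W.map (σ h) = W.map (σ (e.symm (e h)))
    rw [MulEquiv.symm_apply_apply]

end Field

end Cfsg.Agent.H1.FrobFree
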