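import Mathlib
import Cfsg.Agent.H1.FrobFreeA

namespace Cfsg.Agent.H1.FrobFree
open Submodule

section LinAlg
variable {k V : Type*} [Field k] [AddCommGroup V] [Module k V]

theorem forall_sum_of_iSupIndep {ι : Type*} [Fintype ι] {A : ι → Submodule k V} (hA : iSupIndep A)
    (f : ι → V) (hf : ∀ i, f i ∈ A i) (hs : ∑ i, f i = 0) (i : ι) : f i = 0 :=
  (iSupIndep_iff_finsetSum_eq_zero_imp_eq_zero A).1 hA Finset.univ f (fun i _ => hf i) hs i
    (Finset.mem_univ i)

theorem free_sup {H : Type*} [Finite H] (σ : H → (V →ₗ[k] V)) (W1 W2 U1 U2 : Submodule k V)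
    (hdis : U1 ⊓ U2 = ⊥)
    (h1 : iSupIndep (fun h => W1.map (σ h))) (h1' : ⨆ h, W1.map (σ h) = U1)
    (h2 : iSupIndep (fun h => W2.map (σ h))) (h2' : ⨆ h, W2.map (σ h) = U2) :
    iSupIndep (fun h => (W1 ⊔ W2).map (σ h)) ∧ ⨆ h, (W1 ⊔ W2).map (σ h) = U1 ⊔ U2 := by
  classical
  haveI := Fintype.ofFinite H
  constructor
  · apply iSupIndep_of_forall_sum
    intro f hf hsum
    simp only [Submodule.map_sup] at hf
    choose a ha b hb hab using fun h => Submodule.mem_sup.1 (hf h)
    have hA : ∑ h, a h ∈ U1 := by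
      rw [← h1']
      exact Submodule.sum_mem _ (fun h _ => Submodule.mem_iSup_of_mem h (ha h))
    have hB : ∑ h, b h ∈ U2 := by
      rw [← h2']
      exact Submodule.sum_mem _ (fun h _ => Submodule.mem_iSup_of_mem h (hb h))
    have hsum' : ∑ h, a h + ∑ h, b h = 0 := by
      rw [← Finset.sum_add_distrib]
      simp only [hab]
      exact hsum
    have hA0 : ∑ h, a h = 0 := by
      have : ∑ h, a h ∈ U1 ⊓ U2 := by
        refine ⟨hA, ?_⟩
        rw [eq_neg_of_add_eq_zero_left hsum']
        exact U2.neg_mem hB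
      rw [hdis] at this
      exact (Submodule.mem_bot k).1 this
    have hB0 : ∑ h, b h = 0 := by
      rw [hA0, zero_add] at hsum'
      exact hsum'
    intro h
    rw [← hab h, forall_sum_of_iSupIndep h1 a ha hA0 h, forall_sum_of_iSupIndep h2 b hb hB0 h,
      add_zero]
  · simp only [Submodule.map_sup]
    rw [iSup_sup_eq, h1', h2']

theorem free_of_restrict {H : Type*} [Finite H] (σ : H → (V →ₗ[k] V)) (R : Submodule k V)
    (hR : ∀ h, ∀ v ∈ R, σ h v ∈ R) (W' : Submodule k R)
    (h1 : iSupIndep (fun h => W'.map ((σ h).restrict (hR h))))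
    (h2 : ⨆ h, W'.map ((σ h).restrict (hR h)) = ⊤) :
    iSupIndep (fun h => (W'.map R.subtype).map (σ h)) ∧
      ⨆ h, (W'.map R.subtype).map (σ h) = R := by
  classical
  haveI := Fintype.ofFinite H
  have key : ∀ h, (W'.map R.subtype).map (σ h) = (W'.map ((σ h).restrict (hR h))).map R.subtype := by
    intro h
    rw [← Submodule.map_comp, ← Submodule.map_comp]
    congr 1
  constructor
  · apply iSupIndep_of_forall_sum
    intro f hf hsum
    simp only [key] at hf
    choose g hg hgf using fun h => Submodule.mem_map.1 (hf h)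
    have h0 : ∑ h, g h = 0 := by
      apply Subtype.ext
      rw [Submodule.coe_sum]
      simp only [Submodule.subtype_apply] at hgf
      simp only [hgf]
      exact hsum
    intro h
    rw [← hgf h, forall_sum_of_iSupIndep h1 g hg h0 h, map_zero]
  · simp only [key]
    rw [← Submodule.map_iSup, h2, Submodule.map_subtype_top]

theorem free_orbit {H : Type*} [Group H] [Finite H] (σ : H →* (V →ₗ[k] V)) (S : Subgroup H)
    (e : V →ₗ[k] V) (W R : Submodule k V)
    (hW : ∀ w ∈ W, e w = w)
    (hS : ∀ s ∈ S, ∀ v, e (σ s v) = σ s (e v))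
    (hnS : ∀ h, h ∉ S → ∀ v, e (σ h (e v)) = 0)
    (h1 : iSupIndep (fun s : S => W.map (σ (s : H))))
    (h2 : ⨆ s : S, W.map (σ (s : H)) = R) :
    iSupIndep (fun h : H => W.map (σ h)) ∧ ⨆ h : H, W.map (σ h) = ⨆ h : H, R.map (σ h) := by
  classical
  haveI := Fintype.ofFinite H
  constructor
  · apply iSupIndep_of_forall_sum
    intro f hf hsum
    choose u hu huf using fun h => Submodule.mem_map.1 (hf h)
    intro h0
    have hsum1 : ∑ h, e (σ h0⁻¹ (σ h (u h))) = 0 := by
      simp only [huf]
      rw [← map_sum, ← map_sum, hsum, map_zero, map_zero]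
    have hsum2 : ∑ g, e (σ g (u (h0 * g))) = 0 := by
      rw [← hsum1]
      apply Fintype.sum_equiv (Equiv.mulLeft h0)
      intro g
      simp only [Equiv.coe_mulLeft]
      have : σ h0⁻¹ (σ (h0 * g) (u (h0 * g))) = σ g (u (h0 * g)) := by
        rw [← Module.End.mul_apply (σ h0⁻¹), ← map_mul, inv_mul_cancel_left]
      rw [this]
    have hterm : ∀ g, e (σ g (u (h0 * g))) = if g ∈ S then σ g (u (h0 * g)) else 0 := by
      intro g
      split_ifs with hg
      · rw [hS g hg, hW _ (hu _)]
      · rw [← hW _ (hu (h0 * g)), hnS g hg]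
    simp only [hterm] at hsum2
    rw [← Finset.sum_filter] at hsum2
    rw [Finset.sum_subtype (p := fun g => g ∈ S) (Finset.univ.filter (fun g => g ∈ S)) (by simp)] at hsum2
    have h3 := forall_sum_of_iSupIndep h1 (fun s : S => σ (s : H) (u (h0 * s)))
      (fun s => Submodule.mem_map_of_mem (hu _)) hsum2 1
    simp only [OneMemClass.coe_one, map_one, mul_one, Module.End.one_apply] at h3
    rw [← huf h0, h3, map_zero]
  · apply le_antisymm
    · apply iSup_le
      intro h
      refine le_trans ?_ (le_iSup _ h)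
      apply Submodule.map_mono
      rw [← h2]
      refine le_trans ?_ (le_iSup _ (1 : S))
      simp only [OneMemClass.coe_one, map_one]
      intro w hw
      exact Submodule.mem_map.2 ⟨w, hw, rfl⟩
    · apply iSup_le
      intro h
      rw [← h2, Submodule.map_iSup]
      apply iSup_le
      intro s
      rw [← Submodule.map_comp]
      have : (σ h).comp (σ (s : H)) = σ (h * s) := by rw [map_mul]; rfl
      rw [this]
      exact le_iSup (fun h : H => W.map (σ h)) (h * s)

end LinAlg

theorem hfree_isField {k L U H : Type*} [Field k] [Ring L] (hL : IsField L) [AddCommGroup U] [Module k U]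
    [Module L U] [SMulCommClass L k U]
    [Group H] [Finite H] [MulSemiringAction H L] [FaithfulSMul H L] (σ : H →* (U →ₗ[k] U))
    (hsemi : ∀ (h : H) (c : L) (u : U), σ h (c • u) = (h • c) • σ h u) :
    ∃ W : Submodule k U, iSupIndep (fun h => W.map (σ h)) ∧ ⨆ h, W.map (σ h) = ⊤ := by
  letI : Field L := hL.toField
  exact hfree_field σ hsemi

theorem eq_zero_of_pow_eq_zero' {C : Type*} [CommRing C] (hred : ∀ x : C, x * x = 0 → x = 0) (x : C) (n : ℕ)
    (h : x ^ n = 0) : x = 0 := by
  have h1 : ∀ m : ℕ, x ^ (2 ^ m) = 0 → x = 0 := by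
    intro m
    induction m with
    | zero => intro h; simpa using h
    | succ m ih =>
      intro h
      apply ih
      apply hred
      rw [← pow_two, ← pow_mul, ← pow_succ]
      exact h
  apply h1 n
  exact pow_eq_zero_of_le (Nat.lt_two_pow_self).le h

theorem exists_inv_of_min_comm {k C : Type*} [Field k] [CommRing C] [Algebra k C] [FiniteDimensional k C]
    (hred : ∀ x : C, x * x = 0 → x = 0) (e : C)
    (hmin : ∀ e' : C, e' * e' = e' → e' * e = e' → e' = 0 ∨ e' = e)
    (a : C) (hae : a * e = a) (ha0 : a ≠ 0) : ∃ c : C, a * c = e := by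
  haveI : IsArtinianRing C := IsArtinianRing.of_finite k C
  let f : ℕ →o (Ideal C)ᵒᵈ :=
    { toFun := fun n => OrderDual.toDual (Ideal.span {a ^ n})
      monotone' := by
        intro m n hmn
        show Ideal.span {a ^ n} ≤ Ideal.span {a ^ m}
        rw [Ideal.span_singleton_le_span_singleton]
        exact pow_dvd_pow a hmn }
  obtain ⟨N, hN⟩ := IsArtinian.monotone_stabilizes f
  have h1 : Ideal.span {a ^ (N + 1)} = Ideal.span {a ^ (N + 2)} := by
    have e1 := hN (N + 1) (by omega)
    have e2 := hN (N + 2) (by omega)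
    have : f (N + 1) = f (N + 2) := e1.symm.trans e2
    exact this
  set n := N + 1 with hn
  have h2 : a ^ n ∈ Ideal.span {a ^ (N + 2)} := by
    rw [← h1]; exact Ideal.subset_span rfl
  obtain ⟨c, hc⟩ := Ideal.mem_span_singleton'.1 h2
  -- hc : c * a ^ (N+2) = a ^ n
  have h3 : ∀ j : ℕ, a ^ n = a ^ (n + j) * c ^ j := by
    intro j
    induction j with
    | zero => simp
    | succ j ih =>
      calc a ^ n = a ^ (n + j) * c ^ j := ih
        _ = a ^ j * a ^ n * c ^ j := by rw [pow_add]; ring
        _ = a ^ j * (c * a ^ (N + 2)) * c ^ j := by rw [hc]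
        _ = a ^ (n + (j + 1)) * c ^ (j + 1) := by rw [hn]; ring
  set g := a ^ n * c ^ n with hg
  have hgg : g * g = g := by
    have := h3 n
    calc g * g = (a ^ (n + n) * c ^ n) * c ^ n := by rw [hg, pow_add]; ring
      _ = a ^ n * c ^ n := by rw [← this]
  have hge : g * e = g := by
    have : a ^ n * e = a ^ n := by
      rw [hn, pow_succ, mul_assoc, hae]
    rw [hg, mul_right_comm, this]
  rcases hmin g hgg hge with h0 | h1'
  · exfalso
    apply ha0
    apply eq_zero_of_pow_eq_zero' hred a n
    have := h3 n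
    rw [this, pow_add, mul_assoc, ← hg, h0, mul_zero]
  · refine ⟨a ^ N * c ^ n, ?_⟩
    rw [← h1', hg, hn, pow_succ]
    ring


section Core
variable {k C V H : Type*} [Field k] [CommRing C] [Algebra k C]
  [AddCommGroup V] [Module k V] [Module C V] [IsScalarTower k C V]

/-- action of `c` as a `k`-linear map -/
def acL (c : C) : V →ₗ[k] V where
  toFun v := c • v
  map_add' := smul_add c
  map_smul' a v := smul_comm c a v

@[simp] theorem acL_apply (c : C) (v : V) : acL (k := k) c v = c • v := rfl

variable (C) in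
/-- image of `C` in the endomorphisms of a submodule -/
def imgAlg (R : Submodule k V) : Subalgebra k (Module.End k R) where
  carrier := {ℓ | ∃ x : C, ∀ v : R, ((ℓ v : R) : V) = x • (v : V)}
  mul_mem' := by
    rintro a b ⟨x, hx⟩ ⟨y, hy⟩
    exact ⟨x * y, fun v => by rw [Module.End.mul_apply, hx, hy, smul_smul]⟩
  add_mem' := by
    rintro a b ⟨x, hx⟩ ⟨y, hy⟩
    exact ⟨x + y, fun v => by rw [LinearMap.add_apply, Submodule.coe_add, hx, hy, add_smul]⟩
  algebraMap_mem' := by
    intro r
    exact ⟨algebraMap k C r, fun v => by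
      rw [Module.algebraMap_end_apply, Submodule.coe_smul, algebraMap_smul]⟩

theorem mem_imgAlg (R : Submodule k V) (ℓ : Module.End k R) :
    ℓ ∈ imgAlg C R ↔ ∃ x : C, ∀ v : R, ((ℓ v : R) : V) = x • (v : V) := Iff.rfl


theorem stepE [FiniteDimensional k C] [Group H] [Finite H] [MulSemiringAction H C]
    (σ : H →* (V →ₗ[k] V))
    (hsemi : ∀ (h : H) (c : C) (v : V), σ h (c • v) = (h • c) • σ h v)
    (hfaith : ∀ x : C, (∀ v : V, x • v = 0) → x = 0)
    (hred : ∀ x : C, x * x = 0 → x = 0)
    (hfree : ∀ h : H, h ≠ 1 → ∀ e : C, e * e = e → e ≠ 0 → h • e = e →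
      ∃ x : C, (h • x) * e ≠ x * e)
    (e : C) (hee : e * e = e) (he0 : e ≠ 0)
    (hmin : ∀ e' : C, e' * e' = e' → e' * e = e' → e' = 0 ∨ e' = e) :
    ∃ W : Submodule k V, (∀ w ∈ W, e • w = w) ∧
      iSupIndep (fun s : MulAction.stabilizer H e => W.map (σ (s : H))) ∧
      ⨆ s : MulAction.stabilizer H e, W.map (σ (s : H)) =
        LinearMap.range (acL (k := k) (V := V) e) := by
  classical
  set S := MulAction.stabilizer H e with hSdef
  set R : Submodule k V := LinearMap.range (acL (k := k) (V := V) e) with hRdef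
  have hRmem : ∀ v, v ∈ R ↔ e • v = v := by
    intro v
    constructor
    · rintro ⟨w, rfl⟩
      rw [acL_apply, smul_smul, hee]
    · intro h
      exact ⟨v, h⟩
  have hRC : ∀ (x : C) (v : V), v ∈ R → x • v ∈ R := by
    intro x v hv
    rw [hRmem] at hv ⊢
    rw [smul_smul, mul_comm, ← smul_smul, hv]
  have hRσ : ∀ s : S, ∀ v ∈ R, σ (s : H) v ∈ R := by
    intro s v hv
    rw [hRmem] at hv ⊢
    have hs : (s : H) • e = e := s.2
    conv_lhs => rw [← hs]
    rw [← hsemi, hv]
  -- the restricted group action
  let σR : S →* Module.End k R :=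
    { toFun := fun s => (σ (s : H)).restrict (hRσ s)
      map_one' := by
        ext v
        simp
      map_mul' := by
        intro s t
        ext v
        simp [LinearMap.restrict_apply] }
  have hσR : ∀ (s : S) (v : R), ((σR s v : R) : V) = σ (s : H) (v : V) := fun s v => rfl
  have hσR_inv : ∀ s : S, σR s * σR s⁻¹ = 1 := fun s => by
    rw [← map_mul, mul_inv_cancel, map_one]
  have hσR_inv' : ∀ s : S, σR s⁻¹ * σR s = 1 := fun s => by
    rw [← map_mul, inv_mul_cancel, map_one]
  set L := imgAlg C R with hLdef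
  -- restrictions of elements of C
  have hres : ∀ x : C, ∃ ℓ : L, ∀ v : R, (((ℓ : Module.End k R) v : R) : V) = x • (v : V) := by
    intro x
    refine ⟨⟨(acL (k := k) x).restrict (fun v hv => hRC x v hv), x, fun v => rfl⟩, fun v => rfl⟩
  have hLx : ∀ ℓ : L, ∃ x : C, ∀ v : R, (((ℓ : Module.End k R) v : R) : V) = x • (v : V) :=
    fun ℓ => ℓ.2
  have hconj : ∀ (s : S) (ℓ : Module.End k R) (x : C),
      (∀ v : R, ((ℓ v : R) : V) = x • (v : V)) →
      ∀ v : R, (((σR s * ℓ * σR s⁻¹) v : R) : V) = ((s : H) • x) • (v : V) := by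
    intro s ℓ x hx v
    rw [Module.End.mul_apply, Module.End.mul_apply, hσR, hx, hsemi, ← hσR, ← Module.End.mul_apply,
      hσR_inv, Module.End.one_apply]
  -- L is a field
  have hLfield : IsField L := by
    refine ⟨⟨0, 1, ?_⟩, ?_, ?_⟩
    · -- 0 ≠ 1
      intro h01
      apply he0
      apply hfaith
      intro v
      have hv : e • v ∈ R := ⟨v, rfl⟩
      have h1 := congrArg (fun ℓ : L => (((ℓ : Module.End k R) ⟨e • v, hv⟩ : R) : V)) h01
      simp only [ZeroMemClass.coe_zero, LinearMap.zero_apply, OneMemClass.coe_one,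
        Module.End.one_apply] at h1
      exact h1.symm
    · intro a b
      obtain ⟨x, hx⟩ := hLx a
      obtain ⟨y, hy⟩ := hLx b
      apply Subtype.ext
      apply LinearMap.ext
      intro v
      apply Subtype.ext
      rw [Subalgebra.coe_mul, Subalgebra.coe_mul, Module.End.mul_apply, Module.End.mul_apply,
        hx, hy, hy, hx, smul_smul, smul_smul, mul_comm]
    · intro a ha
      obtain ⟨x, hx⟩ := hLx a
      have hxe : x * e ≠ 0 := by
        intro h0
        apply ha
        apply Subtype.ext
        apply LinearMap.ext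
        intro v
        apply Subtype.ext
        rw [hx]
        have hv := (hRmem v).1 v.2
        rw [← hv, smul_smul, h0, zero_smul]
        rfl
      obtain ⟨c, hc⟩ := exists_inv_of_min_comm (k := k) hred e hmin (x * e)
        (by rw [mul_assoc, hee]) hxe
      obtain ⟨b, hb⟩ := hres c
      refine ⟨b, ?_⟩
      apply Subtype.ext
      apply LinearMap.ext
      intro v
      apply Subtype.ext
      rw [Subalgebra.coe_mul, Module.End.mul_apply, hx, hb, smul_smul]
      have hv := (hRmem v).1 v.2
      conv_lhs => rw [← hv]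
      rw [smul_smul]
      have : x * c * e = e := by linear_combination hc
      rw [this, hv]
      rfl
  letI actSL : MulSemiringAction S L :=
    { smul := fun s ℓ => ⟨σR s * (ℓ : Module.End k R) * σR s⁻¹, by
        obtain ⟨x, hx⟩ := hLx ℓ
        exact ⟨(s : H) • x, hconj s _ x hx⟩⟩
      one_smul := by
        intro ℓ
        apply Subtype.ext
        show σR 1 * (ℓ : Module.End k R) * σR 1⁻¹ = ℓ
        simp
      mul_smul := by
        intro s t ℓ
        apply Subtype.ext
        show σR (s * t) * (ℓ : Module.End k R) * σR (s * t)⁻¹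
          = σR s * (σR t * (ℓ : Module.End k R) * σR t⁻¹) * σR s⁻¹
        simp only [mul_inv_rev, map_mul, mul_assoc]
      smul_zero := by
        intro s
        apply Subtype.ext
        show σR s * ((0 : L) : Module.End k R) * σR s⁻¹ = ((0 : L) : Module.End k R)
        simp
      smul_add := by
        intro s a b
        apply Subtype.ext
        show σR s * ((a + b : L) : Module.End k R) * σR s⁻¹
          = σR s * (a : Module.End k R) * σR s⁻¹ + σR s * (b : Module.End k R) * σR s⁻¹
        rw [Subalgebra.coe_add, mul_add, add_mul]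
      smul_one := by
        intro s
        apply Subtype.ext
        show σR s * ((1 : L) : Module.End k R) * σR s⁻¹ = ((1 : L) : Module.End k R)
        rw [OneMemClass.coe_one, mul_one, hσR_inv]
      smul_mul := by
        intro s a b
        apply Subtype.ext
        show σR s * ((a * b : L) : Module.End k R) * σR s⁻¹
          = (σR s * (a : Module.End k R) * σR s⁻¹) * (σR s * (b : Module.End k R) * σR s⁻¹)
        rw [Subalgebra.coe_mul]
        simp only [mul_assoc]
        rw [← mul_assoc (σR s⁻¹) (σR s), hσR_inv' s, one_mul] }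
  have hsmul : ∀ (s : S) (ℓ : L), ((s • ℓ : L) : Module.End k R) = σR s * (ℓ : Module.End k R) * σR s⁻¹ :=
    fun s ℓ => rfl
  haveI : FaithfulSMul S L := by
    refine ⟨fun {s t} h => ?_⟩
    by_contra hst
    have hg : t⁻¹ * s ≠ 1 := by
      intro h1
      apply hst
      rw [← mul_right_inj t⁻¹, h1, inv_mul_cancel]
    have hg' : ((t⁻¹ * s : S) : H) ≠ 1 := by
      intro h1
      apply hg
      exact Subtype.ext h1
    obtain ⟨x, hx⟩ := hfree _ hg' e hee he0 (t⁻¹ * s).2
    obtain ⟨ℓ, hℓ⟩ := hres x
    have h2 : (t⁻¹ * s) • ℓ = ℓ := by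
      rw [mul_smul, h ℓ, inv_smul_smul]
    apply hx
    rw [← sub_eq_zero]
    apply hfaith
    intro v
    have hv : e • v ∈ R := ⟨v, rfl⟩
    have h3 := hconj (t⁻¹ * s) _ x hℓ ⟨e • v, hv⟩
    rw [← hsmul, h2, hℓ] at h3
    rw [sub_smul, ← smul_smul, ← smul_smul]
    exact sub_eq_zero.2 h3.symm
  have hsemiR : ∀ (s : S) (c : L) (u : R), σR s (c • u) = (s • c) • σR s u := by
    intro s c u
    show σR s ((c : Module.End k R) u) = ((s • c : L) : Module.End k R) (σR s u)
    rw [hsmul, Module.End.mul_apply, Module.End.mul_apply, ← Module.End.mul_apply (σR s⁻¹),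
      hσR_inv', Module.End.one_apply]
  obtain ⟨W', hW1, hW2⟩ := hfree_isField (k := k) (L := L) hLfield σR (fun s c u => hsemiR s c u)
  obtain ⟨h3, h4⟩ := free_of_restrict (fun s : S => σ (s : H)) R hRσ W' hW1 hW2
  refine ⟨W'.map R.subtype, ?_, h3, h4⟩
  intro w hw
  obtain ⟨w', _, rfl⟩ := Submodule.mem_map.1 hw
  exact (hRmem _).1 w'.2

theorem map_range_acL [Group H] [MulSemiringAction H C] (σ : H →* (V →ₗ[k] V))
    (hsemi : ∀ (h : H) (c : C) (v : V), σ h (c • v) = (h • c) • σ h v) (e : C) (h : H) :
    (LinearMap.range (acL (k := k) (V := V) e)).map (σ h) = LinearMap.range (acL (k := k) (V := V) (h • e)) := by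
  ext v
  constructor
  · rintro ⟨_, ⟨w, rfl⟩, rfl⟩
    exact ⟨σ h w, by rw [acL_apply, acL_apply, hsemi]⟩
  · rintro ⟨w, rfl⟩
    refine ⟨e • σ h⁻¹ w, ⟨σ h⁻¹ w, rfl⟩, ?_⟩
    rw [hsemi, acL_apply, ← Module.End.mul_apply, ← map_mul, mul_inv_cancel, map_one,
      Module.End.one_apply]

theorem free_bot {ι : Type*} (σ : ι → (V →ₗ[k] V)) :
    iSupIndep (fun h => (⊥ : Submodule k V).map (σ h)) ∧ ⨆ h, (⊥ : Submodule k V).map (σ h) = ⊥ := by
  simp only [Submodule.map_bot]
  refine ⟨?_, by simp⟩
  intro i
  exact disjoint_bot_left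

theorem core_aux [FiniteDimensional k C] [FiniteDimensional k V] [Group H] [Finite H]
    [MulSemiringAction H C]
    (σ : H →* (V →ₗ[k] V))
    (hsemi : ∀ (h : H) (c : C) (v : V), σ h (c • v) = (h • c) • σ h v)
    (hfaith : ∀ x : C, (∀ v : V, x • v = 0) → x = 0)
    (hred : ∀ x : C, x * x = 0 → x = 0)
    (hfree : ∀ h : H, h ≠ 1 → ∀ e : C, e * e = e → e ≠ 0 → h • e = e →
      ∃ x : C, (h • x) * e ≠ x * e) (n : ℕ) :
    ∀ f : C, f * f = f → (∀ h : H, h • f = f) →
      Module.finrank k (LinearMap.range (acL (k := k) (V := V) f)) ≤ n →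
      ∃ W : Submodule k V, iSupIndep (fun h => W.map (σ h)) ∧
        ⨆ h, W.map (σ h) = LinearMap.range (acL (k := k) (V := V) f) := by
  classical
  haveI := Fintype.ofFinite H
  induction n with
  | zero =>
    intro f _ _ hn
    have h0 : LinearMap.range (acL (k := k) (V := V) f) = ⊥ := by
      apply Submodule.finrank_eq_zero.1
      omega
    rw [h0]
    exact ⟨⊥, free_bot _⟩
  | succ n ih =>
    intro f hff hfH hn
    by_cases hf0 : f = 0
    · have h0 : LinearMap.range (acL (k := k) (V := V) f) = ⊥ := by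
        rw [hf0]
        ext v
        simp only [LinearMap.mem_range, acL_apply, zero_smul, Submodule.mem_bot]
        constructor
        · rintro ⟨_, rfl⟩; rfl
        · intro h; exact ⟨0, h.symm⟩
      rw [h0]
      exact ⟨⊥, free_bot _⟩
    -- ranges and idempotents
    have hrange_mem : ∀ (c : C), c * c = c → ∀ v : V,
        v ∈ LinearMap.range (acL (k := k) (V := V) c) ↔ c • v = v := by
      intro c hc v
      constructor
      · rintro ⟨w, rfl⟩
        rw [acL_apply, smul_smul, hc]
      · intro h
        exact ⟨v, h⟩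
    -- choose a minimal idempotent below f
    obtain ⟨e, ⟨hee, he0, hef⟩, hemin⟩ := WellFounded.has_min
      (measure (fun e' : C => Module.finrank k (LinearMap.range (acL (k := k) (V := V) e')))).wf
      {e' : C | e' * e' = e' ∧ e' ≠ 0 ∧ e' * f = e'} ⟨f, hff, hf0, hff⟩
    have hmin : ∀ e' : C, e' * e' = e' → e' * e = e' → e' = 0 ∨ e' = e := by
      intro e' he'e' he'e
      by_cases h0 : e' = 0
      · exact Or.inl h0
      right
      have hmem : e' ∈ {e' : C | e' * e' = e' ∧ e' ≠ 0 ∧ e' * f = e'} := by
        refine ⟨he'e', h0, ?_⟩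
        rw [← he'e, mul_assoc, hef]
      have h1 := hemin e' hmem
      have hle : LinearMap.range (acL (k := k) (V := V) e') ≤ LinearMap.range (acL (k := k) (V := V) e) := by
        intro v hv
        rw [hrange_mem _ he'e'] at hv
        rw [hrange_mem _ hee, ← hv, smul_smul, mul_comm, he'e]
      have heq : LinearMap.range (acL (k := k) (V := V) e') = LinearMap.range (acL (k := k) (V := V) e) := by
        apply Submodule.eq_of_le_of_finrank_le hle
        have : ¬ (Module.finrank k (LinearMap.range (acL (k := k) (V := V) e'))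
            < Module.finrank k (LinearMap.range (acL (k := k) (V := V) e))) := h1
        omega
      rw [← sub_eq_zero]
      apply hfaith
      intro v
      have h2 : e • v ∈ LinearMap.range (acL (k := k) (V := V) e') := by
        rw [heq]; exact ⟨v, rfl⟩
      rw [hrange_mem _ he'e', smul_smul, he'e] at h2
      rw [sub_smul, h2, sub_self]
    obtain ⟨We, hWe1, hWe2, hWe3⟩ := stepE σ hsemi hfaith hred hfree e hee he0 hmin
    -- orthogonality
    have horth : ∀ h : H, h ∉ MulAction.stabilizer H e → e * (h • e) = 0 := by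
      intro h hh
      have hhe : (h • e) * (h • e) = h • e := by rw [← smul_mul', hee]
      rcases hmin (e * (h • e)) (by rw [mul_mul_mul_comm, hee, hhe])
        (by rw [mul_right_comm, hee]) with h0 | h1
      · exact h0
      · exfalso
        have h2 : (h⁻¹ • e) * (h⁻¹ • e) = h⁻¹ • e := by rw [← smul_mul', hee]
        have h3 : (h⁻¹ • e) * e = h⁻¹ • e := by
          conv_rhs => rw [← h1]
          rw [smul_mul', inv_smul_smul]
        rcases hmin _ h2 h3 with h4 | h4
        · exact he0 ((smul_eq_zero_iff_eq h⁻¹).1 h4)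
        · apply hh
          rw [MulAction.mem_stabilizer_iff]
          exact (inv_smul_eq_iff.1 h4).symm
    obtain ⟨hO1, hO2⟩ := free_orbit σ (MulAction.stabilizer H e) (acL (k := k) (V := V) e) We
      (LinearMap.range (acL (k := k) (V := V) e)) hWe1
      (by
        intro s hs v
        rw [acL_apply, acL_apply, hsemi, MulAction.mem_stabilizer_iff.1 hs])
      (by
        intro h hh v
        rw [acL_apply, acL_apply, hsemi, smul_smul, horth h hh, zero_smul])
      hWe2 hWe3
    simp only [map_range_acL σ hsemi] at hO2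
    set U1 : Submodule k V := ⨆ h : H, LinearMap.range (acL (k := k) (V := V) (h • e)) with hU1
    -- the complementary idempotent
    set P : C := ∏ g : H, (1 - g • e) with hP
    set f' : C := f * P with hf'
    have hge : ∀ g : H, (g • e) * (g • e) = g • e := fun g => by rw [← smul_mul', hee]
    have hPP : P * P = P := by
      rw [hP, ← Finset.prod_mul_distrib]
      apply Finset.prod_congr rfl
      intro g _
      linear_combination hge g
    have hf'f' : f' * f' = f' := by
      rw [hf']
      linear_combination (P * P) * hff + f * hPP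
    have hPH : ∀ h : H, h • P = P := by
      intro h
      rw [hP, Finset.smul_prod']
      apply Fintype.prod_equiv (Equiv.mulLeft h)
      intro g
      rw [smul_sub, smul_one, smul_smul]
      rfl
    have hf'H : ∀ h : H, h • f' = f' := by
      intro h
      rw [hf', smul_mul', hfH, hPH]
    have hPkill : ∀ g : H, P * (g • e) = 0 := by
      intro g
      rw [hP, ← Finset.mul_prod_erase Finset.univ _ (Finset.mem_univ g)]
      linear_combination (- ∏ x ∈ Finset.univ.erase g, (1 - x • e)) * hge g
    have hfe : f * e = e := by rw [mul_comm, hef]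
    have hU1f : U1 ≤ LinearMap.range (acL (k := k) (V := V) f) := by
      apply iSup_le
      intro h v hv
      rw [hrange_mem _ (hge h)] at hv
      rw [hrange_mem _ hff, ← hv, smul_smul]
      congr 1
      rw [← hfH h, ← smul_mul', hfe]
    have hf'f : LinearMap.range (acL (k := k) (V := V) f') ≤ LinearMap.range (acL (k := k) (V := V) f) := by
      intro v hv
      rw [hrange_mem _ hf'f'] at hv
      rw [hrange_mem _ hff, ← hv, smul_smul]
      congr 1
      rw [hf', ← mul_assoc, hff]
    have hU1ker : ∀ v ∈ U1, f' • v = 0 := by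
      intro v hv
      have : U1 ≤ LinearMap.ker (acL (k := k) (V := V) f') := by
        apply iSup_le
        intro h w hw
        rw [hrange_mem _ (hge h)] at hw
        rw [LinearMap.mem_ker, acL_apply, ← hw, smul_smul, hf', mul_assoc, hPkill, mul_zero, zero_smul]
      exact this hv
    have hdis : U1 ⊓ LinearMap.range (acL (k := k) (V := V) f') = ⊥ := by
      rw [eq_bot_iff]
      rintro v ⟨hv1, hv2⟩
      rw [SetLike.mem_coe, hrange_mem _ hf'f'] at hv2
      rw [Submodule.mem_bot, ← hv2]
      exact hU1ker v hv1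
    have hPU : ∀ (T : Finset H) (v : V), (1 - ∏ g ∈ T, (1 - g • e)) • v ∈ U1 := by
      intro T
      induction T using Finset.induction_on with
      | empty =>
        intro v
        simp
      | insert a T ha ihT =>
        intro v
        rw [Finset.prod_insert ha]
        have : (1 - (1 - a • e) * ∏ g ∈ T, (1 - g • e)) • v
            = (1 - ∏ g ∈ T, (1 - g • e)) • v + (a • e) • ((∏ g ∈ T, (1 - g • e)) • v) := by
          rw [smul_smul, ← add_smul]
          congr 1
          ring
        rw [this]
        apply Submodule.add_mem _ (ihT v)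
        apply Submodule.mem_iSup_of_mem a
        exact ⟨_, rfl⟩
    have hsup : U1 ⊔ LinearMap.range (acL (k := k) (V := V) f') = LinearMap.range (acL (k := k) (V := V) f) := by
      apply le_antisymm (sup_le hU1f hf'f)
      intro v hv
      rw [hrange_mem _ hff] at hv
      have : v = (1 - P) • (f • v) + f' • v := by
        rw [smul_smul, ← add_smul, hf']
        conv_lhs => rw [← hv]
        congr 1
        ring
      rw [this]
      exact Submodule.add_mem _ (Submodule.mem_sup_left (hPU Finset.univ _))
        (Submodule.mem_sup_right ⟨v, rfl⟩)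
    have hlt : Module.finrank k (LinearMap.range (acL (k := k) (V := V) f'))
        < Module.finrank k (LinearMap.range (acL (k := k) (V := V) f)) := by
      apply Submodule.finrank_lt_finrank_of_lt
      apply lt_of_le_of_ne hf'f
      intro heq
      have h1 : U1 = ⊥ := by
        rw [eq_bot_iff, ← hdis]
        exact le_inf le_rfl (heq ▸ hU1f)
      apply he0
      apply hfaith
      intro v
      have : e • v ∈ U1 := by
        apply Submodule.mem_iSup_of_mem (1 : H)
        rw [one_smul]
        exact ⟨v, rfl⟩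
      rw [h1] at this
      exact (Submodule.mem_bot k).1 this
    obtain ⟨W', hW'1, hW'2⟩ := ih f' hf'f' hf'H (by omega)
    obtain ⟨h5, h6⟩ := free_sup (fun h : H => σ h) We W' U1 _ hdis hO1 hO2 hW'1 hW'2
    rw [hsup] at h6
    exact ⟨We ⊔ W', h5, h6⟩

theorem core [FiniteDimensional k C] [FiniteDimensional k V] [Group H] [Finite H]
    [MulSemiringAction H C]
    (σ : H →* (V →ₗ[k] V))
    (hsemi : ∀ (h : H) (c : C) (v : V), σ h (c • v) = (h • c) • σ h v)
    (hfaith : ∀ x : C, (∀ v : V, x • v = 0) → x = 0)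
    (hred : ∀ x : C, x * x = 0 → x = 0)
    (hfree : ∀ h : H, h ≠ 1 → ∀ e : C, e * e = e → e ≠ 0 → h • e = e →
      ∃ x : C, (h • x) * e ≠ x * e) :
    ∃ W : Submodule k V, iSupIndep (fun h => W.map (σ h)) ∧ ⨆ h, W.map (σ h) = ⊤ := by
  obtain ⟨W, h1, h2⟩ := core_aux σ hsemi hfaith hred hfree _ (1 : C) (one_mul 1) (fun h => smul_one h) le_rfl
  refine ⟨W, h1, ?_⟩
  rw [h2, eq_top_iff]
  intro v _
  exact ⟨v, by rw [acL_apply, one_smul]⟩

end Core

end Cfsg.Agent.H1.FrobFree
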