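import Mathlib
import Cfsg.Agent.H1.FrobFreeB
import Cfsg.Agent.H9.SelfDualRep
import Cfsg.Prelude.Def_Solvable
import Cfsg.Agent.Lib.Helper4.PGroupRep
import Cfsg.Agent.Lib.helper3.HallNilp

namespace Cfsg.Agent.H1.FrobFree
open Submodule
open scoped IsMulCommutative Pointwise

theorem free_of_commuting {k V A : Type*} [Field k] [AddCommGroup V] [Module k V] [FiniteDimensional k V]
    [Group A] [Finite A] (ρ : Representation k A V) (Hc Q : Subgroup A)
    (hnorm : ∀ h ∈ Hc, ∀ q ∈ Q, h * q * h⁻¹ ∈ Q)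
    (hcomm : ∀ q ∈ Q, ∀ q' ∈ Q, ρ q * ρ q' = ρ q' * ρ q)
    (hcard : (Nat.card Q : k) ≠ 0)
    (hfpf : ∀ h ∈ Hc, h ≠ 1 → ∀ q ∈ Q, q * h = h * q → q = 1)
    (hCV : ∀ v : V, (∀ q ∈ Q, ρ q v = v) → v = 0) :
    ∃ W : Submodule k V, iSupIndep (fun h : Hc => W.map (ρ (h : A))) ∧
      ⨆ h : Hc, W.map (ρ (h : A)) = ⊤ := by
  classical
  set s : Set (Module.End k V) := ρ '' (Q : Set A) with hs
  have hscomm : ∀ a ∈ s, ∀ b ∈ s, a * b = b * a := by
    rintro _ ⟨q, hq, rfl⟩ _ ⟨q', hq', rfl⟩
    exact hcomm q hq q' hq'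
  set B := Algebra.adjoin k s with hB
  haveI : IsMulCommutative B := Algebra.isMulCommutative_adjoin k hscomm
  have hsm : ∀ (x : B) (v : V), x • v = (x : Module.End k V) v := fun x v => rfl
  haveI : IsScalarTower k B V := ⟨fun a x v => rfl⟩
  have hρinv : ∀ a : A, ρ a * ρ a⁻¹ = 1 := fun a => by rw [← map_mul, mul_inv_cancel, map_one]
  have hρinv' : ∀ a : A, ρ a⁻¹ * ρ a = 1 := fun a => by rw [← map_mul, inv_mul_cancel, map_one]
  have hconjB : ∀ h : Hc, ∀ x ∈ B, ρ (h : A) * x * ρ (h : A)⁻¹ ∈ B := by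
    intro h x hx
    induction hx using Algebra.adjoin_induction with
    | mem x hx =>
      obtain ⟨q, hq, rfl⟩ := hx
      apply Algebra.subset_adjoin
      refine ⟨(h : A) * q * (h : A)⁻¹, hnorm h h.2 q hq, ?_⟩
      rw [map_mul, map_mul]
    | algebraMap r =>
      rw [← Algebra.commutes, mul_assoc, hρinv, mul_one]
      exact Subalgebra.algebraMap_mem _ r
    | add x y _ _ hx hy =>
      rw [mul_add, add_mul]
      exact Subalgebra.add_mem _ hx hy
    | mul x y _ _ hx hy =>
      have : ρ (h:A) * (x * y) * ρ (h:A)⁻¹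
          = (ρ (h:A) * x * ρ (h:A)⁻¹) * (ρ (h:A) * y * ρ (h:A)⁻¹) := by
        simp only [mul_assoc]
        rw [← mul_assoc (ρ (h:A)⁻¹) (ρ (h:A)), hρinv', one_mul]
      rw [this]
      exact Subalgebra.mul_mem _ hx hy
  letI act : MulSemiringAction Hc B :=
    { smul := fun h x => ⟨ρ (h:A) * x * ρ (h:A)⁻¹, hconjB h x x.2⟩
      one_smul := by
        intro x
        apply Subtype.ext
        show ρ ((1 : Hc) : A) * (x : Module.End k V) * ρ ((1 : Hc) : A)⁻¹ = x
        simp
      mul_smul := by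
        intro g h x
        apply Subtype.ext
        show ρ ((g * h : Hc) : A) * (x : Module.End k V) * ρ ((g * h : Hc) : A)⁻¹
          = ρ (g:A) * (ρ (h:A) * (x : Module.End k V) * ρ (h:A)⁻¹) * ρ (g:A)⁻¹
        simp only [Subgroup.coe_mul, mul_inv_rev, map_mul, mul_assoc]
      smul_zero := by
        intro h
        apply Subtype.ext
        show ρ (h:A) * ((0 : B) : Module.End k V) * ρ (h:A)⁻¹ = ((0 : B) : Module.End k V)
        simp
      smul_add := by
        intro h a b
        apply Subtype.ext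
        show ρ (h:A) * ((a + b : B) : Module.End k V) * ρ (h:A)⁻¹
          = ρ (h:A) * (a : Module.End k V) * ρ (h:A)⁻¹ + ρ (h:A) * (b : Module.End k V) * ρ (h:A)⁻¹
        rw [Subalgebra.coe_add, mul_add, add_mul]
      smul_one := by
        intro h
        apply Subtype.ext
        show ρ (h:A) * ((1 : B) : Module.End k V) * ρ (h:A)⁻¹ = ((1 : B) : Module.End k V)
        rw [OneMemClass.coe_one, mul_one, hρinv]
      smul_mul := by
        intro h a b
        apply Subtype.ext
        show ρ (h:A) * ((a * b : B) : Module.End k V) * ρ (h:A)⁻¹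
          = (ρ (h:A) * (a : Module.End k V) * ρ (h:A)⁻¹) * (ρ (h:A) * (b : Module.End k V) * ρ (h:A)⁻¹)
        rw [Subalgebra.coe_mul]
        simp only [mul_assoc]
        rw [← mul_assoc (ρ (h:A)⁻¹) (ρ (h:A)), hρinv', one_mul] }
  have hact : ∀ (h : Hc) (x : B), ((h • x : B) : Module.End k V) = ρ (h:A) * x * ρ (h:A)⁻¹ :=
    fun h x => rfl
  set σ : Hc →* (V →ₗ[k] V) := ρ.comp Hc.subtype with hσ
  have hσapp : ∀ h : Hc, σ h = ρ (h : A) := fun h => rfl
  have hsemi : ∀ (h : Hc) (c : B) (v : V), σ h (c • v) = (h • c) • σ h v := by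
    intro h c v
    rw [hsm, hsm, hact, hσapp, Module.End.mul_apply, Module.End.mul_apply,
      ← Module.End.mul_apply (ρ (h:A)⁻¹), hρinv', Module.End.one_apply]
  have hfaith : ∀ x : B, (∀ v : V, x • v = 0) → x = 0 := by
    intro x hx
    apply Subtype.ext
    apply LinearMap.ext
    intro v
    exact hx v
  have hQB : ∀ q ∈ Q, ρ q ∈ B := fun q hq => Algebra.subset_adjoin ⟨q, hq, rfl⟩
  have hred : ∀ x : B, x * x = 0 → x = 0 := by
    intro x hxx
    have hxx' : ∀ v, (x : Module.End k V) ((x : Module.End k V) v) = 0 := by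
      intro v
      have := congrArg (fun y : B => (y : Module.End k V) v) hxx
      simpa using this
    haveI : Fintype Q := Fintype.ofFinite Q
    set ρQ : Representation k Q V := ρ.comp Q.subtype with hρQ
    have hK : Cfsg.Agent.H9.SelfDual.Inv ρQ (LinearMap.ker (x : Module.End k V)) := by
      intro q v hv
      rw [LinearMap.mem_ker] at hv ⊢
      have hc : (x : Module.End k V) * ρ (q : A) = ρ (q : A) * x := by
        have := mul_comm x ⟨ρ (q : A), hQB q q.2⟩
        exact congrArg Subtype.val this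
      show (x : Module.End k V) (ρ (q : A) v) = 0
      rw [← Module.End.mul_apply, hc, Module.End.mul_apply, hv, map_zero]
    obtain ⟨Z, hZ, hKZ⟩ := Cfsg.Agent.H9.SelfDual.maschke ρQ
      (by rw [← Nat.card_eq_fintype_card]; exact hcard) _ hK
    have hZB : ∀ y ∈ B, ∀ v ∈ Z, y v ∈ Z := by
      intro y hy
      induction hy using Algebra.adjoin_induction with
      | mem y hy =>
        obtain ⟨q, hq, rfl⟩ := hy
        intro v hv
        exact hZ ⟨q, hq⟩ v hv
      | algebraMap r =>
        intro v hv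
        rw [Module.algebraMap_end_apply]
        exact Z.smul_mem r hv
      | add y z _ _ hy hz =>
        intro v hv
        exact Z.add_mem (hy v hv) (hz v hv)
      | mul y z _ _ hy hz =>
        intro v hv
        exact hy _ (hz v hv)
    have hZ0 : Z = ⊥ := by
      rw [eq_bot_iff]
      intro v hv
      have h1 : (x : Module.End k V) v ∈ Z := hZB x x.2 v hv
      have h2 : (x : Module.End k V) v ∈ LinearMap.ker (x : Module.End k V) := by
        rw [LinearMap.mem_ker]; exact hxx' v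
      have h3 : (x : Module.End k V) v = 0 := by
        have := hKZ.disjoint.le_bot ⟨h2, h1⟩
        exact (Submodule.mem_bot k).1 this
      have h4 : v ∈ LinearMap.ker (x : Module.End k V) := h3
      exact hKZ.disjoint.le_bot ⟨h4, hv⟩
    have hKtop : LinearMap.ker (x : Module.End k V) = ⊤ := by
      have := hKZ.sup_eq_top
      rw [hZ0, sup_bot_eq] at this
      exact this
    apply Subtype.ext
    exact LinearMap.ker_eq_top.1 hKtop
  have hfree : ∀ h : Hc, h ≠ 1 → ∀ e : B, e * e = e → e ≠ 0 → h • e = e →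
      ∃ x : B, (h • x) * e ≠ x * e := by
    intro h hh e hee he0 hhe
    by_contra hcon
    push Not at hcon
    apply he0
    -- every element of Q fixes the image of e
    have h1 : ∀ q ∈ Q, ρ ((q⁻¹ * (h:A) * q * (h:A)⁻¹)) * (e : Module.End k V) = e := by
      intro q hq
      have h2 := congrArg Subtype.val (hcon ⟨ρ q, hQB q hq⟩)
      rw [Subalgebra.coe_mul, Subalgebra.coe_mul, hact] at h2
      simp only at h2
      have h3 : ρ q⁻¹ * (ρ (h:A) * ρ q * ρ (h:A)⁻¹ * (e : Module.End k V)) = ρ q⁻¹ * (ρ q * (e : Module.End k V)) := by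
        rw [h2]
      rw [← mul_assoc (ρ q⁻¹) (ρ q), hρinv', one_mul] at h3
      calc ρ ((q⁻¹ * (h:A) * q * (h:A)⁻¹)) * (e : Module.End k V)
          = ρ q⁻¹ * (ρ (h:A) * ρ q * ρ (h:A)⁻¹ * (e : Module.End k V)) := by
            simp only [map_mul, mul_assoc]
        _ = e := h3
    have hinj : Function.Injective (fun q : Q => (⟨(q:A)⁻¹ * (h:A) * q * (h:A)⁻¹, by
        have := hnorm h h.2 q q.2
        have h5 : (q:A)⁻¹ * (h:A) * q * (h:A)⁻¹ = (q:A)⁻¹ * ((h:A) * q * (h:A)⁻¹) := by group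
        rw [h5]
        exact Q.mul_mem (Q.inv_mem q.2) this⟩ : Q)) := by
      intro q q' hqq
      have h6 : (q:A)⁻¹ * (h:A) * q * (h:A)⁻¹ = (q':A)⁻¹ * (h:A) * q' * (h:A)⁻¹ := congrArg Subtype.val hqq
      have h7 : ((q':A) * (q:A)⁻¹) * (h:A) = (h:A) * ((q':A) * (q:A)⁻¹) := by
        have h8 : (q:A)⁻¹ * (h:A) * q = (q':A)⁻¹ * (h:A) * q' := mul_right_cancel h6
        calc ((q':A) * (q:A)⁻¹) * (h:A) = (q':A) * ((q:A)⁻¹ * (h:A) * q) * (q:A)⁻¹ := by group
          _ = (q':A) * ((q':A)⁻¹ * (h:A) * q') * (q:A)⁻¹ := by rw [h8]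
          _ = (h:A) * ((q':A) * (q:A)⁻¹) := by group
      have h9 := hfpf h h.2 (fun h1 => hh (Subtype.ext h1)) _ (Q.mul_mem q'.2 (Q.inv_mem q.2)) h7
      apply Subtype.ext
      have : (q' : A) = q := by
        rw [mul_inv_eq_one] at h9
        exact h9
      exact this.symm
    have hsurj := Finite.surjective_of_injective hinj
    have h10 : ∀ z ∈ Q, ρ z * (e : Module.End k V) = e := by
      intro z hz
      obtain ⟨q, hq⟩ := hsurj ⟨z, hz⟩
      have : (q:A)⁻¹ * (h:A) * q * (h:A)⁻¹ = z := congrArg Subtype.val hq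
      rw [← this]
      exact h1 q q.2
    apply hfaith
    intro v
    rw [hsm]
    apply hCV
    intro q hq
    rw [← Module.End.mul_apply, h10 q hq]
  exact core (k := k) (C := B) σ hsemi hfaith hred hfree

section Main
universe u
variable {k A : Type*} [Field k] [Group A] [Finite A]

/-- derived series inside `A` -/
def dser (Q : Subgroup A) : ℕ → Subgroup A
  | 0 => Q
  | (n+1) => ⁅dser Q n, dser Q n⁆

theorem dser_comm (Q : Subgroup A) (n : ℕ) : dser ⁅Q, Q⁆ n = dser Q (n+1) := by
  induction n with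
  | zero => rfl
  | succ n ih =>
    show ⁅dser ⁅Q,Q⁆ n, dser ⁅Q,Q⁆ n⁆ = ⁅dser Q (n+1), dser Q (n+1)⁆
    rw [ih]

theorem dser_eq_map (Q : Subgroup A) (n : ℕ) : (derivedSeries Q n).map Q.subtype = dser Q n := by
  induction n with
  | zero =>
    show (⊤ : Subgroup Q).map Q.subtype = Q
    rw [← MonoidHom.range_eq_map, Subgroup.range_subtype]
  | succ n ih =>
    rw [derivedSeries_succ, Subgroup.map_commutator, ih]
    rfl

/-- restricted representation -/
def resRep {V : Type*} [AddCommGroup V] [Module k V] (ρ : Representation k A V) (U : Submodule k V)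
    (hU : ∀ a : A, ∀ v ∈ U, ρ a v ∈ U) : Representation k A U where
  toFun a := (ρ a).restrict (hU a)
  map_one' := by ext v; simp
  map_mul' a b := by ext v; simp [LinearMap.restrict_apply]

theorem resRep_apply {V : Type*} [AddCommGroup V] [Module k V] (ρ : Representation k A V) (U : Submodule k V)
    (hU : ∀ a : A, ∀ v ∈ U, ρ a v ∈ U) (a : A) (v : U) : ((resRep ρ U hU a v : U) : V) = ρ a (v : V) := rfl

theorem free_main (Hc : Subgroup A) (n : ℕ) :
    ∀ (V : Type u) [AddCommGroup V] [Module k V] [FiniteDimensional k V] (ρ : Representation k A V)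
      (Q : Subgroup A), Q.Normal → dser Q n = ⊥ → (Nat.card Q : k) ≠ 0 →
      (∀ h ∈ Hc, h ≠ 1 → ∀ q ∈ Q, q * h = h * q → q = 1) →
      (∀ v : V, (∀ q ∈ Q, ρ q v = v) → v = 0) →
      ∃ W : Submodule k V, iSupIndep (fun h : Hc => W.map (ρ (h : A))) ∧
        ⨆ h : Hc, W.map (ρ (h : A)) = ⊤ := by
  induction n with
  | zero =>
    intro V _ _ _ ρ Q _ hQ _ _ hCV
    have hQ' : Q = ⊥ := hQ
    have hV : ∀ v : V, v = 0 := by
      intro v
      apply hCV
      intro q hq
      rw [hQ', Subgroup.mem_bot] at hq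
      rw [hq, map_one, Module.End.one_apply]
    obtain ⟨h1, h2⟩ := free_bot (k := k) (V := V) (fun h : Hc => ρ (h : A))
    refine ⟨⊥, h1, ?_⟩
    rw [h2, eq_comm, eq_bot_iff]
    intro v _
    rw [hV v]; exact Submodule.zero_mem _
  | succ n ih =>
    intro V _ _ _ ρ Q hQn hQ hcard hfpf hCV
    classical
    haveI := hQn
    set Q' : Subgroup A := ⁅Q, Q⁆ with hQ'
    haveI hQ'n : Q'.Normal := Subgroup.commutator_normal Q Q
    have hQ'le : Q' ≤ Q := Subgroup.commutator_le_right Q Q
    have hQ'ser : dser Q' n = ⊥ := by rw [hQ', dser_comm]; exact hQ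
    have hcard' : (Nat.card Q' : k) ≠ 0 := by
      intro h0
      apply hcard
      obtain ⟨m, hm⟩ := Subgroup.card_dvd_of_le hQ'le
      rw [hm, Nat.cast_mul, h0, zero_mul]
    haveI : Fintype Q' := Fintype.ofFinite Q'
    set ρN : Representation k Q' V := ρ.comp Q'.subtype with hρN
    set nm := Cfsg.Agent.H9.SelfDual.normMap ρN with hnm
    have hnm_apply : ∀ v, nm v = ∑ x : Q', ρ (x : A) v :=
      fun v => Cfsg.Agent.H9.SelfDual.normMap_apply ρN v
    let U1 : Submodule k V :=
      { carrier := {v | ∀ q ∈ Q', ρ q v = v}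
        add_mem' := by intro a b ha hb q hq; rw [map_add, ha q hq, hb q hq]
        zero_mem' := by intro q _; rw [map_zero]
        smul_mem' := by intro c v hv q hq; rw [map_smul, hv q hq] }
    set U2 : Submodule k V := LinearMap.ker nm with hU2
    have hU1mem : ∀ v, v ∈ U1 ↔ ∀ q ∈ Q', ρ q v = v := fun v => Iff.rfl
    have hρmul : ∀ (a b : A) (v : V), ρ (a * b) v = ρ a (ρ b v) :=
      fun a b v => by rw [map_mul]; rfl
    have hU1inv : ∀ a : A, ∀ v ∈ U1, ρ a v ∈ U1 := by
      intro a v hv q hq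
      have h1 : a⁻¹ * q * a ∈ Q' := by
        have := hQ'n.conj_mem q hq a⁻¹
        simpa using this
      rw [← hρmul, show q * a = a * (a⁻¹ * q * a) by group, hρmul, hv _ h1]
    have hnmfix : ∀ v ∈ U1, nm v = (Nat.card Q' : k) • v := by
      intro v hv
      rw [hnm_apply]
      rw [Finset.sum_congr rfl (fun (x : Q') _ => hv (x : A) x.2), Finset.sum_const, Finset.card_univ,
        Nat.card_eq_fintype_card, Nat.cast_smul_eq_nsmul]
    have hnmU1 : ∀ v, nm v ∈ U1 := by
      intro v q hq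
      exact Cfsg.Agent.H9.SelfDual.rho_normMap ρN ⟨q, hq⟩ v
    have hU2inv : ∀ a : A, ∀ v ∈ U2, ρ a v ∈ U2 := by
      intro a v hv
      rw [hU2, LinearMap.mem_ker] at hv ⊢
      have : nm (ρ a v) = ρ a (nm v) := by
        rw [hnm_apply, hnm_apply, map_sum]
        apply Fintype.sum_equiv (MulAut.conjNormal a⁻¹ : Q' ≃* Q').toEquiv
        intro x
        rw [← hρmul, ← hρmul]
        congr 2
        simp only [MulEquiv.toEquiv_eq_coe, EquivLike.coe_coe, MulAut.conjNormal_apply]
        group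
      rw [this, hv, map_zero]
    have hdis : U1 ⊓ U2 = ⊥ := by
      rw [eq_bot_iff]
      rintro v ⟨h1, h2⟩
      have h3 : nm v = 0 := h2
      rw [hnmfix v h1] at h3
      rcases smul_eq_zero.1 h3 with h4 | h4
      · exact absurd h4 hcard'
      · exact h4
    have hsup : U1 ⊔ U2 = ⊤ := by
      rw [eq_top_iff]
      intro v _
      have : v = (Nat.card Q' : k)⁻¹ • nm v + (v - (Nat.card Q' : k)⁻¹ • nm v) := by abel
      rw [this]
      apply Submodule.add_mem
      · exact Submodule.mem_sup_left (U1.smul_mem _ (hnmU1 v))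
      · apply Submodule.mem_sup_right
        rw [hU2, LinearMap.mem_ker, map_sub, map_smul, hnmfix _ (hnmU1 v), smul_smul,
          inv_mul_cancel₀ hcard', one_smul, sub_self]
    set ρ1 := resRep ρ U1 hU1inv with hρ1
    set ρ2 := resRep ρ U2 hU2inv with hρ2
    obtain ⟨W1', hW1a, hW1b⟩ := free_of_commuting ρ1 Hc Q
      (fun h _ q hq => hQn.conj_mem q hq h)
      (by
        intro q hq q' hq'
        apply LinearMap.ext
        intro v
        apply Subtype.ext
        rw [Module.End.mul_apply, Module.End.mul_apply, hρ1, resRep_apply, resRep_apply,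
          resRep_apply, resRep_apply]
        have hc : q⁻¹ * q'⁻¹ * q * q' ∈ Q' := by
          have := Subgroup.commutator_mem_commutator (Q.inv_mem hq) (Q.inv_mem hq')
          rw [commutatorElement_def, inv_inv, inv_inv] at this
          exact this
        have hv := v.2 _ hc
        rw [← hρmul, show q * q' = q' * q * (q⁻¹ * q'⁻¹ * q * q') by group, hρmul (q' * q), hv,
          hρmul])
      hcard hfpf
      (by
        intro v hv
        apply Subtype.ext
        apply hCV
        intro q hq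
        have := congrArg Subtype.val (hv q hq)
        rwa [hρ1, resRep_apply] at this)
    obtain ⟨W2', hW2a, hW2b⟩ := ih ↥U2 ρ2 Q' hQ'n hQ'ser hcard'
      (fun h hh hne q hq => hfpf h hh hne q (hQ'le hq))
      (by
        intro v hv
        apply Subtype.ext
        have h1 : (v : V) ∈ U1 := by
          intro q hq
          have := congrArg Subtype.val (hv q hq)
          rwa [hρ2, resRep_apply] at this
        have h2 : (v : V) ∈ U1 ⊓ U2 := ⟨h1, v.2⟩
        rw [hdis] at h2
        exact (Submodule.mem_bot k).1 h2)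
    obtain ⟨h1a, h1b⟩ := free_of_restrict (fun h : Hc => ρ (h:A)) U1 (fun h => hU1inv h) W1' hW1a hW1b
    obtain ⟨h2a, h2b⟩ := free_of_restrict (fun h : Hc => ρ (h:A)) U2 (fun h => hU2inv h) W2' hW2a hW2b
    obtain ⟨h3a, h3b⟩ := free_sup (fun h : Hc => ρ (h:A)) _ _ U1 U2 hdis h1a h1b h2a h2b
    rw [hsup] at h3b
    exact ⟨_, h3a, h3b⟩

theorem exists_dser_eq_bot (Q : Subgroup A) [hs : Group.IsSolvable Q] :
    ∃ n, dser Q n = ⊥ := by
  obtain ⟨n, hn⟩ := hs.solvable
  refine ⟨n, ?_⟩
  rw [← dser_eq_map, hn, Subgroup.map_bot]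

theorem frobenius_free {k A : Type*} {V : Type u} [Field k] [AddCommGroup V] [Module k V]
    [FiniteDimensional k V] [Group A] [Finite A]
    (ρ : Representation k A V) (Fk Hc : Subgroup A) [hFn : Fk.Normal]
    (hHc : Cfsg.IsFrobeniusComplement Hc)
    (hker : Cfsg.frobeniusKernel Hc = (Fk : Set A)) (hnil : Group.IsNilpotent ↥Fk)
    (hCF : ∀ v : V, (∀ f ∈ Fk, ρ f v = v) → v = 0) :
    ∃ W : Submodule k V, iSupIndep (fun h : Hc => W.map (ρ (h : A))) ∧
      ⨆ h : Hc, W.map (ρ (h : A)) = ⊤ := by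
  classical
  have hfpf : ∀ h ∈ Hc, h ≠ 1 → ∀ f ∈ Fk, f * h = h * f → f = 1 := by
    intro h hh hne f hf hcomm
    by_contra hf1
    have hfk : f ∈ Cfsg.frobeniusKernel Hc := by rw [hker]; exact hf
    rcases hfk with h1 | h1
    · exact hf1 h1
    have hfH : f ∉ Hc := by
      intro hfH
      apply h1 1
      rw [map_one, one_smul]
      exact hfH
    have h2 := hHc.2.2 f hfH
    have h3 : h ∈ Hc ⊓ (MulAut.conj f • Hc) := by
      refine ⟨hh, ?_⟩
      have h4 : MulAut.conj f • h = h := by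
        rw [MulAut.smul_def, MulAut.conj_apply, hcomm, mul_inv_cancel_right]
      rw [← h4]
      exact Subgroup.smul_mem_pointwise_smul h (MulAut.conj f) Hc hh
    rw [h2, Subgroup.mem_bot] at h3
    exact hne h3
  haveI : Group.IsSolvable Fk := IsNilpotent.to_isSolvable
  by_cases hcard : (Nat.card Fk : k) = 0
  swap
  · obtain ⟨n, hn⟩ := exists_dser_eq_bot Fk
    exact free_main Hc n V ρ Fk hFn hn hcard hfpf hCF
  -- the modular case
  set p := ringChar k with hp
  haveI : CharP k p := ringChar.charP k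
  have hpdvd : p ∣ Nat.card Fk := (CharP.cast_eq_zero_iff k p _).1 hcard
  have hp0 : p ≠ 0 := by
    intro h0
    rw [h0, zero_dvd_iff] at hpdvd
    exact Nat.card_pos.ne' hpdvd
  have hpp : p.Prime := (CharP.char_is_prime_or_zero k p).resolve_right hp0
  haveI : Fact p.Prime := ⟨hpp⟩
  obtain ⟨K, hKn, hKmem, j, hKidx⟩ := Cfsg.Agent.Lib.helper3.HallNilp.exists_hall_pprime (E := ↥Fk) p
  set Q : Subgroup A := K.map Fk.subtype with hQ
  have hQFk : Q ≤ Fk := by
    rintro _ ⟨y, _, rfl⟩
    exact y.2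
  have hQmem : ∀ q : A, q ∈ Q ↔ q ∈ Fk ∧ ¬ p ∣ orderOf q := by
    intro q
    constructor
    · rintro ⟨y, hy, rfl⟩
      refine ⟨y.2, ?_⟩
      have := (hKmem y).1 hy
      rwa [← Subgroup.orderOf_coe] at this
    · rintro ⟨hq1, hq2⟩
      refine ⟨⟨q, hq1⟩, (hKmem _).2 ?_, rfl⟩
      rw [← Subgroup.orderOf_coe]
      exact hq2
  have hQn : Q.Normal := by
    refine ⟨fun q hq a => ?_⟩
    rw [hQmem] at hq ⊢
    refine ⟨hFn.conj_mem q hq.1 a, ?_⟩
    rw [Cfsg.Agent.Lib.helper3.HallNilp.orderOf_conj']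
    exact hq.2
  have hcardQ : (Nat.card Q : k) ≠ 0 := by
    rw [hQ, Subgroup.card_map_of_injective Fk.subtype_injective]
    intro h0
    have hpK : p ∣ Nat.card K := (CharP.cast_eq_zero_iff k p _).1 h0
    obtain ⟨y, hy⟩ := exists_prime_orderOf_dvd_card' (G := K) p hpK
    have h1 := (hKmem (y : Fk)).1 y.2
    apply h1
    rw [Subgroup.orderOf_coe, hy]
  haveI : Group.IsSolvable Q :=
    Group.isSolvable_of_isSolvable_injective (f := Subgroup.inclusion hQFk) (Subgroup.inclusion_injective hQFk)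
  obtain ⟨n, hn⟩ := exists_dser_eq_bot Q
  refine free_main Hc n V ρ Q hQn hn hcardQ (fun h hh hne q hq => hfpf h hh hne q (hQFk hq)) ?_
  -- C_V(Q) = 0
  intro v hv
  by_contra hv0
  obtain ⟨P⟩ : Nonempty (Sylow p Fk) := inferInstance
  set ρP : Representation k (P : Subgroup Fk) V := ρ.comp (Fk.subtype.comp (P : Subgroup Fk).subtype) with hρP
  obtain ⟨w, hw0, hwP, hwcl⟩ := Cfsg.Agent.Lib.Helper4.PGroupRep.exists_fixed_vector (p := p) P.2 ρP v hv0
  have hρmul : ∀ (a b : A) (v : V), ρ (a * b) v = ρ a (ρ b v) :=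
    fun a b v => by rw [map_mul]; rfl
  -- w is fixed by Q
  have hwQ : ∀ q ∈ Q, ρ q w = w := by
    let CQ : AddSubgroup V :=
      { carrier := {u | ∀ q ∈ Q, ρ q u = u}
        add_mem' := by intro a b ha hb q hq; rw [map_add, ha q hq, hb q hq]
        zero_mem' := by intro q _; rw [map_zero]
        neg_mem' := by intro a ha q hq; rw [map_neg, ha q hq] }
    have : AddSubgroup.closure (Set.range fun g : (P : Subgroup Fk) => ρP g v) ≤ CQ := by
      rw [AddSubgroup.closure_le]
      rintro _ ⟨g, rfl⟩ q hq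
      show ρ q (ρ ((g : Fk) : A) v) = ρ ((g : Fk) : A) v
      have h1 : ((g : Fk) : A)⁻¹ * q * ((g : Fk) : A) ∈ Q := by
        have := hQn.conj_mem q hq ((g : Fk) : A)⁻¹
        simpa using this
      rw [← hρmul, show q * ((g : Fk) : A) = ((g : Fk) : A) * (((g : Fk) : A)⁻¹ * q * ((g : Fk) : A)) by group,
        hρmul, hv _ h1]
    exact this hwcl
  -- the stabilizer of w in Fk
  let St : Subgroup Fk :=
    { carrier := {f | ρ (f : A) w = w}
      mul_mem' := by
        intro a b ha hb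
        show ρ ((a * b : Fk) : A) w = w
        rw [Subgroup.coe_mul, hρmul, hb, ha]
      one_mem' := by
        show ρ ((1 : Fk) : A) w = w
        rw [Subgroup.coe_one, map_one, Module.End.one_apply]
      inv_mem' := by
        intro a ha
        show ρ ((a⁻¹ : Fk) : A) w = w
        have ha' : ρ (a : A) w = w := ha
        conv_lhs => rw [← ha']
        rw [← hρmul, Subgroup.coe_inv, inv_mul_cancel, map_one, Module.End.one_apply] }
  have hPSt : (P : Subgroup Fk) ≤ St := fun g hg => hwP ⟨g, hg⟩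
  have hKSt : K ≤ St := fun y hy => hwQ _ ⟨y, hy, rfl⟩
  have hJ : (P : Subgroup Fk) ⊔ K = ⊤ := by
    rw [← Subgroup.index_eq_one]
    have h1 : ((P : Subgroup Fk) ⊔ K).index ∣ p ^ j := hKidx ▸ Subgroup.index_dvd_of_le le_sup_right
    have h2 : ((P : Subgroup Fk) ⊔ K).index ∣ (P : Subgroup Fk).index := Subgroup.index_dvd_of_le le_sup_left
    obtain ⟨i, _, hi⟩ := (Nat.dvd_prime_pow hpp).1 h1
    rcases Nat.eq_zero_or_pos i with h0 | hpos
    · rw [hi, h0, pow_zero]
    · exfalso
      apply P.not_dvd_index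
      refine dvd_trans ?_ h2
      rw [hi]
      exact dvd_pow_self p hpos.ne'
  have hSt : St = ⊤ := by
    rw [eq_top_iff, ← hJ]
    exact sup_le hPSt hKSt
  apply hw0
  apply hCF
  intro f hf
  have : (⟨f, hf⟩ : Fk) ∈ St := by rw [hSt]; exact Subgroup.mem_top _
  exact this

end Main

end Cfsg.Agent.H1.FrobFree
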