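import Mathlib
import Cfsg.Agent.H1.FrobFreeC

namespace Cfsg.Agent.H1.FrobFree
open Submodule

universe u

section Decomp
variable {k A V : Type*} [Field k] [AddCommGroup V] [Module k V] [Group A] [Finite A]

theorem exists_sum_of_mem_iSup {ι : Type*} [Fintype ι] (p : ι → Submodule k V) (a : V)
    (ha : a ∈ ⨆ i, p i) : ∃ μ : ι → V, (∀ i, μ i ∈ p i) ∧ ∑ i, μ i = a := by
  classical
  have h1 : a ∈ ⨆ i ∈ (Finset.univ : Finset ι), p i := by
    simpa using ha
  obtain ⟨μ, hμ⟩ := (Submodule.mem_iSup_finset_iff_exists_sum p a).1 h1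
  exact ⟨fun i => (μ i : V), fun i => (μ i).2, hμ⟩

theorem fix_ker_decomp (ρ : Representation k A V) (Q : Subgroup A) [hQn : Q.Normal]
    (hcard : (Nat.card Q : k) ≠ 0) :
    ∃ V1 V2 : Submodule k V, (∀ v, v ∈ V1 ↔ ∀ q ∈ Q, ρ q v = v) ∧ V1 ⊓ V2 = ⊥ ∧ V1 ⊔ V2 = ⊤ ∧
      (∀ a : A, ∀ v ∈ V1, ρ a v ∈ V1) ∧ (∀ a : A, ∀ v ∈ V2, ρ a v ∈ V2) := by
  classical
  haveI : Fintype Q := Fintype.ofFinite Q
  set ρN : Representation k Q V := ρ.comp Q.subtype with hρN
  set nm := Cfsg.Agent.H9.SelfDual.normMap ρN with hnm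
  have hnm_apply : ∀ v, nm v = ∑ x : Q, ρ (x : A) v :=
    fun v => Cfsg.Agent.H9.SelfDual.normMap_apply ρN v
  let U1 : Submodule k V :=
    { carrier := {v | ∀ q ∈ Q, ρ q v = v}
      add_mem' := by intro a b ha hb q hq; rw [map_add, ha q hq, hb q hq]
      zero_mem' := by intro q _; rw [map_zero]
      smul_mem' := by intro c v hv q hq; rw [map_smul, hv q hq] }
  set U2 : Submodule k V := LinearMap.ker nm with hU2
  have hU1mem : ∀ v, v ∈ U1 ↔ ∀ q ∈ Q, ρ q v = v := fun v => Iff.rfl
  have hρmul : ∀ (a b : A) (v : V), ρ (a * b) v = ρ a (ρ b v) :=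
    fun a b v => by rw [map_mul]; rfl
  have hU1inv : ∀ a : A, ∀ v ∈ U1, ρ a v ∈ U1 := by
    intro a v hv q hq
    have h1 : a⁻¹ * q * a ∈ Q := by
      have := hQn.conj_mem q hq a⁻¹
      simpa using this
    rw [← hρmul, show q * a = a * (a⁻¹ * q * a) by group, hρmul, hv _ h1]
  have hnmfix : ∀ v ∈ U1, nm v = (Nat.card Q : k) • v := by
    intro v hv
    rw [hnm_apply]
    rw [Finset.sum_congr rfl (fun (x : Q) _ => hv (x : A) x.2), Finset.sum_const, Finset.card_univ,
      Nat.card_eq_fintype_card, Nat.cast_smul_eq_nsmul]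
  have hnmU1 : ∀ v, nm v ∈ U1 := by
    intro v q hq
    exact Cfsg.Agent.H9.SelfDual.rho_normMap ρN ⟨q, hq⟩ v
  have hU2inv : ∀ a : A, ∀ v ∈ U2, ρ a v ∈ U2 := by
    intro a v hv
    rw [hU2, LinearMap.mem_ker] at hv ⊢
    have : nm (ρ a v) = ρ a (nm v) := by
      rw [hnm_apply, hnm_apply, map_sum]
      apply Fintype.sum_equiv (MulAut.conjNormal a⁻¹ : Q ≃* Q).toEquiv
      intro x
      rw [← hρmul, ← hρmul]
      congr 2
      simp only [MulEquiv.toEquiv_eq_coe, EquivLike.coe_coe, MulAut.conjNormal_apply]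
      group
    rw [this, hv, map_zero]
  have hdis : U1 ⊓ U2 = ⊥ := by
    rw [eq_bot_iff]
    rintro v ⟨h1, h2⟩
    have h3 : nm v = 0 := h2
    rw [hnmfix v h1] at h3
    rcases smul_eq_zero.1 h3 with h4 | h4
    · exact absurd h4 hcard
    · exact h4
  have hsup : U1 ⊔ U2 = ⊤ := by
    rw [eq_top_iff]
    intro v _
    have : v = (Nat.card Q : k)⁻¹ • nm v + (v - (Nat.card Q : k)⁻¹ • nm v) := by abel
    rw [this]
    apply Submodule.add_mem
    · exact Submodule.mem_sup_left (U1.smul_mem _ (hnmU1 v))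
    · apply Submodule.mem_sup_right
      rw [hU2, LinearMap.mem_ker, map_sub, map_smul, hnmfix _ (hnmU1 v), smul_smul,
        inv_mul_cancel₀ hcard, one_smul, sub_self]
  exact ⟨U1, U2, hU1mem, hdis, hsup, hU1inv, hU2inv⟩

end Decomp

section Count
variable {k V H : Type*} [Field k] [AddCommGroup V] [Module k V] [Finite V] [Group H] [Finite H]

/-- counting in a free module -/
theorem card_free (σ : H →* (V →ₗ[k] V)) (W : Submodule k V)
    (h1 : iSupIndep (fun h => W.map (σ h))) (h2 : ⨆ h, W.map (σ h) = ⊤) :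
    Nat.card V = Nat.card W ^ Nat.card H ∧ Nat.card {v : V // ∀ h : H, σ h v = v} = Nat.card W := by
  classical
  haveI := Fintype.ofFinite H
  have hσinv : ∀ (h : H) (v : V), σ h⁻¹ (σ h v) = v := by
    intro h v
    rw [← Module.End.mul_apply, ← map_mul, inv_mul_cancel, map_one, Module.End.one_apply]
  have hσinj : ∀ h : H, Function.Injective (σ h) := by
    intro h a b hab
    rw [← hσinv h a, hab, hσinv]
  have hσmul : ∀ (g h : H) (v : V), σ (g * h) v = σ g (σ h v) := by
    intro g h v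
    rw [map_mul]; rfl
  constructor
  · -- V ≃ (H → W)
    let Φ : (H → W) → V := fun f => ∑ h, σ h (f h : V)
    have hΦ : Function.Bijective Φ := by
      constructor
      · intro f g hfg
        have h3 : ∑ h, σ h ((f h : V) - (g h : V)) = 0 := by
          simp only [map_sub, Finset.sum_sub_distrib]
          exact sub_eq_zero.2 hfg
        have h4 := forall_sum_of_iSupIndep h1 (fun h => σ h ((f h : V) - (g h : V)))
          (fun h => Submodule.mem_map_of_mem (W.sub_mem (f h).2 (g h).2)) h3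
        funext h
        apply Subtype.ext
        have h5 := h4 h
        have h6 : σ h ((f h : V) - (g h : V)) = σ h 0 := by rw [h5, map_zero]
        exact sub_eq_zero.1 (hσinj h h6)
      · intro v
        have hv : v ∈ ⨆ h, W.map (σ h) := by rw [h2]; exact Submodule.mem_top
        obtain ⟨μ, hμ1, hμ2⟩ := exists_sum_of_mem_iSup _ v hv
        choose w hw hwμ using fun h => Submodule.mem_map.1 (hμ1 h)
        refine ⟨fun h => ⟨w h, hw h⟩, ?_⟩
        show ∑ h, σ h (w h) = v
        simp only [hwμ]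
        exact hμ2
    rw [← Nat.card_congr (Equiv.ofBijective Φ hΦ), Nat.card_fun]
  · -- fixed points
    let τ : W → {v : V // ∀ h : H, σ h v = v} := fun w => ⟨∑ h, σ h (w : V), by
      intro g
      rw [map_sum]
      apply Fintype.sum_equiv (Equiv.mulLeft g)
      intro h
      rw [Equiv.coe_mulLeft, hσmul]⟩
    have hτ : Function.Bijective τ := by
      constructor
      · intro a b hab
        have hab' : ∑ h, σ h (a : V) = ∑ h, σ h (b : V) := congrArg Subtype.val hab
        have h3 : ∑ h, σ h ((a : V) - (b : V)) = 0 := by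
          simp only [map_sub, Finset.sum_sub_distrib]
          exact sub_eq_zero.2 hab'
        have h4 := forall_sum_of_iSupIndep h1 (fun h => σ h ((a : V) - (b : V)))
          (fun h => Submodule.mem_map_of_mem (W.sub_mem a.2 b.2)) h3 1
        simp only [map_one, Module.End.one_apply] at h4
        exact Subtype.ext (sub_eq_zero.1 h4)
      · rintro ⟨v, hvfix⟩
        have hv : v ∈ ⨆ h, W.map (σ h) := by rw [h2]; exact Submodule.mem_top
        obtain ⟨μ, hμ1, hμ2⟩ := exists_sum_of_mem_iSup _ v hv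
        choose w hw hwμ using fun h => Submodule.mem_map.1 (hμ1 h)
        -- all w h equal
        have hweq : ∀ g : H, w g = w 1 := by
          intro g
          have h3 : ∑ h, σ h (w (g * h) - w h) = 0 := by
            simp only [map_sub, Finset.sum_sub_distrib]
            rw [sub_eq_zero]
            have e1 : ∑ h, σ h (w h) = v := by simp only [hwμ]; exact hμ2
            rw [e1]
            have e2 : ∑ h, σ h (w (g * h)) = σ g⁻¹ (∑ h, σ h (w h)) := by
              rw [map_sum]
              symm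
              apply Fintype.sum_equiv (Equiv.mulLeft g⁻¹)
              intro h
              rw [Equiv.coe_mulLeft, ← hσmul, mul_inv_cancel_left]
            rw [e2, e1, hvfix]
          have h4 := forall_sum_of_iSupIndep h1 (fun h => σ h (w (g * h) - w h))
            (fun h => Submodule.mem_map_of_mem (W.sub_mem (hw _) (hw _))) h3 1
          simp only [map_one, Module.End.one_apply, mul_one] at h4
          exact sub_eq_zero.1 h4
        refine ⟨⟨w 1, hw 1⟩, ?_⟩
        apply Subtype.ext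
        show ∑ h, σ h (w 1) = v
        rw [← hμ2]
        apply Finset.sum_congr rfl
        intro h _
        rw [← hwμ h, hweq h]
    exact (Nat.card_congr (Equiv.ofBijective τ hτ)).symm

end Count

/-- the stabilizer of a vector -/
def stabSub {k A V : Type*} [Field k] [AddCommGroup V] [Module k V] [Group A]
    (ρ : Representation k A V) (v : V) : Subgroup A where
  carrier := {a | ρ a v = v}
  mul_mem' := by
    intro a b ha hb
    show ρ (a * b) v = v
    rw [map_mul, Module.End.mul_apply, (hb : ρ b v = v), (ha : ρ a v = v)]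
  one_mem' := by
    show ρ 1 v = v
    rw [map_one, Module.End.one_apply]
  inv_mem' := by
    intro a ha
    show ρ a⁻¹ v = v
    conv_lhs => rw [← (ha : ρ a v = v)]
    rw [← Module.End.mul_apply, ← map_mul, inv_mul_cancel, map_one, Module.End.one_apply]

theorem mem_stabSub {k A V : Type*} [Field k] [AddCommGroup V] [Module k V] [Group A]
    (ρ : Representation k A V) (v : V) (a : A) : a ∈ stabSub ρ v ↔ ρ a v = v := Iff.rfl


section Formula
variable {k A : Type*} {V : Type u} [Field k] [AddCommGroup V] [Module k V] [Finite V] [Group A] [Finite A]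

/-- the fixed point formula for a Frobenius group acting linearly -/
theorem card_fix_formula (ρ : Representation k A V) (Uk Hc : Subgroup A) [hUn : Uk.Normal]
    (hsup : Uk ⊔ Hc = ⊤) (n : ℕ) (hser : dser Uk n = ⊥) (hcard : (Nat.card Uk : k) ≠ 0)
    (hfpf : ∀ h ∈ Hc, h ≠ 1 → ∀ q ∈ Uk, q * h = h * q → q = 1) :
    Nat.card {v : V // ∀ a : A, ρ a v = v} ^ Nat.card Hc * Nat.card V =
      Nat.card {v : V // ∀ h ∈ Hc, ρ h v = v} ^ Nat.card Hc * Nat.card {v : V // ∀ q ∈ Uk, ρ q v = v} := by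
  classical
  obtain ⟨V1, V2, hV1, hdis, hsupV, hV1inv, hV2inv⟩ := fix_ker_decomp ρ Uk hcard
  have hcompl : IsCompl V1 V2 := ⟨disjoint_iff.2 hdis, codisjoint_iff.2 hsupV⟩
  set ρ2 := resRep ρ V2 hV2inv with hρ2
  obtain ⟨W, hW1, hW2⟩ := free_main Hc n ↥V2 ρ2 Uk hUn hser hcard hfpf
    (by
      intro v hv
      apply Subtype.ext
      have h1 : (v : V) ∈ V1 := by
        rw [hV1]
        intro q hq
        have := congrArg Subtype.val (hv q hq)
        rwa [hρ2, resRep_apply] at this
      have h2 : (v : V) ∈ V1 ⊓ V2 := ⟨h1, v.2⟩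
      rw [hdis] at h2
      exact (Submodule.mem_bot k).1 h2)
  obtain ⟨hc1, hc2⟩ := card_free (ρ2.comp Hc.subtype) W hW1 hW2
  -- |V| = |V1| |V2|
  have hVcard : Nat.card V = Nat.card V1 * Nat.card V2 := by
    rw [← Nat.card_prod]
    exact (Nat.card_congr (Submodule.prodEquivOfIsCompl V1 V2 hcompl).toEquiv).symm
  -- fixed points of Uk
  have hV1card : Nat.card {v : V // ∀ q ∈ Uk, ρ q v = v} = Nat.card V1 := by
    apply Nat.card_congr
    exact Equiv.subtypeEquivRight (fun v => (hV1 v).symm)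
  -- fixed points of Hc in V2
  have hfix2 : Nat.card {v : V2 // ∀ h : Hc, (ρ2.comp Hc.subtype) h v = v}
      = Nat.card {v : V // v ∈ V2 ∧ ∀ h ∈ Hc, ρ h v = v} := by
    apply Nat.card_congr
    refine ⟨fun v => ⟨(v.1 : V), v.1.2, fun h hh => ?_⟩, fun v => ⟨⟨v.1, v.2.1⟩, fun h => ?_⟩,
      fun v => rfl, fun v => rfl⟩
    · have := congrArg Subtype.val (v.2 ⟨h, hh⟩)
      exact this
    · apply Subtype.ext
      exact v.2.2 h h.2
  -- fixed points of A
  have hfixA : ∀ v : V, (∀ a : A, ρ a v = v) ↔ (v ∈ V1 ∧ ∀ h ∈ Hc, ρ h v = v) := by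
    intro v
    constructor
    · intro h
      exact ⟨(hV1 v).2 (fun q _ => h q), fun h' _ => h h'⟩
    · rintro ⟨h1, h2⟩ a
      have ha : a ∈ Uk ⊔ Hc := by rw [hsup]; exact Subgroup.mem_top a
      rw [hV1] at h1
      have hle : Uk ⊔ Hc ≤ stabSub ρ v := sup_le (fun q hq => h1 q hq) (fun h hh => h2 h hh)
      exact hle ha
  have hfixAcard : Nat.card {v : V // ∀ a : A, ρ a v = v}
      = Nat.card {v : V // v ∈ V1 ∧ ∀ h ∈ Hc, ρ h v = v} :=
    Nat.card_congr (Equiv.subtypeEquivRight hfixA)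
  -- fixed points of Hc split
  have hfixH : Nat.card {v : V // ∀ h ∈ Hc, ρ h v = v}
      = Nat.card {v : V // v ∈ V1 ∧ ∀ h ∈ Hc, ρ h v = v} *
        Nat.card {v : V // v ∈ V2 ∧ ∀ h ∈ Hc, ρ h v = v} := by
    rw [← Nat.card_prod]
    symm
    let Ψ : {v : V // v ∈ V1 ∧ ∀ h ∈ Hc, ρ h v = v} × {v : V // v ∈ V2 ∧ ∀ h ∈ Hc, ρ h v = v} →
        {v : V // ∀ h ∈ Hc, ρ h v = v} := fun x => ⟨x.1.1 + x.2.1, fun h hh => by
          rw [map_add, x.1.2.2 h hh, x.2.2.2 h hh]⟩
    have hΨ : Function.Bijective Ψ := by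
      constructor
      · rintro ⟨⟨a, ha1, ha2⟩, ⟨b, hb1, hb2⟩⟩ ⟨⟨a', ha'1, ha'2⟩, ⟨b', hb'1, hb'2⟩⟩ hab
        have h1 : a + b = a' + b' := congrArg Subtype.val hab
        have h2 : a - a' ∈ V1 ⊓ V2 := by
          refine ⟨V1.sub_mem ha1 ha'1, ?_⟩
          have : a - a' = b' - b := by
            rw [sub_eq_sub_iff_add_eq_add, h1, add_comm]
          rw [this]
          exact V2.sub_mem hb'1 hb1
        rw [hdis] at h2
        have h3 : a = a' := sub_eq_zero.1 ((Submodule.mem_bot k).1 h2)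
        subst h3
        have h4 : b = b' := add_left_cancel h1
        subst h4
        rfl
      · rintro ⟨v, hv⟩
        have hvtop : v ∈ V1 ⊔ V2 := by rw [hsupV]; exact Submodule.mem_top
        obtain ⟨v1, hv1, v2, hv2, rfl⟩ := Submodule.mem_sup.1 hvtop
        have hsplit : ∀ h ∈ Hc, ρ h v1 = v1 ∧ ρ h v2 = v2 := by
          intro h hh
          have h1 := hv h hh
          rw [map_add] at h1
          have h2 : ρ h v1 - v1 ∈ V1 ⊓ V2 := by
            refine ⟨V1.sub_mem (hV1inv h v1 hv1) hv1, ?_⟩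
            have : ρ h v1 - v1 = v2 - ρ h v2 := by
              rw [sub_eq_sub_iff_add_eq_add, h1, add_comm]
            rw [this]
            exact V2.sub_mem hv2 (hV2inv h v2 hv2)
          rw [hdis] at h2
          have h3 : ρ h v1 = v1 := sub_eq_zero.1 ((Submodule.mem_bot k).1 h2)
          rw [h3] at h1
          exact ⟨h3, add_left_cancel h1⟩
        exact ⟨⟨⟨v1, hv1, fun h hh => (hsplit h hh).1⟩, ⟨v2, hv2, fun h hh => (hsplit h hh).2⟩⟩, rfl⟩
    exact Nat.card_congr (Equiv.ofBijective Ψ hΨ)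
  rw [hfixAcard, hfixH, hV1card, hVcard, hc1, ← hfix2, hc2]
  ring

end Formula

end Cfsg.Agent.H1.FrobFree
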