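import Mathlib
import Cfsg.Agent.H1.FrobFixA

namespace Cfsg.Agent.H1.FrobFix

universe u

open scoped commutatorElement

section Basic
variable {F : Type*} [Group F] {H : Type*} [Group H]

/-- fixed points of `Y ≤ F` on `H` -/
def fixS (φ : F →* MulAut H) (Y : Subgroup F) : Subgroup H where
  carrier := {h | ∀ y ∈ Y, φ y h = h}
  mul_mem' := by
    intro a b ha hb y hy
    rw [map_mul, ha y hy, hb y hy]
  one_mem' := by
    intro y _
    rw [map_one]
  inv_mem' := by
    intro a ha y hy
    rw [map_inv, ha y hy]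

theorem mem_fixS (φ : F →* MulAut H) (Y : Subgroup F) (h : H) :
    h ∈ fixS φ Y ↔ ∀ y ∈ Y, φ y h = h := Iff.rfl

theorem phi_inv_apply (φ : F →* MulAut H) (f : F) (h : H) : φ f⁻¹ (φ f h) = h := by
  rw [← MulAut.mul_apply, ← map_mul, inv_mul_cancel, map_one, MulAut.one_apply]

theorem phi_apply_inv (φ : F →* MulAut H) (f : F) (h : H) : φ f (φ f⁻¹ h) = h := by
  rw [← MulAut.mul_apply, ← map_mul, mul_inv_cancel, map_one, MulAut.one_apply]

theorem phi_mul_apply (φ : F →* MulAut H) (f g : F) (h : H) : φ (f * g) h = φ f (φ g h) := by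
  rw [map_mul, MulAut.mul_apply]

/-- restricted action -/
def resAct (φ : F →* MulAut H) (N : Subgroup H) (hN : ∀ f : F, ∀ n ∈ N, φ f n ∈ N) :
    F →* MulAut N where
  toFun f :=
    { toFun := fun n => ⟨φ f n, hN f n n.2⟩
      invFun := fun n => ⟨φ f⁻¹ n, hN f⁻¹ n n.2⟩
      left_inv := fun n => Subtype.ext (phi_inv_apply φ f n)
      right_inv := fun n => Subtype.ext (phi_apply_inv φ f n)
      map_mul' := fun a b => Subtype.ext (map_mul (φ f) (a : H) (b : H)) }
  map_one' := by
    ext n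
    show φ 1 (n : H) = n
    rw [map_one, MulAut.one_apply]
  map_mul' := by
    intro f g
    ext n
    show φ (f * g) (n : H) = φ f (φ g (n : H))
    rw [phi_mul_apply]

@[simp] theorem resAct_apply (φ : F →* MulAut H) (N : Subgroup H) (hN : ∀ f : F, ∀ n ∈ N, φ f n ∈ N)
    (f : F) (n : N) : ((resAct φ N hN f n : N) : H) = φ f (n : H) := rfl

theorem map_eq_of_inv (φ : F →* MulAut H) (N : Subgroup H) (hN : ∀ f : F, ∀ n ∈ N, φ f n ∈ N) (f : F) :
    N.map ((φ f : H ≃* H) : H →* H) = N := by
  apply le_antisymm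
  · rintro _ ⟨n, hn, rfl⟩
    exact hN f n hn
  · intro n hn
    exact ⟨φ f⁻¹ n, hN f⁻¹ n hn, phi_apply_inv φ f n⟩

/-- quotient action -/
def quotAct (φ : F →* MulAut H) (N : Subgroup H) [N.Normal] (hN : ∀ f : F, ∀ n ∈ N, φ f n ∈ N) :
    F →* MulAut (H ⧸ N) where
  toFun f := QuotientGroup.congr N N (φ f) (map_eq_of_inv φ N hN f)
  map_one' := by
    ext x
    induction x using QuotientGroup.induction_on with
    | H h =>
      show (QuotientGroup.mk (φ 1 h) : H ⧸ N) = QuotientGroup.mk h
      rw [map_one, MulAut.one_apply]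
  map_mul' := by
    intro f g
    ext x
    induction x using QuotientGroup.induction_on with
    | H h =>
      show (QuotientGroup.mk (φ (f * g) h) : H ⧸ N) = QuotientGroup.mk (φ f (φ g h))
      rw [phi_mul_apply]

theorem quotAct_mk (φ : F →* MulAut H) (N : Subgroup H) [N.Normal] (hN : ∀ f : F, ∀ n ∈ N, φ f n ∈ N)
    (f : F) (h : H) : quotAct φ N hN f (QuotientGroup.mk h) = QuotientGroup.mk (φ f h) := rfl

end Basic

section Cocycle
variable {F : Type*} [Group F] [Finite F] {H : Type*} [Group H] [Finite H]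

/-- a fixed coset of an abelian invariant subgroup of coprime order contains a fixed element -/
theorem exists_fixed_in_coset (φ : F →* MulAut H) (N : Subgroup H)
    (hN : ∀ f : F, ∀ n ∈ N, φ f n ∈ N) (hab : ∀ a ∈ N, ∀ b ∈ N, a * b = b * a)
    (Y : Subgroup F) (hcop : (Nat.card N).Coprime (Nat.card Y))
    (x : H) (hx : ∀ y ∈ Y, x⁻¹ * φ y x ∈ N) :
    ∃ n ∈ N, ∀ y ∈ Y, φ y (x * n) = x * n := by
  classical
  haveI : Fintype Y := Fintype.ofFinite Y
  letI : CommGroup N := { (inferInstance : Group N) with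
    mul_comm := fun a b => Subtype.ext (hab a a.2 b b.2) }
  set ψ := resAct φ N hN with hψ
  let c : Y → N := fun y => ⟨x⁻¹ * φ (y : F) x, hx y y.2⟩
  have hc : ∀ y z : Y, c (y * z) = c y * ψ (y : F) (c z) := by
    intro y z
    apply Subtype.ext
    show x⁻¹ * φ ((y * z : Y) : F) x = (x⁻¹ * φ (y : F) x) * φ (y : F) (x⁻¹ * φ (z : F) x)
    rw [Subgroup.coe_mul, phi_mul_apply, map_mul, map_inv]
    group
  set d : N := ∏ z : Y, c z with hd
  set m := Nat.card Y with hm
  have hcm : ∀ y : Y, c y ^ m * ψ (y : F) d = d := by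
    intro y
    have h1 : ∏ z : Y, c (y * z) = d := by
      rw [hd]
      exact Fintype.prod_equiv (Equiv.mulLeft y) _ _ (fun z => rfl)
    have h2 : ∏ z : Y, c (y * z) = c y ^ m * ψ (y : F) d := by
      simp only [hc]
      rw [Finset.prod_mul_distrib, Finset.prod_const, Finset.card_univ, hd, map_prod, hm,
        Nat.card_eq_fintype_card]
    rw [← h2, h1]
  obtain ⟨n0, hn0m⟩ : ∃ n0 : N, n0 ^ m = d := by
    refine ⟨(powCoprime hcop).symm d, ?_⟩
    have := (powCoprime hcop).apply_symm_apply d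
    rwa [powCoprime_apply] at this
  have hcy : ∀ y : Y, c y = n0 * (ψ (y : F) n0)⁻¹ := by
    intro y
    apply (powCoprime hcop).injective
    rw [powCoprime_apply, powCoprime_apply, mul_pow, inv_pow]
    have e : (ψ (y : F) n0) ^ m = ψ (y : F) (n0 ^ m) := (map_pow (ψ (y : F)) n0 m).symm
    rw [e, hn0m, eq_mul_inv_iff_mul_eq]
    exact hcm y
  refine ⟨(n0 : H), n0.2, ?_⟩
  intro y hy
  have h1 := congrArg Subtype.val (hcy ⟨y, hy⟩)
  have h2 : x⁻¹ * φ y x = (n0 : H) * (φ y (n0 : H))⁻¹ := h1
  rw [map_mul]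
  have h3 : φ y x = x * ((n0 : H) * (φ y (n0 : H))⁻¹) := by
    rw [← h2]; group
  rw [h3]
  group

theorem card_fixS_eq (φ : F →* MulAut H) (N : Subgroup H) [N.Normal]
    (hN : ∀ f : F, ∀ n ∈ N, φ f n ∈ N) (hab : ∀ a ∈ N, ∀ b ∈ N, a * b = b * a)
    (Y : Subgroup F) (hcop : (Nat.card N).Coprime (Nat.card Y)) :
    Nat.card (fixS φ Y) = Nat.card (fixS (resAct φ N hN) Y) * Nat.card (fixS (quotAct φ N hN) Y) := by
  classical
  -- the homomorphism to the quotient
  let π : fixS φ Y →* fixS (quotAct φ N hN) Y :=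
    { toFun := fun h => ⟨QuotientGroup.mk (h : H), by
        intro y hy
        rw [quotAct_mk, h.2 y hy]⟩
      map_one' := rfl
      map_mul' := fun a b => rfl }
  have hsurj : Function.Surjective π := by
    rintro ⟨q, hq⟩
    induction q using QuotientGroup.induction_on with
    | H x =>
      have hx : ∀ y ∈ Y, x⁻¹ * φ y x ∈ N := by
        intro y hy
        have := hq y hy
        rw [quotAct_mk] at this
        exact QuotientGroup.eq.1 this.symm
      obtain ⟨n, hn, hfix⟩ := exists_fixed_in_coset φ N hN hab Y hcop x hx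
      refine ⟨⟨x * n, hfix⟩, ?_⟩
      apply Subtype.ext
      show (QuotientGroup.mk (x * n) : H ⧸ N) = QuotientGroup.mk x
      rw [QuotientGroup.eq]
      simpa using hn
  have hker : Nat.card π.ker = Nat.card (fixS (resAct φ N hN) Y) := by
    apply Nat.card_congr
    refine ⟨fun h => ⟨⟨(h.1 : H), ?_⟩, ?_⟩, fun n => ⟨⟨(n.1 : H), ?_⟩, ?_⟩, fun _ => rfl, fun _ => rfl⟩
    · have h1 := h.2
      rw [MonoidHom.mem_ker] at h1
      have h2 := congrArg Subtype.val h1
      exact (QuotientGroup.eq_one_iff _).1 h2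
    · intro y hy
      apply Subtype.ext
      exact h.1.2 y hy
    · intro y hy
      have := congrArg Subtype.val (n.2 y hy)
      exact this
    · rw [MonoidHom.mem_ker]
      apply Subtype.ext
      exact (QuotientGroup.eq_one_iff _).2 n.1.2
  have h1 := Subgroup.card_mul_index π.ker
  rw [Subgroup.index_ker, MonoidHom.range_eq_top.2 hsurj] at h1
  rw [← h1, hker]
  congr 1
  exact Nat.card_congr Subgroup.topEquiv.toEquiv

end Cocycle

section Series
variable {H : Type*} [Group H] [Finite H]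

/-- a nontrivial solvable group is elementary abelian or has a proper nontrivial characteristic
abelian subgroup -/
theorem exists_char_abelian [hs : Group.IsSolvable H] [Nontrivial H] :
    (∃ ℓ : ℕ, ℓ.Prime ∧ (∀ a b : H, a * b = b * a) ∧ ∀ x : H, x ^ ℓ = 1) ∨
    ∃ N : Subgroup H, N.Characteristic ∧ N ≠ ⊥ ∧ N ≠ ⊤ ∧ ∀ a ∈ N, ∀ b ∈ N, a * b = b * a := by
  classical
  by_cases hcomm : ∀ a b : H, a * b = b * a
  · -- abelian
    have hcard : Nat.card H ≠ 1 := by
      intro h1
      have := (Nat.card_eq_one_iff_unique.1 h1).1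
      exact not_subsingleton H this
    obtain ⟨ℓ, hℓ, hdvd⟩ := Nat.exists_prime_and_dvd hcard
    haveI : Fact ℓ.Prime := ⟨hℓ⟩
    let N : Subgroup H :=
      { carrier := {x | x ^ ℓ = 1}
        mul_mem' := by
          intro a b ha hb
          show (a * b) ^ ℓ = 1
          rw [(show Commute a b from hcomm a b).mul_pow, (ha : a ^ ℓ = 1), (hb : b ^ ℓ = 1), one_mul]
        one_mem' := one_pow ℓ
        inv_mem' := by
          intro a ha
          show (a⁻¹) ^ ℓ = 1
          rw [inv_pow, (ha : a ^ ℓ = 1), inv_one] }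
    by_cases hN : N = ⊤
    · left
      refine ⟨ℓ, hℓ, hcomm, fun x => ?_⟩
      have : x ∈ N := by rw [hN]; exact Subgroup.mem_top x
      exact this
    · right
      refine ⟨N, ?_, ?_, hN, fun a _ b _ => hcomm a b⟩
      · rw [Subgroup.characteristic_iff_le_comap]
        intro ϕ x hx
        show (ϕ x) ^ ℓ = 1
        rw [← map_pow, (hx : x ^ ℓ = 1), map_one]
      · obtain ⟨x, hx⟩ := exists_prime_orderOf_dvd_card' (G := H) ℓ hdvd
        intro hbot
        have hxN : x ∈ N := by
          show x ^ ℓ = 1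
          rw [← hx, pow_orderOf_eq_one]
        rw [hbot, Subgroup.mem_bot] at hxN
        rw [hxN, orderOf_one] at hx
        exact hℓ.one_lt.ne hx
  · right
    obtain ⟨n, hn⟩ := hs.solvable
    have hex : ∃ n, derivedSeries H n = ⊥ := ⟨n, hn⟩
    set k0 := Nat.find hex with hk0
    have hk0spec : derivedSeries H k0 = ⊥ := Nat.find_spec hex
    have hk0pos : k0 ≠ 0 := by
      intro h0
      rw [h0, derivedSeries_zero] at hk0spec
      exact top_ne_bot hk0spec
    obtain ⟨k, hk⟩ := Nat.exists_eq_succ_of_ne_zero hk0pos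
    have hkne : derivedSeries H k ≠ ⊥ := by
      intro h
      have := Nat.find_min' hex h
      omega
    refine ⟨derivedSeries H k, derivedSeries_characteristic H k, hkne, ?_, ?_⟩
    · intro htop
      apply hcomm
      have h1 : ⁅derivedSeries H k, derivedSeries H k⁆ = ⊥ := by
        rw [← derivedSeries_succ]; rw [hk] at hk0spec; exact hk0spec
      rw [htop] at h1
      intro a b
      have : ⁅a, b⁆ ∈ (⁅(⊤ : Subgroup H), ⊤⁆ : Subgroup H) :=
        Subgroup.commutator_mem_commutator (Subgroup.mem_top a) (Subgroup.mem_top b)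
      rw [h1, Subgroup.mem_bot] at this
      exact commutatorElement_eq_one_iff_mul_comm.1 this
    · intro a ha b hb
      have h1 : ⁅derivedSeries H k, derivedSeries H k⁆ = ⊥ := by
        rw [← derivedSeries_succ]; rw [hk] at hk0spec; exact hk0spec
      have : ⁅a, b⁆ ∈ (⁅derivedSeries H k, derivedSeries H k⁆ : Subgroup H) :=
        Subgroup.commutator_mem_commutator ha hb
      rw [h1, Subgroup.mem_bot] at this
      exact commutatorElement_eq_one_iff_mul_comm.1 this

end Series

/-- an automorphism as a linear map -/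
def actLin {H : Type*} [CommGroup H] (ℓ : ℕ) [Module (ZMod ℓ) (Additive H)] (e : H ≃* H) :
    Module.End (ZMod ℓ) (Additive H) :=
  AddMonoidHom.toZModLinearMap ℓ (MulEquiv.toAdditive e).toAddMonoidHom

theorem actLin_apply {H : Type*} [CommGroup H] (ℓ : ℕ) [Module (ZMod ℓ) (Additive H)] (e : H ≃* H)
    (v : Additive H) : actLin ℓ e v = Additive.ofMul (e (Additive.toMul v)) := rfl

section Main
variable {F : Type*} [Group F] [Finite F] (U E : Subgroup F)

/-- the fixed point formula -/
def Formula {H : Type*} [Group H] (φ : F →* MulAut H) : Prop :=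
  Nat.card (fixS φ ⊤) ^ Nat.card E * Nat.card H =
    Nat.card (fixS φ E) ^ Nat.card E * Nat.card (fixS φ U)

theorem formula_module [hUn : U.Normal] (hsup : U ⊔ E = ⊤) [hUs : Group.IsSolvable U]
    (hfpf : ∀ e ∈ E, e ≠ 1 → ∀ u ∈ U, u * e = e * u → u = 1)
    {H : Type u} [CommGroup H] [Finite H] (ℓ : ℕ) [hℓ : Fact ℓ.Prime] [Module (ZMod ℓ) (Additive H)]
    (φ : F →* MulAut H) (hcop : (Nat.card H).Coprime (Nat.card F))
    (hexp : ∀ x : H, x ^ ℓ = 1) (hnt : Nontrivial H) : Formula U E φ := by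
  classical
  let ρ : F →* Module.End (ZMod ℓ) (Additive H) :=
    { toFun := fun f => actLin ℓ (φ f)
      map_one' := by
        refine LinearMap.ext fun v => ?_
        rw [actLin_apply, map_one, MulAut.one_apply, Module.End.one_apply]
        rfl
      map_mul' := by
        intro f g
        refine LinearMap.ext fun v => ?_
        rw [Module.End.mul_apply, actLin_apply, actLin_apply, actLin_apply, phi_mul_apply]
        rfl }
  have hρ : ∀ (f : F) (v : Additive H), ρ f v = Additive.ofMul (φ f (Additive.toMul v)) :=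
    fun f v => rfl
  obtain ⟨n, hn⟩ := Cfsg.Agent.H1.FrobFree.exists_dser_eq_bot U
  have hℓH : ℓ ∣ Nat.card H := by
    obtain ⟨x, hx⟩ := exists_ne (1 : H)
    have h1 : orderOf x ∣ ℓ := orderOf_dvd_of_pow_eq_one (hexp x)
    rcases (Nat.dvd_prime hℓ.out).1 h1 with h2 | h2
    · exact absurd (orderOf_eq_one_iff.1 h2) hx
    · rw [← h2]; exact orderOf_dvd_natCard x
  have hcard : (Nat.card U : ZMod ℓ) ≠ 0 := by
    rw [Ne, ZMod.natCast_eq_zero_iff]
    intro hdvd
    have h1 : ℓ ∣ Nat.card F := dvd_trans hdvd (Subgroup.card_subgroup_dvd_card U)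
    have h2 := Nat.dvd_gcd hℓH h1
    rw [hcop] at h2
    exact hℓ.out.one_lt.ne' (Nat.dvd_one.1 h2)
  have key := Cfsg.Agent.H1.FrobFree.card_fix_formula ρ U E hsup n hn hcard hfpf
  have e1 : Nat.card {v : Additive H // ∀ a : F, ρ a v = v} = Nat.card (fixS φ ⊤) := by
    apply Nat.card_congr
    exact ⟨fun v => ⟨Additive.toMul v.1, fun y _ => v.2 y⟩, fun h => ⟨Additive.ofMul h.1, fun a =>
      h.2 a (Subgroup.mem_top a)⟩, fun _ => rfl, fun _ => rfl⟩
  have e2 : Nat.card {v : Additive H // ∀ h ∈ E, ρ h v = v} = Nat.card (fixS φ E) := by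
    apply Nat.card_congr
    exact ⟨fun v => ⟨Additive.toMul v.1, fun y hy => v.2 y hy⟩, fun h => ⟨Additive.ofMul h.1,
      fun a ha => h.2 a ha⟩, fun _ => rfl, fun _ => rfl⟩
  have e3 : Nat.card {v : Additive H // ∀ q ∈ U, ρ q v = v} = Nat.card (fixS φ U) := by
    apply Nat.card_congr
    exact ⟨fun v => ⟨Additive.toMul v.1, fun y hy => v.2 y hy⟩, fun h => ⟨Additive.ofMul h.1,
      fun a ha => h.2 a ha⟩, fun _ => rfl, fun _ => rfl⟩
  have e4 : Nat.card (Additive H) = Nat.card H := rfl
  rw [e1, e2, e3, e4] at key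
  exact key

theorem formula_elementary [hUn : U.Normal] (hsup : U ⊔ E = ⊤) [hUs : Group.IsSolvable U]
    (hfpf : ∀ e ∈ E, e ≠ 1 → ∀ u ∈ U, u * e = e * u → u = 1)
    {H : Type u} [Group H] [Finite H] (φ : F →* MulAut H)
    (hcop : (Nat.card H).Coprime (Nat.card F))
    (ℓ : ℕ) (hℓ : ℓ.Prime) (hcomm : ∀ a b : H, a * b = b * a) (hexp : ∀ x : H, x ^ ℓ = 1)
    (hnt : Nontrivial H) : Formula U E φ := by
  classical
  haveI : Fact ℓ.Prime := ⟨hℓ⟩
  letI : CommGroup H := { (inferInstance : Group H) with mul_comm := hcomm }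
  letI : Module (ZMod ℓ) (Additive H) := AddCommGroup.zmodModule (n := ℓ) (by
    intro x
    show Additive.ofMul ((Additive.toMul x) ^ ℓ) = 0
    rw [hexp]
    rfl)
  exact formula_module U E hsup hfpf ℓ φ hcop hexp hnt

theorem formula_all [hUn : U.Normal] (hsup : U ⊔ E = ⊤) [hUs : Group.IsSolvable U]
    (hfpf : ∀ e ∈ E, e ≠ 1 → ∀ u ∈ U, u * e = e * u → u = 1) (n : ℕ) :
    ∀ (H : Type u) [Group H] [Finite H] (φ : F →* MulAut H), Nat.card H ≤ n →
      Group.IsSolvable H → (Nat.card H).Coprime (Nat.card F) → Formula U E φ := by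
  induction n with
  | zero =>
    intro H _ _ φ hn _ _
    have := Nat.card_pos (α := H)
    omega
  | succ n ih =>
    intro H _ _ φ hn hs hcop
    by_cases hnt : Nontrivial H
    swap
    · haveI : Subsingleton H := not_nontrivial_iff_subsingleton.1 hnt
      have hsub : ∀ K : Subgroup H, Nat.card K = 1 := by
        intro K
        rw [Subgroup.card_eq_one]
        exact Subsingleton.elim _ _
      have hH1 : Nat.card H = 1 := Nat.card_eq_one_iff_unique.2 ⟨inferInstance, ⟨1⟩⟩
      unfold Formula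
      rw [hsub, hsub, hsub, hH1]
    haveI := hs
    rcases exists_char_abelian (H := H) with h | ⟨N, hNchar, hNbot, hNtop, hNab⟩
    · obtain ⟨ℓ, hℓ, hcomm, hexp⟩ := h
      exact formula_elementary U E hsup hfpf φ hcop ℓ hℓ hcomm hexp hnt
    · haveI := hNchar
      haveI hNn : N.Normal := inferInstance
      have hN : ∀ f : F, ∀ n ∈ N, φ f n ∈ N := by
        intro f n hn
        exact (Subgroup.characteristic_iff_le_comap.1 hNchar) (φ f) hn
      have hcardH : Nat.card H = Nat.card (H ⧸ N) * Nat.card N :=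
        Subgroup.card_eq_card_quotient_mul_card_subgroup N
      have hN1 : 1 < Nat.card N := (Subgroup.one_lt_card_iff_ne_bot N).2 hNbot
      have hQ1 : 1 < Nat.card (H ⧸ N) := by
        have h0 : 0 < Nat.card (H ⧸ N) := Nat.card_pos
        by_contra hle
        have h1 : Nat.card (H ⧸ N) = 1 := by omega
        apply hNtop
        rw [← Subgroup.index_eq_one]
        exact h1
      have hNlt : Nat.card N ≤ n := by
        have : Nat.card N * 2 ≤ Nat.card H := by
          rw [hcardH, mul_comm]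
          exact Nat.mul_le_mul_right _ hQ1
        omega
      have hQlt : Nat.card (H ⧸ N) ≤ n := by
        have : Nat.card (H ⧸ N) * 2 ≤ Nat.card H := by
          rw [hcardH]
          exact Nat.mul_le_mul_left _ hN1
        omega
      have hcopN : (Nat.card N).Coprime (Nat.card F) :=
        Nat.Coprime.coprime_dvd_left (Subgroup.card_subgroup_dvd_card N) hcop
      have hcopQ : (Nat.card (H ⧸ N)).Coprime (Nat.card F) :=
        Nat.Coprime.coprime_dvd_left ⟨Nat.card N, hcardH⟩ hcop
      have h1 := ih ↥N (resAct φ N hN) hNlt inferInstance hcopN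
      have h2 := ih (H ⧸ N) (quotAct φ N hN) hQlt inferInstance hcopQ
      have hcopY : ∀ Y : Subgroup F, (Nat.card N).Coprime (Nat.card Y) := fun Y =>
        Nat.Coprime.coprime_dvd_right (Subgroup.card_subgroup_dvd_card Y) hcopN
      have c1 := card_fixS_eq φ N hN hNab ⊤ (hcopY _)
      have c2 := card_fixS_eq φ N hN hNab E (hcopY _)
      have c3 := card_fixS_eq φ N hN hNab U (hcopY _)
      unfold Formula at h1 h2 ⊢
      rw [c1, c2, c3, hcardH, mul_pow, mul_pow]
      calc Nat.card (fixS (resAct φ N hN) ⊤) ^ Nat.card E * Nat.card (fixS (quotAct φ N hN) ⊤) ^ Nat.card E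
            * (Nat.card (H ⧸ N) * Nat.card N)
          = (Nat.card (fixS (resAct φ N hN) ⊤) ^ Nat.card E * Nat.card N)
            * (Nat.card (fixS (quotAct φ N hN) ⊤) ^ Nat.card E * Nat.card (H ⧸ N)) := by ring
        _ = (Nat.card (fixS (resAct φ N hN) E) ^ Nat.card E * Nat.card (fixS (resAct φ N hN) U))
            * (Nat.card (fixS (quotAct φ N hN) E) ^ Nat.card E * Nat.card (fixS (quotAct φ N hN) U)) := by
          rw [h1, h2]
        _ = _ := by ring

end Main

end Cfsg.Agent.H1.FrobFix
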