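import Mathlib
import Cfsg.Agent.H1.MinNonPClosed

set_option autoImplicit false

namespace Cfsg.Agent.H1

open scoped Pointwise commutatorElement

universe u

section mininv
variable {X : Type u} [Group X] [Finite X]

/-- elements normalizing `N` normalize `⁅N, N⁆` -/
lemma normalizer_le_normalizer_commutator (N : Subgroup X) :
    Subgroup.normalizer (N : Set X) ≤ Subgroup.normalizer ((⁅N, N⁆ : Subgroup X) : Set X) := by
  intro g hg
  rw [Subgroup.mem_normalizer_iff_map_conj_eq] at hg ⊢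
  rw [Subgroup.map_commutator, hg]

/-- a minimal `G`- and `A`-invariant subgroup of the solvable group `G` is a `q`-group -/
lemma exists_minimal_invariant_pgroup (A G : Subgroup X) (hG : G ≠ ⊥)
    (hAG : A ≤ Subgroup.normalizer (G : Set X)) (hsolv : Group.IsSolvable G) :
    ∃ N : Subgroup X, N ≤ G ∧ N ≠ ⊥ ∧ G ≤ Subgroup.normalizer (N : Set X) ∧
      A ≤ Subgroup.normalizer (N : Set X) ∧ ∃ q : ℕ, q.Prime ∧ ∃ k : ℕ, Nat.card N = q ^ k := by
  obtain ⟨N, -, hNmin⟩ := Finite.exists_le_minimal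
    (p := fun N : Subgroup X => N ≤ G ∧ N ≠ ⊥ ∧ G ≤ Subgroup.normalizer (N : Set X) ∧
      A ≤ Subgroup.normalizer (N : Set X)) (a := G)
    ⟨le_rfl, hG, Subgroup.le_normalizer, hAG⟩
  obtain ⟨⟨hNG, hNne, hGN, hAN⟩, hNmin'⟩ := hNmin
  refine ⟨N, hNG, hNne, hGN, hAN, ?_⟩
  -- N is abelian
  have hcomm : ⁅N, N⁆ = ⊥ := by
    by_contra hne
    have hle : ⁅N, N⁆ ≤ N := Subgroup.commutator_le.2 (fun a ha b hb => by
      rw [commutatorElement_def]
      exact mul_mem (mul_mem (mul_mem ha hb) (inv_mem ha)) (inv_mem hb))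
    have h1 : N ≤ ⁅N, N⁆ := hNmin' ⟨hle.trans hNG, hne,
      hGN.trans (normalizer_le_normalizer_commutator N),
      hAN.trans (normalizer_le_normalizer_commutator N)⟩ hle
    have hne' : N.subgroupOf G ≠ ⊥ := by
      intro h
      apply hNne
      rw [eq_bot_iff]
      intro x hx
      have : (⟨x, hNG hx⟩ : G) ∈ N.subgroupOf G := Subgroup.mem_subgroupOf.2 hx
      rw [h, Subgroup.mem_bot] at this
      rw [Subgroup.mem_bot]
      exact congrArg Subtype.val this
    have h2 := Group.IsSolvable.commutator_lt_of_ne_bot hne'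
    apply h2.ne
    apply Subgroup.map_injective G.subtype_injective
    rw [Subgroup.map_commutator, Subgroup.subgroupOf_map_subtype, inf_eq_left.2 hNG]
    exact le_antisymm hle h1
  have hab : ∀ a ∈ N, ∀ b ∈ N, a * b = b * a := by
    intro a ha b hb
    have : ⁅a, b⁆ ∈ ⁅N, N⁆ := Subgroup.commutator_mem_commutator ha hb
    rw [hcomm, Subgroup.mem_bot] at this
    exact commutatorElement_eq_one_iff_mul_comm.1 this
  have hcard : Nat.card N ≠ 1 := fun h => hNne (Subgroup.card_eq_one.1 h)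
  obtain ⟨q, hq, hqd⟩ := Nat.exists_prime_and_dvd hcard
  haveI : Fact q.Prime := ⟨hq⟩
  refine ⟨q, hq, ?_⟩
  let S : Subgroup X :=
    { carrier := {x | x ∈ N ∧ x ^ q = 1}
      mul_mem' := by
        rintro a b ⟨ha, ha'⟩ ⟨hb, hb'⟩
        refine ⟨mul_mem ha hb, ?_⟩
        have : Commute a b := hab a ha b hb
        rw [this.mul_pow, ha', hb', one_mul]
      one_mem' := ⟨one_mem N, one_pow q⟩
      inv_mem' := by
        rintro a ⟨ha, ha'⟩
        exact ⟨inv_mem ha, by rw [inv_pow, ha', inv_one]⟩ }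
  have hSmem : ∀ x, x ∈ S ↔ x ∈ N ∧ x ^ q = 1 := fun x => Iff.rfl
  have hSN : S ≤ N := fun x hx => ((hSmem x).1 hx).1
  have hSnorm : Subgroup.normalizer (N : Set X) ≤ Subgroup.normalizer (S : Set X) := by
    intro g hg
    apply mem_normalizer_of_conj_mem
    intro b hb
    rw [hSmem] at hb ⊢
    rw [Subgroup.mem_normalizer_iff] at hg
    refine ⟨(hg b).1 hb.1, ?_⟩
    rw [conj_pow, hb.2]
    group
  have hSne : S ≠ ⊥ := by
    obtain ⟨x, hx⟩ := exists_prime_orderOf_dvd_card' q hqd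
    intro hS
    have hxS : (x : X) ∈ S := by
      rw [hSmem]
      refine ⟨x.2, ?_⟩
      have : x ^ q = 1 := by rw [← hx]; exact pow_orderOf_eq_one x
      have := congrArg Subtype.val this
      simpa using this
    rw [hS, Subgroup.mem_bot] at hxS
    have hx1 : x = 1 := Subtype.ext hxS
    rw [hx1, orderOf_one] at hx
    exact hq.one_lt.ne hx
  have h1 : N ≤ S := hNmin' ⟨hSN.trans hNG, hSne, hGN.trans hSnorm, hAN.trans hSnorm⟩ hSN
  have hNq : IsPGroup q N := by
    intro x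
    refine ⟨1, ?_⟩
    rw [pow_one]
    apply Subtype.ext
    have := ((hSmem _).1 (h1 x.2)).2
    simpa using this
  exact IsPGroup.iff_card.1 hNq

end mininv

section quot
variable {X : Type u} [Group X] [Finite X] (N : Subgroup X)

/-- the quotient `N_X(N)/N` -/
abbrev QuotN : Type u :=
  ↥(Subgroup.normalizer (N : Set X)) ⧸ N.subgroupOf (Subgroup.normalizer (N : Set X))

/-- the quotient map `N_X(N) → N_X(N)/N` -/
abbrev quotMap : ↥(Subgroup.normalizer (N : Set X)) →* QuotN N :=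
  QuotientGroup.mk' (N.subgroupOf (Subgroup.normalizer (N : Set X)))

/-- image of a subgroup in `N_X(N)/N` -/
abbrev imQ (S : Subgroup X) : Subgroup (QuotN N) :=
  (S.subgroupOf (Subgroup.normalizer (N : Set X))).map (quotMap N)

/-- preimage of a subgroup of `N_X(N)/N` -/
abbrev preQ (T : Subgroup (QuotN N)) : Subgroup X :=
  (T.comap (quotMap N)).map (Subgroup.normalizer (N : Set X)).subtype

lemma quotMap_surjective : Function.Surjective (quotMap N) := QuotientGroup.mk'_surjective _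

lemma mem_preQ (T : Subgroup (QuotN N)) (x : X) :
    x ∈ preQ N T ↔ ∃ hx : x ∈ Subgroup.normalizer (N : Set X), quotMap N ⟨x, hx⟩ ∈ T := by
  constructor
  · intro h
    obtain ⟨y, hy, rfl⟩ := Subgroup.mem_map.1 h
    exact ⟨y.2, hy⟩
  · rintro ⟨hx, h⟩
    exact Subgroup.mem_map.2 ⟨⟨x, hx⟩, h, rfl⟩

lemma preQ_le_normalizer (T : Subgroup (QuotN N)) : preQ N T ≤ Subgroup.normalizer (N : Set X) :=
  Subgroup.map_subtype_le _

lemma le_preQ (T : Subgroup (QuotN N)) : N ≤ preQ N T := by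
  intro x hx
  rw [mem_preQ]
  refine ⟨Subgroup.le_normalizer hx, ?_⟩
  have : quotMap N ⟨x, Subgroup.le_normalizer hx⟩ = 1 := by
    rw [QuotientGroup.mk'_apply, QuotientGroup.eq_one_iff, Subgroup.mem_subgroupOf]
    exact hx
  rw [this]
  exact one_mem T

lemma mem_imQ_of_mem (S : Subgroup X) (x : X) (hx : x ∈ Subgroup.normalizer (N : Set X))
    (hxS : x ∈ S) : quotMap N ⟨x, hx⟩ ∈ imQ N S :=
  Subgroup.mem_map.2 ⟨⟨x, hx⟩, Subgroup.mem_subgroupOf.2 hxS, rfl⟩

lemma imQ_preQ (T : Subgroup (QuotN N)) : imQ N (preQ N T) = T := by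
  ext t
  constructor
  · intro ht
    obtain ⟨y, hy, rfl⟩ := Subgroup.mem_map.1 ht
    rw [Subgroup.mem_subgroupOf, mem_preQ] at hy
    obtain ⟨_, h⟩ := hy
    exact h
  · intro ht
    obtain ⟨y, rfl⟩ := quotMap_surjective N t
    exact mem_imQ_of_mem N _ y y.2 ((mem_preQ N T y).2 ⟨y.2, ht⟩)

lemma preQ_imQ_le (S : Subgroup X) (hNS : N ≤ S) : preQ N (imQ N S) ≤ S := by
  intro x hx
  rw [mem_preQ] at hx
  obtain ⟨hxn, h⟩ := hx
  obtain ⟨y, hy, hyx⟩ := Subgroup.mem_map.1 h
  rw [Subgroup.mem_subgroupOf] at hy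
  have h1 : y⁻¹ * ⟨x, hxn⟩ ∈ N.subgroupOf (Subgroup.normalizer (N : Set X)) := by
    rw [← QuotientGroup.eq]
    exact hyx
  rw [Subgroup.mem_subgroupOf] at h1
  have h2 : x = (y : X) * ((y : X)⁻¹ * x) := by group
  rw [h2]
  exact mul_mem hy (hNS (by simpa using h1))

/-- `|S| = |S̄| |N|` for `N ≤ S ≤ N_X(N)` -/
lemma card_eq_card_imQ_mul (S : Subgroup X) (hNS : N ≤ S)
    (hS : S ≤ Subgroup.normalizer (N : Set X)) : Nat.card S = Nat.card (imQ N S) * Nat.card N := by
  obtain ⟨D, hD⟩ : ∃ D : Subgroup X, D = Subgroup.normalizer (N : Set X) := ⟨_, rfl⟩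
  have hcomap : (imQ N S).comap (quotMap N) = S.subgroupOf (Subgroup.normalizer (N : Set X)) := by
    rw [Subgroup.comap_map_eq, QuotientGroup.ker_mk']
    apply sup_eq_left.2
    intro x hx
    rw [Subgroup.mem_subgroupOf] at hx ⊢
    exact hNS hx
  have hidx : (imQ N S).index = (S.subgroupOf (Subgroup.normalizer (N : Set X))).index := by
    rw [← hcomap, Subgroup.index_comap_of_surjective _ (quotMap_surjective N)]
  have h1 := Subgroup.card_mul_index (imQ N S)
  have h2 := Subgroup.card_mul_index (S.subgroupOf (Subgroup.normalizer (N : Set X)))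
  have h3 := Subgroup.card_eq_card_quotient_mul_card_subgroup
    (N.subgroupOf (Subgroup.normalizer (N : Set X)))
  have h4 : Nat.card (S.subgroupOf (Subgroup.normalizer (N : Set X))) = Nat.card S :=
    Nat.card_congr (Subgroup.subgroupOfEquivOfLe hS).toEquiv
  have h5 : Nat.card (N.subgroupOf (Subgroup.normalizer (N : Set X))) = Nat.card N :=
    Nat.card_congr (Subgroup.subgroupOfEquivOfLe Subgroup.le_normalizer).toEquiv
  rw [h4] at h2
  rw [h5] at h3
  have hpos : 0 < (imQ N S).index := Nat.pos_of_ne_zero Subgroup.index_ne_zero_of_finite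
  have : Nat.card S * (imQ N S).index = Nat.card (imQ N S) * Nat.card N * (imQ N S).index := by
    rw [hidx, h2, h3, ← h1, hidx]; ring
  exact Nat.eq_of_mul_eq_mul_right hpos this

lemma imQ_le_normalizer (A S : Subgroup X) (hA : A ≤ Subgroup.normalizer (S : Set X)) :
    imQ N A ≤ Subgroup.normalizer ((imQ N S : Subgroup (QuotN N)) : Set (QuotN N)) := by
  refine le_trans ?_ (Subgroup.le_normalizer_map (quotMap N))
  apply Subgroup.map_mono
  refine le_trans ?_ (Subgroup.le_normalizer_comap _)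
  intro x hx
  rw [Subgroup.mem_subgroupOf] at hx
  exact hA hx

lemma le_normalizer_preQ (A : Subgroup X) (hAN : A ≤ Subgroup.normalizer (N : Set X))
    (T : Subgroup (QuotN N))
    (hA : imQ N A ≤ Subgroup.normalizer ((T : Subgroup (QuotN N)) : Set (QuotN N))) :
    A ≤ Subgroup.normalizer ((preQ N T : Subgroup X) : Set X) := by
  intro a ha
  apply mem_normalizer_of_conj_mem
  intro b hb
  rw [mem_preQ] at hb ⊢
  obtain ⟨hbn, hbT⟩ := hb
  have han := hAN ha
  refine ⟨mul_mem (mul_mem han hbn) (inv_mem han), ?_⟩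
  have h1 := hA (mem_imQ_of_mem N A a han ha)
  rw [Subgroup.mem_normalizer_iff] at h1
  have h2 := (h1 _).1 hbT
  have e : (⟨a * b * a⁻¹, mul_mem (mul_mem han hbn) (inv_mem han)⟩ :
      Subgroup.normalizer (N : Set X)) = ⟨a, han⟩ * ⟨b, hbn⟩ * ⟨a, han⟩⁻¹ := rfl
  rw [e, map_mul, map_mul, map_inv]
  exact h2

end quot

end Cfsg.Agent.H1
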