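import Mathlib
import Cfsg.Agent.H1.QuotNormalizer
import Cfsg.Agent.H1.MinNonPClosed
import Cfsg.Agent.H1.Card
import Cfsg.Agent.H1.SZ
import Cfsg.Agent.H1.SZConj
import Cfsg.Agent.H1.CoprimeAction
import Cfsg.Agent.H1.Basic
import Cfsg.Agent.Lib.Lead.NormalPComplement
import Cfsg.Prelude.Def_Transfer

set_option autoImplicit false
set_option linter.unusedVariables false
set_option linter.unusedSectionVars false
set_option linter.style.haveILetI false

namespace Cfsg.Agent.H1

open Cfsg Cfsg.Agent.Lib.Lead.NormalPComplement Cfsg.Agent.Lib.Lead.PComplement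

universe u

open scoped commutatorElement Pointwise

section frattiniSylow
variable {G : Type u} [Group G] [Finite G] {p : ℕ} [hp : Fact p.Prime]

lemma sylow_eq_top_of_isPGroup {H : Type*} [Group H] (h : IsPGroup p H) (S : Sylow p H) :
    (S : Subgroup H) = ⊤ :=
  (S.is_maximal' (h.to_subgroup ⊤) le_top).symm

/-- if `N_G(P)` has a normal `p`-complement, every element of `N_G(P)` is a product of an element centralizing
`P` and an element of `P` -/
lemma exists_mul_of_normalizer_pnilpotent (P : Sylow p G)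
    (hN : Cfsg.HasNormalPComplement p ↥(Subgroup.normalizer ((P : Subgroup G) : Set G))) :
    ∀ x ∈ Subgroup.normalizer ((P : Subgroup G) : Set G), ∃ n u : G, x = n * u ∧
      n ∈ Subgroup.centralizer ((P : Subgroup G) : Set G) ∧ u ∈ (P : Subgroup G) := by
  intro x hx
  obtain ⟨N0, hN0n, hc, k, hk⟩ := exists_normal_of_hasNormalPComplement hN
  haveI := hN0n
  have hq : IsPGroup p (↥(Subgroup.normalizer ((P : Subgroup G) : Set G)) ⧸ N0) := by
    apply IsPGroup.of_card (n := k)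
    rw [← Subgroup.index_eq_card, hk]
  let PM : Sylow p ↥(Subgroup.normalizer ((P : Subgroup G) : Set G)) := P.subtype Subgroup.le_normalizer
  have hPQ := sylow_eq_top_of_isPGroup hq (PM.mapSurjective (QuotientGroup.mk'_surjective N0))
  rw [Sylow.coe_mapSurjective] at hPQ
  have hxm : QuotientGroup.mk' N0 ⟨x, hx⟩ ∈ (PM : Subgroup _).map (QuotientGroup.mk' N0) := by
    rw [hPQ]; exact Subgroup.mem_top _
  obtain ⟨u, hu, hux⟩ := Subgroup.mem_map.1 hxm
  have hn : (⟨x, hx⟩ : ↥(Subgroup.normalizer ((P : Subgroup G) : Set G))) * u⁻¹ ∈ N0 := by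
    have h1 : QuotientGroup.mk' N0 (⟨x, hx⟩ * u⁻¹) = 1 := by
      rw [map_mul, map_inv, hux, mul_inv_cancel]
    rwa [QuotientGroup.mk'_apply, QuotientGroup.eq_one_iff] at h1
  have huP : (u : G) ∈ (P : Subgroup G) := by
    have : u ∈ (P : Subgroup G).subgroupOf (Subgroup.normalizer ((P : Subgroup G) : Set G)) := hu
    exact Subgroup.mem_subgroupOf.1 this
  refine ⟨x * (u : G)⁻¹, (u : G), by group, ?_, huP⟩
  -- the `p'`-element `x u⁻¹` centralizes `P`
  have hPMp : IsPGroup p ↥((P : Subgroup G).subgroupOf (Subgroup.normalizer ((P : Subgroup G) : Set G))) :=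
    PM.isPGroup'
  have hnorm : (⟨x, hx⟩ : ↥(Subgroup.normalizer ((P : Subgroup G) : Set G))) * u⁻¹ ∈
      Subgroup.normalizer (((P : Subgroup G).subgroupOf (Subgroup.normalizer ((P : Subgroup G) : Set G)) :
        Subgroup _) : Set _) := by
    haveI : ((P : Subgroup G).subgroupOf (Subgroup.normalizer ((P : Subgroup G) : Set G))).Normal :=
      Subgroup.normal_in_normalizer
    have := Subgroup.normalizer_eq_top
      ((P : Subgroup G).subgroupOf (Subgroup.normalizer ((P : Subgroup G) : Set G)))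
    exact this ▸ Subgroup.mem_top _
  have hord : Nat.Coprime (orderOf ((⟨x, hx⟩ : ↥(Subgroup.normalizer ((P : Subgroup G) : Set G))) * u⁻¹)) p := by
    have h1 : orderOf ((⟨x, hx⟩ : ↥(Subgroup.normalizer ((P : Subgroup G) : Set G))) * u⁻¹) ∣ Nat.card ↥N0 := by
      have := orderOf_dvd_natCard (⟨_, hn⟩ : ↥N0)
      rwa [← Subgroup.orderOf_coe] at this
    exact Nat.Coprime.coprime_dvd_left h1 hc
  have hcent := centralizes_of_normal N0 hc hk _ hPMp _ hnorm hord
  rw [Subgroup.mem_centralizer_iff] at hcent ⊢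
  intro y hy
  have := hcent ⟨y, Subgroup.le_normalizer hy⟩ (Subgroup.mem_subgroupOf.2 hy)
  have := congrArg Subtype.val this
  simpa using this

/-- Burnside's transfer theorem modulo a normal `p`-subgroup `Q` with `P' ≤ Q ≤ P`: if `N_G(P)` has a normal
`p`-complement then `N_G(Q)` has a normal subgroup `K ≥ Q` with `K ∩ P = Q` and `K P = N_G(Q)`. -/
lemma exists_normal_mod_of_normalizer_pnilpotent (P : Sylow p G)
    (hN : Cfsg.HasNormalPComplement p ↥(Subgroup.normalizer ((P : Subgroup G) : Set G)))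
    (Q : Subgroup G) (hQP : Q ≤ (P : Subgroup G)) (hPQ : ⁅(P : Subgroup G), (P : Subgroup G)⁆ ≤ Q) :
    ∃ K : Subgroup G, Q ≤ K ∧ K ≤ Subgroup.normalizer (Q : Set G) ∧
      Subgroup.normalizer (Q : Set G) ≤ Subgroup.normalizer (K : Set G) ∧
      K ⊓ (P : Subgroup G) = Q ∧ K ⊔ (P : Subgroup G) = Subgroup.normalizer (Q : Set G) := by
  have hPD : (P : Subgroup G) ≤ Subgroup.normalizer (Q : Set G) := by
    intro x hx
    apply mem_normalizer_of_conj_mem
    intro q hq
    have h1 : ⁅x, q⁆ ∈ Q := hPQ (Subgroup.commutator_mem_commutator hx (hQP hq))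
    have h2 : x * q * x⁻¹ = ⁅x, q⁆ * q := by rw [commutatorElement_def]; group
    rw [h2]
    exact mul_mem h1 hq
  let PD : Sylow p ↥(Subgroup.normalizer (Q : Set G)) := P.subtype hPD
  let Pbar : Sylow p (QuotN Q) := PD.mapSurjective (quotMap_surjective Q)
  have hPbar : (Pbar : Subgroup (QuotN Q)) = imQ Q (P : Subgroup G) := rfl
  have hNC : Subgroup.normalizer ((Pbar : Subgroup (QuotN Q)) : Set (QuotN Q)) ≤
      Subgroup.centralizer ((Pbar : Subgroup (QuotN Q)) : Set (QuotN Q)) := by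
    intro xb hxb
    obtain ⟨x, rfl⟩ := quotMap_surjective Q xb
    have hxP : (x : G) ∈ Subgroup.normalizer ((P : Subgroup G) : Set G) := by
      apply mem_normalizer_of_conj_mem
      intro u hu
      have hub : quotMap Q ⟨u, hPD hu⟩ ∈ (Pbar : Subgroup (QuotN Q)) :=
        mem_imQ_of_mem Q _ u (hPD hu) hu
      have h1 := (Subgroup.mem_normalizer_iff.1 hxb _).1 hub
      rw [hPbar] at h1
      obtain ⟨v, hv, hveq⟩ := Subgroup.mem_map.1 h1
      rw [Subgroup.mem_subgroupOf] at hv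
      have h2 : v⁻¹ * (x * ⟨u, hPD hu⟩ * x⁻¹) ∈
          Q.subgroupOf (Subgroup.normalizer (Q : Set G)) := by
        rw [← QuotientGroup.eq]
        show quotMap Q v = quotMap Q (x * ⟨u, hPD hu⟩ * x⁻¹)
        rw [hveq, map_mul, map_mul, map_inv]
      rw [Subgroup.mem_subgroupOf] at h2
      have h3 : (x : G) * u * (x : G)⁻¹ = (v : G) * ((v : G)⁻¹ * ((x : G) * u * (x : G)⁻¹)) := by group
      rw [h3]
      exact mul_mem hv (hQP (by simpa using h2))
    obtain ⟨n, w, hxnw, hn, hw⟩ := exists_mul_of_normalizer_pnilpotent P hN x hxP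
    rw [Subgroup.mem_centralizer_iff]
    intro yb hyb
    rw [SetLike.mem_coe, hPbar] at hyb
    obtain ⟨y, hy, rfl⟩ := Subgroup.mem_map.1 hyb
    rw [Subgroup.mem_subgroupOf] at hy
    rw [← map_mul, ← map_mul]
    apply (QuotientGroup.eq).2
    rw [Subgroup.mem_subgroupOf]
    have hny : n * (y : G)⁻¹ = (y : G)⁻¹ * n :=
      ((Subgroup.mem_centralizer_iff.1 hn) _ (inv_mem hy)).symm
    have h4 : (((y * x)⁻¹ * (x * y) : ↥(Subgroup.normalizer (Q : Set G))) : G) = ⁅w⁻¹, (y : G)⁻¹⁆ := by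
      have : (((y * x)⁻¹ * (x * y) : ↥(Subgroup.normalizer (Q : Set G))) : G) =
          (x : G)⁻¹ * (y : G)⁻¹ * (x : G) * (y : G) := by
        simp only [Subgroup.coe_mul, Subgroup.coe_inv]; group
      rw [this, hxnw, commutatorElement_def]
      have : (n * w)⁻¹ * (y : G)⁻¹ * (n * w) * (y : G) = w⁻¹ * (n⁻¹ * ((y : G)⁻¹ * n)) * w * (y : G) := by
        group
      rw [this, ← hny]
      group
    rw [h4]
    exact hPQ (Subgroup.commutator_mem_commutator (inv_mem hw) (inv_mem hy))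
  have hcompl := MonoidHom.ker_transferSylow_isComplement' Pbar hNC
  obtain ⟨Kbar, hKbar⟩ : ∃ Kbar : Subgroup (QuotN Q), Kbar = (MonoidHom.transferSylow Pbar hNC).ker :=
    ⟨_, rfl⟩
  rw [← hKbar] at hcompl
  haveI hKn : Kbar.Normal := by rw [hKbar]; infer_instance
  refine ⟨preQ Q Kbar, le_preQ Q Kbar, preQ_le_normalizer Q Kbar, ?_, ?_, ?_⟩
  · apply le_normalizer_preQ Q _ le_rfl
    rw [Subgroup.normalizer_eq_top Kbar]
    exact le_top
  · apply le_antisymm
    · intro x hx
      obtain ⟨hxK, hxP⟩ := Subgroup.mem_inf.1 hx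
      rw [mem_preQ] at hxK
      obtain ⟨hxn, hxKb⟩ := hxK
      have hxPb : quotMap Q ⟨x, hxn⟩ ∈ (Pbar : Subgroup (QuotN Q)) := mem_imQ_of_mem Q _ x hxn hxP
      have h1 : quotMap Q ⟨x, hxn⟩ ∈ Kbar ⊓ (Pbar : Subgroup (QuotN Q)) := Subgroup.mem_inf.2 ⟨hxKb, hxPb⟩
      rw [hcompl.disjoint.eq_bot, Subgroup.mem_bot, QuotientGroup.mk'_apply,
        QuotientGroup.eq_one_iff, Subgroup.mem_subgroupOf] at h1
      exact h1
    · exact le_inf (le_preQ Q Kbar) hQP
  · apply le_antisymm (sup_le (preQ_le_normalizer Q Kbar) hPD)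
    intro x hx
    have h1 : quotMap Q ⟨x, hx⟩ ∈ Kbar ⊔ (Pbar : Subgroup (QuotN Q)) := by
      rw [hcompl.sup_eq_top]; exact Subgroup.mem_top _
    obtain ⟨kb, hkb, pb, hpb, e⟩ := Subgroup.mem_sup_of_normal_left.mp h1
    rw [hPbar] at hpb
    obtain ⟨v, hv, rfl⟩ := Subgroup.mem_map.1 hpb
    rw [Subgroup.mem_subgroupOf] at hv
    have h2 : quotMap Q (⟨x, hx⟩ * v⁻¹) = kb := by
      rw [map_mul, map_inv, ← e]; group
    have h3 : x * (v : G)⁻¹ ∈ preQ Q Kbar := by
      rw [mem_preQ]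
      refine ⟨mul_mem hx (inv_mem v.2), ?_⟩
      have : (⟨x * (v : G)⁻¹, mul_mem hx (inv_mem v.2)⟩ : ↥(Subgroup.normalizer (Q : Set G))) =
          ⟨x, hx⟩ * v⁻¹ := rfl
      rw [this, h2]
      exact hkb
    have h4 : x = x * (v : G)⁻¹ * (v : G) := by group
    rw [h4]
    exact mul_mem (Subgroup.mem_sup_left h3) (Subgroup.mem_sup_right hv)

/-- non-generator property of the Frattini subgroup, ambient form -/
lemma eq_of_le_sup_of_le_frattini (P Q R : Subgroup G)
    (hQ : Q ≤ (frattini ↥P).map P.subtype) (hR : R ≤ P) (h : P ≤ Q ⊔ R) : R = P := by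
  have h1 : R.subgroupOf P ⊔ frattini ↥P = ⊤ := by
    rw [eq_top_iff]
    intro x _
    have hx : (x : G) ∈ Q ⊔ R := h x.2
    have h2 : Q ⊔ R ≤ (R.subgroupOf P ⊔ frattini ↥P).map P.subtype := by
      rw [Subgroup.map_sup, Subgroup.map_subgroupOf_eq_of_le hR]
      exact sup_le (hQ.trans le_sup_right) le_sup_left
    have h3 := h2 hx
    exact (Subgroup.mem_map_iff_mem P.subtype_injective).1 h3
  have h2 : R.subgroupOf P = ⊤ := frattini_nongenerating h1
  apply le_antisymm hR
  intro x hx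
  have : (⟨x, hx⟩ : ↥P) ∈ R.subgroupOf P := by rw [h2]; exact Subgroup.mem_top _
  exact Subgroup.mem_subgroupOf.1 this

/-- If `N_G(P)` has a normal `p`-complement, so has `N_G(Q)` for every `P' ≤ Q ≤ Φ(P)`. -/
theorem hasNormalPComplement_normalizer_of_le_frattini (P : Sylow p G)
    (hN : Cfsg.HasNormalPComplement p ↥(Subgroup.normalizer ((P : Subgroup G) : Set G)))
    (Q : Subgroup G) (h1 : ⁅(P : Subgroup G), (P : Subgroup G)⁆ ≤ Q)
    (h2 : Q ≤ (frattini ↥(P : Subgroup G)).map (P : Subgroup G).subtype) :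
    Cfsg.HasNormalPComplement p ↥(Subgroup.normalizer (Q : Set G)) := by
  have hQP : Q ≤ (P : Subgroup G) := h2.trans (Subgroup.map_subtype_le _)
  obtain ⟨K, hQK, hKD, hDK, hKP, hKsupP⟩ := exists_normal_mod_of_normalizer_pnilpotent P hN Q hQP h1
  have hPD : (P : Subgroup G) ≤ Subgroup.normalizer (Q : Set G) := hKsupP ▸ le_sup_right
  -- cardinalities
  let PD : Sylow p ↥(Subgroup.normalizer (Q : Set G)) := P.subtype hPD
  obtain ⟨m, hm⟩ : ∃ m : ℕ, m = (PD : Subgroup ↥(Subgroup.normalizer (Q : Set G))).index := ⟨_, rfl⟩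
  have hmp : m.Coprime p := by
    rw [hm]
    exact (Nat.Coprime.symm ((Nat.Prime.coprime_iff_not_dvd hp.out).mpr PD.not_dvd_index))
  have hcardD : Nat.card ↥(Subgroup.normalizer (Q : Set G)) = Nat.card ↥(P : Subgroup G) * m := by
    have := (PD : Subgroup ↥(Subgroup.normalizer (Q : Set G))).card_mul_index
    rw [← hm] at this
    rw [← this]
    congr 1
    exact (card_subgroupOf_of_le hPD)
  have hcardK : Nat.card ↥K = Nat.card ↥Q * m := by
    have c1 := card_sup_mul_card_inf (P : Subgroup G) K (hPD.trans hDK)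
    rw [sup_comm, inf_comm, hKP, hKsupP, hcardD] at c1
    have hpos : 0 < Nat.card ↥(P : Subgroup G) := Nat.card_pos
    have : Nat.card ↥(P : Subgroup G) * (Nat.card ↥Q * m) = Nat.card ↥(P : Subgroup G) * Nat.card ↥K := by
      rw [← c1]; ring
    exact (Nat.eq_of_mul_eq_mul_left hpos this).symm
  have hQp : IsPGroup p ↥Q := P.isPGroup'.to_le hQP
  obtain ⟨b, hb⟩ := IsPGroup.iff_card.mp hQp
  have hcopQm : (Nat.card ↥Q).Coprime m := by
    rw [hb]; exact Nat.Coprime.pow_left b hmp.symm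
  have hKnQ : K ≤ Subgroup.normalizer (Q : Set G) := hKD
  have hQsolv : Group.IsSolvable ↥Q := by
    haveI := hQp.isNilpotent
    infer_instance
  -- complements of `Q` in `K`
  have hcompl : ∀ X : Subgroup G, X ≤ K → Nat.card ↥X = m → Q ⊓ X = ⊥ ∧ Q ⊔ X = K := by
    intro X hXK hX
    have hd : Q ⊓ X = ⊥ := (Subgroup.disjoint_of_coprime_natCard (hX ▸ hcopQm)).eq_bot
    refine ⟨hd, ?_⟩
    have c2 := card_sup_mul_card_inf X Q (hXK.trans hKnQ)
    rw [inf_comm, hd, Subgroup.card_bot, mul_one, hX, sup_comm] at c2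
    apply Subgroup.eq_of_le_of_card_ge (sup_le hQK hXK)
    rw [c2, hcardK, mul_comm]
  -- existence
  haveI hQKn : (Q.subgroupOf K).Normal := (Subgroup.normal_subgroupOf_iff_le_normalizer hQK).mpr hKnQ
  have hQKcard : Nat.card ↥(Q.subgroupOf K) = Nat.card ↥Q := card_subgroupOf_of_le hQK
  have hQKidx : (Q.subgroupOf K).index = m := by
    have := (Q.subgroupOf K).card_mul_index
    rw [hQKcard, hcardK] at this
    exact Nat.eq_of_mul_eq_mul_left Nat.card_pos this
  obtain ⟨H', hH'⟩ := Subgroup.exists_right_complement'_of_coprime (N := Q.subgroupOf K)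
    (by rw [hQKcard, hQKidx]; exact hcopQm)
  obtain ⟨H, hH⟩ : ∃ H : Subgroup G, H = H'.map K.subtype := ⟨_, rfl⟩
  have hHK : H ≤ K := by rw [hH]; exact Subgroup.map_subtype_le _
  have hHcard : Nat.card ↥H = m := by
    rw [hH, Subgroup.card_map_of_injective K.subtype_injective]
    have := hH'.card_mul_card
    rw [hQKcard, hcardK] at this
    exact Nat.eq_of_mul_eq_mul_left Nat.card_pos this
  obtain ⟨hdH, hsH⟩ := hcompl H hHK hHcard
  -- Frattini argument
  obtain ⟨M, hM⟩ : ∃ M : Subgroup G, M = Subgroup.normalizer (H : Set G) ⊓ Subgroup.normalizer (Q : Set G) :=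
    ⟨_, rfl⟩
  have hHM : H ≤ M := by
    rw [hM]; exact le_inf Subgroup.le_normalizer (hHK.trans hKD)
  have hDle : Subgroup.normalizer (Q : Set G) ≤ Q ⊔ M := by
    intro l hl
    have hlK : MulAut.conj l • H ≤ K := by
      intro y hy
      rw [mem_conj_smul] at hy
      have hlK' := hDK hl
      have h3 := (Subgroup.mem_normalizer_iff.1 hlK' (l⁻¹ * y * l)).1 (hHK hy)
      have e : l * (l⁻¹ * y * l) * l⁻¹ = y := by group
      rwa [e] at h3
    obtain ⟨hdl, hsl⟩ := hcompl _ hlK (by rw [card_conj_smul, hHcard])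
    obtain ⟨g, hgK, hg⟩ := sz_relative K Q H (MulAut.conj l • H) hQK hKnQ hHK hlK hdH hsH hdl hsl
      (by rw [hHcard]; exact hcopQm) (Or.inl hQsolv)
      (fun N _ H₁ K₁ c1 c2 c3 c4 => sz_conj N H₁ K₁ c1 c2 c3 c4)
    have hgl : g⁻¹ * l ∈ M := by
      rw [hM]
      refine Subgroup.mem_inf.2 ⟨?_, mul_mem (inv_mem (hKD hgK)) hl⟩
      apply mem_normalizer_of_conj_mem
      intro h hh
      have h4 : l * h * l⁻¹ ∈ MulAut.conj l • H := by
        rw [mem_conj_smul]
        have e : l⁻¹ * (l * h * l⁻¹) * l = h := by group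
        rw [e]; exact hh
      rw [← hg, mem_conj_smul] at h4
      have e : g⁻¹ * l * h * (g⁻¹ * l)⁻¹ = g⁻¹ * (l * h * l⁻¹) * g := by group
      rw [e]; exact h4
    have hgQM : g ∈ Q ⊔ M := by
      have : g ∈ Q ⊔ H := by rw [hsH]; exact hgK
      exact (sup_le_sup_left hHM Q) this
    have e : l = g * (g⁻¹ * l) := by group
    rw [e]
    exact mul_mem hgQM (Subgroup.mem_sup_right hgl)
  -- `P ≤ M`
  have hMnQ : M ≤ Subgroup.normalizer (Q : Set G) := by rw [hM]; exact inf_le_right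
  have hPle : (P : Subgroup G) ≤ Q ⊔ ((P : Subgroup G) ⊓ M) := by
    intro x hx
    have h3 := hDle (hPD hx)
    rw [mem_sup_of_le_normalizer Q M hMnQ] at h3
    obtain ⟨q, hq, y, hy, rfl⟩ := h3
    refine mul_mem (Subgroup.mem_sup_left hq) (Subgroup.mem_sup_right (Subgroup.mem_inf.2 ⟨?_, hy⟩))
    have e : y = q⁻¹ * (q * y) := by group
    rw [e]
    exact mul_mem (inv_mem (hQP hq)) hx
  have hPM : (P : Subgroup G) ⊓ M = (P : Subgroup G) :=
    eq_of_le_sup_of_le_frattini (P : Subgroup G) Q _ h2 inf_le_left hPle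
  have hPleM : (P : Subgroup G) ≤ M := by rw [← hPM]; exact inf_le_right
  have hDH : Subgroup.normalizer (Q : Set G) ≤ Subgroup.normalizer (H : Set G) := by
    refine hDle.trans (sup_le ((hQP.trans hPleM).trans ?_) ?_) <;> rw [hM] <;> exact inf_le_left
  -- conclusion
  haveI hHn : (H.subgroupOf (Subgroup.normalizer (Q : Set G))).Normal :=
    (Subgroup.normal_subgroupOf_iff_le_normalizer (hHK.trans hKD)).mpr hDH
  obtain ⟨a, ha⟩ := IsPGroup.iff_card.mp P.isPGroup'
  have hHDcard : Nat.card ↥(H.subgroupOf (Subgroup.normalizer (Q : Set G))) = m := by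
    rw [card_subgroupOf_of_le (hHK.trans hKD), hHcard]
  refine hasNormalPComplement_of_normal (H.subgroupOf (Subgroup.normalizer (Q : Set G)))
    (by rw [hHDcard]; exact hmp) (n := a) ?_
  have := (H.subgroupOf (Subgroup.normalizer (Q : Set G))).card_mul_index
  rw [hHDcard, hcardD, ha, mul_comm] at this
  have hmpos : 0 < m := by
    rw [← hHcard]; exact Nat.card_pos
  exact Nat.eq_of_mul_eq_mul_right hmpos this

end frattiniSylow

end Cfsg.Agent.H1
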