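import Mathlib
import Cfsg.Prelude.Def_Local
import Cfsg.Prelude.Def_PLocal
import Cfsg.Agent.H1.Cores
import Cfsg.Agent.H1.Card
import Cfsg.Agent.H2.PPrimeCore
import Cfsg.Agent.Lib.Lead.PSolvable
import Cfsg.Agent.Lib.Helper7.Core
import Cfsg.Agent.S0027
import Cfsg.Agent.H1.FrattiniSylowNormalizer
import Cfsg.Agent.H1.MinNonPClosed

set_option linter.style.haveILetI false
set_option linter.unusedSimpArgs false
set_option linter.unusedVariables false

namespace Cfsg.Agent.H1

open Cfsg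

section pstable
variable {G : Type*} [Group G]

lemma pCore_map_le_of_surjective {H : Type*} [Group H] {p : ℕ} (φ : G →* H)
    (hφ : Function.Surjective φ) : (pCore p G).map φ ≤ pCore p H := by
  apply le_pCore
  · exact Subgroup.Normal.map (pCore_normal p) φ hφ
  · exact (pCore_isPGroup p).map φ

lemma pCore_comap_le_of_bijective {H : Type*} [Group H] {p : ℕ} (φ : G →* H)
    (hφ : Function.Bijective φ) : (pCore p H).comap φ ≤ pCore p G := by
  apply le_pCore
  · exact Subgroup.Normal.comap (pCore_normal p) φ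
  · exact (pCore_isPGroup (G := H) p).comap_of_injective φ hφ.1

lemma pPrimePCore_eq_pCore_of_pPrimeCore_eq_bot [Finite G] {p : ℕ} (h : pPrimeCore p G = ⊥) :
    pPrimePCore p G = pCore p G := by
  have hbij : Function.Bijective (QuotientGroup.mk' (pPrimeCore p G)) := by
    refine ⟨?_, QuotientGroup.mk'_surjective _⟩
    rw [← MonoidHom.ker_eq_bot_iff, QuotientGroup.ker_mk', h]
  apply le_antisymm
  · intro x hx
    rw [Cfsg.Agent.Lib.Lead.PSolvable.mem_pPrimePCore_iff] at hx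
    exact pCore_comap_le_of_bijective _ hbij hx
  · intro x hx
    rw [Cfsg.Agent.Lib.Lead.PSolvable.mem_pPrimePCore_iff]
    exact pCore_map_le_of_surjective _ hbij.2 (Subgroup.mem_map_of_mem _ hx)

/-- a `p`-subgroup meets a normal `p'`-subgroup trivially -/
lemma inf_eq_bot_of_pgroup_coprime [Finite G] {p : ℕ} [Fact p.Prime] (K P : Subgroup G)
    (hP : IsPGroup p P) (hK : (Nat.card K).Coprime p) : K ⊓ P = ⊥ := by
  obtain ⟨n, hn⟩ := hP.exists_card_eq
  have h1 : (Nat.card K).Coprime (Nat.card P) := by rw [hn]; exact Nat.Coprime.pow_right n hK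
  exact (Subgroup.disjoint_of_coprime_natCard h1).eq_bot

/-- Frattini argument for a `p`-subgroup `P` with `K P` normal, `K` a normal `p'`-group -/
lemma normalizer_sup_eq_top_of_coprime [Finite G] {p : ℕ} [Fact p.Prime] (K P : Subgroup G) [K.Normal]
    (hP : IsPGroup p P) (hK : (Nat.card K).Coprime p) (hn : (K ⊔ P).Normal) :
    Subgroup.normalizer (P : Set G) ⊔ K = ⊤ := by
  have hPL : P ≤ K ⊔ P := le_sup_right
  have hinf := inf_eq_bot_of_pgroup_coprime K P hP hK
  have hcard := card_sup_mul_card_inf P K (Subgroup.normalizer_eq_top K ▸ le_top)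
  rw [inf_comm, hinf, Subgroup.card_bot, mul_one, sup_comm] at hcard
  have hP' : IsPGroup p (P.subgroupOf (K ⊔ P)) := hP.comap_subtype
  have hidx : ¬ p ∣ (P.subgroupOf (K ⊔ P)).index := by
    have h1 : (P.subgroupOf (K ⊔ P)).index * Nat.card P = Nat.card (K ⊔ P : Subgroup G) := by
      have := card_eq_relIndex_mul_card hPL
      exact this.symm
    rw [hcard] at h1
    have h2 : (P.subgroupOf (K ⊔ P)).index = Nat.card K :=
      Nat.eq_of_mul_eq_mul_right Nat.card_pos (by rw [h1, mul_comm])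
    rw [h2]
    exact (Nat.Prime.coprime_iff_not_dvd Fact.out).1 hK.symm
  have h3 := Sylow.normalizer_sup_eq_top (hP'.toSylow hidx)
  rw [IsPGroup.toSylow_coe, Subgroup.subgroupOf_map_subtype, inf_eq_left.mpr hPL] at h3
  rw [eq_top_iff, ← h3]
  apply sup_le le_sup_left
  apply sup_le le_sup_right
  exact le_trans Subgroup.le_normalizer le_sup_left

end pstable

section transfer
variable {G : Type*} [Group G]

/-- `N_G(P)` -/
abbrev stN (P : Subgroup G) : Subgroup G := Subgroup.normalizer (P : Set G)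
/-- `C_G(P)` inside `N_G(P)` -/
abbrev stC (P : Subgroup G) : Subgroup ↥(stN P) :=
  (Subgroup.centralizer (P : Set G)).subgroupOf (Subgroup.normalizer (P : Set G))
/-- image of `A` in `N_G(P)/C_G(P)` -/
abbrev stIm (A P : Subgroup G) : Subgroup (↥(stN P) ⧸ stC P) :=
  (A.subgroupOf (stN P)).map (QuotientGroup.mk' (stC P))

variable (K P : Subgroup G) [K.Normal]

lemma map_mk_mem_normalizer {n : G} (hn : n ∈ stN P) :
    QuotientGroup.mk' K n ∈ stN (P.map (QuotientGroup.mk' K)) :=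
  Subgroup.le_normalizer_map _ (Subgroup.mem_map_of_mem _ hn)

lemma map_mk_mem_centralizer {c : G} (hc : c ∈ Subgroup.centralizer (P : Set G)) :
    QuotientGroup.mk' K c ∈ Subgroup.centralizer ((P.map (QuotientGroup.mk' K) : Subgroup (G ⧸ K)) : Set (G ⧸ K)) := by
  rw [Subgroup.mem_centralizer_iff]
  rintro _ ⟨x, hx, rfl⟩
  rw [← map_mul, ← map_mul, Subgroup.mem_centralizer_iff.1 hc x hx]

/-- the map `N_G(P) → N_Ḡ(P̄)` -/
noncomputable def normHom : ↥(stN P) →* ↥(stN (P.map (QuotientGroup.mk' K))) :=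
  ((QuotientGroup.mk' K).comp (stN P).subtype).codRestrict _
    (fun n => map_mk_mem_normalizer K P n.2)

lemma normHom_coe (n : ↥(stN P)) : ((normHom K P n : ↥(stN (P.map (QuotientGroup.mk' K)))) : G ⧸ K) =
    QuotientGroup.mk' K (n : G) := rfl

/-- the map `N_G(P)/C_G(P) → N_Ḡ(P̄)/C_Ḡ(P̄)` -/
noncomputable def quotHom : (↥(stN P) ⧸ stC P) →*
    (↥(stN (P.map (QuotientGroup.mk' K))) ⧸ stC (P.map (QuotientGroup.mk' K))) :=
  QuotientGroup.map _ _ (normHom K P) (by
    intro x hx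
    rw [Subgroup.mem_comap, Subgroup.mem_subgroupOf]
    rw [Subgroup.mem_subgroupOf] at hx
    exact map_mk_mem_centralizer K P hx)

lemma quotHom_mk (n : ↥(stN P)) :
    quotHom K P (QuotientGroup.mk' (stC P) n) = QuotientGroup.mk' _ (normHom K P n) := rfl

variable [Finite G] {p : ℕ} [Fact p.Prime]

lemma mem_centralizer_of_map_mk_mem (hP : IsPGroup p P) (hK : (Nat.card K).Coprime p) {n : G} (hn : n ∈ stN P)
    (hc : QuotientGroup.mk' K n ∈ Subgroup.centralizer ((P.map (QuotientGroup.mk' K) : Subgroup (G ⧸ K)) : Set (G ⧸ K))) :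
    n ∈ Subgroup.centralizer (P : Set G) := by
  rw [Subgroup.mem_centralizer_iff]
  intro x hx
  have h1 := Subgroup.mem_centralizer_iff.1 hc _ (Subgroup.mem_map_of_mem _ hx)
  rw [← map_mul, ← map_mul] at h1
  have h2 : (n * x)⁻¹ * (x * n) ∈ K := by
    rw [← QuotientGroup.eq_one_iff, ← QuotientGroup.mk'_apply, map_mul, map_inv, h1]
    simp
  have h3 : (n * x)⁻¹ * (x * n) ∈ P := by
    have hn' : n⁻¹ ∈ stN P := inv_mem hn
    have h4 : n⁻¹ * x * n⁻¹⁻¹ ∈ P := (Subgroup.mem_normalizer_iff.1 hn' x).1 hx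
    rw [inv_inv] at h4
    have : (n * x)⁻¹ * (x * n) = x⁻¹ * (n⁻¹ * x * n) := by group
    rw [this]
    exact mul_mem (inv_mem hx) h4
  have h5 : (n * x)⁻¹ * (x * n) ∈ K ⊓ P := ⟨h2, h3⟩
  rw [inf_eq_bot_of_pgroup_coprime K P hP hK, Subgroup.mem_bot] at h5
  have : x * n = (n * x) * ((n * x)⁻¹ * (x * n)) := by group
  rw [this, h5, mul_one]

lemma quotHom_bijective (hP : IsPGroup p P) (hK : (Nat.card K).Coprime p) (hn : (K ⊔ P).Normal) :
    Function.Bijective (quotHom K P) := by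
  constructor
  · rw [injective_iff_map_eq_one]
    intro x hx
    obtain ⟨n, rfl⟩ := QuotientGroup.mk'_surjective _ x
    rw [quotHom_mk, QuotientGroup.mk'_apply, QuotientGroup.eq_one_iff, Subgroup.mem_subgroupOf, normHom_coe] at hx
    rw [QuotientGroup.mk'_apply, QuotientGroup.eq_one_iff, Subgroup.mem_subgroupOf]
    exact mem_centralizer_of_map_mk_mem K P hP hK n.2 hx
  · intro y
    obtain ⟨⟨ybar, hy⟩, rfl⟩ := QuotientGroup.mk'_surjective _ y
    obtain ⟨g, rfl⟩ := QuotientGroup.mk'_surjective K ybar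
    have htop := normalizer_sup_eq_top_of_coprime K P hP hK hn
    have hg : g ∈ Subgroup.normalizer (P : Set G) ⊔ K := by rw [htop]; exact Subgroup.mem_top g
    obtain ⟨n, hnN, k, hk, rfl⟩ := Subgroup.mem_sup_of_normal_right.1 hg
    refine ⟨QuotientGroup.mk' _ ⟨n, hnN⟩, ?_⟩
    rw [quotHom_mk]
    congr 1
    apply Subtype.ext
    rw [normHom_coe]
    simp only [map_mul]
    have : QuotientGroup.mk' K k = 1 := (QuotientGroup.eq_one_iff k).2 hk
    rw [this, mul_one]

lemma quotHom_stIm (A : Subgroup G) (hAP : A ≤ stN P) :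
    (stIm A P).map (quotHom K P) = stIm (A.map (QuotientGroup.mk' K)) (P.map (QuotientGroup.mk' K)) := by
  apply le_antisymm
  · rintro _ ⟨_, ⟨⟨a, haN⟩, ha, rfl⟩, rfl⟩
    rw [quotHom_mk]
    refine ⟨normHom K P ⟨a, haN⟩, ?_, rfl⟩
    rw [SetLike.mem_coe, Subgroup.mem_subgroupOf] at ha ⊢
    rw [normHom_coe]
    exact Subgroup.mem_map_of_mem _ ha
  · rintro _ ⟨⟨y, hyN⟩, hy, rfl⟩
    rw [SetLike.mem_coe, Subgroup.mem_subgroupOf] at hy
    obtain ⟨a, ha, rfl⟩ := hy
    refine ⟨QuotientGroup.mk' _ ⟨a, hAP ha⟩, ⟨⟨a, hAP ha⟩, ?_, rfl⟩, ?_⟩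
    · rw [SetLike.mem_coe, Subgroup.mem_subgroupOf]; exact ha
    · rw [quotHom_mk]; rfl

/-- **transfer of the stability condition** between `G` and `G/K`, `K` a normal `p'`-subgroup -/
theorem stable_transfer (hP : IsPGroup p P) (hK : (Nat.card K).Coprime p) (hn : (K ⊔ P).Normal)
    (A : Subgroup G) (hAP : A ≤ stN P) :
    stIm A P ≤ pCore p _ ↔
      stIm (A.map (QuotientGroup.mk' K)) (P.map (QuotientGroup.mk' K)) ≤ pCore p _ := by
  have hbij := quotHom_bijective K P hP hK hn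
  rw [← quotHom_stIm K P A hAP]
  constructor
  · intro h
    exact (Subgroup.map_mono h).trans (pCore_map_le_of_surjective _ hbij.2)
  · intro h
    rw [Subgroup.map_le_iff_le_comap] at h
    exact h.trans (pCore_comap_le_of_bijective _ hbij)

end transfer

section lift
variable {G : Type*} [Group G] [Finite G] {p : ℕ} [Fact p.Prime]

/-- lifting a `p`-subgroup of the image along a homomorphism -/
lemma exists_pgroup_map_eq {H : Type*} [Group H] (f : G →* H) (M : Subgroup G) (B : Subgroup H)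
    (hB : IsPGroup p B) (hMB : M.map f = B) : ∃ A : Subgroup G, A ≤ M ∧ IsPGroup p A ∧ A.map f = B := by
  have hmem : ∀ m : ↥M, (f.comp M.subtype) m ∈ B := by
    intro m
    rw [← hMB]
    exact Subgroup.mem_map_of_mem f m.2
  set fM : ↥M →* ↥B := (f.comp M.subtype).codRestrict B hmem with hfM
  have hsurj : Function.Surjective fM := by
    rintro ⟨y, hy⟩
    rw [← hMB] at hy
    obtain ⟨x, hx, rfl⟩ := hy
    exact ⟨⟨x, hx⟩, rfl⟩
  obtain ⟨A₀⟩ : Nonempty (Sylow p ↥M) := inferInstance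
  have htop := sylow_eq_top_of_isPGroup hB (A₀.mapSurjective hsurj)
  rw [Sylow.coe_mapSurjective] at htop
  refine ⟨(A₀ : Subgroup ↥M).map M.subtype, Subgroup.map_subtype_le _, A₀.isPGroup'.map _, ?_⟩
  apply le_antisymm
  · rw [← hMB]
    exact Subgroup.map_mono (Subgroup.map_subtype_le _)
  · intro y hy
    have h1 : (⟨y, hy⟩ : ↥B) ∈ (A₀ : Subgroup ↥M).map fM := by rw [htop]; exact Subgroup.mem_top _
    obtain ⟨x, hx, hxy⟩ := h1
    refine ⟨(x : G), Subgroup.mem_map_of_mem _ hx, ?_⟩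
    have := congrArg Subtype.val hxy
    exact this

end lift

section main632
open scoped commutatorElement
variable {G : Type*} [Group G] [Finite G] {p : ℕ} [Fact p.Prime]

open Cfsg.Agent.Lib.Lead.PSolvable in
theorem isPStable_of_quotient (hO : Cfsg.pCore p G ≠ ⊥)
    (hs : Cfsg.IsPStable p (G ⧸ Cfsg.pPrimeCore p G)) : Cfsg.IsPStable p G := by
  obtain ⟨hodd, _, hst⟩ := hs
  refine ⟨hodd, hO, ?_⟩
  intro A P hA hP hAP hPle hPn hq
  have hKc : (Nat.card ↥(Cfsg.pPrimeCore p G)).Coprime p := pPrimeCore_coprime p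
  have hbot : Cfsg.pPrimeCore p (G ⧸ Cfsg.pPrimeCore p G) = ⊥ := Cfsg.Agent.H2.pPrimeCore_quotient_eq_bot p
  have hAP' : A ≤ stN P := fun a ha => mem_normalizer_of_conj_mem P a (hAP a ha)
  have key := (stable_transfer (Cfsg.pPrimeCore p G) P hP hKc hPn A hAP').2
  apply key
  apply hst (A.map (QuotientGroup.mk' _)) (P.map (QuotientGroup.mk' _)) (hA.map _) (hP.map _)
  · rintro _ ⟨a, ha, rfl⟩ _ ⟨x, hx, rfl⟩
    rw [← map_mul, ← map_inv, ← map_mul]
    exact Subgroup.mem_map_of_mem _ (hAP a ha x hx)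
  · rw [pPrimePCore_eq_pCore_of_pPrimeCore_eq_bot hbot]
    rintro _ ⟨x, hx, rfl⟩
    exact (mem_pPrimePCore_iff x).1 (hPle hx)
  · rw [hbot, bot_sup_eq]
    have h1 : P.map (QuotientGroup.mk' (Cfsg.pPrimeCore p G)) =
        (Cfsg.pPrimeCore p G ⊔ P).map (QuotientGroup.mk' (Cfsg.pPrimeCore p G)) := by
      rw [Subgroup.map_sup]
      rw [QuotientGroup.map_mk'_self, bot_sup_eq]
    rw [h1]
    exact Subgroup.Normal.map hPn _ (QuotientGroup.mk'_surjective _)
  · rw [← Subgroup.map_commutator, ← Subgroup.map_commutator, hq, Subgroup.map_bot]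

open Cfsg.Agent.Lib.Lead.PSolvable in
theorem isPStable_quotient (hs : Cfsg.IsPStable p G) : Cfsg.IsPStable p (G ⧸ Cfsg.pPrimeCore p G) := by
  obtain ⟨hodd, hO, hst⟩ := hs
  have hKc : (Nat.card ↥(Cfsg.pPrimeCore p G)).Coprime p := pPrimeCore_coprime p
  have hbot : Cfsg.pPrimeCore p (G ⧸ Cfsg.pPrimeCore p G) = ⊥ := Cfsg.Agent.H2.pPrimeCore_quotient_eq_bot p
  have hsurj := QuotientGroup.mk'_surjective (Cfsg.pPrimeCore p G)
  refine ⟨hodd, ?_, ?_⟩
  · intro h
    have h1 := pCore_map_le_of_surjective (p := p) _ hsurj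
    rw [h, le_bot_iff, Subgroup.map_eq_bot_iff, QuotientGroup.ker_mk'] at h1
    apply hO
    rw [eq_bot_iff, ← inf_eq_bot_of_pgroup_coprime (Cfsg.pPrimeCore p G) (Cfsg.pCore p G) (pCore_isPGroup p) hKc]
    exact le_inf h1 le_rfl
  · intro Abar Pbar hAb hPb hnorm hle hnormal hq
    rw [hbot, bot_sup_eq] at hnormal
    -- lift `Pbar`
    obtain ⟨P, hPL, hP, hPmap⟩ := exists_pgroup_map_eq (QuotientGroup.mk' (Cfsg.pPrimeCore p G))
      (Pbar.comap (QuotientGroup.mk' (Cfsg.pPrimeCore p G))) Pbar hPb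
      (Subgroup.map_comap_eq_self_of_surjective hsurj Pbar)
    have hinf := inf_eq_bot_of_pgroup_coprime (Cfsg.pPrimeCore p G) P hP hKc
    have hsup : Cfsg.pPrimeCore p G ⊔ P = Pbar.comap (QuotientGroup.mk' (Cfsg.pPrimeCore p G)) := by
      apply le_antisymm
      · apply sup_le _ hPL
        intro k hk
        rw [Subgroup.mem_comap]
        have : QuotientGroup.mk' (Cfsg.pPrimeCore p G) k = 1 := (QuotientGroup.eq_one_iff k).2 hk
        rw [this]; exact one_mem _
      · intro l hl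
        rw [Subgroup.mem_comap, ← hPmap] at hl
        obtain ⟨x, hx, hxl⟩ := hl
        have h1 : x⁻¹ * l ∈ Cfsg.pPrimeCore p G := by
          rw [← QuotientGroup.eq_one_iff, ← QuotientGroup.mk'_apply, map_mul, map_inv, hxl]
          simp
        have : l = x * (x⁻¹ * l) := by group
        rw [this, sup_comm]
        exact Subgroup.mul_mem_sup hx h1
    have hPn : (Cfsg.pPrimeCore p G ⊔ P).Normal := by
      rw [hsup]; exact Subgroup.Normal.comap hnormal _
    -- lift `Abar`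
    have htop := normalizer_sup_eq_top_of_coprime (Cfsg.pPrimeCore p G) P hP hKc hPn
    have hMmap : (Abar.comap (QuotientGroup.mk' (Cfsg.pPrimeCore p G)) ⊓ stN P).map
        (QuotientGroup.mk' (Cfsg.pPrimeCore p G)) = Abar := by
      apply le_antisymm
      · rintro _ ⟨x, hx, rfl⟩
        exact hx.1
      · intro y hy
        obtain ⟨g, rfl⟩ := hsurj y
        have hg : g ∈ Subgroup.normalizer (P : Set G) ⊔ Cfsg.pPrimeCore p G := by
          rw [htop]; exact Subgroup.mem_top g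
        obtain ⟨n, hnN, k, hk, rfl⟩ := Subgroup.mem_sup_of_normal_right.1 hg
        have hk1 : QuotientGroup.mk' (Cfsg.pPrimeCore p G) k = 1 := (QuotientGroup.eq_one_iff k).2 hk
        refine ⟨n, ⟨?_, hnN⟩, ?_⟩
        · show n ∈ Subgroup.comap (QuotientGroup.mk' (Cfsg.pPrimeCore p G)) Abar
          rw [Subgroup.mem_comap]
          rw [map_mul, hk1, mul_one] at hy
          exact hy
        · rw [map_mul, hk1, mul_one]
    obtain ⟨A, hAM, hA, hAmap⟩ := exists_pgroup_map_eq (QuotientGroup.mk' (Cfsg.pPrimeCore p G))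
      _ Abar hAb hMmap
    have hAN : A ≤ stN P := hAM.trans inf_le_right
    have hcomm1 : ⁅P, A⁆ ≤ P := by
      rw [Subgroup.commutator_le]
      intro x hx a ha
      have h1 : a * x⁻¹ * a⁻¹ ∈ P := (Subgroup.mem_normalizer_iff.1 (hAN ha) x⁻¹).1 (inv_mem hx)
      have : ⁅x, a⁆ = x * (a * x⁻¹ * a⁻¹) := by rw [commutatorElement_def]; group
      rw [this]
      exact mul_mem hx h1
    have hqG : ⁅⁅P, A⁆, A⁆ = ⊥ := by
      have h1 : ⁅⁅P, A⁆, A⁆ ≤ P := (Subgroup.commutator_mono hcomm1 le_rfl).trans hcomm1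
      have h2 : ⁅⁅P, A⁆, A⁆ ≤ Cfsg.pPrimeCore p G := by
        rw [← QuotientGroup.ker_mk' (Cfsg.pPrimeCore p G), ← Subgroup.map_eq_bot_iff,
          Subgroup.map_commutator, Subgroup.map_commutator, hPmap, hAmap, hq]
      rw [eq_bot_iff, ← hinf]
      exact le_inf h2 h1
    have h3 := hst A P hA hP
      (fun a ha x hx => (Subgroup.mem_normalizer_iff.1 (hAN ha) x).1 hx)
      (fun x hx => by
        rw [mem_pPrimePCore_iff]
        have h4 : QuotientGroup.mk' (Cfsg.pPrimeCore p G) x ∈ Pbar := by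
          rw [← hPmap]; exact Subgroup.mem_map_of_mem _ hx
        have h5 := hle h4
        rw [pPrimePCore_eq_pCore_of_pPrimeCore_eq_bot hbot] at h5
        exact h5)
      hPn hqG
    have h4 := (stable_transfer (Cfsg.pPrimeCore p G) P hP hKc hPn A hAN).1 h3
    rw [hPmap, hAmap] at h4
    exact h4

end main632

end Cfsg.Agent.H1
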