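import Mathlib
import Cfsg.Agent.H1.PStableQuot
import Cfsg.Agent.S0653
import Cfsg.Agent.S0630

set_option linter.style.haveILetI false
set_option linter.unusedSimpArgs false
set_option linter.unusedVariables false
set_option linter.unusedSectionVars false

namespace Cfsg.Agent.H1

open Cfsg

section stableOn
variable {H : Type*} [Group H] [Finite H] {p : ℕ} [Fact p.Prime]

open Cfsg.Agent.Lib.Lead.PSolvable in
lemma pCore_le_pPrimePCore : pCore p H ≤ pPrimePCore p H := by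
  intro x hx
  rw [mem_pPrimePCore_iff]
  exact pCore_map_le_of_surjective _ (QuotientGroup.mk'_surjective _) (Subgroup.mem_map_of_mem _ hx)

/-- a `p'`-element acting quadratically on a `p`-group centralizes it -/
lemma mem_centralizer_of_quadratic_coprime (V : Subgroup H) [V.Normal] (hV : IsPGroup p V) (b : H)
    (hb : (orderOf b).Coprime p) (hq : ⁅⁅V, Subgroup.zpowers b⁆, Subgroup.zpowers b⁆ = ⊥) :
    b ∈ Subgroup.centralizer (V : Set H) := by
  obtain ⟨j, hj⟩ := hV.exists_card_eq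
  have hcop : (Nat.card (Subgroup.zpowers b)).Coprime (Nat.card V) := by
    rw [Nat.card_zpowers, hj]; exact Nat.Coprime.pow_right j hb
  have hBV : Subgroup.zpowers b ≤ Subgroup.normalizer (V : Set H) := by
    rw [Subgroup.normalizer_eq_top V]; exact le_top
  have hsolv : Group.IsSolvable (Subgroup.zpowers b) ∨ Group.IsSolvable V := by
    left
    exact Group.isSolvable_of_comm
      (fun x y => (inferInstance : IsMulCommutative (Subgroup.zpowers b)).is_comm.comm x y)
  have h1 := Cfsg.Agent.S0027.result (Subgroup.zpowers b) V hBV hcop hsolv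
  rw [hq] at h1
  have h2 : V ≤ Subgroup.centralizer (Subgroup.zpowers b : Set H) :=
    Subgroup.commutator_eq_bot_iff_le_centralizer.1 h1.symm
  rw [Subgroup.mem_centralizer_iff]
  intro v hv
  exact (Subgroup.mem_centralizer_iff.1 (h2 hv) b (Subgroup.mem_zpowers b)).symm

theorem isPStableOn_of_isPStable (hs : Cfsg.IsPStable p H) (V : Subgroup H) [hVn : V.Normal]
    (hV : IsPGroup p V) : Cfsg.IsPStableOn p V := by
  intro a ha
  obtain ⟨_, _, hst⟩ := hs
  have hp : p.Prime := Fact.out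
  obtain ⟨k, m, hm, hkm⟩ := Nat.exists_eq_pow_mul_and_not_dvd (orderOf_pos a).ne' p hp.ne_one
  have hcop : Nat.Coprime (p ^ k) m := Nat.Coprime.pow_left k ((Nat.Prime.coprime_iff_not_dvd hp).2 hm)
  obtain ⟨u, v, huv⟩ := (Nat.isCoprime_iff_coprime.2 hcop)
  -- the `p'`-part centralizes `V`
  have h2ord : (orderOf (a ^ p ^ k)).Coprime p := by
    have h1 : orderOf (a ^ p ^ k) ∣ m := by
      apply orderOf_dvd_of_pow_eq_one
      rw [← pow_mul, ← hkm, pow_orderOf_eq_one]
    exact Nat.Coprime.coprime_dvd_left h1 ((Nat.Prime.coprime_iff_not_dvd hp).2 hm).symm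
  have hz2 : Subgroup.zpowers (a ^ p ^ k) ≤ Subgroup.zpowers a :=
    Subgroup.zpowers_le.2 (Subgroup.pow_mem _ (Subgroup.mem_zpowers a) _)
  have hz1 : Subgroup.zpowers (a ^ m) ≤ Subgroup.zpowers a :=
    Subgroup.zpowers_le.2 (Subgroup.pow_mem _ (Subgroup.mem_zpowers a) _)
  have hq2 : ⁅⁅V, Subgroup.zpowers (a ^ p ^ k)⁆, Subgroup.zpowers (a ^ p ^ k)⁆ = ⊥ := by
    rw [eq_bot_iff, ← ha]
    exact Subgroup.commutator_mono (Subgroup.commutator_mono le_rfl hz2) hz2
  have hq1 : ⁅⁅V, Subgroup.zpowers (a ^ m)⁆, Subgroup.zpowers (a ^ m)⁆ = ⊥ := by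
    rw [eq_bot_iff, ← ha]
    exact Subgroup.commutator_mono (Subgroup.commutator_mono le_rfl hz1) hz1
  have hc2 := mem_centralizer_of_quadratic_coprime V hV _ h2ord hq2
  -- the `p`-part
  have hA : IsPGroup p (Subgroup.zpowers (a ^ m)) := by
    rintro ⟨g, hg⟩
    refine ⟨k, ?_⟩
    apply Subtype.ext
    obtain ⟨i, rfl⟩ := Subgroup.mem_zpowers_iff.1 hg
    show ((a ^ m) ^ i) ^ p ^ k = 1
    rw [← zpow_natCast, ← zpow_mul, mul_comm, zpow_mul, zpow_natCast, ← pow_mul, mul_comm, ← hkm,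
      pow_orderOf_eq_one, one_zpow]
  have hVN : stN V = ⊤ := Subgroup.normalizer_eq_top V
  have h3 := hst (Subgroup.zpowers (a ^ m)) V hA hV
    (fun x _ y hy => hVn.conj_mem y hy x)
    ((le_pCore hVn hV).trans pCore_le_pPrimePCore)
    inferInstance hq1
  -- transport to `H ⧸ C_H(V)`
  let θ : (↥(stN V) ⧸ stC V) →* (H ⧸ Subgroup.centralizer (V : Set H)) :=
    QuotientGroup.map (stC V) (Subgroup.centralizer (V : Set H)) (stN V).subtype le_rfl
  have hθ : Function.Surjective θ := by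
    intro y
    obtain ⟨h, rfl⟩ := QuotientGroup.mk'_surjective _ y
    exact ⟨QuotientGroup.mk' _ ⟨h, by rw [hVN]; exact Subgroup.mem_top h⟩, rfl⟩
  have h4 : (QuotientGroup.mk (a ^ m) : H ⧸ Subgroup.centralizer (V : Set H)) ∈
      pCore p (H ⧸ Subgroup.centralizer (V : Set H)) := by
    apply pCore_map_le_of_surjective θ hθ
    have ham : a ^ m ∈ stN V := by rw [hVN]; exact Subgroup.mem_top _
    refine ⟨QuotientGroup.mk' _ ⟨a ^ m, ham⟩, h3 ?_, rfl⟩
    refine ⟨⟨a ^ m, ham⟩, ?_, rfl⟩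
    rw [SetLike.mem_coe, Subgroup.mem_subgroupOf]
    exact Subgroup.mem_zpowers _
  -- assemble
  have h5 : a = (a ^ p ^ k) ^ u * (a ^ m) ^ v := by
    have : a = a ^ (u * (p ^ k : ℕ) + v * (m : ℕ) : ℤ) := by rw [huv, zpow_one]
    conv_lhs => rw [this]
    rw [zpow_add, mul_comm u, mul_comm v, zpow_mul, zpow_mul, zpow_natCast, zpow_natCast]
  rw [h5, QuotientGroup.mk_mul, QuotientGroup.mk_zpow, QuotientGroup.mk_zpow]
  have h6 : (QuotientGroup.mk (a ^ p ^ k) : H ⧸ Subgroup.centralizer (V : Set H)) = 1 :=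
    (QuotientGroup.eq_one_iff _).2 hc2
  rw [h6, one_zpow, one_mul]
  exact Subgroup.zpow_mem _ h4 v

end stableOn

section zjnat
open Cfsg.Agent.Lib.Helper4.ZJ

variable {G H : Type*} [Group G] [Group H]

lemma card_map_of_injOn (f : G →* H) (A : Subgroup G) (hinj : ∀ x ∈ A, f x = 1 → x = 1) :
    Nat.card (A.map f) = Nat.card A := by
  symm
  apply Nat.card_congr
  refine Equiv.ofBijective (fun a : A => (⟨f a, Subgroup.mem_map_of_mem f a.2⟩ : A.map f)) ⟨?_, ?_⟩
  · intro a b hab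
    have h1 : f (a : G) = f (b : G) := congrArg Subtype.val hab
    have h2 : f ((a : G) * (b : G)⁻¹) = 1 := by rw [map_mul, map_inv, h1, mul_inv_cancel]
    have h3 := hinj _ (mul_mem a.2 (inv_mem b.2)) h2
    apply Subtype.ext
    exact mul_inv_eq_one.1 h3
  · rintro ⟨y, x, hx, rfl⟩
    exact ⟨⟨x, hx⟩, rfl⟩

lemma eq_of_map_eq_of_injOn (f : G →* H) (P : Subgroup G) (hinj : ∀ x ∈ P, f x = 1 → x = 1) {x y : G}
    (hx : x ∈ P) (hy : y ∈ P) (h : f x = f y) : x = y := by
  have h2 : f (x * y⁻¹) = 1 := by rw [map_mul, map_inv, h, mul_inv_cancel]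
  exact mul_inv_eq_one.1 (hinj _ (mul_mem hx (inv_mem hy)) h2)

lemma isMulCommutative_comap_inf (f : G →* H) (P : Subgroup G) (hinj : ∀ x ∈ P, f x = 1 → x = 1)
    (B : Subgroup H) (hB : IsMulCommutative B) : IsMulCommutative ↥(B.comap f ⊓ P) := by
  refine ⟨⟨fun x y => Subtype.ext ?_⟩⟩
  show (x : G) * (y : G) = (y : G) * (x : G)
  apply eq_of_map_eq_of_injOn f P hinj (mul_mem x.2.2 y.2.2) (mul_mem y.2.2 x.2.2)
  rw [map_mul, map_mul]
  have := hB.is_comm.comm ⟨f x, x.2.1⟩ ⟨f y, y.2.1⟩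
  exact congrArg Subtype.val this

lemma map_comap_inf_eq (f : G →* H) (P : Subgroup G) (B : Subgroup H) (hB : B ≤ P.map f) :
    (B.comap f ⊓ P).map f = B := by
  apply le_antisymm
  · rintro _ ⟨x, hx, rfl⟩
    exact hx.1
  · intro y hy
    obtain ⟨x, hx, rfl⟩ := hB hy
    exact ⟨x, ⟨hy, hx⟩, rfl⟩

variable [Finite G] [Finite H]

lemma map_mem_fam (f : G →* H) (P : Subgroup G) (hinj : ∀ x ∈ P, f x = 1 → x = 1) {A : Subgroup G}
    (hA : A ∈ fam (fun A : Subgroup G => IsMulCommutative A) P) :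
    A.map f ∈ fam (fun B : Subgroup H => IsMulCommutative B) (P.map f) := by
  obtain ⟨hAP, hAab, hmax⟩ := mem_fam.mp hA
  haveI : IsMulCommutative A := hAab
  refine mem_fam.mpr ⟨Subgroup.map_mono hAP, Subgroup.map_isMulCommutative A f, ?_⟩
  intro B hB hBab
  have h1 := hmax (B.comap f ⊓ P) inf_le_right (isMulCommutative_comap_inf f P hinj B hBab)
  rw [← card_map_of_injOn f (B.comap f ⊓ P) (fun x hx => hinj x hx.2), map_comap_inf_eq f P B hB] at h1
  rw [card_map_of_injOn f A (fun x hx => hinj x (hAP hx))]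
  exact h1

lemma comap_mem_fam' (f : G →* H) (P : Subgroup G) (hinj : ∀ x ∈ P, f x = 1 → x = 1) {B : Subgroup H}
    (hB : B ∈ fam (fun B : Subgroup H => IsMulCommutative B) (P.map f)) :
    (B.comap f ⊓ P) ∈ fam (fun A : Subgroup G => IsMulCommutative A) P := by
  obtain ⟨hBP, hBab, hmax⟩ := mem_fam.mp hB
  refine mem_fam.mpr ⟨inf_le_right, isMulCommutative_comap_inf f P hinj B hBab, ?_⟩
  intro A hA hAab
  haveI : IsMulCommutative A := hAab
  have h1 := hmax (A.map f) (Subgroup.map_mono hA) (Subgroup.map_isMulCommutative A f)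
  rw [card_map_of_injOn f A (fun x hx => hinj x (hA hx))] at h1
  rw [← card_map_of_injOn f (B.comap f ⊓ P) (fun x hx => hinj x hx.2), map_comap_inf_eq f P B hBP]
  exact h1

/-- naturality of `Z(J(P))` (abelian version) along a homomorphism injective on `P` -/
theorem centerThompsonAOf_map (f : G →* H) (P : Subgroup G) (hinj : ∀ x ∈ P, f x = 1 → x = 1) :
    Cfsg.centerThompsonAOf (P.map f) = (Cfsg.centerThompsonAOf P).map f := by
  rw [Cfsg.Agent.S0653.center_eq_zj, Cfsg.Agent.S0653.center_eq_zj]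
  apply le_antisymm
  · intro y hy
    unfold zj at hy ⊢
    rw [Subgroup.mem_sInf] at hy
    obtain ⟨A₀, hA₀⟩ := fam_nonempty (Cfsg.Agent.S0653.goodAb (G := G)) P
    obtain ⟨x₀, hx₀, rfl⟩ := hy _ (map_mem_fam f P hinj hA₀)
    refine ⟨x₀, ?_, rfl⟩
    rw [SetLike.mem_coe, Subgroup.mem_sInf]
    intro A hA
    obtain ⟨x, hx, hxy⟩ := hy _ (map_mem_fam f P hinj hA)
    have := eq_of_map_eq_of_injOn f P hinj ((mem_fam.mp hA).1 hx) ((mem_fam.mp hA₀).1 hx₀) hxy
    rw [← this]; exact hx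
  · rintro _ ⟨x, hx, rfl⟩
    unfold zj at hx ⊢
    rw [SetLike.mem_coe, Subgroup.mem_sInf] at hx
    rw [Subgroup.mem_sInf]
    intro B hB
    have h1 := hx _ (comap_mem_fam' f P hinj hB)
    exact h1.1

end zjnat

section main667
variable {G : Type*} [Group G] [Finite G] {p : ℕ} [Fact p.Prime]

lemma centerThompsonAOf_le (P : Subgroup G) : Cfsg.centerThompsonAOf P ≤ P := by
  unfold Cfsg.centerThompsonAOf Cfsg.thompsonSubgroupAOf
  exact inf_le_left.trans (Subgroup.map_subtype_le _)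

theorem zj_factorization (hp : p ≠ 2) (hc : Cfsg.IsPConstrained p G) (hs : Cfsg.IsPStable p G) (P : Sylow p G) :
    Cfsg.pPrimeCore p G ⊔ Subgroup.normalizer (Cfsg.centerThompsonAOf ((P : Subgroup G)) : Set G) = ⊤ := by
  have hKc : (Nat.card ↥(Cfsg.pPrimeCore p G)).Coprime p := pPrimeCore_coprime p
  have hsurj := QuotientGroup.mk'_surjective (Cfsg.pPrimeCore p G)
  have hsb := isPStable_quotient hs
  have hcb := (Cfsg.Agent.S0630.isPConstrained_iff).1 hc
  have hchar := Cfsg.Agent.S0653.result hp hcb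
    (fun V _ hV => isPStableOn_of_isPStable hsb V hV) (P.mapSurjective hsurj)
  rw [Sylow.coe_mapSurjective] at hchar
  have hinj : ∀ x ∈ (P : Subgroup G), QuotientGroup.mk' (Cfsg.pPrimeCore p G) x = 1 → x = 1 := by
    intro x hx h1
    have h2 : x ∈ Cfsg.pPrimeCore p G := (QuotientGroup.eq_one_iff x).1 h1
    have h3 : x ∈ Cfsg.pPrimeCore p G ⊓ (P : Subgroup G) := ⟨h2, hx⟩
    rw [inf_eq_bot_of_pgroup_coprime _ _ P.isPGroup' hKc, Subgroup.mem_bot] at h3
    exact h3
  rw [centerThompsonAOf_map _ _ hinj] at hchar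
  have hZ : IsPGroup p (Cfsg.centerThompsonAOf (P : Subgroup G)) :=
    P.isPGroup'.to_le (centerThompsonAOf_le _)
  have hn : (Cfsg.pPrimeCore p G ⊔ Cfsg.centerThompsonAOf (P : Subgroup G)).Normal := by
    have h1 : ((Cfsg.centerThompsonAOf (P : Subgroup G)).map (QuotientGroup.mk' (Cfsg.pPrimeCore p G))).comap
        (QuotientGroup.mk' (Cfsg.pPrimeCore p G)) =
        Cfsg.pPrimeCore p G ⊔ Cfsg.centerThompsonAOf (P : Subgroup G) := by
      rw [Subgroup.comap_map_eq, QuotientGroup.ker_mk', sup_comm]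
    rw [← h1]
    haveI : ((Cfsg.centerThompsonAOf (P : Subgroup G)).map (QuotientGroup.mk' (Cfsg.pPrimeCore p G))).Normal :=
      inferInstance
    exact Subgroup.Normal.comap inferInstance _
  have := normalizer_sup_eq_top_of_coprime (Cfsg.pPrimeCore p G) _ hZ hKc hn
  rw [sup_comm]
  exact this

end main667

end Cfsg.Agent.H1
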