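import Mathlib
import Cfsg.Agent.H1.ZJFactor
import Cfsg.Agent.H1.BaerSuzuki
import Cfsg.Agent.H1.SylowMore
import Cfsg.Agent.H1.SZConj
import Cfsg.Agent.H1.CoprimeAction

set_option linter.style.haveILetI false
set_option linter.unusedSimpArgs false
set_option linter.unusedVariables false
set_option linter.unusedSectionVars false

namespace Cfsg.Agent.H1

open Cfsg
open scoped Pointwise

section zjlocal
variable {G : Type*} [Group G] [Finite G] {p : ℕ} [Fact p.Prime]

/-- `Z(J(R^g)) = Z(J(R))^g` -/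
lemma centerThompsonAOf_conj (R : Subgroup G) (g : G) :
    Cfsg.centerThompsonAOf (R.map (MulAut.conj g).toMonoidHom) =
      (Cfsg.centerThompsonAOf R).map (MulAut.conj g).toMonoidHom :=
  centerThompsonAOf_map _ R (fun x _ hx => by
    have : (MulAut.conj g) x = (MulAut.conj g) 1 := by rw [map_one]; exact hx
    exact (MulAut.conj g).injective this)

lemma normalizer_le_normalizer_zj (R : Subgroup G) :
    Subgroup.normalizer (R : Set G) ≤ Subgroup.normalizer (Cfsg.centerThompsonAOf R : Set G) := by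
  intro n hn
  rw [← map_conj_eq_self_iff] at hn ⊢
  rw [← centerThompsonAOf_conj, hn]

open Cfsg.Agent.Lib.Helper4.ZJ in
lemma center_le_zj (R : Subgroup G) {x : G} (hx : x ∈ R) (hc : ∀ r ∈ R, r * x = x * r) :
    x ∈ Cfsg.centerThompsonAOf R := by
  rw [Cfsg.Agent.S0653.center_eq_zj]
  unfold zj
  rw [Subgroup.mem_sInf]
  intro A hA
  exact Cfsg.Agent.S0653.mem_of_commute hA hx (fun a ha => hc a ((mem_fam.mp hA).1 ha))

lemma zj_ne_bot (R : Subgroup G) (hR : IsPGroup p R) (hne : R ≠ ⊥) : Cfsg.centerThompsonAOf R ≠ ⊥ := by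
  haveI : Nontrivial R := (Subgroup.nontrivial_iff_ne_bot R).2 hne
  haveI := hR.center_nontrivial
  obtain ⟨z, hz⟩ := exists_ne (1 : Subgroup.center R)
  intro hbot
  have h1 : ((z : R) : G) ∈ Cfsg.centerThompsonAOf R := by
    apply center_le_zj R (z : R).2
    intro r hr
    have := Subgroup.mem_center_iff.1 z.2 ⟨r, hr⟩
    exact congrArg Subtype.val this
  rw [hbot, Subgroup.mem_bot] at h1
  apply hz
  apply Subtype.ext
  apply Subtype.ext
  exact h1

lemma le_normalizer_map_subtype_of_normal (N : Subgroup G) (Z : Subgroup ↥N) [hZ : Z.Normal] :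
    N ≤ Subgroup.normalizer ((Z.map N.subtype : Subgroup G) : Set G) := by
  intro n hn
  apply mem_normalizer_of_conj_mem
  rintro _ ⟨z, hz, rfl⟩
  exact ⟨⟨n, hn⟩ * z * ⟨n, hn⟩⁻¹, hZ.conj_mem z hz ⟨n, hn⟩, rfl⟩

variable (hp : p ≠ 2)
  (hloc : ∀ Q : Subgroup G, IsPGroup p Q → Q ≠ ⊥ →
    Cfsg.pPrimeCore p ↥(Subgroup.normalizer (Q : Set G)) = ⊥ ∧
    Cfsg.IsPConstrained p ↥(Subgroup.normalizer (Q : Set G)) ∧
    Cfsg.IsPStable p ↥(Subgroup.normalizer (Q : Set G)))

include hp hloc in
/-- `N_G(Q) ≤ N_G(Z(J(R)))` for `R` a Sylow `p`-subgroup of `N_G(Q)` -/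
lemma normalizer_le_normalizer_zj_sylow (Q : Subgroup G) (hQ : IsPGroup p Q) (hQ1 : Q ≠ ⊥)
    (S : Sylow p ↥(Subgroup.normalizer (Q : Set G))) :
    Subgroup.normalizer (Q : Set G) ≤ Subgroup.normalizer
      (Cfsg.centerThompsonAOf ((S : Subgroup ↥(Subgroup.normalizer (Q : Set G))).map
        (Subgroup.normalizer (Q : Set G)).subtype) : Set G) := by
  obtain ⟨hO, hcon, hst⟩ := hloc Q hQ hQ1
  have h1 := zj_factorization hp hcon hst S
  rw [hO, bot_sup_eq] at h1
  haveI hn : (Cfsg.centerThompsonAOf (S : Subgroup ↥(Subgroup.normalizer (Q : Set G)))).Normal :=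
    Subgroup.normalizer_eq_top_iff.mp h1
  rw [centerThompsonAOf_map (Subgroup.normalizer (Q : Set G)).subtype _
    (fun x _ hx => Subtype.ext (by simpa using hx))]
  exact le_normalizer_map_subtype_of_normal _ _

/-- every `p`-subgroup of `N` lies in (the image of) a Sylow `p`-subgroup of `N` -/
lemma exists_sylow_map_ge (N T : Subgroup G) (hT : IsPGroup p T) (hTN : T ≤ N) :
    ∃ S : Sylow p ↥N, T ≤ (S : Subgroup ↥N).map N.subtype := by
  obtain ⟨S, hS⟩ := (hT.comap_subtype (K := N)).exists_le_sylow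
  refine ⟨S, ?_⟩
  intro t ht
  exact ⟨⟨t, hTN ht⟩, hS (Subgroup.mem_subgroupOf.2 ht), rfl⟩

lemma card_sylow_map_subtype (N : Subgroup G) (S : Sylow p ↥N) :
    Nat.card ((S : Subgroup ↥N).map N.subtype) = Nat.card S :=
  Subgroup.card_map_of_injective N.subtype_injective

/-- Claim B: Sylow subgroups with large intersection have the same `Z(J)` -/
lemma zj_eq_of_large_inf (t : ℕ) (ht : 1 ≤ t)
    (hA : ∀ D : Subgroup G, IsPGroup p D → D ≠ ⊥ → ∀ S : Sylow p ↥(Subgroup.normalizer (D : Set G)),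
      t < Nat.card S → ∀ P : Sylow p G,
      (S : Subgroup ↥(Subgroup.normalizer (D : Set G))).map (Subgroup.normalizer (D : Set G)).subtype ≤ P →
      Subgroup.normalizer (D : Set G) ≤ Subgroup.normalizer (Cfsg.centerThompsonAOf (P : Subgroup G) : Set G)) :
    ∀ m : ℕ, ∀ P₁ P₂ : Sylow p G, Nat.card G - Nat.card ↥((P₁ : Subgroup G) ⊓ (P₂ : Subgroup G)) = m →
      t < Nat.card ↥((P₁ : Subgroup G) ⊓ (P₂ : Subgroup G)) →
      Cfsg.centerThompsonAOf (P₁ : Subgroup G) = Cfsg.centerThompsonAOf (P₂ : Subgroup G) := by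
  intro m
  induction m using Nat.strong_induction_on with
  | _ m ih =>
    intro P₁ P₂ hm hlt
    set D : Subgroup G := (P₁ : Subgroup G) ⊓ (P₂ : Subgroup G) with hD
    by_cases h1 : D = (P₁ : Subgroup G)
    · have hle : (P₁ : Subgroup G) ≤ (P₂ : Subgroup G) := by rw [← h1]; exact inf_le_right
      have : P₁ = P₂ := Sylow.ext (P₁.is_maximal' P₂.isPGroup' hle).symm
      rw [this]
    have hlt1 : D < (P₁ : Subgroup G) := lt_of_le_of_ne inf_le_left h1
    have h2 : D ≠ (P₂ : Subgroup G) := by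
      intro h2
      have hle : (P₂ : Subgroup G) ≤ (P₁ : Subgroup G) := by rw [← h2]; exact inf_le_left
      have : P₂ = P₁ := Sylow.ext (P₂.is_maximal' P₁.isPGroup' hle).symm
      apply h1
      rw [hD, this, inf_idem]
    have hlt2 : D < (P₂ : Subgroup G) := lt_of_le_of_ne inf_le_right h2
    have hDp : IsPGroup p D := P₁.isPGroup'.to_le inf_le_left
    have hDne : D ≠ ⊥ := by
      intro hbot
      rw [hbot, Subgroup.card_bot] at hlt
      omega
    have hcardle : ∀ K : Subgroup G, Nat.card K ≤ Nat.card G := fun K => Subgroup.card_le_card_group K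
    -- first side
    have hn1 := lt_normalizer_inf_of_pgroup D (P₁ : Subgroup G) P₁.isPGroup' hlt1
    obtain ⟨S₁, hS₁⟩ := exists_sylow_map_ge (Subgroup.normalizer (D : Set G))
      (Subgroup.normalizer (D : Set G) ⊓ (P₁ : Subgroup G)) (P₁.isPGroup'.to_le inf_le_right) inf_le_left
    obtain ⟨P₃, hP₃⟩ := (S₁.isPGroup'.map (Subgroup.normalizer (D : Set G)).subtype).exists_le_sylow
    have hc1 : Nat.card D < Nat.card ↥(Subgroup.normalizer (D : Set G) ⊓ (P₁ : Subgroup G)) :=
      card_lt_card_of_lt' hn1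
    have hle13 : Subgroup.normalizer (D : Set G) ⊓ (P₁ : Subgroup G) ≤ (P₁ : Subgroup G) ⊓ (P₃ : Subgroup G) :=
      le_inf inf_le_right (hS₁.trans hP₃)
    have hc13 := Subgroup.card_le_of_le hle13
    have e13 : Cfsg.centerThompsonAOf (P₁ : Subgroup G) = Cfsg.centerThompsonAOf (P₃ : Subgroup G) := by
      apply ih (Nat.card G - Nat.card ↥((P₁ : Subgroup G) ⊓ (P₃ : Subgroup G))) _ P₁ P₃ rfl (by omega)
      have := hcardle ((P₁ : Subgroup G) ⊓ (P₃ : Subgroup G))
      have := hcardle D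
      omega
    -- second side
    have hn2 := lt_normalizer_inf_of_pgroup D (P₂ : Subgroup G) P₂.isPGroup' hlt2
    obtain ⟨S₂, hS₂⟩ := exists_sylow_map_ge (Subgroup.normalizer (D : Set G))
      (Subgroup.normalizer (D : Set G) ⊓ (P₂ : Subgroup G)) (P₂.isPGroup'.to_le inf_le_right) inf_le_left
    obtain ⟨P₄, hP₄⟩ := (S₂.isPGroup'.map (Subgroup.normalizer (D : Set G)).subtype).exists_le_sylow
    have hc2 : Nat.card D < Nat.card ↥(Subgroup.normalizer (D : Set G) ⊓ (P₂ : Subgroup G)) :=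
      card_lt_card_of_lt' hn2
    have hle24 : Subgroup.normalizer (D : Set G) ⊓ (P₂ : Subgroup G) ≤ (P₂ : Subgroup G) ⊓ (P₄ : Subgroup G) :=
      le_inf inf_le_right (hS₂.trans hP₄)
    have hc24 := Subgroup.card_le_of_le hle24
    have e24 : Cfsg.centerThompsonAOf (P₂ : Subgroup G) = Cfsg.centerThompsonAOf (P₄ : Subgroup G) := by
      apply ih (Nat.card G - Nat.card ↥((P₂ : Subgroup G) ⊓ (P₄ : Subgroup G))) _ P₂ P₄ rfl (by omega)
      have := hcardle ((P₂ : Subgroup G) ⊓ (P₄ : Subgroup G))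
      have := hcardle D
      omega
    -- conjugate
    obtain ⟨x, hx⟩ := MulAction.exists_smul_eq ↥(Subgroup.normalizer (D : Set G)) S₁ S₂
    have hconj := sylow_smul_map_subtype (Subgroup.normalizer (D : Set G)) S₁ x
    rw [hx] at hconj
    have hle34 : Subgroup.normalizer (D : Set G) ⊓ (P₂ : Subgroup G) ≤
        ((((x : G) • P₃ : Sylow p G)) : Subgroup G) ⊓ (P₄ : Subgroup G) := by
      refine le_inf ?_ (hle24.trans inf_le_right)
      refine hS₂.trans ?_
      rw [hconj, Sylow.coe_subgroup_smul, conj_smul_eq_map]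
      exact Subgroup.map_mono hP₃
    have hc34 := Subgroup.card_le_of_le hle34
    have e34 : Cfsg.centerThompsonAOf ((((x : G) • P₃ : Sylow p G)) : Subgroup G) =
        Cfsg.centerThompsonAOf (P₄ : Subgroup G) := by
      apply ih (Nat.card G - Nat.card ↥(((((x : G) • P₃ : Sylow p G)) : Subgroup G) ⊓ (P₄ : Subgroup G))) _ _ P₄ rfl
        (by omega)
      have := hcardle (((((x : G) • P₃ : Sylow p G)) : Subgroup G) ⊓ (P₄ : Subgroup G))
      have := hcardle D
      omega
    have hS1card : t < Nat.card S₁ := by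
      rw [← card_sylow_map_subtype]
      have := Subgroup.card_le_of_le hS₁
      omega
    have hxN := hA D hDp hDne S₁ hS1card P₃ hP₃ x.2
    rw [← map_conj_eq_self_iff] at hxN
    rw [Sylow.coe_subgroup_smul, conj_smul_eq_map, centerThompsonAOf_conj, hxN] at e34
    rw [e13, e34, e24]

include hp hloc in
/-- Claim A -/
lemma normalizer_le_normalizer_zj_of_sylow_le : ∀ m : ℕ, ∀ (Q : Subgroup G), IsPGroup p Q → Q ≠ ⊥ →
    ∀ S : Sylow p ↥(Subgroup.normalizer (Q : Set G)), Nat.card G - Nat.card S = m → ∀ P : Sylow p G,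
      (S : Subgroup ↥(Subgroup.normalizer (Q : Set G))).map (Subgroup.normalizer (Q : Set G)).subtype ≤ P →
      Subgroup.normalizer (Q : Set G) ≤ Subgroup.normalizer (Cfsg.centerThompsonAOf (P : Subgroup G) : Set G) := by
  intro m
  induction m using Nat.strong_induction_on with
  | _ m ih =>
    intro Q hQ hQ1 S hm P hSP
    have hcardle : ∀ K : Subgroup G, Nat.card K ≤ Nat.card G := fun K => Subgroup.card_le_card_group K
    set R : Subgroup G := (S : Subgroup ↥(Subgroup.normalizer (Q : Set G))).map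
      (Subgroup.normalizer (Q : Set G)).subtype with hR
    have hRcard : Nat.card R = Nat.card S := card_sylow_map_subtype _ S
    have hF1 := normalizer_le_normalizer_zj_sylow hp hloc Q hQ hQ1 S
    by_cases hRP : R = (P : Subgroup G)
    · rw [← hRP]; exact hF1
    have hlt : R < (P : Subgroup G) := lt_of_le_of_ne hSP hRP
    have hRp : IsPGroup p R := S.isPGroup'.map _
    -- `Q ≤ R`
    have hQR : Q ≤ R := by
      haveI : (Q.subgroupOf (Subgroup.normalizer (Q : Set G))).Normal := Subgroup.normal_in_normalizer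
      have hQ' : IsPGroup p (Q.subgroupOf (Subgroup.normalizer (Q : Set G))) := hQ.comap_subtype
      have h1 := hQ'.le_sylow_of_normal S
      intro q hq
      exact ⟨⟨q, Subgroup.le_normalizer hq⟩, h1 (Subgroup.mem_subgroupOf.2 hq), rfl⟩
    have hRne : R ≠ ⊥ := fun h => hQ1 (le_bot_iff.1 (h ▸ hQR))
    have hQ₁ne := zj_ne_bot R hRp hRne
    have hQ₁p : IsPGroup p (Cfsg.centerThompsonAOf R) := hRp.to_le (centerThompsonAOf_le R)
    have hn := lt_normalizer_inf_of_pgroup R (P : Subgroup G) P.isPGroup' hlt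
    have hT₀ : Subgroup.normalizer (R : Set G) ⊓ (P : Subgroup G) ≤
        Subgroup.normalizer (Cfsg.centerThompsonAOf R : Set G) :=
      inf_le_left.trans (normalizer_le_normalizer_zj R)
    obtain ⟨S₁, hS₁⟩ := exists_sylow_map_ge (Subgroup.normalizer (Cfsg.centerThompsonAOf R : Set G))
      (Subgroup.normalizer (R : Set G) ⊓ (P : Subgroup G)) (P.isPGroup'.to_le inf_le_right) hT₀
    obtain ⟨P₁, hP₁⟩ := (S₁.isPGroup'.map
      (Subgroup.normalizer (Cfsg.centerThompsonAOf R : Set G)).subtype).exists_le_sylow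
    have hc1 : Nat.card R < Nat.card ↥(Subgroup.normalizer (R : Set G) ⊓ (P : Subgroup G)) :=
      card_lt_card_of_lt' hn
    have hS1card : Nat.card S < Nat.card S₁ := by
      rw [← card_sylow_map_subtype _ S₁, ← hRcard]
      have := Subgroup.card_le_of_le hS₁
      omega
    have hS1le : Nat.card S₁ ≤ Nat.card G := by
      rw [← card_sylow_map_subtype _ S₁]; exact hcardle _
    have hA1 := ih (Nat.card G - Nat.card S₁) (by omega) _ hQ₁p hQ₁ne S₁ rfl P₁ hP₁
    have hSpos : 1 ≤ Nat.card S := Nat.card_pos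
    have hB := zj_eq_of_large_inf (Nat.card S) hSpos
      (fun D hD hD1 S' hS' P' hP' => by
        have hS'le : Nat.card S' ≤ Nat.card G := by
          rw [← card_sylow_map_subtype _ S']; exact hcardle _
        exact ih (Nat.card G - Nat.card S') (by omega) D hD hD1 S' rfl P' hP')
      _ P P₁ rfl (by
        have h1 : Subgroup.normalizer (R : Set G) ⊓ (P : Subgroup G) ≤ (P : Subgroup G) ⊓ (P₁ : Subgroup G) :=
          le_inf inf_le_right (hS₁.trans hP₁)
        have := Subgroup.card_le_of_le h1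
        omega)
    rw [hB]
    exact hF1.trans hA1

include hp hloc in
theorem p_locals_le_normalizer_zj (P : Sylow p G) (Q : Subgroup G) (hQP : Q ≤ (P : Subgroup G)) (hQ1 : Q ≠ ⊥) :
    Subgroup.normalizer (Q : Set G) ≤ Subgroup.normalizer (Cfsg.centerThompsonAOf ((P : Subgroup G)) : Set G) := by
  have hQ : IsPGroup p Q := P.isPGroup'.to_le hQP
  have hA := fun m => normalizer_le_normalizer_zj_of_sylow_le hp hloc m
  obtain ⟨S, hS⟩ := exists_sylow_map_ge (Subgroup.normalizer (Q : Set G))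
    (Subgroup.normalizer (Q : Set G) ⊓ (P : Subgroup G)) (P.isPGroup'.to_le inf_le_right) inf_le_left
  obtain ⟨P₁, hP₁⟩ := (S.isPGroup'.map (Subgroup.normalizer (Q : Set G)).subtype).exists_le_sylow
  have h1 := hA _ Q hQ hQ1 S rfl P₁ hP₁
  have hQle : Q ≤ (P : Subgroup G) ⊓ (P₁ : Subgroup G) :=
    le_inf hQP ((le_inf Subgroup.le_normalizer hQP).trans (hS.trans hP₁))
  have hB := zj_eq_of_large_inf 1 le_rfl
    (fun D hD hD1 S' _ P' hP' => hA _ D hD hD1 S' rfl P' hP') _ P P₁ rfl (by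
      have h2 := Subgroup.card_le_of_le hQle
      have h3 : 1 < Nat.card Q := by rw [Subgroup.one_lt_card_iff_ne_bot]; exact hQ1
      omega)
  rw [hB]
  exact h1

end zjlocal

end Cfsg.Agent.H1
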