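import Mathlib
import Cfsg.Agent.H1.Abelian
import Cfsg.Prelude.Def_PLocal

set_option autoImplicit false
open scoped Pointwise commutatorElement

universe u

namespace Cfsg.Agent.H1

/-- adjoining a centralizing element of order dividing `p` keeps a subgroup elementary abelian -/
lemma isElementaryAbelian_sup_zpowers {G : Type u} [Group G] (p : ℕ) (A : Subgroup G) (hA : Cfsg.IsElementaryAbelian p A)
    (x : G) (hx : x ∈ Subgroup.centralizer (A : Set G)) (hxp : x ^ p = 1) :
    Cfsg.IsElementaryAbelian p (A ⊔ Subgroup.zpowers x : Subgroup G) := by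
  have hab := isMulCommutative_sup_zpowers A hA.1 x hx
  refine ⟨hab, ?_⟩
  let T : Subgroup G :=
    { carrier := {y | y ∈ A ⊔ Subgroup.zpowers x ∧ y ^ p = 1}
      mul_mem' := by
        rintro a b ⟨ha, ha'⟩ ⟨hb, hb'⟩
        refine ⟨mul_mem ha hb, ?_⟩
        have hc : Commute a b := by
          have := hab.is_comm.comm (⟨a, ha⟩ : (A ⊔ Subgroup.zpowers x : Subgroup G)) ⟨b, hb⟩
          exact congrArg Subtype.val this
        rw [hc.mul_pow, ha', hb', one_mul]
      one_mem' := ⟨one_mem _, one_pow p⟩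
      inv_mem' := by
        rintro a ⟨ha, ha'⟩
        exact ⟨inv_mem ha, by rw [inv_pow, ha', inv_one]⟩ }
  have hT : A ⊔ Subgroup.zpowers x ≤ T := by
    refine sup_le ?_ ?_
    · intro a ha
      exact ⟨Subgroup.mem_sup_left ha, hA.2 a ha⟩
    · rw [Subgroup.zpowers_le]
      exact ⟨Subgroup.mem_sup_right (Subgroup.mem_zpowers x), hxp⟩
  intro y hy
  exact (hT hy).2

end Cfsg.Agent.H1

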