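import Mathlib
import Cfsg.Prelude.Def_Transfer
import Cfsg.Prelude.Def_PLocal
import Cfsg.Agent.S0659
import Cfsg.Agent.Lib.Helper4.GTZJ
import Cfsg.Agent.Lib.Helper4.Nilpotent
import Cfsg.Agent.Lib.Lead.NormalPComplement
import Cfsg.Agent.Lib.Lead.Conj
import Cfsg.Agent.H2.ConjMap
import Cfsg.Agent.S0035
import Cfsg.Prelude.Def_Solvable

set_option autoImplicit false
set_option linter.style.haveILetI false
set_option linter.unusedVariables false

namespace Cfsg.Agent.H1

section npow
variable {G : Type*} [Group G]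

/-- partial norms `x * f x * ... * f^[n-1] x` -/
def npow (f : G → G) (x : G) : ℕ → G
  | 0 => 1
  | n + 1 => npow f x n * f^[n] x

@[simp] theorem npow_zero (f : G → G) (x : G) : npow f x 0 = 1 := rfl

theorem npow_succ (f : G → G) (x : G) (n : ℕ) : npow f x (n + 1) = npow f x n * f^[n] x := rfl

theorem npow_one (f : G → G) (x : G) : npow f x 1 = x := by
  rw [npow_succ, npow_zero, one_mul, Function.iterate_zero_apply]

theorem npow_eq_list_prod (f : G → G) (x : G) (n : ℕ) :
    npow f x n = ((List.range n).map (fun i => f^[i] x)).prod := by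
  induction n with
  | zero => simp
  | succ n ih =>
    rw [npow_succ, ih, List.range_succ, List.map_append, List.prod_append]
    simp

theorem npow_one_right (f : G → G) (hf : f 1 = 1) (n : ℕ) : npow f 1 n = 1 := by
  induction n with
  | zero => rfl
  | succ n ih =>
    rw [npow_succ, ih, one_mul, Function.iterate_fixed hf]

theorem npow_fixed (f : G → G) {x : G} (hx : f x = x) (n : ℕ) : npow f x n = x ^ n := by
  induction n with
  | zero => simp
  | succ n ih =>
    rw [npow_succ, ih, Function.iterate_fixed hx, pow_succ]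

theorem npow_add (ψ : G →* G) (h : G) (m n : ℕ) :
    npow ψ h (m + n) = npow ψ h m * (⇑ψ)^[m] (npow ψ h n) := by
  induction n with
  | zero => simp [iterate_map_one]
  | succ n ih =>
    rw [← add_assoc, npow_succ, ih, npow_succ, iterate_map_mul, mul_assoc,
      Function.iterate_add_apply]

theorem npow_succ' (ψ : G →* G) (h : G) (n : ℕ) :
    npow ψ h (n + 1) = h * ψ (npow ψ h n) := by
  rw [add_comm, npow_add, npow_one, Function.iterate_one]

theorem npow_mul (ψ : G →* G) (h : G) (j k : ℕ) :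
    npow ψ h (j * k) = npow ((⇑ψ)^[j]) (npow ψ h j) k := by
  induction k with
  | zero => simp
  | succ k ih =>
    rw [Nat.mul_succ, npow_add, ih, npow_succ, ← Function.iterate_mul]

theorem npow_mem (ψ : G →* G) (S : Subgroup G) (hS : ∀ x ∈ S, ψ x ∈ S) {h : G} (hh : h ∈ S)
    (n : ℕ) : npow ψ h n ∈ S := by
  have hit : ∀ k : ℕ, (⇑ψ)^[k] h ∈ S := by
    intro k
    induction k with
    | zero => simpa
    | succ k ih => rw [Function.iterate_succ_apply']; exact hS _ ih
  induction n with
  | zero => exact S.one_mem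
  | succ n ih => rw [npow_succ]; exact S.mul_mem ih (hit n)

end npow

section splits
variable {G : Type*} [Group G]

/-- `ψ` has period `r` and splits: `x * ψ x * ... * ψ^[r-1] x = 1` for all `x` -/
structure Splits (r : ℕ) (ψ : G →* G) : Prop where
  per : ∀ x, (⇑ψ)^[r] x = x
  split : ∀ x, npow ψ x r = 1

theorem Splits.per_mul {r : ℕ} {ψ : G →* G} (hψ : Splits r ψ) (m : ℕ) (x : G) :
    (⇑ψ)^[r * m] x = x := by
  induction m with
  | zero => simp
  | succ m ih =>
    rw [Nat.mul_succ, Function.iterate_add_apply, hψ.per, ih]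

theorem Splits.npow_mul_eq_one {r : ℕ} {ψ : G →* G} (hψ : Splits r ψ) (m : ℕ) (x : G) :
    npow ψ x (r * m) = 1 := by
  rw [npow_mul, hψ.split]
  apply npow_one_right
  rw [iterate_map_one]

theorem Splits.pow_eq_one_of_fixed {r : ℕ} {ψ : G →* G} (hψ : Splits r ψ) {x : G}
    (hx : ψ x = x) : x ^ r = 1 := by
  rw [← npow_fixed ψ hx r]; exact hψ.split x

theorem Splits.injective {r : ℕ} (hr : 0 < r) {ψ : G →* G} (hψ : Splits r ψ) :
    Function.Injective ψ := by
  intro x y hxy
  obtain ⟨k, rfl⟩ : ∃ k, r = k + 1 := ⟨r - 1, by omega⟩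
  have h1 := hψ.per x
  have h2 := hψ.per y
  rw [Function.iterate_succ_apply] at h1 h2
  rw [← h1, ← h2, hxy]

/-- the partial norm map `h ↦ npow ψ h j` is injective when `j` is prime to `r` -/
theorem Splits.npow_injective {r : ℕ} {ψ : G →* G} (hψ : Splits r ψ) (hr : 1 < r) {j : ℕ}
    (hj : Nat.Coprime j r) {h₁ h₂ : G} (h : npow ψ h₁ j = npow ψ h₂ j) : h₁ = h₂ := by
  obtain ⟨k, -, hk⟩ := Nat.exists_mul_mod_eq_one_of_coprime hj hr
  have key : ∀ h : G, h = npow ((⇑ψ)^[j]) (npow ψ h j) k := by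
    intro h
    rw [← npow_mul]
    have e : j * k = r * (j * k / r) + 1 := by
      have := Nat.div_add_mod (j * k) r
      omega
    rw [e, npow_add, hψ.npow_mul_eq_one, one_mul, npow_one, hψ.per_mul]
  rw [key h₁, key h₂, h]

theorem iterate_conj_comp (ψ : G →* G) (h x : G) (n : ℕ) :
    (⇑((MulAut.conj h).toMonoidHom.comp ψ))^[n] x = npow ψ h n * (⇑ψ)^[n] x * (npow ψ h n)⁻¹ := by
  induction n with
  | zero => simp
  | succ n ih =>
    rw [Function.iterate_succ_apply', ih, npow_succ' ψ h n, Function.iterate_succ_apply']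
    simp [mul_assoc]

theorem npow_conj_comp (ψ : G →* G) (h x : G) (n : ℕ) :
    npow (⇑((MulAut.conj h).toMonoidHom.comp ψ)) x n =
      npow ψ (x * h) n * (npow ψ h n)⁻¹ := by
  induction n with
  | zero => simp
  | succ n ih =>
    rw [npow_succ, ih, iterate_conj_comp, npow_succ ψ (x * h), npow_succ ψ h, iterate_map_mul]
    group

theorem Splits.conj {r : ℕ} {ψ : G →* G} (hψ : Splits r ψ) (h : G) :
    Splits r ((MulAut.conj h).toMonoidHom.comp ψ) := by
  constructor
  · intro x
    rw [iterate_conj_comp, hψ.split, hψ.per]; simp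
  · intro x
    rw [npow_conj_comp, hψ.split, hψ.split]; simp

/-- transport along a surjective homomorphism -/
theorem Splits.of_surjective {H : Type*} [Group H] {r : ℕ} {ψ : G →* G} (hψ : Splits r ψ)
    (π : G →* H) (hπ : Function.Surjective π) (χ : H →* H) (hc : ∀ x, χ (π x) = π (ψ x)) :
    Splits r χ := by
  have hit : ∀ (n : ℕ) (x : G), (⇑χ)^[n] (π x) = π ((⇑ψ)^[n] x) := by
    intro n
    induction n with
    | zero => intro x; rfl
    | succ n ih => intro x; rw [Function.iterate_succ_apply', ih, hc, Function.iterate_succ_apply']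
  have hnp : ∀ (n : ℕ) (x : G), npow χ (π x) n = π (npow ψ x n) := by
    intro n
    induction n with
    | zero => intro x; simp
    | succ n ih => intro x; rw [npow_succ, ih, hit, npow_succ, map_mul]
  constructor
  · intro y
    obtain ⟨x, rfl⟩ := hπ y
    rw [hit, hψ.per]
  · intro y
    obtain ⟨x, rfl⟩ := hπ y
    rw [hnp, hψ.split, map_one]

/-- transport along an injective homomorphism -/
theorem Splits.of_injective {H : Type*} [Group H] {r : ℕ} {ψ : G →* G} (hψ : Splits r ψ)
    (ι : H →* G) (hι : Function.Injective ι) (χ : H →* H) (hc : ∀ x, ι (χ x) = ψ (ι x)) :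
    Splits r χ := by
  have hit : ∀ (n : ℕ) (x : H), ι ((⇑χ)^[n] x) = (⇑ψ)^[n] (ι x) := by
    intro n
    induction n with
    | zero => intro x; rfl
    | succ n ih =>
      intro x; rw [Function.iterate_succ_apply', hc, ih, Function.iterate_succ_apply']
  have hnp : ∀ (n : ℕ) (x : H), ι (npow χ x n) = npow ψ (ι x) n := by
    intro n
    induction n with
    | zero => intro x; simp
    | succ n ih => intro x; rw [npow_succ, map_mul, ih, hit, npow_succ]
  constructor
  · intro y
    apply hι
    rw [hit, hψ.per]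
  · intro y
    apply hι
    rw [hnp, hψ.split, map_one]

end splits

section average
variable {G : Type*} [Group G]

theorem map_prod_range_eq_npow {H : Type*} [CommGroup H] (ι : H →* G)
    (w : ℕ → H) (f : G → G) (x : G) (hw : ∀ j, ι (w j) = f^[j] x) (n : ℕ) :
    ι (∏ j ∈ Finset.range n, w j) = npow f x n := by
  induction n with
  | zero => simp
  | succ n ih => rw [Finset.prod_range_succ, map_mul, ih, hw, npow_succ]

/-- **Averaging lemma**: when `ψ` splits with prime period, a `ψ`-invariant subgroup `S` of order prime to that of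
an abelian normal `ψ`-invariant subgroup `N` centralizes `N`. -/
theorem Splits.centralizes [Finite G] {r : ℕ} (hr : r.Prime) {ψ : G →* G} (hψ : Splits r ψ)
    (N : Subgroup G) [hNn : N.Normal] (hNab : ∀ a ∈ N, ∀ b ∈ N, a * b = b * a)
    (hNψ : ∀ x ∈ N, ψ x ∈ N) (S : Subgroup G) (hSψ : ∀ x ∈ S, ψ x ∈ S)
    (hcop : (Nat.card S).Coprime (Nat.card N)) :
    ∀ v ∈ N, ∀ s ∈ S, s * v = v * s := by
  classical
  letI : CommGroup ↥N :=
    { (inferInstance : Group ↥N) with
      mul_comm := fun a b => Subtype.ext (hNab a a.2 b b.2) }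
  haveI : Fintype ↥S := Fintype.ofFinite _
  obtain ⟨ι, hι⟩ : ∃ ι : ↥N →* G, ∀ w : ↥N, ι w = (w : G) :=
    ⟨{ toFun := Subtype.val, map_one' := rfl, map_mul' := fun _ _ => rfl }, fun w => rfl⟩
  have hιinj : Function.Injective ι := by
    intro a b hab
    rw [hι, hι] at hab
    exact Subtype.ext hab
  obtain ⟨cj, hcj⟩ : ∃ cj : G → (↥N →* ↥N), ∀ (y : G) (w : ↥N), ι (cj y w) = y * ι w * y⁻¹ :=
    ⟨fun y => { toFun := fun w => ⟨y * w * y⁻¹, hNn.conj_mem w w.2 y⟩
                map_one' := by apply Subtype.ext; simp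
                map_mul' := fun a b => by apply Subtype.ext; simp },
      fun y w => by rw [hι, hι]; rfl⟩
  obtain ⟨ψN, hψN⟩ : ∃ ψN : ↥N →* ↥N, ∀ w : ↥N, ι (ψN w) = ψ (ι w) :=
    ⟨{ toFun := fun w => ⟨ψ w, hNψ w w.2⟩
       map_one' := by apply Subtype.ext; simp
       map_mul' := fun a b => by apply Subtype.ext; simp }, fun w => by rw [hι, hι]; rfl⟩
  have hψNit : ∀ (j : ℕ) (w : ↥N), ι ((⇑ψN)^[j] w) = (⇑ψ)^[j] (ι w) := by
    intro j
    induction j with
    | zero => intro w; rfl
    | succ j ih => intro w; rw [Function.iterate_succ_apply', hψN, ih, Function.iterate_succ_apply']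
  obtain ⟨τ, hτ⟩ : ∃ τ : ↥N →* ↥N, ∀ w : ↥N, τ w = ∏ h : ↥S, cj (h : G) w :=
    ⟨∏ h : ↥S, cj (h : G), fun w => MonoidHom.finsetProd_apply _ _ _⟩
  -- `τ w` is fixed by `S`
  have hτfix : ∀ s ∈ S, ∀ w : ↥N, cj s (τ w) = τ w := by
    intro s hs w
    rw [hτ, map_prod]
    have e : ∀ h : ↥S, cj s (cj (h : G) w) = cj (((⟨s, hs⟩ * h : ↥S)) : G) w := by
      intro h
      apply hιinj
      rw [hcj, hcj, hcj]
      simp [mul_assoc]
    rw [Finset.prod_congr rfl (fun h _ => e h)]
    exact Equiv.prod_comp (Equiv.mulLeft (⟨s, hs⟩ : ↥S)) (fun h : ↥S => cj (h : G) w)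
  -- reindexing
  have hreidx : ∀ j : ℕ, Nat.Coprime j r → ∀ w : ↥N,
      ∏ h : ↥S, cj (npow ψ (h : G) j) w = τ w := by
    intro j hj w
    rw [hτ]
    let β : ↥S → ↥S := fun h => ⟨npow ψ (h : G) j, npow_mem ψ S hSψ h.2 j⟩
    have hβi : Function.Injective β := by
      intro h₁ h₂ h12
      apply Subtype.ext
      exact hψ.npow_injective hr.one_lt hj (congrArg Subtype.val h12)
    have hβb : Function.Bijective β := Finite.injective_iff_bijective.mp hβi
    exact hβb.prod_comp (fun h : ↥S => cj (h : G) w)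
  intro v hv s hs
  obtain ⟨v, rfl⟩ : ∃ v' : ↥N, ι v' = v := ⟨⟨v, hv⟩, hι _⟩
  obtain ⟨r', rfl⟩ : ∃ r', r = r' + 1 := ⟨r - 1, by have := hr.pos; omega⟩
  -- the double product
  have hF1 : ∀ h : ↥S, ∏ j ∈ Finset.range (r' + 1), cj (npow ψ (h : G) j) ((⇑ψN)^[j] v) = 1 := by
    intro h
    apply hιinj
    rw [map_prod_range_eq_npow ι _ (⇑((MulAut.conj (h : G)).toMonoidHom.comp ψ)) (ι v),
      (hψ.conj (h : G)).split, map_one]
    intro j
    rw [hcj, hψNit, iterate_conj_comp]
  have hF3 : ∏ j ∈ Finset.range (r' + 1), τ ((⇑ψN)^[j] v) = 1 := by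
    rw [← map_prod]
    have h1 : ∏ j ∈ Finset.range (r' + 1), (⇑ψN)^[j] v = 1 := by
      apply hιinj
      rw [map_prod_range_eq_npow ι _ (⇑ψ) (ι v) (fun j => hψNit j v), hψ.split, map_one]
    rw [h1, map_one]
  have hcomb : (1 : ↥N) = (∏ i ∈ Finset.range r', τ ((⇑ψN)^[i + 1] v)) * v ^ Nat.card ↥S := by
    have h1 : ∏ h : ↥S, ∏ j ∈ Finset.range (r' + 1), cj (npow ψ (h : G) j) ((⇑ψN)^[j] v) = 1 :=
      Finset.prod_eq_one (fun h _ => hF1 h)
    rw [Finset.prod_comm, Finset.prod_range_succ'] at h1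
    rw [← h1]
    congr 1
    · apply Finset.prod_congr rfl
      intro i hi
      rw [Finset.mem_range] at hi
      apply hreidx
      exact (Nat.coprime_of_lt_prime (by omega) (by omega) hr).symm
    · have h2 : ∀ h : ↥S, cj (npow ψ (h : G) 0) ((⇑ψN)^[0] v) = v := by
        intro h
        apply hιinj
        rw [hcj]
        simp
      rw [Finset.prod_congr rfl (fun h _ => h2 h), Finset.prod_const, Finset.card_univ,
        Nat.card_eq_fintype_card]
  have hpow : v ^ Nat.card ↥S = τ v := by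
    rw [Finset.prod_range_succ'] at hF3
    have h3 : (∏ i ∈ Finset.range r', τ ((⇑ψN)^[i + 1] v)) * v ^ Nat.card ↥S =
        (∏ i ∈ Finset.range r', τ ((⇑ψN)^[i + 1] v)) * τ ((⇑ψN)^[0] v) := by
      rw [← hcomb, hF3]
    exact mul_left_cancel h3
  have hfix : cj s v ^ Nat.card ↥S = v ^ Nat.card ↥S := by
    rw [← map_pow, hpow, hτfix s hs]
  have hd : (cj s v * v⁻¹) ^ Nat.card ↥S = 1 := by
    rw [mul_pow, hfix, inv_pow, mul_inv_cancel]
  have hd2 : (cj s v * v⁻¹) ^ Nat.card ↥N = 1 := pow_card_eq_one'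
  have hd3 : orderOf (cj s v * v⁻¹) = 1 :=
    Nat.eq_one_of_dvd_coprimes hcop (orderOf_dvd_of_pow_eq_one hd) (orderOf_dvd_of_pow_eq_one hd2)
  have hd4 : cj s v * v⁻¹ = 1 := orderOf_eq_one_iff.mp hd3
  have hd5 : cj s v = v := mul_inv_eq_one.mp hd4
  have hd6 := congrArg ι hd5
  rw [hcj] at hd6
  calc s * ι v = s * ι v * s⁻¹ * s := by group
    _ = ι v * s := by rw [hd6]

end average

section aux
variable {G : Type*} [Group G] [Finite G]

/-- a finite nilpotent group has a normal `p`-complement -/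
theorem hasNormalPComplement_of_isNilpotent [Group.IsNilpotent G] (p : ℕ) [Fact p.Prime] :
    Cfsg.HasNormalPComplement p G := by
  have P : Sylow p G := default
  apply Cfsg.Agent.Lib.Lead.NormalPComplement.hasNormalPComplement_of_p'_centralize P
  intro Q hQ g _ hg
  rw [Subgroup.mem_centralizer_iff]
  intro x hx
  have hxp : ∃ k, orderOf x = p ^ k := by
    obtain ⟨k, hk⟩ := (P.isPGroup'.to_le hQ) ⟨x, hx⟩
    have h1 : x ^ p ^ k = 1 := by
      have := congrArg Subtype.val hk
      simpa using this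
    obtain ⟨j, -, hj⟩ := (Nat.dvd_prime_pow Fact.out).mp (orderOf_dvd_of_pow_eq_one h1)
    exact ⟨j, hj⟩
  obtain ⟨k, hk⟩ := hxp
  apply Cfsg.Agent.Lib.Helper4.Nilpotent.commute_of_coprime_orderOf
  rw [hk]
  exact (Nat.Coprime.pow_right k hg).symm

theorem map_eq_of_forall_mem (φ : G →* G) (hφ : Function.Injective φ) (N : Subgroup G)
    (hN : ∀ x ∈ N, φ x ∈ N) : N.map φ = N := by
  apply Subgroup.eq_of_le_of_card_ge
  · rintro _ ⟨x, hx, rfl⟩; exact hN x hx
  · rw [Subgroup.card_map_of_injective hφ]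

/-- twisting by an inner automorphism, a splitting endomorphism can be made to fix a given Sylow subgroup -/
theorem Splits.exists_conj_sylow {r : ℕ} (hr : 0 < r) {φ : G →* G} (hφ : Splits r φ) {s : ℕ}
    [Fact s.Prime] (S : Sylow s G) :
    ∃ g : G, ∀ x ∈ (S : Subgroup G), g * φ x * g⁻¹ ∈ (S : Subgroup G) := by
  have hinj := hφ.injective hr
  have hsurj : Function.Surjective φ := Finite.surjective_of_injective hinj
  obtain ⟨g, hg⟩ := MulAction.exists_smul_eq G (S.mapSurjective hsurj) S
  refine ⟨g, fun x hx => ?_⟩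
  have h1 : φ x ∈ ((S.mapSurjective hsurj : Sylow s G) : Subgroup G) := by
    rw [Sylow.coe_mapSurjective]; exact Subgroup.mem_map_of_mem φ hx
  have h2 : g * φ x * g⁻¹ ∈ ((g • (S.mapSurjective hsurj) : Sylow s G) : Subgroup G) := by
    rw [Sylow.coe_subgroup_smul, Cfsg.Agent.H2.mem_conj_smul_iff]
    have e : g⁻¹ * (g * φ x * g⁻¹) * g = φ x := by group
    rw [e]; exact h1
  rw [hg] at h2
  exact h2

end aux

section main
universe u

open Cfsg.Agent.Lib.Helper4.GT Cfsg.Agent.Lib.Helper4.GTZJ Cfsg.Agent.Lib.Lead.Conj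

/-- **Kegel–Thompson**: a finite group with a splitting endomorphism of prime period is nilpotent -/
theorem splits_isNilpotent_aux {r : ℕ} (hr : r.Prime) :
    ∀ n : ℕ, ∀ (G : Type u) [Group G] [Finite G], Nat.card G = n →
      ∀ φ : G →* G, Splits r φ → Group.IsNilpotent G := by
  intro n
  induction n using Nat.strong_induction_on with
  | _ n ih =>
  intro G _ _ hn φ hφ
  by_cases htriv : Subsingleton G
  · exact inferInstance
  rw [not_subsingleton_iff_nontrivial] at htriv
  have hinj := hφ.injective hr.pos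
  have ihsub : ∀ (L : Subgroup G) (ψ : G →* G), Splits r ψ → (∀ x ∈ L, ψ x ∈ L) → L ≠ ⊤ →
      Group.IsNilpotent ↥L := by
    intro L ψ hψ hL hLt
    have hlt : Nat.card ↥L < n := by rw [← hn]; exact card_subgroup_lt L hLt
    exact ih _ hlt ↥L rfl ((ψ.comp L.subtype).codRestrict L (fun x => hL x x.2))
      (hψ.of_injective L.subtype L.subtype_injective _ (fun x => rfl))
  have ihquot : ∀ (N : Subgroup G) [N.Normal], (∀ x ∈ N, φ x ∈ N) → N ≠ ⊥ →
      Group.IsNilpotent (G ⧸ N) := by
    intro N _ hN hNb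
    have hlt : Nat.card (G ⧸ N) < n := by rw [← hn]; exact card_quotient_lt N hNb
    exact ih _ hlt (G ⧸ N) rfl (QuotientGroup.map N N φ (fun x hx => hN x hx))
      (hφ.of_surjective (QuotientGroup.mk' N) (QuotientGroup.mk'_surjective N) _ (fun x => rfl))
  -- a minimal nontrivial invariant normal subgroup
  haveI : Nonempty {N : Subgroup G // N.Normal ∧ (∀ x ∈ N, φ x ∈ N) ∧ N ≠ ⊥} :=
    ⟨⟨⊤, inferInstance, fun x _ => Subgroup.mem_top _, top_ne_bot⟩⟩
  obtain ⟨⟨N, hNn, hNφ, hNb⟩, hmin⟩ := Finite.exists_min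
    (fun N : {N : Subgroup G // N.Normal ∧ (∀ x ∈ N, φ x ∈ N) ∧ N ≠ ⊥} => Nat.card ↥N.1)
  haveI := hNn
  have hminN : ∀ K : Subgroup G, K.Normal → (∀ x ∈ K, φ x ∈ K) → K ≠ ⊥ → K ≤ N → K = N := by
    intro K hK1 hK2 hK3 hKN
    exact Subgroup.eq_of_le_of_card_ge hKN (hmin ⟨K, hK1, hK2, hK3⟩)
  by_cases hNt : N = ⊤
  · -- the `φ`-simple case
    have hsimple : ∀ K : Subgroup G, K.Normal → (∀ x ∈ K, φ x ∈ K) → K = ⊥ ∨ K = ⊤ := by
      intro K hK1 hK2
      by_cases hKb : K = ⊥
      · exact Or.inl hKb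
      · right
        rw [← hNt]
        exact hminN K hK1 hK2 hKb (by rw [hNt]; exact le_top)
    by_cases hodd : ∃ q : ℕ, q.Prime ∧ q ≠ 2 ∧ q ∣ Nat.card G
    · obtain ⟨q, hq, hq2, hqd⟩ := hodd
      haveI : Fact q.Prime := ⟨hq⟩
      have Q : Sylow q G := default
      have hQne : (Q : Subgroup G) ≠ ⊥ := Q.ne_bot_of_dvd_card hqd
      obtain ⟨g, hg⟩ := hφ.exists_conj_sylow hr.pos Q
      obtain ⟨ψ, hψdef⟩ : ∃ ψ : G →* G, ψ = (MulAut.conj g).toMonoidHom.comp φ := ⟨_, rfl⟩
      have hψ : Splits r ψ := by rw [hψdef]; exact hφ.conj g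
      have hψapp : ∀ x, ψ x = g * φ x * g⁻¹ := by intro x; rw [hψdef]; rfl
      have hψQ : ∀ x ∈ (Q : Subgroup G), ψ x ∈ (Q : Subgroup G) := by
        intro x hx; rw [hψapp]; exact hg x hx
      have hψinj := hψ.injective hr.pos
      have hQmap : (Q : Subgroup G).map ψ = Q := map_eq_of_forall_mem ψ hψinj _ hψQ
      obtain ⟨W, hWdef⟩ : ∃ W : Subgroup G, W = Cfsg.centerThompsonAOf (Q : Subgroup G) := ⟨_, rfl⟩
      have hWeq : W = WAb G (Q : Subgroup G) := by
        rw [hWdef]; exact Cfsg.Agent.S0653.center_eq_zj _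
      have hWmap : W.map ψ = W := by
        have h1 := (pFunctor_WAb (p := q) hq2).map G G ψ (Q : Subgroup G)
          (fun x _ hx => hψinj (hx.trans (map_one ψ).symm))
        rw [hQmap] at h1
        rw [hWeq]; exact h1.symm
      have hWle : W ≤ (Q : Subgroup G) := by
        rw [hWeq]; exact (pFunctor_WAb (p := q) hq2).le G _
      have hWne : W ≠ ⊥ := by
        rw [hWeq]; exact (pFunctor_WAb (p := q) hq2).ne_bot G _ Q.isPGroup' hQne
      have hMψ : ∀ x ∈ Subgroup.normalizer (W : Set G), ψ x ∈ Subgroup.normalizer (W : Set G) := by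
        intro x hx
        apply mem_normalizer_of_conj_mem
        intro w hw
        rw [← hWmap] at hw
        obtain ⟨w', hw', rfl⟩ := hw
        have h1 : x * w' * x⁻¹ ∈ W := (Subgroup.mem_normalizer_iff.mp hx w').mp hw'
        have h2 : ψ (x * w' * x⁻¹) ∈ W.map ψ := Subgroup.mem_map_of_mem ψ h1
        rw [hWmap] at h2
        rw [map_mul, map_mul, map_inv] at h2
        exact h2
      by_cases hM : Subgroup.normalizer (W : Set G) = ⊤
      · haveI hWn : W.Normal := Subgroup.normalizer_eq_top_iff.mp hM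
        have hWφ : ∀ x ∈ W, φ x ∈ W := by
          intro x hx
          have h1 : ψ x ∈ W := by
            rw [← hWmap]; exact Subgroup.mem_map_of_mem ψ hx
          have h2 := hWn.conj_mem _ h1 g⁻¹
          rw [hψapp] at h2
          have e : g⁻¹ * (g * φ x * g⁻¹) * g⁻¹⁻¹ = φ x := by group
          rw [e] at h2; exact h2
        have hWtop : W = ⊤ := (hsimple W hWn hWφ).resolve_left hWne
        have hQtop : (Q : Subgroup G) = ⊤ := top_le_iff.mp (hWtop ▸ hWle)
        have hGp : IsPGroup q G := by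
          intro x
          obtain ⟨k, hk⟩ := Q.isPGroup' ⟨x, by rw [hQtop]; exact Subgroup.mem_top x⟩
          exact ⟨k, by simpa using congrArg Subtype.val hk⟩
        exact hGp.isNilpotent
      · haveI := ihsub _ ψ hψ hMψ hM
        have h1 := hasNormalPComplement_of_isNilpotent
          (G := ↥(Subgroup.normalizer (W : Set G))) q
        rw [hWdef] at h1
        have h2 := Cfsg.Agent.S0659.result hq2 Q h1
        rw [Cfsg.Agent.Lib.Lead.NormalPComplement.hasNormalPComplement_iff] at h2
        obtain ⟨K, hKn, hKc, k, hKi⟩ := h2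
        haveI := hKn
        have hKφ : ∀ x ∈ K, φ x ∈ K := by
          intro x hx
          have h3 : (φ x) ^ Nat.card ↥K = 1 := by
            rw [← map_pow]
            have h4 : (⟨x, hx⟩ : ↥K) ^ Nat.card ↥K = 1 := pow_card_eq_one'
            have h5 : x ^ Nat.card ↥K = 1 := by
              have h4' := congrArg Subtype.val h4
              rw [Subgroup.coe_pow] at h4'
              exact h4'
            rw [h5, map_one]
          have h6 : (QuotientGroup.mk (φ x) : G ⧸ K) ^ Nat.card ↥K = 1 := by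
            rw [← QuotientGroup.mk_pow, h3]; rfl
          have h7 : (QuotientGroup.mk (φ x) : G ⧸ K) ^ Nat.card (G ⧸ K) = 1 := pow_card_eq_one'
          have h8 : Nat.card (G ⧸ K) = q ^ k := by rw [← Subgroup.index_eq_card, hKi]
          have h9 : orderOf (QuotientGroup.mk (φ x) : G ⧸ K) = 1 := by
            apply Nat.eq_one_of_dvd_coprimes (Nat.Coprime.pow_right k hKc)
              (orderOf_dvd_of_pow_eq_one h6)
            rw [← h8]; exact orderOf_dvd_of_pow_eq_one h7
          rw [orderOf_eq_one_iff, QuotientGroup.eq_one_iff] at h9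
          exact h9
        rcases hsimple K hKn hKφ with hKb | hKt
        · have hcard : Nat.card G = q ^ k := by
            rw [← hKi, hKb, Subgroup.index_bot]
          exact (IsPGroup.of_card hcard).isNilpotent
        · exfalso
          rw [hKt, Subgroup.card_top] at hKc
          exact (Nat.Prime.coprime_iff_not_dvd hq).mp hKc.symm hqd
    · -- `G` is a `2`-group
      haveI : Fact (2 : ℕ).Prime := ⟨Nat.prime_two⟩
      have hcard : Nat.card G = 2 ^ (Nat.card G).primeFactorsList.length := by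
        apply Nat.eq_prime_pow_of_unique_prime_dvd Nat.card_pos.ne'
        intro d hd hdd
        by_contra hd2
        exact hodd ⟨d, hd, hd2, hdd⟩
      exact (IsPGroup.of_card hcard).isNilpotent
  · -- `N` is proper
    haveI hNnil : Group.IsNilpotent ↥N := ihsub N φ hφ hNφ hNt
    have hNmap : N.map φ = N := map_eq_of_forall_mem φ hinj N hNφ
    -- `N` is abelian
    have hNab : ∀ a ∈ N, ∀ b ∈ N, a * b = b * a := by
      obtain ⟨Z, hZdef⟩ : ∃ Z : Subgroup G, Z = N ⊓ Subgroup.centralizer (N : Set G) := ⟨_, rfl⟩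
      have hZn : Z.Normal := by
        constructor
        intro x hx y
        rw [hZdef] at hx ⊢
        rw [Subgroup.mem_inf] at hx ⊢
        refine ⟨hNn.conj_mem x hx.1 y, ?_⟩
        rw [Subgroup.mem_centralizer_iff]
        intro m hm
        have h1 : y⁻¹ * m * y⁻¹⁻¹ ∈ N := hNn.conj_mem m hm y⁻¹
        have h2 := Subgroup.mem_centralizer_iff.mp hx.2 _ h1
        calc m * (y * x * y⁻¹) = y * ((y⁻¹ * m * y⁻¹⁻¹) * x) * y⁻¹ := by group
          _ = y * (x * (y⁻¹ * m * y⁻¹⁻¹)) * y⁻¹ := by rw [h2]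
          _ = y * x * y⁻¹ * m := by group
      have hZφ : ∀ x ∈ Z, φ x ∈ Z := by
        intro x hx
        rw [hZdef] at hx ⊢
        rw [Subgroup.mem_inf] at hx ⊢
        refine ⟨hNφ x hx.1, ?_⟩
        rw [Subgroup.mem_centralizer_iff]
        intro m hm
        rw [← hNmap] at hm
        obtain ⟨m', hm', rfl⟩ := hm
        rw [← map_mul, ← map_mul, Subgroup.mem_centralizer_iff.mp hx.2 m' hm']
      have hZne : Z ≠ ⊥ := by
        haveI : Nontrivial ↥N := (Subgroup.nontrivial_iff_ne_bot N).mpr hNb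
        have h1 := Group.IsNilpotent.center_ne_bot (G := ↥N)
        obtain ⟨⟨z, hzc⟩, hz1⟩ := (Subgroup.ne_bot_iff_exists_ne_one).mp h1
        intro hbot
        apply hz1
        have hzZ : (z : G) ∈ Z := by
          rw [hZdef, Subgroup.mem_inf]
          refine ⟨z.2, ?_⟩
          rw [Subgroup.mem_centralizer_iff]
          intro m hm
          have := Subgroup.mem_center_iff.mp hzc ⟨m, hm⟩
          exact congrArg Subtype.val this
        rw [hbot, Subgroup.mem_bot] at hzZ
        apply Subtype.ext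
        apply Subtype.ext
        exact hzZ
      have hZN := hminN Z hZn hZφ hZne (by rw [hZdef]; exact inf_le_left)
      intro a ha b hb
      rw [← hZN, hZdef, Subgroup.mem_inf] at ha
      exact (Subgroup.mem_centralizer_iff.mp ha.2 b hb).symm
    -- `N` is a `q`-group
    obtain ⟨q, hq, hqd⟩ : ∃ q, q.Prime ∧ q ∣ Nat.card ↥N := by
      apply Nat.exists_prime_and_dvd
      intro h1
      exact hNb (Subgroup.card_eq_one.mp h1)
    haveI : Fact q.Prime := ⟨hq⟩
    have hNq : ∀ x ∈ N, x ^ q = 1 := by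
      let Nq : Subgroup G :=
        { carrier := {x | x ∈ N ∧ x ^ q = 1}
          mul_mem' := by
            rintro a b ⟨ha, haq⟩ ⟨hb, hbq⟩
            refine ⟨N.mul_mem ha hb, ?_⟩
            have hc : Commute a b := hNab a ha b hb
            rw [hc.mul_pow, haq, hbq, one_mul]
          one_mem' := ⟨N.one_mem, one_pow q⟩
          inv_mem' := by
            rintro a ⟨ha, haq⟩
            exact ⟨N.inv_mem ha, by rw [inv_pow, haq, inv_one]⟩ }
      have hNqn : Nq.Normal := by
        constructor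
        rintro x ⟨hx, hxq⟩ y
        refine ⟨hNn.conj_mem x hx y, ?_⟩
        rw [conj_pow, hxq, mul_one, mul_inv_cancel]
      have hNqφ : ∀ x ∈ Nq, φ x ∈ Nq := by
        rintro x ⟨hx, hxq⟩
        exact ⟨hNφ x hx, by rw [← map_pow, hxq, map_one]⟩
      have hNqne : Nq ≠ ⊥ := by
        obtain ⟨z, hz⟩ := exists_prime_orderOf_dvd_card' q hqd
        intro hbot
        have hzq : (z : G) ∈ Nq := by
          refine ⟨z.2, ?_⟩
          have h1 : z ^ q = 1 := by rw [← hz]; exact pow_orderOf_eq_one z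
          have h2 := congrArg Subtype.val h1
          rw [Subgroup.coe_pow] at h2
          exact h2
        rw [hbot, Subgroup.mem_bot] at hzq
        have hz1 : z = 1 := Subtype.ext hzq
        rw [hz1, orderOf_one] at hz
        exact hq.one_lt.ne hz
      have hNqN := hminN Nq hNqn hNqφ hNqne (fun x hx => hx.1)
      intro x hx
      rw [← hNqN] at hx
      exact hx.2
    have hNp : IsPGroup q ↥N := by
      intro x
      refine ⟨1, ?_⟩
      apply Subtype.ext
      rw [pow_one, Subgroup.coe_pow]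
      exact hNq x x.2
    haveI hQnil : Group.IsNilpotent (G ⧸ N) := ihquot N hNφ hNb
    have hsyl : ∀ (s : ℕ) (_hs : Fact s.Prime) (S : Sylow s G), (S : Subgroup G).Normal := by
      intro s _ S
      have hs := QuotientGroup.mk'_surjective N
      haveI hSbn : ((S.mapSurjective hs : Sylow s (G ⧸ N)) : Subgroup (G ⧸ N)).Normal :=
        inferInstance
      have hdec : ∀ x ∈ (S : Subgroup G), ∀ g : G, ∃ t ∈ (S : Subgroup G), ∃ m ∈ N,
          g * x * g⁻¹ = t * m := by
        intro x hx g
        have h1 : QuotientGroup.mk' N x ∈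
            ((S.mapSurjective hs : Sylow s (G ⧸ N)) : Subgroup (G ⧸ N)) := by
          rw [Sylow.coe_mapSurjective]; exact Subgroup.mem_map_of_mem _ hx
        have h2 := hSbn.conj_mem _ h1 (QuotientGroup.mk' N g)
        rw [Sylow.coe_mapSurjective] at h2
        obtain ⟨t, ht, hte⟩ := h2
        refine ⟨t, ht, t⁻¹ * (g * x * g⁻¹), ?_, by group⟩
        have h3 : QuotientGroup.mk' N t = QuotientGroup.mk' N (g * x * g⁻¹) := by
          rw [hte, map_mul, map_mul, map_inv]
        exact QuotientGroup.eq.mp h3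
      have hpowS : ∀ x ∈ (S : Subgroup G), x ^ Nat.card ↥(S : Subgroup G) = 1 := by
        intro x hx
        have h4 : (⟨x, hx⟩ : ↥(S : Subgroup G)) ^ Nat.card ↥(S : Subgroup G) = 1 := pow_card_eq_one'
        have h4' := congrArg Subtype.val h4
        rw [Subgroup.coe_pow] at h4'
        exact h4'
      by_cases hsq : s = q
      · subst hsq
        have hNS : N ≤ (S : Subgroup G) := hNp.le_sylow_of_normal S
        constructor
        intro x hx g
        obtain ⟨t, ht, m, hm, he⟩ := hdec x hx g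
        rw [he]; exact Subgroup.mul_mem _ ht (hNS hm)
      · obtain ⟨g₀, hg₀⟩ := hφ.exists_conj_sylow hr.pos S
        obtain ⟨ψ, hψdef⟩ : ∃ ψ : G →* G, ψ = (MulAut.conj g₀).toMonoidHom.comp φ := ⟨_, rfl⟩
        have hψ : Splits r ψ := by rw [hψdef]; exact hφ.conj g₀
        have hψapp : ∀ x, ψ x = g₀ * φ x * g₀⁻¹ := by intro x; rw [hψdef]; rfl
        have hψS : ∀ x ∈ (S : Subgroup G), ψ x ∈ (S : Subgroup G) := by
          intro x hx; rw [hψapp]; exact hg₀ x hx
        have hψN : ∀ x ∈ N, ψ x ∈ N := by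
          intro x hx; rw [hψapp]; exact hNn.conj_mem _ (hNφ x hx) g₀
        have hcop : (Nat.card ↥(S : Subgroup G)).Coprime (Nat.card ↥N) := by
          obtain ⟨a, ha⟩ := IsPGroup.iff_card.mp S.isPGroup'
          obtain ⟨b, hb⟩ := IsPGroup.iff_card.mp hNp
          rw [ha, hb]
          exact Nat.Coprime.pow _ _ ((Nat.coprime_primes Fact.out hq).mpr hsq)
        have hcent := hψ.centralizes hr N hNab hψN (S : Subgroup G) hψS hcop
        constructor
        intro x hx g
        obtain ⟨t, ht, m, hm, he⟩ := hdec x hx g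
        have h1 : (g * x * g⁻¹) ^ Nat.card ↥(S : Subgroup G) = 1 := by
          rw [conj_pow, hpowS x hx, mul_one, mul_inv_cancel]
        have hcomm : Commute t m := hcent m hm t ht
        rw [he, hcomm.mul_pow, hpowS t ht, one_mul] at h1
        have hm2 : m ^ Nat.card ↥N = 1 := by
          have h4 : (⟨m, hm⟩ : ↥N) ^ Nat.card ↥N = 1 := pow_card_eq_one'
          have h4' := congrArg Subtype.val h4
          rw [Subgroup.coe_pow] at h4'
          exact h4'
        have hm3 : orderOf m = 1 :=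
          Nat.eq_one_of_dvd_coprimes hcop (orderOf_dvd_of_pow_eq_one h1)
            (orderOf_dvd_of_pow_eq_one hm2)
        have hm1 : m = 1 := orderOf_eq_one_iff.mp hm3
        rw [he, hm1, mul_one]; exact ht
    exact (Group.isNilpotent_of_finite_tfae.out 0 3 rfl rfl).mpr hsyl

theorem splits_isNilpotent {r : ℕ} (hr : r.Prime) {G : Type u} [Group G] [Finite G] (φ : G →* G)
    (hφ : Splits r φ) : Group.IsNilpotent G :=
  splits_isNilpotent_aux hr (Nat.card G) G rfl φ hφ

theorem mulAut_pow_apply {X : Type*} [Group X] (α : MulAut X) (i : ℕ) (x : X) :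
    (α ^ i) x = (⇑(α.toMonoidHom))^[i] x := by
  induction i generalizing x with
  | zero => rfl
  | succ i ih =>
    rw [pow_succ, MulAut.mul_apply, ih, Function.iterate_succ_apply]
    rfl

/-- an automorphism of prime order `r` with `x * α x * ... * α^(r-1) x = 1` for all `x` -/
theorem splits_of_mulAut {X : Type*} [Group X] (α : MulAut X) {r : ℕ} (hr : α ^ r = 1)
    (hsplit : ∀ x : X, ((List.range r).map (fun i : ℕ => (α ^ i) x)).prod = 1) :
    Splits r α.toMonoidHom := by
  constructor
  · intro x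
    rw [← mulAut_pow_apply, hr]; rfl
  · intro x
    rw [npow_eq_list_prod, ← hsplit x]
    congr 1
    apply List.map_congr_left
    intro i _
    rw [mulAut_pow_apply]

theorem splits_of_fixedPointFree {X : Type*} [Group X] [Finite X] (α : MulAut X) {r : ℕ}
    (hr : α ^ r = 1) (hfpf : ∀ x : X, α x = x → x = 1) : Splits r α.toMonoidHom := by
  have hper : ∀ x, (⇑(α.toMonoidHom))^[r] x = x := by
    intro x
    rw [← mulAut_pow_apply, hr]; rfl
  constructor
  · exact hper
  · intro x
    rw [npow_eq_list_prod]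
    have h1 : MonoidHom.FixedPointFree (α.toMonoidHom) := fun g hg => hfpf g hg
    exact h1.prod_pow_eq_one (funext hper) x

end main

end Cfsg.Agent.H1
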