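import Mathlib
import Cfsg.Prelude.Def_Transfer
import Cfsg.Agent.H1.Basic

/-! Basic facts on `O^p(G)` (helper1). -/

namespace Cfsg.Agent.H1

variable {G : Type*} [Group G]

lemma mem_pResidual_of_coprime {p : ℕ} {g : G} (h : Nat.Coprime (orderOf g) p) :
    g ∈ Cfsg.pResidual p G :=
  Subgroup.subset_closure h

instance pResidual_normal (p : ℕ) : (Cfsg.pResidual p G).Normal := by
  constructor
  intro n hn g
  unfold Cfsg.pResidual at hn ⊢
  induction hn using Subgroup.closure_induction with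
  | mem x hx =>
    apply Subgroup.subset_closure
    show Nat.Coprime (orderOf (g * x * g⁻¹)) p
    have : g * x * g⁻¹ = MulAut.conj g x := rfl
    rw [this, MulEquiv.orderOf_eq]
    exact hx
  | one => simp
  | mul x y _ _ hx hy =>
    have : g * (x * y) * g⁻¹ = (g * x * g⁻¹) * (g * y * g⁻¹) := by group
    rw [this]; exact mul_mem hx hy
  | inv x _ hx =>
    have : g * x⁻¹ * g⁻¹ = (g * x * g⁻¹)⁻¹ := by group
    rw [this]; exact inv_mem hx

/-- if `G/N` is a `p`-group then `O^p(G) ≤ N` -/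
lemma pResidual_le_of_isPGroup_quotient {p : ℕ} (N : Subgroup G) [N.Normal]
    (h : IsPGroup p (G ⧸ N)) : Cfsg.pResidual p G ≤ N := by
  unfold Cfsg.pResidual
  rw [Subgroup.closure_le]
  intro g hg
  have hg' : Nat.Coprime (orderOf g) p := hg
  obtain ⟨k, hk⟩ := h (QuotientGroup.mk' N g)
  have h1 : (QuotientGroup.mk' N g) ^ (orderOf g) = 1 := by
    rw [← map_pow, pow_orderOf_eq_one, map_one]
  have h2 : orderOf (QuotientGroup.mk' N g) ∣ Nat.gcd (orderOf g) (p ^ k) :=
    Nat.dvd_gcd (orderOf_dvd_of_pow_eq_one h1) (orderOf_dvd_of_pow_eq_one hk)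
  rw [Nat.Coprime.pow_right k hg', Nat.dvd_one, orderOf_eq_one_iff] at h2
  exact (QuotientGroup.eq_one_iff g).mp h2

/-- `G / O^p(G)` is a `p`-group -/
lemma isPGroup_quotient_pResidual [Finite G] (p : ℕ) [Fact p.Prime] :
    IsPGroup p (G ⧸ Cfsg.pResidual p G) := by
  have hp : p.Prime := Fact.out
  intro x
  obtain ⟨g, rfl⟩ := QuotientGroup.mk_surjective x
  -- card G = p^k * m
  obtain ⟨k, m, hm, hkm⟩ := Nat.exists_eq_pow_mul_and_not_dvd (Nat.card_pos (α := G)).ne' p hp.ne_one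
  refine ⟨k, ?_⟩
  rw [← QuotientGroup.mk_pow, QuotientGroup.eq_one_iff]
  apply mem_pResidual_of_coprime
  have h1 : orderOf (g ^ p ^ k) ∣ m := by
    apply orderOf_dvd_of_pow_eq_one
    rw [← pow_mul, ← hkm, pow_card_eq_one']
  have h2 : Nat.Coprime m p := by
    rw [Nat.coprime_comm, hp.coprime_iff_not_dvd]; exact hm
  exact Nat.Coprime.coprime_dvd_left h1 h2

/-- `G = O^p(G) P` for a Sylow `p`-subgroup `P` -/
lemma pResidual_sup_sylow [Finite G] {p : ℕ} [Fact p.Prime] (P : Sylow p G) :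
    Cfsg.pResidual p G ⊔ (P : Subgroup G) = ⊤ := by
  have hp : p.Prime := Fact.out
  rw [← Subgroup.index_eq_one]
  have h1 : (Cfsg.pResidual p G ⊔ (P : Subgroup G)).index ∣ (P : Subgroup G).index :=
    Subgroup.index_dvd_of_le le_sup_right
  have h2 : (Cfsg.pResidual p G ⊔ (P : Subgroup G)).index ∣ (Cfsg.pResidual p G).index :=
    Subgroup.index_dvd_of_le le_sup_left
  obtain ⟨k, hk⟩ := IsPGroup.iff_card.mp (isPGroup_quotient_pResidual (G := G) p)
  have h3 : (Cfsg.pResidual p G).index = p ^ k := hk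
  rw [h3] at h2
  obtain ⟨j, _, hj⟩ := (Nat.dvd_prime_pow hp).mp h2
  rcases Nat.eq_zero_or_pos j with h0 | hpos
  · rw [hj, h0, pow_zero]
  · exfalso
    apply P.not_dvd_index
    apply dvd_trans _ h1
    rw [hj]
    exact dvd_pow_self p hpos.ne'

end Cfsg.Agent.H1
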