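import Mathlib
import Cfsg.Prelude.Def_Solvable
import Cfsg.Agent.S0034
import Cfsg.Agent.S0035
import Cfsg.Agent.S0039
import Cfsg.Agent.S0040
import Cfsg.Agent.S0041
import Cfsg.Agent.S0042
import Cfsg.Agent.S0068
import Cfsg.Agent.H1.Splitting
import Cfsg.Agent.H1.Cores
import Cfsg.Agent.H2.ConjMap

set_option autoImplicit false
set_option linter.style.haveILetI false
set_option linter.unusedVariables false
set_option linter.unusedSectionVars false

open scoped Pointwise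

namespace Cfsg.Agent.H1

section frobpkg

/-- an element whose image has order `n` has a power of order `n` -/
theorem exists_orderOf_eq_of_map {G Q : Type*} [Group G] [Finite G] [Group Q] (f : G →* Q) (g : G) :
    ∃ g' : G, orderOf g' = orderOf (f g) := by
  obtain ⟨m, hm⟩ := orderOf_map_dvd f g
  have hpos : 0 < orderOf g := orderOf_pos g
  have hm0 : m ≠ 0 := by
    rintro rfl
    rw [mul_zero] at hm
    omega
  refine ⟨g ^ m, ?_⟩
  rw [orderOf_pow_of_dvd hm0 ⟨orderOf (f g), by rw [hm, mul_comm]⟩, hm]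
  exact Nat.mul_div_cancel _ (Nat.pos_of_ne_zero hm0)

theorem exists_orderOf_eq_of_cyclic {X : Type*} [Group X] [Finite X] [hX : IsCyclic X] (d : ℕ)
    (hd : d ∣ Nat.card X) : ∃ x : X, orderOf x = d := by
  obtain ⟨g, hg⟩ := hX.exists_generator
  have hog : orderOf g = Nat.card X := orderOf_eq_card_of_forall_mem_zpowers hg
  obtain ⟨m, hm⟩ := hd
  have hm0 : m ≠ 0 := by
    rintro rfl
    rw [mul_zero] at hm
    exact Nat.card_pos.ne' hm
  refine ⟨g ^ m, ?_⟩
  rw [orderOf_pow_of_dvd hm0 ⟨d, by rw [hog, hm, mul_comm]⟩, hog, hm]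
  exact Nat.mul_div_cancel _ (Nat.pos_of_ne_zero hm0)

/-- in a finite nilpotent group elements of prime-power orders for different primes commute -/
theorem commute_of_nilpotent_of_prime_pow {X : Type*} [Group X] [Finite X] [Group.IsNilpotent X] {p q : ℕ}
    [Fact p.Prime] [Fact q.Prime] (hpq : p ≠ q) (u v : X) (hu : ∃ a, orderOf u = p ^ a)
    (hv : ∃ b, orderOf v = q ^ b) : Commute u v := by
  obtain ⟨P⟩ : Nonempty (Sylow p X) := inferInstance
  obtain ⟨Q⟩ : Nonempty (Sylow q X) := inferInstance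
  have key : ∀ {r : ℕ} [Fact r.Prime] (R : Sylow r X) (w : X), (∃ a, orderOf w = r ^ a) → w ∈ R := by
    intro r _ R w ⟨a, ha⟩
    have h1 : IsPGroup r ↥(Subgroup.zpowers w) := by
      apply IsPGroup.of_card (n := a)
      rw [Nat.card_zpowers, ha]
    obtain ⟨R', hR'⟩ := h1.exists_le_sylow
    obtain ⟨g, hg⟩ := MulAction.exists_smul_eq X R R'
    rw [Sylow.smul_eq_of_normal] at hg
    rw [hg]
    exact hR' (Subgroup.mem_zpowers w)
  have hdisj : Disjoint (P : Subgroup X) (Q : Subgroup X) :=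
    IsPGroup.disjoint_of_ne p q hpq _ _ P.isPGroup' Q.isPGroup'
  exact Subgroup.commute_of_normal_of_disjoint _ _ inferInstance inferInstance hdisj u v (key P u hu) (key Q v hv)

theorem exists_orderOf_mul_of_nilpotent {X : Type*} [Group X] [Finite X] [Group.IsNilpotent X] {p q : ℕ}
    (hp : p.Prime) (hq : q.Prime) (hpq : p ≠ q) (hpX : p ∣ Nat.card X) (hqX : q ∣ Nat.card X) :
    ∃ x : X, orderOf x = p * q := by
  haveI : Fact p.Prime := ⟨hp⟩
  haveI : Fact q.Prime := ⟨hq⟩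
  obtain ⟨u, hu⟩ := exists_prime_orderOf_dvd_card' p hpX
  obtain ⟨v, hv⟩ := exists_prime_orderOf_dvd_card' q hqX
  have hc := commute_of_nilpotent_of_prime_pow hpq u v ⟨1, by rw [hu, pow_one]⟩ ⟨1, by rw [hv, pow_one]⟩
  refine ⟨u * v, ?_⟩
  rw [hc.orderOf_mul_eq_mul_orderOf_of_coprime (by rw [hu, hv]; exact (Nat.coprime_primes hp hq).mpr hpq), hu, hv]

/-- Thompson: a subgroup normalized by an element of prime order acting without fixed points is nilpotent -/
theorem nilpotent_of_prime_order_fpf {G : Type*} [Group G] [Finite G] (Y : Subgroup G) (x : G)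
    (hx : x ∈ Subgroup.normalizer (Y : Set G)) {q : ℕ} (hq : q.Prime) (hxq : x ^ q = 1)
    (hfpf : ∀ y ∈ Y, x * y = y * x → y = 1) : Group.IsNilpotent ↥Y := by
  obtain ⟨Z, hZ⟩ : ∃ Z : Subgroup G, Z = Subgroup.normalizer (Y : Set G) := ⟨_, rfl⟩
  have hYZ : Y ≤ Z := by rw [hZ]; exact Subgroup.le_normalizer
  haveI hn : (Y.subgroupOf Z).Normal := by
    rw [hZ]; exact Subgroup.normal_in_normalizer
  have hxZ : x ∈ Z := by rw [hZ]; exact hx
  have hα : (MulAut.conjNormal (⟨x, hxZ⟩ : ↥Z) : MulAut ↥(Y.subgroupOf Z)) ^ q = 1 := by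
    rw [← map_pow]
    have : (⟨x, hxZ⟩ : ↥Z) ^ q = 1 := by
      apply Subtype.ext
      rw [Subgroup.coe_pow, Subgroup.coe_one]
      exact hxq
    rw [this, map_one]
  haveI : Group.IsNilpotent ↥(Y.subgroupOf Z) := by
    apply splits_isNilpotent hq _ (splits_of_fixedPointFree
      (MulAut.conjNormal (⟨x, hxZ⟩ : ↥Z) : MulAut ↥(Y.subgroupOf Z)) hα ?_)
    intro n hn
    have h1 := congrArg (fun t : ↥(Y.subgroupOf Z) => ((t : ↥Z) : G)) hn
    simp only [MulAut.conjNormal_apply, Subgroup.coe_mul, Subgroup.coe_inv] at h1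
    have h2 : ((n : ↥Z) : G) = 1 := by
      apply hfpf _ (Subgroup.mem_subgroupOf.mp n.2)
      calc x * ((n : ↥Z) : G) = (x * ((n : ↥Z) : G) * x⁻¹) * x := by group
        _ = ((n : ↥Z) : G) * x := by rw [h1]
    apply Subtype.ext
    apply Subtype.ext
    exact h2
  exact Group.nilpotent_of_surjective (Subgroup.subgroupOfEquivOfLe hYZ).toMonoidHom
    (Subgroup.subgroupOfEquivOfLe hYZ).surjective

/-- the standard facts about a Frobenius group with given kernel subgroup -/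
theorem frob_pkg {X : Type*} [Group X] [Finite X] (C N : Subgroup X) (hC : Cfsg.IsFrobeniusComplement C)
    (hN : Cfsg.frobeniusKernel C = (N : Set X)) :
    N.Normal ∧ N.IsComplement' C ∧ Group.IsNilpotent ↥N ∧ N ≠ ⊥ ∧
      (∀ c ∈ C, c ≠ 1 → N ⊓ Subgroup.centralizer {c} = ⊥) ∧ (Nat.card ↥N).Coprime (Nat.card ↥C) ∧
      (∀ x : X, x ∉ N → ∀ n ∈ N, x * n = n * x → n = 1) := by
  obtain ⟨N₁, hN₁, hN₁n, hcompl⟩ := Cfsg.Agent.S0035.result C hC
  have e1 : N₁ = N := SetLike.coe_injective (hN₁.trans hN)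
  subst e1
  obtain ⟨N₂, hN₂, -, hnil⟩ := Cfsg.Agent.S0042.result C hC
  have e2 : N₂ = N₁ := SetLike.coe_injective (hN₂.trans hN)
  subst e2
  haveI := hN₁n
  have hbot : N₂ ≠ ⊥ := by
    intro h
    rw [h, Subgroup.isComplement'_bot_left] at hcompl
    exact hC.2.1 hcompl
  have hfpf := (Cfsg.Agent.S0039.result N₂ C hcompl hbot hC.1).mp hC
  refine ⟨hN₁n, hcompl, hnil, hbot, hfpf, ?_, ?_⟩
  · obtain ⟨h1, h2⟩ := Cfsg.Agent.S0034.result C hC
    have h3 : Nat.card ↥N₂ = C.index := by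
      rw [← h1, hN]
      rfl
    rw [h3]
    have h4 : C.index ≡ 1 [MOD Nat.card ↥C] := h2
    have := h4.gcd_eq
    rw [Nat.gcd_one_left] at this
    exact this
  · intro x hx n hn hcomm
    have hxk : x ∉ Cfsg.frobeniusKernel C := by rw [hN]; exact hx
    have hx' : ¬ (x = 1 ∨ ∀ g : X, x ∉ MulAut.conj g • C) := hxk
    rw [not_or] at hx'
    obtain ⟨hx1, hx2⟩ := hx'
    push Not at hx2
    obtain ⟨g, hg⟩ := hx2
    rw [Cfsg.Agent.H2.mem_conj_smul_iff] at hg
    have hc1 : g⁻¹ * x * g ≠ 1 := by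
      intro h
      apply hx1
      calc x = g * (g⁻¹ * x * g) * g⁻¹ := by group
        _ = 1 := by rw [h]; group
    have hn' : g⁻¹ * n * g ∈ N₂ := by
      have := hN₁n.conj_mem n hn g⁻¹
      rwa [inv_inv] at this
    have hmem : g⁻¹ * n * g ∈ N₂ ⊓ Subgroup.centralizer {g⁻¹ * x * g} := by
      refine ⟨hn', ?_⟩
      show g⁻¹ * n * g ∈ Subgroup.centralizer {g⁻¹ * x * g}
      rw [Subgroup.mem_centralizer_singleton_iff]
      calc g⁻¹ * n * g * (g⁻¹ * x * g) = g⁻¹ * (n * x) * g := by group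
        _ = g⁻¹ * (x * n) * g := by rw [hcomm]
        _ = g⁻¹ * x * g * (g⁻¹ * n * g) := by group
    rw [hfpf _ hg hc1, Subgroup.mem_bot] at hmem
    calc n = g * (g⁻¹ * n * g) * g⁻¹ := by group
      _ = 1 := by rw [hmem]; group

end frobpkg

end Cfsg.Agent.H1
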