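import Mathlib
import Cfsg.Agent.H1.FrobFixB
import Cfsg.Agent.H1.FrobPkg

namespace Cfsg.Agent.H1.FrobFix

open scoped Pointwise

section Transfer
variable {X : Type*} [Group X] [Finite X]

/-- conjugation action of a subgroup normalizing `H` -/
def conjAct (L H : Subgroup X) (hL : ∀ x ∈ L, ∀ h ∈ H, x * h * x⁻¹ ∈ H) : L →* MulAut H where
  toFun f :=
    { toFun := fun h => ⟨(f : X) * h * (f : X)⁻¹, hL f f.2 h h.2⟩
      invFun := fun h => ⟨(f : X)⁻¹ * h * (f : X), by
        have := hL (f : X)⁻¹ (L.inv_mem f.2) h h.2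
        rwa [inv_inv] at this⟩
      left_inv := fun h => by
        apply Subtype.ext
        show (f : X)⁻¹ * ((f : X) * h * (f : X)⁻¹) * (f : X) = h
        group
      right_inv := fun h => by
        apply Subtype.ext
        show (f : X) * ((f : X)⁻¹ * h * (f : X)) * (f : X)⁻¹ = h
        group
      map_mul' := fun a b => by
        apply Subtype.ext
        show (f : X) * ((a : X) * (b : X)) * (f : X)⁻¹
          = ((f : X) * a * (f : X)⁻¹) * ((f : X) * b * (f : X)⁻¹)
        group }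
  map_one' := by
    ext h
    show ((1 : L) : X) * (h : X) * ((1 : L) : X)⁻¹ = h
    simp
  map_mul' := by
    intro f g
    ext h
    show ((f * g : L) : X) * (h : X) * ((f * g : L) : X)⁻¹
      = (f : X) * ((g : X) * (h : X) * (g : X)⁻¹) * (f : X)⁻¹
    rw [Subgroup.coe_mul]
    group

theorem conjAct_apply (L H : Subgroup X) (hL : ∀ x ∈ L, ∀ h ∈ H, x * h * x⁻¹ ∈ H) (f : L) (h : H) :
    ((conjAct L H hL f h : H) : X) = (f : X) * h * (f : X)⁻¹ := rfl

theorem card_fixS_conjAct (L H : Subgroup X) (hL : ∀ x ∈ L, ∀ h ∈ H, x * h * x⁻¹ ∈ H)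
    (Y : Subgroup X) (hY : Y ≤ L) :
    Nat.card (fixS (conjAct L H hL) (Y.subgroupOf L)) = Nat.card ↥(H ⊓ Subgroup.centralizer (Y : Set X)) := by
  apply Nat.card_congr
  refine ⟨fun h => ⟨(h.1 : X), h.1.2, ?_⟩, fun h => ⟨⟨h.1, h.2.1⟩, ?_⟩, fun _ => rfl, fun _ => rfl⟩
  · show (h.1 : X) ∈ Subgroup.centralizer (Y : Set X)
    rw [Subgroup.mem_centralizer_iff]
    intro y hy
    have h1 := h.2 ⟨y, hY hy⟩ (Subgroup.mem_subgroupOf.2 hy)
    have h2 : y * (h.1 : X) * y⁻¹ = (h.1 : X) := congrArg Subtype.val h1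
    calc y * (h.1 : X) = (y * (h.1 : X) * y⁻¹) * y := by group
      _ = (h.1 : X) * y := by rw [h2]
  · intro y hy
    apply Subtype.ext
    rw [conjAct_apply]
    have h1 := (Subgroup.mem_centralizer_iff.1 h.2.2) (y : X) (Subgroup.mem_subgroupOf.1 hy)
    show (y : X) * h.1 * (y : X)⁻¹ = h.1
    rw [h1]
    group

end Transfer

section Final
variable {X : Type*} [Group X] [Finite X]

theorem frobenius_fix_internal (U E H : Subgroup X) (hU1 : U ≠ ⊥) (hE1 : E ≠ ⊥) (hUE : U ⊓ E = ⊥)
    (hUn : ∀ e ∈ E, ∀ u ∈ U, e * u * e⁻¹ ∈ U)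
    (hfpf : ∀ e ∈ E, e ≠ 1 → ∀ u ∈ U, e * u = u * e → u = 1)
    (hHn : ∀ x ∈ U ⊔ E, ∀ h ∈ H, x * h * x⁻¹ ∈ H)
    (hsolv : Group.IsSolvable H) (hcop : Nat.Coprime (Nat.card H) (Nat.card ↥(U ⊔ E))) :
    Nat.card ↥(H ⊓ Subgroup.centralizer ((U ⊔ E : Subgroup X) : Set X)) ^ Nat.card E * Nat.card H =
      Nat.card ↥(H ⊓ Subgroup.centralizer (E : Set X)) ^ Nat.card E *
        Nat.card ↥(H ⊓ Subgroup.centralizer (U : Set X)) := by
  classical
  set L : Subgroup X := U ⊔ E with hL
  have hUL : U ≤ L := le_sup_left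
  have hEL : E ≤ L := le_sup_right
  set U' : Subgroup L := U.subgroupOf L with hU'
  set E' : Subgroup L := E.subgroupOf L with hE'
  -- U' is normal
  have hEN : E ≤ Subgroup.normalizer (U : Set X) := by
    intro e he
    rw [Subgroup.mem_normalizer_iff]
    intro u
    constructor
    · intro hu
      exact hUn e he u hu
    · intro hu
      have := hUn e⁻¹ (E.inv_mem he) _ hu
      rw [inv_inv] at this
      convert this using 1
      group
  have hLN : L ≤ Subgroup.normalizer (U : Set X) := sup_le Subgroup.le_normalizer hEN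
  haveI hU'n : U'.Normal := by
    refine ⟨fun n hn g => ?_⟩
    rw [hU', Subgroup.mem_subgroupOf] at hn ⊢
    have := (Subgroup.mem_normalizer_iff.1 (hLN g.2) (n : X)).1 hn
    simpa using this
  have hsup : U' ⊔ E' = ⊤ := by
    rw [hU', hE', ← Subgroup.subgroupOf_sup hUL hEL, Subgroup.subgroupOf_self]
  have hdisj : U' ⊓ E' = ⊥ := by
    rw [eq_bot_iff]
    rintro x ⟨hx1, hx2⟩
    rw [Subgroup.mem_bot]
    apply Subtype.ext
    have : (x : X) ∈ U ⊓ E := ⟨Subgroup.mem_subgroupOf.1 hx1, Subgroup.mem_subgroupOf.1 hx2⟩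
    rw [hUE, Subgroup.mem_bot] at this
    exact this
  have hfpf' : ∀ e ∈ E', e ≠ 1 → ∀ u ∈ U', u * e = e * u → u = 1 := by
    intro e he hne u hu hcomm
    apply Subtype.ext
    apply hfpf (e : X) (Subgroup.mem_subgroupOf.1 he) (fun h => hne (Subtype.ext h)) (u : X)
      (Subgroup.mem_subgroupOf.1 hu)
    have := congrArg Subtype.val hcomm
    exact this.symm
  have hU'bot : U' ≠ ⊥ := by
    intro h
    apply hU1
    rw [eq_bot_iff]
    intro u hu
    have : (⟨u, hUL hu⟩ : L) ∈ U' := Subgroup.mem_subgroupOf.2 hu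
    rw [h, Subgroup.mem_bot] at this
    rw [Subgroup.mem_bot]
    exact congrArg Subtype.val this
  have hE'bot : E' ≠ ⊥ := by
    intro h
    apply hE1
    rw [eq_bot_iff]
    intro u hu
    have : (⟨u, hEL hu⟩ : L) ∈ E' := Subgroup.mem_subgroupOf.2 hu
    rw [h, Subgroup.mem_bot] at this
    rw [Subgroup.mem_bot]
    exact congrArg Subtype.val this
  -- complement
  have hcompl : Subgroup.IsComplement' U' E' := by
    apply Subgroup.isComplement'_of_disjoint_and_mul_eq_univ (disjoint_iff.2 hdisj)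
    rw [← Subgroup.normal_mul, hsup]
    rfl
  -- Frobenius complement
  have hFC : Cfsg.IsFrobeniusComplement E' := by
    rw [Cfsg.Agent.S0039.result U' E' hcompl hU'bot hE'bot]
    intro e he hne
    rw [eq_bot_iff]
    rintro u ⟨hu1, hu2⟩
    rw [Subgroup.mem_bot]
    apply hfpf' e he hne u hu1
    have := Subgroup.mem_centralizer_iff.1 hu2 e (Set.mem_singleton e)
    exact this.symm
  -- the kernel is U'
  obtain ⟨N, hNk, hNn, hNc⟩ := Cfsg.Agent.S0035.result E' hFC
  have hU'N : U' ≤ N := by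
    intro u hu
    have : u ∈ (N : Set L) := by
      rw [hNk]
      by_cases hu1 : u = 1
      · exact Or.inl hu1
      · right
        intro g hg
        rw [Subgroup.mem_pointwise_smul_iff_inv_smul_mem] at hg
        have h1 : (MulAut.conj g)⁻¹ • u ∈ U' := by
          rw [MulAut.smul_def, MulAut.conj_inv_apply]
          have := hU'n.conj_mem u hu g⁻¹
          simpa using this
        have h2 : (MulAut.conj g)⁻¹ • u ∈ U' ⊓ E' := ⟨h1, hg⟩
        rw [hdisj, Subgroup.mem_bot] at h2
        apply hu1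
        rw [MulAut.smul_def, MulAut.conj_inv_apply] at h2
        have : u = g * (g⁻¹ * u * g) * g⁻¹ := by group
        rw [this, h2]
        group
    exact this
  have hcardUN : Nat.card U' = Nat.card N := by
    have h1 := hcompl.card_mul_card
    have h2 := hNc.card_mul_card
    have hpos : 0 < Nat.card E' := Nat.card_pos
    exact Nat.eq_of_mul_eq_mul_right hpos (h1.trans h2.symm)
  have hUN : U' = N := Subgroup.eq_of_le_of_card_ge hU'N hcardUN.ge
  have hker : Cfsg.frobeniusKernel E' = (U' : Set L) := by rw [hUN, hNk]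
  obtain ⟨-, -, hnil, -⟩ := Cfsg.Agent.H1.frob_pkg E' U' hFC hker
  haveI : Group.IsSolvable U' := IsNilpotent.to_isSolvable
  -- the action
  set φ := conjAct L H hHn with hφ
  have key := formula_all U' E' hsup hfpf' (Nat.card H) ↥H φ le_rfl hsolv hcop
  unfold Formula at key
  have e1 : Nat.card (fixS φ ⊤) = Nat.card ↥(H ⊓ Subgroup.centralizer (L : Set X)) := by
    rw [← card_fixS_conjAct L H hHn L le_rfl, Subgroup.subgroupOf_self]
  have e2 : Nat.card (fixS φ E') = Nat.card ↥(H ⊓ Subgroup.centralizer (E : Set X)) :=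
    card_fixS_conjAct L H hHn E hEL
  have e3 : Nat.card (fixS φ U') = Nat.card ↥(H ⊓ Subgroup.centralizer (U : Set X)) :=
    card_fixS_conjAct L H hHn U hUL
  have e4 : Nat.card E' = Nat.card E :=
    Nat.card_congr (Subgroup.subgroupOfEquivOfLe hEL).toEquiv
  rw [e1, e2, e3, e4] at key
  exact key

end Final

end Cfsg.Agent.H1.FrobFix
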