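import Mathlib
import Cfsg.Agent.H1.FrobFixA

namespace Cfsg.Agent.H1.FrobAb
open Submodule
open Cfsg.Agent.H1.FrobFree

section FinrankFree
variable {k V H : Type*} [Field k] [AddCommGroup V] [Module k V] [FiniteDimensional k V]
  [Group H] [Finite H]

theorem finrank_free (σ : H →* (V →ₗ[k] V)) (W : Submodule k V)
    (h1 : iSupIndep (fun h => W.map (σ h))) (h2 : ⨆ h, W.map (σ h) = ⊤) :
    Module.finrank k V = Nat.card H * Module.finrank k W := by
  classical
  haveI := Fintype.ofFinite H
  have hσinv : ∀ (h : H) (v : V), σ h⁻¹ (σ h v) = v := by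
    intro h v
    rw [← Module.End.mul_apply, ← map_mul, inv_mul_cancel, map_one, Module.End.one_apply]
  have hσinj : ∀ h : H, Function.Injective (σ h) := by
    intro h a b hab
    rw [← hσinv h a, hab, hσinv]
  let Φ : (H → W) →ₗ[k] V :=
    { toFun := fun f => ∑ h, σ h (f h : V)
      map_add' := by
        intro f g
        simp only [Pi.add_apply, Submodule.coe_add, map_add, Finset.sum_add_distrib]
      map_smul' := by
        intro c f
        simp only [Pi.smul_apply, Submodule.coe_smul, map_smul, RingHom.id_apply, Finset.smul_sum] }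
  have hΦapp : ∀ f : H → W, Φ f = ∑ h, σ h (f h : V) := fun f => rfl
  have hΦ : Function.Bijective Φ := by
    constructor
    · intro f g hfg
      rw [hΦapp, hΦapp] at hfg
      have h3 : ∑ h, σ h ((f h : V) - (g h : V)) = 0 := by
        simp only [map_sub, Finset.sum_sub_distrib]
        exact sub_eq_zero.2 hfg
      have h4 := forall_sum_of_iSupIndep h1 (fun h => σ h ((f h : V) - (g h : V)))
        (fun h => Submodule.mem_map_of_mem (W.sub_mem (f h).2 (g h).2)) h3
      funext h
      apply Subtype.ext
      have h5 := h4 h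
      have h6 : σ h ((f h : V) - (g h : V)) = σ h 0 := by rw [h5, map_zero]
      exact sub_eq_zero.1 (hσinj h h6)
    · intro v
      have hv : v ∈ ⨆ h, W.map (σ h) := by rw [h2]; exact Submodule.mem_top
      obtain ⟨μ, hμ1, hμ2⟩ := exists_sum_of_mem_iSup _ v hv
      choose w hw hwμ using fun h => Submodule.mem_map.1 (hμ1 h)
      refine ⟨fun h => ⟨w h, hw h⟩, ?_⟩
      show ∑ h, σ h (w h) = v
      simp only [hwμ]
      exact hμ2
  have e := (LinearEquiv.ofBijective Φ hΦ).finrank_eq
  rw [← e, Module.finrank_pi_fintype, Finset.sum_const, Finset.card_univ, smul_eq_mul,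
    Nat.card_eq_fintype_card]

end FinrankFree

theorem field_case {k L V : Type*} [Field k] [Field L] [Algebra k L] [AddCommGroup V] [Module k V]
    [Module L V] [IsScalarTower k L V] (hr : (Module.finrank k V).Prime) :
    (∀ c : L, ∃ t : k, c = algebraMap k L t) ∨ (∃ v : V, ∀ w : V, ∃ c : L, w = c • v) := by
  have h1 := Module.finrank_mul_finrank k L V
  rw [← h1] at hr
  rcases Nat.prime_mul_iff.1 hr with ⟨_, h2⟩ | ⟨_, h2⟩
  · right
    obtain ⟨v, _, hv⟩ := finrank_eq_one_iff'.1 h2
    exact ⟨v, fun w => by obtain ⟨c, hc⟩ := hv w; exact ⟨c, hc.symm⟩⟩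
  · left
    intro c
    obtain ⟨t, ht⟩ := (finrank_eq_one_iff_of_nonzero' (1 : L) one_ne_zero).1 h2 c
    exact ⟨t, by rw [← ht, Algebra.algebraMap_eq_smul_one]⟩

theorem field_case' {k L V : Type*} [Field k] [CommRing L] (hL : IsField L) [Algebra k L] [AddCommGroup V]
    [Module k V] [Module L V] [IsScalarTower k L V] (hr : (Module.finrank k V).Prime) :
    (∀ c : L, ∃ t : k, c = algebraMap k L t) ∨ (∃ v : V, ∀ w : V, ∃ c : L, w = c • v) := by
  letI : Field L := hL.toField
  exact field_case hr

section Core
variable {k C V H : Type*} [Field k] [CommRing C] [Algebra k C]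
  [AddCommGroup V] [Module k V] [Module C V] [IsScalarTower k C V]

theorem comm_or_scalar [FiniteDimensional k C] [FiniteDimensional k V] [Group H] [Finite H]
    [MulSemiringAction H C] (σ : H →* (V →ₗ[k] V))
    (hsemi : ∀ (h : H) (c : C) (v : V), σ h (c • v) = (h • c) • σ h v)
    (hfaith : ∀ x : C, (∀ v : V, x • v = 0) → x = 0)
    (hred : ∀ x : C, x * x = 0 → x = 0)
    (hH : (Nat.card H).Prime) (hdim : Module.finrank k V = Nat.card H)
    (G : Set (V →ₗ[k] V)) (hGC : ∀ g ∈ G, ∀ (c : C) (v : V), g (c • v) = c • g v)
    (hirr : ∀ U : Submodule k V, U ≠ ⊥ → (∀ h : H, ∀ v ∈ U, σ h v ∈ U) →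
      (∀ g ∈ G, ∀ v ∈ U, g v ∈ U) → U = ⊤) :
    (∀ g ∈ G, ∀ g' ∈ G, g * g' = g' * g) ∨ (∀ c : C, ∃ t : k, c = algebraMap k C t) := by
  classical
  haveI := Fintype.ofFinite H
  haveI : Fact (Nat.card H).Prime := ⟨hH⟩
  have hV0 : (1 : C) ≠ 0 := by
    intro h10
    have h0 : ∀ v : V, v = 0 := fun v => by rw [← one_smul C v, h10, zero_smul]
    haveI : Subsingleton V := ⟨fun a b => by rw [h0 a, h0 b]⟩
    have h1 : Module.finrank k V = 0 := Module.finrank_zero_of_subsingleton
    rw [hdim] at h1
    exact hH.pos.ne' h1
  -- ranges and idempotents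
  have hrange_mem : ∀ (c : C), c * c = c → ∀ v : V,
      v ∈ LinearMap.range (acL (k := k) (V := V) c) ↔ c • v = v := by
    intro c hc v
    constructor
    · rintro ⟨w, rfl⟩
      rw [acL_apply, smul_smul, hc]
    · intro h
      exact ⟨v, h⟩
  -- choose a minimal idempotent
  obtain ⟨e, ⟨hee, he0⟩, hemin⟩ := WellFounded.has_min
    (measure (fun e' : C => Module.finrank k (LinearMap.range (acL (k := k) (V := V) e')))).wf
    {e' : C | e' * e' = e' ∧ e' ≠ 0} ⟨1, one_mul 1, hV0⟩
  have hmin : ∀ e' : C, e' * e' = e' → e' * e = e' → e' = 0 ∨ e' = e := by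
    intro e' he'e' he'e
    by_cases h0 : e' = 0
    · exact Or.inl h0
    right
    have hmem : e' ∈ {e' : C | e' * e' = e' ∧ e' ≠ 0} := ⟨he'e', h0⟩
    have h1 := hemin e' hmem
    have hle : LinearMap.range (acL (k := k) (V := V) e') ≤ LinearMap.range (acL (k := k) (V := V) e) := by
      intro v hv
      rw [hrange_mem _ he'e'] at hv
      rw [hrange_mem _ hee, ← hv, smul_smul, mul_comm, he'e]
    have heq : LinearMap.range (acL (k := k) (V := V) e') = LinearMap.range (acL (k := k) (V := V) e) := by
      apply Submodule.eq_of_le_of_finrank_le hle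
      have : ¬ (Module.finrank k (LinearMap.range (acL (k := k) (V := V) e'))
          < Module.finrank k (LinearMap.range (acL (k := k) (V := V) e))) := h1
      omega
    rw [← sub_eq_zero]
    apply hfaith
    intro v
    have h2 : e • v ∈ LinearMap.range (acL (k := k) (V := V) e') := by
      rw [heq]; exact ⟨v, rfl⟩
    rw [hrange_mem _ he'e', smul_smul, he'e] at h2
    rw [sub_smul, h2, sub_self]
  -- range of e nonzero
  have hrange_ne : ∀ c : C, c ≠ 0 → LinearMap.range (acL (k := k) (V := V) c) ≠ ⊥ := by
    intro c hc hbot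
    apply hc
    apply hfaith
    intro v
    have : c • v ∈ LinearMap.range (acL (k := k) (V := V) c) := ⟨v, rfl⟩
    rw [hbot] at this
    exact (Submodule.mem_bot k).1 this
  have hrangeG : ∀ c : C, ∀ g ∈ G, ∀ v ∈ LinearMap.range (acL (k := k) (V := V) c),
      g v ∈ LinearMap.range (acL (k := k) (V := V) c) := by
    rintro c g hg _ ⟨w, rfl⟩
    exact ⟨g w, by rw [acL_apply, acL_apply, hGC g hg]⟩
  have hge : ∀ g : H, (g • e) * (g • e) = g • e := fun g => by rw [← smul_mul', hee]
  by_cases hfix : ∀ h : H, h • e = e
  · -- Case 1: e is fixed, so e = 1 and C is a field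
    have htop : LinearMap.range (acL (k := k) (V := V) e) = ⊤ := by
      apply hirr _ (hrange_ne e he0)
      · rintro h _ ⟨w, rfl⟩
        exact ⟨σ h w, by rw [acL_apply, acL_apply, hsemi, hfix]⟩
      · exact hrangeG e
    have he1 : e = 1 := by
      rw [← sub_eq_zero]
      apply hfaith
      intro v
      have : v ∈ LinearMap.range (acL (k := k) (V := V) e) := by rw [htop]; exact Submodule.mem_top
      rw [hrange_mem _ hee] at this
      rw [sub_smul, this, one_smul, sub_self]
    have hCfield : IsField C := by
      refine ⟨⟨0, 1, hV0.symm⟩, mul_comm, ?_⟩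
      intro a ha
      obtain ⟨c, hc⟩ := exists_inv_of_min_comm (k := k) hred e hmin a (by rw [he1, mul_one]) ha
      exact ⟨c, by rw [hc, he1]⟩
    rcases field_case' (k := k) (L := C) (V := V) hCfield (by rw [hdim]; exact hH) with h1 | ⟨v, hv⟩
    · exact Or.inr h1
    · left
      intro g hg g' hg'
      apply LinearMap.ext
      intro w
      obtain ⟨c, rfl⟩ := hv w
      obtain ⟨a, ha⟩ := hv (g v)
      obtain ⟨a', ha'⟩ := hv (g' v)
      have e1 : g (g' (c • v)) = (c * a' * a) • v := by
        rw [hGC g' hg', hGC g hg, ha', hGC g hg, ha, smul_smul, smul_smul]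
      have e2 : g' (g (c • v)) = (c * a * a') • v := by
        rw [hGC g hg, hGC g' hg', ha, hGC g' hg', ha', smul_smul, smul_smul]
      rw [Module.End.mul_apply, Module.End.mul_apply, e1, e2, mul_right_comm]
  · -- Case 2: e is moved; the conjugates of e are orthogonal
    left
    push Not at hfix
    obtain ⟨h0, hh0⟩ := hfix
    have hstab : MulAction.stabilizer H e = ⊥ := by
      rcases Subgroup.eq_bot_or_eq_top_of_prime_card (MulAction.stabilizer H e) with h | h
      · exact h
      · exfalso
        apply hh0
        have : h0 ∈ MulAction.stabilizer H e := by rw [h]; exact Subgroup.mem_top _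
        exact this
    have horth0 : ∀ h : H, h ≠ 1 → e * (h • e) = 0 := by
      intro h hh
      have hhe : (h • e) * (h • e) = h • e := hge h
      rcases hmin (e * (h • e)) (by rw [mul_mul_mul_comm, hee, hhe])
        (by rw [mul_right_comm, hee]) with h0 | h1
      · exact h0
      · exfalso
        have h2 : (h⁻¹ • e) * (h⁻¹ • e) = h⁻¹ • e := hge _
        have h3 : (h⁻¹ • e) * e = h⁻¹ • e := by
          conv_rhs => rw [← h1]
          rw [smul_mul', inv_smul_smul]
        rcases hmin _ h2 h3 with h4 | h4
        · exact he0 ((smul_eq_zero_iff_eq h⁻¹).1 h4)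
        · apply hh
          have : h ∈ MulAction.stabilizer H e := by
            rw [MulAction.mem_stabilizer_iff]
            exact (inv_smul_eq_iff.1 h4).symm
          rw [hstab, Subgroup.mem_bot] at this
          exact this
    have horth : ∀ g h : H, g ≠ h → (g • e) * (h • e) = 0 := by
      intro g h hgh
      have : (g • e) * (h • e) = g • (e * ((g⁻¹ * h) • e)) := by
        rw [smul_mul', smul_smul, mul_inv_cancel_left]
      rw [this, horth0, smul_zero]
      intro h1
      apply hgh
      rw [inv_mul_eq_one] at h1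
      exact h1
    set W := LinearMap.range (acL (k := k) (V := V) e) with hW
    have hmapW : ∀ h : H, W.map (σ h) = LinearMap.range (acL (k := k) (V := V) (h • e)) :=
      fun h => map_range_acL σ hsemi e h
    have hindep : iSupIndep (fun h => W.map (σ h)) := by
      apply iSupIndep_of_forall_sum
      intro f hf hsum g
      have hfg : ∀ h, (g • e) • f h = if h = g then f g else 0 := by
        intro h
        have hfh := hf h
        rw [hmapW, hrange_mem _ (hge h)] at hfh
        split_ifs with hhg
        · rw [hhg] at hfh ⊢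
          exact hfh
        · rw [← hfh, smul_smul, horth g h (Ne.symm hhg), zero_smul]
      have := congrArg (fun v => (g • e) • v) hsum
      simp only [Finset.smul_sum, hfg, smul_zero, Finset.sum_ite_eq', Finset.mem_univ, if_true] at this
      exact this
    have hsupinv : ⨆ h, W.map (σ h) = ⊤ := by
      apply hirr
      · intro hbot
        have h1 : W ≤ ⨆ h, W.map (σ h) := by
          refine le_trans ?_ (le_iSup _ (1 : H))
          rw [map_one]
          intro w hw
          exact Submodule.mem_map.2 ⟨w, hw, rfl⟩
        rw [hbot, le_bot_iff] at h1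
        exact hrange_ne e he0 h1
      · intro h v hv
        have : (⨆ h', W.map (σ h')).map (σ h) ≤ ⨆ h', W.map (σ h') := by
          rw [Submodule.map_iSup]
          apply iSup_le
          intro h'
          rw [← Submodule.map_comp]
          have : (σ h).comp (σ h') = σ (h * h') := by rw [map_mul]; rfl
          rw [this]
          exact le_iSup (fun h : H => W.map (σ h)) (h * h')
        exact this (Submodule.mem_map_of_mem hv)
      · intro g hg v hv
        have : (⨆ h', W.map (σ h')) ≤ (⨆ h', W.map (σ h')).comap g := by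
          apply iSup_le
          intro h' w hw
          rw [Submodule.mem_comap]
          apply Submodule.mem_iSup_of_mem h'
          rw [hmapW] at hw ⊢
          exact hrangeG _ g hg w hw
        exact this hv
    have hfr := finrank_free σ W hindep hsupinv
    rw [hdim] at hfr
    have hW1 : Module.finrank k W = 1 := by
      have hpos := hH.pos
      have : Nat.card H * 1 = Nat.card H * Module.finrank k W := by rw [mul_one]; exact hfr
      exact (Nat.eq_of_mul_eq_mul_left hpos this).symm
    have hσinv : ∀ (h : H) (v : V), σ h⁻¹ (σ h v) = v := by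
      intro h v
      rw [← Module.End.mul_apply, ← map_mul, inv_mul_cancel, map_one, Module.End.one_apply]
    have hσinj : ∀ h : H, Function.Injective (σ h) := by
      intro h a b hab
      rw [← hσinv h a, hab, hσinv]
    have hWh1 : ∀ h : H, Module.finrank k (W.map (σ h)) = 1 := by
      intro h
      rw [← hW1]
      exact LinearEquiv.finrank_eq (Submodule.equivMapOfInjective (σ h) (hσinj h) W).symm
    intro g hg g' hg'
    have hker : (⨆ h, W.map (σ h)) ≤ LinearMap.ker (g * g' - g' * g) := by
      apply iSup_le
      intro h w hw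
      rw [LinearMap.mem_ker, LinearMap.sub_apply, sub_eq_zero, Module.End.mul_apply,
        Module.End.mul_apply]
      obtain ⟨u, hu0, hu⟩ := finrank_eq_one_iff'.1 (hWh1 h)
      have hgu : ∀ g ∈ G, ∃ a : k, g (u : V) = a • (u : V) := by
        intro g hg
        have h1 : g (u : V) ∈ W.map (σ h) := by
          have hu2 : (u : V) ∈ LinearMap.range (acL (k := k) (V := V) (h • e)) := by
            rw [← hmapW]; exact u.2
          have hu3 := hrangeG _ g hg _ hu2
          rw [← hmapW] at hu3
          exact hu3
        obtain ⟨a, ha⟩ := hu ⟨_, h1⟩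
        exact ⟨a, (congrArg Subtype.val ha).symm⟩
      obtain ⟨c, hc⟩ := hu ⟨w, hw⟩
      have hc' : w = c • (u : V) := (congrArg Subtype.val hc).symm
      obtain ⟨a, ha⟩ := hgu g hg
      obtain ⟨a', ha'⟩ := hgu g' hg'
      have e1 : g (g' w) = (c * a' * a) • (u : V) := by
        rw [hc', map_smul, ha', map_smul, map_smul, ha, smul_smul, smul_smul]
      have e2 : g' (g w) = (c * a * a') • (u : V) := by
        rw [hc', map_smul, ha, map_smul, map_smul, ha', smul_smul, smul_smul]
      rw [e1, e2, mul_right_comm]
    rw [hsupinv, top_le_iff, LinearMap.ker_eq_top, sub_eq_zero] at hker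
    exact hker

end Core

end Cfsg.Agent.H1.FrobAb
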