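import Mathlib
import Cfsg.Agent.H2.BG37b

/-!
# A Shult-type lemma for odd order (from B&G 3.7's module lemma `BG37.Z`)

If `y` of prime order `r` normalizes `T` and `Q` (`T` normalizes `Q`, orders pairwise coprime,
everything solvable of odd order) and `y` acts fixed-point-freely on `Q`, then `[T, y]` centralizes
`Q`.
-/

set_option autoImplicit false
set_option linter.unusedVariables false
set_option linter.unusedSectionVars false
set_option linter.style.haveILetI false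

open scoped commutatorElement

namespace Cfsg.Agent.H1.BGShult

universe u

/-- the map `m ↦ m⁻¹ (x m x⁻¹)` is onto `Q` when `x` acts fixed-point-freely on the finite `Q`. -/
theorem surj_of_fpf {Y : Type*} [Group Y] [Finite Y] (Q : Subgroup Y) (x : Y)
    (hx : ∀ m ∈ Q, x * m * x⁻¹ ∈ Q) (hfpf : ∀ m ∈ Q, x * m = m * x → m = 1) :
    ∀ q ∈ Q, ∃ m ∈ Q, q = m⁻¹ * (x * m * x⁻¹) := by
  classical
  let f : Q → Q := fun m => ⟨m.1⁻¹ * (x * m.1 * x⁻¹), Q.mul_mem (Q.inv_mem m.2) (hx _ m.2)⟩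
  have hinj : Function.Injective f := by
    intro m n h
    have h1 : m.1⁻¹ * (x * m.1 * x⁻¹) = n.1⁻¹ * (x * n.1 * x⁻¹) := congrArg Subtype.val h
    have hw : (n.1 * m.1⁻¹) ∈ Q := Q.mul_mem n.2 (Q.inv_mem m.2)
    have h2 : x * (n.1 * m.1⁻¹) = (n.1 * m.1⁻¹) * x := by
      have e1 : n.1 * m.1⁻¹ = (x * n.1 * x⁻¹) * (x * m.1 * x⁻¹)⁻¹ := by
        have : n.1 * (m.1⁻¹ * (x * m.1 * x⁻¹)) = x * n.1 * x⁻¹ := by
          rw [h1]; group
        calc n.1 * m.1⁻¹ = (n.1 * (m.1⁻¹ * (x * m.1 * x⁻¹))) * (x * m.1 * x⁻¹)⁻¹ := by group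
          _ = (x * n.1 * x⁻¹) * (x * m.1 * x⁻¹)⁻¹ := by rw [this]
      have e2 : (x * n.1 * x⁻¹) * (x * m.1 * x⁻¹)⁻¹ = x * (n.1 * m.1⁻¹) * x⁻¹ := by group
      rw [e2] at e1
      calc x * (n.1 * m.1⁻¹) = (x * (n.1 * m.1⁻¹) * x⁻¹) * x := by group
        _ = (n.1 * m.1⁻¹) * x := by rw [← e1]
    have h3 := hfpf _ hw h2
    apply Subtype.ext
    have : n.1 = m.1 := by
      calc n.1 = (n.1 * m.1⁻¹) * m.1 := by group
        _ = m.1 := by rw [h3, one_mul]
    exact this.symm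
  have hsurj : Function.Surjective f := Finite.injective_iff_surjective.mp hinj
  intro q hq
  obtain ⟨m, hm⟩ := hsurj ⟨q, hq⟩
  exact ⟨m.1, m.2, (congrArg Subtype.val hm).symm⟩

/-- conversely, surjectivity gives fixed-point-freeness. -/
theorem fpf_of_surj {Y : Type*} [Group Y] [Finite Y] (Q : Subgroup Y) (x : Y)
    (hx : ∀ m ∈ Q, x * m * x⁻¹ ∈ Q) (hsurj : ∀ q ∈ Q, ∃ m ∈ Q, q = m⁻¹ * (x * m * x⁻¹)) :
    ∀ m ∈ Q, x * m = m * x → m = 1 := by
  classical
  let f : Q → Q := fun m => ⟨m.1⁻¹ * (x * m.1 * x⁻¹), Q.mul_mem (Q.inv_mem m.2) (hx _ m.2)⟩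
  have hs : Function.Surjective f := by
    rintro ⟨q, hq⟩
    obtain ⟨m, hm, rfl⟩ := hsurj q hq
    exact ⟨⟨m, hm⟩, rfl⟩
  have hinj : Function.Injective f := Finite.injective_iff_surjective.mpr hs
  intro m hm hc
  have h1 : f ⟨m, hm⟩ = f ⟨1, Q.one_mem⟩ := by
    apply Subtype.ext
    show m⁻¹ * (x * m * x⁻¹) = (1 : Y)⁻¹ * (x * 1 * x⁻¹)
    rw [hc]; group
  have := hinj h1
  exact congrArg Subtype.val this

/-- coprime stability: `c` centralizes `M` and `Q / M`, orders coprime, so `c` centralizes `Q`. -/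
theorem comm_of_stab {Y : Type*} [Group Y] [Finite Y] (Q : Subgroup Y) (c q : Y) (hq : q ∈ Q)
    (k : ℕ) (hck : c ^ k = 1) (hk : k.Coprime (Nat.card Q))
    (hmQ : c * q * c⁻¹ * q⁻¹ ∈ Q) (hcm : c * (c * q * c⁻¹ * q⁻¹) = (c * q * c⁻¹ * q⁻¹) * c) :
    c * q = q * c := by
  set m := c * q * c⁻¹ * q⁻¹ with hm
  have hpow : ∀ j : ℕ, c ^ j * q * (c ^ j)⁻¹ = m ^ j * q := by
    intro j
    induction j with
    | zero => simp
    | succ j ih =>
      have hcmj : c * m ^ j = m ^ j * c := by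
        have : Commute c m := hcm
        exact (this.pow_right j)
      calc c ^ (j + 1) * q * (c ^ (j + 1))⁻¹ = c * (c ^ j * q * (c ^ j)⁻¹) * c⁻¹ := by
            rw [pow_succ']; group
        _ = c * (m ^ j * q) * c⁻¹ := by rw [ih]
        _ = (c * m ^ j) * (q * c⁻¹) := by group
        _ = (m ^ j * c) * (q * c⁻¹) := by rw [hcmj]
        _ = m ^ j * (c * q * c⁻¹ * q⁻¹) * q := by group
        _ = m ^ (j + 1) * q := by rw [← hm, pow_succ]
  have h1 := hpow k
  rw [hck] at h1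
  have hmk : m ^ k = 1 := by
    have : q = m ^ k * q := by simpa using h1
    have h2 : m ^ k * q = 1 * q := by rw [one_mul]; exact this.symm
    exact mul_right_cancel h2
  have hmQ' : m ^ Nat.card Q = 1 := by
    have h0 := pow_card_eq_one' (G := Q) (x := ⟨m, hmQ⟩)
    have h2 : (((⟨m, hmQ⟩ : Q) ^ Nat.card Q : Q) : Y) = ((1 : Q) : Y) := congrArg Subtype.val h0
    rw [Subgroup.coe_pow] at h2
    exact h2
  have hm1 : m = 1 := by
    have h1 : orderOf m ∣ k := orderOf_dvd_of_pow_eq_one hmk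
    have h2 : orderOf m ∣ Nat.card Q := orderOf_dvd_of_pow_eq_one hmQ'
    have h3 : orderOf m ∣ Nat.gcd k (Nat.card Q) := Nat.dvd_gcd h1 h2
    rw [hk] at h3
    exact orderOf_eq_one_iff.mp (Nat.dvd_one.mp h3)
  have : c * q * c⁻¹ * q⁻¹ = 1 := hm1
  calc c * q = (c * q * c⁻¹ * q⁻¹) * q * c := by group
    _ = q * c := by rw [this, one_mul]

/-- type-level induction -/
theorem shult_aux (n : ℕ) : ∀ (Y : Type u) [Group Y] [Finite Y] [Group.IsSolvable Y]
    (hodd : Odd (Nat.card Y))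
    (K Q T : Subgroup Y) [K.Normal] [Q.Normal] (hQK : Q ≤ K) (hTK : T ≤ K) (x : Y) (r : ℕ)
    (hr : r.Prime) (hxr : x ^ r = 1) (hcop : r.Coprime (Nat.card K))
    (hTx : ∀ t ∈ T, x * t * x⁻¹ ∈ T) (hTQ : (Nat.card T).Coprime (Nat.card Q))
    (hsurj : ∀ q ∈ Q, ∃ m ∈ Q, q = m⁻¹ * (x * m * x⁻¹)) (hn : Nat.card Q ≤ n),
    ∀ g ∈ T, ⁅g, x⁆ ∈ Subgroup.centralizer (Q : Set Y) := by
  induction n with
  | zero =>
    intro Y _ _ _ hodd K Q T _ _ hQK hTK x r hr hxr hcop hTx hTQ hsurj hn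
    have : 0 < Nat.card Q := Nat.card_pos
    omega
  | succ n ih =>
    intro Y _ _ _ hodd K Q T _ hQn hQK hTK x r hr hxr hcop hTx hTQ hsurj hn g hg
    classical
    by_cases hQ1 : Q = ⊥
    · rw [hQ1, Subgroup.mem_centralizer_iff]
      intro h hh
      have : h = 1 := hh
      rw [this, one_mul, mul_one]
    -- minimal normal subgroup inside Q
    let S : Set (Subgroup Y) := {B | B.Normal ∧ B ≠ ⊥ ∧ B ≤ Q}
    have hSne : S.Nonempty := ⟨Q, hQn, hQ1, le_rfl⟩
    obtain ⟨M, hMS, hMmin'⟩ :=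
      WellFounded.has_min (measure (fun B : Subgroup Y => Nat.card B)).wf S hSne
    obtain ⟨hMn, hM1, hMQ⟩ := hMS
    haveI := hMn
    have hMmin : ∀ B : Subgroup Y, B.Normal → B ≤ M → B = ⊥ ∨ B = M := by
      intro B hBn hBM
      by_cases hB1 : B = ⊥
      · exact Or.inl hB1
      right
      have hBS : B ∈ S := ⟨hBn, hB1, hBM.trans hMQ⟩
      have h1 := hMmin' B hBS
      have h2 : ¬ Nat.card B < Nat.card M := h1
      exact Subgroup.eq_of_le_of_card_ge hBM (not_lt.mp h2)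
    have hxQ : ∀ m ∈ Q, x * m * x⁻¹ ∈ Q := fun m hm => hQn.conj_mem m hm x
    have hfpf := fpf_of_surj Q x hxQ hsurj
    have hCM : ∀ m ∈ M, x * m = m * x → m = 1 := fun m hm => hfpf m (hMQ hm)
    have hZ := Cfsg.Agent.H2.BG37.Z hodd M K hM1 hMmin (hMQ.trans hQK) x r hr hxr hcop hCM
    -- the element c
    set c := ⁅g, x⁆ with hc
    have hcT : c ∈ T := by
      rw [hc, commutatorElement_def]
      have h1 : x * g⁻¹ * x⁻¹ ∈ T := hTx _ (T.inv_mem hg)
      have e : g * x * g⁻¹ * x⁻¹ = g * (x * g⁻¹ * x⁻¹) := by group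
      rw [e]
      exact T.mul_mem hg h1
    have hcM : c ∈ Subgroup.centralizer (M : Set Y) := hZ g (hTK hg)
    -- quotient
    set π := QuotientGroup.mk' M with hπ
    have hπsurj : Function.Surjective π := QuotientGroup.mk'_surjective M
    have hker : π.ker = M := QuotientGroup.ker_mk' M
    haveI hK'n : (K.map π).Normal := Subgroup.Normal.map inferInstance π hπsurj
    haveI hQ'n : (Q.map π).Normal := Subgroup.Normal.map hQn π hπsurj
    have hoddq : Odd (Nat.card (Y ⧸ M)) :=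
      Odd.of_dvd_nat hodd (Subgroup.card_quotient_dvd_card M)
    have hcardQ : Nat.card M * Nat.card (Q.map π) = Nat.card Q := by
      have h1 := Subgroup.relIndex_mul_relIndex (⊥ : Subgroup Y) M Q bot_le hMQ
      rw [Subgroup.relIndex_bot_left, Subgroup.relIndex_bot_left] at h1
      have h2 := Subgroup.relIndex_ker π (K := Q)
      rw [hker] at h2
      rw [← h2]
      exact h1
    have hMcard : 2 ≤ Nat.card M := by
      have h1 : Nat.card M ≠ 1 := by
        intro h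
        exact hM1 (Subgroup.card_eq_one.mp h)
      have h2 : 0 < Nat.card M := Nat.card_pos
      omega
    have hn' : Nat.card (Q.map π) ≤ n := by
      have h0 : 0 < Nat.card (Q.map π) := Nat.card_pos
      have : 2 * Nat.card (Q.map π) ≤ Nat.card Q := by
        rw [← hcardQ]
        exact Nat.mul_le_mul_right _ hMcard
      omega
    have hcop' : r.Coprime (Nat.card (K.map π)) :=
      Nat.Coprime.coprime_dvd_right (Subgroup.card_map_dvd K π) hcop
    have hTQ' : (Nat.card (T.map π)).Coprime (Nat.card (Q.map π)) :=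
      Nat.Coprime.coprime_dvd_left (Subgroup.card_map_dvd T π)
        (Nat.Coprime.coprime_dvd_right (Subgroup.card_map_dvd Q π) hTQ)
    have hTx' : ∀ t ∈ T.map π, π x * t * (π x)⁻¹ ∈ T.map π := by
      rintro _ ⟨t, ht, rfl⟩
      refine ⟨x * t * x⁻¹, hTx t ht, ?_⟩
      simp
    have hsurj' : ∀ q ∈ Q.map π, ∃ m ∈ Q.map π, q = m⁻¹ * (π x * m * (π x)⁻¹) := by
      rintro _ ⟨q, hq, rfl⟩
      obtain ⟨m, hm, hqm⟩ := hsurj q hq
      refine ⟨π m, ⟨m, hm, rfl⟩, ?_⟩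
      rw [hqm]
      simp
    have hxr' : (π x) ^ r = 1 := by rw [← map_pow, hxr, map_one]
    have hIH := ih (Y ⧸ M) hoddq (K.map π) (Q.map π) (T.map π) (Subgroup.map_mono hQK)
      (Subgroup.map_mono hTK) (π x) r hr hxr' hcop' hTx' hTQ' hsurj' hn' (π g) ⟨g, hg, rfl⟩
    have hπc : π c = ⁅π g, π x⁆ := by rw [hc, map_commutatorElement]
    rw [← hπc] at hIH
    -- now c centralizes Q
    rw [Subgroup.mem_centralizer_iff]
    intro q hq
    have hq' : q ∈ Q := hq
    have h1 : π q * π c = π c * π q :=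
      (Subgroup.mem_centralizer_iff.mp hIH) (π q) ⟨q, hq', rfl⟩
    have hmM : c * q * c⁻¹ * q⁻¹ ∈ M := by
      rw [← hker, MonoidHom.mem_ker]
      rw [map_mul, map_mul, map_mul, map_inv, map_inv, ← h1]
      group
    have hcm : c * (c * q * c⁻¹ * q⁻¹) = (c * q * c⁻¹ * q⁻¹) * c :=
      ((Subgroup.mem_centralizer_iff.mp hcM) _ hmM).symm
    have hck : c ^ orderOf c = 1 := pow_orderOf_eq_one c
    have hordT : orderOf c ∣ Nat.card T := by
      have := orderOf_dvd_natCard (⟨c, hcT⟩ : T)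
      rwa [Subgroup.orderOf_mk] at this
    have hk : (orderOf c).Coprime (Nat.card Q) := Nat.Coprime.coprime_dvd_left hordT hTQ
    exact (comm_of_stab Q c q hq' (orderOf c) hck hk (hMQ hmM) hcm).symm

/-- **Shult-type lemma** in subgroup form. -/
theorem shult {G : Type u} [Group G] [Finite G] (Q T : Subgroup G) (y : G) (r : ℕ) (hr : r.Prime)
    (hyr : y ^ r = 1) (hTQ : T ≤ Subgroup.normalizer (Q : Set G))
    (hyQ : y ∈ Subgroup.normalizer (Q : Set G)) (hyT : y ∈ Subgroup.normalizer (T : Set G))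
    (hsolv : Group.IsSolvable ↥(Q ⊔ T ⊔ Subgroup.zpowers y))
    (hodd : Odd (Nat.card ↥(Q ⊔ T ⊔ Subgroup.zpowers y)))
    (hrQ : r.Coprime (Nat.card Q)) (hrT : r.Coprime (Nat.card T))
    (hcop : (Nat.card T).Coprime (Nat.card Q))
    (hfpf : ∀ m ∈ Q, y * m = m * y → m = 1) :
    ∀ g ∈ T, ⁅g, y⁆ ∈ Subgroup.centralizer (Q : Set G) := by
  classical
  set Y₀ := Q ⊔ T ⊔ Subgroup.zpowers y with hY₀
  have hQY : Q ≤ Y₀ := le_sup_left.trans le_sup_left
  have hTY : T ≤ Y₀ := le_sup_right.trans le_sup_left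
  have hyY : y ∈ Y₀ := (le_sup_right : Subgroup.zpowers y ≤ Y₀) (Subgroup.mem_zpowers y)
  have hyconjQ : ∀ m ∈ Q, y * m * y⁻¹ ∈ Q := fun m hm =>
    (Subgroup.mem_normalizer_iff.mp hyQ m).mp hm
  have hyconjT : ∀ m ∈ T, y * m * y⁻¹ ∈ T := fun m hm =>
    (Subgroup.mem_normalizer_iff.mp hyT m).mp hm
  -- Y₀ normalizes Q
  have hY₀Q : Y₀ ≤ Subgroup.normalizer (Q : Set G) := by
    refine sup_le (sup_le Subgroup.le_normalizer hTQ) ?_
    rw [Subgroup.zpowers_le]
    exact hyQ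
  -- y normalizes Q ⊔ T
  have hyQT : y ∈ Subgroup.normalizer ((Q ⊔ T : Subgroup G) : Set G) := by
    have hmap : ∀ z : G, (∀ m ∈ Q, z * m * z⁻¹ ∈ Q) → (∀ m ∈ T, z * m * z⁻¹ ∈ T) →
        ∀ h ∈ Q ⊔ T, z * h * z⁻¹ ∈ Q ⊔ T := by
      intro z hzQ hzT h hh
      have h1 : (MulAut.conj z).toMonoidHom h ∈ (Q ⊔ T).map (MulAut.conj z).toMonoidHom :=
        Subgroup.mem_map_of_mem _ hh
      rw [Subgroup.map_sup] at h1
      have h2 : Q.map (MulAut.conj z).toMonoidHom ≤ Q := by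
        rintro _ ⟨m, hm, rfl⟩
        exact hzQ m hm
      have h3 : T.map (MulAut.conj z).toMonoidHom ≤ T := by
        rintro _ ⟨m, hm, rfl⟩
        exact hzT m hm
      exact (sup_le_sup h2 h3) h1
    rw [Subgroup.mem_normalizer_iff]
    intro h
    constructor
    · exact hmap y hyconjQ hyconjT h
    · intro hh
      have hyiQ : ∀ m ∈ Q, y⁻¹ * m * y⁻¹⁻¹ ∈ Q := fun m hm =>
        (Subgroup.mem_normalizer_iff.mp (Subgroup.inv_mem _ hyQ) m).mp hm
      have hyiT : ∀ m ∈ T, y⁻¹ * m * y⁻¹⁻¹ ∈ T := fun m hm =>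
        (Subgroup.mem_normalizer_iff.mp (Subgroup.inv_mem _ hyT) m).mp hm
      have := hmap y⁻¹ hyiQ hyiT _ hh
      have e : y⁻¹ * (y * h * y⁻¹) * y⁻¹⁻¹ = h := by group
      rwa [e] at this
  have hY₀QT : Y₀ ≤ Subgroup.normalizer ((Q ⊔ T : Subgroup G) : Set G) := by
    refine sup_le Subgroup.le_normalizer ?_
    rw [Subgroup.zpowers_le]
    exact hyQT
  haveI : Group.IsSolvable ↥Y₀ := hsolv
  set K : Subgroup ↥Y₀ := (Q ⊔ T).subgroupOf Y₀ with hK
  set Q' : Subgroup ↥Y₀ := Q.subgroupOf Y₀ with hQ'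
  set T' : Subgroup ↥Y₀ := T.subgroupOf Y₀ with hT'
  haveI hKn : K.Normal :=
    (Subgroup.normal_subgroupOf_iff_le_normalizer (le_sup_left : Q ⊔ T ≤ Y₀)).mpr hY₀QT
  haveI hQn : Q'.Normal := (Subgroup.normal_subgroupOf_iff_le_normalizer hQY).mpr hY₀Q
  have hQK : Q' ≤ K := by
    intro z hz
    exact (le_sup_left : Q ≤ Q ⊔ T) hz
  have hTK : T' ≤ K := by
    intro z hz
    exact (le_sup_right : T ≤ Q ⊔ T) hz
  have hcardQ' : Nat.card Q' = Nat.card Q :=
    Nat.card_congr (Subgroup.subgroupOfEquivOfLe hQY).toEquiv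
  have hcardT' : Nat.card T' = Nat.card T :=
    Nat.card_congr (Subgroup.subgroupOfEquivOfLe hTY).toEquiv
  set x : ↥Y₀ := ⟨y, hyY⟩ with hx
  have hxr : x ^ r = 1 := by
    apply Subtype.ext
    simp [hx, hyr]
  -- card K divides card Q * card T
  have hKcard : Nat.card K ∣ Nat.card Q * Nat.card T := by
    set π := QuotientGroup.mk' Q' with hπ
    have hker : π.ker = Q' := QuotientGroup.ker_mk' Q'
    have h1 := Subgroup.relIndex_mul_relIndex (⊥ : Subgroup ↥Y₀) Q' K bot_le hQK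
    rw [Subgroup.relIndex_bot_left, Subgroup.relIndex_bot_left] at h1
    have h2 := Subgroup.relIndex_ker π (K := K)
    rw [hker] at h2
    have h3 : K.map π = T'.map π := by
      apply le_antisymm
      · have hKsup : K = Q' ⊔ T' := by
          rw [hK, hQ', hT']
          exact Subgroup.subgroupOf_sup hQY hTY
        rw [hKsup, Subgroup.map_sup]
        refine sup_le ?_ le_rfl
        rintro _ ⟨q, hq, rfl⟩
        have : π q = 1 := by
          rw [← MonoidHom.mem_ker, hker]; exact hq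
        rw [this]
        exact Subgroup.one_mem _
      · exact Subgroup.map_mono hTK
    rw [h2, h3, hcardQ'] at h1
    rw [← h1]
    exact Nat.mul_dvd_mul_left _ ((Subgroup.card_map_dvd T' π).trans (by rw [hcardT']))
  have hcopK : r.Coprime (Nat.card K) :=
    Nat.Coprime.coprime_dvd_right hKcard (Nat.Coprime.mul_right hrQ hrT)
  have hTx : ∀ t ∈ T', x * t * x⁻¹ ∈ T' := by
    intro t ht
    have : y * t.1 * y⁻¹ ∈ T := hyconjT t.1 ht
    exact this
  have hTQ' : (Nat.card T').Coprime (Nat.card Q') := by rw [hcardT', hcardQ']; exact hcop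
  have hxQ' : ∀ m ∈ Q', x * m * x⁻¹ ∈ Q' := by
    intro m hm
    have : y * m.1 * y⁻¹ ∈ Q := hyconjQ m.1 hm
    exact this
  have hfpf' : ∀ m ∈ Q', x * m = m * x → m = 1 := by
    intro m hm hc
    have h1 : y * m.1 = m.1 * y := congrArg Subtype.val hc
    exact Subtype.ext (hfpf m.1 hm h1)
  have hsurj := surj_of_fpf Q' x hxQ' hfpf'
  intro g hg
  have hgY : g ∈ Y₀ := hTY hg
  have hmain := shult_aux (Nat.card Q') ↥Y₀ hodd K Q' T' hQK hTK x r hr hxr hcopK hTx hTQ' hsurj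
    le_rfl ⟨g, hgY⟩ hg
  rw [Subgroup.mem_centralizer_iff] at hmain ⊢
  intro q hq
  have hq' : q ∈ Q := hq
  have := hmain ⟨q, hQY hq'⟩ hq'
  have h2 := congrArg Subtype.val this
  simpa [commutatorElement_def] using h2

end Cfsg.Agent.H1.BGShult
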