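import Mathlib
import Cfsg.Agent.H1.CoprimeAction

/-! Fixed points in invariant cosets under coprime action (helper1). -/

set_option autoImplicit false
open scoped Pointwise commutatorElement

namespace Cfsg.Agent.H1

/-- coset version of the fixed point lemma (no normality of `D` needed) -/
lemma exists_mul_normalizes_of_coset_fixed {G : Type*} [Group G] [Finite G] (A D : Subgroup G)
    (hDA : A ≤ Subgroup.normalizer (D : Set G))
    (hcop : (Nat.card A).Coprime (Nat.card D)) (hsolv : Group.IsSolvable A ∨ Group.IsSolvable D)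
    (x : G) (hfix : ∀ a ∈ A, x⁻¹ * (a * x * a⁻¹) ∈ D) : ∃ d ∈ D, MulAut.conj (x * d) • A = A := by
  have hB : MulAut.conj x⁻¹ • A ≤ D ⊔ A := by
    intro y hy
    rw [mem_conj_smul, inv_inv] at hy
    have h1 := hfix _ hy
    have e : y = (x⁻¹ * ((x * y * x⁻¹) * x * (x * y * x⁻¹)⁻¹)) * (x * y * x⁻¹) := by group
    rw [e]
    exact mul_mem (Subgroup.mem_sup_left h1) (Subgroup.mem_sup_right hy)
  obtain ⟨n, hn, hnA⟩ := coprime_conj A D (MulAut.conj x⁻¹ • A) hDA hcop hsolv hB (card_conj_smul _ _)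
  refine ⟨n, hn, ?_⟩
  rw [map_mul, mul_smul, hnA, ← mul_smul, ← map_mul, mul_inv_cancel, map_one, one_smul]

end Cfsg.Agent.H1
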