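import Mathlib
import Cfsg.Agent.H1.SylowMore

set_option autoImplicit false

namespace Cfsg.Agent.H1

open scoped Pointwise

section
variable {G : Type*} [Group G] [Finite G]

/-- an element normalizing `⟨x⟩` whose order is coprime to `φ(o(x))` centralizes `x` -/
lemma commute_of_normalizes_coprime_totient (x h : G)
    (hh : h ∈ Subgroup.normalizer ((Subgroup.zpowers x : Subgroup G) : Set G))
    (hcop : (orderOf h).Coprime (Nat.totient (orderOf x))) : h * x = x * h := by
  obtain ⟨a, ha⟩ : ∃ a, a = (Subgroup.zpowers x).normalizerMonoidHom ⟨h, hh⟩ := ⟨_, rfl⟩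
  have h1 : orderOf a ∣ orderOf h := by
    rw [ha]
    have : orderOf (⟨h, hh⟩ : Subgroup.normalizer ((Subgroup.zpowers x : Subgroup G) : Set G)) = orderOf h := by
      rw [← Subgroup.orderOf_coe]
    rw [← this]
    exact orderOf_map_dvd _ _
  have h2 : orderOf a ∣ Nat.totient (orderOf x) := by
    have h3 : Nat.card (MulAut (Subgroup.zpowers x)) = Nat.totient (Nat.card (Subgroup.zpowers x)) :=
      IsCyclic.card_mulAut (Subgroup.zpowers x)
    rw [Nat.card_zpowers] at h3
    rw [← h3]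
    exact orderOf_dvd_natCard a
  have h4 : orderOf a = 1 := Nat.eq_one_of_dvd_coprimes hcop h1 h2
  rw [orderOf_eq_one_iff] at h4
  have h5 : a ⟨x, Subgroup.mem_zpowers x⟩ = ⟨x, Subgroup.mem_zpowers x⟩ := by rw [h4]; rfl
  rw [ha] at h5
  have h6 := congrArg Subtype.val h5
  rw [Subgroup.normalizerMonoidHom_apply_apply_coe] at h6
  calc h * x = h * x * h⁻¹ * h := by group
    _ = x * h := by rw [h6]

/-- `v` normalizes `⟨y⟩` as soon as `v y v⁻¹ ∈ ⟨y⟩` -/
lemma mem_normalizer_zpowers_of_conj_mem (v y : G) (h : v * y * v⁻¹ ∈ Subgroup.zpowers y) :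
    v ∈ Subgroup.normalizer ((Subgroup.zpowers y : Subgroup G) : Set G) := by
  apply mem_normalizer_of_map_conj_le
  intro w hw
  obtain ⟨a, ha, rfl⟩ := Subgroup.mem_map.1 hw
  obtain ⟨k, rfl⟩ := Subgroup.mem_zpowers_iff.1 ha
  simp only [MulEquiv.coe_toMonoidHom, MulAut.conj_apply]
  have : v * y ^ k * v⁻¹ = (v * y * v⁻¹) ^ k := by
    rw [conj_zpow]
  rw [this]
  exact Subgroup.zpow_mem _ h k

theorem two_irrational_iff_sylow (P : Sylow 2 G) :
    (∀ x : G, (∀ r : ℕ, r.Prime → r ∣ orderOf x → r = 2) →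
      Subgroup.normalizer ((Subgroup.zpowers x : Subgroup G) : Set G) ≤ Subgroup.centralizer {x}) ↔
    (∀ y : ↥(P : Subgroup G), Subgroup.normalizer ((Subgroup.zpowers y : Subgroup ↥(P : Subgroup G)) : Set ↥(P : Subgroup G)) ≤
        Subgroup.centralizer {y}) := by
  constructor
  · intro hG y v hv
    have hy2 : ∀ r : ℕ, r.Prime → r ∣ orderOf (y : G) → r = 2 := by
      intro r hr hrd
      obtain ⟨k, hk⟩ := (IsPGroup.iff_orderOf.1 P.2) y
      rw [Subgroup.orderOf_coe, hk] at hrd
      exact (Nat.prime_dvd_prime_iff_eq hr Nat.prime_two).1 (hr.dvd_of_dvd_pow hrd)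
    have h1 : (v : G) ∈ Subgroup.normalizer ((Subgroup.zpowers (y : G) : Subgroup G) : Set G) := by
      apply mem_normalizer_zpowers_of_conj_mem
      have h2 := (Subgroup.mem_normalizer_iff.1 hv y).1 (Subgroup.mem_zpowers y)
      obtain ⟨k, hk⟩ := Subgroup.mem_zpowers_iff.1 h2
      rw [Subgroup.mem_zpowers_iff]
      refine ⟨k, ?_⟩
      have := congrArg Subtype.val hk
      simpa using this
    have h3 := hG (y : G) hy2 h1
    rw [Subgroup.mem_centralizer_iff] at h3 ⊢
    intro w hw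
    rw [Set.mem_singleton_iff] at hw
    rw [hw]
    apply Subtype.ext
    exact h3 (y : G) rfl
  · intro hP x hx g hg
    -- restate hP in G
    have hP' : ∀ (Q : Sylow 2 G) (y v : G), y ∈ Q → v ∈ Q → v * y * v⁻¹ ∈ Subgroup.zpowers y → v * y = y * v := by
      intro Q y v hyQ hvQ hvy
      obtain ⟨c, hc⟩ := MulAction.exists_smul_eq G Q P
      -- conj by c sends Q to P
      have hcy : c * y * c⁻¹ ∈ (P : Subgroup G) := by
        rw [← hc, Sylow.coe_subgroup_smul] -- pointwise
        exact Subgroup.smul_mem_pointwise_smul y (MulAut.conj c) _ hyQ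
      have hcv : c * v * c⁻¹ ∈ (P : Subgroup G) := by
        rw [← hc, Sylow.coe_subgroup_smul]
        exact Subgroup.smul_mem_pointwise_smul v (MulAut.conj c) _ hvQ
      obtain ⟨k, hk⟩ := Subgroup.mem_zpowers_iff.1 hvy
      have h1 : (⟨c * v * c⁻¹, hcv⟩ : (P : Subgroup G)) ∈ Subgroup.normalizer
          ((Subgroup.zpowers (⟨c * y * c⁻¹, hcy⟩ : (P : Subgroup G)) : Subgroup (P : Subgroup G)) :
            Set (P : Subgroup G)) := by
        apply mem_normalizer_zpowers_of_conj_mem
        rw [Subgroup.mem_zpowers_iff]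
        refine ⟨k, ?_⟩
        apply Subtype.ext
        simp only [Subgroup.coe_zpow, Subgroup.coe_mul, Subgroup.coe_inv]
        rw [conj_zpow, hk]; group
      have h2 := hP _ h1
      rw [Subgroup.mem_centralizer_iff] at h2
      have h3 := congrArg Subtype.val (h2 _ rfl)
      simp only [Subgroup.coe_mul] at h3
      calc v * y = c⁻¹ * (c * v * c⁻¹ * (c * y * c⁻¹)) * c := by group
        _ = c⁻¹ * (c * y * c⁻¹ * (c * v * c⁻¹)) * c := by rw [h3]
        _ = y * v := by group
    obtain ⟨a, m, hm, hom⟩ := Nat.exists_eq_two_pow_mul_odd (orderOf_pos g).ne'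
    have hg1 : g ^ (2 ^ a) ∈ Subgroup.normalizer ((Subgroup.zpowers x : Subgroup G) : Set G) :=
      Subgroup.pow_mem _ hg _
    have hg2 : g ^ m ∈ Subgroup.normalizer ((Subgroup.zpowers x : Subgroup G) : Set G) :=
      Subgroup.pow_mem _ hg _
    have ho1 : orderOf (g ^ (2 ^ a)) = m := by
      rw [orderOf_pow_of_dvd (pow_ne_zero _ two_ne_zero) (hom ▸ Dvd.intro _ rfl), hom,
        Nat.mul_div_cancel_left _ (pow_pos two_pos a)]
    have hm0 : m ≠ 0 := by
      rintro rfl
      simp at hm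
    have ho2 : orderOf (g ^ m) = 2 ^ a := by
      rw [orderOf_pow_of_dvd hm0
        (hom ▸ Dvd.intro_left _ rfl), hom, Nat.mul_div_cancel _ (Nat.pos_of_ne_zero hm0)]
    have hxo : orderOf x = 2 ^ (orderOf x).primeFactorsList.length :=
      Nat.eq_prime_pow_of_unique_prime_dvd (orderOf_pos x).ne' (fun {d} hd hdd => hx d hd hdd)
    obtain ⟨b, hb⟩ : ∃ b, orderOf x = 2 ^ b := ⟨_, hxo⟩
    have hc1 : g ^ (2 ^ a) * x = x * g ^ (2 ^ a) := by
      apply commute_of_normalizes_coprime_totient x _ hg1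
      rw [ho1, hb]
      rcases Nat.eq_zero_or_pos b with h0 | h0
      · rw [h0, pow_zero, Nat.totient_one]; exact Nat.coprime_one_right _
      · rw [Nat.totient_prime_pow Nat.prime_two h0]
        apply Nat.Coprime.mul_right
        · exact Nat.Coprime.pow_right _ (Nat.coprime_two_right.2 hm)
        · exact Nat.coprime_one_right _
    have hc2 : g ^ m * x = x * g ^ m := by
      have hp1 : IsPGroup 2 (Subgroup.zpowers (g ^ m)) := by
        apply IsPGroup.of_card (n := a)
        rw [Nat.card_zpowers, ho2]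
      have hp2 : IsPGroup 2 (Subgroup.zpowers x) := by
        apply IsPGroup.of_card (n := b)
        rw [Nat.card_zpowers, hb]
      have hle : Subgroup.zpowers (g ^ m) ≤ Subgroup.normalizer ((Subgroup.zpowers x : Subgroup G) : Set G) :=
        Subgroup.zpowers_le.2 hg2
      have hp3 := IsPGroup.to_sup_of_normal_right' hp1 hp2 hle
      obtain ⟨Q, hQ⟩ := hp3.exists_le_sylow
      apply hP' Q x (g ^ m) (hQ (Subgroup.mem_sup_right (Subgroup.mem_zpowers x)))
        (hQ (Subgroup.mem_sup_left (Subgroup.mem_zpowers _)))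
      exact (Subgroup.mem_normalizer_iff.1 hg2 x).1 (Subgroup.mem_zpowers x)
    have hcop : Nat.Coprime (2 ^ a) m := Nat.Coprime.pow_left _ (Nat.coprime_two_left.2 hm)
    have hbez := Nat.gcd_eq_gcd_ab (2 ^ a) m
    rw [hcop.gcd_eq_one] at hbez
    have hgdecomp : g = (g ^ (2 ^ a)) ^ (Nat.gcdA (2 ^ a) m) * (g ^ m) ^ (Nat.gcdB (2 ^ a) m) := by
      rw [← zpow_natCast, ← zpow_natCast, ← zpow_mul, ← zpow_mul, ← zpow_add, ← hbez]
      simp
    rw [hgdecomp]
    apply Subgroup.mul_mem
    · apply Subgroup.zpow_mem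
      rw [Subgroup.mem_centralizer_iff]
      intro w hw
      rw [Set.mem_singleton_iff] at hw
      rw [hw]; exact hc1.symm
    · apply Subgroup.zpow_mem
      rw [Subgroup.mem_centralizer_iff]
      intro w hw
      rw [Set.mem_singleton_iff] at hw
      rw [hw]; exact hc2.symm

end

end Cfsg.Agent.H1
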