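import Mathlib
import Cfsg.Agent.H1.SylowMore
import Cfsg.Agent.H1.ConjMap
import Cfsg.Agent.H1.TwoIrrational

set_option autoImplicit false

namespace Cfsg.Agent.H1

section
variable {G : Type*} [Group G] [Finite G]

/-- a fixed-point-free involution on a finite subgroup inverts every element -/
lemma fpf_invol_inverts (S : Subgroup G) (t : G) (ht : t * t = 1)
    (htS : t ∈ Subgroup.normalizer (S : Set G))
    (hfix : ∀ s ∈ S, t * s * t⁻¹ = s → s = 1) : ∀ s ∈ S, t * s * t⁻¹ = s⁻¹ := by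
  have htinv : t⁻¹ = t := inv_eq_of_mul_eq_one_right ht
  have hconj : ∀ s ∈ S, t * s * t⁻¹ ∈ S := fun s hs => (Subgroup.mem_normalizer_iff.1 htS s).1 hs
  let f : S → S := fun s => ⟨(s : G)⁻¹ * (t * s * t⁻¹), S.mul_mem (S.inv_mem s.2) (hconj s s.2)⟩
  have hinj : Function.Injective f := by
    intro r s hrs
    have h1 : (r : G)⁻¹ * (t * r * t⁻¹) = (s : G)⁻¹ * (t * s * t⁻¹) := congrArg Subtype.val hrs
    have h2 : t * ((s : G) * (r : G)⁻¹) * t⁻¹ = (s : G) * (r : G)⁻¹ := by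
      have e1 : t * ((s : G) * (r : G)⁻¹) * t⁻¹ = (t * s * t⁻¹) * (t * r * t⁻¹)⁻¹ := by group
      have e2 : t * r * t⁻¹ = (r : G) * ((s : G)⁻¹ * (t * s * t⁻¹)) := by rw [← h1]; group
      rw [e1, e2]; group
    have h3 := hfix _ (S.mul_mem s.2 (S.inv_mem r.2)) h2
    apply Subtype.ext
    exact (mul_inv_eq_one.1 h3).symm
  have hsurj : Function.Surjective f := Finite.surjective_of_injective hinj
  intro s hs
  obtain ⟨r, hr⟩ := hsurj ⟨s, hs⟩
  have hr' : (r : G)⁻¹ * (t * r * t⁻¹) = s := congrArg Subtype.val hr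
  rw [← hr']
  calc t * ((r : G)⁻¹ * (t * r * t⁻¹)) * t⁻¹ = t * (r : G)⁻¹ * t * r * (t * t)⁻¹ := by group
    _ = t * (r : G)⁻¹ * t * r := by rw [ht, inv_one, mul_one]
    _ = t * (r : G)⁻¹ * t⁻¹ * r := by rw [htinv]
    _ = ((r : G)⁻¹ * (t * r * t⁻¹))⁻¹ := by group

/-- If `t` inverts `x ≠ 1` of odd order and `S` is a Sylow `p`-subgroup of `C_G(x)`, then
`N_G(S)` has even order. -/
lemma even_card_normalizer_of_inverted {p : ℕ} [Fact p.Prime] (x t : G) (hx1 : x ≠ 1)
    (hxodd : Odd (orderOf x)) (htx : t * x * t⁻¹ = x⁻¹) (S : Subgroup G)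
    (hSC : S ≤ Subgroup.centralizer {x}) (hS : IsPGroup p S)
    (hidx : ¬ p ∣ S.relIndex (Subgroup.centralizer {x})) :
    Even (Nat.card (Subgroup.normalizer (S : Set G))) := by
  obtain ⟨C, hC⟩ : ∃ C, C = Subgroup.centralizer ({x} : Set G) := ⟨_, rfl⟩
  rw [← hC] at hSC hidx
  have hmemC : ∀ c : G, c ∈ C ↔ Commute c x := by
    intro c
    rw [hC, Subgroup.mem_centralizer_singleton_iff]
    exact Iff.rfl
  have hsc : SemiconjBy t x x⁻¹ := by
    show t * x = x⁻¹ * t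
    rw [← htx]; group
  have hsc' : SemiconjBy t x⁻¹ x := by
    have := hsc.inv_right
    rwa [inv_inv] at this
  -- t normalizes C
  have htC : ∀ c ∈ C, t * c * t⁻¹ ∈ C := by
    intro c hc
    rw [hmemC] at hc ⊢
    have h1 : SemiconjBy (t * c) x⁻¹ x := SemiconjBy.mul_left hsc' hc.inv_right
    have h2 : SemiconjBy t⁻¹ x x⁻¹ := hsc'.inv_symm_left
    exact SemiconjBy.mul_left h1 h2
  have hQC : S.map (MulAut.conj t).toMonoidHom ≤ C := by
    rintro _ ⟨s, hs, rfl⟩
    exact htC s (hSC hs)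
  obtain ⟨k, hkC, hle⟩ := exists_le_map_conj_of_pgroup C S (S.map (MulAut.conj t).toMonoidHom)
    hSC hS hidx hQC (hS.map _)
  have hgN : k⁻¹ * t ∈ Subgroup.normalizer (S : Set G) := by
    apply mem_normalizer_of_map_conj_le
    rintro _ ⟨s, hs, rfl⟩
    have h1 : (MulAut.conj t).toMonoidHom s ∈ S.map (MulAut.conj k).toMonoidHom :=
      hle (Subgroup.mem_map_of_mem _ hs)
    obtain ⟨z, hz, hzs⟩ := Subgroup.mem_map.1 h1
    simp only [MulEquiv.coe_toMonoidHom, MulAut.conj_apply] at hzs ⊢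
    have : k⁻¹ * t * s * (k⁻¹ * t)⁻¹ = k⁻¹ * (t * s * t⁻¹) * k := by group
    rw [this, ← hzs]
    have : k⁻¹ * (k * z * k⁻¹) * k = z := by group
    rw [this]; exact hz
  have hgx : SemiconjBy (k⁻¹ * t) x x⁻¹ := by
    have hk : Commute k x := (hmemC k).1 hkC
    exact SemiconjBy.mul_left (hk.inv_left.inv_right) hsc
  -- order of g is even
  have hgeven : Even (orderOf (k⁻¹ * t)) := by
    rcases Nat.even_or_odd (orderOf (k⁻¹ * t)) with h | ⟨j, hj⟩
    · exact h
    · exfalso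
      have hcomm2 : Commute ((k⁻¹ * t) * (k⁻¹ * t)) x := by
        have hgx' : SemiconjBy (k⁻¹ * t) x⁻¹ x := by
          have := hgx.inv_right
          rwa [inv_inv] at this
        exact hgx'.mul_left hgx
      have h1 : SemiconjBy ((k⁻¹ * t) ^ (2 * j + 1)) x x⁻¹ := by
        rw [pow_succ, pow_mul, pow_two]
        exact SemiconjBy.mul_left ((hcomm2.pow_left j).inv_right) hgx
      rw [← hj, pow_orderOf_eq_one] at h1
      have h2 : x = x⁻¹ := by
        have : 1 * x = x⁻¹ * 1 := h1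
        rwa [one_mul, mul_one] at this
      have h3 : x ^ 2 = 1 := by
        rw [pow_two]
        nth_rewrite 1 [h2]
        exact inv_mul_cancel x
      have h4 : orderOf x ∣ 2 := orderOf_dvd_of_pow_eq_one h3
      have h5 : orderOf x = 1 := Nat.Coprime.eq_one_of_dvd (Nat.coprime_two_right.2 hxodd) h4
      exact hx1 (orderOf_eq_one_iff.1 h5)
  have hdvd : orderOf (k⁻¹ * t) ∣ Nat.card (Subgroup.normalizer (S : Set G)) := by
    have := orderOf_dvd_natCard (⟨k⁻¹ * t, hgN⟩ : Subgroup.normalizer (S : Set G))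
    rwa [Subgroup.orderOf_mk] at this
  exact (even_iff_two_dvd.2 ((even_iff_two_dvd.1 hgeven).trans hdvd))


theorem even_normalizer_sylow_of_odd_centralizers (p : ℕ) [Fact p.Prime] (hp2 : p ≠ 2)
    (hpG : p ∣ Nat.card G)
    (hC : ∀ g : G, g ≠ 1 → (∃ k : ℕ, orderOf g = p ^ k) →
      Odd (Nat.card ↥(Subgroup.centralizer ({g} : Set G))))
    (Q : Subgroup G) (hQ : IsPGroup p ↥Q) (hQ1 : Q ≠ ⊥)
    (hev : Even (Nat.card ↥(Subgroup.normalizer (Q : Set G)))) (P : Sylow p G) :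
    Even (Nat.card ↥(Subgroup.normalizer ((P : Subgroup G) : Set G))) := by
  have hpp : p.Prime := Fact.out
  have hpodd : Odd p := hpp.odd_of_ne_two hp2
  haveI : Fact (Nat.Prime 2) := ⟨Nat.prime_two⟩
  -- an involution never centralizes a nontrivial p-element
  have hnc : ∀ (t s : G), orderOf t = 2 → s ≠ 1 → (∃ k : ℕ, orderOf s = p ^ k) → t * s * t⁻¹ ≠ s := by
    intro t s ht hs1 hsp hts
    have hodd := hC s hs1 hsp
    have hmem : t ∈ Subgroup.centralizer ({s} : Set G) := by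
      rw [Subgroup.mem_centralizer_singleton_iff]
      calc t * s = t * s * t⁻¹ * t := by group
        _ = s * t := by rw [hts]
    have hd := orderOf_dvd_natCard (⟨t, hmem⟩ : Subgroup.centralizer ({s} : Set G))
    rw [Subgroup.orderOf_mk, ht] at hd
    exact (Nat.not_even_iff_odd.2 hodd) (even_iff_two_dvd.2 hd)
  have hodd_of_pow : ∀ s : G, (∃ k : ℕ, orderOf s = p ^ k) → Odd (orderOf s) := by
    rintro s ⟨k, hk⟩
    rw [hk]; exact hpodd.pow
  have hinvol : ∀ N : Subgroup G, Even (Nat.card N) → ∃ t ∈ N, orderOf t = 2 := by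
    intro N hN
    obtain ⟨t, ht⟩ := exists_prime_orderOf_dvd_card' 2 (even_iff_two_dvd.1 hN)
    exact ⟨t, t.2, by rw [Subgroup.orderOf_coe]; exact ht⟩
  -- step 1
  obtain ⟨t, htN, ht2⟩ := hinvol _ hev
  obtain ⟨q, hqQ, hq1⟩ := (Subgroup.ne_bot_iff_exists_ne_one).1 hQ1 |>.elim
    (fun q hq => (⟨(q : G), q.2, fun h => hq (Subtype.ext h)⟩ : ∃ q : G, q ∈ Q ∧ q ≠ 1))
  have hQpow : ∀ s ∈ Q, ∃ k : ℕ, orderOf s = p ^ k := by
    intro s hs
    obtain ⟨k, hk⟩ := (IsPGroup.iff_orderOf.1 hQ) ⟨s, hs⟩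
    exact ⟨k, by rw [← hk, Subgroup.orderOf_mk]⟩
  have htt : t * t = 1 := by rw [← pow_two, ← ht2]; exact pow_orderOf_eq_one t
  have htinv : t⁻¹ = t := inv_eq_of_mul_eq_one_right htt
  obtain ⟨x, hxdef⟩ : ∃ x, x = q⁻¹ * (t * q * t⁻¹) := ⟨_, rfl⟩
  have hxQ : x ∈ Q := by
    rw [hxdef]
    exact Q.mul_mem (Q.inv_mem hqQ) ((Subgroup.mem_normalizer_iff.1 htN q).1 hqQ)
  have hx1 : x ≠ 1 := by
    intro h
    rw [hxdef, inv_mul_eq_one] at h
    exact hnc t q ht2 hq1 (hQpow q hqQ) h.symm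
  have htx : t * x * t⁻¹ = x⁻¹ := by
    rw [hxdef]
    calc t * (q⁻¹ * (t * q * t⁻¹)) * t⁻¹ = t * q⁻¹ * t * q * (t * t)⁻¹ := by group
      _ = t * q⁻¹ * t * q := by rw [htt, inv_one, mul_one]
      _ = t * q⁻¹ * t⁻¹ * q := by rw [htinv]
      _ = (q⁻¹ * (t * q * t⁻¹))⁻¹ := by group
  -- step 2
  obtain ⟨C, hCdef⟩ : ∃ C, C = Subgroup.centralizer ({x} : Set G) := ⟨_, rfl⟩
  obtain ⟨S₀⟩ : Nonempty (Sylow p C) := inferInstance
  obtain ⟨S, hSdef⟩ : ∃ S, S = (S₀ : Subgroup C).map C.subtype := ⟨_, rfl⟩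
  have hSC : S ≤ C := by rw [hSdef]; exact Subgroup.map_subtype_le _
  have hSp : IsPGroup p S := by rw [hSdef]; exact S₀.2.map _
  have hSidx : ¬ p ∣ S.relIndex C := by
    have e : ((S₀ : Subgroup C).map C.subtype).subgroupOf C = S₀ :=
      Subgroup.comap_map_eq_self_of_injective C.subtype_injective _
    have : S.relIndex C = (S₀ : Subgroup C).index := by
      rw [hSdef, Subgroup.relIndex, e]
    rw [this]; exact S₀.not_dvd_index
  have hNS : Even (Nat.card (Subgroup.normalizer (S : Set G))) :=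
    even_card_normalizer_of_inverted x t hx1 (hodd_of_pow x (hQpow x hxQ)) htx S (hCdef ▸ hSC) hSp
      (hCdef ▸ hSidx)
  obtain ⟨t₁, ht₁N, ht₁2⟩ := hinvol _ hNS
  have ht₁t₁ : t₁ * t₁ = 1 := by rw [← pow_two, ← ht₁2]; exact pow_orderOf_eq_one t₁
  have hSpow : ∀ s ∈ S, ∃ k : ℕ, orderOf s = p ^ k := by
    intro s hs
    obtain ⟨k, hk⟩ := (IsPGroup.iff_orderOf.1 hSp) ⟨s, hs⟩
    exact ⟨k, by rw [← hk, Subgroup.orderOf_mk]⟩
  have hinvS : ∀ s ∈ S, t₁ * s * t₁⁻¹ = s⁻¹ := by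
    apply fpf_invol_inverts S t₁ ht₁t₁ ht₁N
    intro s hs hfix
    by_contra hs1
    exact hnc t₁ s ht₁2 hs1 (hSpow s hs) hfix
  -- step 3
  have hmemC : ∀ c : G, c ∈ C ↔ Commute c x := by
    intro c
    rw [hCdef, Subgroup.mem_centralizer_singleton_iff]
    exact Iff.rfl
  obtain ⟨P', hSP'⟩ := hSp.exists_le_sylow
  -- any p-subgroup T of C containing S equals S
  have hmaxS : ∀ T : Subgroup G, T ≤ C → IsPGroup p T → S ≤ T → T = S := by
    intro T hTC hTp hST
    obtain ⟨k, hkC, hle⟩ := exists_le_map_conj_of_pgroup C S T hSC hSp hSidx hTC hTp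
    symm
    apply Subgroup.eq_of_le_of_card_ge hST
    calc Nat.card T ≤ Nat.card (S.map (MulAut.conj k).toMonoidHom) := Subgroup.card_le_of_le hle
      _ = Nat.card S := Subgroup.card_map_of_injective (MulAut.conj k).injective
  have hmemS : ∀ y : G, (∃ k : ℕ, orderOf y = p ^ k) → y ∈ C → (∀ s ∈ S, Commute s y) → y ∈ S := by
    intro y ⟨k, hk⟩ hyC hcomm
    have hp1 : IsPGroup p (Subgroup.zpowers y) := by
      apply IsPGroup.of_card (n := k)
      rw [Nat.card_zpowers, hk]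
    have hle : S ≤ Subgroup.normalizer ((Subgroup.zpowers y : Subgroup G) : Set G) := by
      intro s hs
      apply mem_normalizer_zpowers_of_conj_mem
      rw [(hcomm s hs).eq, mul_inv_cancel_right]
      exact Subgroup.mem_zpowers y
    have hp2 := IsPGroup.to_sup_of_normal_right' hSp hp1 hle
    have h1 := hmaxS (S ⊔ Subgroup.zpowers y) (sup_le hSC (Subgroup.zpowers_le.2 hyC)) hp2 le_sup_left
    rw [← h1]
    exact Subgroup.mem_sup_right (Subgroup.mem_zpowers y)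
  have hxS : x ∈ S := hmemS x (hQpow x hxQ) ((hmemC x).2 (Commute.refl x))
    (fun s hs => (hmemC s).1 (hSC hs))
  -- nontrivial central element of P'
  have hP'nt : Nontrivial (P' : Subgroup G) := by
    have h1 : p ∣ Nat.card (P' : Subgroup G) := by
      obtain ⟨n, hn⟩ := P'.2.exists_card_eq
      rcases Nat.eq_zero_or_pos n with h0 | h0
      · exfalso
        rw [h0, pow_zero] at hn
        have h2 := (P' : Subgroup G).card_mul_index
        rw [hn, one_mul] at h2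
        exact P'.not_dvd_index (h2 ▸ hpG)
      · rw [hn]; exact dvd_pow_self p h0.ne'
    rw [← Finite.one_lt_card_iff_nontrivial]
    exact lt_of_lt_of_le hpp.one_lt (Nat.le_of_dvd Nat.card_pos h1)
  have hcnt := P'.2.center_nontrivial
  obtain ⟨⟨z₀, hz₀c⟩, hz₀1⟩ := exists_ne (1 : Subgroup.center (P' : Subgroup G))
  obtain ⟨z, hzdef⟩ : ∃ z : G, z = (z₀ : G) := ⟨_, rfl⟩
  have hzP' : z ∈ (P' : Subgroup G) := by rw [hzdef]; exact z₀.2
  have hz1 : z ≠ 1 := by
    intro h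
    apply hz₀1
    apply Subtype.ext
    apply Subtype.ext
    rw [hzdef] at h
    exact h
  have hzcomm : ∀ s ∈ (P' : Subgroup G), Commute s z := by
    intro s hs
    have := Subgroup.mem_center_iff.1 hz₀c ⟨s, hs⟩
    have h2 := congrArg Subtype.val this
    rw [hzdef]
    exact h2
  have hzpow : ∃ k : ℕ, orderOf z = p ^ k := by
    obtain ⟨k, hk⟩ := (IsPGroup.iff_orderOf.1 P'.2) ⟨z, hzP'⟩
    exact ⟨k, by rw [← hk, Subgroup.orderOf_mk]⟩
  have hzS : z ∈ S := hmemS z hzpow ((hmemC z).2 (hzcomm x (hSP' hxS)).symm)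
    (fun s hs => hzcomm s (hSP' hs))
  -- step 4
  have hP'Cz : (P' : Subgroup G) ≤ Subgroup.centralizer ({z} : Set G) := by
    intro s hs
    rw [Subgroup.mem_centralizer_singleton_iff]
    exact (hzcomm s hs).eq
  have hP'idx : ¬ p ∣ (P' : Subgroup G).relIndex (Subgroup.centralizer ({z} : Set G)) := by
    intro hd
    have := Subgroup.relIndex_mul_index hP'Cz
    exact P'.not_dvd_index (this ▸ Dvd.dvd.mul_right hd _)
  have hNP' : Even (Nat.card (Subgroup.normalizer ((P' : Subgroup G) : Set G))) :=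
    even_card_normalizer_of_inverted z t₁ hz1 (hodd_of_pow z hzpow) (hinvS z hzS) (P' : Subgroup G)
      hP'Cz P'.2 hP'idx
  -- transfer to P
  have e1 : (Subgroup.normalizer ((P : Subgroup G) : Set G)).index =
      (Subgroup.normalizer ((P' : Subgroup G) : Set G)).index := by
    have a1 : Nat.card (Sylow p G) = (Subgroup.normalizer ((P : Subgroup G) : Set G)).index :=
      Sylow.card_eq_index_normalizer P
    have a2 : Nat.card (Sylow p G) = (Subgroup.normalizer ((P' : Subgroup G) : Set G)).index :=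
      Sylow.card_eq_index_normalizer P'
    rw [← a1, ← a2]
  have e2 := (Subgroup.normalizer ((P : Subgroup G) : Set G)).card_mul_index
  have e3 := (Subgroup.normalizer ((P' : Subgroup G) : Set G)).card_mul_index
  rw [e1, ← e3] at e2
  have hpos : 0 < (Subgroup.normalizer ((P' : Subgroup G) : Set G)).index :=
    Nat.pos_of_ne_zero Subgroup.index_ne_zero_of_finite
  rw [Nat.eq_of_mul_eq_mul_right hpos e2]
  exact hNP'

end

end Cfsg.Agent.H1
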