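import Mathlib
import Cfsg.Agent.H1.MinNonPClosed
import Cfsg.Agent.H1.PGroup
import Cfsg.Agent.H1.Frattini
import Cfsg.Agent.H1.AlperinOmega
import Cfsg.Agent.H2.CyclicDerivedRegular
import Cfsg.Agent.S0027
import Cfsg.Agent.S0056
import Cfsg.Agent.S0119
import Cfsg.Prelude.Def_Transfer

set_option autoImplicit false
set_option linter.unusedVariables false
set_option linter.unusedSectionVars false
set_option linter.style.haveILetI false

namespace Cfsg.Agent.H1

open Cfsg

universe u

open scoped commutatorElement Pointwise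

section minact
variable {X : Type u} [Group X] [Finite X]

/-- the conjugation action of a subgroup `A ≤ N(P)` on `P` -/
def conjHom (A P : Subgroup X) (hAP : A ≤ Subgroup.normalizer (P : Set X)) : ↥A →* MulAut ↥P :=
  P.normalizerMonoidHom.comp (Subgroup.inclusion hAP)

lemma conjHom_apply (A P : Subgroup X) (hAP : A ≤ Subgroup.normalizer (P : Set X)) (a : ↥A) (x : ↥P) :
    ((conjHom A P hAP a x : ↥P) : X) = (a : X) * (x : X) * (a : X)⁻¹ := rfl

/-- `[P, A] = P` in terms of the conjugation action -/
lemma closure_conjHom_eq_top (A P : Subgroup X) (hAP : A ≤ Subgroup.normalizer (P : Set X))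
    (h : ⁅P, A⁆ = P) :
    Subgroup.closure {x : ↥P | ∃ g : ↥P, ∃ b : ↥A, x = g⁻¹ * conjHom A P hAP b g} = ⊤ := by
  rw [eq_top_iff]
  intro x _
  have hx : (x : X) ∈ ⁅P, A⁆ := by rw [h]; exact x.2
  have hle : ⁅P, A⁆ ≤ (Subgroup.closure {x : ↥P | ∃ g : ↥P, ∃ b : ↥A,
      x = g⁻¹ * conjHom A P hAP b g}).map P.subtype := by
    rw [Subgroup.commutator_le]
    intro y hy b hb
    refine Subgroup.mem_map.2 ⟨(⟨y, hy⟩⁻¹ : ↥P)⁻¹ * conjHom A P hAP ⟨b, hb⟩ (⟨y, hy⟩⁻¹ : ↥P),
      Subgroup.subset_closure ⟨_, _, rfl⟩, ?_⟩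
    rw [commutatorElement_def]
    simp only [Subgroup.coe_subtype, Subgroup.coe_mul, Subgroup.coe_inv, conjHom_apply]
    group
  exact (Subgroup.mem_map_iff_mem P.subtype_injective).1 (hle hx)

/-- if `[P, A] = P` for a coprime action on a `p`-group then `C_P(A) ≤ P'` -/
lemma inf_centralizer_le_commutator_of_commutator_eq {p : ℕ} [Fact p.Prime] (A P : Subgroup X)
    (hAP : A ≤ Subgroup.normalizer (P : Set X)) (hP : IsPGroup p ↥P)
    (hcop : (Nat.card ↥A).Coprime p) (h : ⁅P, A⁆ = P) :
    P ⊓ Subgroup.centralizer (A : Set X) ≤ ⁅P, P⁆ := by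
  classical
  haveI : Fintype ↥A := Fintype.ofFinite _
  let ν : ↥P →* Abelianization ↥P :=
    { toFun := fun x => ∏ a : ↥A, Abelianization.of (conjHom A P hAP a x)
      map_one' := by simp
      map_mul' := fun x y => by simp [Finset.prod_mul_distrib] }
  have hν : ∀ x, ν x = ∏ a : ↥A, Abelianization.of (conjHom A P hAP a x) := fun _ => rfl
  have hinv : ∀ (b : ↥A) (x : ↥P), ν (conjHom A P hAP b x) = ν x := by
    intro b x
    rw [hν, hν]
    apply Fintype.prod_equiv (Equiv.mulRight b)
    intro a
    simp [map_mul]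
  have hker : ν.ker = ⊤ := by
    rw [eq_top_iff, ← closure_conjHom_eq_top A P hAP h, Subgroup.closure_le]
    rintro x ⟨g, b, rfl⟩
    rw [SetLike.mem_coe, MonoidHom.mem_ker, map_mul, map_inv, hinv, inv_mul_cancel]
  intro x hx
  obtain ⟨hxP, hxC⟩ := Subgroup.mem_inf.1 hx
  have hfix : ∀ a : ↥A, conjHom A P hAP a ⟨x, hxP⟩ = ⟨x, hxP⟩ := by
    intro a
    apply Subtype.ext
    rw [conjHom_apply]
    have h1 := (Subgroup.mem_centralizer_iff.1 hxC) a a.2
    show (a : X) * x * (a : X)⁻¹ = x
    rw [h1]; group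
  have h1 : (Abelianization.of (⟨x, hxP⟩ : ↥P)) ^ Nat.card ↥A = 1 := by
    have h0 : (⟨x, hxP⟩ : ↥P) ∈ ν.ker := by rw [hker]; exact Subgroup.mem_top _
    have := MonoidHom.mem_ker.1 h0
    rw [hν] at this
    simp only [hfix] at this
    rw [Finset.prod_const, Finset.card_univ, ← Nat.card_eq_fintype_card] at this
    exact this
  obtain ⟨k, hk⟩ := hP ⟨x, hxP⟩
  have h2 : (Abelianization.of (⟨x, hxP⟩ : ↥P)) ^ (p ^ k) = 1 := by rw [← map_pow, hk, map_one]
  have h3 : Abelianization.of (⟨x, hxP⟩ : ↥P) = 1 := by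
    have hc : Nat.gcd (Nat.card ↥A) (p ^ k) = 1 := hcop.pow_right k
    have := pow_gcd_eq_one.2 ⟨h1, h2⟩
    rwa [hc, pow_one] at this
  have h4 : (⟨x, hxP⟩ : ↥P) ∈ commutator ↥P := by
    rw [← Abelianization.ker_of]; exact MonoidHom.mem_ker.2 h3
  have := Subgroup.mem_map_of_mem P.subtype h4
  rw [Subgroup.map_subtype_commutator] at this
  exact this

/-- characteristic subgroups of `P` are normalized by `N(P)` -/
lemma normalizer_le_normalizer_map_of_characteristic (P : Subgroup X) (H : Subgroup ↥P)
    [hH : H.Characteristic] :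
    Subgroup.normalizer (P : Set X) ≤ Subgroup.normalizer ((H.map P.subtype : Subgroup X) : Set X) := by
  intro b hb
  apply mem_normalizer_of_conj_mem
  rintro _ ⟨h, hh, rfl⟩
  have h1 := (Subgroup.characteristic_iff_map_le.1 hH) (P.normalizerMonoidHom ⟨b, hb⟩)
  have h2 : P.normalizerMonoidHom ⟨b, hb⟩ h ∈ H := h1 (Subgroup.mem_map_of_mem _ hh)
  exact Subgroup.mem_map.2 ⟨_, h2, rfl⟩

/-- **Hall–Higman reduction for a minimal non-trivial action.** -/
theorem minimal_action_structure {p : ℕ} [hp : Fact p.Prime] (B A P : Subgroup X) (hP : IsPGroup p P)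
    (hBP : B ≤ Subgroup.normalizer (P : Set X)) (hAB : A ≤ B)
    (hAn : B ≤ Subgroup.normalizer (A : Set X)) (hAp : (Nat.card A).Coprime p) (hnt : ⁅P, A⁆ ≠ ⊥)
    (hmin : ∀ U : Subgroup X, U < P → B ≤ Subgroup.normalizer (U : Set X) → ⁅U, A⁆ = ⊥) :
    ⁅P, A⁆ = P ∧ (Cfsg.IsElementaryAbelian p P ∨ Cfsg.IsSpecial p ↥P) ∧
      (∀ U : Subgroup X, (frattini ↥P).map P.subtype ≤ U → U ≤ P →
        B ≤ Subgroup.normalizer (U : Set X) → U = (frattini ↥P).map P.subtype ∨ U = P) ∧
      (p ≠ 2 → ∀ x ∈ P, x ^ p = 1) := by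
  have hAP : A ≤ Subgroup.normalizer (P : Set X) := hAB.trans hBP
  obtain ⟨n, hn⟩ := IsPGroup.iff_card.mp hP
  have hcop : (Nat.card A).Coprime (Nat.card P) := by rw [hn]; exact hAp.pow_right n
  haveI := hP.isNilpotent
  have hsolv : Group.IsSolvable ↥A ∨ Group.IsSolvable ↥P := Or.inr inferInstance
  have hcle : ⁅P, A⁆ ≤ P := by
    rw [Subgroup.commutator_le]
    intro x hx a ha
    have h1 := (Subgroup.mem_normalizer_iff.1 (hAP ha) x⁻¹).1 (inv_mem hx)
    have : ⁅x, a⁆ = x * (a * x⁻¹ * a⁻¹) := by rw [commutatorElement_def]; group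
    rw [this]; exact mul_mem hx h1
  have hBc : B ≤ Subgroup.normalizer ((⁅P, A⁆ : Subgroup X) : Set X) := by
    intro b hb
    rw [Subgroup.mem_normalizer_iff_map_conj_eq, Subgroup.map_commutator,
      Subgroup.mem_normalizer_iff_map_conj_eq.1 (hBP hb),
      Subgroup.mem_normalizer_iff_map_conj_eq.1 (hAn hb)]
  have h1 : ⁅P, A⁆ = P := by
    by_contra hne
    have hlt : ⁅P, A⁆ < P := lt_of_le_of_ne hcle hne
    have h2 := hmin _ hlt hBc
    rw [S0027.result A P hAP hcop hsolv] at h2
    exact hnt h2
  have hPne : P ≠ ⊥ := by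
    rintro rfl
    apply hnt
    rw [eq_bot_iff]
    exact hcle
  -- the Frattini subgroup
  have hΦlt : (frattini ↥P).map P.subtype < P := by
    refine lt_of_le_of_ne (Subgroup.map_subtype_le _) ?_
    intro h
    have h2 : frattini ↥P = ⊤ := by
      rw [eq_top_iff]
      intro x _
      have : (x : X) ∈ (frattini ↥P).map P.subtype := by rw [h]; exact x.2
      exact (Subgroup.mem_map_iff_mem P.subtype_injective).1 this
    have h3 : (⊥ : Subgroup ↥P) = ⊤ := frattini_nongenerating (by rw [h2]; simp)
    apply hPne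
    rw [eq_bot_iff]
    intro x hx
    have : (⟨x, hx⟩ : ↥P) ∈ (⊥ : Subgroup ↥P) := by rw [h3]; exact Subgroup.mem_top _
    rw [Subgroup.mem_bot] at this
    rw [Subgroup.mem_bot]
    exact congrArg Subtype.val this
  have hBΦ : B ≤ Subgroup.normalizer (((frattini ↥P).map P.subtype : Subgroup X) : Set X) :=
    hBP.trans (normalizer_le_normalizer_map_of_characteristic P (frattini ↥P))
  have hΦA : (frattini ↥P).map P.subtype ≤ Subgroup.centralizer (A : Set X) :=
    Subgroup.commutator_eq_bot_iff_le_centralizer.1 (hmin _ hΦlt hBΦ)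
  have hC : P ⊓ Subgroup.centralizer (A : Set X) ≤ (frattini ↥P).map P.subtype := by
    refine (inf_centralizer_le_commutator_of_commutator_eq A P hAP hP hAp h1).trans ?_
    rw [← Subgroup.map_subtype_commutator]
    exact Subgroup.map_mono (commutator_le_frattini hP)
  -- part 2
  have hpart2 : Cfsg.IsElementaryAbelian p P ∨ Cfsg.IsSpecial p ↥P := by
    by_cases hab : IsMulCommutative ↥P
    · left
      refine ⟨hab, ?_⟩
      have hcomm : ∀ x ∈ P, ∀ y ∈ P, x * y = y * x := by
        intro x hx y hy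
        exact congrArg Subtype.val (hab.is_comm.comm ⟨x, hx⟩ ⟨y, hy⟩)
      let Ω : Subgroup X :=
        { carrier := {x | x ∈ P ∧ x ^ p = 1}
          mul_mem' := by
            rintro x y ⟨hx, hx1⟩ ⟨hy, hy1⟩
            refine ⟨mul_mem hx hy, ?_⟩
            rw [(show Commute x y from hcomm x hx y hy).mul_pow, hx1, hy1, mul_one]
          one_mem' := ⟨one_mem _, one_pow _⟩
          inv_mem' := by
            rintro x ⟨hx, hx1⟩
            exact ⟨inv_mem hx, by rw [inv_pow, hx1, inv_one]⟩ }
      have hΩP : Ω ≤ P := fun x hx => hx.1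
      have hBΩ : B ≤ Subgroup.normalizer (Ω : Set X) := by
        intro b hb
        apply mem_normalizer_of_conj_mem
        rintro x ⟨hx, hx1⟩
        refine ⟨(Subgroup.mem_normalizer_iff.1 (hBP hb) x).1 hx, ?_⟩
        rw [conj_pow, hx1, mul_one, mul_inv_cancel]
      by_cases hΩ : Ω = P
      · intro x hx
        have : x ∈ Ω := by rw [hΩ]; exact hx
        exact this.2
      · exfalso
        have hlt : Ω < P := lt_of_le_of_ne hΩP hΩ
        have hΩA := Subgroup.commutator_eq_bot_iff_le_centralizer.1 (hmin _ hlt hBΩ)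
        haveI := hab
        have h3 := S0056.result A P hAP hcop (by
          intro v hv hprime a ha
          have hvΩ : v ∈ Ω := by
            refine ⟨hv, ?_⟩
            obtain ⟨k, hk⟩ := hP ⟨v, hv⟩
            have hk' : v ^ p ^ k = 1 := by
              have := congrArg Subtype.val hk
              simpa using this
            have hdvd : orderOf v ∣ p ^ k := orderOf_dvd_of_pow_eq_one hk'
            have : orderOf v = p := ((Nat.prime_dvd_prime_iff_eq hprime hp.out).1
              (hprime.dvd_of_dvd_pow hdvd))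
            rw [← this]; exact pow_orderOf_eq_one v
          exact ((Subgroup.mem_centralizer_iff.1 (hΩA hvΩ)) a ha))
        apply hnt
        rw [Subgroup.commutator_comm]
        exact Subgroup.commutator_eq_bot_iff_le_centralizer.2 h3
    · right
      have hA' : Nat.Coprime (Nat.card (conjHom A P hAP).range) p :=
        Nat.Coprime.coprime_dvd_left (Subgroup.card_range_dvd _) hAp
      have hGA : Subgroup.closure {x : ↥P | ∃ g : ↥P, ∃ a ∈ (conjHom A P hAP).range,
          x = g⁻¹ * a g} = ⊤ := by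
        rw [eq_top_iff, ← closure_conjHom_eq_top A P hAP h1]
        apply Subgroup.closure_mono
        rintro x ⟨g, b, rfl⟩
        exact ⟨g, _, ⟨b, rfl⟩, rfl⟩
      refine (S0119.result hP (conjHom A P hAP).range hA' hGA ?_).1
      intro H hHc hHab a ha h hh
      obtain ⟨b, rfl⟩ := ha
      have hBH : B ≤ Subgroup.normalizer ((H.map P.subtype : Subgroup X) : Set X) :=
        hBP.trans (normalizer_le_normalizer_map_of_characteristic P H)
      have hHne : H.map P.subtype ≠ P := by
        intro hHP
        apply hab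
        refine ⟨⟨fun x y => ?_⟩⟩
        have hx : x ∈ H := by
          have : (x : X) ∈ H.map P.subtype := by rw [hHP]; exact x.2
          exact (Subgroup.mem_map_iff_mem P.subtype_injective).1 this
        have hy : y ∈ H := by
          have : (y : X) ∈ H.map P.subtype := by rw [hHP]; exact y.2
          exact (Subgroup.mem_map_iff_mem P.subtype_injective).1 this
        have := hHab.is_comm.comm ⟨x, hx⟩ ⟨y, hy⟩
        exact congrArg Subtype.val this
      have hlt : H.map P.subtype < P := lt_of_le_of_ne (Subgroup.map_subtype_le _) hHne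
      have hHA := Subgroup.commutator_eq_bot_iff_le_centralizer.1 (hmin _ hlt hBH)
      have h4 := (Subgroup.mem_centralizer_iff.1 (hHA (Subgroup.mem_map_of_mem P.subtype hh))) b b.2
      apply Subtype.ext
      rw [conjHom_apply]
      have h5 : (b : X) * (h : X) = (h : X) * (b : X) := h4
      rw [h5]; group
  refine ⟨h1, hpart2, ?_, ?_⟩
  · intro U hΦU hUP hBU
    by_cases hU : U = P
    · exact Or.inr hU
    · left
      have hlt : U < P := lt_of_le_of_ne hUP hU
      have hUA := Subgroup.commutator_eq_bot_iff_le_centralizer.1 (hmin _ hlt hBU)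
      exact le_antisymm ((le_inf hUP hUA).trans hC) hΦU
  · intro hp2
    rcases hpart2 with hel | hS
    · exact hel.2
    · obtain ⟨-, hfz, hcz⟩ := hS
      have hcent : ∀ x y : ↥P, ⁅y, x⁆ ∈ Subgroup.center ↥P := by
        intro x y
        rw [← hcz, commutator_def]
        exact Subgroup.commutator_mem_commutator (Subgroup.mem_top _) (Subgroup.mem_top _)
      have hpowc : ∀ x : ↥P, x ^ p ∈ Subgroup.center ↥P := by
        intro x
        rw [← hfz]; exact pow_p_mem_frattini hP x
      have hdvd : p ∣ p.choose 2 := by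
        apply Nat.Prime.dvd_choose_self hp.out (by norm_num)
        have := hp.out.two_le
        omega
      have hpow : ∀ x y : ↥P, (x * y) ^ p = x ^ p * y ^ p := by
        intro x y
        have hc := hcent x y
        have c1 : Commute ⁅y, x⁆ x := (Subgroup.mem_center_iff.1 hc x).symm
        have c2 : Commute ⁅y, x⁆ y := (Subgroup.mem_center_iff.1 hc y).symm
        have h3 : ⁅y, x⁆ ^ p = 1 := by
          rw [← commutator_pow_of_commute y x c2 p, commutatorElement_eq_one_iff_commute]
          exact (Subgroup.mem_center_iff.1 (hpowc y) x).symm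
        rw [Cfsg.Agent.H2.CycDer.mul_pow_of_commute_commutator x y c1 c2 p]
        obtain ⟨m, hm⟩ := hdvd
        rw [hm, pow_mul, h3, one_pow, mul_one]
      let Ωs : Subgroup ↥P :=
        { carrier := {x | x ^ p = 1}
          mul_mem' := by
            intro x y hx hy
            simp only [Set.mem_ofPred_eq] at hx hy ⊢
            rw [hpow, hx, hy, mul_one]
          one_mem' := one_pow _
          inv_mem' := by
            intro x hx
            simp only [Set.mem_ofPred_eq] at hx ⊢
            rw [inv_pow, hx, inv_one] }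
      have hΩtop : Ωs = ⊤ := by
        rw [eq_top_iff, ← closure_conjHom_eq_top A P hAP h1, Subgroup.closure_le]
        rintro x ⟨g, b, rfl⟩
        show (g⁻¹ * conjHom A P hAP b g) ^ p = 1
        rw [hpow, inv_pow, ← map_pow]
        have h6 : conjHom A P hAP b (g ^ p) = g ^ p := by
          apply Subtype.ext
          rw [conjHom_apply]
          have h7 : ((g ^ p : ↥P) : X) ∈ (frattini ↥P).map P.subtype :=
            Subgroup.mem_map_of_mem P.subtype (pow_p_mem_frattini hP g)
          have h8 := (Subgroup.mem_centralizer_iff.1 (hΦA h7)) b b.2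
          rw [h8]; group
        rw [h6, inv_mul_cancel]
      intro x hx
      have : (⟨x, hx⟩ : ↥P) ∈ Ωs := by rw [hΩtop]; exact Subgroup.mem_top _
      have h9 : (⟨x, hx⟩ : ↥P) ^ p = 1 := this
      have := congrArg Subtype.val h9
      simpa using this

end minact

end Cfsg.Agent.H1
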