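import Mathlib
import Cfsg.Agent.H1.MinimalAction
import Cfsg.Agent.H1.MinNonPClosed
import Cfsg.Prelude.Def_Transfer

set_option autoImplicit false
set_option linter.unusedVariables false
set_option linter.unusedSectionVars false
set_option linter.style.haveILetI false

namespace Cfsg.Agent.H1

universe u

open scoped commutatorElement Pointwise

section baer
variable {H : Type u} [Group H]

/-- class at most two: all commutators are central -/
def ClassTwo (H : Type u) [Group H] : Prop := ∀ x y : H, ⁅x, y⁆ ∈ Subgroup.center H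

lemma ClassTwo.comm_mul_left (hcl : ClassTwo H) (x y z : H) : ⁅x * y, z⁆ = ⁅x, z⁆ * ⁅y, z⁆ := by
  have h1 : ⁅x * y, z⁆ = x * ⁅y, z⁆ * x⁻¹ * ⁅x, z⁆ := by
    simp only [commutatorElement_def]; group
  have h2 : x * ⁅y, z⁆ = ⁅y, z⁆ * x := (Subgroup.mem_center_iff.1 (hcl y z) x)
  have h3 : ⁅y, z⁆ * ⁅x, z⁆ = ⁅x, z⁆ * ⁅y, z⁆ := (Subgroup.mem_center_iff.1 (hcl x z) _)
  rw [h1, h2, mul_assoc ⁅y, z⁆, mul_inv_cancel, mul_one, h3]

lemma ClassTwo.comm_mul_right (hcl : ClassTwo H) (x y z : H) : ⁅x, y * z⁆ = ⁅x, y⁆ * ⁅x, z⁆ := by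
  have h1 : ⁅x, y * z⁆ = ⁅x, y⁆ * (y * ⁅x, z⁆ * y⁻¹) := by
    simp only [commutatorElement_def]; group
  have h2 : y * ⁅x, z⁆ = ⁅x, z⁆ * y := (Subgroup.mem_center_iff.1 (hcl x z) y)
  rw [h1, h2, mul_assoc ⁅x, z⁆, mul_inv_cancel, mul_one]

lemma comm_central_right (x : H) {z : H} (hz : z ∈ Subgroup.center H) : ⁅x, z⁆ = 1 := by
  rw [commutatorElement_eq_one_iff_mul_comm]
  exact (Subgroup.mem_center_iff.1 hz x)

lemma comm_central_left (x : H) {z : H} (hz : z ∈ Subgroup.center H) : ⁅z, x⁆ = 1 := by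
  rw [commutatorElement_eq_one_iff_mul_comm]
  exact (Subgroup.mem_center_iff.1 hz x).symm

/-- hypotheses for the Baer trick: class two, exponent `p`, `2 h = p + 1` -/
structure BaerHyp (H : Type u) [Group H] (p h : ℕ) : Prop where
  cl : ClassTwo H
  exp : ∀ x : H, x ^ p = 1
  half : 2 * h = p + 1

variable {p h : ℕ}

/-- the central correction term `[a, b] ^ h` -/
def dz (hB : BaerHyp H p h) (a b : H) : ↥(Subgroup.center H) :=
  ⟨⁅a, b⁆ ^ h, pow_mem (hB.cl a b) h⟩

lemma central_comm (z : ↥(Subgroup.center H)) (w : H) : (z : H) * w = w * (z : H) :=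
  (Subgroup.mem_center_iff.1 z.2 w).symm

lemma center_mul_comm (a b : ↥(Subgroup.center H)) : a * b = b * a :=
  Subtype.ext (central_comm a (b : H))

lemma dz_mul_left (hB : BaerHyp H p h) (a b c : H) : dz hB (a * b) c = dz hB a c * dz hB b c := by
  apply Subtype.ext
  show ⁅a * b, c⁆ ^ h = ⁅a, c⁆ ^ h * ⁅b, c⁆ ^ h
  rw [hB.cl.comm_mul_left]
  exact (show Commute ⁅a, c⁆ ⁅b, c⁆ from (Subgroup.mem_center_iff.1 (hB.cl a c) _).symm).mul_pow h

lemma dz_mul_right (hB : BaerHyp H p h) (a b c : H) : dz hB a (b * c) = dz hB a b * dz hB a c := by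
  apply Subtype.ext
  show ⁅a, b * c⁆ ^ h = ⁅a, b⁆ ^ h * ⁅a, c⁆ ^ h
  rw [hB.cl.comm_mul_right]
  exact (show Commute ⁅a, b⁆ ⁅a, c⁆ from (Subgroup.mem_center_iff.1 (hB.cl a b) _).symm).mul_pow h

lemma dz_central_right (hB : BaerHyp H p h) (a : H) (z : ↥(Subgroup.center H)) : dz hB a (z : H) = 1 := by
  apply Subtype.ext
  show ⁅a, (z : H)⁆ ^ h = 1
  rw [comm_central_right a z.2, one_pow]

lemma dz_central_left (hB : BaerHyp H p h) (a : H) (z : ↥(Subgroup.center H)) : dz hB (z : H) a = 1 := by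
  apply Subtype.ext
  show ⁅(z : H), a⁆ ^ h = 1
  rw [comm_central_left a z.2, one_pow]

lemma dz_self (hB : BaerHyp H p h) (a : H) : dz hB a a = 1 := by
  apply Subtype.ext
  show ⁅a, a⁆ ^ h = 1
  rw [commutatorElement_self, one_pow]

lemma dz_one_left (hB : BaerHyp H p h) (a : H) : dz hB 1 a = 1 := by
  apply Subtype.ext
  show ⁅(1 : H), a⁆ ^ h = 1
  rw [commutatorElement_one_left, one_pow]

lemma dz_one_right (hB : BaerHyp H p h) (a : H) : dz hB a 1 = 1 := by
  apply Subtype.ext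
  show ⁅a, (1 : H)⁆ ^ h = 1
  rw [commutatorElement_one_right, one_pow]

lemma dz_inv_right (hB : BaerHyp H p h) (a : H) : dz hB a a⁻¹ = 1 := by
  have h1 := dz_mul_right hB a a a⁻¹
  rw [mul_inv_cancel, dz_one_right, dz_self, one_mul] at h1
  exact h1.symm

/-- Baer addition -/
def badd (hB : BaerHyp H p h) (x y : H) : H := x * y * (dz hB y x : H)

lemma badd_comm (hB : BaerHyp H p h) (x y : H) : badd hB x y = badd hB y x := by
  unfold badd
  show x * y * ⁅y, x⁆ ^ h = y * x * ⁅x, y⁆ ^ h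
  have hc : ∀ w : H, ⁅x, y⁆ * w = w * ⁅x, y⁆ := fun w => (Subgroup.mem_center_iff.1 (hB.cl x y) w).symm
  have h1 : x * y = y * x * ⁅x, y⁆ := by
    rw [← hc]; simp only [commutatorElement_def]; group
  have h2 : ⁅y, x⁆ = ⁅x, y⁆⁻¹ := (commutatorElement_inv x y).symm
  have h3 : ⁅x, y⁆ ^ h * ⁅x, y⁆ ^ h = ⁅x, y⁆ := by
    rw [← pow_add, ← two_mul, hB.half, pow_succ, hB.exp, one_mul]
  rw [h1, h2, inv_pow, mul_assoc (y * x)]
  congr 1
  rw [mul_inv_eq_iff_eq_mul, h3]

lemma badd_assoc (hB : BaerHyp H p h) (x y z : H) :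
    badd hB (badd hB x y) z = badd hB x (badd hB y z) := by
  unfold badd
  rw [dz_mul_right, dz_mul_right, dz_central_right, mul_one, dz_mul_left, dz_mul_left,
    dz_central_left, mul_one]
  have e1 : x * y * ↑(dz hB y x) * z * ↑(dz hB z x * dz hB z y) =
      x * y * z * ↑(dz hB y x * (dz hB z x * dz hB z y)) := by
    rw [mul_assoc (x * y) (↑(dz hB y x)) z, central_comm, ← mul_assoc, mul_assoc (x * y * z),
      ← Subgroup.coe_mul]
  have e2 : x * (y * z * ↑(dz hB z y)) * ↑(dz hB y x * dz hB z x) =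
      x * y * z * ↑(dz hB z y * (dz hB y x * dz hB z x)) := by
    rw [← mul_assoc, ← mul_assoc, mul_assoc (x * y * z), ← Subgroup.coe_mul]
  rw [e1, e2]
  congr 2
  rw [center_mul_comm (dz hB z y), mul_assoc]

/-- the Baer abelian group structure on a group of class two and odd exponent `p` -/
@[reducible] def baerGroup (hB : BaerHyp H p h) : AddCommGroup H :=
  letI : Zero H := ⟨1⟩
  letI : Add H := ⟨badd hB⟩
  letI : Neg H := ⟨fun x => x⁻¹⟩
  { add_assoc := badd_assoc hB
    zero_add := fun x => by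
      show badd hB 1 x = x
      unfold badd; rw [dz_one_right]; simp
    add_zero := fun x => by
      show badd hB x 1 = x
      unfold badd; rw [dz_one_left]; simp
    nsmul := nsmulRec
    zsmul := zsmulRec
    neg_add_cancel := fun x => by
      show badd hB x⁻¹ x = 1
      unfold badd; rw [dz_inv_right]; simp
    add_comm := badd_comm hB }

end baer

section baer2
variable {H : Type u} [Group H] {p h : ℕ}

/-- the underlying set of `H` with the Baer addition -/
def Baer (hB : BaerHyp H p h) : Type u := H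

instance (hB : BaerHyp H p h) : AddCommGroup (Baer hB) := (baerGroup hB : AddCommGroup H)

variable (hB : BaerHyp H p h)

/-- `H → Baer hB` -/
def toBaer (x : H) : Baer hB := x
/-- `Baer hB → H` -/
def ofBaer (x : Baer hB) : H := x

lemma baer_add_eq (x y : Baer hB) :
    ofBaer hB (x + y) = ofBaer hB x * ofBaer hB y * ⁅ofBaer hB y, ofBaer hB x⁆ ^ h := rfl

lemma baer_zero_eq : ofBaer hB (0 : Baer hB) = 1 := rfl

/-- automorphisms are additive for the Baer structure -/
def baerAut (φ : MulAut H) : Baer hB →+ Baer hB where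
  toFun x := toBaer hB (φ (ofBaer hB x))
  map_zero' := map_one φ
  map_add' x y := by
    show φ (ofBaer hB x * ofBaer hB y * ⁅ofBaer hB y, ofBaer hB x⁆ ^ h) =
      φ (ofBaer hB x) * φ (ofBaer hB y) * ⁅φ (ofBaer hB y), φ (ofBaer hB x)⁆ ^ h
    rw [map_mul, map_mul, map_pow, map_commutatorElement]

lemma baerAut_apply (φ : MulAut H) (x : Baer hB) : ofBaer hB (baerAut hB φ x) = φ (ofBaer hB x) := rfl

lemma baerAut_mul (φ ψ : MulAut H) (x : Baer hB) :
    baerAut hB (φ * ψ) x = baerAut hB φ (baerAut hB ψ x) := rfl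

end baer2

section baer3
variable {H : Type u} [Group H] [Finite H] {p h : ℕ} [hp : Fact p.Prime]

instance (hB : BaerHyp H p h) : Finite (Baer hB) := inferInstanceAs (Finite H)

/-- **Baer trick.** Let `H` be a finite group of class at most two and odd prime exponent `p`, `AQ` a nontrivial
`p'`-group of automorphisms normalized by a `p`-group `AP` of automorphisms.  Then some fixed point of `AP` is not
fixed by `AQ`. -/
theorem exists_fixed_not_fixed (hB : BaerHyp H p h) (AP AQ : Subgroup (MulAut H))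
    (hAP : IsPGroup p AP) (hAQ : (Nat.card AQ).Coprime p)
    (hN : AP ≤ Subgroup.normalizer (AQ : Set (MulAut H))) (hne : AQ ≠ ⊥) :
    ∃ w : H, (∀ u ∈ AP, u w = w) ∧ ∃ q ∈ AQ, q w ≠ w := by
  classical
  haveI : Fintype ↥AQ := Fintype.ofFinite _
  let ν : Baer hB →+ Baer hB := ∑ q : ↥AQ, baerAut hB (q : MulAut H)
  have hν : ∀ x, ν x = ∑ q : ↥AQ, baerAut hB (q : MulAut H) x := by
    intro x
    simp only [ν, AddMonoidHom.finsetSum_apply]
  have hfix : ∀ r ∈ AQ, ∀ x, baerAut hB r (ν x) = ν x := by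
    intro r hr x
    rw [hν, map_sum]
    apply Fintype.sum_equiv (Equiv.mulLeft (⟨r, hr⟩ : ↥AQ))
    intro q
    rfl
  have hequiv : ∀ u ∈ AP, ∀ x, baerAut hB u (ν x) = ν (baerAut hB u x) := by
    intro u hu x
    rw [hν, hν, map_sum]
    have hun := hN hu
    have huinv : u⁻¹ ∈ Subgroup.normalizer (AQ : Set (MulAut H)) := inv_mem hun
    let e : ↥AQ ≃ ↥AQ :=
      { toFun := fun q => ⟨u * q * u⁻¹, (Subgroup.mem_normalizer_iff.1 hun q).1 q.2⟩
        invFun := fun q => ⟨u⁻¹ * q * u, by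
          have := (Subgroup.mem_normalizer_iff.1 huinv q).1 q.2
          simpa using this⟩
        left_inv := fun q => by apply Subtype.ext; simp [mul_assoc]
        right_inv := fun q => by apply Subtype.ext; simp [mul_assoc] }
    apply Fintype.sum_equiv e
    intro q
    show baerAut hB u (baerAut hB q x) = baerAut hB (u * q * u⁻¹) (baerAut hB u x)
    rw [← baerAut_mul, ← baerAut_mul]
    congr 2
    group
  -- the kernel of `ν`
  have hWne : ν.ker ≠ ⊥ := by
    intro hker
    have hinj : Function.Injective ν := (AddMonoidHom.ker_eq_bot_iff ν).1 hker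
    have hsurj : Function.Surjective ν := Finite.surjective_of_injective hinj
    apply hne
    rw [eq_bot_iff]
    intro r hr
    rw [Subgroup.mem_bot]
    ext x
    obtain ⟨y, hy⟩ := hsurj (toBaer hB x)
    have := hfix r hr y
    rw [hy] at this
    exact this
  have hHp : IsPGroup p H := fun g => ⟨1, by rw [pow_one]; exact hB.exp g⟩
  obtain ⟨n, hn⟩ := IsPGroup.iff_card.mp hHp
  have hcardB : Nat.card (Baer hB) = p ^ n := hn
  have hpW : p ∣ Nat.card ν.ker := by
    have h1 : Nat.card ν.ker ∣ p ^ n := by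
      rw [← hcardB]; exact AddSubgroup.card_addSubgroup_dvd_card _
    obtain ⟨k, -, hk⟩ := (Nat.dvd_prime_pow hp.out).1 h1
    have hk0 : k ≠ 0 := by
      rintro rfl
      rw [pow_zero] at hk
      apply hWne
      exact (AddSubgroup.card_eq_one).1 hk
    rw [hk]
    exact dvd_pow_self p hk0
  -- the action of `AP` on the kernel
  letI : MulAction ↥AP ↥ν.ker :=
    { smul := fun u w => ⟨baerAut hB (u : MulAut H) (w : Baer hB), by
        rw [AddMonoidHom.mem_ker, ← hequiv _ u.2, (AddMonoidHom.mem_ker).1 w.2, map_zero]⟩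
      one_smul := fun w => by apply Subtype.ext; rfl
      mul_smul := fun u v w => by apply Subtype.ext; rfl }
  have h0 : (0 : ↥ν.ker) ∈ MulAction.fixedPoints ↥AP ↥ν.ker := by
    intro u
    apply Subtype.ext
    show baerAut hB (u : MulAut H) (0 : Baer hB) = 0
    exact map_zero _
  obtain ⟨b, hb, hb0⟩ := hAP.exists_fixed_point_of_prime_dvd_card_of_fixed_point ↥ν.ker hpW h0
  refine ⟨ofBaer hB (b : Baer hB), ?_, ?_⟩
  · intro u hu
    have := hb ⟨u, hu⟩
    exact congrArg Subtype.val this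
  · by_contra hall
    push Not at hall
    have h1 : ν (b : Baer hB) = Nat.card ↥AQ • (b : Baer hB) := by
      rw [hν]
      have : ∀ q : ↥AQ, baerAut hB (q : MulAut H) (b : Baer hB) = (b : Baer hB) := fun q => hall q q.2
      simp only [this]
      rw [Finset.sum_const, Finset.card_univ, Nat.card_eq_fintype_card]
    have h2 : ν (b : Baer hB) = 0 := (AddMonoidHom.mem_ker).1 b.2
    have hcop : (Nat.card (Baer hB)).Coprime (Nat.card ↥AQ) := by
      rw [hcardB]; exact (hAQ.symm.pow_left n)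
    have h3 : (nsmulCoprime hcop) (b : Baer hB) = (nsmulCoprime hcop) 0 := by
      show Nat.card ↥AQ • (b : Baer hB) = Nat.card ↥AQ • (0 : Baer hB)
      rw [← h1, h2, smul_zero]
    have h4 := (nsmulCoprime hcop).injective h3
    apply hb0
    apply Subtype.ext
    exact h4.symm

end baer3

section thompsonPQ
variable {X : Type u} [Group X] [Finite X] {p : ℕ} [hp : Fact p.Prime]

/-- **Thompson's `P × Q` lemma for semidirect products, `p` odd.** -/
theorem thompson_pq_semidirect (hp2 : p ≠ 2) (P Q G : Subgroup X) (hP : IsPGroup p P)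
    (hQ : (Nat.card Q).Coprime p) (hPQ : P ≤ Subgroup.normalizer (Q : Set X)) (hG : IsPGroup p G)
    (hPG : P ≤ Subgroup.normalizer (G : Set X)) (hQG : Q ≤ Subgroup.normalizer (G : Set X))
    (hC : G ⊓ Subgroup.centralizer (P : Set X) ≤ Subgroup.centralizer (Q : Set X)) :
    Q ≤ Subgroup.centralizer (G : Set X) := by
  by_contra hcon
  have hne : ⁅G, Q⁆ ≠ ⊥ := by
    intro h
    apply hcon
    rw [Subgroup.le_centralizer_iff]
    exact Subgroup.commutator_eq_bot_iff_le_centralizer.1 h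
  obtain ⟨B, hBdef⟩ : ∃ B : Subgroup X, B = P ⊔ Q := ⟨_, rfl⟩
  have hPB : P ≤ B := hBdef ▸ le_sup_left
  have hQB : Q ≤ B := hBdef ▸ le_sup_right
  have hBG : B ≤ Subgroup.normalizer (G : Set X) := hBdef ▸ sup_le hPG hQG
  have hBQ : B ≤ Subgroup.normalizer (Q : Set X) := hBdef ▸ sup_le hPQ Subgroup.le_normalizer
  obtain ⟨G0, hG0le, hG0min⟩ := Finite.exists_le_minimal
    (p := fun U : Subgroup X => U ≤ G ∧ B ≤ Subgroup.normalizer (U : Set X) ∧ ⁅U, Q⁆ ≠ ⊥) (a := G)
    ⟨le_rfl, hBG, hne⟩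
  obtain ⟨⟨hG0G, hBG0, hne0⟩, hmin0⟩ := hG0min
  have hG0p : IsPGroup p ↥G0 := hG.to_le hG0G
  have hmin : ∀ U : Subgroup X, U < G0 → B ≤ Subgroup.normalizer (U : Set X) → ⁅U, Q⁆ = ⊥ := by
    intro U hU hBU
    by_contra h
    exact (not_le_of_gt hU) (hmin0 ⟨hU.le.trans hG0G, hBU, h⟩ hU.le)
  obtain ⟨h1, hstruct, -, hexp⟩ := minimal_action_structure B Q G0 hG0p hBG0 hQB hBQ hQ hne0 hmin
  have hexp' : ∀ x : ↥G0, x ^ p = 1 := by
    intro x
    apply Subtype.ext
    have := hexp hp2 x x.2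
    simpa using this
  have hcl : ClassTwo ↥G0 := by
    intro x y
    rcases hstruct with hel | hsp
    · have : ⁅x, y⁆ = 1 := by
        rw [commutatorElement_eq_one_iff_mul_comm]
        exact hel.1.is_comm.comm x y
      rw [this]; exact one_mem _
    · rw [← hsp.2.2, commutator_def]
      exact Subgroup.commutator_mem_commutator (Subgroup.mem_top _) (Subgroup.mem_top _)
  have hodd : p % 2 = 1 := (Nat.Prime.eq_two_or_odd hp.out).resolve_left hp2
  have hhalf : 2 * ((p + 1) / 2) = p + 1 := by omega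
  have hB : BaerHyp ↥G0 p ((p + 1) / 2) := ⟨hcl, hexp', hhalf⟩
  have hPG0 : P ≤ Subgroup.normalizer (G0 : Set X) := hPB.trans hBG0
  have hQG0 : Q ≤ Subgroup.normalizer (G0 : Set X) := hQB.trans hBG0
  have hAPp : IsPGroup p ↥(conjHom P G0 hPG0).range :=
    IsPGroup.of_surjective hP _ (conjHom P G0 hPG0).rangeRestrict_surjective
  have hAQ : (Nat.card ↥(conjHom Q G0 hQG0).range).Coprime p :=
    Nat.Coprime.coprime_dvd_left (Subgroup.card_range_dvd _) hQ
  have hN : (conjHom P G0 hPG0).range ≤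
      Subgroup.normalizer (((conjHom Q G0 hQG0).range : Subgroup (MulAut ↥G0)) : Set (MulAut ↥G0)) := by
    rintro _ ⟨u, rfl⟩
    apply mem_normalizer_of_conj_mem
    rintro _ ⟨q, rfl⟩
    have hq' : (u : X) * (q : X) * (u : X)⁻¹ ∈ Q := (Subgroup.mem_normalizer_iff.1 (hPQ u.2) q).1 q.2
    refine ⟨⟨_, hq'⟩, ?_⟩
    rw [eq_mul_inv_iff_mul_eq]
    ext x
    simp only [MulAut.mul_apply, conjHom_apply]
    group
  have hAQne : (conjHom Q G0 hQG0).range ≠ ⊥ := by
    intro h
    apply hne0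
    rw [Subgroup.commutator_eq_bot_iff_le_centralizer]
    intro x hx
    rw [Subgroup.mem_centralizer_iff]
    intro q hq
    have h2 : conjHom Q G0 hQG0 ⟨q, hq⟩ ∈ (conjHom Q G0 hQG0).range := ⟨_, rfl⟩
    rw [h, Subgroup.mem_bot] at h2
    have h3 := congrArg (fun f : MulAut ↥G0 => ((f ⟨x, hx⟩ : ↥G0) : X)) h2
    simp only [conjHom_apply, MulAut.one_apply] at h3
    calc q * x = q * x * q⁻¹ * q := by group
      _ = x * q := by rw [h3]
  obtain ⟨w, hwP, q, hq, hqw⟩ := exists_fixed_not_fixed hB _ _ hAPp hAQ hN hAQne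
  obtain ⟨q, rfl⟩ := hq
  apply hqw
  have hwC : (w : X) ∈ G ⊓ Subgroup.centralizer (P : Set X) := by
    refine Subgroup.mem_inf.2 ⟨hG0G w.2, ?_⟩
    rw [Subgroup.mem_centralizer_iff]
    intro u hu
    have h2 := hwP _ ⟨⟨u, hu⟩, rfl⟩
    have h3 := congrArg Subtype.val h2
    rw [conjHom_apply] at h3
    calc u * (w : X) = u * w * u⁻¹ * u := by group
      _ = w * u := by rw [h3]
  have h4 := (Subgroup.mem_centralizer_iff.1 (hC hwC)) q q.2
  apply Subtype.ext
  rw [conjHom_apply, h4]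
  group

end thompsonPQ

end Cfsg.Agent.H1
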