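import Mathlib
import Cfsg.Agent.H1.PGroup

/-! Power formula in groups of class two (helper1). -/

namespace Cfsg.Agent.H1

open scoped commutatorElement

/-- class two power formula -/
lemma class2_mul_pow {P : Type*} [Group P] (hc : ∀ a b : P, ⁅a, b⁆ ∈ Subgroup.center P) (x y : P) (n : ℕ) :
    (x * y) ^ n = x ^ n * y ^ n * ⁅y, x⁆ ^ (n.choose 2) := by
  induction n with
  | zero => simp
  | succ n ih =>
    have h1 : ⁅y ^ n, x⁆ = ⁅y, x⁆ ^ n := commutator_pow_of_central y x (hc y x) n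
    have h2 : y ^ n * x = ⁅y, x⁆ ^ n * x * y ^ n := by
      rw [← h1, commutatorElement_def]; group
    have hz : ∀ (k : ℕ) (g : P), g * ⁅y, x⁆ ^ k = ⁅y, x⁆ ^ k * g := by
      intro k g
      have := pow_mem (hc y x) k
      rw [Subgroup.mem_center_iff] at this
      exact this g
    have h3 : (n + 1).choose 2 = n + n.choose 2 := by
      rw [Nat.choose_succ_succ' n 1, Nat.choose_one_right]
    rw [pow_succ (x * y), ih, h3]
    generalize ⁅y, x⁆ = c at h2 hz
    generalize n.choose 2 = a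
    have e1 : x ^ n * y ^ n * c ^ a * (x * y) = x ^ n * (y ^ n * x) * y * c ^ a := by
      rw [mul_assoc (x ^ n * y ^ n) (c ^ a) (x * y), ← hz a (x * y)]
      simp only [mul_assoc]
    have e2 : x ^ n * (c ^ n * x * y ^ n) * y * c ^ a = x ^ (n + 1) * y ^ (n + 1) * c ^ (n + a) := by
      have : x ^ n * (c ^ n * x * y ^ n) = c ^ n * (x ^ n * x * y ^ n) := by
        rw [← mul_assoc, ← mul_assoc, hz n (x ^ n)]
        simp only [mul_assoc]
      rw [this, ← pow_succ, mul_assoc (c ^ n), ← hz n, mul_assoc (x ^ (n + 1)) (y ^ n) y, ← pow_succ, pow_add c n a]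
      simp only [mul_assoc]
    rw [e1, h2, e2]

/-- In a class-two group, for an odd prime `p`, if `⁅y,x⁆ ^ p = 1` then `(xy)^p = x^p y^p`. -/
lemma class2_mul_pow_prime {P : Type*} [Group P] (hc : ∀ a b : P, ⁅a, b⁆ ∈ Subgroup.center P)
    {p : ℕ} (hpp : p.Prime) (hp : p ≠ 2) (x y : P) (h : ⁅y, x⁆ ^ p = 1) :
    (x * y) ^ p = x ^ p * y ^ p := by
  have hdvd : p ∣ p.choose 2 := by
    apply hpp.dvd_choose_self (by norm_num)
    have := hpp.two_le
    omega
  obtain ⟨m, hm⟩ := hdvd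
  rw [class2_mul_pow hc, hm, pow_mul, h, one_pow, mul_one]

end Cfsg.Agent.H1
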