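import Mathlib
import Cfsg.Prelude.Def_Transfer
import Cfsg.Agent.H2.UniqueOrderP
import Cfsg.Agent.H1.AbConj

set_option autoImplicit false
open scoped Pointwise commutatorElement

namespace Cfsg.Agent.H1

open Cfsg.Agent.H2.UOP

universe u

/-- conjugation by `b` acts on the normal cyclic subgroup `⟨a⟩` as a power map -/
lemma exists_conj_pow {R : Type*} [Group R] [Finite R] (a : R) (hAn : (Subgroup.zpowers a).Normal) (b : R) :
    ∃ s : ℕ, b⁻¹ * a * b = a ^ s := by
  have h1 : b⁻¹ * a * b ∈ Subgroup.zpowers a := by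
    have := hAn.conj_mem a (Subgroup.mem_zpowers a) b⁻¹
    rwa [inv_inv] at this
  rw [← mem_powers_iff_mem_zpowers] at h1
  obtain ⟨s, hs⟩ := h1
  exact ⟨s, hs.symm⟩

/-- if `b ^ p ∈ ⟨a⟩` and `a` has order `p ^ n`, `n ≥ 1`, the conjugation exponent is `≡ 1 mod p` -/
lemma conj_exponent_modEq_one {R : Type*} [Group R] {p : ℕ} [hp : Fact p.Prime] (a b : R) (n : ℕ) (hn : 1 ≤ n)
    (hN : orderOf a = p ^ n) (s : ℕ) (hs : b⁻¹ * a * b = a ^ s) (hbp : b ^ p ∈ Subgroup.zpowers a) :
    s ≡ 1 [MOD p] := by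
  have h2 := conj_pow_formula hs p
  obtain ⟨j, hj⟩ := Subgroup.mem_zpowers_iff.mp hbp
  rw [← hj] at h2
  have h3 : (a ^ j)⁻¹ * a * a ^ j = a := by
    have : Commute (a ^ j) a := (Commute.refl a).zpow_left j
    calc (a ^ j)⁻¹ * a * a ^ j = (a ^ j)⁻¹ * (a * a ^ j) := by rw [mul_assoc]
      _ = (a ^ j)⁻¹ * (a ^ j * a) := by rw [this.eq]
      _ = a := by group
  rw [h3] at h2
  have h4 : a ^ (s ^ p) = a ^ 1 := by rw [pow_one]; exact h2.symm
  have F4 : s ^ p ≡ 1 [MOD p ^ n] := by
    rw [← hN]; exact pow_eq_pow_iff_modEq.1 h4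
  have h1 : s ^ p ≡ 1 [MOD p] := F4.of_dvd (dvd_pow_self p (by omega))
  rw [← ZMod.natCast_eq_natCast_iff] at h1 ⊢
  push_cast at h1
  rw [ZMod.pow_card] at h1
  push_cast
  exact h1

lemma elem_abelian_sq_closure {G : Type*} [Group G] {p : ℕ} (hp : p.Prime) (a z : G) (hc : a * z = z * a)
    (ha : orderOf a = p) (hz : orderOf z = p) (haz : a ∉ Subgroup.zpowers z) :
    IsMulCommutative (Subgroup.closure ({a, z} : Set G)) ∧ Nat.card (Subgroup.closure ({a, z} : Set G)) = p ^ 2 ∧
      ∀ e ∈ Subgroup.closure ({a, z} : Set G), e ^ p = 1 := by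
  have hcomm : ∀ x ∈ ({a, z} : Set G), ∀ y ∈ ({a, z} : Set G), x * y = y * x := by
    intro x hx y hy
    rcases hx with rfl | rfl <;> rcases hy with rfl | rfl
    · rfl
    · exact hc
    · exact hc.symm
    · rfl
  have hE : IsMulCommutative (Subgroup.closure ({a, z} : Set G)) := Subgroup.isMulCommutative_closure hcomm
  refine ⟨hE, ?_, ?_⟩
  · have h1 : Subgroup.closure ({a, z} : Set G) = Subgroup.zpowers a ⊔ Subgroup.zpowers z := by
      rw [Set.insert_eq, Subgroup.closure_union, Subgroup.zpowers_eq_closure, Subgroup.zpowers_eq_closure]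
    rw [h1]
    have hnorm : Subgroup.zpowers a ≤ Subgroup.normalizer ((Subgroup.zpowers z : Subgroup G) : Set G) := by
      rw [Subgroup.zpowers_le, Subgroup.mem_normalizer_iff]
      intro h
      have hcz : ∀ k : ℤ, a * z ^ k * a⁻¹ = z ^ k := by
        intro k
        have : Commute a (z ^ k) := (Commute.zpow_right hc k)
        rw [this.eq, mul_inv_cancel_right]
      constructor
      · intro hh
        obtain ⟨k, rfl⟩ := Subgroup.mem_zpowers_iff.mp hh
        rw [hcz]; exact hh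
      · intro hh
        obtain ⟨k, hk⟩ := Subgroup.mem_zpowers_iff.mp hh
        have : h = a⁻¹ * z ^ k * a := by rw [hk]; group
        rw [this]
        have h2 : a⁻¹ * z ^ k * a = z ^ k := by
          have := hcz k
          calc a⁻¹ * z ^ k * a = a⁻¹ * (a * z ^ k * a⁻¹) * a := by rw [this]
            _ = z ^ k := by group
        rw [h2]; exact Subgroup.zpow_mem_zpowers z k
    have hinf : Subgroup.zpowers a ⊓ Subgroup.zpowers z = ⊥ := by
      by_contra hne
      have h2 : Nat.card (Subgroup.zpowers a ⊓ Subgroup.zpowers z : Subgroup G) ∣ p := by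
        rw [← ha, ← Nat.card_zpowers]; exact Subgroup.card_dvd_of_le inf_le_left
      have : Finite (Subgroup.zpowers a) := by
        apply Nat.finite_of_card_ne_zero
        rw [Nat.card_zpowers, ha]; exact hp.ne_zero
      rcases (Nat.dvd_prime hp).mp h2 with h3 | h3
      · exact hne (Subgroup.card_eq_one.mp h3)
      · have e1 : Subgroup.zpowers a ⊓ Subgroup.zpowers z = Subgroup.zpowers a :=
          Subgroup.eq_of_le_of_card_ge inf_le_left (by rw [h3, Nat.card_zpowers, ha])
        apply haz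
        have : a ∈ Subgroup.zpowers a ⊓ Subgroup.zpowers z := by rw [e1]; exact Subgroup.mem_zpowers a
        exact this.2
    have h3 := card_sup_mul_card_inf _ _ hnorm
    rw [hinf, Subgroup.card_bot, mul_one, Nat.card_zpowers, Nat.card_zpowers, ha, hz] at h3
    rw [h3, pow_two]
  · intro e he
    induction he using Subgroup.closure_induction with
    | mem x hx =>
      rcases hx with rfl | rfl
      · rw [← ha, pow_orderOf_eq_one]
      · rw [← hz, pow_orderOf_eq_one]
    | one => exact one_pow _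
    | mul x y hx hy ihx ihy =>
      have hxy : Commute x y := by
        have := hE.is_comm.comm ⟨x, hx⟩ ⟨y, hy⟩
        exact congrArg Subtype.val this
      rw [hxy.mul_pow, ihx, ihy, one_mul]
    | inv x hx ihx => rw [inv_pow, ihx, inv_one]


/-- structure of `Ω₁` in a non-cyclic `p`-group (`p` odd) with a normal cyclic subgroup `⟨a⟩` of index `p` -/
theorem omega_of_cyclic_index_p {R : Type*} [Group R] [Finite R] {p : ℕ} [hp : Fact p.Prime] (hodd : p ≠ 2)
    (hR : IsPGroup p R) (hnc : ¬ IsCyclic R) (a : R) (hAn : (Subgroup.zpowers a).Normal)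
    (hidx : (Subgroup.zpowers a).index = p) :
    ∃ x z : R, x ∉ Subgroup.zpowers a ∧ orderOf x = p ∧ orderOf z = p ∧ x * z = z * x ∧ z ∈ Subgroup.zpowers a ∧
      z ∈ Subgroup.center R ∧ ∀ y : R, y ^ p = 1 → y ∈ Subgroup.closure ({x, z} : Set R) := by
  have hpp : p.Prime := hp.out
  obtain ⟨n, hN⟩ := IsPGroup.iff_orderOf.mp hR a
  have hcardR : Nat.card R = p ^ n * p := by
    have h1 := Subgroup.card_mul_index (Subgroup.zpowers a)
    rw [hidx, Nat.card_zpowers, hN] at h1
    exact h1.symm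
  have hn : 1 ≤ n := by
    by_contra hcon
    have hn0 : n = 0 := by omega
    rw [hn0, pow_zero, one_mul] at hcardR
    have : Fact (Nat.card R).Prime := ⟨by rw [hcardR]; exact hpp⟩
    exact hnc (isCyclic_of_prime_card rfl)
  -- p-th powers lie in ⟨a⟩
  have hQcard : Nat.card (R ⧸ Subgroup.zpowers a) = p := by rw [← Subgroup.index_eq_card]; exact hidx
  have hbp : ∀ b : R, b ^ p ∈ Subgroup.zpowers a := by
    intro b
    rw [← QuotientGroup.eq_one_iff, QuotientGroup.mk_pow, ← hQcard]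
    exact pow_card_eq_one'
  -- z
  obtain ⟨z, hz⟩ : ∃ z : R, z = a ^ p ^ (n - 1) := ⟨_, rfl⟩
  have hzo : orderOf z = p := by
    rw [hz, orderOf_pow_of_dvd (pow_pos hpp.pos _).ne', hN]
    · rw [Nat.pow_div (Nat.sub_le n 1) hpp.pos]
      have : n - (n - 1) = 1 := by omega
      rw [this, pow_one]
    · rw [hN]; exact pow_dvd_pow p (Nat.sub_le n 1)
  have hzA : z ∈ Subgroup.zpowers a := by rw [hz]; exact Subgroup.pow_mem _ (Subgroup.mem_zpowers a) _
  have hzcomm : ∀ b : R, b⁻¹ * z * b = z := by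
    intro b
    obtain ⟨s, hs⟩ := exists_conj_pow a hAn b
    have hs1 := conj_exponent_modEq_one a b n hn hN s hs (hbp b)
    have h1 : z ^ s = z ^ 1 := by
      rw [pow_eq_pow_iff_modEq, hzo]; exact hs1
    rw [pow_one] at h1
    rw [hz, conj_pow_right hs, pow_mul, ← hz]
    exact h1
  have hzc : z ∈ Subgroup.center R := by
    rw [Subgroup.mem_center_iff]
    intro b
    have := hzcomm b
    calc b * z = b * (b⁻¹ * z * b) := by rw [this]
      _ = z * b := by group
  -- elements of ⟨a⟩ of order dividing p are powers of z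
  have hAp : ∀ i : ℕ, (a ^ i) ^ p = 1 → a ^ i ∈ Subgroup.zpowers z := by
    intro i hi
    rw [← pow_mul] at hi
    have h1 : p ^ n ∣ i * p := by rw [← hN]; exact orderOf_dvd_of_pow_eq_one hi
    have h2 : p ^ (n - 1) ∣ i := by
      have h3 : p ^ n = p ^ (n - 1) * p := by rw [← pow_succ]; congr 1; omega
      rw [h3] at h1
      exact Nat.dvd_of_mul_dvd_mul_right hpp.pos h1
    obtain ⟨c, hc⟩ := h2
    rw [hc, pow_mul, ← hz]
    exact Subgroup.pow_mem _ (Subgroup.mem_zpowers z) _
  -- an element b₀ outside ⟨a⟩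
  have hAtop : Subgroup.zpowers a ≠ ⊤ := by
    intro h
    rw [h, Subgroup.index_top] at hidx
    exact hpp.one_lt.ne hidx
  obtain ⟨b₀, -, hb₀⟩ := SetLike.exists_of_lt (lt_top_iff_ne_top.mpr hAtop)
  obtain ⟨s₀, hs₀⟩ := exists_conj_pow a hAn b₀
  have hs₀1 := conj_exponent_modEq_one a b₀ n hn hN s₀ hs₀ (hbp b₀)
  obtain ⟨j₀, hj₀⟩ := (mem_powers_iff_mem_zpowers.mpr (hbp b₀))
  have hj₀' : b₀ ^ p = a ^ j₀ := hj₀.symm
  have hpj : p ∣ j₀ := by
    by_contra hnd
    apply hnc
    -- b₀ has order p^(n+1)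
    have hcop : Nat.Coprime (orderOf a) j₀ := by
      rw [hN]; exact Nat.Coprime.pow_left n ((Nat.Prime.coprime_iff_not_dvd hpp).mpr hnd)
    have h1 : orderOf (b₀ ^ p) = p ^ n := by
      rw [hj₀', hcop.orderOf_pow, hN]
    obtain ⟨t, ht⟩ := IsPGroup.iff_orderOf.mp hR b₀
    have ht1 : 1 ≤ t := by
      by_contra hcon
      have : t = 0 := by omega
      rw [this, pow_zero, orderOf_eq_one_iff] at ht
      exact hb₀ (ht ▸ Subgroup.one_mem _)
    have h2 : orderOf (b₀ ^ p) = p ^ (t - 1) := by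
      rw [orderOf_pow_of_dvd hpp.ne_zero (by rw [ht]; exact dvd_pow_self p (by omega)), ht]
      have : p ^ t = p ^ (t - 1) * p := by rw [← pow_succ]; congr 1; omega
      rw [this, Nat.mul_div_cancel _ hpp.pos]
    rw [h1] at h2
    have h3 : n = t - 1 := Nat.pow_right_injective hpp.two_le h2
    apply isCyclic_of_orderOf_eq_card b₀
    rw [ht, hcardR, ← pow_succ]
    congr 1; omega
  obtain ⟨w₀, hw₀, hw₀1⟩ := gS_prime p hpp hodd s₀ hs₀1
  have hgcd₀ : Nat.gcd (gS s₀ p) (p ^ n) = p := by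
    have hwcop : Nat.Coprime w₀ p := by
      have : Nat.gcd w₀ p = Nat.gcd 1 p := hw₀1.gcd_eq
      rw [Nat.Coprime, this]; simp
    obtain ⟨n', rfl⟩ : ∃ n', n = n' + 1 := ⟨n - 1, by omega⟩
    rw [hw₀, pow_succ, mul_comm (p ^ n') p, Nat.gcd_mul_left, (hwcop.pow_right n').gcd_eq_one, mul_one]
  obtain ⟨i₀, hi₀⟩ := exists_dvd_add_mul (p ^ n) (gS s₀ p) j₀ (pow_pos hpp.pos n) (by rw [hgcd₀]; exact hpj)
  obtain ⟨x, hx⟩ : ∃ x : R, x = b₀ * a ^ i₀ := ⟨_, rfl⟩
  have hxp : x ^ p = 1 := by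
    rw [hx, mul_pow_formula hs₀, hj₀', ← pow_add]
    rw [← hN] at hi₀
    exact orderOf_dvd_iff_pow_eq_one.1 hi₀
  have hxA : x ∉ Subgroup.zpowers a := by
    intro h
    apply hb₀
    have : b₀ = x * (a ^ i₀)⁻¹ := by rw [hx]; group
    rw [this]
    exact mul_mem h (inv_mem (Subgroup.pow_mem _ (Subgroup.mem_zpowers a) _))
  have hx1 : x ≠ 1 := fun h => hxA (h ▸ Subgroup.one_mem _)
  have hxo : orderOf x = p := orderOf_eq_prime hxp hx1
  refine ⟨x, z, hxA, hxo, hzo, ?_, hzA, hzc, ?_⟩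
  · exact ((Subgroup.mem_center_iff.mp hzc) x)
  · intro y hy
    have hxcl : x ∈ Subgroup.closure ({x, z} : Set R) := Subgroup.subset_closure (by simp)
    have hzcl : Subgroup.zpowers z ≤ Subgroup.closure ({x, z} : Set R) := by
      rw [Subgroup.zpowers_le]; exact Subgroup.subset_closure (by simp)
    by_cases hyA : y ∈ Subgroup.zpowers a
    · obtain ⟨i, hi⟩ := mem_powers_iff_mem_zpowers.mpr hyA
      have hi' : a ^ i = y := hi
      rw [← hi']
      apply hzcl
      apply hAp
      rw [hi']; exact hy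
    · -- y = x^k * a^i
      have hxq : ((x : R) : R ⧸ Subgroup.zpowers a) ≠ 1 := by
        rw [Ne, QuotientGroup.eq_one_iff]; exact hxA
      obtain ⟨k, hk⟩ := mem_powers_of_prime_card (g' := ((y : R) : R ⧸ Subgroup.zpowers a)) hQcard hxq
      have hk' : ((x ^ k : R) : R ⧸ Subgroup.zpowers a) = ((y : R) : R ⧸ Subgroup.zpowers a) := by
        rw [QuotientGroup.mk_pow]; exact hk
      have h1 : (x ^ k)⁻¹ * y ∈ Subgroup.zpowers a := by
        rw [← QuotientGroup.eq]; exact hk'
      obtain ⟨i, hi⟩ := mem_powers_iff_mem_zpowers.mpr h1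
      have hi' : a ^ i = (x ^ k)⁻¹ * y := hi
      have hy' : y = x ^ k * a ^ i := by rw [hi']; group
      obtain ⟨b, hb⟩ : ∃ b : R, b = x ^ k := ⟨_, rfl⟩
      rw [← hb] at hy'
      have hbp1 : b ^ p = 1 := by rw [hb, ← pow_mul, mul_comm, pow_mul, hxp, one_pow]
      obtain ⟨s, hs⟩ := exists_conj_pow a hAn b
      have hs1 := conj_exponent_modEq_one a b n hn hN s hs (hbp b)
      obtain ⟨w, hw, hw1⟩ := gS_prime p hpp hodd s hs1
      have hwcop : Nat.Coprime w p := by
        have : Nat.gcd w p = Nat.gcd 1 p := hw1.gcd_eq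
        rw [Nat.Coprime, this]; simp
      have h2 : y ^ p = a ^ (i * (p * w)) := by
        rw [hy', mul_pow_formula hs, hbp1, one_mul, hw]
      rw [hy] at h2
      have h3 : (a ^ (i * w)) ^ p = 1 := by
        rw [← pow_mul, h2]; congr 1; ring
      have h4 := hAp (i * w) h3
      -- a^i ∈ zpowers z since w is invertible mod p
      have h5 : a ^ i ∈ Subgroup.zpowers z := by
        -- (a^i)^p = 1
        apply hAp
        rw [← pow_mul]
        have h6 : p ^ n ∣ i * w * p := by
          rw [← hN]; apply orderOf_dvd_of_pow_eq_one; rw [pow_mul]; exact h3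
        have h7 : p ^ n ∣ (i * p) * w := by
          have : i * w * p = i * p * w := by ring
          rw [← this]; exact h6
        have h8 : p ^ n ∣ i * p := (Nat.Coprime.pow_left n hwcop.symm).dvd_of_dvd_mul_right h7
        rw [← hN] at h8
        exact orderOf_dvd_iff_pow_eq_one.1 h8
      rw [hy', hb]
      exact mul_mem (Subgroup.pow_mem _ hxcl k) (hzcl h5)

/-- `Ω₁` of a non-cyclic `p`-group (`p` odd) with a cyclic subgroup of index `p`, generator form -/
theorem omega_one_of_cyclic_index_p {R : Type*} [Group R] [Finite R] {p : ℕ} [Fact p.Prime] (hodd : p ≠ 2)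
    (hR : IsPGroup p R) (hnc : ¬ IsCyclic R) (C : Subgroup R) (hC : IsCyclic C) (hCi : C.index = p) :
    Cfsg.IsElementaryAbelian p (Subgroup.closure {x : R | x ^ p = 1}) ∧
      Nat.card (Subgroup.closure {x : R | x ^ p = 1}) = p ^ 2 := by
  have hpp : p.Prime := Fact.out
  obtain ⟨a', ha'⟩ := hC.exists_generator
  obtain ⟨a, haa⟩ : ∃ a : R, a = (a' : R) := ⟨_, rfl⟩
  have hCz : C = Subgroup.zpowers a := by
    ext x
    constructor
    · intro hx
      obtain ⟨k, hk⟩ := Subgroup.mem_zpowers_iff.1 (ha' ⟨x, hx⟩)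
      refine Subgroup.mem_zpowers_iff.2 ⟨k, ?_⟩
      have := congrArg Subtype.val hk
      rw [haa]
      simpa using this
    · intro hx
      rw [haa] at hx
      exact (Subgroup.zpowers_le.2 a'.2) hx
  have hCn : C.Normal := by
    apply Subgroup.normal_of_index_eq_minFac_card
    rw [hCi]
    obtain ⟨m, hm⟩ := IsPGroup.iff_card.mp hR
    have hm0 : m ≠ 0 := by
      rintro rfl
      rw [pow_zero] at hm
      have h1 := Subgroup.card_mul_index C
      rw [hm, hCi] at h1
      have := Nat.eq_one_of_mul_eq_one_left h1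
      exact hpp.one_lt.ne' this
    rw [hm, Nat.Prime.pow_minFac hpp hm0]
  rw [hCz] at hCn hCi
  obtain ⟨x, z, hxA, hxo, hzo, hxz, hzA, hzc, hall⟩ := omega_of_cyclic_index_p hodd hR hnc a hCn hCi
  have hxz' : x ∉ Subgroup.zpowers z := fun h => hxA ((Subgroup.zpowers_le.mpr hzA) h)
  obtain ⟨hE1, hE2, hE3⟩ := elem_abelian_sq_closure hpp x z hxz hxo hzo hxz'
  have heq : Subgroup.closure {y : R | y ^ p = 1} = Subgroup.closure ({x, z} : Set R) := by
    apply le_antisymm
    · rw [Subgroup.closure_le]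
      intro y hy
      exact hall y hy
    · apply Subgroup.closure_mono
      intro y hy
      rcases hy with rfl | rfl
      · show y ^ p = 1
        rw [← hxo, pow_orderOf_eq_one]
      · show y ^ p = 1
        rw [← hzo, pow_orderOf_eq_one]
  rw [heq]
  exact ⟨⟨hE1, hE3⟩, hE2⟩

end Cfsg.Agent.H1

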