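import Mathlib
import Cfsg.Prelude.Def_SolvableStructure
import Cfsg.Agent.H1.Basic

/-! Supersolvable groups via an inductive reachability predicate (helper1). -/

set_option autoImplicit false
open scoped Pointwise commutatorElement

namespace Cfsg.Agent.H1

universe u

/-- subgroups reachable from `⊥` by normal cyclic steps -/
inductive SSReach {G : Type u} [Group G] : Subgroup G → Prop
  | bot : SSReach ⊥
  | step (K : Subgroup G) (g : G) : SSReach K → K.Normal → (K ⊔ Subgroup.zpowers g).Normal →
      SSReach (K ⊔ Subgroup.zpowers g)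

theorem isSupersolvable_iff_reach {G : Type u} [Group G] :
    Cfsg.IsSupersolvable G ↔ SSReach (⊤ : Subgroup G) := by
  constructor
  · rintro ⟨n, H, h0, hlast, hnorm, hstep⟩
    have key : ∀ i : Fin (n + 1), SSReach (H i) := by
      intro i
      induction i using Fin.induction with
      | zero => rw [h0]; exact SSReach.bot
      | succ i ih =>
        obtain ⟨g, hg⟩ := hstep i
        rw [hg]
        exact SSReach.step _ g ih (hnorm _) (hg ▸ hnorm _)
    rw [← hlast]; exact key _
  · intro h
    have key : ∀ K : Subgroup G, SSReach K → ∃ (n : ℕ) (H : Fin (n + 1) → Subgroup G),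
        H 0 = ⊥ ∧ H (Fin.last n) = K ∧ (∀ i, (H i).Normal) ∧
          ∀ i : Fin n, ∃ g : G, H i.succ = H i.castSucc ⊔ Subgroup.zpowers g := by
      intro K hK
      induction hK with
      | bot => exact ⟨0, fun _ => ⊥, rfl, rfl, fun _ => inferInstance, fun i => i.elim0⟩
      | step K g _ hKn hKgn ih =>
        obtain ⟨n, H, h0, hl, hn, hs⟩ := ih
        refine ⟨n + 1, Fin.snoc H (K ⊔ Subgroup.zpowers g), ?_, ?_, ?_, ?_⟩
        · have : (0 : Fin (n + 2)) = Fin.castSucc (0 : Fin (n + 1)) := rfl
          rw [this, Fin.snoc_castSucc]; exact h0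
        · exact Fin.snoc_last _ _
        · intro i
          induction i using Fin.lastCases with
          | last => rw [Fin.snoc_last]; exact hKgn
          | cast j => rw [Fin.snoc_castSucc]; exact hn j
        · intro i
          induction i using Fin.lastCases with
          | last =>
            refine ⟨g, ?_⟩
            rw [Fin.succ_last, Fin.snoc_last, Fin.snoc_castSucc, hl]
          | cast j =>
            obtain ⟨g', hg'⟩ := hs j
            refine ⟨g', ?_⟩
            rw [← Fin.castSucc_succ, Fin.snoc_castSucc, Fin.snoc_castSucc, hg']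
    obtain ⟨n, H, h0, hl, hn, hs⟩ := key ⊤ h
    exact ⟨n, H, h0, hl, hn, hs⟩

theorem SSReach.map {G G' : Type u} [Group G] [Group G'] (f : G →* G') (hf : Function.Surjective f)
    {K : Subgroup G} (hK : SSReach K) : SSReach (K.map f) := by
  induction hK with
  | bot => rw [Subgroup.map_bot]; exact SSReach.bot
  | step K g _ hKn hKgn ih =>
    rw [Subgroup.map_sup, MonoidHom.map_zpowers]
    refine SSReach.step _ _ ih (hKn.map f hf) ?_
    rw [← MonoidHom.map_zpowers, ← Subgroup.map_sup]
    exact hKgn.map f hf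

theorem SSReach.comap_mk {G : Type u} [Group G] (N : Subgroup G) [hN : N.Normal] (hNr : SSReach N)
    {Kq : Subgroup (G ⧸ N)} (hK : SSReach Kq) : SSReach (Kq.comap (QuotientGroup.mk' N)) := by
  induction hK with
  | bot =>
    have : (⊥ : Subgroup (G ⧸ N)).comap (QuotientGroup.mk' N) = N := by
      ext x
      rw [Subgroup.mem_comap, Subgroup.mem_bot]
      exact QuotientGroup.eq_one_iff x
    rw [this]; exact hNr
  | step K q _ hKn hKqn ih =>
    obtain ⟨g, rfl⟩ := QuotientGroup.mk'_surjective N q
    have hNle : N ≤ K.comap (QuotientGroup.mk' N) :=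
      (QuotientGroup.ker_mk' N).symm.le.trans (MonoidHom.ker_le_comap _ _)
    have e : (K ⊔ Subgroup.zpowers (QuotientGroup.mk' N g)).comap (QuotientGroup.mk' N) =
        K.comap (QuotientGroup.mk' N) ⊔ Subgroup.zpowers g := by
      apply le_antisymm
      · intro x hx
        rw [Subgroup.mem_comap] at hx
        obtain ⟨k, hk, z, hz, hkz⟩ := Subgroup.mem_sup_of_normal_left.mp hx
        obtain ⟨j, rfl⟩ := Subgroup.mem_zpowers_iff.mp hz
        have h1 : QuotientGroup.mk' N (x * (g ^ j)⁻¹) = k := by
          rw [map_mul, map_inv, map_zpow, ← hkz, mul_inv_cancel_right]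
        have h2 : x * (g ^ j)⁻¹ ∈ K.comap (QuotientGroup.mk' N) := by
          rw [Subgroup.mem_comap, h1]; exact hk
        have e : x = (x * (g ^ j)⁻¹) * g ^ j := by group
        rw [e]
        exact mul_mem (Subgroup.mem_sup_left h2) (Subgroup.mem_sup_right (Subgroup.zpow_mem_zpowers g j))
      · apply sup_le (Subgroup.comap_mono le_sup_left)
        rw [Subgroup.zpowers_le, Subgroup.mem_comap]
        exact Subgroup.mem_sup_right (Subgroup.mem_zpowers _)
    rw [e]
    refine SSReach.step _ _ ih (hKn.comap _) ?_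
    rw [← e]; exact hKqn.comap _

theorem SSReach.subgroupOf {G : Type u} [Group G] (H : Subgroup G)
    {K : Subgroup G} (hK : SSReach K) : SSReach (K.subgroupOf H) := by
  induction hK with
  | bot => rw [Subgroup.bot_subgroupOf]; exact SSReach.bot
  | step K g _ hKn hKgn ih =>
    -- the image of `(K ⊔ ⟨g⟩) ∩ H` in `G ⧸ K` is cyclic
    obtain ⟨φ, hφ⟩ : ∃ φ : H →* G ⧸ K, φ = (QuotientGroup.mk' K).comp H.subtype := ⟨_, rfl⟩
    have hφker : ∀ x : H, φ x = 1 ↔ x ∈ K.subgroupOf H := by
      intro x
      rw [hφ, MonoidHom.comp_apply, Subgroup.mem_subgroupOf]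
      exact QuotientGroup.eq_one_iff _
    have hle : ((K ⊔ Subgroup.zpowers g).subgroupOf H).map φ ≤ Subgroup.zpowers (QuotientGroup.mk' K g) := by
      rintro _ ⟨x, hx, rfl⟩
      have hx' : (x : G) ∈ K ⊔ Subgroup.zpowers g := hx
      obtain ⟨k, hk, z, hz, hkz⟩ := Subgroup.mem_sup_of_normal_left.mp hx'
      obtain ⟨j, rfl⟩ := Subgroup.mem_zpowers_iff.mp hz
      have hk1 : QuotientGroup.mk' K k = 1 := (QuotientGroup.eq_one_iff k).mpr hk
      rw [hφ, MonoidHom.comp_apply, Subgroup.coe_subtype, ← hkz, map_mul, map_zpow, hk1, one_mul]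
      exact Subgroup.zpow_mem_zpowers _ j
    obtain ⟨n, hn⟩ := (Subgroup.le_zpowers_iff _ _).mp hle
    have hmem : (QuotientGroup.mk' K g) ^ n ∈ ((K ⊔ Subgroup.zpowers g).subgroupOf H).map φ := by
      rw [hn]; exact Subgroup.mem_zpowers _
    obtain ⟨h, hh, hhq⟩ := hmem
    have e : (K ⊔ Subgroup.zpowers g).subgroupOf H = K.subgroupOf H ⊔ Subgroup.zpowers h := by
      apply le_antisymm
      · intro x hx
        have h1 : φ x ∈ ((K ⊔ Subgroup.zpowers g).subgroupOf H).map φ := Subgroup.mem_map_of_mem _ hx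
        rw [hn, ← hhq] at h1
        obtain ⟨j, hj⟩ := Subgroup.mem_zpowers_iff.mp h1
        have h2 : x * (h ^ j)⁻¹ ∈ K.subgroupOf H := by
          rw [← hφker, map_mul, map_inv, map_zpow, hj, mul_inv_cancel]
        have e : x = (x * (h ^ j)⁻¹) * h ^ j := by group
        rw [e]
        exact mul_mem (Subgroup.mem_sup_left h2) (Subgroup.mem_sup_right (Subgroup.zpow_mem_zpowers h j))
      · apply sup_le
        · exact Subgroup.comap_mono le_sup_left
        · rw [Subgroup.zpowers_le]; exact hh
    rw [e]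
    refine SSReach.step _ _ ih ?_ ?_
    · exact hKn.comap _
    · rw [← e]; exact hKgn.comap _

theorem ssreach_of_isCyclic_normal {G : Type u} [Group G] (N : Subgroup G) [hN : N.Normal] [hc : IsCyclic N] :
    SSReach N := by
  obtain ⟨g, hg⟩ := (Subgroup.isCyclic_iff_exists_zpowers_eq_top N).mp hc
  have e : N = ⊥ ⊔ Subgroup.zpowers g := by rw [bot_sup_eq, hg]
  rw [e]
  exact SSReach.step ⊥ g SSReach.bot inferInstance (e ▸ hN)

end Cfsg.Agent.H1
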