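import Mathlib
import Cfsg.Prelude.Def_SolvableStructure
import Cfsg.Agent.H1.Basic
import Cfsg.Agent.H1.Supersolvable
import Cfsg.Agent.H1.Hall

/-! Supersolvable groups: normal subgroups of prime order, converse of Lagrange, maximal subgroups (helper1). -/

set_option autoImplicit false
open scoped Pointwise commutatorElement

namespace Cfsg.Agent.H1

universe u

theorem exists_normal_prime_of_reach {G : Type u} [Group G] [Finite G] {K : Subgroup G} (hK : SSReach K) :
    K = ⊥ ∨ ∃ N : Subgroup G, N.Normal ∧ (Nat.card N).Prime ∧ N ≤ K := by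
  induction hK with
  | bot => exact Or.inl rfl
  | step K g _ hKn hKgn ih =>
    rcases ih with rfl | ⟨N, hN, hp, hle⟩
    · by_cases hg : g = 1
      · left; rw [hg, Subgroup.zpowers_one_eq_bot, sup_bot_eq]
      · right
        have hZn : (Subgroup.zpowers g).Normal := by rwa [bot_sup_eq] at hKgn
        have hn1 : orderOf g ≠ 1 := fun h => hg (orderOf_eq_one_iff.mp h)
        have hn0 : orderOf g ≠ 0 := (orderOf_pos g).ne'
        obtain ⟨p, hp⟩ : ∃ p, p = (orderOf g).minFac := ⟨_, rfl⟩
        have hpp : p.Prime := hp ▸ Nat.minFac_prime hn1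
        have hpd : p ∣ orderOf g := hp ▸ Nat.minFac_dvd _
        have hdiv0 : orderOf g / p ≠ 0 := by
          intro h0
          rcases (Nat.div_eq_zero_iff).mp h0 with h1 | h1
          · exact hpp.ne_zero h1
          · exact absurd (Nat.le_of_dvd (Nat.pos_of_ne_zero hn0) hpd) (not_le.mpr h1)
        refine ⟨Subgroup.zpowers (g ^ (orderOf g / p)), ?_, ?_, ?_⟩
        · constructor
          intro y hy x
          obtain ⟨j, rfl⟩ := Subgroup.mem_zpowers_iff.mp hy
          have h1 : x * g * x⁻¹ ∈ Subgroup.zpowers g := hZn.conj_mem g (Subgroup.mem_zpowers g) x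
          obtain ⟨i, hi⟩ := Subgroup.mem_zpowers_iff.mp h1
          have h2 : x * (g ^ (orderOf g / p)) ^ j * x⁻¹ = ((g ^ (orderOf g / p)) ^ j) ^ i := by
            rw [← conj_zpow, ← conj_pow, ← hi]
            rw [← zpow_natCast, ← zpow_natCast, ← zpow_mul, ← zpow_mul, ← zpow_mul, ← zpow_mul]
            congr 1; ring
          rw [h2]
          exact zpow_mem (zpow_mem (Subgroup.mem_zpowers _) j) i
        · rw [Nat.card_zpowers, orderOf_pow_of_dvd hdiv0 (Nat.div_dvd_of_dvd hpd), Nat.div_div_self hpd hn0]
          exact hpp
        · rw [bot_sup_eq, Subgroup.zpowers_le]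
          exact pow_mem (Subgroup.mem_zpowers g) _
    · exact Or.inr ⟨N, hN, hp, hle.trans le_sup_left⟩

lemma card_comap_mk {G : Type*} [Group G] [Finite G] (N : Subgroup G) [N.Normal] (Hq : Subgroup (G ⧸ N)) :
    Nat.card (Hq.comap (QuotientGroup.mk' N)) = Nat.card Hq * Nat.card N := by
  have hidx : (Hq.comap (QuotientGroup.mk' N)).index = Hq.index :=
    Subgroup.index_comap_of_surjective Hq (QuotientGroup.mk'_surjective N)
  have h1 := (Hq.comap (QuotientGroup.mk' N)).card_mul_index
  have h2 := Hq.card_mul_index
  rw [hidx, Subgroup.card_eq_card_quotient_mul_card_subgroup N, ← h2] at h1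
  have hpos : 0 < Hq.index := Nat.pos_of_ne_zero Subgroup.index_ne_zero_of_finite
  apply Nat.eq_of_mul_eq_mul_right hpos
  rw [h1]; ring

theorem clt_of_reach : ∀ n : ℕ, ∀ (G : Type u) [Group G] [Finite G], Nat.card G = n →
    SSReach (⊤ : Subgroup G) → ∀ d : ℕ, d ∣ Nat.card G → ∃ H : Subgroup G, Nat.card H = d := by
  intro n
  induction n using Nat.strong_induction_on with
  | _ n ih =>
    intro G _ _ hn hG d hd
    rcases exists_normal_prime_of_reach hG with htop | ⟨N, hNn, hp, -⟩
    · have h1 : Nat.card G = 1 := by rw [← Subgroup.card_top (G := G), htop, Subgroup.card_bot]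
      rw [h1, Nat.dvd_one] at hd
      exact ⟨⊥, by rw [Subgroup.card_bot, hd]⟩
    · have hQ : SSReach (⊤ : Subgroup (G ⧸ N)) := by
        have := hG.map (QuotientGroup.mk' N) (QuotientGroup.mk'_surjective N)
        rwa [Subgroup.map_top_of_surjective _ (QuotientGroup.mk'_surjective N)] at this
      have hcard : Nat.card G = Nat.card (G ⧸ N) * Nat.card N := Subgroup.card_eq_card_quotient_mul_card_subgroup N
      have hlt : Nat.card (G ⧸ N) < n := by
        rw [← hn, hcard]
        have := hp.two_le
        have := Nat.card_pos (α := G ⧸ N)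
        nlinarith
      by_cases hpd : Nat.card N ∣ d
      · obtain ⟨d', rfl⟩ := hpd
        have hd' : d' ∣ Nat.card (G ⧸ N) := by
          rw [hcard, mul_comm (Nat.card (G ⧸ N))] at hd; exact Nat.dvd_of_mul_dvd_mul_left hp.pos hd
        obtain ⟨Hq, hHq⟩ := ih _ hlt (G ⧸ N) rfl hQ d' hd'
        exact ⟨Hq.comap (QuotientGroup.mk' N), by rw [card_comap_mk, hHq, mul_comm]⟩
      · have hcop : d.Coprime (Nat.card N) := Nat.Coprime.symm ((Nat.Prime.coprime_iff_not_dvd hp).mpr hpd)
        have hd' : d ∣ Nat.card (G ⧸ N) := by
          rw [hcard] at hd; exact hcop.dvd_of_dvd_mul_right hd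
        obtain ⟨Hq, hHq⟩ := ih _ hlt (G ⧸ N) rfl hQ d hd'
        obtain ⟨A, hA⟩ : ∃ A : Subgroup G, A = Hq.comap (QuotientGroup.mk' N) := ⟨_, rfl⟩
        have hAcard : Nat.card A = d * Nat.card N := by rw [hA, card_comap_mk, hHq]
        have hNA : N ≤ A := by
          rw [hA]; exact (QuotientGroup.ker_mk' N).symm.le.trans (MonoidHom.ker_le_comap _ _)
        have hN'card : Nat.card (N.subgroupOf A) = Nat.card N := card_subgroupOf_of_le hNA
        have hN'idx : (N.subgroupOf A).index = d := by
          have := (N.subgroupOf A).card_mul_index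
          rw [hN'card, hAcard, mul_comm d] at this
          exact Nat.eq_of_mul_eq_mul_left hp.pos this
        obtain ⟨H', hH'⟩ := Subgroup.exists_right_complement'_of_coprime (N := N.subgroupOf A)
          (by rw [hN'card, hN'idx]; exact hcop.symm)
        refine ⟨H'.map A.subtype, ?_⟩
        rw [Subgroup.card_map_of_injective A.subtype_injective]
        have := hH'.card_mul_card
        rw [hN'card, hAcard, mul_comm d] at this
        exact Nat.eq_of_mul_eq_mul_left hp.pos this

theorem prime_index_of_reach : ∀ n : ℕ, ∀ (G : Type u) [Group G] [Finite G], Nat.card G = n →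
    SSReach (⊤ : Subgroup G) → ∀ M : Subgroup G, IsCoatom M → M.index.Prime := by
  intro n
  induction n using Nat.strong_induction_on with
  | _ n ih =>
    intro G _ _ hn hG M hM
    rcases exists_normal_prime_of_reach hG with htop | ⟨N, hNn, hp, -⟩
    · exfalso
      exact hM.1 (by rw [eq_top_iff, htop]; exact bot_le)
    · have hπs := QuotientGroup.mk'_surjective N
      by_cases hNM : N ≤ M
      · have hQ : SSReach (⊤ : Subgroup (G ⧸ N)) := by
          have := hG.map (QuotientGroup.mk' N) hπs
          rwa [Subgroup.map_top_of_surjective _ hπs] at this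
        have hcard : Nat.card G = Nat.card (G ⧸ N) * Nat.card N := Subgroup.card_eq_card_quotient_mul_card_subgroup N
        have hlt : Nat.card (G ⧸ N) < n := by
          rw [← hn, hcard]
          have := hp.two_le
          have := Nat.card_pos (α := G ⧸ N)
          nlinarith
        have hcm : (M.map (QuotientGroup.mk' N)).comap (QuotientGroup.mk' N) = M := by
          rw [Subgroup.comap_map_eq, QuotientGroup.ker_mk', sup_eq_left.mpr hNM]
        have hMq : IsCoatom (M.map (QuotientGroup.mk' N)) := by
          constructor
          · intro h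
            apply hM.1
            rw [← hcm, h, Subgroup.comap_top]
          · intro L hL
            have h1 : M ≤ L.comap (QuotientGroup.mk' N) := by
              rw [← hcm]; exact Subgroup.comap_mono hL.le
            rcases eq_or_lt_of_le h1 with h2 | h2
            · exfalso
              apply hL.ne
              rw [h2, Subgroup.map_comap_eq_self_of_surjective hπs]
            · have h3 := hM.2 _ h2
              rw [← Subgroup.map_comap_eq_self_of_surjective hπs L, h3, Subgroup.map_top_of_surjective _ hπs]
        have hidx : (M.map (QuotientGroup.mk' N)).index = M.index := by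
          rw [Subgroup.index_map, QuotientGroup.ker_mk', sup_eq_left.mpr hNM,
            MonoidHom.range_eq_top_of_surjective _ hπs, Subgroup.index_top, mul_one]
        rw [← hidx]
        exact ih _ hlt (G ⧸ N) rfl hQ _ hMq
      · have hsup : M ⊔ N = ⊤ := by
          by_contra h
          have h1 : M ≤ M ⊔ N := le_sup_left
          rcases eq_or_lt_of_le h1 with h2 | h2
          · exact hNM (by rw [h2]; exact le_sup_right)
          · exact h (hM.2 _ h2)
        have hinf : M ⊓ N = ⊥ := by
          have hd : Nat.card (M ⊓ N : Subgroup G) ∣ Nat.card N := Subgroup.card_dvd_of_le inf_le_right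
          rcases (Nat.dvd_prime hp).mp hd with h1 | h1
          · exact Subgroup.card_eq_one.mp h1
          · exfalso
            apply hNM
            have : M ⊓ N = N := Subgroup.eq_of_le_of_card_ge inf_le_right h1.ge
            rw [← this]; exact inf_le_left
        have hMN : M ≤ Subgroup.normalizer (N : Set G) := by rw [Subgroup.normalizer_eq_top]; exact le_top
        have h1 := card_sup_mul_card_inf M N hMN
        rw [hsup, hinf, Subgroup.card_bot, mul_one, Subgroup.card_top] at h1
        have h2 := M.card_mul_index
        rw [h1] at h2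
        have : M.index = Nat.card N := Nat.eq_of_mul_eq_mul_left Nat.card_pos h2
        rw [this]; exact hp

end Cfsg.Agent.H1
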