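import Mathlib
import Cfsg.Prelude.Def_Transfer
import Cfsg.Agent.H1.CyclicMaximal
import Cfsg.Agent.H1.SupersolvableCLT
import Cfsg.Agent.H1.MinNonAbelian
import Cfsg.Agent.S0065

set_option autoImplicit false
open scoped Pointwise commutatorElement

namespace Cfsg.Agent.H1

universe u

/-- a nontrivial normal subgroup of a `p`-group contains a central element of order `p` -/
lemma exists_central_order_p {R : Type*} [Group R] [Finite R] {p : ℕ} [Fact p.Prime] (hR : IsPGroup p R)
    (N : Subgroup R) [N.Normal] (hN : N ≠ ⊥) : ∃ z ∈ N, z ∈ Subgroup.center R ∧ orderOf z = p := by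
  have hp : p.Prime := Fact.out
  have hnil : Group.IsNilpotent R := hR.isNilpotent
  have h1 := Cfsg.Agent.S0065.result N hN
  have hpg : IsPGroup p (N ⊓ Subgroup.center R : Subgroup R) := hR.to_subgroup _
  obtain ⟨k, hk⟩ := hpg.exists_card_eq
  have hk0 : k ≠ 0 := by
    rintro rfl
    rw [pow_zero] at hk
    exact h1 (Subgroup.card_eq_one.mp hk)
  have hdvd : p ∣ Nat.card (N ⊓ Subgroup.center R : Subgroup R) := by rw [hk]; exact dvd_pow_self p hk0
  obtain ⟨x, hx⟩ := exists_prime_orderOf_dvd_card' p hdvd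
  refine ⟨x, x.2.1, x.2.2, ?_⟩
  rw [Subgroup.orderOf_coe]; exact hx

/-- in a `p`-group, a normal subgroup contains normal subgroups of `G` of every possible order -/
theorem exists_normal_le_card_pow {p : ℕ} [Fact p.Prime] : ∀ (k : ℕ) (R : Type u) [Group R] [Finite R],
    IsPGroup p R → ∀ (N : Subgroup R) [N.Normal], p ^ k ∣ Nat.card N →
    ∃ M : Subgroup R, M ≤ N ∧ M.Normal ∧ Nat.card M = p ^ k := by
  have hp : p.Prime := Fact.out
  intro k
  induction k with
  | zero =>
    intro R _ _ _ N _ _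
    exact ⟨⊥, bot_le, inferInstance, by rw [Subgroup.card_bot, pow_zero]⟩
  | succ k ih =>
    intro R _ _ hR N hNn hdvd
    have hNb : N ≠ ⊥ := by
      intro h
      rw [h, Subgroup.card_bot] at hdvd
      have := Nat.le_of_dvd Nat.one_pos hdvd
      have h2 : 1 < p ^ (k + 1) := Nat.one_lt_pow (Nat.succ_ne_zero k) hp.one_lt
      omega
    obtain ⟨z, hzN, hzc, hzo⟩ := exists_central_order_p hR N hNb
    obtain ⟨Z, hZ⟩ : ∃ Z : Subgroup R, Z = Subgroup.zpowers z := ⟨_, rfl⟩
    have hZn : Z.Normal := by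
      rw [hZ]
      constructor
      intro n hn g
      obtain ⟨j, rfl⟩ := Subgroup.mem_zpowers_iff.mp hn
      have hc0 : Commute g z := Subgroup.mem_center_iff.mp hzc g
      have hc : Commute g (z ^ j) := hc0.zpow_right j
      rw [hc.eq, mul_inv_cancel_right]
      exact Subgroup.zpow_mem_zpowers z j
    have hZN : Z ≤ N := by rw [hZ, Subgroup.zpowers_le]; exact hzN
    have hZcard : Nat.card Z = p := by rw [hZ, Nat.card_zpowers, hzo]
    obtain ⟨N', hN'⟩ : ∃ N' : Subgroup (R ⧸ Z), N' = N.map (QuotientGroup.mk' Z) := ⟨_, rfl⟩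
    have hN'n : N'.Normal := by rw [hN']; exact hNn.map _ (QuotientGroup.mk'_surjective Z)
    have hcomap : N'.comap (QuotientGroup.mk' Z) = N := by
      rw [hN', Subgroup.comap_map_eq_self]
      rw [QuotientGroup.ker_mk']; exact hZN
    have hcard : Nat.card N = Nat.card N' * p := by
      rw [← hcomap, card_comap_mk, hZcard]
    have hdvd' : p ^ k ∣ Nat.card N' := by
      rw [hcard, pow_succ] at hdvd
      exact Nat.dvd_of_mul_dvd_mul_right hp.pos hdvd
    have hR' : IsPGroup p (R ⧸ Z) := hR.to_quotient Z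
    obtain ⟨M', hM'N', hM'n, hM'card⟩ := ih (R ⧸ Z) hR' N' hdvd'
    refine ⟨M'.comap (QuotientGroup.mk' Z), ?_, hM'n.comap _, ?_⟩
    · rw [← hcomap]
      exact Subgroup.comap_mono hM'N'
    · rw [card_comap_mk, hM'card, hZcard, pow_succ]

/-- relative version of "maximal normal abelian subgroups are self-centralizing" -/
lemma relative_self_centralizing {G : Type*} [Group G] [Finite G] [Group.IsNilpotent G]
    (S N : Subgroup G) [hSn : S.Normal] [N.Normal] [IsMulCommutative N] (hNS : N ≤ S)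
    (hmax : ∀ M : Subgroup G, M.Normal → IsMulCommutative M → M ≤ S → N ≤ M → M = N) :
    S ⊓ Subgroup.centralizer (N : Set G) = N := by
  have hNC : N ≤ S ⊓ Subgroup.centralizer (N : Set G) := by
    apply le_inf hNS
    intro n hn
    rw [Subgroup.mem_centralizer_iff]
    intro m hm
    exact setLike_mul_comm hm hn
  by_contra hne
  have hlt : ¬ S ⊓ Subgroup.centralizer (N : Set G) ≤ N := fun h => hne (le_antisymm h hNC)
  obtain ⟨C, hC⟩ : ∃ C : Subgroup G, C = S ⊓ Subgroup.centralizer (N : Set G) := ⟨_, rfl⟩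
  rw [← hC] at hlt
  have hCn : C.Normal := by
    rw [hC]
    have : (Subgroup.centralizer (N : Set G)).Normal := Subgroup.normal_centralizer
    infer_instance
  have hC'n : (C.map (QuotientGroup.mk' N)).Normal :=
    hCn.map _ (QuotientGroup.mk'_surjective N)
  have hC'ne : C.map (QuotientGroup.mk' N) ≠ ⊥ := by
    intro h
    apply hlt
    intro c hc
    have : QuotientGroup.mk' N c ∈ C.map (QuotientGroup.mk' N) := ⟨c, hc, rfl⟩
    rw [h, Subgroup.mem_bot] at this
    exact (QuotientGroup.eq_one_iff c).mp this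
  have h65 := Cfsg.Agent.S0065.result (C.map (QuotientGroup.mk' N)) hC'ne
  rw [Ne, Subgroup.eq_bot_iff_forall] at h65
  push Not at h65
  obtain ⟨xbar, hxbar, hxbar1⟩ := h65
  obtain ⟨⟨x, hxC, rfl⟩, hxZ⟩ := Subgroup.mem_inf.mp hxbar
  have hxN : x ∉ N := fun h => hxbar1 ((QuotientGroup.eq_one_iff x).mpr h)
  have hxS : x ∈ S := by rw [hC] at hxC; exact hxC.1
  have hxcent : x ∈ Subgroup.centralizer (N : Set G) := by rw [hC] at hxC; exact hxC.2
  obtain ⟨M, hM⟩ : ∃ M : Subgroup G, M = N ⊔ Subgroup.zpowers x := ⟨_, rfl⟩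
  have hMcomm : IsMulCommutative M := by
    have : M = Subgroup.closure ((N : Set G) ∪ {x}) := by
      rw [hM, Subgroup.closure_union, Subgroup.closure_eq, ← Subgroup.zpowers_eq_closure]
    rw [this]
    apply Subgroup.isMulCommutative_closure
    rintro a (ha | ha) b (hb | hb)
    · exact setLike_mul_comm ha hb
    · rw [Set.mem_singleton_iff] at hb; subst hb
      rw [Subgroup.mem_centralizer_iff] at hxcent
      exact hxcent a ha
    · rw [Set.mem_singleton_iff] at ha; subst ha
      rw [Subgroup.mem_centralizer_iff] at hxcent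
      exact (hxcent b hb).symm
    · rw [Set.mem_singleton_iff] at ha hb; rw [ha, hb]
  have hMn : M.Normal := by
    have h1 : (Subgroup.zpowers (QuotientGroup.mk' N x)).Normal := by
      constructor
      intro n hn g
      obtain ⟨k, rfl⟩ := Subgroup.mem_zpowers_iff.mp hn
      have hc : Commute g (QuotientGroup.mk' N x) := Subgroup.mem_center_iff.mp hxZ g
      have hcomm : g * (QuotientGroup.mk' N x) ^ k = (QuotientGroup.mk' N x) ^ k * g :=
        (hc.zpow_right k).eq
      rw [hcomm, mul_assoc, mul_inv_cancel, mul_one]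
      exact Subgroup.zpow_mem_zpowers _ k
    have h2 : M = (Subgroup.zpowers (QuotientGroup.mk' N x)).comap (QuotientGroup.mk' N) := by
      rw [hM, ← MonoidHom.map_zpowers, Subgroup.comap_map_eq, QuotientGroup.ker_mk', sup_comm]
    rw [h2]
    exact h1.comap _
  have hMS : M ≤ S := by
    rw [hM]
    exact sup_le hNS (Subgroup.zpowers_le.mpr hxS)
  have := hmax M hMn hMcomm hMS (by rw [hM]; exact le_sup_left)
  apply hxN
  rw [← this, hM]
  exact le_sup_right (a := N) (Subgroup.mem_zpowers x)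

/-- the subgroup generated by the elements of order dividing `p` is characteristic -/
lemma closure_pow_eq_one_characteristic {B : Type*} [Group B] (p : ℕ) :
    (Subgroup.closure {x : B | x ^ p = 1}).Characteristic := by
  rw [Subgroup.characteristic_iff_map_eq]
  intro φ
  rw [MonoidHom.map_closure]
  congr 1
  ext y
  constructor
  · rintro ⟨x, hx, rfl⟩
    show (φ x) ^ p = 1
    have hx' : x ^ p = 1 := hx
    have : φ.toMonoidHom x = φ x := rfl
    rw [← map_pow, hx', map_one]
  · intro hy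
    refine ⟨φ.symm y, ?_, by simp⟩
    show (φ.symm y) ^ p = 1
    have hy' : y ^ p = 1 := hy
    rw [← map_pow, hy', map_one]

theorem normal_elem_abelian_sq_le {R : Type*} [Group R] [Finite R] {p : ℕ} [Fact p.Prime] (hp : p ≠ 2)
    (hR : IsPGroup p R) (S : Subgroup R) [hSn : S.Normal] (hS : ¬ IsCyclic S) :
    ∃ A : Subgroup R, A ≤ S ∧ A.Normal ∧ Cfsg.IsElementaryAbelian p A ∧ Nat.card A = p ^ 2 := by
  have hpp : p.Prime := Fact.out
  have hnil : Group.IsNilpotent R := hR.isNilpotent
  obtain ⟨A₀, -, hA₀max⟩ := Finite.exists_le_maximal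
    (p := fun M : Subgroup R => M.Normal ∧ IsMulCommutative M ∧ M ≤ S) (a := ⊥)
    ⟨inferInstance, inferInstance, bot_le⟩
  obtain ⟨⟨hA₀n, hA₀c, hA₀S⟩, hA₀m⟩ := hA₀max
  have hmax : ∀ M : Subgroup R, M.Normal → IsMulCommutative M → M ≤ S → A₀ ≤ M → M = A₀ :=
    fun M h1 h2 h3 h4 => le_antisymm (hA₀m ⟨h1, h2, h3⟩ h4) h4
  have hself := relative_self_centralizing S A₀ hA₀S hmax
  have hcomm : ∀ a ∈ A₀, ∀ b ∈ A₀, a * b = b * a := by
    intro a ha b hb
    have := hA₀c.is_comm.comm ⟨a, ha⟩ ⟨b, hb⟩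
    exact congrArg Subtype.val this
  by_cases hc : IsCyclic A₀
  · -- cyclic case
    have hne : A₀ ≠ S := by
      intro h; rw [h] at hc; exact hS hc
    obtain ⟨S', hS'⟩ : ∃ S' : Subgroup (R ⧸ A₀), S' = S.map (QuotientGroup.mk' A₀) := ⟨_, rfl⟩
    have hS'n : S'.Normal := by rw [hS']; exact hSn.map _ (QuotientGroup.mk'_surjective A₀)
    have hS'comap : S'.comap (QuotientGroup.mk' A₀) = S := by
      rw [hS', Subgroup.comap_map_eq_self]
      rw [QuotientGroup.ker_mk']; exact hA₀S
    have hS'b : S' ≠ ⊥ := by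
      intro h
      apply hne
      apply le_antisymm hA₀S
      rw [← hS'comap, h]
      intro x hx
      rw [Subgroup.mem_comap, Subgroup.mem_bot] at hx
      exact (QuotientGroup.eq_one_iff x).mp hx
    obtain ⟨zb, hzbS, hzbc, hzbo⟩ := exists_central_order_p (hR.to_quotient A₀) S' hS'b
    have hZn : (Subgroup.zpowers zb).Normal := by
      constructor
      intro n hn g
      obtain ⟨j, rfl⟩ := Subgroup.mem_zpowers_iff.mp hn
      have hc0 : Commute g zb := Subgroup.mem_center_iff.mp hzbc g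
      have hc : Commute g (zb ^ j) := hc0.zpow_right j
      rw [hc.eq, mul_inv_cancel_right]
      exact Subgroup.zpow_mem_zpowers zb j
    obtain ⟨B, hB⟩ : ∃ B : Subgroup R, B = (Subgroup.zpowers zb).comap (QuotientGroup.mk' A₀) := ⟨_, rfl⟩
    have hBn : B.Normal := by rw [hB]; exact hZn.comap _
    have hA₀B : A₀ ≤ B := by
      rw [hB]
      intro x hx
      rw [Subgroup.mem_comap]
      have : QuotientGroup.mk' A₀ x = 1 := (QuotientGroup.eq_one_iff x).mpr hx
      rw [this]; exact one_mem _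
    have hBS : B ≤ S := by
      rw [hB, ← hS'comap]
      exact Subgroup.comap_mono (Subgroup.zpowers_le.mpr hzbS)
    have hBcard : Nat.card B = p * Nat.card A₀ := by
      rw [hB, card_comap_mk, Nat.card_zpowers, hzbo]
    have hBnc : ¬ IsCyclic B := by
      intro hcyc
      have hBc : IsMulCommutative B := inferInstance
      have := hmax B hBn hBc hBS hA₀B
      rw [this] at hBcard
      have hpos : 0 < Nat.card A₀ := Nat.card_pos
      have : 1 * Nat.card A₀ = p * Nat.card A₀ := by rw [one_mul]; exact hBcard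
      have := Nat.eq_of_mul_eq_mul_right hpos this
      exact hpp.one_lt.ne this
    have hCcyc : IsCyclic (A₀.subgroupOf B) :=
      isCyclic_of_surjective (Subgroup.subgroupOfEquivOfLe hA₀B).symm (Subgroup.subgroupOfEquivOfLe hA₀B).symm.surjective
    have hCidx : (A₀.subgroupOf B).index = p := by
      have h1 := Subgroup.card_mul_index (A₀.subgroupOf B)
      rw [Nat.card_congr (Subgroup.subgroupOfEquivOfLe hA₀B).toEquiv, hBcard, mul_comm] at h1
      exact Nat.eq_of_mul_eq_mul_right Nat.card_pos h1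
    obtain ⟨hΩ1, hΩ2⟩ := omega_one_of_cyclic_index_p hp (hR.to_subgroup B) hBnc (A₀.subgroupOf B) hCcyc hCidx
    have hΩchar := closure_pow_eq_one_characteristic (B := B) p
    have hΩn : ((Subgroup.closure {x : B | x ^ p = 1}).map B.subtype).Normal :=
      ConjAct.normal_of_characteristic_of_normal
    refine ⟨(Subgroup.closure {x : B | x ^ p = 1}).map B.subtype, ?_, hΩn, ?_, ?_⟩
    · exact (Subgroup.map_subtype_le _).trans hBS
    · refine ⟨⟨⟨?_⟩⟩, ?_⟩
      · rintro ⟨_, ⟨a, ha, rfl⟩⟩ ⟨_, ⟨b, hb, rfl⟩⟩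
        apply Subtype.ext
        have := hΩ1.1.is_comm.comm ⟨a, ha⟩ ⟨b, hb⟩
        have h2 : a * b = b * a := congrArg Subtype.val this
        show B.subtype a * B.subtype b = B.subtype b * B.subtype a
        rw [← map_mul, ← map_mul, h2]
      · rintro _ ⟨a, ha, rfl⟩
        have := hΩ1.2 a ha
        rw [← map_pow, this, map_one]
    · rw [Subgroup.card_map_of_injective B.subtype_injective]; exact hΩ2
  · -- noncyclic case
    have hA₀p : IsPGroup p A₀ := hR.to_subgroup A₀
    have hnu : ¬ (∀ B₁ B₂ : Subgroup A₀, Nat.card B₁ = p → Nat.card B₂ = p → B₁ = B₂) := by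
      intro h
      exact hc (Cfsg.Agent.H2.UOP.isCyclic_of_comm p hA₀p (fun x y => hA₀c.is_comm.comm x y) h)
    push Not at hnu
    obtain ⟨B₁, B₂, hB₁, hB₂, hB₁₂⟩ := hnu
    have hgen : ∀ D : Subgroup A₀, Nat.card D = p → ∃ d : A₀, orderOf d = p ∧ Subgroup.zpowers d = D := by
      intro D hD
      have hDb : D ≠ ⊥ := by
        intro h
        rw [h, Subgroup.card_bot] at hD
        exact hpp.one_lt.ne hD
      obtain ⟨⟨d, hdD⟩, hd1⟩ := (Subgroup.ne_bot_iff_exists_ne_one).mp hDb
      have hd1' : d ≠ 1 := fun h => hd1 (Subtype.ext h)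
      have hdo : orderOf d = p := by
        have h1 : orderOf d ∣ p := by
          have := orderOf_dvd_natCard (⟨d, hdD⟩ : D)
          rwa [hD, Subgroup.orderOf_mk] at this
        rcases (Nat.dvd_prime hpp).mp h1 with h2 | h2
        · exact absurd (orderOf_eq_one_iff.mp h2) hd1'
        · exact h2
      refine ⟨d, hdo, ?_⟩
      exact Subgroup.eq_of_le_of_card_ge (Subgroup.zpowers_le.mpr hdD) (by rw [Nat.card_zpowers, hdo, hD])
    obtain ⟨d₁, hd₁o, hd₁⟩ := hgen B₁ hB₁
    obtain ⟨d₂, hd₂o, hd₂⟩ := hgen B₂ hB₂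
    have hd₁₂ : (d₁ : R) ∉ Subgroup.zpowers (d₂ : R) := by
      intro h
      apply hB₁₂
      obtain ⟨k, hk⟩ := Subgroup.mem_zpowers_iff.mp h
      have h1 : d₁ ∈ Subgroup.zpowers d₂ := by
        rw [Subgroup.mem_zpowers_iff]
        exact ⟨k, Subtype.ext (by rw [Subgroup.coe_zpow]; exact hk)⟩
      have h2 : Subgroup.zpowers d₁ ≤ Subgroup.zpowers d₂ := Subgroup.zpowers_le.mpr h1
      have h3 : Subgroup.zpowers d₁ = Subgroup.zpowers d₂ :=
        Subgroup.eq_of_le_of_card_ge h2 (by rw [Nat.card_zpowers, Nat.card_zpowers, hd₁o, hd₂o])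
      rw [← hd₁, ← hd₂, h3]
    obtain ⟨hE1, hE2, hE3⟩ := elem_abelian_sq_closure hpp (d₁ : R) (d₂ : R) (hcomm _ d₁.2 _ d₂.2)
      (by rw [Subgroup.orderOf_coe]; exact hd₁o) (by rw [Subgroup.orderOf_coe]; exact hd₂o) hd₁₂
    -- Ω₁(A₀)
    have hΩn : (omegaSub p A₀ hcomm).Normal := omegaSub_normal p A₀ hcomm
    have hEΩ : Subgroup.closure ({(d₁ : R), (d₂ : R)} : Set R) ≤ omegaSub p A₀ hcomm := by
      rw [Subgroup.closure_le]
      intro y hy
      rcases hy with rfl | rfl
      · refine ⟨d₁.2, ?_⟩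
        have := pow_orderOf_eq_one d₁
        rw [hd₁o] at this
        exact congrArg Subtype.val this
      · refine ⟨d₂.2, ?_⟩
        have := pow_orderOf_eq_one d₂
        rw [hd₂o] at this
        exact congrArg Subtype.val this
    have hdvd : p ^ 2 ∣ Nat.card (omegaSub p A₀ hcomm) := by
      rw [← hE2]; exact Subgroup.card_dvd_of_le hEΩ
    obtain ⟨M, hMΩ, hMn, hMcard⟩ := exists_normal_le_card_pow 2 R hR (omegaSub p A₀ hcomm) hdvd
    refine ⟨M, ?_, hMn, ?_, hMcard⟩
    · exact fun x hx => hA₀S (hMΩ hx).1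
    · refine ⟨⟨⟨?_⟩⟩, ?_⟩
      · rintro ⟨a, ha⟩ ⟨b, hb⟩
        exact Subtype.ext (hcomm a (hMΩ ha).1 b (hMΩ hb).1)
      · intro a ha
        exact (hMΩ ha).2

end Cfsg.Agent.H1

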