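import Mathlib
import Cfsg.Agent.H1.AlperinOmega
import Cfsg.Agent.H1.Abelian

set_option autoImplicit false

namespace Cfsg.Agent.H1

section cib
variable {G : Type*} [Group G] [Finite G]

/-- if all commutators `[b, a]` (`b ∈ B`) lie in `Z`, the index of `C_B(a)` in `B` is at most `|Z|` -/
lemma relIndex_centralizer_le_card (B Z : Subgroup G) (a : G)
    (hZ : ∀ b ∈ B, b * a * b⁻¹ * a⁻¹ ∈ Z) :
    (B ⊓ Subgroup.centralizer ({a} : Set G)).relIndex B ≤ Nat.card Z := by
  obtain ⟨C, hC⟩ : ∃ C, C = (B ⊓ Subgroup.centralizer ({a} : Set G)).subgroupOf B := ⟨_, rfl⟩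
  have hrel : (B ⊓ Subgroup.centralizer ({a} : Set G)).relIndex B = C.index := by rw [hC]; rfl
  rw [hrel]
  have hmemC : ∀ b : B, b ∈ C ↔ (b : G) * a = a * b := by
    intro b
    rw [hC, Subgroup.mem_subgroupOf, Subgroup.mem_inf, Subgroup.mem_centralizer_singleton_iff]
    constructor
    · rintro ⟨-, h⟩; exact h
    · intro h; exact ⟨b.2, h⟩
  let f : B ⧸ C → Z := Quotient.lift (s := QuotientGroup.leftRel C)
    (fun b : B => (⟨(b : G) * a * (b : G)⁻¹ * a⁻¹, hZ b b.2⟩ : Z)) (by
      intro b b' hbb'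
      replace hbb' := (hmemC _).1 (QuotientGroup.leftRel_apply.1 hbb')
      apply Subtype.ext
      simp only
      have h1 : (b : G)⁻¹ * b' * a = a * ((b : G)⁻¹ * b') := by
        simpa using hbb'
      have h2 : (b' : G) * a * (b' : G)⁻¹ = (b : G) * a * (b : G)⁻¹ := by
        have : (b' : G) * a = b * (a * ((b : G)⁻¹ * b')) := by rw [← h1]; group
        rw [this]; group
      rw [h2])
  have hf : Function.Injective f := by
    intro q q'
    induction q using Quotient.inductionOn with
    | _ b =>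
    induction q' using Quotient.inductionOn with
    | _ b' =>
    intro h
    apply Quotient.sound
    apply QuotientGroup.leftRel_apply.2
    rw [hmemC]
    have h1 : (b : G) * a * (b : G)⁻¹ * a⁻¹ = (b' : G) * a * (b' : G)⁻¹ * a⁻¹ := congrArg Subtype.val h
    have h2 : (b : G) * a * (b : G)⁻¹ = (b' : G) * a * (b' : G)⁻¹ := mul_right_cancel h1
    simp only [Subgroup.coe_mul, Subgroup.coe_inv]
    calc (b : G)⁻¹ * b' * a = (b : G)⁻¹ * ((b' : G) * a * (b' : G)⁻¹) * b' := by group
      _ = (b : G)⁻¹ * ((b : G) * a * (b : G)⁻¹) * b' := by rw [h2]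
      _ = a * ((b : G)⁻¹ * b') := by group
  rw [Subgroup.index_eq_card]
  exact Nat.card_le_card_of_injective f hf

/-- a nontrivial normal subgroup `A` of a `p`-group has a `G`-normal subgroup `B` of index `p`,
with `A = B⟨x⟩` and `[x, G] ≤ B` -/
lemma exists_normal_index_p_le {p : ℕ} [Fact p.Prime] (hG : IsPGroup p G) (A : Subgroup G)
    [hAn : A.Normal] (hA : A ≠ ⊥) :
    ∃ (B : Subgroup G) (x : G), B.Normal ∧ B ≤ A ∧ x ∈ A ∧ x ∉ B ∧ A = B ⊔ Subgroup.zpowers x ∧
      (∀ g : G, x * g * x⁻¹ * g⁻¹ ∈ B) ∧ Nat.card A = p * Nat.card B := by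
  obtain ⟨B, -, hBmax⟩ := Finite.exists_le_maximal
    (p := fun B : Subgroup G => B.Normal ∧ B ≤ A ∧ B ≠ A) (a := (⊥ : Subgroup G))
    ⟨inferInstance, bot_le, fun h => hA h.symm⟩
  obtain ⟨⟨hBn, hBA, hBne⟩, hBmax'⟩ := hBmax
  haveI := hBn
  have hne : ¬ A ≤ B := fun h => hBne (le_antisymm hBA h)
  obtain ⟨x, hxA, hxB, hxp, hxc⟩ := exists_central_order_p_mod hG B A hne
  have hB'n : (B ⊔ Subgroup.zpowers x).Normal := by
    rw [← Subgroup.normalizer_eq_top_iff, eq_top_iff]
    intro g _
    apply mem_normalizer_sup_zpowers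
    have e : g * x * g⁻¹ = (x * g * x⁻¹ * g⁻¹)⁻¹ * x := by group
    rw [e]
    exact mul_mem (Subgroup.mem_sup_left (inv_mem (hxc g))) (Subgroup.mem_sup_right (Subgroup.mem_zpowers _))
  have hB'A : B ⊔ Subgroup.zpowers x ≤ A := sup_le hBA (by rw [Subgroup.zpowers_le]; exact hxA)
  have hB'eq : B ⊔ Subgroup.zpowers x = A := by
    by_contra hcon
    have h1 : B ⊔ Subgroup.zpowers x ≤ B := hBmax' ⟨hB'n, hB'A, hcon⟩ le_sup_left
    exact hxB (h1 (Subgroup.mem_sup_right (Subgroup.mem_zpowers x)))
  refine ⟨B, x, hBn, hBA, hxA, hxB, hB'eq.symm, hxc, ?_⟩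
  have h1 := index_eq_mul_index_sup_zpowers B x hxB hxp
  rw [hB'eq] at h1
  have h2 := Subgroup.card_mul_index B
  have h3 := Subgroup.card_mul_index A
  have h4 : A.index ≠ 0 := Subgroup.index_ne_zero_of_finite
  have h5 : Nat.card A * A.index = (p * Nat.card B) * A.index := by
    rw [h3, ← h2, h1]; ring
  exact Nat.eq_of_mul_eq_mul_right (Nat.pos_of_ne_zero h4) h5

/-- `|G : C_G(A)| ≤ p^(0+1+…+(a-1))` for a normal subgroup `A` of order `p^a` of a `p`-group -/
theorem index_centralizer_le_of_normal {p : ℕ} [Fact p.Prime] (hG : IsPGroup p G) :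
    ∀ (a : ℕ) (A : Subgroup G), A.Normal → Nat.card A = p ^ a →
      (Subgroup.centralizer (A : Set G)).index ≤ p ^ (∑ i ∈ Finset.range a, i) := by
  have hp : p.Prime := Fact.out
  intro a
  induction a with
  | zero =>
    intro A _ hA
    rw [pow_zero, Subgroup.card_eq_one] at hA
    rw [hA]
    have : Subgroup.centralizer (((⊥ : Subgroup G) : Subgroup G) : Set G) = ⊤ := by
      rw [eq_top_iff]
      intro g _
      rw [Subgroup.mem_centralizer_iff]
      intro h hh
      have : h = 1 := hh
      rw [this, one_mul, mul_one]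
    rw [this]
    simp
  | succ a ih =>
    intro A hAn hA
    haveI := hAn
    have hAne : A ≠ ⊥ := by
      intro h
      rw [h, Subgroup.card_bot] at hA
      have := Nat.one_lt_pow (Nat.succ_ne_zero a) hp.one_lt
      rw [← hA] at this
      exact lt_irrefl _ this
    obtain ⟨B, x, hBn, hBA, hxA, hxB, hAeq, hxc, hcard⟩ := exists_normal_index_p_le hG A hAne
    have hcardB : Nat.card B = p ^ a := by
      rw [hA, pow_succ, mul_comm] at hcard
      exact (Nat.eq_of_mul_eq_mul_left hp.pos hcard).symm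
    have ih' := ih B hBn hcardB
    obtain ⟨D, hDdef⟩ : ∃ D : Subgroup G, D = Subgroup.centralizer (B : Set G) := ⟨_, rfl⟩
    rw [← hDdef] at ih'
    have hCA : Subgroup.centralizer (A : Set G) = D ⊓ Subgroup.centralizer ({x} : Set G) := by
      apply le_antisymm
      · apply le_inf
        · rw [hDdef]; exact Subgroup.centralizer_le hBA
        · apply Subgroup.centralizer_le
          intro t ht
          rw [Set.mem_singleton_iff] at ht
          rw [ht]; exact hxA
      · intro g hg
        obtain ⟨hgD, hgx⟩ := Subgroup.mem_inf.1 hg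
        rw [hDdef] at hgD
        rw [Subgroup.mem_centralizer_iff]
        have h1 : A ≤ Subgroup.centralizer ({g} : Set G) := by
          rw [hAeq]
          apply sup_le
          · intro b hb
            rw [Subgroup.mem_centralizer_iff] at hgD
            rw [Subgroup.mem_centralizer_singleton_iff]
            exact (hgD b hb)
          · rw [Subgroup.zpowers_le, Subgroup.mem_centralizer_singleton_iff]
            rw [Subgroup.mem_centralizer_singleton_iff] at hgx
            exact hgx.symm
        intro e he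
        have := h1 he
        rw [Subgroup.mem_centralizer_singleton_iff] at this
        exact this
    have hrel : (D ⊓ Subgroup.centralizer ({x} : Set G)).relIndex D ≤ Nat.card B := by
      apply relIndex_centralizer_le_card
      intro d _
      have e : d * x * d⁻¹ * x⁻¹ = (x * d * x⁻¹ * d⁻¹)⁻¹ := by group
      rw [e]
      exact inv_mem (hxc d)
    rw [hCA, ← Subgroup.relIndex_mul_index (inf_le_left : D ⊓ Subgroup.centralizer ({x} : Set G) ≤ D),
      Finset.sum_range_succ, pow_add, mul_comm (p ^ _) (p ^ a)]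
    exact Nat.mul_le_mul (hcardB ▸ hrel) ih'

/-- a maximal normal abelian subgroup of a `p`-group is self-centralizing -/
theorem centralizer_eq_of_maximal_normal_abelian {p : ℕ} [Fact p.Prime] (hG : IsPGroup p G)
    (A : Subgroup G) [hAn : A.Normal] (hA : IsMulCommutative A)
    (hmax : ∀ B : Subgroup G, B.Normal → IsMulCommutative B → A ≤ B → B = A) :
    Subgroup.centralizer (A : Set G) = A := by
  apply le_antisymm _ (le_centralizer_of_isMulCommutative A hA)
  by_contra hcon
  haveI : (Subgroup.centralizer (A : Set G)).Normal := inferInstance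
  obtain ⟨x, hxC, hxA, -, hxc⟩ := exists_central_order_p_mod hG A (Subgroup.centralizer (A : Set G)) hcon
  have hn : (A ⊔ Subgroup.zpowers x).Normal := by
    rw [← Subgroup.normalizer_eq_top_iff, eq_top_iff]
    intro g _
    apply mem_normalizer_sup_zpowers
    have e : g * x * g⁻¹ = (x * g * x⁻¹ * g⁻¹)⁻¹ * x := by group
    rw [e]
    exact mul_mem (Subgroup.mem_sup_left (inv_mem (hxc g))) (Subgroup.mem_sup_right (Subgroup.mem_zpowers _))
  have h1 := hmax _ hn (isMulCommutative_sup_zpowers A hA x hxC) le_sup_left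
  apply hxA
  rw [← h1]
  exact Subgroup.mem_sup_right (Subgroup.mem_zpowers x)

theorem card_le_of_maximal_normal_abelian' {p : ℕ} [Fact p.Prime] (hG : IsPGroup p G)
    (A : Subgroup G) [hAn : A.Normal] (hA : IsMulCommutative A)
    (hmax : ∀ B : Subgroup G, B.Normal → IsMulCommutative B → A ≤ B → B = A) (a : ℕ)
    (ha : Nat.card A = p ^ a) : Nat.card G ≤ p ^ (a * (a + 1) / 2) := by
  have hp : p.Prime := Fact.out
  have h1 := index_centralizer_le_of_normal hG a A hAn ha
  rw [centralizer_eq_of_maximal_normal_abelian hG A hA hmax] at h1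
  rw [← Subgroup.card_mul_index A, ha]
  have h2 : a * (a + 1) / 2 = a + ∑ i ∈ Finset.range a, i := by
    have := Finset.sum_range_id_mul_two (a + 1)
    rw [Finset.sum_range_succ] at this
    simp only [Nat.add_sub_cancel] at this
    have h3 : a * (a + 1) = ((∑ i ∈ Finset.range a, i) + a) * 2 := by rw [this, mul_comm]
    rw [h3, Nat.mul_div_cancel _ two_pos, add_comm]
  rw [h2, pow_add]
  exact Nat.mul_le_mul_left _ h1

end cib

end Cfsg.Agent.H1
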