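import Mathlib
import Cfsg.Agent.H1.NormalRankTwo
import Cfsg.Agent.H1.Card
import Cfsg.Agent.H1.CoprimeAction
import Cfsg.Agent.H1.SylowMore
import Cfsg.Agent.S0111
import Cfsg.Agent.H1.MinNonPClosed

set_option linter.style.haveILetI false
set_option linter.unusedSimpArgs false
set_option linter.unusedVariables false
set_option linter.unusedSectionVars false

namespace Cfsg.Agent.H1

section fourgroup
variable {S : Type*} [Group S] [Finite S]

/-- an abelian 2-subgroup with at most one involution is cyclic -/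
lemma exists_zpowers_eq_of_unique_involution (hS : IsPGroup 2 S) (A : Subgroup S)
    (hA : ∀ x ∈ A, ∀ y ∈ A, x * y = y * x) (z : S) (hz : ∀ x ∈ A, x ^ 2 = 1 → x = 1 ∨ x = z) :
    ∃ a ∈ A, A = Subgroup.zpowers a := by
  obtain ⟨a₀, ha₀⟩ := Finite.exists_max (fun b : A => orderOf (b : S))
  obtain ⟨a, haA⟩ := a₀
  simp only at ha₀
  refine ⟨a, haA, ?_⟩
  have hord2 : ∀ x : S, ∃ m : ℕ, orderOf x = 2 ^ m := by
    intro x
    obtain ⟨m, hm⟩ := hS x
    have h1 : orderOf x ∣ 2 ^ m := orderOf_dvd_of_pow_eq_one hm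
    obtain ⟨j, -, hj⟩ := (Nat.dvd_prime_pow Nat.prime_two).1 h1
    exact ⟨j, hj⟩
  obtain ⟨n, hn⟩ := hord2 a
  apply le_antisymm _ (Subgroup.zpowers_le.2 haA)
  -- strong induction on the order
  have key : ∀ m : ℕ, ∀ b ∈ A, orderOf b = m → b ∈ Subgroup.zpowers a := by
    intro m
    induction m using Nat.strong_induction_on with
    | _ m ih =>
      intro b hb hbm
      by_cases hb1 : b = 1
      · rw [hb1]; exact one_mem _
      obtain ⟨mb, hmb⟩ := hord2 b
      have hmb1 : 1 ≤ mb := by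
        rcases Nat.eq_zero_or_pos mb with h0 | h0
        · rw [h0, pow_zero, orderOf_eq_one_iff] at hmb; exact absurd hmb hb1
        · exact h0
      have hle : orderOf b ≤ orderOf a := ha₀ ⟨b, hb⟩
      have hmbn : mb ≤ n := by
        rw [hmb, hn] at hle
        exact (Nat.pow_le_pow_iff_right (by norm_num)).1 hle
      have hn1 : 1 ≤ n := hmb1.trans hmbn
      -- order of b^2
      have hb2ord : orderOf (b ^ 2) < orderOf b := by
        rw [orderOf_pow, hmb]
        have h2 : Nat.gcd (2 ^ mb) 2 = 2 := by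
          apply Nat.gcd_eq_right
          exact dvd_pow_self 2 (by omega)
        rw [h2]
        exact Nat.div_lt_self (by positivity) (by norm_num)
      have hb2 : b ^ 2 ∈ Subgroup.zpowers a :=
        ih _ (by rw [← hbm]; exact hb2ord) (b ^ 2) (pow_mem hb 2) rfl
      rw [← mem_powers_iff_mem_zpowers] at hb2
      obtain ⟨k, hk'⟩ := hb2
      have hk : a ^ k = b ^ 2 := hk'
      -- b^(2^n) = 1
      have hbN : b ^ 2 ^ n = 1 := by
        rw [← orderOf_dvd_iff_pow_eq_one, hmb]
        exact pow_dvd_pow 2 hmbn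
      have hk2 : 2 ∣ k := by
        have h1 : (a ^ k) ^ 2 ^ (n - 1) = 1 := by
          rw [hk, ← pow_mul]
          have : 2 * 2 ^ (n - 1) = 2 ^ n := by
            rw [← pow_succ']; congr 1; omega
          rw [this, hbN]
        rw [← pow_mul, ← orderOf_dvd_iff_pow_eq_one, hn] at h1
        have h3 : 2 ^ n = 2 ^ (n - 1) * 2 := by
          rw [← pow_succ]; congr 1; omega
        rw [h3, mul_comm k] at h1
        exact Nat.dvd_of_mul_dvd_mul_left (by positivity) h1
      obtain ⟨k', rfl⟩ := hk2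
      have hak' : a ^ k' ∈ A := pow_mem haA k'
      have hc2 : (b * (a ^ k')⁻¹) ^ 2 = 1 := by
        have hcomm : b * (a ^ k')⁻¹ = (a ^ k')⁻¹ * b := hA _ hb _ (inv_mem hak')
        rw [pow_two]
        calc b * (a ^ k')⁻¹ * (b * (a ^ k')⁻¹) = b * ((a ^ k')⁻¹ * b) * (a ^ k')⁻¹ := by group
          _ = b * (b * (a ^ k')⁻¹) * (a ^ k')⁻¹ := by rw [hcomm]
          _ = b ^ 2 * ((a ^ k') ^ 2)⁻¹ := by rw [pow_two, pow_two, mul_inv_rev]; simp only [mul_assoc]
          _ = 1 := by rw [← hk, ← pow_mul, mul_comm k' 2, mul_inv_cancel]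
      rcases hz _ (mul_mem hb (inv_mem hak')) hc2 with h1 | h1
      · have : b = a ^ k' := by
          rw [mul_inv_eq_one] at h1; exact h1
        rw [this]; exact Subgroup.pow_mem _ (Subgroup.mem_zpowers a) _
      · -- z ∈ ⟨a⟩
        have hw2 : (a ^ 2 ^ (n - 1)) ^ 2 = 1 := by
          rw [← pow_mul, ← pow_succ, ← orderOf_dvd_iff_pow_eq_one, hn]
          apply pow_dvd_pow; omega
        have hw1 : a ^ 2 ^ (n - 1) ≠ 1 := by
          apply pow_ne_one_of_lt_orderOf (by positivity)
          rw [hn]; exact Nat.pow_lt_pow_right (by norm_num) (by omega)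
        have hwz : a ^ 2 ^ (n - 1) = z :=
          (hz _ (pow_mem haA _) hw2).resolve_left hw1
        have : b = z * a ^ k' := by
          rw [← h1]; group
        rw [this, ← hwz]
        exact mul_mem (Subgroup.pow_mem _ (Subgroup.mem_zpowers a) _)
          (Subgroup.pow_mem _ (Subgroup.mem_zpowers a) _)
  intro b hb
  exact key _ b hb rfl

omit [Group S] [Finite S] in
lemma ncard_pair_le' (x y : S) : ({x, y} : Set S).ncard ≤ 2 := by
  have h1 := Set.ncard_insert_le x ({y} : Set S)
  rw [Set.ncard_singleton] at h1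
  exact h1

/-- core of the argument: cyclic self-centralizing normal `A = ⟨a⟩` with an `E₈` around -/
theorem exists_normal_four_group_aux (hS : IsPGroup 2 S) (E : Subgroup S) (hE8 : Nat.card E = 8)
    (hE2 : ∀ e ∈ E, e ^ 2 = 1) (A : Subgroup S) (hAn : A.Normal)
    (hAc : ∀ x ∈ A, ∀ y ∈ A, x * y = y * x) (hcent : Subgroup.centralizer (A : Set S) = A)
    (z : S) (hz : ∀ x ∈ A, x ^ 2 = 1 → x = 1 ∨ x = z) (a : S) (haA : a ∈ A) (hAa : A = Subgroup.zpowers a) :
    ∃ U : Subgroup S, U.Normal ∧ Nat.card U = 4 ∧ ∀ u ∈ U, u ^ 2 = 1 := by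
  classical
  haveI : Fact (Nat.Prime 2) := ⟨Nat.prime_two⟩
  -- `E ∩ A ⊆ {1, z}`
  have hEA : ∀ e ∈ E, e ∈ A → e = 1 ∨ e = z := fun e he heA => hz e heA (hE2 e he)
  have hcardset : ∀ T : Set S, (E : Set S) ⊆ T → T.Finite → 8 ≤ T.ncard := by
    intro T hT hfin
    have h1 : Nat.card E = (E : Set S).ncard := by
      rw [← Nat.card_coe_set_eq]; rfl
    rw [← hE8, h1]
    exact Set.ncard_le_ncard hT hfin
  -- pick `e₁`
  have hex1 : ∃ e₁ ∈ E, e₁ ∉ A := by
    by_contra hcon
    push Not at hcon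
    have h1 : (E : Set S) ⊆ {1, z} := by
      intro e he
      rcases hEA e he (hcon e he) with h | h
      · rw [h]; simp
      · rw [h]; simp
    have h2 := hcardset _ h1 (Set.toFinite _)
    have h3 : ({1, z} : Set S).ncard ≤ 2 := ncard_pair_le' 1 z
    omega
  obtain ⟨e₁, he₁E, he₁A⟩ := hex1
  have hex2 : ∃ e₂ ∈ E, e₂ ∉ A ∧ e₁ * e₂ ∉ A := by
    by_contra hcon
    push Not at hcon
    have h1 : (E : Set S) ⊆ {1, z, e₁⁻¹, e₁⁻¹ * z} := by
      intro e he
      by_cases heA : e ∈ A
      · rcases hEA e he heA with h | h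
        · rw [h]; simp
        · rw [h]; simp
      · have h2 := hcon e he heA
        rcases hEA _ (mul_mem he₁E he) h2 with h | h
        · have : e = e₁⁻¹ := eq_inv_of_mul_eq_one_right h
          rw [this]; simp
        · have : e = e₁⁻¹ * z := by rw [← h]; group
          rw [this]; simp
    have h2 := hcardset _ h1 (Set.toFinite _)
    have h3 : ({1, z, e₁⁻¹, e₁⁻¹ * z} : Set S).ncard ≤ 4 := by
      have := Set.ncard_insert_le (1 : S) {z, e₁⁻¹, e₁⁻¹ * z}
      have := Set.ncard_insert_le z {e₁⁻¹, e₁⁻¹ * z}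
      have := ncard_pair_le' e₁⁻¹ (e₁⁻¹ * z)
      omega
    omega
  obtain ⟨e₂, he₂E, he₂A, he₁₂A⟩ := hex2
  -- order of `a`
  have hord2 : ∀ x : S, ∃ m : ℕ, orderOf x = 2 ^ m := by
    intro x
    obtain ⟨m, hm⟩ := hS x
    have h1 : orderOf x ∣ 2 ^ m := orderOf_dvd_of_pow_eq_one hm
    obtain ⟨j, -, hj⟩ := (Nat.dvd_prime_pow Nat.prime_two).1 h1
    exact ⟨j, hj⟩
  obtain ⟨n, hn⟩ := hord2 a
  have hcardA : Nat.card A = 2 ^ n := by rw [hAa, Nat.card_zpowers, hn]
  -- `n ≥ 2`
  have hn2 : 2 ≤ n := by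
    by_contra hcon
    have hn1 : n ≤ 1 := by omega
    -- then `a² = 1`, `a` is central, so `A = S`
    have ha2 : a ^ 2 = 1 := by
      rw [← orderOf_dvd_iff_pow_eq_one, hn]
      calc 2 ^ n ∣ 2 ^ 1 := pow_dvd_pow 2 hn1
        _ = 2 := pow_one 2
    have hacen : ∀ s : S, s * a * s⁻¹ = a := by
      intro s
      have h1 : s * a * s⁻¹ ∈ A := hAn.conj_mem a haA s
      have h2 : (s * a * s⁻¹) ^ 2 = 1 := by rw [conj_pow, ha2]; simp
      rcases hz a haA ha2 with h | h
      · rw [h]; simp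
      · rcases hz _ h1 h2 with h' | h'
        · have : a = 1 := by
            have h3 : a = s⁻¹ * (s * a * s⁻¹) * s := by group
            rw [h3, h']; group
          rw [this]; simp
        · rw [h', h]
    have htop : Subgroup.centralizer (A : Set S) = ⊤ := by
      rw [eq_top_iff]
      intro s _
      rw [Subgroup.mem_centralizer_iff]
      intro x hx
      rw [hAa] at hx
      obtain ⟨i, rfl⟩ := Subgroup.mem_zpowers_iff.1 hx
      have h1 : s * a = a * s := by
        have := hacen s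
        calc s * a = s * a * s⁻¹ * s := by group
          _ = a * s := by rw [this]
      exact ((Commute.zpow_right h1 i).eq).symm
    rw [hcent] at htop
    have h1 : Nat.card E ≤ Nat.card A := by
      rw [htop]; exact Subgroup.card_le_of_le le_top
    rw [hE8, hcardA] at h1
    have : 2 ^ n ≤ 2 ^ 1 := Nat.pow_le_pow_right (by norm_num) hn1
    omega
  -- the elements `q` and `z`
  obtain ⟨q, hq⟩ : ∃ q : S, q = a ^ 2 ^ (n - 2) := ⟨_, rfl⟩
  have hqA : q ∈ A := by rw [hq]; exact pow_mem haA _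
  have hq2 : q ^ 2 = a ^ 2 ^ (n - 1) := by
    rw [hq, ← pow_mul, ← pow_succ]; congr 2; omega
  have hq2ne : q ^ 2 ≠ 1 := by
    rw [hq2]
    apply pow_ne_one_of_lt_orderOf (by positivity)
    rw [hn]; exact Nat.pow_lt_pow_right (by norm_num) (by omega)
  have hq4 : (q ^ 2) ^ 2 = 1 := by
    rw [hq2, ← pow_mul, ← pow_succ, ← orderOf_dvd_iff_pow_eq_one, hn]
    apply pow_dvd_pow; omega
  have hqz : q ^ 2 = z := (hz _ (pow_mem hqA 2) hq4).resolve_left hq2ne
  have hz1 : z ≠ 1 := by rw [← hqz]; exact hq2ne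
  have hzA : z ∈ A := by rw [← hqz]; exact pow_mem hqA 2
  have hzz : z ^ 2 = 1 := by rw [← hqz]; exact hq4
  have hzmul : z * z = 1 := by rw [← pow_two]; exact hzz
  have hzcen : ∀ s : S, s * z * s⁻¹ = z := by
    intro s
    have h1 : s * z * s⁻¹ ∈ A := hAn.conj_mem z hzA s
    have h2 : (s * z * s⁻¹) ^ 2 = 1 := by rw [conj_pow, hzz]; simp
    rcases hz _ h1 h2 with h' | h'
    · exfalso; apply hz1
      have h3 : z = s⁻¹ * (s * z * s⁻¹) * s := by group
      rw [h3, h']; group
    · exact h'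
  have hzcomm : ∀ s : S, s * z = z * s := by
    intro s
    calc s * z = s * z * s⁻¹ * s := by group
      _ = z * s := by rw [hzcen s]
  -- (F2)
  have hF2 : ∀ x ∈ A, (x ^ 2) ^ 2 = 1 → x = 1 ∨ x = q ∨ x = z ∨ x = q * z := by
    intro x hx hx4
    rcases hz _ (pow_mem hx 2) hx4 with h | h
    · rcases hz x hx h with h' | h'
      · left; exact h'
      · right; right; left; exact h'
    · have hc : x * q⁻¹ = q⁻¹ * x := hAc _ hx _ (inv_mem hqA)
      have h2 : (x * q⁻¹) ^ 2 = 1 := by
        rw [pow_two]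
        calc x * q⁻¹ * (x * q⁻¹) = x * (q⁻¹ * x) * q⁻¹ := by group
          _ = x * (x * q⁻¹) * q⁻¹ := by rw [hc]
          _ = x ^ 2 * (q ^ 2)⁻¹ := by rw [pow_two, pow_two, mul_inv_rev]; simp only [mul_assoc]
          _ = 1 := by rw [h, hqz, mul_inv_cancel]
      rcases hz _ (mul_mem hx (inv_mem hqA)) h2 with h' | h'
      · right; left
        rw [mul_inv_eq_one] at h'; exact h'
      · right; right; right
        have : x = z * q := by rw [← h']; group
        rw [this, hzcomm]
  -- (F3)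
  have hF3 : ∀ s : S, s * q * s⁻¹ = q ∨ s * q * s⁻¹ = q * z := by
    intro s
    have h1 : s * q * s⁻¹ ∈ A := hAn.conj_mem q hqA s
    have h2 : (s * q * s⁻¹) ^ 2 = z := by rw [conj_pow, hqz, hzcen]
    have h3 : ((s * q * s⁻¹) ^ 2) ^ 2 = 1 := by rw [h2, hzz]
    rcases hF2 _ h1 h3 with h | h | h | h
    · exfalso; rw [h, one_pow] at h2; exact hz1 h2.symm
    · left; exact h
    · exfalso; rw [h, hzz] at h2; exact hz1 h2.symm
    · right; exact h
  have hflip : ∀ s t : S, s * q * s⁻¹ = q * z → t * q * t⁻¹ = q * z → (s * t) * q * (s * t)⁻¹ = q := by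
    intro s t hs ht
    calc (s * t) * q * (s * t)⁻¹ = s * (t * q * t⁻¹) * s⁻¹ := by group
      _ = s * (q * z) * s⁻¹ := by rw [ht]
      _ = (s * q * s⁻¹) * (s * z * s⁻¹) := by group
      _ = q * z * z := by rw [hs, hzcen]
      _ = q := by rw [mul_assoc, hzmul, mul_one]
  -- (F4) selection of `e`
  have hexe : ∃ e ∈ E, e ∉ A ∧ e * q * e⁻¹ = q := by
    rcases hF3 e₁ with h1 | h1
    · exact ⟨e₁, he₁E, he₁A, h1⟩
    rcases hF3 e₂ with h2 | h2
    · exact ⟨e₂, he₂E, he₂A, h2⟩
    exact ⟨e₁ * e₂, mul_mem he₁E he₂E, he₁₂A, hflip _ _ h1 h2⟩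
  obtain ⟨e, heE, heA, heq⟩ := hexe
  have hee : e * e = 1 := by rw [← pow_two]; exact hE2 e heE
  have heinv : e⁻¹ = e := inv_eq_of_mul_eq_one_left hee
  -- `e` centralizes the elements of order dividing 4 in `A`
  have hecen4 : ∀ x ∈ A, (x ^ 2) ^ 2 = 1 → e * x * e⁻¹ = x := by
    intro x hx hx4
    rcases hF2 x hx hx4 with h | h | h | h
    · rw [h]; simp
    · rw [h]; exact heq
    · rw [h]; exact hzcen e
    · rw [h]
      calc e * (q * z) * e⁻¹ = (e * q * e⁻¹) * (e * z * e⁻¹) := by group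
        _ = q * z := by rw [heq, hzcen]
  -- (F5)
  obtain ⟨c, hc⟩ : ∃ c : S, c = a⁻¹ * (e * a * e⁻¹) := ⟨_, rfl⟩
  have heaA : e * a * e⁻¹ ∈ A := hAn.conj_mem a haA e
  have hcA : c ∈ A := by rw [hc]; exact mul_mem (inv_mem haA) heaA
  have hecinv : e * c * e⁻¹ = c⁻¹ := by
    have h1 : e * c * e⁻¹ = (e * a * e⁻¹)⁻¹ * ((e * e) * a * (e * e)⁻¹) := by rw [hc]; group
    have h2 : c⁻¹ = (e * a * e⁻¹)⁻¹ * a := by rw [hc, mul_inv_rev, inv_inv]
    rw [h1, hee, one_mul, inv_one, mul_one, h2]
  have hc2 : c ^ 2 = 1 := by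
    by_contra hc2
    obtain ⟨m, hm⟩ := hord2 c
    have hm2 : 2 ≤ m := by
      by_contra hcon
      apply hc2
      rw [← orderOf_dvd_iff_pow_eq_one, hm]
      calc 2 ^ m ∣ 2 ^ 1 := pow_dvd_pow 2 (by omega)
        _ = 2 := pow_one 2
    obtain ⟨q', hq'⟩ : ∃ q' : S, q' = c ^ 2 ^ (m - 2) := ⟨_, rfl⟩
    have hq'A : q' ∈ A := by rw [hq']; exact pow_mem hcA _
    have hq'2 : q' ^ 2 = c ^ 2 ^ (m - 1) := by
      rw [hq', ← pow_mul, ← pow_succ]; congr 2; omega
    have hq'2ne : q' ^ 2 ≠ 1 := by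
      rw [hq'2]
      apply pow_ne_one_of_lt_orderOf (by positivity)
      rw [hm]; exact Nat.pow_lt_pow_right (by norm_num) (by omega)
    have hq'4 : (q' ^ 2) ^ 2 = 1 := by
      rw [hq'2, ← pow_mul, ← pow_succ, ← orderOf_dvd_iff_pow_eq_one, hm]
      apply pow_dvd_pow; omega
    have h1 := hecen4 q' hq'A hq'4
    have h2 : e * q' * e⁻¹ = q'⁻¹ := by
      rw [hq', ← conj_pow, hecinv, inv_pow]
    rw [h1] at h2
    apply hq'2ne
    rw [pow_two]
    nth_rewrite 2 [h2]
    exact mul_inv_cancel q'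
  have hc1 : c ≠ 1 := by
    intro h1
    apply heA
    rw [← hcent, Subgroup.mem_centralizer_iff]
    intro x hx
    rw [hAa] at hx
    obtain ⟨i, rfl⟩ := Subgroup.mem_zpowers_iff.1 hx
    have h2 : e * a * e⁻¹ = a := by
      have : e * a * e⁻¹ = a * c := by rw [hc]; group
      rw [this, h1, mul_one]
    have h3 : e * a = a * e := by
      calc e * a = e * a * e⁻¹ * e := by group
        _ = a * e := by rw [h2]
    exact ((Commute.zpow_right h3 i).eq).symm
  have hcz : c = z := (hz c hcA hc2).resolve_left hc1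
  have hea : e * a * e⁻¹ = a * z := by
    rw [← hcz, hc]; group
  -- (F6)
  have hF6 : ∀ x ∈ A, e * x * e⁻¹ = x ∨ e * x * e⁻¹ = x * z := by
    intro x hx
    rw [hAa] at hx
    obtain ⟨i, rfl⟩ := Subgroup.mem_zpowers_iff.1 hx
    have h1 : e * a ^ i * e⁻¹ = (a * z) ^ i := by
      rw [← hea]
      exact (conj_zpow (a := e) (b := a) (i := i)).symm
    have h2 : (a * z) ^ i = a ^ i * z ^ i := Commute.mul_zpow (hzcomm a) i
    rw [h1, h2]
    rcases Int.even_or_odd i with ⟨j, hj⟩ | ⟨j, hj⟩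
    · left
      have : z ^ i = 1 := by
        rw [hj, ← two_mul, zpow_mul, zpow_ofNat, hzz, one_zpow]
      rw [this, mul_one]
    · right
      have : z ^ i = z := by
        rw [hj, zpow_add, zpow_one, zpow_mul, zpow_ofNat, hzz, one_zpow, one_mul]
      rw [this]
  -- (F7)
  have hF7 : ∀ s : S, s * e * s⁻¹ = e ∨ s * e * s⁻¹ = e * z := by
    intro s
    obtain ⟨e', he'⟩ : ∃ e' : S, e' = s * e * s⁻¹ := ⟨_, rfl⟩
    rw [← he']
    have ha'A : s⁻¹ * a * s ∈ A := by
      have := hAn.conj_mem a haA s⁻¹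
      rwa [inv_inv] at this
    have he'a : e' * a * e'⁻¹ = a * z := by
      have h1 : e' * a * e'⁻¹ = s * (e * (s⁻¹ * a * s) * e⁻¹) * s⁻¹ := by rw [he']; group
      rcases hF6 _ ha'A with h | h
      · exfalso
        rw [h] at h1
        have h2 : e' * a * e'⁻¹ = a := by rw [h1]; group
        have h3 : e' ∈ Subgroup.centralizer (A : Set S) := by
          rw [Subgroup.mem_centralizer_iff]
          intro x hx
          rw [hAa] at hx
          obtain ⟨i, rfl⟩ := Subgroup.mem_zpowers_iff.1 hx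
          have h4 : e' * a = a * e' := by
            calc e' * a = e' * a * e'⁻¹ * e' := by group
              _ = a * e' := by rw [h2]
          exact ((Commute.zpow_right h4 i).eq).symm
        rw [hcent] at h3
        apply heA
        have h5 := hAn.conj_mem e' h3 s⁻¹
        have h6 : s⁻¹ * e' * s⁻¹⁻¹ = e := by rw [he']; group
        rw [h6] at h5
        exact h5
      · rw [h1, h]
        calc s * (s⁻¹ * a * s * z) * s⁻¹ = a * (s * z * s⁻¹) := by group
          _ = a * z := by rw [hzcen]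
    -- x = e * e'
    obtain ⟨x, hx⟩ : ∃ x : S, x = e * e' := ⟨_, rfl⟩
    have hxa : x * a * x⁻¹ = a := by
      have h1 : x * a * x⁻¹ = e * (e' * a * e'⁻¹) * e⁻¹ := by rw [hx]; group
      rw [h1, he'a]
      calc e * (a * z) * e⁻¹ = (e * a * e⁻¹) * (e * z * e⁻¹) := by group
        _ = a * z * z := by rw [hea, hzcen]
        _ = a := by rw [mul_assoc, hzmul, mul_one]
    have hxA : x ∈ A := by
      rw [← hcent, Subgroup.mem_centralizer_iff]
      intro y hy
      rw [hAa] at hy
      obtain ⟨i, rfl⟩ := Subgroup.mem_zpowers_iff.1 hy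
      have h4 : x * a = a * x := by
        calc x * a = x * a * x⁻¹ * x := by group
          _ = a * x := by rw [hxa]
      exact ((Commute.zpow_right h4 i).eq).symm
    have he'x : e' = e * x := by
      rw [hx, ← mul_assoc, hee, one_mul]
    have he'2 : e' * e' = 1 := by
      rw [he']
      calc s * e * s⁻¹ * (s * e * s⁻¹) = s * (e * e) * s⁻¹ := by group
        _ = 1 := by rw [hee]; group
    have h7 : (e * x * e⁻¹) * x = 1 := by
      have : (e * x * e⁻¹) * x = (e * x) * (e * x) := by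
        rw [heinv]
        group
      rw [this, ← he'x, he'2]
    have hx4 : (x ^ 2) ^ 2 = 1 := by
      rcases hF6 x hxA with h | h
      · rw [h] at h7
        rw [pow_two x, h7, one_pow]
      · rw [h] at h7
        have h8 : x ^ 2 = z := by
          have h9 : x * z * x = x * x * z := by
            rw [mul_assoc, ← hzcomm x, mul_assoc]
          rw [h9] at h7
          rw [pow_two]
          calc x * x = x * x * z * z := by rw [mul_assoc (x * x), hzmul, mul_one]
            _ = z := by rw [h7, one_mul]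
        rw [h8, hzz]
    have hxe := hecen4 x hxA hx4
    rw [hxe] at h7
    have hx2 : x ^ 2 = 1 := by rw [pow_two]; exact h7
    rcases hz x hxA hx2 with h | h
    · left; rw [he'x, h, mul_one]
    · right; rw [he'x, h]
  -- (F8) the four-group
  have hez : e * z = z * e := hzcomm e
  have hzn : (Subgroup.zpowers z).Normal := by
    constructor
    intro x hx s
    obtain ⟨i, rfl⟩ := Subgroup.mem_zpowers_iff.1 hx
    rw [← conj_zpow, hzcen]
    exact Subgroup.zpow_mem _ (Subgroup.mem_zpowers z) i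
  have hUmem : ∀ u ∈ Subgroup.zpowers z ⊔ Subgroup.zpowers e, u = 1 ∨ u = z ∨ u = e ∨ u = e * z := by
    intro u hu
    obtain ⟨x, hx, y, hy, rfl⟩ := Subgroup.mem_sup_of_normal_left.1 hu
    have hx' : x = 1 ∨ x = z := by
      obtain ⟨i, rfl⟩ := Subgroup.mem_zpowers_iff.1 hx
      rcases Int.even_or_odd i with ⟨j, hj⟩ | ⟨j, hj⟩
      · left; rw [hj, ← two_mul, zpow_mul, zpow_ofNat, hzz, one_zpow]
      · right; rw [hj, zpow_add, zpow_one, zpow_mul, zpow_ofNat, hzz, one_zpow, one_mul]
    have hy' : y = 1 ∨ y = e := by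
      obtain ⟨i, rfl⟩ := Subgroup.mem_zpowers_iff.1 hy
      have he2 : e ^ 2 = 1 := hE2 e heE
      rcases Int.even_or_odd i with ⟨j, hj⟩ | ⟨j, hj⟩
      · left; rw [hj, ← two_mul, zpow_mul, zpow_ofNat, he2, one_zpow]
      · right; rw [hj, zpow_add, zpow_one, zpow_mul, zpow_ofNat, he2, one_zpow, one_mul]
    rcases hx' with rfl | rfl <;> rcases hy' with rfl | rfl
    · left; simp
    · right; right; left; simp
    · right; left; simp
    · right; right; right; exact hez.symm
  refine ⟨Subgroup.zpowers z ⊔ Subgroup.zpowers e, ?_, ?_, ?_⟩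
  · -- normal
    constructor
    intro u hu s
    have hzU : z ∈ Subgroup.zpowers z ⊔ Subgroup.zpowers e :=
      Subgroup.mem_sup_left (Subgroup.mem_zpowers z)
    have heU : e ∈ Subgroup.zpowers z ⊔ Subgroup.zpowers e :=
      Subgroup.mem_sup_right (Subgroup.mem_zpowers e)
    have hse : s * e * s⁻¹ ∈ Subgroup.zpowers z ⊔ Subgroup.zpowers e := by
      rcases hF7 s with h | h
      · rw [h]; exact heU
      · rw [h]; exact mul_mem heU hzU
    rcases hUmem u hu with rfl | rfl | rfl | rfl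
    · simp
    · rw [hzcen]; exact hzU
    · exact hse
    · have : s * (e * z) * s⁻¹ = (s * e * s⁻¹) * (s * z * s⁻¹) := by group
      rw [this, hzcen]
      exact mul_mem hse hzU
  · -- card
    have h1 := card_sup_mul_card_inf (Subgroup.zpowers e) (Subgroup.zpowers z)
      (by rw [Subgroup.normalizer_eq_top (Subgroup.zpowers z)]; exact le_top)
    have hinf : Subgroup.zpowers e ⊓ Subgroup.zpowers z = ⊥ := by
      rw [eq_bot_iff]
      intro u hu
      rw [Subgroup.mem_bot]
      have huA : u ∈ A := (Subgroup.zpowers_le.2 hzA) hu.2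
      have hy' : u = 1 ∨ u = e := by
        obtain ⟨i, rfl⟩ := Subgroup.mem_zpowers_iff.1 hu.1
        have he2 : e ^ 2 = 1 := hE2 e heE
        rcases Int.even_or_odd i with ⟨j, hj⟩ | ⟨j, hj⟩
        · left; rw [hj, ← two_mul, zpow_mul, zpow_ofNat, he2, one_zpow]
        · right; rw [hj, zpow_add, zpow_one, zpow_mul, zpow_ofNat, he2, one_zpow, one_mul]
      rcases hy' with h | h
      · exact h
      · exfalso; rw [h] at huA; exact heA huA
    have he1 : e ≠ 1 := fun h => heA (h ▸ one_mem A)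
    have hoe : orderOf e = 2 := orderOf_eq_prime (hE2 e heE) he1
    have hoz : orderOf z = 2 := orderOf_eq_prime hzz hz1
    rw [hinf, Subgroup.card_bot, mul_one, Nat.card_zpowers, Nat.card_zpowers, hoe, hoz, sup_comm] at h1
    exact h1
  · intro u hu
    have he2 : e ^ 2 = 1 := hE2 e heE
    rcases hUmem u hu with rfl | rfl | rfl | rfl
    · simp
    · exact hzz
    · exact he2
    · rw [pow_two]
      calc e * z * (e * z) = e * (z * e) * z := by group
        _ = e * (e * z) * z := by rw [hez]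
        _ = (e * e) * (z * z) := by group
        _ = 1 := by rw [hee, hzmul, one_mul]

/-- a 2-group containing an elementary abelian subgroup of order 8 has a normal four-group -/
theorem exists_normal_four_group (hS : IsPGroup 2 S) (E : Subgroup S) (hE8 : Nat.card E = 8)
    (hE2 : ∀ e ∈ E, e ^ 2 = 1) :
    ∃ U : Subgroup S, U.Normal ∧ Nat.card U = 4 ∧ ∀ u ∈ U, u ^ 2 = 1 := by
  classical
  haveI : Fact (Nat.Prime 2) := ⟨Nat.prime_two⟩
  haveI hnil : Group.IsNilpotent S := hS.isNilpotent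
  obtain ⟨A, hAmax⟩ := Set.Finite.exists_maximal
    (Set.toFinite {N : Subgroup S | N.Normal ∧ IsMulCommutative N})
    ⟨⊥, inferInstance, ⟨⟨fun x y => Subtype.ext (by
      have hx := Subgroup.mem_bot.1 x.2
      have hy := Subgroup.mem_bot.1 y.2
      show (x : S) * (y : S) = (y : S) * (x : S)
      rw [hx, hy])⟩⟩⟩
  obtain ⟨hAn, hAc⟩ := hAmax.prop
  haveI := hAn
  haveI := hAc
  have hcent : Subgroup.centralizer (A : Set S) = A := by
    have h1 := relative_self_centralizing (⊤ : Subgroup S) A le_top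
      (fun M hMn hMc _ hAM => le_antisymm (hAmax.le_of_ge ⟨hMn, hMc⟩ hAM) hAM)
    rwa [top_inf_eq] at h1
  have hAcomm : ∀ x ∈ A, ∀ y ∈ A, x * y = y * x := fun x hx y hy => setLike_mul_comm hx hy
  -- `Ω₁(A)`
  let Ω : Subgroup S :=
    { carrier := {x | x ∈ A ∧ x ^ 2 = 1}
      one_mem' := ⟨one_mem _, one_pow _⟩
      mul_mem' := by
        rintro x y ⟨hx, hx2⟩ ⟨hy, hy2⟩
        refine ⟨mul_mem hx hy, ?_⟩
        have hc : x * y = y * x := hAcomm x hx y hy
        have : (x * y) ^ 2 = x ^ 2 * y ^ 2 := by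
          rw [pow_two, pow_two, pow_two]
          calc x * y * (x * y) = x * (y * x) * y := by simp only [mul_assoc]
            _ = x * (x * y) * y := by rw [hc]
            _ = x * x * (y * y) := by simp only [mul_assoc]
        rw [this, hx2, hy2, one_mul]
      inv_mem' := by
        rintro x ⟨hx, hx2⟩
        exact ⟨inv_mem hx, by rw [inv_pow, hx2, inv_one]⟩ }
  have hΩmem : ∀ x, x ∈ Ω ↔ x ∈ A ∧ x ^ 2 = 1 := fun x => Iff.rfl
  haveI hΩn : Ω.Normal := by
    constructor
    intro x hx s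
    rw [hΩmem] at hx ⊢
    exact ⟨hAn.conj_mem x hx.1 s, by rw [conj_pow, hx.2]; simp⟩
  by_cases h4 : 2 ^ 2 ∣ Nat.card Ω
  · obtain ⟨M, hMΩ, hMn, hMcard⟩ := exists_normal_le_card_pow 2 S hS Ω h4
    refine ⟨M, hMn, by rw [hMcard]; norm_num, ?_⟩
    intro u hu
    exact ((hΩmem u).1 (hMΩ hu)).2
  · -- at most one involution in `A`
    obtain ⟨j, hj⟩ := (hS.to_subgroup Ω).exists_card_eq
    have hj1 : j ≤ 1 := by
      by_contra hcon
      apply h4
      rw [hj]
      exact pow_dvd_pow 2 (by omega)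
    have hzex : ∃ z : S, ∀ x ∈ A, x ^ 2 = 1 → x = 1 ∨ x = z := by
      rcases Nat.eq_zero_or_pos j with h0 | h0
      · refine ⟨1, fun x hx hx2 => ?_⟩
        left
        rw [h0, pow_zero, Subgroup.card_eq_one] at hj
        have : x ∈ Ω := (hΩmem x).2 ⟨hx, hx2⟩
        rw [hj, Subgroup.mem_bot] at this
        exact this
      · have hj' : j = 1 := by omega
        rw [hj', pow_one] at hj
        obtain ⟨z, hz1, hz2⟩ := (Nat.card_eq_two_iff' (1 : Ω)).1 hj
        refine ⟨(z : S), fun x hx hx2 => ?_⟩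
        by_cases h1 : x = 1
        · left; exact h1
        · right
          have hxΩ : x ∈ Ω := (hΩmem x).2 ⟨hx, hx2⟩
          have := hz2 ⟨x, hxΩ⟩ (fun h => h1 (congrArg Subtype.val h))
          exact congrArg Subtype.val this
    obtain ⟨z, hz⟩ := hzex
    obtain ⟨a, haA, hAa⟩ := exists_zpowers_eq_of_unique_involution hS A hAcomm z hz
    exact exists_normal_four_group_aux hS E hE8 hE2 A hAn hAcomm hcent z hz a haA hAa

end fourgroup

section rank3
variable {G : Type*} [Group G] [Finite G]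

/-- the elements of a four-group -/
lemma four_group_elems (U : Subgroup G) (hU4 : Nat.card U = 4) (hU2 : ∀ u ∈ U, u ^ 2 = 1) (z u : G)
    (hz : z ∈ U) (hz1 : z ≠ 1) (hu : u ∈ U) (hu1 : u ≠ 1) (huz : u ≠ z) :
    ∀ v ∈ U, v = 1 ∨ v = z ∨ v = u ∨ v = u * z := by
  classical
  have hzz : z * z = 1 := by rw [← pow_two]; exact hU2 z hz
  have huu : u * u = 1 := by rw [← pow_two]; exact hU2 u hu
  have h1 : (1 : G) ∉ ({z, u, u * z} : Finset G) := by
    simp only [Finset.mem_insert, Finset.mem_singleton, not_or]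
    refine ⟨fun h => hz1 h.symm, fun h => hu1 h.symm, fun h => ?_⟩
    apply huz
    calc u = u * (z * z) := by rw [hzz, mul_one]
      _ = (u * z) * z := by rw [mul_assoc]
      _ = z := by rw [← h, one_mul]
  have h2 : z ∉ ({u, u * z} : Finset G) := by
    simp only [Finset.mem_insert, Finset.mem_singleton, not_or]
    refine ⟨fun h => huz h.symm, fun h => ?_⟩
    apply hu1
    have : u * z = 1 * z := by rw [one_mul]; exact h.symm
    exact mul_right_cancel this
  have h3 : u ∉ ({u * z} : Finset G) := by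
    simp only [Finset.mem_singleton]
    intro h
    apply hz1
    have : u * z = u * 1 := by rw [mul_one]; exact h.symm
    exact mul_left_cancel this
  have hcard : ({1, z, u, u * z} : Finset G).card = 4 := by
    rw [Finset.card_insert_of_notMem h1, Finset.card_insert_of_notMem h2, Finset.card_insert_of_notMem h3,
      Finset.card_singleton]
  have hsub : (({1, z, u, u * z} : Finset G) : Set G) ⊆ (U : Set G) := by
    intro v hv
    simp only [Finset.coe_insert, Finset.coe_singleton, Set.mem_insert_iff, Set.mem_singleton_iff] at hv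
    rcases hv with rfl | rfl | rfl | rfl
    · exact one_mem U
    · exact hz
    · exact hu
    · exact mul_mem hu hz
  have heq : (({1, z, u, u * z} : Finset G) : Set G) = (U : Set G) := by
    apply Set.eq_of_subset_of_ncard_le hsub _ (Set.toFinite _)
    rw [Set.ncard_coe_finset, hcard, ← hU4, ← Nat.card_coe_set_eq]
    rfl
  intro v hv
  have : v ∈ (({1, z, u, u * z} : Finset G) : Set G) := by rw [heq]; exact hv
  simpa using this

/-- the centralizer in `P` of a normal four-group of `P` has the coset property of index `≤ 2` -/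
lemma four_group_centralizer_coset (P U : Subgroup G) (hP : IsPGroup 2 P) (hUP : U ≤ P)
    (hU4 : Nat.card U = 4) (hU2 : ∀ u ∈ U, u ^ 2 = 1) (hPU : P ≤ Subgroup.normalizer (U : Set G)) :
    ∀ s ∈ P, ∀ s' ∈ P, s ∉ P ⊓ Subgroup.centralizer (U : Set G) →
      s' ∉ P ⊓ Subgroup.centralizer (U : Set G) → s⁻¹ * s' ∈ P ⊓ Subgroup.centralizer (U : Set G) := by
  classical
  haveI : Fact (Nat.Prime 2) := ⟨Nat.prime_two⟩
  -- central involution
  haveI hUn : (U.subgroupOf P).Normal := Subgroup.normal_subgroupOf_of_le_normalizer hPU  -- check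
  have hUne : U.subgroupOf P ≠ ⊥ := by
    intro h
    have h1 : Nat.card (U.subgroupOf P) = Nat.card U :=
      Nat.card_congr (Subgroup.subgroupOfEquivOfLe hUP).toEquiv
    rw [h, Subgroup.card_bot, hU4] at h1
    omega
  obtain ⟨z', hz'U, hz'c, hz'o⟩ := exists_central_order_p hP (U.subgroupOf P) hUne
  have hzU : (z' : G) ∈ U := Subgroup.mem_subgroupOf.1 hz'U
  have hz1 : (z' : G) ≠ 1 := by
    intro h
    have : z' = 1 := Subtype.ext h
    rw [this, orderOf_one] at hz'o; omega
  have hzc : ∀ s ∈ P, s * (z' : G) = (z' : G) * s := by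
    intro s hs
    have := Subgroup.mem_center_iff.1 hz'c ⟨s, hs⟩
    exact congrArg Subtype.val this
  -- another involution
  have hex : ∃ u ∈ U, u ≠ 1 ∧ u ≠ (z' : G) := by
    by_contra hcon
    push Not at hcon
    have h1 : (U : Set G) ⊆ {1, (z' : G)} := by
      intro v hv
      by_cases hv1 : v = 1
      · rw [hv1]; simp
      · rw [hcon v hv hv1]; simp
    have h2 := Set.ncard_le_ncard h1 (Set.toFinite _)
    have h3 := ncard_pair_le' (1 : G) (z' : G)
    have h4 : (U : Set G).ncard = 4 := by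
      rw [← hU4, ← Nat.card_coe_set_eq]; rfl
    omega
  obtain ⟨u, huU, hu1, huz⟩ := hex
  have helems := four_group_elems U hU4 hU2 (z' : G) u hzU hz1 huU hu1 huz
  have hzz : (z' : G) * (z' : G) = 1 := by rw [← pow_two]; exact hU2 _ hzU
  -- conjugates of `u`
  have hconj : ∀ s ∈ P, s * u * s⁻¹ = u ∨ s * u * s⁻¹ = u * (z' : G) := by
    intro s hs
    have h1 : s * u * s⁻¹ ∈ U := (Subgroup.mem_normalizer_iff.1 (hPU hs) u).1 huU
    rcases helems _ h1 with h | h | h | h
    · exfalso; apply hu1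
      have : u = s⁻¹ * (s * u * s⁻¹) * s := by group
      rw [this, h]; group
    · exfalso; apply huz
      have : u = s⁻¹ * (s * u * s⁻¹) * s := by group
      rw [this, h]
      have h2 := hzc s hs
      calc s⁻¹ * (z' : G) * s = s⁻¹ * ((z' : G) * s) := by group
        _ = s⁻¹ * (s * (z' : G)) := by rw [h2]
        _ = (z' : G) := by group
    · left; exact h
    · right; exact h
  have hmemT : ∀ s ∈ P, s * u * s⁻¹ = u → s ∈ P ⊓ Subgroup.centralizer (U : Set G) := by
    intro s hs hsu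
    refine ⟨hs, ?_⟩
    show s ∈ Subgroup.centralizer (U : Set G)
    rw [Subgroup.mem_centralizer_iff]
    have hsu' : s * u = u * s := by
      calc s * u = s * u * s⁻¹ * s := by group
        _ = u * s := by rw [hsu]
    intro v hv
    rcases helems v hv with rfl | rfl | rfl | rfl
    · simp
    · exact (hzc s hs).symm
    · exact hsu'.symm
    · rw [mul_assoc, ← hzc s hs, ← mul_assoc, ← hsu', mul_assoc]
  intro s hs s' hs' hsT hs'T
  have h1 : s * u * s⁻¹ = u * (z' : G) := by
    rcases hconj s hs with h | h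
    · exact absurd (hmemT s hs h) hsT
    · exact h
  have h2 : s' * u * s'⁻¹ = u * (z' : G) := by
    rcases hconj s' hs' with h | h
    · exact absurd (hmemT s' hs' h) hs'T
    · exact h
  apply hmemT _ (mul_mem (inv_mem hs) hs')
  have h3 : s⁻¹ * s' * u * (s⁻¹ * s')⁻¹ = s⁻¹ * (s' * u * s'⁻¹) * s := by group
  rw [h3, h2, ← h1]
  group

/-- commuting subgroups of exponent 2 generate a subgroup of exponent 2 -/
lemma sq_eq_one_of_mem_sup (D U : Subgroup G) (hD2 : ∀ d ∈ D, d ^ 2 = 1) (hU2 : ∀ u ∈ U, u ^ 2 = 1)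
    (hcomm : ∀ d ∈ D, ∀ u ∈ U, d * u = u * d) : ∀ f ∈ U ⊔ D, f ^ 2 = 1 := by
  have hDU : D ≤ Subgroup.normalizer (U : Set G) := by
    intro d hd
    apply mem_normalizer_of_conj_mem
    intro u hu
    have : d * u * d⁻¹ = u := by rw [hcomm d hd u hu]; group
    rw [this]; exact hu
  intro f hf
  obtain ⟨u, hu, d, hd, rfl⟩ := (mem_sup_of_le_normalizer U D hDU).1 hf
  have h1 := hcomm d hd u hu
  rw [pow_two]
  calc u * d * (u * d) = u * (d * u) * d := by simp only [mul_assoc]
    _ = u * (u * d) * d := by rw [h1]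
    _ = (u * u) * (d * d) := by simp only [mul_assoc]
    _ = 1 := by rw [← pow_two, ← pow_two, hU2 u hu, hD2 d hd, one_mul]

/-- an exponent-2 subgroup whose order is divisible by 8 contains one of order 8 -/
lemma exists_card_eight_le (F : Subgroup G) (h8 : 2 ^ 3 ∣ Nat.card F) :
    ∃ F₀ : Subgroup G, F₀ ≤ F ∧ Nat.card F₀ = 8 := by
  haveI : Fact (Nat.Prime 2) := ⟨Nat.prime_two⟩
  obtain ⟨K, hK⟩ := Sylow.exists_subgroup_card_pow_prime 2 h8
  refine ⟨K.map F.subtype, Subgroup.map_subtype_le K, ?_⟩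
  rw [Subgroup.card_map_of_injective F.subtype_injective, hK]; norm_num

theorem two_rank_three_centralizers (hno : ∀ H : Subgroup G, H.index ≠ 2)
    (hrank : ∃ E : Subgroup G, Nat.card E = 8 ∧ ∀ e ∈ E, e ^ 2 = 1) (x : G) (hx : orderOf x = 2) :
    ∃ E : Subgroup G, E ≤ Subgroup.centralizer ({x} : Set G) ∧ Nat.card E = 8 ∧ ∀ e ∈ E, e ^ 2 = 1 := by
  classical
  haveI : Fact (Nat.Prime 2) := ⟨Nat.prime_two⟩
  obtain ⟨E₀, hE₀8, hE₀2⟩ := hrank
  -- Sylow subgroup containing `x`
  have hxp : IsPGroup 2 (Subgroup.zpowers x) := by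
    apply IsPGroup.of_card (n := 1)
    rw [Nat.card_zpowers, hx, pow_one]
  obtain ⟨P, hxP'⟩ := hxp.exists_le_sylow
  have hxP : x ∈ (P : Subgroup G) := hxP' (Subgroup.mem_zpowers x)
  -- move `E₀` into `P`
  have hE₀p : IsPGroup 2 E₀ := IsPGroup.of_card (n := 3) (by rw [hE₀8]; norm_num)
  obtain ⟨P', hE₀P'⟩ := hE₀p.exists_le_sylow
  obtain ⟨g, hg⟩ := MulAction.exists_smul_eq G P' P
  obtain ⟨E, hE⟩ : ∃ E : Subgroup G, E = E₀.map (MulAut.conj g).toMonoidHom := ⟨_, rfl⟩
  have hEP : E ≤ (P : Subgroup G) := by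
    rw [hE, ← hg, Sylow.coe_subgroup_smul, conj_smul_eq_map]
    exact Subgroup.map_mono hE₀P'
  have hE8 : Nat.card E = 8 := by
    rw [hE, Subgroup.card_map_of_injective (MulAut.conj g).injective, hE₀8]
  have hE2 : ∀ e ∈ E, e ^ 2 = 1 := by
    intro e he
    rw [hE] at he
    obtain ⟨e₀, he₀, rfl⟩ := he
    show ((MulAut.conj g) e₀) ^ 2 = 1
    rw [← map_pow, hE₀2 e₀ he₀, map_one]
  -- the normal four-group of `P`
  have hE'8 : Nat.card (E.subgroupOf (P : Subgroup G)) = 8 := by
    rw [Nat.card_congr (Subgroup.subgroupOfEquivOfLe hEP).toEquiv, hE8]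
  obtain ⟨U', hU'n, hU'4, hU'2⟩ := exists_normal_four_group P.isPGroup' (E.subgroupOf (P : Subgroup G)) hE'8
    (fun e he => Subtype.ext (by
      have := hE2 (e : G) (Subgroup.mem_subgroupOf.1 he)
      simpa using this))
  obtain ⟨U, hU⟩ : ∃ U : Subgroup G, U = U'.map (P : Subgroup G).subtype := ⟨_, rfl⟩
  have hUP : U ≤ (P : Subgroup G) := by rw [hU]; exact Subgroup.map_subtype_le U'
  have hU4 : Nat.card U = 4 := by
    rw [hU, Subgroup.card_map_of_injective (Subgroup.subtype_injective _), hU'4]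
  have hU2 : ∀ u ∈ U, u ^ 2 = 1 := by
    intro u hu
    rw [hU] at hu
    obtain ⟨u', hu', rfl⟩ := hu
    have := hU'2 u' hu'
    have h2 := congrArg Subtype.val this
    simpa using h2
  have hPU : (P : Subgroup G) ≤ Subgroup.normalizer (U : Set G) := by
    intro s hs
    apply mem_normalizer_of_conj_mem
    intro u hu
    rw [hU] at hu ⊢
    obtain ⟨u', hu', rfl⟩ := hu
    exact ⟨⟨s, hs⟩ * u' * ⟨s, hs⟩⁻¹, hU'n.conj_mem u' hu' ⟨s, hs⟩, rfl⟩
  obtain ⟨T, hT⟩ : ∃ T : Subgroup G, T = (P : Subgroup G) ⊓ Subgroup.centralizer (U : Set G) := ⟨_, rfl⟩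
  have hTP : T ≤ (P : Subgroup G) := by rw [hT]; exact inf_le_left
  have hTU : ∀ t ∈ T, ∀ u ∈ U, t * u = u * t := by
    intro t ht u hu
    rw [hT] at ht
    exact (Subgroup.mem_centralizer_iff.1 ht.2 u hu).symm
  have hcoset := four_group_centralizer_coset (P : Subgroup G) U P.isPGroup' hUP hU4 hU2 hPU
  rw [← hT] at hcoset
  have hUT : U ≤ T := by
    rw [hT]
    refine le_inf hUP ?_
    intro u hu
    rw [Subgroup.mem_centralizer_iff]
    intro v hv
    -- exponent 2 implies abelian
    have h1 := hU2 (v * u) (mul_mem hv hu)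
    have h2 := hU2 u hu
    have h3 := hU2 v hv
    rw [pow_two] at h1 h2 h3
    calc v * u = (u * u) * (v * u) * (v * v) := by rw [h2, h3, one_mul, mul_one]
      _ = u * (u * v) * (u * v) * v := by simp only [mul_assoc]
      _ = u * ((u * v) * (u * v)) * v := by simp only [mul_assoc]
      _ = u * v := by
        have h4 : (u * v) * (u * v) = 1 := by
          have := hU2 (u * v) (mul_mem hu hv)
          rwa [pow_two] at this
        rw [h4, mul_one]
  -- an `E₈` inside `T`
  have hF : ∃ F : Subgroup G, F ≤ T ∧ Nat.card F = 8 ∧ ∀ f ∈ F, f ^ 2 = 1 := by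
    by_cases hET : E ≤ T
    · exact ⟨E, hET, hE8, hE2⟩
    · -- `T.relIndex E = 2`
      obtain ⟨e₀, he₀E, he₀T⟩ := SetLike.not_le_iff_exists.1 hET
      have hrel : T.relIndex E = 2 := by
        rw [Subgroup.relIndex_eq_two_iff]
        refine ⟨e₀, he₀E, fun b hb => ?_⟩
        by_cases hbT : b ∈ T
        · right
          refine ⟨hbT, fun h => he₀T ?_⟩
          have : e₀ = b⁻¹ * (b * e₀) := by group
          rw [this]; exact mul_mem (inv_mem hbT) h
        · left
          refine ⟨?_, hbT⟩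
          have hb' : b⁻¹ ∉ T := fun h => hbT (by simpa using inv_mem h)
          have := hcoset b⁻¹ (inv_mem (hEP hb)) e₀ (hEP he₀E) hb' he₀T
          simpa using this
      have hcardD : Nat.card (E ⊓ T : Subgroup G) = 4 := by
        have h1 := card_eq_relIndex_mul_card (inf_le_left : E ⊓ T ≤ E)
        rw [Subgroup.inf_relIndex_left, hrel, hE8] at h1
        omega
      have hD2 : ∀ d ∈ E ⊓ T, d ^ 2 = 1 := fun d hd => hE2 d hd.1
      have hcomm : ∀ d ∈ E ⊓ T, ∀ u ∈ U, d * u = u * d := fun d hd u hu => hTU d hd.2 u hu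
      have hFsq := sq_eq_one_of_mem_sup (E ⊓ T) U hD2 hU2 hcomm
      have hFT : U ⊔ (E ⊓ T) ≤ T := sup_le hUT inf_le_right
      have hDnorm : E ⊓ T ≤ Subgroup.normalizer (U : Set G) := inf_le_right.trans (hTP.trans hPU)
      have hcard := card_sup_mul_card_inf (E ⊓ T) U hDnorm
      rw [hcardD, hU4] at hcard
      -- `U ≰ E`
      have hUE : ¬ U ≤ E := by
        intro hUE
        apply hET
        intro e he
        rw [hT]
        refine ⟨hEP he, ?_⟩
        show e ∈ Subgroup.centralizer (U : Set G)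
        rw [Subgroup.mem_centralizer_iff]
        intro u hu
        -- `E` is abelian
        have h1 := hE2 (u * e) (mul_mem (hUE hu) he)
        have h2 := hE2 e he
        have h3 := hE2 u (hUE hu)
        rw [pow_two] at h1 h2 h3
        calc u * e = (e * e) * (u * e) * (u * u) := by rw [h2, h3, one_mul, mul_one]
          _ = e * ((e * u) * (e * u)) * u := by simp only [mul_assoc]
          _ = e * u := by
            have h4 : (e * u) * (e * u) = 1 := by
              have := hE2 (e * u) (mul_mem he (hUE hu))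
              rwa [pow_two] at this
            rw [h4, mul_one]
      have hinfcard : Nat.card (E ⊓ T ⊓ U : Subgroup G) ≤ 2 := by
        have hdvd : Nat.card (E ⊓ T ⊓ U : Subgroup G) ∣ 4 := by
          rw [← hU4]; exact Subgroup.card_dvd_of_le inf_le_right
        have hne : Nat.card (E ⊓ T ⊓ U : Subgroup G) ≠ 4 := by
          intro h4
          apply hUE
          have : E ⊓ T ⊓ U = U := Subgroup.eq_of_le_of_card_ge inf_le_right (by rw [h4, hU4])
          rw [← this]
          exact inf_le_left.trans inf_le_left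
        have hle : Nat.card (E ⊓ T ⊓ U : Subgroup G) ≤ 4 := Nat.le_of_dvd (by norm_num) hdvd
        interval_cases h : Nat.card (E ⊓ T ⊓ U : Subgroup G)
        · simp at hdvd
        · omega
        · omega
        · norm_num at hdvd
        · exact absurd rfl hne
      have hpos : 0 < Nat.card (E ⊓ T ⊓ U : Subgroup G) := Nat.card_pos
      have h8 : 2 ^ 3 ∣ Nat.card (U ⊔ (E ⊓ T) : Subgroup G) := by
        rw [sup_comm]
        have hdvd : Nat.card (E ⊓ T ⊓ U : Subgroup G) ∣ 4 := by
          rw [← hU4]; exact Subgroup.card_dvd_of_le inf_le_right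
        have hcases : Nat.card (E ⊓ T ⊓ U : Subgroup G) = 1 ∨ Nat.card (E ⊓ T ⊓ U : Subgroup G) = 2 := by
          interval_cases h : Nat.card (E ⊓ T ⊓ U : Subgroup G)
          · left; rfl
          · right; rfl
        rcases hcases with h | h
        · rw [h, mul_one] at hcard
          rw [hcard]; norm_num
        · rw [h] at hcard
          have : Nat.card (E ⊓ T ⊔ U : Subgroup G) = 8 := by omega
          rw [this]; norm_num
      obtain ⟨F₀, hF₀, hF₀8⟩ := exists_card_eight_le _ h8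
      exact ⟨F₀, hF₀.trans hFT, hF₀8, fun f hf => hFsq f (hF₀ hf)⟩
  obtain ⟨F, hFT, hF8, hF2⟩ := hF
  -- every involution of `T` has an `E₈` in its centralizer
  have hinvT : ∀ t ∈ T, orderOf t = 2 →
      ∃ E' : Subgroup G, E' ≤ Subgroup.centralizer ({t} : Set G) ∧ Nat.card E' = 8 ∧ ∀ e ∈ E', e ^ 2 = 1 := by
    intro t htT hto
    have ht2 : t ^ 2 = 1 := by rw [← hto]; exact pow_orderOf_eq_one t
    by_cases htU : t ∈ U
    · refine ⟨F, ?_, hF8, hF2⟩
      intro f hf
      rw [mem_centralizer_singleton_iff]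
      exact hTU f (hFT hf) t htU
    · have hD2 : ∀ d ∈ Subgroup.zpowers t, d ^ 2 = 1 := by
        intro d hd
        obtain ⟨i, rfl⟩ := Subgroup.mem_zpowers_iff.1 hd
        rw [← zpow_natCast, ← zpow_mul, mul_comm, zpow_mul, zpow_natCast, ht2, one_zpow]
      have hcomm : ∀ d ∈ Subgroup.zpowers t, ∀ u ∈ U, d * u = u * d := by
        intro d hd u hu
        obtain ⟨i, rfl⟩ := Subgroup.mem_zpowers_iff.1 hd
        exact ((Commute.zpow_left (hTU t htT u hu) i).eq)
      have hWsq := sq_eq_one_of_mem_sup (Subgroup.zpowers t) U hD2 hU2 hcomm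
      have hDnorm : Subgroup.zpowers t ≤ Subgroup.normalizer (U : Set G) :=
        Subgroup.zpowers_le.2 (hPU (hTP htT))
      have hcard := card_sup_mul_card_inf (Subgroup.zpowers t) U hDnorm
      have hinf : Subgroup.zpowers t ⊓ U = ⊥ := by
        rw [eq_bot_iff]
        intro d hd
        rw [Subgroup.mem_bot]
        obtain ⟨i, rfl⟩ := Subgroup.mem_zpowers_iff.1 hd.1
        rcases Int.even_or_odd i with ⟨j, hj⟩ | ⟨j, hj⟩
        · rw [hj, ← two_mul, zpow_mul, zpow_ofNat, ht2, one_zpow]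
        · exfalso
          have : t ^ i = t := by
            rw [hj, zpow_add, zpow_one, zpow_mul, zpow_ofNat, ht2, one_zpow, one_mul]
          rw [this] at hd
          exact htU hd.2
      rw [hinf, Subgroup.card_bot, mul_one, Nat.card_zpowers, hto, hU4, sup_comm] at hcard
      refine ⟨U ⊔ Subgroup.zpowers t, ?_, by rw [hcard], hWsq⟩
      apply sup_le
      · intro u hu
        rw [mem_centralizer_singleton_iff]
        exact (hTU t htT u hu).symm
      · rw [Subgroup.zpowers_le, mem_centralizer_singleton_iff]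
  -- conclude
  by_cases hxT : x ∈ T
  · exact hinvT x hxT hx
  · have hrel : T.relIndex (P : Subgroup G) = 2 := by
      rw [Subgroup.relIndex_eq_two_iff]
      refine ⟨x, hxP, fun b hb => ?_⟩
      by_cases hbT : b ∈ T
      · right
        refine ⟨hbT, fun h => hxT ?_⟩
        have : x = b⁻¹ * (b * x) := by group
        rw [this]; exact mul_mem (inv_mem hbT) h
      · left
        refine ⟨?_, hbT⟩
        have hb' : b⁻¹ ∉ T := fun h => hbT (by simpa using inv_mem h)
        have := hcoset b⁻¹ (inv_mem hb) x hxP hb' hxT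
        simpa using this
    rcases Cfsg.Agent.S0111.result P T hTP hrel x hx hxP hxT with ⟨M, -, hM2, -⟩ | ⟨g', hg'⟩
    · exact absurd hM2 (hno M)
    · have hto : orderOf (g' * x * g'⁻¹) = 2 := by
        have : g' * x * g'⁻¹ = MulAut.conj g' x := rfl
        rw [this, MulEquiv.orderOf_eq, hx]
      obtain ⟨E', hE'c, hE'8, hE'2⟩ := hinvT _ hg' hto
      refine ⟨E'.map (MulAut.conj g'⁻¹).toMonoidHom, ?_, ?_, ?_⟩
      · rintro _ ⟨e, he, rfl⟩
        rw [mem_centralizer_singleton_iff]
        have h1 := (mem_centralizer_singleton_iff _ _).1 (hE'c he)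
        show (MulAut.conj g'⁻¹) e * x = x * (MulAut.conj g'⁻¹) e
        simp only [MulAut.conj_apply, inv_inv]
        have h2 : g'⁻¹ * e * g' * x = g'⁻¹ * (e * (g' * x * g'⁻¹)) * g' := by group
        have h3 : x * (g'⁻¹ * e * g') = g'⁻¹ * ((g' * x * g'⁻¹) * e) * g' := by group
        rw [h2, h3, h1]
      · rw [Subgroup.card_map_of_injective (MulAut.conj g'⁻¹).injective, hE'8]
      · rintro _ ⟨e, he, rfl⟩
        show ((MulAut.conj g'⁻¹) e) ^ 2 = 1
        rw [← map_pow, hE'2 e he, map_one]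

end rank3

end Cfsg.Agent.H1
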