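import Mathlib
import Cfsg.Agent.H1.CentralizerIndexBound
import Cfsg.Agent.H1.Card

set_option autoImplicit false

namespace Cfsg.Agent.H1

/-- For odd `p`, a `p`-group without normal elementary abelian subgroups of order `p^3` has
`p`-rank at most `2`. -/
theorem p_rank_le_two_of_no_normal_rank_three' {P : Type*} [Group P] [Finite P] {p : ℕ}
    [Fact p.Prime] (hp2 : p ≠ 2) (hP : IsPGroup p P)
    (h : ∀ A : Subgroup P, A.Normal → IsMulCommutative A → (∀ a ∈ A, a ^ p = 1) →
      Nat.card A ≠ p ^ 3)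
    (E : Subgroup P) (hE : IsMulCommutative E) (hEe : ∀ e ∈ E, e ^ p = 1) :
    Nat.card E ≤ p ^ 2 := by
  classical
  have hp : p.Prime := Fact.out
  obtain ⟨A, -, hAmax⟩ := Finite.exists_le_maximal
    (p := fun B : Subgroup P => B.Normal ∧ IsMulCommutative B ∧ (∀ b ∈ B, b ^ p = 1) ∧
      Nat.card B ≤ p ^ 2) (a := (⊥ : Subgroup P))
    ⟨inferInstance, ⟨⟨fun a b => by
      have ha : a = 1 := Subsingleton.elim _ _
      have hb : b = 1 := Subsingleton.elim _ _
      rw [ha, hb]⟩⟩, fun b hb => by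
      rw [Subgroup.mem_bot] at hb; rw [hb, one_pow], by
      rw [Subgroup.card_bot]; exact Nat.one_le_pow _ _ hp.pos⟩
  obtain ⟨⟨hAn, hAc, hAe, hAcard⟩, hAmax'⟩ := hAmax
  haveI := hAn
  obtain ⟨k, hk⟩ := IsPGroup.iff_card.1 (hP.to_subgroup A)
  have hk2 : k ≤ 2 := by
    by_contra hcon
    push Not at hcon
    have : p ^ 2 < p ^ k := Nat.pow_lt_pow_right hp.one_lt hcon
    rw [hk] at hAcard
    omega
  -- A is maximal among all normal elementary abelian subgroups
  have hmax : ∀ B : Subgroup P, B.Normal → IsMulCommutative B → (∀ b ∈ B, b ^ p ^ 1 = 1) →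
      A ≤ B → B = A := by
    intro B hBn hBc hBe hAB
    by_contra hne
    have hnle : ¬ B ≤ A := fun hle => hne (le_antisymm hle hAB)
    haveI := hBn
    obtain ⟨x, hxB, hxA, hxp, hxc⟩ := exists_central_order_p_mod hP A B hnle
    obtain ⟨A', hA'def⟩ : ∃ A' : Subgroup P, A' = A ⊔ Subgroup.zpowers x := ⟨_, rfl⟩
    have hA'B : A' ≤ B := by
      rw [hA'def]
      exact sup_le hAB (by rw [Subgroup.zpowers_le]; exact hxB)
    have hA'n : A'.Normal := by
      rw [hA'def, ← Subgroup.normalizer_eq_top_iff, eq_top_iff]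
      intro g _
      apply mem_normalizer_sup_zpowers
      have e : g * x * g⁻¹ = (x * g * x⁻¹ * g⁻¹)⁻¹ * x := by group
      rw [e]
      exact mul_mem (Subgroup.mem_sup_left (inv_mem (hxc g)))
        (Subgroup.mem_sup_right (Subgroup.mem_zpowers _))
    have hA'c : IsMulCommutative A' := ⟨⟨fun a b => by
      have := hBc.is_comm.comm (⟨a, hA'B a.2⟩ : B) ⟨b, hA'B b.2⟩
      have h2 : (a : P) * b = b * a := congrArg Subtype.val this
      exact Subtype.ext h2⟩⟩
    have hA'e : ∀ b ∈ A', b ^ p = 1 := fun b hb => by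
      have := hBe b (hA'B hb)
      rwa [pow_one] at this
    have hcard : Nat.card A' = p * Nat.card A := by
      have h1 := index_eq_mul_index_sup_zpowers A x hxA hxp
      rw [← hA'def] at h1
      have h2 := Subgroup.card_mul_index A
      have h3 := Subgroup.card_mul_index A'
      have h4 : A'.index ≠ 0 := Subgroup.index_ne_zero_of_finite
      have h5 : Nat.card A' * A'.index = (p * Nat.card A) * A'.index := by
        rw [h3, ← h2, h1]; ring
      exact Nat.eq_of_mul_eq_mul_right (Nat.pos_of_ne_zero h4) h5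
    have hxA' : x ∈ A' := hA'def ▸ Subgroup.mem_sup_right (Subgroup.mem_zpowers x)
    have hAA' : A ≤ A' := hA'def ▸ le_sup_left
    rcases Nat.lt_or_ge k 2 with hk1 | hk2'
    · -- card A' ≤ p^2
      have hle : Nat.card A' ≤ p ^ 2 := by
        rw [hcard, hk, ← pow_succ']
        exact Nat.pow_le_pow_right hp.pos (by omega)
      exact hxA (hAmax' ⟨hA'n, hA'c, hA'e, hle⟩ hAA' hxA')
    · have hk' : k = 2 := le_antisymm hk2 hk2'
      apply h A' hA'n hA'c hA'e
      rw [hcard, hk, hk', ← pow_succ']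
  -- Alperin
  have hAcomm : ∀ a ∈ A, ∀ b ∈ A, a * b = b * a := by
    intro a ha b hb
    have := hAc.is_comm.comm (⟨a, ha⟩ : A) ⟨b, hb⟩
    exact congrArg Subtype.val this
  have halp : ∀ x ∈ Subgroup.centralizer (A : Set P), x ^ p = 1 → x ∈ A := by
    intro x hx hxp
    refine alperin_omega_centralizer hP 1 (by rw [pow_one]; exact hp2) A hAcomm
      (fun a ha => by rw [pow_one]; exact hAe a ha) ?_ x hx (by rw [pow_one]; exact hxp)
    intro B hBn hBc hBe hAB
    exact hmax B hBn ⟨⟨fun a b => Subtype.ext (hBc a a.2 b b.2)⟩⟩ hBe hAB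
  -- index of the centralizer
  have hidx : (Subgroup.centralizer (A : Set P)).index ≤ p := by
    have h1 := index_centralizer_le_of_normal hP k A hAn hk
    refine h1.trans ?_
    have h2 : ∑ i ∈ Finset.range k, i ≤ 1 := by
      interval_cases k <;> simp [Finset.sum_range_succ]
    calc p ^ (∑ i ∈ Finset.range k, i) ≤ p ^ 1 := Nat.pow_le_pow_right hp.pos h2
      _ = p := pow_one p
  obtain ⟨C, hCdef⟩ : ∃ C : Subgroup P, C = Subgroup.centralizer (A : Set P) := ⟨_, rfl⟩
  rw [← hCdef] at hidx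
  haveI hCn : C.Normal := hCdef ▸ inferInstance
  have hDA : E ⊓ C ≤ A := by
    intro e he
    obtain ⟨heE, heC⟩ := Subgroup.mem_inf.1 he
    exact halp e (hCdef ▸ heC) (hEe e heE)
  by_cases hAE : A ≤ E
  · have hEC : E ≤ C := by
      rw [hCdef]
      intro e he
      rw [Subgroup.mem_centralizer_iff]
      intro a ha
      have := hE.is_comm.comm (⟨a, hAE ha⟩ : E) ⟨e, he⟩
      exact congrArg Subtype.val this
    have hEA : E ≤ A := fun e he => hDA (Subgroup.mem_inf.2 ⟨he, hEC he⟩)
    exact (Subgroup.card_le_of_le hEA).trans hAcard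
  · have hDne : E ⊓ C ≠ A := fun heq => hAE (heq ▸ inf_le_left)
    have hDcard : Nat.card (E ⊓ C : Subgroup P) ≤ p := by
      have h1 : Nat.card (E ⊓ C : Subgroup P) ∣ p ^ k := hk ▸ Subgroup.card_dvd_of_le hDA
      obtain ⟨j, hjk, hj⟩ := (Nat.dvd_prime_pow hp).1 h1
      have hjk' : j ≠ k := by
        intro hjk'
        apply hDne
        apply Subgroup.eq_of_le_of_card_ge hDA
        rw [hk, hj, hjk']
      have hj1 : j ≤ 1 := by omega
      rw [hj]
      calc p ^ j ≤ p ^ 1 := Nat.pow_le_pow_right hp.pos hj1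
        _ = p := pow_one p
    have h2 : Nat.card E = (E ⊓ C).relIndex E * Nat.card (E ⊓ C : Subgroup P) :=
      card_eq_relIndex_mul_card inf_le_left
    have h3 : (E ⊓ C).relIndex E ≤ p := by
      rw [Subgroup.inf_relIndex_left]
      exact (Nat.le_of_dvd (Nat.pos_of_ne_zero Subgroup.index_ne_zero_of_finite)
        (Subgroup.relIndex_dvd_index_of_normal C E)).trans hidx
    rw [h2, pow_two]
    exact Nat.mul_le_mul h3 hDcard

end Cfsg.Agent.H1
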