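import Mathlib
import Cfsg.Prelude.Def_Transfer
import Cfsg.Agent.H1.Abelian

/-! Elementary abelian subgroups and the Thompson subgroup (helper1). -/

namespace Cfsg.Agent.H1

variable {G : Type*} [Group G]

lemma isElementaryAbelian_bot (p : ℕ) : Cfsg.IsElementaryAbelian p (⊥ : Subgroup G) := by
  refine ⟨inferInstance, ?_⟩
  intro a ha
  rw [Subgroup.mem_bot] at ha
  rw [ha, one_pow]

lemma isElementaryAbelian_of_le {p : ℕ} {A B : Subgroup G} (hB : Cfsg.IsElementaryAbelian p B) (h : A ≤ B) :
    Cfsg.IsElementaryAbelian p A := by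
  obtain ⟨hc, hp⟩ := hB
  refine ⟨⟨⟨?_⟩⟩, fun a ha => hp a (h ha)⟩
  intro a b
  exact Subtype.ext (setLike_mul_comm (h a.2) (h b.2))

lemma maxElementaryAbelian_nonempty [Finite G] (p : ℕ) :
    (Cfsg.maxElementaryAbelianSubgroups p G).Nonempty := by
  have hfin : {A : Subgroup G | Cfsg.IsElementaryAbelian p A}.Finite := Set.toFinite _
  obtain ⟨A, hA, hmax⟩ := Set.exists_max_image _ (fun A : Subgroup G => Nat.card A) hfin
    ⟨⊥, isElementaryAbelian_bot p⟩
  exact ⟨A, hA, hmax⟩

lemma le_thompsonSubgroup {p : ℕ} {A : Subgroup G} (hA : A ∈ Cfsg.maxElementaryAbelianSubgroups p G) :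
    A ≤ Cfsg.thompsonSubgroup p G := le_sSup hA

/-- adjoining a centralizing element of order dividing `p` to an elementary abelian subgroup -/
lemma isElementaryAbelian_sup_zpowers_of_centralizer {p : ℕ} (A : Subgroup G) (hA : Cfsg.IsElementaryAbelian p A) (x : G)
    (hx : x ∈ Subgroup.centralizer (A : Set G)) (hxp : x ^ p = 1) :
    Cfsg.IsElementaryAbelian p (A ⊔ Subgroup.zpowers x) := by
  have hc := isMulCommutative_sup_zpowers A hA.1 x hx
  refine ⟨hc, ?_⟩
  have hsup : A ⊔ Subgroup.zpowers x = Subgroup.closure ((A : Set G) ∪ {x}) := by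
    rw [Subgroup.closure_union, Subgroup.closure_eq, ← Subgroup.zpowers_eq_closure]
  intro b hb
  rw [hsup] at hb
  induction hb using Subgroup.closure_induction with
  | mem y hy =>
    rcases hy with hy | hy
    · exact hA.2 y hy
    · rw [Set.mem_singleton_iff] at hy; rw [hy]; exact hxp
  | one => exact one_pow p
  | mul y z hy hz ihy ihz =>
    rw [← hsup] at hy hz
    have : Commute y z := setLike_mul_comm hy hz
    rw [this.mul_pow, ihy, ihz, one_mul]
  | inv y _ ihy => rw [inv_pow, ihy, inv_one]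

lemma isElementaryAbelian_zpowers {p : ℕ} (x : G) (hxp : x ^ p = 1) :
    Cfsg.IsElementaryAbelian p (Subgroup.zpowers x) := by
  have h := isElementaryAbelian_sup_zpowers_of_centralizer (⊥ : Subgroup G) (isElementaryAbelian_bot p) x
    (by rw [Subgroup.coe_bot, Subgroup.centralizer_eq_top_iff_subset.mpr]; · exact Subgroup.mem_top x
        · intro y hy; rw [Set.mem_singleton_iff] at hy; rw [hy]; exact Subgroup.one_mem _) hxp
  rwa [bot_sup_eq] at h

lemma isElementaryAbelian_map {p : ℕ} {H : Type*} [Group H] (f : G →* H) {A : Subgroup G}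
    (hA : Cfsg.IsElementaryAbelian p A) : Cfsg.IsElementaryAbelian p (A.map f) := by
  obtain ⟨hc, hp⟩ := hA
  refine ⟨⟨⟨?_⟩⟩, ?_⟩
  · rintro ⟨_, a, ha, rfl⟩ ⟨_, b, hb, rfl⟩
    apply Subtype.ext
    show f a * f b = f b * f a
    rw [← map_mul, ← map_mul, setLike_mul_comm ha hb]
  · rintro _ ⟨a, ha, rfl⟩
    rw [← map_pow, hp a ha, map_one]

/-- an element of order dividing `p` centralizing a largest elementary abelian subgroup lies in it -/
lemma mem_of_mem_centralizer_maxElementaryAbelian [Finite G] {p : ℕ} {A : Subgroup G}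
    (hA : A ∈ Cfsg.maxElementaryAbelianSubgroups p G) (x : G)
    (hx : x ∈ Subgroup.centralizer (A : Set G)) (hxp : x ^ p = 1) : x ∈ A := by
  have h1 := isElementaryAbelian_sup_zpowers_of_centralizer A hA.1 x hx hxp
  have h2 := hA.2 _ h1
  have h3 : A = A ⊔ Subgroup.zpowers x :=
    Subgroup.eq_of_le_of_card_ge le_sup_left h2
  rw [h3]
  exact Subgroup.mem_sup_right (Subgroup.mem_zpowers x)

lemma isElementaryAbelian_comap_of_injective {G : Type*} [Group G] {p : ℕ} {H : Type*} [Group H] (f : H →* G)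
    (hf : Function.Injective f) {A : Subgroup G}
    (hA : Cfsg.IsElementaryAbelian p A) : Cfsg.IsElementaryAbelian p (A.comap f) := by
  obtain ⟨hc, hp⟩ := hA
  refine ⟨⟨⟨?_⟩⟩, ?_⟩
  · rintro ⟨a, ha⟩ ⟨b, hb⟩
    apply Subtype.ext
    apply hf
    show f (a * b) = f (b * a)
    rw [map_mul, map_mul]
    have ha' : f a ∈ A := ha
    have hb' : f b ∈ A := hb
    exact setLike_mul_comm ha' hb'
  · intro a ha
    apply hf
    rw [map_pow, map_one]
    exact hp _ ha

lemma isElementaryAbelian_subgroupOf {G : Type*} [Group G] {p : ℕ} {A : Subgroup G} (U : Subgroup G)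
    (hA : Cfsg.IsElementaryAbelian p A) : Cfsg.IsElementaryAbelian p (A.subgroupOf U) :=
  isElementaryAbelian_comap_of_injective U.subtype U.subtype_injective hA

/-- a largest elementary abelian subgroup of `G` lying in `U` is a largest one of `U` -/
lemma subgroupOf_mem_maxElementaryAbelian {G : Type*} [Group G] [Finite G] {p : ℕ} {A : Subgroup G} (U : Subgroup G)
    (hA : A ∈ Cfsg.maxElementaryAbelianSubgroups p G) (hAU : A ≤ U) :
    A.subgroupOf U ∈ Cfsg.maxElementaryAbelianSubgroups p U := by
  refine ⟨isElementaryAbelian_subgroupOf U hA.1, ?_⟩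
  intro B hB
  have h1 := hA.2 _ (isElementaryAbelian_map U.subtype hB)
  rw [Subgroup.card_map_of_injective U.subtype_injective] at h1
  have h2 : Nat.card (A.subgroupOf U) = Nat.card A :=
    Nat.card_congr (Subgroup.subgroupOfEquivOfLe hAU).toEquiv
  rw [h2]; exact h1

/-- if `U` contains a largest elementary abelian subgroup of `G`, the largest ones of `U` are largest in `G` -/
lemma map_mem_maxElementaryAbelian {G : Type*} [Group G] [Finite G] {p : ℕ} (U : Subgroup G) {B : Subgroup U}
    (hB : B ∈ Cfsg.maxElementaryAbelianSubgroups p U) {A₀ : Subgroup G}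
    (hA₀ : A₀ ∈ Cfsg.maxElementaryAbelianSubgroups p G) (hA₀U : A₀ ≤ U) :
    B.map U.subtype ∈ Cfsg.maxElementaryAbelianSubgroups p G := by
  refine ⟨isElementaryAbelian_map U.subtype hB.1, ?_⟩
  intro A' hA'
  rw [Subgroup.card_map_of_injective U.subtype_injective]
  have h1 := hB.2 _ (isElementaryAbelian_subgroupOf U hA₀.1)
  have h2 : Nat.card (A₀.subgroupOf U) = Nat.card A₀ :=
    Nat.card_congr (Subgroup.subgroupOfEquivOfLe hA₀U).toEquiv
  rw [h2] at h1
  exact (hA₀.2 A' hA').trans h1

/-- the join of two elementary abelian subgroups centralizing each other is elementary abelian -/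
lemma isElementaryAbelian_sup {G : Type*} [Group G] {p : ℕ} {A B : Subgroup G} (hA : Cfsg.IsElementaryAbelian p A)
    (hB : Cfsg.IsElementaryAbelian p B) (hAB : B ≤ Subgroup.centralizer (A : Set G)) :
    Cfsg.IsElementaryAbelian p (A ⊔ B) := by
  have hsup : A ⊔ B = Subgroup.closure ((A : Set G) ∪ (B : Set G)) := by
    rw [Subgroup.closure_union, Subgroup.closure_eq, Subgroup.closure_eq]
  have hc : IsMulCommutative (A ⊔ B : Subgroup G) := by
    rw [hsup]
    apply Subgroup.isMulCommutative_closure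
    rintro a (ha | ha) b (hb | hb)
    · have := hA.1; exact setLike_mul_comm ha hb
    · exact ((Subgroup.mem_centralizer_iff.mp (hAB hb)) a ha)
    · exact ((Subgroup.mem_centralizer_iff.mp (hAB ha)) b hb).symm
    · have := hB.1; exact setLike_mul_comm ha hb
  refine ⟨hc, ?_⟩
  intro b hb
  rw [hsup] at hb
  induction hb using Subgroup.closure_induction with
  | mem y hy =>
    rcases hy with hy | hy
    · exact hA.2 y hy
    · exact hB.2 y hy
  | one => exact one_pow p
  | mul y z hy hz ihy ihz =>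
    rw [← hsup] at hy hz
    have : Commute y z := setLike_mul_comm hy hz
    rw [this.mul_pow, ihy, ihz, one_mul]
  | inv y _ ihy => rw [inv_pow, ihy, inv_one]

end Cfsg.Agent.H1
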