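import Mathlib
import Cfsg.Prelude.Def_Transfer
import Cfsg.Agent.H1.Basic

/-! Normal `p`-complements (helper1). -/

namespace Cfsg.Agent.H1

/-- a normal complement of one Sylow p-subgroup is a complement of every Sylow p-subgroup -/
lemma isComplement'_sylow_of_isComplement' {G : Type*} [Group G] [Finite G] {p : ℕ} [Fact p.Prime]
    (P₀ P : Sylow p G) (N : Subgroup G) (hN : N.IsComplement' (P₀ : Subgroup G)) :
    N.IsComplement' (P : Subgroup G) := by
  have hp : p.Prime := Fact.out
  have hcard : Nat.card (P : Subgroup G) = Nat.card (P₀ : Subgroup G) := by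
    rw [Sylow.card_eq_multiplicity, Sylow.card_eq_multiplicity]
  have h1 : Nat.card N * Nat.card (P : Subgroup G) = Nat.card G := by
    rw [hcard]; exact hN.card_mul_card
  apply Subgroup.isComplement'_of_coprime h1
  have h2 : Nat.card N = (P : Subgroup G).index := by
    have h3 := (P : Subgroup G).card_mul_index
    have hpos : 0 < Nat.card (P : Subgroup G) := Nat.card_pos
    rw [← h3, mul_comm] at h1
    exact Nat.eq_of_mul_eq_mul_left hpos h1
  obtain ⟨k, hk⟩ := (IsPGroup.iff_card.mp P.isPGroup')
  rw [hk, h2]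
  apply Nat.Coprime.pow_right
  rw [Nat.coprime_comm, hp.coprime_iff_not_dvd]
  exact P.not_dvd_index

/-- If `P` is an abelian Sylow `p`-subgroup and `|Aut P|` is coprime to the index of `P`, then `G` has a
normal `p`-complement. -/
lemma hasNormalPComplement_of_coprime_aut {G : Type*} [Group G] [Finite G] {p : ℕ} [Fact p.Prime]
    (P : Sylow p G) (hP : IsMulCommutative P) (k : ℕ) (hk : Nat.card (MulAut P) ∣ k)
    (hcop : Nat.Coprime k (P : Subgroup G).index) :
    Cfsg.HasNormalPComplement p G := by
  have hPC : (P : Subgroup G) ≤ Subgroup.centralizer (P : Set G) := by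
    intro x hx
    rw [Subgroup.mem_centralizer_iff]
    intro y hy
    exact setLike_mul_comm hy hx
  have key := Subgroup.card_dvd_of_injective _
    (QuotientGroup.kerLift_injective (P : Subgroup G).normalizerMonoidHom)
  rw [Subgroup.normalizerMonoidHom_ker, ← Subgroup.index, ← Subgroup.relIndex] at key
  have h1 : (Subgroup.centralizer (P : Set G)).relIndex (Subgroup.normalizer (P : Set G)) ∣ (P : Subgroup G).index :=
    (Subgroup.relIndex_dvd_of_le_left _ hPC).trans (Subgroup.relIndex_dvd_index_of_le Subgroup.le_normalizer)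
  have h2 : (Subgroup.centralizer (P : Set G)).relIndex (Subgroup.normalizer (P : Set G)) = 1 :=
    Nat.eq_one_of_dvd_coprimes hcop (key.trans hk) h1
  have hNC : Subgroup.normalizer (P : Set G) ≤ Subgroup.centralizer (P : Set G) :=
    Subgroup.relIndex_eq_one.mp h2
  exact ⟨P, _, inferInstance, MonoidHom.ker_transferSylow_isComplement' P hNC⟩

lemma card_mulAut_dvd_factorial (T : Type*) [Group T] [Finite T] :
    Nat.card (MulAut T) ∣ (Nat.card T).factorial := by
  have h1 : Function.Injective (MulAut.toPerm (M := T)) := by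
    intro a b hab
    ext x
    exact congrArg (fun f : Equiv.Perm T => f x) hab
  have h2 := Subgroup.card_dvd_of_injective _ h1
  have : Fintype T := Fintype.ofFinite T
  classical
  rwa [Nat.card_eq_fintype_card (α := Equiv.Perm T), Fintype.card_perm, ← Nat.card_eq_fintype_card] at h2

lemma five_not_dvd_card_mulAut (T : Type*) [Group T] [Finite T] (h8 : Nat.card T = 8) :
    ¬ 5 ∣ Nat.card (MulAut T) := by
  intro h5
  have : Fact (Nat.Prime 5) := ⟨by norm_num⟩
  obtain ⟨φ, hφ⟩ := exists_prime_orderOf_dvd_card' 5 h5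
  let Z : Subgroup (MulAut T) := Subgroup.zpowers φ
  have hZcard : Nat.card Z = 5 ^ 1 := by rw [Nat.card_zpowers, hφ, pow_one]
  have hZ : IsPGroup 5 Z := IsPGroup.of_card hZcard
  have h1 := hZ.card_modEq_card_fixedPoints T
  have h2 : Nat.card (MulAction.fixedPoints Z T) = Nat.card (FixedPoints.subgroup Z T) := rfl
  have h3 : Nat.card (FixedPoints.subgroup Z T) ∣ 8 := by
    rw [← h8]; exact Subgroup.card_subgroup_dvd_card _
  rw [h2, h8] at h1
  have h4 : Nat.card (FixedPoints.subgroup Z T) = 8 := by
    have hle : Nat.card (FixedPoints.subgroup Z T) ≤ 8 := Nat.le_of_dvd (by norm_num) h3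
    generalize Nat.card (FixedPoints.subgroup Z T) = f at *
    unfold Nat.ModEq at h1
    interval_cases f <;> simp_all
  have h5' : FixedPoints.subgroup Z T = ⊤ := by
    apply Subgroup.eq_top_of_card_eq
    rw [h4, h8]
  have h6 : φ = 1 := by
    ext t
    have ht : t ∈ FixedPoints.subgroup Z T := by rw [h5']; exact Subgroup.mem_top t
    rw [FixedPoints.mem_subgroup] at ht
    exact ht ⟨φ, Subgroup.mem_zpowers φ⟩
  rw [h6, orderOf_one] at hφ
  norm_num at hφ

end Cfsg.Agent.H1
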