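import Mathlib
import Cfsg.Prelude.Def_Transfer
import Cfsg.Agent.H1.PComplement

set_option autoImplicit false

namespace Cfsg.Agent.H1.KpClasses

variable {G : Type*} [Group G]

lemma orderOf_of_mk_eq {x y : G} (h : ConjClasses.mk x = ConjClasses.mk y) :
    orderOf x = orderOf y := by
  rw [ConjClasses.mk_eq_mk_iff_isConj, isConj_iff] at h
  obtain ⟨c, hc⟩ := h
  rw [← hc]
  exact ((MulAut.conj c).orderOf_eq x).symm

variable [Finite G] {p : ℕ} [Fact p.Prime]

omit [Finite G] in
lemma pcl_of_mem (P : Sylow p G) {x : G} (hx : x ∈ (P : Subgroup G)) :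
    ∀ y ∈ (ConjClasses.mk x).carrier, ∃ k : ℕ, orderOf y = p ^ k := by
  intro y hy
  rw [ConjClasses.mem_carrier_iff_mk_eq] at hy
  rw [orderOf_of_mk_eq hy]
  obtain ⟨k, hk⟩ := (IsPGroup.iff_orderOf.mp P.isPGroup') ⟨x, hx⟩
  exact ⟨k, by rw [← hk, Subgroup.orderOf_mk]⟩

lemma exists_conj_mem (P : Sylow p G) {y : G} {k : ℕ} (hy : orderOf y = p ^ k) :
    ∃ g : G, g * y * g⁻¹ ∈ (P : Subgroup G) := by
  have hz : IsPGroup p (Subgroup.zpowers y) :=
    IsPGroup.of_card (n := k) (by rw [Nat.card_zpowers, hy])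
  obtain ⟨S, hS⟩ := hz.exists_le_sylow
  obtain ⟨g, hg⟩ := MulAction.exists_smul_eq G S P
  refine ⟨g, ?_⟩
  have := (conj_mem_sylow_smul g y S).mpr (hS (Subgroup.mem_zpowers y))
  rw [hg] at this
  exact this

/-- number of `p`-classes `≤` number of orbits of `N_G(P)` on `P` -/
lemma card_pcl_le (P : Sylow p G) :
    Nat.card {c : ConjClasses G // ∀ x ∈ c.carrier, ∃ k : ℕ, orderOf x = p ^ k} ≤
      Nat.card (Quotient (MulAction.orbitRel (Subgroup.normalizer ((P : Subgroup G) : Set G))
        (P : Subgroup G))) := by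
  refine Nat.card_le_card_of_surjective
    (Quotient.lift (fun x : (P : Subgroup G) => (⟨ConjClasses.mk (x : G), pcl_of_mem P x.2⟩ :
      {c : ConjClasses G // ∀ x ∈ c.carrier, ∃ k : ℕ, orderOf x = p ^ k})) ?_) ?_
  · intro a b hab
    obtain ⟨n, hn⟩ := hab
    apply Subtype.ext
    show ConjClasses.mk (a : G) = ConjClasses.mk (b : G)
    rw [ConjClasses.mk_eq_mk_iff_isConj, isConj_iff]
    refine ⟨(n : G)⁻¹, ?_⟩
    have h1 : (n : G) * (b : G) * (n : G)⁻¹ = (a : G) := congrArg Subtype.val hn
    rw [← h1]; group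
  · rintro ⟨c, hc⟩
    obtain ⟨y, rfl⟩ := ConjClasses.mk_surjective c
    obtain ⟨k, hk⟩ := hc y ConjClasses.mem_carrier_mk
    obtain ⟨g, hg⟩ := exists_conj_mem P hk
    refine ⟨⟦⟨g * y * g⁻¹, hg⟩⟧, ?_⟩
    apply Subtype.ext
    show ConjClasses.mk (g * y * g⁻¹) = ConjClasses.mk y
    rw [ConjClasses.mk_eq_mk_iff_isConj, isConj_iff]
    exact ⟨g⁻¹, by group⟩

/-- a proper subgroup of a `p`-group has order at most `|P|/p` -/
lemma p_mul_card_le {Q : Type*} [Group Q] [Finite Q] (hQ : IsPGroup p Q) (H : Subgroup Q)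
    (hH : H ≠ ⊤) : p * Nat.card H ≤ Nat.card Q := by
  have hp : p.Prime := Fact.out
  obtain ⟨k, hk⟩ := IsPGroup.iff_card.mp hQ
  have h1 : H.index ∣ p ^ k := hk ▸ H.index_dvd_card
  obtain ⟨j, hj, hj2⟩ := (Nat.dvd_prime_pow hp).mp h1
  have hj0 : j ≠ 0 := by
    rintro rfl
    rw [pow_zero, Subgroup.index_eq_one] at hj2
    exact hH hj2
  have h2 : p ∣ H.index := by rw [hj2]; exact dvd_pow_self p hj0
  have h3 := H.card_mul_index
  obtain ⟨m, hm⟩ := h2
  have hm0 : 0 < m := by
    rcases Nat.eq_zero_or_pos m with h | h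
    · rw [h, mul_zero] at hm; exact absurd hm (Subgroup.index_ne_zero_of_finite)
    · exact h
  rw [← h3, hm]
  calc p * Nat.card H = Nat.card H * (p * 1) := by ring
    _ ≤ Nat.card H * (p * m) := Nat.mul_le_mul_left _ (Nat.mul_le_mul_left _ hm0)

/-- fixed points of a non-centralising element of the normaliser -/
lemma p_mul_card_fixedBy_le (P : Sylow p G) (n : Subgroup.normalizer ((P : Subgroup G) : Set G))
    (hn : (n : G) ∉ Subgroup.centralizer ((P : Subgroup G) : Set G)) :
    p * Nat.card (MulAction.fixedBy (P : Subgroup G) n) ≤ Nat.card (P : Subgroup G) := by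
  have hset : (MulAction.fixedBy (P : Subgroup G) n : Set (P : Subgroup G)) =
      (((Subgroup.centralizer ({(n : G)} : Set G)).subgroupOf (P : Subgroup G) :
        Subgroup (P : Subgroup G)) : Set (P : Subgroup G)) := by
    ext x
    rw [MulAction.mem_fixedBy, SetLike.mem_coe, Subgroup.mem_subgroupOf,
      Subgroup.mem_centralizer_singleton_iff, Subtype.ext_iff]
    show (n : G) * (x : G) * (n : G)⁻¹ = (x : G) ↔ _
    rw [mul_inv_eq_iff_eq_mul]
    exact eq_comm
  have hne : (Subgroup.centralizer ({(n : G)} : Set G)).subgroupOf (P : Subgroup G) ≠ ⊤ := by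
    intro htop
    apply hn
    rw [Subgroup.mem_centralizer_iff]
    intro x hx
    have h1 : (⟨x, hx⟩ : (P : Subgroup G)) ∈
        (Subgroup.centralizer ({(n : G)} : Set G)).subgroupOf (P : Subgroup G) := by
      rw [htop]; trivial
    rw [Subgroup.mem_subgroupOf, Subgroup.mem_centralizer_singleton_iff] at h1
    exact h1
  have := p_mul_card_le P.isPGroup' _ hne
  rw [hset]
  exact this

/-- Burnside counting: if `N_G(P) ≰ C_G(P)` then `2p · #orbits ≤ (p+1)|P|` -/
lemma two_p_orbits_le (P : Sylow p G)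
    (hNC : ¬ Subgroup.normalizer ((P : Subgroup G) : Set G) ≤
      Subgroup.centralizer ((P : Subgroup G) : Set G)) :
    2 * p * Nat.card (Quotient (MulAction.orbitRel
      (Subgroup.normalizer ((P : Subgroup G) : Set G)) (P : Subgroup G))) ≤
      (p + 1) * Nat.card (P : Subgroup G) := by
  classical
  have hp : p.Prime := Fact.out
  set N := Subgroup.normalizer ((P : Subgroup G) : Set G) with hN
  set C := Subgroup.centralizer ((P : Subgroup G) : Set G) with hC
  haveI : Fintype N := Fintype.ofFinite _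
  haveI : Fintype (Quotient (MulAction.orbitRel N (P : Subgroup G))) := Fintype.ofFinite _
  haveI : ∀ n : N, Fintype (MulAction.fixedBy (P : Subgroup G) n) := fun n => Fintype.ofFinite _
  have hB := MulAction.sum_card_fixedBy_eq_card_orbits_mul_card_group N (P : Subgroup G)
  have hterm : ∀ n : N, p * Fintype.card (MulAction.fixedBy (P : Subgroup G) n) ≤
      if (n : G) ∈ C then p * Nat.card (P : Subgroup G) else Nat.card (P : Subgroup G) := by
    intro n
    split_ifs with h
    · apply Nat.mul_le_mul_left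
      rw [← Nat.card_eq_fintype_card]
      exact Nat.card_le_card_of_injective Subtype.val Subtype.val_injective
    · rw [← Nat.card_eq_fintype_card]; exact p_mul_card_fixedBy_le P n h
  have hsum : p * (Fintype.card (Quotient (MulAction.orbitRel N (P : Subgroup G))) *
      Fintype.card N) ≤ ∑ n : N, (if (n : G) ∈ C then p * Nat.card (P : Subgroup G)
        else Nat.card (P : Subgroup G)) := by
    rw [← hB, Finset.mul_sum]
    exact Finset.sum_le_sum (fun n _ => hterm n)
  rw [Finset.sum_ite, Finset.sum_const, Finset.sum_const, smul_eq_mul, smul_eq_mul] at hsum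
  set a := (Finset.univ.filter (fun n : N => (n : G) ∈ C)).card with ha
  set b := (Finset.univ.filter (fun n : N => ¬ (n : G) ∈ C)).card with hb
  have hab : a + b = Fintype.card N := by
    rw [ha, hb, Finset.card_filter_add_card_filter_not, Finset.card_univ]
  have ha2 : 2 * a ≤ Fintype.card N := by
    have h1 : a = Nat.card (C.subgroupOf N) := by
      rw [ha, ← Fintype.card_subtype, ← Nat.card_eq_fintype_card]; rfl
    have h2 : C.subgroupOf N ≠ ⊤ := by
      intro h; apply hNC; exact Subgroup.subgroupOf_eq_top.mp h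
    have h3 := (C.subgroupOf N).card_mul_index
    have h4 : (C.subgroupOf N).index ≠ 1 := by
      rw [Ne, Subgroup.index_eq_one]; exact h2
    have h5 : (C.subgroupOf N).index ≠ 0 := Subgroup.index_ne_zero_of_finite
    have h6 : 2 ≤ (C.subgroupOf N).index := by omega
    rw [← Nat.card_eq_fintype_card, ← h3, h1, mul_comm]
    exact Nat.mul_le_mul_left _ h6
  have hNpos : 0 < Fintype.card N := Fintype.card_pos
  rw [Nat.card_eq_fintype_card (α := Quotient (MulAction.orbitRel N (P : Subgroup G)))]
  set orb := Fintype.card (Quotient (MulAction.orbitRel N (P : Subgroup G))) with horb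
  set m := Nat.card (P : Subgroup G) with hm
  have key : 2 * (a * p + b) ≤ (p + 1) * (a + b) := by
    obtain ⟨q, rfl⟩ : ∃ q, p = q + 1 := ⟨p - 1, by have := hp.pos; omega⟩
    have hle : a ≤ b := by omega
    nlinarith [Nat.mul_le_mul_right q hle]
  apply Nat.le_of_mul_le_mul_right _ hNpos
  calc 2 * p * orb * Fintype.card N = 2 * (p * (orb * Fintype.card N)) := by ring
    _ ≤ 2 * (a * (p * m) + b * m) := Nat.mul_le_mul_left _ hsum
    _ = (2 * (a * p + b)) * m := by ring
    _ ≤ ((p + 1) * (a + b)) * m := Nat.mul_le_mul_right _ key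
    _ = (p + 1) * m * Fintype.card N := by rw [hab]; ring

theorem main (P : Sylow p G) :
    (p + 1) * Nat.card ↥(P : Subgroup G) < 2 * p * Nat.card {c : ConjClasses G //
        ∀ x ∈ c.carrier, ∃ k : ℕ, orderOf x = p ^ k} ↔
      Cfsg.HasNormalPComplement p G ∧ IsMulCommutative ↥(P : Subgroup G) := by
  have hp : p.Prime := Fact.out
  constructor
  · intro h
    have hNC : Subgroup.normalizer ((P : Subgroup G) : Set G) ≤
        Subgroup.centralizer ((P : Subgroup G) : Set G) := by
      by_contra hcon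
      have h1 := two_p_orbits_le P hcon
      have h2 := card_pcl_le P
      have h3 := Nat.mul_le_mul_left (2 * p) h2
      omega
    refine ⟨⟨P, _, inferInstance, MonoidHom.ker_transferSylow_isComplement' P hNC⟩, ?_⟩
    constructor; constructor
    intro a b
    have ha : (a : G) ∈ Subgroup.centralizer ((P : Subgroup G) : Set G) :=
      hNC (Subgroup.le_normalizer a.2)
    rw [Subgroup.mem_centralizer_iff] at ha
    exact Subtype.ext (ha b b.2).symm
  · rintro ⟨⟨P₀, K, hK, hcompl⟩, hcomm⟩
    have hc : K.IsComplement' (P : Subgroup G) :=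
      isComplement'_sylow_of_isComplement' P₀ P K hcompl
    have hinj : Function.Injective (fun x : (P : Subgroup G) =>
        (⟨ConjClasses.mk (x : G), pcl_of_mem P x.2⟩ :
          {c : ConjClasses G // ∀ x ∈ c.carrier, ∃ k : ℕ, orderOf x = p ^ k})) := by
      intro x y hxy
      have h1 : ConjClasses.mk (x : G) = ConjClasses.mk (y : G) := congrArg Subtype.val hxy
      rw [ConjClasses.mk_eq_mk_iff_isConj, isConj_iff] at h1
      obtain ⟨g, hg⟩ := h1
      obtain ⟨⟨k, q⟩, hkq, -⟩ := Subgroup.IsComplement.existsUnique hc g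
      simp only at hkq
      have hqx : (q : G) * (x : G) = (x : G) * (q : G) := by
        have := hcomm.is_comm.comm q x
        exact congrArg Subtype.val this
      have h2 : (y : G) * (x : G)⁻¹ = (k : G) * ((x : G) * (k : G)⁻¹ * (x : G)⁻¹) := by
        rw [← hg, ← hkq]
        have : (k : G) * (q : G) * (x : G) * ((k : G) * (q : G))⁻¹ =
            (k : G) * ((q : G) * (x : G)) * (q : G)⁻¹ * (k : G)⁻¹ := by group
        rw [this, hqx]; group
      have h3 : (y : G) * (x : G)⁻¹ ∈ K := by
        rw [h2]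
        exact K.mul_mem k.2 (hK.conj_mem _ (K.inv_mem k.2) _)
      have h4 : (y : G) * (x : G)⁻¹ ∈ (P : Subgroup G) :=
        (P : Subgroup G).mul_mem y.2 ((P : Subgroup G).inv_mem x.2)
      have h5 : (y : G) * (x : G)⁻¹ = 1 := by
        have hd := hc.disjoint
        rw [Subgroup.disjoint_def] at hd
        exact hd h3 h4
      apply Subtype.ext
      exact (mul_inv_eq_one.mp h5).symm
    have hle := Nat.card_le_card_of_injective _ hinj
    have hpos : 0 < Nat.card (P : Subgroup G) := Nat.card_pos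
    have h2p : p + 1 < 2 * p := by have := hp.two_le; omega
    calc (p + 1) * Nat.card (P : Subgroup G) < 2 * p * Nat.card (P : Subgroup G) :=
          Nat.mul_lt_mul_of_pos_right h2p hpos
      _ ≤ _ := Nat.mul_le_mul_left _ hle

end Cfsg.Agent.H1.KpClasses
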