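import Mathlib
import Cfsg.Agent.H2.BGU.L91b
import Cfsg.Agent.S1399
import Cfsg.Agent.S1324
import Cfsg.Agent.S0026
import Cfsg.Agent.S0025
import Cfsg.Agent.S0058

/-!
# BG Lemma 9.5, part (4): a unique maximal subgroup of type (*) over `A` swallows every
`A`-invariant `p'`-subgroup

`H₀` is a coatom over the abelian `p`-group `A` (which contains an elementary abelian subgroup `E` of
order at least `p ^ 3`) such that `C_G(A) ≤ H₀`, `N_G(Y) ≤ H₀` for every `1 ≠ Y ≤ F(H₀)`, every other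
coatom `H` over `A` has `H' ≤ F(H)`, and for some prime `s₀ ≠ p` the group `O_{s₀}(H₀)` lies in a
unique maximal subgroup while every `A`-invariant `s₀`-subgroup of `G` lies in `H₀`.
Then `A` lies in a unique maximal subgroup.
-/

set_option autoImplicit false
set_option linter.unusedVariables false
set_option linter.unusedSectionVars false
set_option linter.style.haveILetI false

open scoped commutatorElement Pointwise

namespace Cfsg.Agent.H1.BG95D

open Cfsg Cfsg.Agent.H2.BGU Cfsg.Agent.Lib.Helper4.BGTrans Cfsg.Agent.Lib.Lead.PiCore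
  Cfsg.Agent.Lib.Lead.Conj

universe u

variable {G : Type u} [Group G] [Finite G]

theorem commutator_le_of_le_normalizer {X A : Subgroup G}
    (h : A ≤ Subgroup.normalizer (X : Set G)) : ⁅X, A⁆ ≤ X := by
  rw [Subgroup.commutator_le]
  intro x hx a ha
  have h1 : a * x⁻¹ * a⁻¹ ∈ X := (Subgroup.mem_normalizer_iff.mp (h ha) x⁻¹).mp (X.inv_mem hx)
  have h2 : ⁅x, a⁆ = x * (a * x⁻¹ * a⁻¹) := by
    rw [commutatorElement_def]; group
  rw [h2]
  exact X.mul_mem hx h1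

theorem centralizer_singleton_ne_top (hG : Cfsg.IsMinSimpleOddOrder G) {b : G} (hb : b ≠ 1) :
    Subgroup.centralizer ({b} : Set G) ≠ ⊤ := by
  intro h
  apply hb
  have hc : b ∈ Subgroup.center G := by
    rw [Subgroup.mem_center_iff]
    intro g
    have hg : g ∈ Subgroup.centralizer ({b} : Set G) := by rw [h]; exact Subgroup.mem_top g
    exact (Subgroup.mem_centralizer_iff.mp hg b (Set.mem_singleton b)).symm
  rw [Cfsg.Agent.Lib.Helper4.BGUniq.center_eq_bot hG, Subgroup.mem_bot] at hc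
  exact hc

theorem le_centralizer_singleton {A : Subgroup G} (hAc : ∀ x ∈ A, ∀ y ∈ A, x * y = y * x) {b : G}
    (hb : b ∈ A) : A ≤ Subgroup.centralizer ({b} : Set G) := by
  intro a ha
  rw [Subgroup.mem_centralizer_iff]
  intro h hh
  rw [Set.mem_singleton_iff] at hh
  subst hh
  exact hAc h hb a ha

theorem le_normalizer_bot (A : Subgroup G) :
    A ≤ Subgroup.normalizer (((⊥ : Subgroup G) : Subgroup G) : Set G) := by
  intro a _
  apply mem_normalizer_of_conj_mem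
  intro r hr
  rw [Subgroup.mem_bot] at hr
  subst hr
  simp

theorem isMulCommutative_of_le {A B : Subgroup G} (hAc : ∀ x ∈ A, ∀ y ∈ A, x * y = y * x)
    (hBA : B ≤ A) : IsMulCommutative ↥B :=
  ⟨⟨fun x y => Subtype.ext (hAc x (hBA x.2) y (hBA y.2))⟩⟩

theorem coprime_card_of_pgroups {p t : ℕ} (hp : p.Prime) (ht : t.Prime) (htp : t ≠ p)
    {A X : Subgroup G} (hA : IsPGroup p ↥A) (hX : IsPGroup t ↥X) :
    (Nat.card ↥A).Coprime (Nat.card ↥X) := by
  haveI := Fact.mk hp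
  haveI := Fact.mk ht
  obtain ⟨a, ha⟩ := hA.exists_card_eq
  obtain ⟨b, hb⟩ := hX.exists_card_eq
  rw [ha, hb]
  exact Nat.Coprime.pow a b ((Nat.coprime_primes hp ht).mpr (Ne.symm htp))

theorem card_subgroup_ge_sq {p : ℕ} (hp : p.Prime) {B E : Subgroup G} (hBE : B ≤ E)
    (hidx : B.relIndex E ≤ p) (hE3 : p ^ 3 ≤ Nat.card ↥E) : p ^ 2 ≤ Nat.card ↥B := by
  have h1 : Nat.card ↥B * B.relIndex E = Nat.card ↥E := by
    have h1 := (B.subgroupOf E).card_mul_index
    rw [← Subgroup.relIndex] at h1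
    rw [← h1]
    congr 1
    exact (Nat.card_congr (Subgroup.subgroupOfEquivOfLe hBE).toEquiv).symm
  have h2 : p ^ 3 ≤ Nat.card ↥B * p := by
    rw [← h1] at hE3
    exact hE3.trans (Nat.mul_le_mul_left _ hidx)
  have h3 : p ^ 3 = p ^ 2 * p := by ring
  rw [h3] at h2
  exact Nat.le_of_mul_le_mul_right h2 hp.pos

section

variable {p : ℕ} [hp : Fact p.Prime] {A E H₀ : Subgroup G}

/-- every `A`-invariant `t`-subgroup lies in `H₀` -/
theorem tgroup_le (hG : Cfsg.IsMinSimpleOddOrder G)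
    (hAp : IsPGroup p ↥A) (hAc : ∀ x ∈ A, ∀ y ∈ A, x * y = y * x)
    (hEA : E ≤ A) (hE : Cfsg.IsElementaryAbelian p E) (hE3 : p ^ 3 ≤ Nat.card ↥E)
    (hH₀ : IsCoatom H₀) (hAH₀ : A ≤ H₀)
    (hC : Subgroup.centralizer (A : Set G) ≤ H₀)
    (hN : ∀ Y : Subgroup G, Y ≤ Cfsg.fittingOf H₀ → Y ≠ ⊥ →
      Subgroup.normalizer (Y : Set G) ≤ H₀)
    (hI : ∀ H : Subgroup G, IsCoatom H → A ≤ H → H ≠ H₀ → ⁅H, H⁆ ≤ Cfsg.fittingOf H)
    {s₀ : ℕ} (hs₀ : s₀.Prime) (hs₀p : s₀ ≠ p)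
    (hU : Cfsg.InUniqueMaximal (Oq s₀ (Cfsg.fittingOf H₀)))
    (hI₀ : ∀ X : Subgroup G, IsPGroup s₀ ↥X → A ≤ Subgroup.normalizer (X : Set G) → X ≤ H₀)
    (hnot : ¬ Cfsg.InUniqueMaximal A)
    {t : ℕ} (ht : t.Prime) (htp : t ≠ p) :
    ∀ n : ℕ, ∀ X : Subgroup G, Nat.card ↥X = n → IsPGroup t ↥X →
      A ≤ Subgroup.normalizer (X : Set G) → X ≤ H₀ := by
  intro n
  induction n using Nat.strong_induction_on with
  | _ n ih =>
  intro X hXn hXt hAX
  by_contra hXH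
  haveI := Fact.mk ht
  have hp1 := hp.out.one_lt
  set F₀ := Cfsg.fittingOf H₀ with hF₀
  have hcopAX : (Nat.card ↥A).Coprime (Nat.card ↥X) :=
    coprime_card_of_pgroups hp.out ht htp hAp hXt
  have hsolvA : Group.IsSolvable ↥A := by
    haveI := hAp.isNilpotent
    infer_instance
  have hpX : ¬ p ∣ Nat.card ↥X := by
    obtain ⟨k, hk⟩ := hXt.exists_card_eq
    rw [hk]
    intro hd
    exact htp ((Nat.prime_dvd_prime_iff_eq hp.out ht).mp (hp.out.dvd_of_dvd_pow hd)).symm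
  have hE2 : p ^ 2 ≤ Nat.card ↥E :=
    (Nat.pow_le_pow_right hp.out.pos (by norm_num)).trans hE3
  -- step (i): `X` is centralized by a hyperplane of `E`
  have h1324 := Cfsg.Agent.S1324.result p E X hE hE2 hpX (hEA.trans hAX)
  obtain ⟨⟨B, hBE, hBidx⟩, hXB⟩ : ∃ B : {B : Subgroup G // B ≤ E ∧ B.relIndex E ≤ p},
      X ≤ Subgroup.centralizer ((B : Subgroup G) : Set G) := by
    by_contra hcon
    push Not at hcon
    apply hXH
    rw [h1324]
    apply iSup_le
    rintro ⟨B, hBE, hBidx⟩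
    set piece := X ⊓ Subgroup.centralizer (B : Set G) with hpiece
    have hle : piece ≤ X := inf_le_left
    have hlt : Nat.card ↥piece < n := by
      by_contra hge
      push Not at hge
      rw [← hXn] at hge
      have heq : piece = X := Subgroup.eq_of_le_of_card_ge hle hge
      apply hcon ⟨B, hBE, hBidx⟩
      rw [← heq]
      exact inf_le_right
    have hBA : B ≤ A := hBE.trans hEA
    have hinv : A ≤ Subgroup.normalizer (piece : Set G) := by
      intro a ha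
      apply mem_normalizer_of_conj_mem
      intro x hx
      refine ⟨(Subgroup.mem_normalizer_iff.mp (hAX ha) x).mp hx.1, ?_⟩
      refine Subgroup.mem_centralizer_iff.mpr ?_
      intro h hh
      have c1 : Commute h a := hAc h (hBA hh) a ha
      have c2 : Commute h x := Subgroup.mem_centralizer_iff.mp hx.2 h hh
      exact ((c1.mul_right c2).mul_right c1.inv_right).eq
    exact ih _ hlt piece rfl (hXt.to_le hle) hinv
  have hBA : B ≤ A := hBE.trans hEA
  have hBcard : p ^ 2 ≤ Nat.card ↥B := card_subgroup_ge_sq hp.out hBE hBidx hE3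
  have hBel : Cfsg.IsElementaryAbelian p B :=
    ⟨isMulCommutative_of_le hAc hBA, fun b hb => hE.2 b (hBE hb)⟩
  have hBnc : ¬ IsCyclic ↥B := not_isCyclic_of_elementary hBel hBcard
  have hBp : IsPGroup p ↥B := hAp.to_le hBA
  -- step (iii): `A` centralizes `C_{O_s(H₀)}(b)`
  have key : ∀ b ∈ B, b ≠ 1 → ∀ s : ℕ, s.Prime → s ≠ t →
      Oq s F₀ ⊓ Subgroup.centralizer ({b} : Set G) ≤ Subgroup.centralizer (A : Set G) := by
    intro b hbB hb1 s hs hst
    haveI := Fact.mk hs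
    by_contra hcon
    apply hXH
    set Cs := Oq s F₀ ⊓ Subgroup.centralizer ({b} : Set G) with hCs
    obtain ⟨Hb, hHb, hCHb⟩ := exists_coatom_ge (centralizer_singleton_ne_top hG hb1)
    have hAHb : A ≤ Hb := (le_centralizer_singleton hAc (hBA hbB)).trans hCHb
    have hXCb : X ≤ Subgroup.centralizer ({b} : Set G) := by
      refine hXB.trans (Subgroup.centralizer_le ?_)
      intro y hy
      rw [Set.mem_singleton_iff] at hy
      subst hy
      exact hbB
    have hXHb : X ≤ Hb := hXCb.trans hCHb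
    have hne : Hb ≠ H₀ := by
      rintro rfl
      exact hXH hXHb
    have hder := hI Hb hHb hAHb hne
    set N := Cfsg.fittingOf Hb with hNdef
    have hNnil : Group.IsNilpotent ↥N := fittingOf_nilpotent Hb
    -- `U₁ = [X, A]`
    have hU₁N : ⁅X, A⁆ ≤ N := (Subgroup.commutator_mono hXHb hAHb).trans hder
    have hU₁X : ⁅X, A⁆ ≤ X := commutator_le_of_le_normalizer hAX
    have hU₁t : IsPGroup t ↥⁅X, A⁆ := hXt.to_le hU₁X
    -- `U₂ = [Cs, A]`
    have hCsHb : Cs ≤ Hb := inf_le_right.trans hCHb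
    have hACs : A ≤ Subgroup.normalizer (Cs : Set G) := by
      apply le_normalizer_inf
      · exact hAH₀.trans (le_normalizer_Oq_fittingOf s H₀)
      · exact (le_centralizer_singleton hAc (hBA hbB)).trans Subgroup.le_normalizer
    have hU₂N : ⁅Cs, A⁆ ≤ N := (Subgroup.commutator_mono hCsHb hAHb).trans hder
    have hU₂Cs : ⁅Cs, A⁆ ≤ Cs := commutator_le_of_le_normalizer hACs
    have hU₂s : IsPGroup s ↥⁅Cs, A⁆ := (isPGroup_Oq hs F₀).to_le (hU₂Cs.trans inf_le_left)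
    have hU₂ne : ⁅Cs, A⁆ ≠ ⊥ := by
      intro hbot
      apply hcon
      exact Subgroup.commutator_eq_bot_iff_le_centralizer.mp hbot
    have h1 : ⁅X, A⁆ ≤ Oq t N := le_Oq_of_isPGroup hNnil hU₁N hU₁t
    have h2 : ⁅Cs, A⁆ ≤ Oq s N := le_Oq_of_isPGroup hNnil hU₂N hU₂s
    have h3 : Oq t N ≤ Subgroup.centralizer (Oq s N : Set G) := Oq_commute ht hs (Ne.symm hst) N
    have h4 : ⁅X, A⁆ ≤ Subgroup.centralizer ((⁅Cs, A⁆ : Subgroup G) : Set G) :=
      h1.trans (h3.trans (Subgroup.centralizer_le h2))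
    have h5 : ⁅X, A⁆ ≤ H₀ :=
      (h4.trans (Subgroup.centralizer_le_normalizer _)).trans
        (hN _ ((hU₂Cs.trans inf_le_left).trans (Oq_le s F₀)) hU₂ne)
    have h6 := Cfsg.Agent.S0026.result A X hAX hcopAX (Or.inl hsolvA)
    rw [← h6]
    exact sup_le h5 (inf_le_right.trans hC)
  -- step (iv): `A` centralizes `O_s(H₀)` for `s ∉ {t, p}`
  have key2 : ∀ s : ℕ, s.Prime → s ≠ t → s ≠ p →
      Oq s F₀ ≤ Subgroup.centralizer (A : Set G) := by
    intro s hs hst hsp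
    haveI : IsMulCommutative ↥B := isMulCommutative_of_le hAc hBA
    have hBK : B ≤ Subgroup.normalizer (Oq s F₀ : Set G) :=
      (hBA.trans hAH₀).trans (le_normalizer_Oq_fittingOf s H₀)
    have hcop : (Nat.card ↥B).Coprime (Nat.card ↥(Oq s F₀)) :=
      coprime_card_of_pgroups hp.out hs hsp hBp (isPGroup_Oq hs F₀)
    have h58 := Cfsg.Agent.S0058.result B (Oq s F₀) hBnc hBK hcop
    rw [← h58]
    apply iSup₂_le
    intro a ha
    exact key a ha.1 ha.2 s hs hst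
  -- step (v)
  by_cases hs₀t : s₀ = t
  · subst hs₀t
    exact hXH (hI₀ X hXt hAX)
  · apply hnot
    have hcen : A ≤ Subgroup.centralizer (Oq s₀ F₀ : Set G) :=
      Subgroup.le_centralizer_iff.mp (key2 s₀ hs₀ hs₀t hs₀p)
    apply Cfsg.Agent.S1399.result hG (Oq s₀ F₀) A hU hcen
    intro hr
    have hr' := hr p hp.out (E.subgroupOf A)
      ⟨⟨fun x y => Subtype.ext (Subtype.ext (hAc x.1.1 x.1.2 y.1.1 y.1.2))⟩⟩
      (fun a ha => by
        have := hE.2 a.1 (Subgroup.mem_subgroupOf.mp ha)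
        exact Subtype.ext (by simpa using this))
    have hcard : Nat.card ↥(E.subgroupOf A) = Nat.card ↥E :=
      Nat.card_congr (Subgroup.subgroupOfEquivOfLe hEA).toEquiv
    rw [hcard, pow_one] at hr'
    have h3 : p ^ 3 ≤ p := hE3.trans hr'
    have h4 := Nat.pow_lt_pow_right hp1 (show 1 < 3 by norm_num)
    rw [pow_one] at h4
    omega

/-- **BG 9.5, part (4)** -/
theorem part4 (hG : Cfsg.IsMinSimpleOddOrder G)
    (hAp : IsPGroup p ↥A) (hAc : ∀ x ∈ A, ∀ y ∈ A, x * y = y * x)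
    (hEA : E ≤ A) (hE : Cfsg.IsElementaryAbelian p E) (hE3 : p ^ 3 ≤ Nat.card ↥E)
    (hH₀ : IsCoatom H₀) (hAH₀ : A ≤ H₀)
    (hC : Subgroup.centralizer (A : Set G) ≤ H₀)
    (hN : ∀ Y : Subgroup G, Y ≤ Cfsg.fittingOf H₀ → Y ≠ ⊥ →
      Subgroup.normalizer (Y : Set G) ≤ H₀)
    (hI : ∀ H : Subgroup G, IsCoatom H → A ≤ H → H ≠ H₀ → ⁅H, H⁆ ≤ Cfsg.fittingOf H)
    {s₀ : ℕ} (hs₀ : s₀.Prime) (hs₀p : s₀ ≠ p)
    (hU : Cfsg.InUniqueMaximal (Oq s₀ (Cfsg.fittingOf H₀)))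
    (hI₀ : ∀ X : Subgroup G, IsPGroup s₀ ↥X → A ≤ Subgroup.normalizer (X : Set G) → X ≤ H₀) :
    Cfsg.InUniqueMaximal A := by
  by_contra hnot
  apply hnot
  have hp1 := hp.out.one_lt
  have hAne : A ≠ ⊥ := by
    rintro rfl
    have hEbot : E = ⊥ := le_bot_iff.mp hEA
    rw [hEbot, Subgroup.card_bot] at hE3
    have : 1 < p ^ 3 := Nat.one_lt_pow (by norm_num) hp1
    omega
  have hsolvA : Group.IsSolvable ↥A := by
    haveI := hAp.isNilpotent
    infer_instance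
  apply lemma91b hG hH₀ hAH₀ hAp hAne
  intro Y hY
  rw [mem_invSubgroups_top] at hY
  obtain ⟨hYπ, hAY⟩ := hY
  have hYcop : p.Coprime (Nat.card ↥Y) := (isPiNat_primesNotDvd_iff p _).mp hYπ
  have hcopAY : (Nat.card ↥A).Coprime (Nat.card ↥Y) := by
    obtain ⟨k, hk⟩ := hAp.exists_card_eq
    rw [hk]
    exact Nat.Coprime.pow_left k hYcop
  have htop : H₀.subgroupOf Y = ⊤ := by
    apply Cfsg.Agent.H1.eq_top_of_forall_sylow_le
    intro t htf
    obtain ⟨P, -, hAP⟩ := Cfsg.Agent.S0025.result A Y hAY hcopAY (Or.inl hsolvA) t ⊥ bot_le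
      IsPGroup.of_bot (le_normalizer_bot A)
    refine ⟨P, ?_⟩
    have hPt : IsPGroup t ↥((P : Subgroup ↥Y).map Y.subtype) := P.isPGroup'.map _
    have hle : (P : Subgroup ↥Y).map Y.subtype ≤ H₀ := by
      by_cases htp : t = p
      · subst htp
        have hd : Nat.card ↥((P : Subgroup ↥Y).map Y.subtype) ∣ Nat.card ↥Y :=
          Subgroup.card_dvd_of_le (Subgroup.map_subtype_le _)
        obtain ⟨k, hk⟩ := hPt.exists_card_eq
        have hc : (Nat.card ↥((P : Subgroup ↥Y).map Y.subtype)).Coprime (Nat.card ↥Y) := by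
          rw [hk]
          exact Nat.Coprime.pow_left k hYcop
        have h1 : Nat.card ↥((P : Subgroup ↥Y).map Y.subtype) = 1 :=
          Nat.Coprime.eq_one_of_dvd hc hd
        rw [Subgroup.card_eq_one.mp h1]
        exact bot_le
      · exact tgroup_le hG hAp hAc hEA hE hE3 hH₀ hAH₀ hC hN hI hs₀ hs₀p hU hI₀ hnot htf.out htp
          _ _ rfl hPt hAP
    intro x hx
    rw [Subgroup.mem_subgroupOf]
    exact hle ⟨x, hx, rfl⟩
  intro y hy
  have h1 : (⟨y, hy⟩ : ↥Y) ∈ H₀.subgroupOf Y := by rw [htop]; exact Subgroup.mem_top _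
  exact Subgroup.mem_subgroupOf.mp h1

/-- **BG 9.5, part (4)**, with the hypotheses in the shapes delivered by the other parts -/
theorem part4' (hG : Cfsg.IsMinSimpleOddOrder G)
    (hAp : IsPGroup p ↥A) (hAc : IsMulCommutative ↥A)
    (hE : Cfsg.IsElementaryAbelian p E) (hEA : E ≤ A) (hEcard : p ^ 3 ≤ Nat.card ↥E)
    (hH₀ : IsCoatom H₀) (hAH₀ : A ≤ H₀)
    (hC : Subgroup.centralizer (A : Set G) ≤ H₀)
    (hN : ∀ Y : Subgroup G, Y ≤ Cfsg.fittingOf H₀ → Y ≠ ⊥ →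
      Subgroup.normalizer (Y : Set G) ≤ H₀)
    (hI : ∀ H : Subgroup G, IsCoatom H → A ≤ H → H ≠ H₀ → ⁅H, H⁆ ≤ Cfsg.fittingOf H)
    (hd : ∃ s : ℕ, s.Prime ∧ s ≠ p ∧ ¬ Cfsg.PRankLE s 2 ↥(Oq s (Cfsg.fittingOf H₀)) ∧
      Cfsg.InUniqueMaximal (Oq s (Cfsg.fittingOf H₀)) ∧
      ∀ Q ∈ Cfsg.invSubgroups ⊤ A {s}, Q ≤ H₀) :
    Cfsg.InUniqueMaximal A := by
  obtain ⟨s, hs, hsp, -, hU, hQ⟩ := hd
  have hAc' : ∀ x ∈ A, ∀ y ∈ A, x * y = y * x := by
    intro x hx y hy
    have := hAc.is_comm.comm ⟨x, hx⟩ ⟨y, hy⟩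
    exact congrArg Subtype.val this
  refine part4 hG hAp hAc' hEA hE hEcard hH₀ hAH₀ hC hN hI hs hsp hU ?_
  intro X hX hAX
  haveI := Fact.mk hs
  exact hQ X (mem_invSubgroups_top.mpr ⟨isPiNat_of_isPGroup hX, hAX⟩)

end

end Cfsg.Agent.H1.BG95D
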