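import Mathlib
import Cfsg.Agent.H1.CoprimeHall
import Cfsg.Agent.H1.QuotNormalizer
import Cfsg.Agent.H1.SZ

set_option autoImplicit false

namespace Cfsg.Agent.H1

open scoped Pointwise

universe u

lemma pinum_unique {π : Set ℕ} {m n m' n' : ℕ} (h : m * n = m' * n') (hm : PiNum π m)
    (hm' : PiNum π m') (hn : PiNum πᶜ n) (hn' : PiNum πᶜ n') : m = m' := by
  apply Nat.dvd_antisymm
  · exact (hm.coprime hn').dvd_of_dvd_mul_right (Dvd.intro _ h)
  · exact (hm'.coprime hn).dvd_of_dvd_mul_right (Dvd.intro _ h.symm)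

lemma pinum_prime_pow {π : Set ℕ} {q : ℕ} (hq : q.Prime) (hqπ : q ∈ π) (k : ℕ) : PiNum π (q ^ k) := by
  intro p hp hpd
  rw [(Nat.prime_dvd_prime_iff_eq hp hq).1 (hp.dvd_of_dvd_pow hpd)]
  exact hqπ

/-- (c): every invariant `π`-subgroup lies in an invariant Hall `π`-subgroup -/
theorem coprime_hall_contain_aux : ∀ n : ℕ, ∀ (X : Type u) [Group X] [Finite X] (A G U : Subgroup X)
    (π : Set ℕ), Nat.card G = n → A ≤ Subgroup.normalizer (G : Set X) →
    (Nat.card A).Coprime (Nat.card G) → Group.IsSolvable G → U ≤ G →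
    A ≤ Subgroup.normalizer (U : Set X) → PiNum π (Nat.card U) →
    ∃ H : Subgroup X, Cfsg.IsPiHallOf π H G ∧ A ≤ Subgroup.normalizer (H : Set X) ∧ U ≤ H := by
  intro n
  induction n using Nat.strong_induction_on with
  | _ n ih =>
  intro X _ _ A G U π hn hAG hcop hsolv hUG hAU hUπ
  by_cases hG : G = ⊥
  · refine ⟨⊥, ?_, ?_, hG ▸ hUG⟩
    · rw [isPiHallOf_iff, hG]
      refine ⟨le_rfl, ?_, ?_⟩
      · rw [Subgroup.card_bot]; exact PiNum.one _
      · rw [Subgroup.relIndex_self]; exact PiNum.one _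
    · intro a _
      rw [Subgroup.mem_normalizer_iff]
      intro h
      simp [Subgroup.mem_bot]
  obtain ⟨N, hNG, hNne, hGN, hAN, q, hq, k, hNcard⟩ :=
    exists_minimal_invariant_pgroup A G hG hAG hsolv
  have hUD : U ≤ Subgroup.normalizer (N : Set X) := hUG.trans hGN
  have hcardG : Nat.card G = Nat.card (imQ N G) * Nat.card N := card_eq_card_imQ_mul N G hNG hGN
  have hNgt : 1 < Nat.card N := by
    rcases Nat.lt_or_ge 1 (Nat.card N) with h | h
    · exact h
    · exfalso
      apply hNne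
      apply Subgroup.card_eq_one.1
      have : 0 < Nat.card N := Nat.card_pos
      omega
  have hlt : Nat.card (imQ N G) < n := by
    rw [← hn, hcardG]
    have : 0 < Nat.card (imQ N G) := Nat.card_pos
    nlinarith
  have hAG' : imQ N A ≤ Subgroup.normalizer ((imQ N G : Subgroup (QuotN N)) : Set (QuotN N)) :=
    imQ_le_normalizer N A G hAG
  have hcardA : Nat.card (imQ N A) ∣ Nat.card A := by
    have h1 := Subgroup.card_map_dvd (A.subgroupOf (Subgroup.normalizer (N : Set X))) (quotMap N)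
    have h2 : Nat.card (A.subgroupOf (Subgroup.normalizer (N : Set X))) = Nat.card A :=
      Nat.card_congr (Subgroup.subgroupOfEquivOfLe hAN).toEquiv
    rwa [h2] at h1
  have hcardU : Nat.card (imQ N U) ∣ Nat.card U := by
    have h1 := Subgroup.card_map_dvd (U.subgroupOf (Subgroup.normalizer (N : Set X))) (quotMap N)
    have h2 : Nat.card (U.subgroupOf (Subgroup.normalizer (N : Set X))) = Nat.card U :=
      Nat.card_congr (Subgroup.subgroupOfEquivOfLe hUD).toEquiv
    rwa [h2] at h1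
  have hcopQ : (Nat.card (imQ N A)).Coprime (Nat.card (imQ N G)) :=
    Nat.Coprime.coprime_dvd_left hcardA
      (Nat.Coprime.coprime_dvd_right (Dvd.intro _ hcardG.symm) hcop)
  have hsolvQ : Group.IsSolvable (imQ N G) :=
    isSolvable_map (quotMap N) _ (isSolvable_subgroupOf_of_le hGN hsolv)
  have hUG' : imQ N U ≤ imQ N G := by
    apply Subgroup.map_mono
    intro x hx
    rw [Subgroup.mem_subgroupOf] at hx ⊢
    exact hUG hx
  have hAU' : imQ N A ≤ Subgroup.normalizer ((imQ N U : Subgroup (QuotN N)) : Set (QuotN N)) :=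
    imQ_le_normalizer N A U hAU
  obtain ⟨Hb, hHb, hAHb, hUHb⟩ := ih _ hlt (QuotN N) (imQ N A) (imQ N G) (imQ N U) π rfl hAG' hcopQ
    hsolvQ hUG' hAU' (hUπ.of_dvd hcardU)
  obtain ⟨H, hHdef⟩ : ∃ H : Subgroup X, H = preQ N Hb := ⟨_, rfl⟩
  obtain ⟨hHb1, hHb2, hHb3⟩ := (isPiHallOf_iff π Hb _).1 hHb
  have hNH : N ≤ H := hHdef ▸ le_preQ N Hb
  have hHG : H ≤ G := by
    rw [hHdef]
    refine le_trans ?_ (preQ_imQ_le N G hNG)
    exact Subgroup.map_mono (Subgroup.comap_mono hHb1)
  have hAH : A ≤ Subgroup.normalizer (H : Set X) := hHdef ▸ le_normalizer_preQ N A hAN Hb hAHb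
  have hUH : U ≤ H := by
    rw [hHdef]
    intro u hu
    rw [mem_preQ]
    exact ⟨hUD hu, hUHb (mem_imQ_of_mem N U u (hUD hu) hu)⟩
  have himH : imQ N H = Hb := hHdef ▸ imQ_preQ N Hb
  have hcardH : Nat.card H = Nat.card Hb * Nat.card N := by
    rw [card_eq_card_imQ_mul N H hNH (hHG.trans hGN), himH]
  have hrel : H.relIndex G = Hb.relIndex (imQ N G) := by
    have h1 := card_eq_relIndex_mul_card hHG
    have h2 := card_eq_relIndex_mul_card hHb1
    rw [hcardG, hcardH, h2] at h1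
    have hpos : 0 < Nat.card Hb * Nat.card N := Nat.mul_pos Nat.card_pos Nat.card_pos
    have : Hb.relIndex (imQ N G) * (Nat.card Hb * Nat.card N) =
        H.relIndex G * (Nat.card Hb * Nat.card N) := by rw [← h1]; ring
    exact (Nat.eq_of_mul_eq_mul_right hpos this).symm
  by_cases hqπ : q ∈ π
  · refine ⟨H, (isPiHallOf_iff π H G).2 ⟨hHG, ?_, hrel ▸ hHb3⟩, hAH, hUH⟩
    rw [hcardH, hNcard]
    exact hHb2.mul (pinum_prime_pow hq hqπ k)
  · have hNπ' : PiNum πᶜ (Nat.card N) := hNcard ▸ pinum_prime_pow hq hqπ k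
    by_cases hHeq : H = G
    · -- complement case
      have hGbπ : PiNum π (Nat.card (imQ N G)) := by
        rw [← hHeq, himH]; exact hHb2
      obtain ⟨K₁, hK₁, hAK₁⟩ := exists_invariant_isPiHallOf A G hAG hcop hsolv π
      obtain ⟨hK₁G, hK₁π, hK₁π'⟩ := (isPiHallOf_iff π K₁ G).1 hK₁
      have hcardK₁ : Nat.card K₁ = Nat.card (imQ N G) := by
        have h1 := card_eq_relIndex_mul_card hK₁G
        rw [hcardG, mul_comm (K₁.relIndex G)] at h1
        exact (pinum_unique h1 hGbπ hK₁π hNπ' hK₁π').symm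
      have hK₁N : K₁ ⊓ N = ⊥ := (Subgroup.disjoint_of_coprime_natCard (hK₁π.coprime hNπ')).eq_bot
      have hK₁n : K₁ ≤ Subgroup.normalizer (N : Set X) := hK₁G.trans hGN
      have hsup : K₁ ⊔ N = G := by
        apply Subgroup.eq_of_le_of_card_ge (sup_le hK₁G hNG)
        have h1 := card_sup_mul_card_inf K₁ N hK₁n
        rw [hK₁N, Subgroup.card_bot, mul_one] at h1
        rw [h1, hcardK₁, hcardG]
      obtain ⟨V, hVdef⟩ : ∃ V : Subgroup X, V = U ⊔ N := ⟨_, rfl⟩
      have hVG : V ≤ G := hVdef ▸ sup_le hUG hNG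
      have hUV : U ≤ V := hVdef ▸ le_sup_left
      have hNV : N ≤ V := hVdef ▸ le_sup_right
      have hAV : A ≤ Subgroup.normalizer (V : Set X) := hVdef ▸ le_normalizer_sup A U N hAU hAN
      obtain ⟨U₁, hU₁def⟩ : ∃ U₁ : Subgroup X, U₁ = V ⊓ K₁ := ⟨_, rfl⟩
      have hU₁V : U₁ ≤ V := hU₁def ▸ inf_le_left
      have hU₁K : U₁ ≤ K₁ := hU₁def ▸ inf_le_right
      have hAU₁ : A ≤ Subgroup.normalizer (U₁ : Set X) := hU₁def ▸ le_normalizer_inf A V K₁ hAV hAK₁
      have hVsup : V = U₁ ⊔ N := by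
        apply le_antisymm _ (sup_le hU₁V hNV)
        intro x hx
        have hxG : x ∈ N ⊔ K₁ := by rw [sup_comm, hsup]; exact hVG hx
        obtain ⟨m, hm, a, ha, rfl⟩ := (mem_sup_of_le_normalizer N K₁ hK₁n).1 hxG
        have haV : a ∈ V := by
          have : a = m⁻¹ * (m * a) := by group
          rw [this]
          exact mul_mem (inv_mem (hNV hm)) hx
        exact mul_mem (Subgroup.mem_sup_right hm)
          (Subgroup.mem_sup_left (hU₁def ▸ Subgroup.mem_inf.2 ⟨haV, ha⟩))
      have hUN : U ⊓ N = ⊥ := (Subgroup.disjoint_of_coprime_natCard (hUπ.coprime hNπ')).eq_bot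
      have hU₁N : U₁ ⊓ N = ⊥ := by
        rw [eq_bot_iff, ← hK₁N]
        exact inf_le_inf_right N hU₁K
      have hcardV : Nat.card V = Nat.card U * Nat.card N := by
        have h1 := card_sup_mul_card_inf U N hUD
        rw [hUN, Subgroup.card_bot, mul_one, ← hVdef] at h1
        exact h1
      have hcardV' : Nat.card V = Nat.card U₁ * Nat.card N := by
        have h1 := card_sup_mul_card_inf U₁ N (hU₁K.trans hK₁n)
        rw [hU₁N, Subgroup.card_bot, mul_one, ← hVsup] at h1
        exact h1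
      have hcardU₁ : Nat.card U₁ = Nat.card U := by
        rw [hcardV] at hcardV'
        exact (Nat.eq_of_mul_eq_mul_right Nat.card_pos hcardV').symm
      have hUhall : Cfsg.IsPiHallOf π U V := by
        rw [isPiHallOf_iff]
        refine ⟨hUV, hUπ, ?_⟩
        have h1 := card_eq_relIndex_mul_card hUV
        rw [hcardV, mul_comm] at h1
        rw [← Nat.eq_of_mul_eq_mul_right Nat.card_pos h1]
        exact hNπ'
      have hU₁hall : Cfsg.IsPiHallOf π U₁ V := by
        rw [isPiHallOf_iff]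
        refine ⟨hU₁V, hcardU₁ ▸ hUπ, ?_⟩
        have h1 := card_eq_relIndex_mul_card hU₁V
        rw [hcardV', mul_comm] at h1
        rw [← Nat.eq_of_mul_eq_mul_right Nat.card_pos h1]
        exact hNπ'
      have hcopV : (Nat.card A).Coprime (Nat.card V) :=
        Nat.Coprime.coprime_dvd_right (Subgroup.card_dvd_of_le hVG) hcop
      have hsolvV : Group.IsSolvable V :=
        Group.isSolvable_of_isSolvable_injective (f := Subgroup.inclusion hVG)
          (Subgroup.inclusion_injective hVG)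
      obtain ⟨c, hc, hcU⟩ := invariant_isPiHallOf_conj A V hAV hcopV hsolvV π U₁ U hU₁hall hAU₁
        hUhall hAU
      obtain ⟨hcV, hcA⟩ := Subgroup.mem_inf.1 hc
      refine ⟨K₁.map (MulAut.conj c).toMonoidHom,
        isPiHallOf_map_conj π K₁ G hK₁ c (Subgroup.le_normalizer (hVG hcV)),
        le_normalizer_map_conj A K₁ c ((Subgroup.centralizer_le_normalizer (A : Set X)) hcA) hAK₁, ?_⟩
      rw [hcU]
      exact Subgroup.map_mono hU₁K
    · have hlt' : Nat.card H < n := by
        rw [← hn]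
        rcases (Subgroup.card_le_of_le hHG).lt_or_eq with h | h
        · exact h
        · exact absurd (Subgroup.eq_of_le_of_card_ge hHG h.ge) hHeq
      have hcopH : (Nat.card A).Coprime (Nat.card H) :=
        Nat.Coprime.coprime_dvd_right (Subgroup.card_dvd_of_le hHG) hcop
      have hsolvH : Group.IsSolvable H :=
        Group.isSolvable_of_isSolvable_injective (f := Subgroup.inclusion hHG)
          (Subgroup.inclusion_injective hHG)
      obtain ⟨K, hK, hAK, hUK⟩ := ih _ hlt' X A H U π rfl hAH hcopH hsolvH hUH hAU hUπ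
      obtain ⟨hK1, hK2, hK3⟩ := (isPiHallOf_iff π K H).1 hK
      refine ⟨K, (isPiHallOf_iff π K G).2 ⟨hK1.trans hHG, hK2, ?_⟩, hAK, hUK⟩
      rw [← Subgroup.relIndex_mul_relIndex K H G hK1 hHG]
      exact hK3.mul (hrel ▸ hHb3)

theorem coprime_hall_contain {X : Type u} [Group X] [Finite X] (A G U : Subgroup X) (π : Set ℕ)
    (hAG : A ≤ Subgroup.normalizer (G : Set X)) (hcop : (Nat.card A).Coprime (Nat.card G))
    (hsolv : Group.IsSolvable G) (hUG : U ≤ G) (hAU : A ≤ Subgroup.normalizer (U : Set X))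
    (hUπ : ∀ p : ℕ, p.Prime → p ∣ Nat.card U → p ∈ π) :
    ∃ H : Subgroup X, Cfsg.IsPiHallOf π H G ∧ A ≤ Subgroup.normalizer (H : Set X) ∧ U ≤ H :=
  coprime_hall_contain_aux _ X A G U π rfl hAG hcop hsolv hUG hAU hUπ

end Cfsg.Agent.H1
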