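import Mathlib
import Cfsg.Agent.H1.BGShult
import Cfsg.Agent.S1350
import Cfsg.Agent.Lib.Helper4.BGTransD
import Cfsg.Agent.H2.BGU.Basic

/-!
# B&G Section 11: the "HH step"

For a maximal subgroup `M` of a minimal simple group of odd order, a subgroup `B0 ≤ M` of prime order
`p ∉ σ(M)` acting fixed-point-freely on `M_σ`, and a `B0`-invariant subgroup `T ≤ M` of order coprime
to `p` and to `#M_σ`: `[T, B0]` centralizes `M_σ`.
-/

set_option autoImplicit false
set_option linter.unusedVariables false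
set_option linter.unusedSectionVars false
set_option linter.style.haveILetI false

open scoped commutatorElement

namespace Cfsg.Agent.H1.BG11

open Cfsg Cfsg.Agent.Lib.Helper4.BGTrans Cfsg.Agent.H2.BGU

universe u

variable {G : Type u} [Group G] [Finite G]

theorem sigmaCore_le (M : Subgroup G) : Cfsg.sigmaCore M ≤ M := piCoreOf_le (Cfsg.sigma M) M

theorem le_normalizer_sigmaCore (M : Subgroup G) :
    M ≤ Subgroup.normalizer ((Cfsg.sigmaCore M : Subgroup G) : Set G) :=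
  le_normalizer_piCoreOf (Cfsg.sigma M) M

theorem le_normalizer_centralizer_sigmaCore (M : Subgroup G) :
    M ≤ Subgroup.normalizer
      ((Subgroup.centralizer ((Cfsg.sigmaCore M : Subgroup G) : Set G) : Subgroup G) : Set G) :=
  (le_normalizer_sigmaCore M).trans (normalizer_le_normalizer_centralizer _)

theorem prime_mem_sigma_of_dvd (hG : Cfsg.IsMinSimpleOddOrder G) {M : Subgroup G} (hM : IsCoatom M)
    {q : ℕ} (hq : q.Prime) (h : q ∣ Nat.card ↥(Cfsg.sigmaCore M)) : q ∈ Cfsg.sigma M :=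
  (Cfsg.Agent.S1350.result hG M hM).1.2.1 q hq h

theorem coprime_card_sigmaCore (hG : Cfsg.IsMinSimpleOddOrder G) {M : Subgroup G} (hM : IsCoatom M)
    {p : ℕ} (hp : p.Prime) (hpσ : p ∉ Cfsg.sigma M) : p.Coprime (Nat.card ↥(Cfsg.sigmaCore M)) :=
  (Nat.Prime.coprime_iff_not_dvd hp).mpr (fun h => hpσ (prime_mem_sigma_of_dvd hG hM hp h))

/-- a subgroup of `M` whose prime divisors all lie outside `σ(M)` has order coprime to `#M_σ` -/
theorem coprime_card_of_sigma' (hG : Cfsg.IsMinSimpleOddOrder G) {M : Subgroup G} (hM : IsCoatom M)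
    (T : Subgroup G) (hT : ∀ q : ℕ, q.Prime → q ∣ Nat.card ↥T → q ∉ Cfsg.sigma M) :
    (Nat.card ↥T).Coprime (Nat.card ↥(Cfsg.sigmaCore M)) := by
  apply Nat.Coprime.symm
  apply Nat.coprime_of_dvd
  intro k hk hk1 hk2
  exact hT k hk hk2 (prime_mem_sigma_of_dvd hG hM hk hk1)

/-- **HH step**, one fixed-point-free subgroup of prime order. -/
theorem hh_step (hG : Cfsg.IsMinSimpleOddOrder G) {M : Subgroup G} (hM : IsCoatom M) {p : ℕ}
    [hp : Fact p.Prime] (hpσ : p ∉ Cfsg.sigma M) (B0 : Subgroup G) (hB0M : B0 ≤ M)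
    (h0 : Nat.card ↥B0 = p)
    (hf0 : Cfsg.sigmaCore M ⊓ Subgroup.centralizer (B0 : Set G) = ⊥)
    (T : Subgroup G) (hTM : T ≤ M) (hB0T : B0 ≤ Subgroup.normalizer (T : Set G))
    (hTp : (Nat.card ↥T).Coprime p)
    (hTσ : (Nat.card ↥T).Coprime (Nat.card ↥(Cfsg.sigmaCore M))) :
    ⁅T, B0⁆ ≤ Subgroup.centralizer ((Cfsg.sigmaCore M : Subgroup G) : Set G) := by
  classical
  rw [Subgroup.commutator_le]
  intro g hg b hb
  by_cases hb1 : b = 1
  · rw [hb1, commutatorElement_one_right]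
    exact Subgroup.one_mem _
  have hbp : b ^ p = 1 := by
    have h1 := pow_card_eq_one' (G := B0) (x := ⟨b, hb⟩)
    rw [h0] at h1
    have h2 : (((⟨b, hb⟩ : B0) ^ p : B0) : G) = ((1 : B0) : G) := congrArg Subtype.val h1
    rw [Subgroup.coe_pow] at h2
    exact h2
  have hzp : Subgroup.zpowers b = B0 := by
    apply Subgroup.eq_of_le_of_card_ge ((Subgroup.zpowers_le).mpr hb)
    rw [Nat.card_zpowers, orderOf_eq_prime hbp hb1, h0]
  set Q := Cfsg.sigmaCore M with hQ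
  have hQM : Q ≤ M := sigmaCore_le M
  have hle : Q ⊔ T ⊔ Subgroup.zpowers b ≤ M := by
    refine sup_le (sup_le hQM hTM) ?_
    rw [hzp]; exact hB0M
  have hsolv : Group.IsSolvable ↥(Q ⊔ T ⊔ Subgroup.zpowers b) := solvable_of_le_coatom hG hM hle
  have hodd : Odd (Nat.card ↥(Q ⊔ T ⊔ Subgroup.zpowers b)) := odd_card_subgroup hG _
  have hfpf : ∀ m ∈ Q, b * m = m * b → m = 1 := by
    intro m hm hc
    have hmem : m ∈ Q ⊓ Subgroup.centralizer (B0 : Set G) := by
      refine ⟨hm, ?_⟩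
      refine Subgroup.mem_centralizer_iff.mpr ?_
      intro x hx
      have hx' : x ∈ Subgroup.zpowers b := by rw [hzp]; exact hx
      obtain ⟨k, rfl⟩ := Subgroup.mem_zpowers_iff.mp hx'
      have hcm : Commute b m := hc
      exact (hcm.zpow_left k)
    rw [hf0, Subgroup.mem_bot] at hmem
    exact hmem
  exact Cfsg.Agent.H1.BGShult.shult Q T b p hp.out hbp (hTM.trans (le_normalizer_sigmaCore M))
    (le_normalizer_sigmaCore M (hB0M hb)) (hB0T hb) hsolv hodd
    (coprime_card_sigmaCore hG hM hp.out hpσ) hTp.symm hTσ hfpf g hg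

/-- the set of `a ∈ M` with `[T, a] ⊆ C_G(M_σ)` is a subgroup -/
def commSub (M T : Subgroup G) : Subgroup G where
  carrier := {a | a ∈ M ∧ ∀ g ∈ T, ⁅g, a⁆ ∈
    Subgroup.centralizer ((Cfsg.sigmaCore M : Subgroup G) : Set G)}
  one_mem' := by
    refine ⟨M.one_mem, fun g hg => ?_⟩
    rw [commutatorElement_one_right]
    exact Subgroup.one_mem _
  mul_mem' := by
    rintro a a' ⟨haM, ha⟩ ⟨ha'M, ha'⟩
    refine ⟨M.mul_mem haM ha'M, fun g hg => ?_⟩
    have e : ⁅g, a * a'⁆ = ⁅g, a⁆ * (a * ⁅g, a'⁆ * a⁻¹) := by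
      simp only [commutatorElement_def]; group
    rw [e]
    refine Subgroup.mul_mem _ (ha g hg) ?_
    have hn := le_normalizer_centralizer_sigmaCore M haM
    exact (Subgroup.mem_normalizer_iff.mp hn _).mp (ha' g hg)
  inv_mem' := by
    rintro a ⟨haM, ha⟩
    refine ⟨M.inv_mem haM, fun g hg => ?_⟩
    have e : ⁅g, a⁻¹⁆ = a⁻¹ * (⁅g, a⁆)⁻¹ * a⁻¹⁻¹ := by
      simp only [commutatorElement_def]; group
    rw [e]
    have hn := le_normalizer_centralizer_sigmaCore M (M.inv_mem haM)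
    exact (Subgroup.mem_normalizer_iff.mp hn _).mp (Subgroup.inv_mem _ (ha g hg))

/-- **HH step** for a subgroup `A` generated by two fixed-point-free subgroups of order `p`. -/
theorem hh_pair (hG : Cfsg.IsMinSimpleOddOrder G) {M : Subgroup G} (hM : IsCoatom M) {p : ℕ}
    [hp : Fact p.Prime] (hpσ : p ∉ Cfsg.sigma M) (A B0 B1 : Subgroup G) (hAM : A ≤ M)
    (hB0 : B0 ≤ A) (hB1 : B1 ≤ A) (hA : A ≤ B0 ⊔ B1)
    (h0 : Nat.card ↥B0 = p) (h1 : Nat.card ↥B1 = p)
    (hf0 : Cfsg.sigmaCore M ⊓ Subgroup.centralizer (B0 : Set G) = ⊥)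
    (hf1 : Cfsg.sigmaCore M ⊓ Subgroup.centralizer (B1 : Set G) = ⊥)
    (T : Subgroup G) (hTM : T ≤ M) (hAT : A ≤ Subgroup.normalizer (T : Set G))
    (hTp : (Nat.card ↥T).Coprime p)
    (hTσ : (Nat.card ↥T).Coprime (Nat.card ↥(Cfsg.sigmaCore M))) :
    ⁅T, A⁆ ≤ Subgroup.centralizer ((Cfsg.sigmaCore M : Subgroup G) : Set G) := by
  have hs0 := hh_step hG hM hpσ B0 (hB0.trans hAM) h0 hf0 T hTM (hB0.trans hAT) hTp hTσ
  have hs1 := hh_step hG hM hpσ B1 (hB1.trans hAM) h1 hf1 T hTM (hB1.trans hAT) hTp hTσ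
  have hB0S : B0 ≤ commSub M T := fun b hb =>
    ⟨hAM (hB0 hb), fun g hg => hs0 (Subgroup.commutator_mem_commutator hg hb)⟩
  have hB1S : B1 ≤ commSub M T := fun b hb =>
    ⟨hAM (hB1 hb), fun g hg => hs1 (Subgroup.commutator_mem_commutator hg hb)⟩
  have hAS : A ≤ commSub M T := hA.trans (sup_le hB0S hB1S)
  rw [Subgroup.commutator_le]
  intro g hg a ha
  exact (hAS ha).2 g hg

end Cfsg.Agent.H1.BG11
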