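import Mathlib
import Cfsg.Prelude.Def_Local
import Cfsg.Agent.H1.Cores

set_option autoImplicit false
set_option linter.style.haveILetI false
set_option linter.unusedVariables false
set_option linter.unusedSectionVars false

namespace Cfsg.Agent.H1

open Cfsg

section plength
variable {G : Type*} [Group G]

/-- every element of `M` has `p'`-order modulo `N` -/
def PPrimeFactor (p : ℕ) (N M : Subgroup G) : Prop := ∀ x ∈ M, ∃ m : ℕ, m.Coprime p ∧ x ^ m ∈ N

/-- every element of `M` has `p`-power order modulo `N` -/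
def PPowFactor (p : ℕ) (N M : Subgroup G) : Prop := ∀ x ∈ M, ∃ a : ℕ, x ^ p ^ a ∈ N

/-- the factor `M / N` has the type required at position `j` of an upper `p`-series -/
def StepFactor (p j : ℕ) (N M : Subgroup G) : Prop :=
  (Even j → PPrimeFactor p N M) ∧ (¬ Even j → PPowFactor p N M)

theorem StepFactor.comap {H : Type*} [Group H] {p j : ℕ} {N M : Subgroup G} (h : StepFactor p j N M)
    (f : H →* G) : StepFactor p j (N.comap f) (M.comap f) := by
  constructor
  · intro hj x hx
    obtain ⟨m, hm, hxm⟩ := h.1 hj (f x) hx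
    exact ⟨m, hm, by rw [Subgroup.mem_comap, map_pow]; exact hxm⟩
  · intro hj x hx
    obtain ⟨a, hxa⟩ := h.2 hj (f x) hx
    exact ⟨a, by rw [Subgroup.mem_comap, map_pow]; exact hxa⟩

theorem StepFactor.map {H : Type*} [Group H] {p j : ℕ} {N M : Subgroup G} (h : StepFactor p j N M)
    (f : G →* H) : StepFactor p j (N.map f) (M.map f) := by
  constructor
  · rintro hj _ ⟨x, hx, rfl⟩
    obtain ⟨m, hm, hxm⟩ := h.1 hj x hx
    exact ⟨m, hm, by rw [← map_pow]; exact Subgroup.mem_map_of_mem f hxm⟩
  · rintro hj _ ⟨x, hx, rfl⟩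
    obtain ⟨a, hxa⟩ := h.2 hj x hx
    exact ⟨a, by rw [← map_pow]; exact Subgroup.mem_map_of_mem f hxa⟩

theorem StepFactor.parity {p j j' : ℕ} {N M : Subgroup G} (h : StepFactor p j N M)
    (hjj : Even j' ↔ Even j) : StepFactor p j' N M :=
  ⟨fun hj => h.1 (hjj.mp hj), fun hj => h.2 (fun h' => hj (hjj.mpr h'))⟩

theorem card_coprime_of_forall_pow [Finite G] {p : ℕ} [hp : Fact p.Prime]
    (h : ∀ x : G, ∃ m : ℕ, m.Coprime p ∧ x ^ m = 1) : (Nat.card G).Coprime p := by
  rw [Nat.coprime_comm, Nat.Prime.coprime_iff_not_dvd hp.out]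
  intro hdvd
  obtain ⟨x, hx⟩ := exists_prime_orderOf_dvd_card' p hdvd
  obtain ⟨m, hm, hxm⟩ := h x
  have h1 : p ∣ m := by rw [← hx]; exact orderOf_dvd_of_pow_eq_one hxm
  have h2 : p ∣ Nat.gcd m p := Nat.dvd_gcd h1 dvd_rfl
  rw [hm, Nat.dvd_one] at h2
  exact hp.out.one_lt.ne' h2

theorem ups_zero (p : ℕ) : (upperPSeries p G 0).1 = ⊥ := rfl

theorem ups_succ_even (p : ℕ) {j : ℕ} (hj : Even j) : (upperPSeries p G (j + 1)).1 =
    (pPrimeCore p (G ⧸ (upperPSeries p G j).1)).comap (QuotientGroup.mk' _) := by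
  rw [upperPSeries]
  simp only [hj, if_true]

theorem ups_succ_odd (p : ℕ) {j : ℕ} (hj : ¬ Even j) : (upperPSeries p G (j + 1)).1 =
    (pCore p (G ⧸ (upperPSeries p G j).1)).comap (QuotientGroup.mk' _) := by
  rw [upperPSeries]
  simp only [hj, if_false]

theorem ups_le_succ (p j : ℕ) : (upperPSeries p G j).1 ≤ (upperPSeries p G (j + 1)).1 := by
  intro x hx
  have h1 : QuotientGroup.mk' (upperPSeries p G j).1 x = 1 := (QuotientGroup.eq_one_iff x).2 hx
  by_cases hj : Even j
  · rw [ups_succ_even p hj, Subgroup.mem_comap, h1]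
    exact one_mem _
  · rw [ups_succ_odd p hj, Subgroup.mem_comap, h1]
    exact one_mem _

theorem ups_mono (p : ℕ) {j k : ℕ} (hjk : j ≤ k) : (upperPSeries p G j).1 ≤ (upperPSeries p G k).1 :=
  monotone_nat_of_le_succ (f := fun j => (upperPSeries p G j).1) (fun j => ups_le_succ p j) hjk

theorem le_ups_succ [Finite G] {p : ℕ} [hp : Fact p.Prime] {j : ℕ} {N M : Subgroup G} [hM : M.Normal]
    (hN : N ≤ (upperPSeries p G j).1) (h : StepFactor p j N M) : M ≤ (upperPSeries p G (j + 1)).1 := by
  have hn : (M.map (QuotientGroup.mk' (upperPSeries p G j).1)).Normal :=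
    Subgroup.Normal.map hM _ (QuotientGroup.mk'_surjective _)
  by_cases hj : Even j
  · rw [ups_succ_even p hj]
    intro x hx
    rw [Subgroup.mem_comap]
    refine le_pPrimeCore hn ?_ (Subgroup.mem_map_of_mem _ hx)
    apply card_coprime_of_forall_pow
    rintro ⟨y, hy⟩
    obtain ⟨z, hz, rfl⟩ := hy
    obtain ⟨m, hm, hzm⟩ := h.1 hj z hz
    refine ⟨m, hm, ?_⟩
    apply Subtype.ext
    rw [Subgroup.coe_pow, Subgroup.coe_one, ← map_pow]
    exact (QuotientGroup.eq_one_iff _).mpr (hN hzm)
  · rw [ups_succ_odd p hj]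
    intro x hx
    rw [Subgroup.mem_comap]
    refine le_pCore hn ?_ (Subgroup.mem_map_of_mem _ hx)
    rintro ⟨y, hy⟩
    obtain ⟨z, hz, rfl⟩ := hy
    obtain ⟨a, hza⟩ := h.2 hj z hz
    refine ⟨a, ?_⟩
    apply Subtype.ext
    rw [Subgroup.coe_pow, Subgroup.coe_one, ← map_pow]
    exact (QuotientGroup.eq_one_iff _).mpr (hN hza)

theorem ups_stepFactor [Finite G] (p : ℕ) (j : ℕ) :
    StepFactor p j (upperPSeries p G j).1 (upperPSeries p G (j + 1)).1 := by
  constructor
  · intro hj x hx
    rw [ups_succ_even p hj, Subgroup.mem_comap] at hx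
    refine ⟨Nat.card (pPrimeCore p (G ⧸ (upperPSeries p G j).1)), pPrimeCore_coprime p, ?_⟩
    have h1 : (⟨_, hx⟩ : pPrimeCore p (G ⧸ (upperPSeries p G j).1)) ^
        Nat.card (pPrimeCore p (G ⧸ (upperPSeries p G j).1)) = 1 := pow_card_eq_one'
    have h2 := congrArg Subtype.val h1
    rw [Subgroup.coe_pow, Subgroup.coe_one, ← map_pow] at h2
    exact (QuotientGroup.eq_one_iff _).mp h2
  · intro hj x hx
    rw [ups_succ_odd p hj, Subgroup.mem_comap] at hx
    obtain ⟨a, ha⟩ := (pCore_isPGroup (G := G ⧸ (upperPSeries p G j).1) p) ⟨_, hx⟩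
    refine ⟨a, ?_⟩
    have h2 := congrArg Subtype.val ha
    rw [Subgroup.coe_pow, Subgroup.coe_one, ← map_pow] at h2
    exact (QuotientGroup.eq_one_iff _).mp h2

/-- a chain of normal subgroups with factors of the right types lies below the upper `p`-series -/
theorem chain_le_ups [Finite G] {p : ℕ} [Fact p.Prime] (k : ℕ) (C : ℕ → Subgroup G)
    (h0 : C 0 ≤ (upperPSeries p G k).1) (hn : ∀ j, (C (j + 1)).Normal)
    (hs : ∀ j, StepFactor p (k + j) (C j) (C (j + 1))) : ∀ j, C j ≤ (upperPSeries p G (k + j)).1 := by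
  intro j
  induction j with
  | zero => exact h0
  | succ j ih =>
    haveI := hn j
    exact le_ups_succ ih (hs j)

theorem map_ups_le [Finite G] {H : Type*} [Group H] [Finite H] {p : ℕ} [Fact p.Prime] (f : G →* H)
    (hf : Function.Surjective f) (j : ℕ) :
    (upperPSeries p G j).1.map f ≤ (upperPSeries p H j).1 := by
  have h := chain_le_ups (G := H) (p := p) 0 (fun j => (upperPSeries p G j).1.map f)
    (by rw [ups_zero, ups_zero, Subgroup.map_bot])
    (fun j => Subgroup.Normal.map inferInstance f hf)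
    (fun j => by rw [zero_add]; exact (ups_stepFactor p j).map f) j
  rwa [zero_add] at h

theorem comap_ups_le [Finite G] {H : Type*} [Group H] [Finite H] {p : ℕ} [Fact p.Prime] (f : H →* G)
    (hf : Function.Injective f) (j : ℕ) :
    (upperPSeries p G j).1.comap f ≤ (upperPSeries p H j).1 := by
  have h := chain_le_ups (G := H) (p := p) 0 (fun j => (upperPSeries p G j).1.comap f)
    (by
      rw [ups_zero, ups_zero]
      intro x hx
      rw [Subgroup.mem_comap, Subgroup.mem_bot] at hx
      rw [Subgroup.mem_bot]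
      exact hf (by rw [hx, map_one]))
    (fun j => Subgroup.Normal.comap inferInstance f)
    (fun j => by rw [zero_add]; exact (ups_stepFactor p j).comap f) j
  rwa [zero_add] at h

instance ups_characteristic [Finite G] {p : ℕ} [Fact p.Prime] (j : ℕ) :
    (upperPSeries p G j).1.Characteristic := by
  rw [Subgroup.characteristic_iff_map_le]
  intro ϕ
  exact map_ups_le ϕ.toMonoidHom ϕ.surjective j

theorem plength_mono {p k k' : ℕ} (hk : k ≤ k') (h : PLengthLE p k G) : PLengthLE p k' G := by
  unfold PLengthLE at h ⊢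
  rw [eq_top_iff, ← h]
  exact ups_mono p (by omega)

theorem plength_subgroup [Finite G] {p : ℕ} [Fact p.Prime] (H : Subgroup G) {k : ℕ} (h : PLengthLE p k G) :
    PLengthLE p k ↥H := by
  unfold PLengthLE at h ⊢
  rw [eq_top_iff]
  refine le_trans ?_ (comap_ups_le H.subtype H.subtype_injective (2 * k + 1))
  rw [h, Subgroup.comap_top]

theorem plength_of_surjective [Finite G] {H : Type*} [Group H] [Finite H] {p : ℕ} [Fact p.Prime] (f : G →* H)
    (hf : Function.Surjective f) {k : ℕ} (h : PLengthLE p k G) : PLengthLE p k H := by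
  unfold PLengthLE at h ⊢
  rw [eq_top_iff]
  refine le_trans ?_ (map_ups_le f hf (2 * k + 1))
  rw [h, Subgroup.map_top_of_surjective f hf]

theorem plength_of_mulEquiv [Finite G] {H : Type*} [Group H] {p : ℕ} [Fact p.Prime] (e : G ≃* H)
    {k : ℕ} (h : PLengthLE p k G) : PLengthLE p k H := by
  haveI : Finite H := Finite.of_equiv G e.toEquiv
  exact plength_of_surjective e.toMonoidHom e.surjective h

theorem plength_zero_of_coprime [Finite G] {p : ℕ} [Fact p.Prime] (h : (Nat.card G).Coprime p) :
    PLengthLE p 0 G := by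
  unfold PLengthLE
  rw [eq_top_iff]
  refine le_ups_succ (N := ⊥) bot_le ⟨fun _ x _ => ⟨Nat.card G, h, ?_⟩, fun hj => absurd (by decide) hj⟩
  rw [pow_card_eq_one']
  exact one_mem _

theorem card_coprime_of_plength_zero [Finite G] {p : ℕ} [Fact p.Prime] (h : PLengthLE p 0 G) :
    (Nat.card G).Coprime p := by
  unfold PLengthLE at h
  apply card_coprime_of_forall_pow
  intro x
  obtain ⟨m, hm, hx⟩ := (ups_stepFactor (G := G) p 0).1 (by decide) x (by rw [h]; exact Subgroup.mem_top x)
  rw [ups_zero, Subgroup.mem_bot] at hx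
  exact ⟨m, hm, hx⟩

theorem plength_one_of_isPGroup [Finite G] {p : ℕ} [Fact p.Prime] (h : IsPGroup p G) :
    PLengthLE p 1 G := by
  unfold PLengthLE
  rw [eq_top_iff]
  refine le_trans ?_ (ups_le_succ p 2)
  refine le_ups_succ (N := ⊥) bot_le ⟨fun hj => absurd hj (by decide), fun _ x _ => ?_⟩
  obtain ⟨a, ha⟩ := h x
  exact ⟨a, by rw [ha]; exact one_mem _⟩

/-- the `p`-length is subadditive on extensions -/
theorem plength_extension [Finite G] {p : ℕ} [Fact p.Prime] (N : Subgroup G) [hN : N.Normal] {a b : ℕ}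
    (ha : PLengthLE p a ↥N) (hb : PLengthLE p b (G ⧸ N)) : PLengthLE p (a + b) G := by
  unfold PLengthLE at ha hb ⊢
  -- part 1
  have h1 : ∀ j, (upperPSeries p ↥N j).1.map N.subtype ≤ (upperPSeries p G j).1 := by
    intro j
    have h := chain_le_ups (G := G) (p := p) 0 (fun j => (upperPSeries p ↥N j).1.map N.subtype)
      (by rw [ups_zero, ups_zero, Subgroup.map_bot])
      (fun j => inferInstance)
      (fun j => by rw [zero_add]; exact (ups_stepFactor p j).map N.subtype) j
    rwa [zero_add] at h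
  -- part 2
  obtain ⟨C, hC⟩ : ∃ C : ℕ → Subgroup G, C = fun i => Nat.casesOn i ((upperPSeries p ↥N (2 * a)).1.map N.subtype)
      (fun i => (upperPSeries p (G ⧸ N) (i + 1)).1.comap (QuotientGroup.mk' N)) := ⟨_, rfl⟩
  have hC0 : C 0 = (upperPSeries p ↥N (2 * a)).1.map N.subtype := by rw [hC]; rfl
  have hCs : ∀ i, C (i + 1) = (upperPSeries p (G ⧸ N) (i + 1)).1.comap (QuotientGroup.mk' N) := by
    intro i; rw [hC]
  have h2 := chain_le_ups (G := G) (p := p) (2 * a) C (by rw [hC0]; exact h1 (2 * a))
    (fun j => by rw [hCs]; exact Subgroup.Normal.comap inferInstance _)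
    (fun j => by
      rcases j with _ | j
      · rw [hC0, hCs]
        refine ⟨fun _ x hx => ?_, fun hj => absurd (by rw [add_zero]; exact even_two_mul a) hj⟩
        rw [Subgroup.mem_comap] at hx
        obtain ⟨m₁, hm₁, hx₁⟩ := (ups_stepFactor (G := G ⧸ N) p 0).1 (by decide) _ hx
        rw [ups_zero, Subgroup.mem_bot, ← map_pow] at hx₁
        have hxN : x ^ m₁ ∈ N := (QuotientGroup.eq_one_iff _).mp hx₁
        obtain ⟨m₂, hm₂, hx₂⟩ := (ups_stepFactor (G := ↥N) p (2 * a)).1 (even_two_mul a) ⟨x ^ m₁, hxN⟩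
          (by rw [ha]; exact Subgroup.mem_top _)
        refine ⟨m₁ * m₂, Nat.Coprime.mul_left hm₁ hm₂, ?_⟩
        rw [pow_mul]
        exact ⟨_, hx₂, rfl⟩
      · rw [hCs, hCs]
        exact ((ups_stepFactor (G := G ⧸ N) p (j + 1)).comap (QuotientGroup.mk' N)).parity
          (by rw [Nat.even_add, iff_true_left (even_two_mul a)])) (2 * b + 1)
  rw [eq_top_iff]
  have e : 2 * (a + b) + 1 = 2 * a + (2 * b + 1) := by ring
  rw [e]
  refine le_trans ?_ h2
  rw [hCs, hb, Subgroup.comap_top]

/-- dividing out `O_{p',p}` lowers the `p`-length -/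
theorem plength_quotient_ups_two [Finite G] {p : ℕ} [Fact p.Prime] {k : ℕ} (h : PLengthLE p (k + 1) G) :
    PLengthLE p k (G ⧸ (upperPSeries p G 2).1) := by
  unfold PLengthLE at h ⊢
  have h2 := chain_le_ups (G := G ⧸ (upperPSeries p G 2).1) (p := p) 0
    (fun j => (upperPSeries p G (j + 2)).1.map (QuotientGroup.mk' (upperPSeries p G 2).1))
    (by
      show (upperPSeries p G (0 + 2)).1.map (QuotientGroup.mk' (upperPSeries p G 2).1) ≤ _
      rw [zero_add, QuotientGroup.map_mk'_self]
      exact bot_le)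
    (fun j => Subgroup.Normal.map inferInstance _ (QuotientGroup.mk'_surjective _))
    (fun j => by
      rw [zero_add]
      exact ((ups_stepFactor (G := G) p (j + 2)).map _).parity (by
        rw [Nat.even_add, iff_true_right (by decide : Even 2)])) (2 * k + 1)
  rw [zero_add] at h2
  rw [eq_top_iff]
  refine le_trans ?_ h2
  have e : 2 * k + 1 + 2 = 2 * (k + 1) + 1 := by ring
  show ⊤ ≤ (upperPSeries p G (2 * k + 1 + 2)).1.map (QuotientGroup.mk' (upperPSeries p G 2).1)
  rw [e, h, Subgroup.map_top_of_surjective _ (QuotientGroup.mk'_surjective _)]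

end plength

section plprod
universe u

theorem plength_prod_aux {p : ℕ} [hp : Fact p.Prime] : ∀ (r : ℕ) (G : Type u) [Group G] [Finite G],
    Group.IsSolvable G → ∀ (q : Fin r → ℕ), (∀ i, (q i).Prime ∧ q i ≠ p) →
    (∀ s : ℕ, s.Prime → s ∣ Nat.card G → s ≠ p → ∃ i, q i = s) → ∀ (l : Fin r → ℕ),
    (∀ i, PLengthLE (q i) (l i) G) → PLengthLE p (Finset.univ.prod fun i => 1 + l i) G := by
  intro r
  induction r with
  | zero =>
    intro G _ _ hG q hq hcover l hl
    rw [Finset.univ_eq_empty, Finset.prod_empty]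
    apply plength_one_of_isPGroup
    have hcard := Nat.eq_prime_pow_of_unique_prime_dvd (n := Nat.card G) (p := p) Nat.card_pos.ne' (by
      intro s hs hsd
      by_contra hsp
      obtain ⟨i, -⟩ := hcover s hs hsd hsp
      exact i.elim0)
    exact IsPGroup.of_card hcard
  | succ r IHr =>
    intro G _ _ hG q hq hcover l hl
    rw [Fin.prod_univ_succ]
    haveI : Fact (q 0).Prime := ⟨(hq 0).1⟩
    have hq0p : (q 0) ≠ p := (hq 0).2
    obtain ⟨m, hm⟩ : ∃ m, m = Finset.univ.prod fun i : Fin r => 1 + l i.succ := ⟨_, rfl⟩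
    rw [← hm]
    -- the inner induction
    have inner : ∀ (n : ℕ) (G : Type u) [Group G] [Finite G], Group.IsSolvable G →
        (∀ s : ℕ, s.Prime → s ∣ Nat.card G → s ≠ p → ∃ i, q i = s) → PLengthLE (q 0) n G →
        (∀ i : Fin r, PLengthLE (q i.succ) (l i.succ) G) → PLengthLE p ((1 + n) * m) G := by
      intro n
      induction n with
      | zero =>
        intro G _ _ hG hcover h0 hl'
        have hcop := card_coprime_of_plength_zero h0
        rw [add_zero, one_mul, hm]
        apply IHr G hG (fun i => q i.succ) (fun i => hq i.succ) _ (fun i => l i.succ) hl'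
        intro s hs hsd hsp
        obtain ⟨i, hi⟩ := hcover s hs hsd hsp
        have hi0 : i ≠ 0 := by
          rintro rfl
          rw [hi] at hcop
          have := Nat.dvd_gcd hsd dvd_rfl
          rw [hcop, Nat.dvd_one] at this
          exact hs.one_lt.ne' this
        obtain ⟨j, rfl⟩ := Fin.exists_succ_eq.mpr hi0
        exact ⟨j, hi⟩
      | succ n IHn =>
        intro G _ _ hG hcover hn hl'
        haveI := hG
        obtain ⟨M, hM⟩ : ∃ M : Subgroup G, M = (upperPSeries (q 0) G 2).1 := ⟨_, rfl⟩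
        obtain ⟨N, hN⟩ : ∃ N : Subgroup G, N = (upperPSeries (q 0) G 1).1 := ⟨_, rfl⟩
        haveI hMn : M.Normal := by rw [hM]; infer_instance
        haveI hNn : N.Normal := by rw [hN]; infer_instance
        have hNM : N ≤ M := by rw [hN, hM]; exact ups_le_succ (q 0) 1
        -- `N` is a `q₀'`-group
        have hNcop : (Nat.card ↥N).Coprime (q 0) := by
          apply card_coprime_of_forall_pow
          intro x
          obtain ⟨m', hm', hx⟩ := (ups_stepFactor (G := G) (q 0) 0).1 (by decide) x.1 (by rw [← hN]; exact x.2)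
          rw [ups_zero, Subgroup.mem_bot] at hx
          refine ⟨m', hm', ?_⟩
          apply Subtype.ext
          rw [Subgroup.coe_pow, Subgroup.coe_one]
          exact hx
        have hNlen : PLengthLE p m ↥N := by
          rw [hm]
          apply IHr ↥N inferInstance (fun i => q i.succ) (fun i => hq i.succ) _ (fun i => l i.succ)
            (fun i => by
              haveI : Fact (q i.succ).Prime := ⟨(hq i.succ).1⟩
              exact plength_subgroup N (hl' i))
          intro s hs hsd hsp
          obtain ⟨i, hi⟩ := hcover s hs (hsd.trans (Subgroup.card_subgroup_dvd_card N)) hsp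
          have hi0 : i ≠ 0 := by
            rintro rfl
            rw [hi] at hNcop
            have := Nat.dvd_gcd hsd dvd_rfl
            rw [hNcop, Nat.dvd_one] at this
            exact hs.one_lt.ne' this
          obtain ⟨j, rfl⟩ := Fin.exists_succ_eq.mpr hi0
          exact ⟨j, hi⟩
        have hMlen : PLengthLE p m ↥M := by
          have h1 : PLengthLE p m ↥(N.subgroupOf M) :=
            plength_of_mulEquiv (Subgroup.subgroupOfEquivOfLe hNM).symm hNlen
          have h2 : PLengthLE p 0 (↥M ⧸ N.subgroupOf M) := by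
            apply plength_zero_of_coprime
            apply card_coprime_of_forall_pow
            intro x
            obtain ⟨y, rfl⟩ := QuotientGroup.mk_surjective x
            obtain ⟨a, hy⟩ := (ups_stepFactor (G := G) (q 0) 1).2 (by decide) y.1 (by rw [← hM]; exact y.2)
            refine ⟨(q 0) ^ a, Nat.Coprime.pow_left a ((Nat.coprime_primes (hq 0).1 hp.out).mpr hq0p), ?_⟩
            rw [← QuotientGroup.mk_pow, QuotientGroup.eq_one_iff, Subgroup.mem_subgroupOf, Subgroup.coe_pow, hN]
            exact hy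
          have := plength_extension (N.subgroupOf M) h1 h2
          rwa [add_zero] at this
        have hQlen : PLengthLE p ((1 + n) * m) (G ⧸ M) := by
          apply IHn (G ⧸ M) inferInstance
          · intro s hs hsd hsp
            exact hcover s hs (hsd.trans (Subgroup.card_quotient_dvd_card M)) hsp
          · subst hM
            exact plength_quotient_ups_two hn
          · intro i
            haveI : Fact (q i.succ).Prime := ⟨(hq i.succ).1⟩
            exact plength_of_surjective (QuotientGroup.mk' M) (QuotientGroup.mk'_surjective M) (hl' i)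
        have := plength_extension M hMlen hQlen
        have e : (1 + (n + 1)) * m = m + (1 + n) * m := by ring
        rw [e]
        exact this
    exact inner (l 0) G hG hcover (hl 0) (fun i => hl i.succ)

end plprod

end Cfsg.Agent.H1
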