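import Mathlib

/-! Helper lemmas on involutions (helper1). -/

namespace Cfsg.Agent.H1

variable {G : Type*} [Group G]

lemma invol_iff {t : G} : orderOf t = 2 ↔ t ^ 2 = 1 ∧ t ≠ 1 := orderOf_eq_prime_iff

lemma invol_inv {t : G} (ht : orderOf t = 2) : t⁻¹ = t := by
  rw [inv_eq_iff_mul_eq_one, ← sq]; exact (invol_iff.mp ht).1

lemma invol_mul_self {t : G} (ht : orderOf t = 2) : t * t = 1 := by
  rw [← sq]; exact (invol_iff.mp ht).1

lemma invol_ne_one {t : G} (ht : orderOf t = 2) : t ≠ 1 := (invol_iff.mp ht).2

lemma sq_eq_one_iff_invol {g : G} : g ^ 2 = 1 ↔ g = 1 ∨ orderOf g = 2 := by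
  rw [invol_iff]
  by_cases hg : g = 1
  · simp [hg]
  · simp [hg]

/-- the set of solutions of `g^2 = 1` has one more element than the set of involutions -/
lemma card_sq_eq_one [Finite G] :
    Nat.card {g : G // g ^ 2 = 1} = Nat.card {t : G // orderOf t = 2} + 1 := by
  classical
  rw [← Finite.card_option]
  apply Nat.card_congr
  refine ⟨fun g => if h : g.1 = 1 then none else some ⟨g.1, invol_iff.mpr ⟨g.2, h⟩⟩,
    fun o => match o with
      | none => ⟨1, one_pow 2⟩
      | some t => ⟨t.1, (invol_iff.mp t.2).1⟩, ?_, ?_⟩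
  · rintro ⟨g, hg⟩
    by_cases h : g = 1
    · simp [h]
    · simp [h]
  · rintro (_ | ⟨t, ht⟩)
    · simp
    · simp [invol_ne_one ht]

end Cfsg.Agent.H1

namespace Cfsg.Agent.H1

/-- a cyclic group has at most one involution -/
lemma invol_unique_of_isCyclic {C : Type*} [Group C] [Finite C] [IsCyclic C] {s t : C}
    (hs : orderOf s = 2) (ht : orderOf t = 2) : s = t := by
  classical
  have := Fintype.ofFinite C
  by_contra hne
  have h := IsCyclic.card_pow_eq_one_le (α := C) (n := 2) (by norm_num)
  have hsub : ({1, s, t} : Finset C) ⊆ Finset.univ.filter (fun a : C => a ^ 2 = 1) := by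
    intro a ha
    simp only [Finset.mem_insert, Finset.mem_singleton] at ha
    simp only [Finset.mem_filter, Finset.mem_univ, true_and]
    rcases ha with rfl | rfl | rfl
    · exact one_pow 2
    · exact (invol_iff.mp hs).1
    · exact (invol_iff.mp ht).1
  have hcard : ({1, s, t} : Finset C).card = 3 := by
    rw [Finset.card_insert_of_notMem, Finset.card_insert_of_notMem, Finset.card_singleton]
    · simpa using hne
    · simp only [Finset.mem_insert, Finset.mem_singleton, not_or]
      exact ⟨(invol_ne_one hs).symm, (invol_ne_one ht).symm⟩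
  have := Finset.card_le_card hsub
  omega

end Cfsg.Agent.H1
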