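import Mathlib
import Cfsg.Agent.H1.Invol

/-! Helper lemmas on subgroups generated by two involutions (helper1). -/

namespace Cfsg.Agent.H1

variable {G : Type*} [Group G]

/-- `i ↦ a ^ i` for `i : ZMod n`, when `a ^ n = 1` (additive version). -/
noncomputable def zmodPowHom (a : G) (n : ℕ) (h : a ^ n = 1) : ZMod n →+ Additive G :=
  ZMod.lift n ⟨zmultiplesHom (Additive G) (Additive.ofMul a), by
    rw [zmultiplesHom_apply, natCast_zsmul, ← ofMul_pow, h, ofMul_one]⟩

/-- `i ↦ a ^ i` for `i : ZMod n`, when `a ^ n = 1`. -/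
noncomputable def zmodPow (a : G) (n : ℕ) (h : a ^ n = 1) (i : ZMod n) : G :=
  Additive.toMul (zmodPowHom a n h i)

variable (a : G) (n : ℕ) (h : a ^ n = 1)

lemma zmodPow_add (i j : ZMod n) : zmodPow a n h (i + j) = zmodPow a n h i * zmodPow a n h j := by
  simp [zmodPow]

lemma zmodPow_neg (i : ZMod n) : zmodPow a n h (-i) = (zmodPow a n h i)⁻¹ := by
  simp [zmodPow]

lemma zmodPow_sub (i j : ZMod n) : zmodPow a n h (i - j) = zmodPow a n h i * (zmodPow a n h j)⁻¹ := by
  rw [sub_eq_add_neg, zmodPow_add, zmodPow_neg]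

lemma zmodPow_comm (i j : ZMod n) : zmodPow a n h i * zmodPow a n h j = zmodPow a n h j * zmodPow a n h i := by
  rw [← zmodPow_add, ← zmodPow_add, add_comm]

lemma zmodPow_zero : zmodPow a n h 0 = 1 := by
  simp [zmodPow]

lemma zmodPow_intCast (k : ℤ) : zmodPow a n h (k : ZMod n) = a ^ k := by
  simp [zmodPow, zmodPowHom, ZMod.lift_coe]

lemma zmodPow_one : zmodPow a n h 1 = a := by
  have := zmodPow_intCast a n h 1
  simpa using this

lemma zmodPow_exists_zpow (i : ZMod n) : ∃ k : ℤ, i = (k : ZMod n) ∧ zmodPow a n h i = a ^ k := by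
  obtain ⟨k, rfl⟩ := ZMod.intCast_surjective i
  exact ⟨k, rfl, zmodPow_intCast a n h k⟩

lemma zmodPow_mem_zpowers (i : ZMod n) : zmodPow a n h i ∈ Subgroup.zpowers a := by
  obtain ⟨k, -, hk⟩ := zmodPow_exists_zpow a n h i
  rw [hk]; exact Subgroup.zpow_mem_zpowers a k

lemma zmodPow_injective (hn : n = orderOf a) : Function.Injective (zmodPow a n h) := by
  have hinj : Function.Injective (zmodPowHom a n h) := by
    rw [zmodPowHom, ZMod.lift_injective]
    intro m hm
    simp only [zmultiplesHom_apply] at hm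
    rw [← ofMul_zpow, ofMul_eq_zero] at hm
    rw [ZMod.intCast_zmod_eq_zero_iff_dvd, hn]
    exact orderOf_dvd_iff_zpow_eq_one.mpr hm
  intro i j hij
  apply hinj
  simpa [zmodPow] using hij

lemma zmodPow_eq_one_iff (hn : n = orderOf a) (i : ZMod n) : zmodPow a n h i = 1 ↔ i = 0 := by
  rw [← zmodPow_zero a n h]
  exact (zmodPow_injective a n h hn).eq_iff

/-- if `x` inverts `a` then it inverts all powers -/
lemma zmodPow_conj (x : G) (hxa : x * a * x⁻¹ = a⁻¹) (i : ZMod n) :
    x * zmodPow a n h i * x⁻¹ = (zmodPow a n h i)⁻¹ := by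
  obtain ⟨k, -, hk⟩ := zmodPow_exists_zpow a n h i
  rw [hk, ← conj_zpow, hxa, inv_zpow]

/-- The homomorphism from the dihedral group determined by an involution `x` inverting `a`. -/
noncomputable def dihedralHom (x : G) (hx : x * x = 1) (hxa : x * a * x⁻¹ = a⁻¹) :
    DihedralGroup n →* G :=
  MonoidHom.mk' (fun d => match d with
    | .r i => zmodPow a n h i
    | .sr i => x * zmodPow a n h i) (by
    have hxinv : x⁻¹ = x := inv_eq_of_mul_eq_one_right hx
    have key : ∀ i, zmodPow a n h i * x = x * (zmodPow a n h i)⁻¹ := by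
      intro i
      have := zmodPow_conj a n h x hxa i
      rw [← this, hxinv]
      rw [← mul_assoc, ← mul_assoc, hx, one_mul]
    rintro (i | i) (j | j)
    · simp only [DihedralGroup.r_mul_r, zmodPow_add]
    · simp only [DihedralGroup.r_mul_sr, zmodPow_sub]
      calc x * (zmodPow a n h j * (zmodPow a n h i)⁻¹)
          = x * (zmodPow a n h j * zmodPow a n h (-i)) := by rw [zmodPow_neg]
        _ = x * (zmodPow a n h (-i) * zmodPow a n h j) := by rw [zmodPow_comm]
        _ = (x * (zmodPow a n h i)⁻¹) * zmodPow a n h j := by rw [zmodPow_neg, mul_assoc]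
        _ = zmodPow a n h i * (x * zmodPow a n h j) := by rw [← key, mul_assoc]
    · simp only [DihedralGroup.sr_mul_r, zmodPow_add, mul_assoc]
    · simp only [DihedralGroup.sr_mul_sr, zmodPow_sub]
      calc zmodPow a n h j * (zmodPow a n h i)⁻¹
          = (zmodPow a n h i)⁻¹ * zmodPow a n h j := by
            rw [← zmodPow_neg, zmodPow_comm]
        _ = x * x * (zmodPow a n h i)⁻¹ * zmodPow a n h j := by rw [hx, one_mul]
        _ = x * (x * (zmodPow a n h i)⁻¹) * zmodPow a n h j := by rw [mul_assoc x x]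
        _ = x * zmodPow a n h i * (x * zmodPow a n h j) := by rw [← key]; simp only [mul_assoc])

lemma dihedralHom_r (x : G) (hx : x * x = 1) (hxa : x * a * x⁻¹ = a⁻¹) (i : ZMod n) :
    dihedralHom a n h x hx hxa (.r i) = zmodPow a n h i := rfl

lemma dihedralHom_sr (x : G) (hx : x * x = 1) (hxa : x * a * x⁻¹ = a⁻¹) (i : ZMod n) :
    dihedralHom a n h x hx hxa (.sr i) = x * zmodPow a n h i := rfl

section pair

variable {x y : G}

lemma pair_conj (hx : orderOf x = 2) (hy : orderOf y = 2) : x * (x * y) * x⁻¹ = (x * y)⁻¹ := by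
  rw [mul_inv_rev, invol_inv hx, invol_inv hy, ← mul_assoc, invol_mul_self hx, one_mul]

lemma pair_conj' (hx : orderOf x = 2) (hy : orderOf y = 2) : y * (x * y) * y⁻¹ = (x * y)⁻¹ := by
  rw [mul_inv_rev, invol_inv hx, invol_inv hy, mul_assoc, mul_assoc, invol_mul_self hy, mul_one]

/-- `a^k * x = x * a^(-k)` for `a = x*y` -/
lemma pair_zpow_mul (hx : orderOf x = 2) (hy : orderOf y = 2) (k : ℤ) :
    (x * y) ^ k * x = x * (x * y) ^ (-k) := by
  have h1 : x * (x * y) ^ k * x⁻¹ = (x * y) ^ (-k) := by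
    rw [← conj_zpow, pair_conj hx hy, inv_zpow, zpow_neg]
  rw [← h1, invol_inv hx, ← mul_assoc, ← mul_assoc, invol_mul_self hx, one_mul]

lemma pair_zpow_mul' (hx : orderOf x = 2) (hy : orderOf y = 2) (k : ℤ) :
    x * (x * y) ^ k = (x * y) ^ (-k) * x := by
  rw [pair_zpow_mul hx hy, neg_neg]

lemma mem_closure_pair_iff (hx : orderOf x = 2) (hy : orderOf y = 2) (d : G) :
    d ∈ Subgroup.closure ({x, y} : Set G) ↔ ∃ k : ℤ, d = (x * y) ^ k ∨ d = x * (x * y) ^ k := by
  have hxm : x ∈ Subgroup.closure ({x, y} : Set G) := Subgroup.subset_closure (by simp)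
  have hym : y ∈ Subgroup.closure ({x, y} : Set G) := Subgroup.subset_closure (by simp)
  constructor
  · intro hd
    induction hd using Subgroup.closure_induction with
    | mem z hz =>
      rcases hz with rfl | hz
      · exact ⟨0, Or.inr (by simp)⟩
      · rw [Set.mem_singleton_iff] at hz
        subst hz
        exact ⟨1, Or.inr (by rw [zpow_one, ← mul_assoc, invol_mul_self hx, one_mul])⟩
    | one => exact ⟨0, Or.inl (by simp)⟩
    | mul u v _ _ hu hv =>
      obtain ⟨k, rfl | rfl⟩ := hu <;> obtain ⟨l, rfl | rfl⟩ := hv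
      · exact ⟨k + l, Or.inl (zpow_add _ _ _).symm⟩
      · refine ⟨-k + l, Or.inr ?_⟩
        rw [← mul_assoc, pair_zpow_mul hx hy, mul_assoc, ← zpow_add]
      · refine ⟨k + l, Or.inr ?_⟩
        rw [mul_assoc, ← zpow_add]
      · refine ⟨-k + l, Or.inl ?_⟩
        rw [mul_assoc, ← mul_assoc _ x, pair_zpow_mul hx hy, ← mul_assoc, ← mul_assoc,
          invol_mul_self hx, one_mul, ← zpow_add]
    | inv u _ hu =>
      obtain ⟨k, rfl | rfl⟩ := hu
      · exact ⟨-k, Or.inl (zpow_neg _ _).symm⟩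
      · refine ⟨k, Or.inr ?_⟩
        rw [mul_inv_rev, invol_inv hx, ← zpow_neg, pair_zpow_mul hx hy, neg_neg]
  · rintro ⟨k, rfl | rfl⟩
    · exact Subgroup.zpow_mem _ (Subgroup.mul_mem _ hxm hym) k
    · exact Subgroup.mul_mem _ hxm (Subgroup.zpow_mem _ (Subgroup.mul_mem _ hxm hym) k)

/-- an involution `x` is never a power of `x*y` when `y` is another involution -/
lemma pair_mul_zpow_ne_one (hx : orderOf x = 2) (hy : orderOf y = 2) (k : ℤ) :
    x * (x * y) ^ k ≠ 1 := by
  intro hk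
  have hxinv : x = ((x * y) ^ k)⁻¹ := eq_inv_of_mul_eq_one_left hk
  have hcomm : Commute x (x * y) := by
    have : Commute ((x * y) ^ k)⁻¹ (x * y) := ((Commute.refl (x * y)).zpow_left k).inv_left
    rwa [← hxinv] at this
  have ha2 : (x * y)⁻¹ = x * y := by
    rw [← pair_conj hx hy, hcomm.eq, mul_assoc, mul_inv_cancel, mul_one]
  have ha2' : (x * y) ^ (2 : ℤ) = 1 := by
    rw [zpow_two]; nth_rewrite 1 [← ha2]; exact inv_mul_cancel _
  have h3 := zpow_eq_zpow_emod k ha2'
  rcases Int.emod_two_eq_zero_or_one k with h0 | h1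
  · rw [h0, zpow_zero] at h3
    rw [h3, mul_one] at hk
    exact invol_ne_one hx hk
  · rw [h1, zpow_one] at h3
    rw [h3, ← mul_assoc, invol_mul_self hx, one_mul] at hk
    exact invol_ne_one hy hk

lemma pair_not_mem_zpowers (hx : orderOf x = 2) (hy : orderOf y = 2) (k : ℤ) :
    x * (x * y) ^ k ∉ Subgroup.zpowers (x * y) := by
  intro hmem
  obtain ⟨l, hl⟩ := Subgroup.mem_zpowers_iff.mp hmem
  have : x * (x * y) ^ (k - l) = 1 := by
    rw [zpow_sub, ← mul_assoc, ← hl, mul_inv_cancel]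
  exact pair_mul_zpow_ne_one hx hy _ this

/-- elements `x * a^k` are involutions -/
lemma pair_orderOf_mul_zpow (hx : orderOf x = 2) (hy : orderOf y = 2) (k : ℤ) :
    orderOf (x * (x * y) ^ k) = 2 := by
  rw [invol_iff]
  refine ⟨?_, pair_mul_zpow_ne_one hx hy k⟩
  rw [sq, mul_assoc, ← mul_assoc _ x, pair_zpow_mul hx hy, ← mul_assoc, ← mul_assoc,
    invol_mul_self hx, one_mul, ← zpow_add, neg_add_cancel, zpow_zero]

/-- conjugating `x` by `a^k` -/
lemma pair_conj_zpow (hx : orderOf x = 2) (hy : orderOf y = 2) (k : ℤ) :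
    (x * y) ^ k * x * ((x * y) ^ k)⁻¹ = (x * y) ^ (2 * k) * x := by
  calc (x * y) ^ k * x * ((x * y) ^ k)⁻¹ = (x * y) ^ k * (x * (x * y) ^ (-k)) := by
        rw [zpow_neg, mul_assoc]
    _ = (x * y) ^ k * ((x * y) ^ k * x) := by rw [pair_zpow_mul' hx hy, neg_neg]
    _ = (x * y) ^ (2 * k) * x := by rw [← mul_assoc, ← zpow_add, two_mul]

/-- conjugating `x` by `x * a^k` -/
lemma pair_conj_mul_zpow (hx : orderOf x = 2) (hy : orderOf y = 2) (k : ℤ) :
    (x * (x * y) ^ k) * x * (x * (x * y) ^ k)⁻¹ = (x * y) ^ (-(2 * k)) * x := by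
  calc (x * (x * y) ^ k) * x * (x * (x * y) ^ k)⁻¹
      = x * ((x * y) ^ k * x * ((x * y) ^ k)⁻¹) * x⁻¹ := by group
    _ = x * ((x * y) ^ (2 * k) * x) * x := by rw [pair_conj_zpow hx hy, invol_inv hx]
    _ = x * (x * y) ^ (2 * k) := by rw [mul_assoc, mul_assoc, invol_mul_self hx, mul_one]
    _ = (x * y) ^ (-(2 * k)) * x := pair_zpow_mul' hx hy _

end pair

end Cfsg.Agent.H1
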