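import Mathlib

set_option autoImplicit false
set_option linter.style.haveILetI false
set_option linter.unusedVariables false
set_option linter.unusedSectionVars false

namespace Cfsg.Agent.H1

section ringids
variable {R : Type*} [Ring R] (x y : R)

theorem quad_t_comm_x (hx : x * x = 0) : (x * y + y * x) * x = x * (x * y + y * x) := by
  rw [add_mul, mul_add, mul_assoc y x x, hx, mul_zero, add_zero, ← mul_assoc x x y, hx, zero_mul,
    zero_add, mul_assoc]

theorem quad_t_comm_y (hy : y * y = 0) : (x * y + y * x) * y = y * (x * y + y * x) := by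
  rw [add_mul, mul_add, mul_assoc x y y, hy, mul_zero, zero_add, ← mul_assoc y y x, hy, zero_mul,
    add_zero, mul_assoc]

theorem quad_xyx (hx : x * x = 0) : x * y * x = (x * y + y * x) * x := by
  rw [add_mul, mul_assoc y x x, hx, mul_zero, add_zero]

theorem quad_yxy (hy : y * y = 0) : y * x * y = (x * y + y * x) * y := by
  rw [add_mul, mul_assoc x y y, hy, mul_zero, zero_add]

theorem quad_sq (hx : x * x = 0) (hy : y * y = 0) :
    (x + y + x * y) * (x + y + x * y) = (x * y + y * x) * ((1 + x) * (1 + y)) := by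
  have h : (x + y + x * y) * (x + y + x * y) - (x * y + y * x) * ((1 + x) * (1 + y)) =
      x * x + (x * x) * y + y * y - y * (x * x) - y * (x * x) * y + x * (y * y) - x * (y * y) := by
    noncomm_ring
  rw [hx, hy] at h
  simp only [zero_mul, mul_zero, add_zero, sub_self] at h
  exact sub_eq_zero.mp h

end ringids

section filt
variable {K : Type*} [Field K] {W : Type*} [AddCommGroup W] [Module K W] (x y : Module.End K W)

/-- the filtration `W ⊇ xW + yW ⊇ …` -/
def quadFilt : ℕ → Submodule K W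
  | 0 => ⊤
  | (i + 1) => (quadFilt i).map x ⊔ (quadFilt i).map y

theorem quadFilt_succ (i : ℕ) :
    quadFilt x y (i + 1) = (quadFilt x y i).map x ⊔ (quadFilt x y i).map y := rfl

theorem quadFilt_antitone : ∀ i, quadFilt x y (i + 1) ≤ quadFilt x y i := by
  intro i
  induction i with
  | zero => exact le_top
  | succ i ih =>
    rw [quadFilt_succ x y (i + 1), quadFilt_succ x y i]
    exact sup_le_sup (Submodule.map_mono ih) (Submodule.map_mono ih)

theorem map_mul_eq (f g : Module.End K W) (p : Submodule K W) :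
    p.map (f * g) = (p.map g).map f := by
  rw [Module.End.mul_eq_comp, Submodule.map_comp]

theorem quadFilt_add_three (hx : x * x = 0) (hy : y * y = 0) (i : ℕ) :
    quadFilt x y (i + 3) = (quadFilt x y (i + 1)).map (x * y + y * x) := by
  have h1 : (quadFilt x y (i + 2)).map x = (quadFilt x y (i + 1)).map (x * y) := by
    rw [quadFilt_succ x y (i + 1), Submodule.map_sup, ← map_mul_eq, ← map_mul_eq, hx,
      Submodule.map_zero, bot_sup_eq]
  have h2 : (quadFilt x y (i + 2)).map y = (quadFilt x y (i + 1)).map (y * x) := by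
    rw [quadFilt_succ x y (i + 1), Submodule.map_sup, ← map_mul_eq, ← map_mul_eq, hy,
      Submodule.map_zero, sup_bot_eq]
  have h3 : (quadFilt x y (i + 1)).map (x * y) =
      ((quadFilt x y i).map x).map (x * y + y * x) := by
    rw [quadFilt_succ x y i, Submodule.map_sup, ← map_mul_eq, ← map_mul_eq, mul_assoc x y y, hy,
      mul_zero, Submodule.map_zero, sup_bot_eq, quad_xyx x y hx, map_mul_eq]
  have h4 : (quadFilt x y (i + 1)).map (y * x) =
      ((quadFilt x y i).map y).map (x * y + y * x) := by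
    rw [quadFilt_succ x y i, Submodule.map_sup, ← map_mul_eq, ← map_mul_eq, mul_assoc y x x, hx,
      mul_zero, Submodule.map_zero, bot_sup_eq, quad_yxy x y hy, map_mul_eq]
  rw [quadFilt_succ x y (i + 2), h1, h2, h3, h4, ← Submodule.map_sup, ← quadFilt_succ]

theorem quadFilt_odd (hx : x * x = 0) (hy : y * y = 0) (j : ℕ) :
    quadFilt x y (2 * j + 1) = (quadFilt x y 1).map ((x * y + y * x) ^ j) := by
  induction j with
  | zero =>
    rw [pow_zero, Module.End.one_eq_id, Submodule.map_id]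
  | succ j ih =>
    have e : 2 * (j + 1) + 1 = (2 * j) + 3 := by ring
    rw [e, quadFilt_add_three x y hx hy, ih, ← map_mul_eq, ← pow_succ']

theorem quadFilt_eq_bot (hx : x * x = 0) (hy : y * y = 0) (N : ℕ) (hN : (x * y + y * x) ^ N = 0) :
    quadFilt x y (2 * N + 1) = ⊥ := by
  rw [quadFilt_odd x y hx hy, hN, Submodule.map_zero]

end filt

section unip
variable {K : Type*} [Field K] {W : Type*} [AddCommGroup W] [Module K W]

theorem quad_inv_apply (a : W ≃ₗ[K] W) (x : Module.End K W) (hxa : ∀ w, a w = w + x w)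
    (hx : x * x = 0) (w : W) : a⁻¹ w = w - x w := by
  have h1 : a (w - x w) = w := by
    rw [hxa, map_sub]
    have h2 : x (x w) = 0 := by
      have := congrArg (fun f : Module.End K W => f w) hx
      simpa using this
    rw [h2]
    abel
  have h3 : a⁻¹ (a (w - x w)) = w - x w := by
    rw [← LinearEquiv.mul_apply, inv_mul_cancel]
    rfl
  rw [h1] at h3
  exact h3

theorem quad_closure_filt (a b : W ≃ₗ[K] W) (x y : Module.End K W) (hxa : ∀ w, a w = w + x w)
    (hyb : ∀ w, b w = w + y w) (hx : x * x = 0) (hy : y * y = 0) (h : W ≃ₗ[K] W)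
    (hh : h ∈ Subgroup.closure ({a, b} : Set (W ≃ₗ[K] W))) :
    (∀ i, ∀ w ∈ quadFilt x y i, h w - w ∈ quadFilt x y (i + 1)) ∧
      (∀ i, ∀ w ∈ quadFilt x y i, h⁻¹ w - w ∈ quadFilt x y (i + 1)) := by
  have hxm : ∀ i, ∀ w ∈ quadFilt x y i, x w ∈ quadFilt x y (i + 1) := by
    intro i w hw
    rw [quadFilt_succ]
    exact Submodule.mem_sup_left (Submodule.mem_map_of_mem hw)
  have hym : ∀ i, ∀ w ∈ quadFilt x y i, y w ∈ quadFilt x y (i + 1) := by
    intro i w hw
    rw [quadFilt_succ]
    exact Submodule.mem_sup_right (Submodule.mem_map_of_mem hw)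
  have hmulP : ∀ f g : W ≃ₗ[K] W,
      (∀ i, ∀ w ∈ quadFilt x y i, f w - w ∈ quadFilt x y (i + 1)) →
      (∀ i, ∀ w ∈ quadFilt x y i, g w - w ∈ quadFilt x y (i + 1)) →
      ∀ i, ∀ w ∈ quadFilt x y i, (f * g) w - w ∈ quadFilt x y (i + 1) := by
    intro f g hf hg i w hw
    have h1 : g w ∈ quadFilt x y i := by
      have h2 := quadFilt_antitone x y i (hg i w hw)
      have h3 := Submodule.add_mem _ h2 hw
      rw [sub_add_cancel] at h3
      exact h3
    have e : (f * g) w - w = (f (g w) - g w) + (g w - w) := by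
      rw [LinearEquiv.mul_apply]; abel
    rw [e]
    exact Submodule.add_mem _ (hf i _ h1) (hg i w hw)
  induction hh using Subgroup.closure_induction with
  | mem g hg =>
    rcases hg with rfl | hg
    · constructor
      · intro i w hw
        rw [hxa, add_sub_cancel_left]
        exact hxm i w hw
      · intro i w hw
        rw [quad_inv_apply g x hxa hx, sub_sub_cancel_left]
        exact Submodule.neg_mem _ (hxm i w hw)
    · rw [Set.mem_singleton_iff] at hg
      subst hg
      constructor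
      · intro i w hw
        rw [hyb, add_sub_cancel_left]
        exact hym i w hw
      · intro i w hw
        rw [quad_inv_apply g y hyb hy, sub_sub_cancel_left]
        exact Submodule.neg_mem _ (hym i w hw)
  | one =>
    constructor
    · intro i w hw
      rw [LinearEquiv.coe_one, id, sub_self]
      exact Submodule.zero_mem _
    · intro i w hw
      rw [inv_one, LinearEquiv.coe_one, id, sub_self]
      exact Submodule.zero_mem _
  | mul f g _ _ hf hg =>
    constructor
    · exact hmulP f g hf.1 hg.1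
    · rw [mul_inv_rev]
      exact hmulP g⁻¹ f⁻¹ hg.2 hf.2
  | inv f _ hf =>
    constructor
    · exact hf.2
    · rw [inv_inv]
      exact hf.1

theorem quad_sub_one_pow_mem (a b : W ≃ₗ[K] W) (x y : Module.End K W) (hxa : ∀ w, a w = w + x w)
    (hyb : ∀ w, b w = w + y w) (hx : x * x = 0) (hy : y * y = 0) (h : W ≃ₗ[K] W)
    (hh : h ∈ Subgroup.closure ({a, b} : Set (W ≃ₗ[K] W))) (m : ℕ) (w : W) :
    (((h : W →ₗ[K] W) - 1) ^ m) w ∈ quadFilt x y m := by
  induction m with
  | zero => exact Submodule.mem_top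
  | succ m ih =>
    rw [pow_succ', Module.End.mul_apply]
    have h1 := (quad_closure_filt a b x y hxa hyb hx hy h hh).1 m _ ih
    rw [LinearMap.sub_apply, Module.End.one_apply]
    exact h1

theorem isPGroup_closure_of_quad_nilpotent {p : ℕ} [Fact p.Prime] [CharP K p] [Nontrivial W]
    (a b : W ≃ₗ[K] W) (x y : Module.End K W) (hxa : ∀ w, a w = w + x w)
    (hyb : ∀ w, b w = w + y w) (hx : x * x = 0) (hy : y * y = 0)
    (N : ℕ) (hN : (x * y + y * x) ^ N = 0) :
    IsPGroup p ↥(Subgroup.closure ({a, b} : Set (W ≃ₗ[K] W))) := by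
  haveI : CharP (Module.End K W) p :=
    charP_of_injective_algebraMap (algebraMap K (Module.End K W)).injective p
  intro h
  obtain ⟨j, hj⟩ : ∃ j : ℕ, 2 * N + 1 ≤ p ^ j :=
    ⟨2 * N + 1, (Nat.lt_pow_self (Fact.out : p.Prime).one_lt).le⟩
  refine ⟨j, ?_⟩
  have h0 : ((h.1 : W →ₗ[K] W) - 1) ^ (2 * N + 1) = 0 := by
    apply LinearMap.ext
    intro w
    have h1 := quad_sub_one_pow_mem a b x y hxa hyb hx hy h.1 h.2 (2 * N + 1) w
    rw [quadFilt_eq_bot x y hx hy N hN, Submodule.mem_bot] at h1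
    rw [h1, LinearMap.zero_apply]
  have h1 : ((h.1 : W →ₗ[K] W) - 1) ^ (p ^ j) = 0 := by
    rw [← Nat.sub_add_cancel hj, pow_add, h0, mul_zero]
  rw [sub_pow_char_pow_of_commute p j (Commute.one_right _), one_pow, sub_eq_zero] at h1
  apply Subtype.ext
  apply LinearEquiv.toLinearMap_injective
  rw [Subgroup.coe_pow, Subgroup.coe_one]
  have h2 : ((h.1 ^ p ^ j : W ≃ₗ[K] W) : W →ₗ[K] W) = (h.1 : W →ₗ[K] W) ^ p ^ j :=
    map_pow (LinearEquiv.automorphismGroup.toLinearMapMonoidHom (R := K) (M := W)) h.1 (p ^ j)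
  rw [h2, h1]
  rfl

theorem quad_coe_mul (a b : W ≃ₗ[K] W) (x y : Module.End K W) (hxa : ∀ w, a w = w + x w)
    (hyb : ∀ w, b w = w + y w) : ((a * b : W ≃ₗ[K] W) : W →ₗ[K] W) = (1 + x) * (1 + y) := by
  apply LinearMap.ext
  intro w
  rw [LinearEquiv.coe_coe, LinearEquiv.mul_apply, hxa, hyb, Module.End.mul_apply, LinearMap.add_apply,
    LinearMap.add_apply, Module.End.one_apply, Module.End.one_apply]

theorem quad_t_nilpotent (a b : W ≃ₗ[K] W) (x y : Module.End K W) (hxa : ∀ w, a w = w + x w)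
    (hyb : ∀ w, b w = w + y w) (hx : x * x = 0) (hy : y * y = 0) (N : ℕ)
    (hg : (((a * b : W ≃ₗ[K] W) : W →ₗ[K] W) - 1) ^ N = 0) : (x * y + y * x) ^ N = 0 := by
  have hgdef := quad_coe_mul a b x y hxa hyb
  obtain ⟨g, hgg⟩ : ∃ g : Module.End K W, g = ((a * b : W ≃ₗ[K] W) : W →ₗ[K] W) := ⟨_, rfl⟩
  obtain ⟨gi, hgi⟩ : ∃ gi : Module.End K W, gi = (((a * b)⁻¹ : W ≃ₗ[K] W) : W →ₗ[K] W) := ⟨_, rfl⟩
  rw [← hgg] at hg hgdef
  have h1 : g * gi = 1 := by
    rw [hgg, hgi, ← LinearEquiv.coe_toLinearMap_mul, mul_inv_cancel]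
    rfl
  have h2 : gi * g = 1 := by
    rw [hgg, hgi, ← LinearEquiv.coe_toLinearMap_mul, inv_mul_cancel]
    rfl
  have e1 : g - 1 = x + y + x * y := by rw [hgdef]; noncomm_ring
  have hsq : (g - 1) * (g - 1) = (x * y + y * x) * g := by
    rw [e1, hgdef]; exact quad_sq x y hx hy
  have hcx : Commute (x * y + y * x) x := quad_t_comm_x x y hx
  have hcy : Commute (x * y + y * x) y := quad_t_comm_y x y hy
  have hcg : Commute (x * y + y * x) g := by
    rw [hgdef]
    exact Commute.mul_right ((Commute.one_right _).add_right hcx) ((Commute.one_right _).add_right hcy)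
  have h3 : (x * y + y * x) ^ N * g ^ N = 0 := by
    rw [← hcg.mul_pow, ← hsq, ← pow_two, ← pow_mul, mul_comm 2 N, pow_mul, hg, zero_pow two_ne_zero]
  have h4 : g ^ N * gi ^ N = 1 := by
    have hc : Commute g gi := by
      show g * gi = gi * g
      rw [h1, h2]
    rw [← hc.mul_pow, h1, one_pow]
  calc (x * y + y * x) ^ N = (x * y + y * x) ^ N * (g ^ N * gi ^ N) := by rw [h4, mul_one]
    _ = 0 := by rw [← mul_assoc, h3, zero_mul]

end unip

section sl2
variable {K : Type*} [Field K] {W : Type*} [AddCommGroup W] [Module K W]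

theorem quad_apply_apply (x : Module.End K W) (hx : x * x = 0) (w : W) : x (x w) = 0 := by
  have := congrArg (fun f : Module.End K W => f w) hx
  simpa using this

theorem quad_pow_char {p : ℕ} [Fact p.Prime] [CharP K p] [Nontrivial W] (a : W ≃ₗ[K] W)
    (x : Module.End K W) (hxa : ∀ w, a w = w + x w) (hx : x * x = 0) : a ^ p = 1 := by
  haveI : CharP (Module.End K W) p :=
    charP_of_injective_algebraMap (algebraMap K (Module.End K W)).injective p
  have hp : p.Prime := Fact.out
  have e : (a : W →ₗ[K] W) - 1 = x := by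
    apply LinearMap.ext
    intro w
    rw [LinearMap.sub_apply, LinearEquiv.coe_coe, hxa, Module.End.one_apply, add_sub_cancel_left]
  have h1 : ((a : W →ₗ[K] W) - 1) ^ p = 0 := by
    rw [e, ← Nat.sub_add_cancel hp.two_le, pow_add, pow_two, hx, mul_zero]
  rw [sub_pow_char_of_commute p (Commute.one_right _), one_pow, sub_eq_zero] at h1
  apply LinearEquiv.toLinearMap_injective
  have h2 : ((a ^ p : W ≃ₗ[K] W) : W →ₗ[K] W) = (a : W →ₗ[K] W) ^ p :=
    map_pow (LinearEquiv.automorphismGroup.toLinearMapMonoidHom (R := K) (M := W)) a p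
  rw [h2, h1]
  rfl

theorem eq_one_of_pow_char_pow_eq_one {p : ℕ} [Fact p.Prime] [CharP K p] (c : K) (j : ℕ)
    (h : c ^ p ^ j = 1) : c = 1 := by
  have h1 : (c - 1) ^ p ^ j = 0 := by
    rw [sub_pow_char_pow, h, one_pow, sub_self]
  exact sub_eq_zero.mp (pow_eq_zero_iff (pow_ne_zero j (Fact.out : p.Prime).ne_zero) |>.mp h1)

theorem exists_sl2_hom_of_eigenvector {p : ℕ} [Fact p.Prime] [CharP K p] [Nontrivial W]
    (a b : W ≃ₗ[K] W) (x y : Module.End K W) (hxa : ∀ w, a w = w + x w)
    (hyb : ∀ w, b w = w + y w) (hx : x * x = 0) (hy : y * y = 0)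
    (w : W) (hw : w ≠ 0) (l : K) (hl : l ≠ 1) (hgw : a (b w) = l • w) :
    ∃ φ : ↥(Subgroup.closure ({a, b} : Set (W ≃ₗ[K] W))) →* Matrix.SpecialLinearGroup (Fin 2) K,
      ¬ IsPGroup p φ.range := by
  have hp : p.Prime := Fact.out
  have hl0 : l ≠ 0 := by
    intro h0
    rw [h0, zero_smul] at hgw
    have h1 : b w = 0 := (LinearEquiv.map_eq_zero_iff a).mp hgw
    exact hw ((LinearEquiv.map_eq_zero_iff b).mp h1)
  -- formulas
  have hainv : ∀ v, a⁻¹ v = (2 : K) • v - a v := by
    intro v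
    rw [quad_inv_apply a x hxa hx, hxa, two_smul]; abel
  have hbinv : ∀ v, b⁻¹ v = (2 : K) • v - b v := by
    intro v
    rw [quad_inv_apply b y hyb hy, hyb, two_smul]; abel
  have haw : a w = (2 : K) • w - l⁻¹ • b w := by
    have h1 : a⁻¹ (a (b w)) = b w := by
      rw [← LinearEquiv.mul_apply, inv_mul_cancel]; rfl
    rw [hgw, hainv, map_smul] at h1
    have h2 : l • a w = (2 : K) • l • w - b w := by rw [← h1]; abel
    have h3 : a w = l⁻¹ • (l • a w) := by rw [smul_smul, inv_mul_cancel₀ hl0, one_smul]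
    rw [h3, h2, smul_sub, smul_smul, smul_smul]
    congr 2
    field_simp
  have hbbw : b (b w) = (2 : K) • b w - w := by
    rw [hyb (b w), hyb w, map_add, quad_apply_apply y hy, two_smul]; abel
  -- independence
  have hli : LinearIndependent K ![w, b w] := by
    rw [LinearIndependent.pair_iff]
    intro s t hst
    have ht : t = 0 := by
      by_contra ht
      have hbw : b w = (-(s / t)) • w := by
        have h1 : t • b w = -(s • w) := eq_neg_of_add_eq_zero_right hst
        have h2 : b w = t⁻¹ • (t • b w) := by rw [smul_smul, inv_mul_cancel₀ ht, one_smul]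
        rw [h2, h1, smul_neg, smul_smul, neg_smul, div_eq_inv_mul]
      obtain ⟨c, hc⟩ : ∃ c : K, b w = c • w := ⟨_, hbw⟩
      have hyw : y w = (c - 1) • w := by
        have := hyb w
        rw [hc] at this
        rw [sub_smul, one_smul, this]; abel
      have h3 := quad_apply_apply y hy w
      rw [hyw, map_smul, hyw, smul_smul] at h3
      have hc1 : c = 1 := by
        rcases smul_eq_zero.mp h3 with h4 | h4
        · exact sub_eq_zero.mp (mul_self_eq_zero.mp h4)
        · exact absurd h4 hw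
      rw [hc1, one_smul] at hc
      rw [hc] at hgw
      have hxw : x w = (l - 1) • w := by
        have := hxa w
        rw [hgw] at this
        rw [sub_smul, one_smul, this]; abel
      have h5 := quad_apply_apply x hx w
      rw [hxw, map_smul, hxw, smul_smul] at h5
      rcases smul_eq_zero.mp h5 with h4 | h4
      · exact hl (sub_eq_zero.mp (mul_self_eq_zero.mp h4))
      · exact hw h4
    rw [ht, zero_smul, add_zero] at hst
    rcases smul_eq_zero.mp hst with h4 | h4
    · exact ⟨h4, ht⟩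
    · exact absurd h4 hw
  obtain ⟨U, hUdef⟩ : ∃ U : Submodule K W, U = Submodule.span K (Set.range ![w, b w]) := ⟨_, rfl⟩
  have hUmem : ∀ u, u ∈ U ↔ ∃ c d : K, c • w + d • b w = u := by
    intro u
    rw [hUdef, Submodule.mem_span_range_iff_exists_fun]
    constructor
    · rintro ⟨c, hc⟩
      refine ⟨c 0, c 1, ?_⟩
      rw [← hc, Fin.sum_univ_two]
      rfl
    · rintro ⟨c, d, hcd⟩
      refine ⟨![c, d], ?_⟩
      rw [← hcd, Fin.sum_univ_two]
      rfl
  have hwU : w ∈ U := (hUmem w).mpr ⟨1, 0, by rw [one_smul, zero_smul, add_zero]⟩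
  have hbwU : b w ∈ U := (hUmem (b w)).mpr ⟨0, 1, by rw [one_smul, zero_smul, zero_add]⟩
  have haU : ∀ u ∈ U, a u ∈ U := by
    intro u hu
    obtain ⟨c, d, rfl⟩ := (hUmem u).mp hu
    rw [map_add, map_smul, map_smul, hgw, haw]
    exact U.add_mem (U.smul_mem _ (U.sub_mem (U.smul_mem _ hwU) (U.smul_mem _ hbwU)))
      (U.smul_mem _ (U.smul_mem _ hwU))
  have hbU : ∀ u ∈ U, b u ∈ U := by
    intro u hu
    obtain ⟨c, d, rfl⟩ := (hUmem u).mp hu
    rw [map_add, map_smul, map_smul, hbbw]
    exact U.add_mem (U.smul_mem _ hbwU) (U.smul_mem _ (U.sub_mem (U.smul_mem _ hbwU) hwU))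
  have hU : ∀ h : W ≃ₗ[K] W, h ∈ Subgroup.closure ({a, b} : Set (W ≃ₗ[K] W)) →
      (∀ u ∈ U, h u ∈ U) ∧ (∀ u ∈ U, h⁻¹ u ∈ U) := by
    intro h hh
    induction hh using Subgroup.closure_induction with
    | mem g hg =>
      rcases hg with rfl | hg
      · refine ⟨haU, fun u hu => ?_⟩
        rw [hainv]
        exact U.sub_mem (U.smul_mem _ hu) (haU u hu)
      · rw [Set.mem_singleton_iff] at hg
        subst hg
        refine ⟨hbU, fun u hu => ?_⟩
        rw [hbinv]
        exact U.sub_mem (U.smul_mem _ hu) (hbU u hu)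
    | one => exact ⟨fun u hu => hu, fun u hu => by rw [inv_one]; exact hu⟩
    | mul f g _ _ hf hg =>
      refine ⟨fun u hu => hf.1 _ (hg.1 u hu), fun u hu => ?_⟩
      rw [mul_inv_rev]
      exact hg.2 _ (hf.2 u hu)
    | inv f _ hf =>
      refine ⟨hf.2, fun u hu => ?_⟩
      rw [inv_inv]
      exact hf.1 u hu
  let B : Module.Basis (Fin 2) K ↥(Submodule.span K (Set.range ![w, b w])) := Module.Basis.span hli
  subst hUdef
  let ρ : ↥(Subgroup.closure ({a, b} : Set (W ≃ₗ[K] W))) →*
      Module.End K ↥(Submodule.span K (Set.range ![w, b w])) :=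
    { toFun := fun h => (h.1 : W →ₗ[K] W).restrict (hU h.1 h.2).1
      map_one' := by
        apply LinearMap.ext
        intro u
        apply Subtype.ext
        rfl
      map_mul' := by
        intro h h'
        apply LinearMap.ext
        intro u
        apply Subtype.ext
        rfl }
  let M : ↥(Subgroup.closure ({a, b} : Set (W ≃ₗ[K] W))) →* Matrix (Fin 2) (Fin 2) K :=
    ((LinearMap.toMatrixAlgEquiv B).toMulEquiv.toMonoidHom).comp ρ
  have hMinj : ∀ h, M h = 1 → ρ h = 1 := by
    intro h hh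
    have h1 : (LinearMap.toMatrixAlgEquiv B) (ρ h) = (LinearMap.toMatrixAlgEquiv B) 1 := by
      rw [map_one]; exact hh
    exact (LinearMap.toMatrixAlgEquiv B).injective h1
  have hdet_of_pow : ∀ h : ↥(Subgroup.closure ({a, b} : Set (W ≃ₗ[K] W))), h ^ p = 1 →
      (M h).det = 1 := by
    intro h hh
    have h1 : (M h).det ^ p = 1 := by
      rw [← Matrix.det_pow, ← map_pow, hh, map_one, Matrix.det_one]
    exact eq_one_of_pow_char_pow_eq_one (p := p) _ 1 (by rw [pow_one]; exact h1)
  have hdet : ∀ h : W ≃ₗ[K] W, ∀ hh : h ∈ Subgroup.closure ({a, b} : Set (W ≃ₗ[K] W)),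
      (M ⟨h, hh⟩).det = 1 := by
    intro h hh
    induction hh using Subgroup.closure_induction with
    | mem g hg =>
      apply hdet_of_pow
      apply Subtype.ext
      rw [Subgroup.coe_pow, Subgroup.coe_one]
      rcases hg with rfl | hg
      · exact quad_pow_char g x hxa hx
      · rw [Set.mem_singleton_iff] at hg
        subst hg
        exact quad_pow_char g y hyb hy
    | one =>
      have : (⟨1, Subgroup.one_mem _⟩ : ↥(Subgroup.closure ({a, b} : Set (W ≃ₗ[K] W)))) = 1 := rfl
      rw [this, map_one, Matrix.det_one]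
    | mul f g hf hg ihf ihg =>
      have : (⟨f * g, Subgroup.mul_mem _ hf hg⟩ :
          ↥(Subgroup.closure ({a, b} : Set (W ≃ₗ[K] W)))) = ⟨f, hf⟩ * ⟨g, hg⟩ := rfl
      rw [this, map_mul, Matrix.det_mul, ihf, ihg, one_mul]
    | inv f hf ihf =>
      have h1 : (⟨f⁻¹, Subgroup.inv_mem _ hf⟩ :
          ↥(Subgroup.closure ({a, b} : Set (W ≃ₗ[K] W)))) * ⟨f, hf⟩ = 1 := by
        apply Subtype.ext
        exact inv_mul_cancel f
      have h2 := congrArg (fun t => (M t).det) h1
      simp only [map_mul, Matrix.det_mul, map_one, Matrix.det_one, ihf, mul_one] at h2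
      exact h2
  let φ : ↥(Subgroup.closure ({a, b} : Set (W ≃ₗ[K] W))) →* Matrix.SpecialLinearGroup (Fin 2) K :=
    { toFun := fun h => ⟨M h, hdet h.1 h.2⟩
      map_one' := by
        apply Subtype.ext
        exact map_one M
      map_mul' := by
        intro h h'
        apply Subtype.ext
        exact map_mul M h h' }
  refine ⟨φ, ?_⟩
  intro hP
  have haH : a ∈ Subgroup.closure ({a, b} : Set (W ≃ₗ[K] W)) :=
    Subgroup.subset_closure (Set.mem_insert _ _)
  have hbH : b ∈ Subgroup.closure ({a, b} : Set (W ≃ₗ[K] W)) :=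
    Subgroup.subset_closure (Set.mem_insert_of_mem _ rfl)
  obtain ⟨g, hg⟩ : ∃ g : ↥(Subgroup.closure ({a, b} : Set (W ≃ₗ[K] W))), g.1 = a * b :=
    ⟨⟨a * b, Subgroup.mul_mem _ haH hbH⟩, rfl⟩
  obtain ⟨j, hj⟩ := hP ⟨φ g, g, rfl⟩
  have h1 : φ (g ^ p ^ j) = 1 := by
    rw [map_pow]
    have := congrArg Subtype.val hj
    rw [Subgroup.coe_pow, Subgroup.coe_one] at this
    exact this
  have h2 : M (g ^ p ^ j) = 1 := congrArg Subtype.val h1
  have h3 := hMinj _ h2
  have hwU' : w ∈ Submodule.span K (Set.range ![w, b w]) := hwU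
  have h4 := congrArg (fun f : Module.End K ↥(Submodule.span K (Set.range ![w, b w])) =>
    ((f ⟨w, hwU'⟩ : ↥(Submodule.span K (Set.range ![w, b w]))) : W)) h3
  have h5 : ∀ n : ℕ, ((g ^ n).1 : W ≃ₗ[K] W) w = l ^ n • w := by
    intro n
    induction n with
    | zero => rw [pow_zero, pow_zero, one_smul]; rfl
    | succ n ih =>
      rw [pow_succ, Subgroup.coe_mul, LinearEquiv.mul_apply, hg, LinearEquiv.mul_apply, hgw, map_smul, ih,
        smul_smul, pow_succ, mul_comm]
  have h6 : ((g ^ p ^ j).1 : W ≃ₗ[K] W) w = w := h4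
  rw [h5] at h6
  have h7 : (l ^ p ^ j - 1) • w = 0 := by rw [sub_smul, one_smul, h6, sub_self]
  rcases smul_eq_zero.mp h7 with h8 | h8
  · exact hl (eq_one_of_pow_char_pow_eq_one (p := p) l j (sub_eq_zero.mp h8))
  · exact hw h8

end sl2

section eigen
open Polynomial
variable {K : Type*} [Field K] {W : Type*} [AddCommGroup W] [Module K W]

theorem exists_eigenvector_or_unipotent {p : ℕ} [Fact p.Prime] [Fintype K] [CharP K p]
    [FiniteDimensional K W] (g : Module.End K W) (e k : ℕ) (hk : k ∣ Fintype.card K - 1)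
    (hg : g ^ (p ^ e * k) = 1) :
    (∃ w : W, w ≠ 0 ∧ ∃ l : K, l ≠ 1 ∧ g w = l • w) ∨ ∃ N : ℕ, (g - 1) ^ N = 0 := by
  classical
  have hq : 1 < Fintype.card K := Fintype.one_lt_card
  obtain ⟨P, hPdef⟩ : ∃ P : K[X], P = minpoly K g := ⟨_, rfl⟩
  have hdvd1 : P ∣ X ^ (p ^ e * k) - 1 := by
    rw [hPdef]
    apply minpoly.dvd
    rw [map_sub, map_pow, aeval_X, map_one, hg, sub_self]
  have hdvd2 : (X ^ (p ^ e * k) - 1 : K[X]) ∣ (X ^ Fintype.card K - X) ^ p ^ e := by
    have h1 : (X ^ (p ^ e * k) - 1 : K[X]) = (X ^ k - 1) ^ p ^ e := by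
      rw [sub_pow_char_pow, one_pow, ← pow_mul, mul_comm]
    rw [h1]
    apply pow_dvd_pow_of_dvd
    obtain ⟨m, hm⟩ := hk
    have h2 : (X ^ k - 1 : K[X]) ∣ X ^ (Fintype.card K - 1) - 1 := by
      rw [hm, pow_mul]
      have := sub_dvd_pow_sub_pow ((X : K[X]) ^ k) 1 m
      rw [one_pow] at this
      exact this
    have h3 : (X ^ Fintype.card K - X : K[X]) = X * (X ^ (Fintype.card K - 1) - 1) := by
      rw [mul_sub, mul_one, ← pow_succ', Nat.sub_add_cancel hq.le]
    rw [h3]
    exact h2.mul_left X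
  have hne : (X ^ Fintype.card K - X : K[X]) ≠ 0 := FiniteField.X_pow_card_sub_X_ne_zero K hq
  have hsplit : Splits (X ^ Fintype.card K - X : K[X]) := by
    rw [splits_iff_card_roots, FiniteField.roots_X_pow_card_sub_X, FiniteField.X_pow_card_sub_X_natDegree_eq K hq]
    rfl
  have hPs : Splits P := (hsplit.pow (p ^ e)).of_dvd (pow_ne_zero _ hne) (hdvd1.trans hdvd2)
  have hPm : P.Monic := by
    rw [hPdef]
    exact minpoly.monic (Algebra.IsIntegral.isIntegral g)
  by_cases hr : ∃ r ∈ P.roots, r ≠ 1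
  · left
    obtain ⟨r, hr, hr1⟩ := hr
    have h1 : (minpoly K g).IsRoot r := by
      rw [← hPdef]; exact (mem_roots hPm.ne_zero).mp hr
    obtain ⟨v, hv⟩ := (Module.End.hasEigenvalue_of_isRoot h1).exists_hasEigenvector
    exact ⟨v, hv.2, r, hr1, Module.End.mem_eigenspace_iff.mp hv.1⟩
  · right
    push Not at hr
    have h1 : P.roots = Multiset.replicate (Multiset.card P.roots) 1 :=
      Multiset.eq_replicate.mpr ⟨rfl, hr⟩
    have h2 : P = (X - C 1) ^ (Multiset.card P.roots) := by
      conv_lhs => rw [hPs.eq_prod_roots_of_monic hPm, h1, Multiset.map_replicate, Multiset.prod_replicate]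
    refine ⟨Multiset.card P.roots, ?_⟩
    have h3 : aeval g P = 0 := by rw [hPdef]; exact minpoly.aeval K g
    rw [h2, map_pow, map_sub, aeval_X, map_one, aeval_one] at h3
    exact h3

end eigen

end Cfsg.Agent.H1
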