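import Mathlib
import Cfsg.Prelude.Def_Transfer
import Cfsg.Prelude.Def_PLocal
import Cfsg.Agent.H1.QuadPair
import Cfsg.Agent.Lib.Helper4.GL2Odd

set_option autoImplicit false
set_option linter.style.haveILetI false
set_option linter.unusedVariables false
set_option linter.unusedSectionVars false

open scoped commutatorElement

namespace Cfsg.Agent.H1

section bridge
variable {G : Type*} [Group G] [Finite G] {p : ℕ} [Fact p.Prime]

theorem quad_comm'' {V : Subgroup G} {a : G}
    (hq : ⁅⁅V, Subgroup.zpowers a⁆, Subgroup.zpowers a⁆ = ⊥) {v : G} (hv : v ∈ V) :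
    a * (a * v * a⁻¹ * v⁻¹) = (a * v * a⁻¹ * v⁻¹) * a := by
  have h1 : ⁅v, a⁆ ∈ ⁅V, Subgroup.zpowers a⁆ :=
    Subgroup.commutator_mem_commutator hv (Subgroup.mem_zpowers a)
  have h2 : ⁅⁅v, a⁆, a⁆ ∈ ⁅⁅V, Subgroup.zpowers a⁆, Subgroup.zpowers a⁆ :=
    Subgroup.commutator_mem_commutator h1 (Subgroup.mem_zpowers a)
  rw [hq, Subgroup.mem_bot] at h2
  have h3 : Commute ⁅v, a⁆ a := commutatorElement_eq_one_iff_commute.mp h2
  have h4 : a * v * a⁻¹ * v⁻¹ = ⁅v, a⁆⁻¹ := by rw [commutatorElement_def]; group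
  rw [h4]
  exact (h3.inv_left.symm).eq

/-- a faithful action on an elementary abelian `p`-subgroup as a faithful linear representation over the algebraic
closure of `𝔽_p`, quadratic elements going to quadratic elements -/
theorem exists_linear_rep (V H : Subgroup G) (hV : Cfsg.IsElementaryAbelian p V)
    (hHV : H ≤ Subgroup.normalizer (V : Set G)) (hf : H ⊓ Subgroup.centralizer (V : Set G) = ⊥)
    (hV1 : V ≠ ⊥) :
    ∃ (n : ℕ) (_ : NeZero n) (Ψ : ↥H →* ((Fin n → AlgebraicClosure (ZMod p)) ≃ₗ[AlgebraicClosure (ZMod p)]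
        (Fin n → AlgebraicClosure (ZMod p)))),
      Function.Injective Ψ ∧
      ∀ a : ↥H, ⁅⁅V, Subgroup.zpowers (a : G)⁆, Subgroup.zpowers (a : G)⁆ = ⊥ →
        ((Ψ a : (Fin n → AlgebraicClosure (ZMod p)) →ₗ[AlgebraicClosure (ZMod p)]
          (Fin n → AlgebraicClosure (ZMod p))) - 1) *
        ((Ψ a : (Fin n → AlgebraicClosure (ZMod p)) →ₗ[AlgebraicClosure (ZMod p)]
          (Fin n → AlgebraicClosure (ZMod p))) - 1) = 0 := by
  classical
  letI : CommGroup ↥V := { (inferInstance : Group ↥V) with mul_comm := hV.1.is_comm.comm }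
  have hpA : ∀ x : Additive ↥V, p • x = 0 := by
    intro x
    have h1 : (Additive.toMul x : ↥V) ^ p = 1 := by
      apply Subtype.ext
      rw [Subgroup.coe_pow, Subgroup.coe_one]
      exact hV.2 _ (Additive.toMul x).2
    exact congrArg Additive.ofMul h1
  letI : Module (ZMod p) (Additive ↥V) := by exact AddCommGroup.zmodModule hpA
  haveI : Finite (Additive ↥V) := inferInstanceAs (Finite ↥V)
  haveI : Nontrivial (Additive ↥V) := by
    haveI : Nontrivial ↥V := (Subgroup.nontrivial_iff_ne_bot V).mpr hV1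
    exact inferInstanceAs (Nontrivial ↥V)
  -- conjugation action
  let c : ↥H →* MulAut ↥V := (V.normalizerMonoidHom).comp (Subgroup.inclusion hHV)
  have hcv : ∀ (h : ↥H) (v : ↥V), ((c h v : ↥V) : G) = (h : G) * v * (h : G)⁻¹ := fun h v => rfl
  let lin : MulAut ↥V →* Module.End (ZMod p) (Additive ↥V) :=
    { toFun := fun σ => (MonoidHom.toAdditive σ.toMonoidHom).toZModLinearMap p
      map_one' := by
        apply LinearMap.ext; intro v
        rfl
      map_mul' := by
        intro σ τ; apply LinearMap.ext; intro v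
        rfl }
  have hlin : ∀ (σ : MulAut ↥V) (v : Additive ↥V),
      lin σ v = Additive.ofMul (σ (Additive.toMul v)) := fun σ v => rfl
  let ρ₀ : ↥H →* Module.End (ZMod p) (Additive ↥V) := lin.comp c
  have hρ₀ : ∀ (h : ↥H) (v : Additive ↥V),
      ((Additive.toMul (ρ₀ h v) : ↥V) : G) = (h : G) * (Additive.toMul v : ↥V) * (h : G)⁻¹ :=
    fun h v => rfl
  obtain ⟨n, hndef⟩ : ∃ n : ℕ, n = Module.finrank (ZMod p) (Additive ↥V) := ⟨_, rfl⟩
  have hn : NeZero n := ⟨by rw [hndef]; exact Module.finrank_pos.ne'⟩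
  let b : Module.Basis (Fin n) (ZMod p) (Additive ↥V) :=
    (Module.finBasis (ZMod p) (Additive ↥V)).reindex (finCongr hndef.symm)
  let Φ : Module.End (ZMod p) (Additive ↥V) →+*
      Module.End (AlgebraicClosure (ZMod p)) (Fin n → AlgebraicClosure (ZMod p)) :=
    ((Matrix.toLinAlgEquiv' : Matrix (Fin n) (Fin n) (AlgebraicClosure (ZMod p)) ≃ₐ[AlgebraicClosure (ZMod p)]
        _).toRingEquiv.toRingHom).comp
      (((algebraMap (ZMod p) (AlgebraicClosure (ZMod p))).mapMatrix).comp
        (LinearMap.toMatrixAlgEquiv b).toRingEquiv.toRingHom)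
  have hΦinj : Function.Injective Φ := by
    intro f g hfg
    have h1 : (Matrix.toLinAlgEquiv' : Matrix (Fin n) (Fin n) (AlgebraicClosure (ZMod p)) ≃ₐ[AlgebraicClosure (ZMod p)] _)
        (((LinearMap.toMatrixAlgEquiv b) f).map (algebraMap (ZMod p) (AlgebraicClosure (ZMod p)))) =
        (Matrix.toLinAlgEquiv' : Matrix (Fin n) (Fin n) (AlgebraicClosure (ZMod p)) ≃ₐ[AlgebraicClosure (ZMod p)] _)
        (((LinearMap.toMatrixAlgEquiv b) g).map (algebraMap (ZMod p) (AlgebraicClosure (ZMod p)))) := hfg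
    have h2 := (Matrix.toLinAlgEquiv' : Matrix (Fin n) (Fin n) (AlgebraicClosure (ZMod p)) ≃ₐ[AlgebraicClosure (ZMod p)] _).injective h1
    have h3 := Matrix.map_injective (algebraMap (ZMod p) (AlgebraicClosure (ZMod p))).injective h2
    exact (LinearMap.toMatrixAlgEquiv b).injective h3
  let Ψ : ↥H →* ((Fin n → AlgebraicClosure (ZMod p)) ≃ₗ[AlgebraicClosure (ZMod p)]
        (Fin n → AlgebraicClosure (ZMod p))) :=
    (LinearMap.GeneralLinearGroup.generalLinearEquiv (AlgebraicClosure (ZMod p))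
      (Fin n → AlgebraicClosure (ZMod p))).toMonoidHom.comp
      ((Units.map Φ.toMonoidHom).comp ρ₀.toHomUnits)
  have hΨ : ∀ h : ↥H, ((Ψ h : (Fin n → AlgebraicClosure (ZMod p)) ≃ₗ[AlgebraicClosure (ZMod p)]
        (Fin n → AlgebraicClosure (ZMod p))) : (Fin n → AlgebraicClosure (ZMod p)) →ₗ[AlgebraicClosure (ZMod p)]
        (Fin n → AlgebraicClosure (ZMod p))) = Φ (ρ₀ h) := by
    intro h
    apply LinearMap.ext
    intro w
    rfl
  refine ⟨n, hn, Ψ, ?_, ?_⟩
  · rw [injective_iff_map_eq_one]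
    intro h hh
    have h1 : Φ (ρ₀ h) = Φ 1 := by
      rw [← hΨ, hh, map_one]
      rfl
    have h2 : ρ₀ h = 1 := hΦinj h1
    have h3 : (h : G) ∈ H ⊓ Subgroup.centralizer (V : Set G) := by
      refine Subgroup.mem_inf.mpr ⟨h.2, ?_⟩
      rw [Subgroup.mem_centralizer_iff]
      intro v hv
      have h4 := hρ₀ h (Additive.ofMul ⟨v, hv⟩)
      rw [h2] at h4
      have h5 : (h : G) * v * (h : G)⁻¹ = v := h4.symm
      calc v * (h : G) = ((h : G) * v * (h : G)⁻¹) * (h : G) := by rw [h5]
        _ = (h : G) * v := by group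
    rw [hf, Subgroup.mem_bot] at h3
    exact Subtype.ext h3
  · intro a hq
    have hx₀ : (ρ₀ a - 1) * (ρ₀ a - 1) = 0 := by
      apply LinearMap.ext
      intro v
      have hd : ∀ u : Additive ↥V, ((Additive.toMul ((ρ₀ a - 1) u) : ↥V) : G) =
          (a : G) * (Additive.toMul u : ↥V) * (a : G)⁻¹ * ((Additive.toMul u : ↥V) : G)⁻¹ := by
        intro u
        rw [LinearMap.sub_apply, Module.End.one_apply, toMul_sub, Subgroup.coe_div, hρ₀, div_eq_mul_inv]
      rw [Module.End.mul_apply, LinearMap.zero_apply]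
      apply Additive.toMul.injective
      apply Subtype.ext
      rw [hd, hd]
      have h1 := quad_comm'' hq (Additive.toMul v : ↥V).2
      show (a : G) * ((a : G) * (Additive.toMul v : ↥V) * (a : G)⁻¹ * ((Additive.toMul v : ↥V) : G)⁻¹) *
        (a : G)⁻¹ * ((a : G) * (Additive.toMul v : ↥V) * (a : G)⁻¹ * ((Additive.toMul v : ↥V) : G)⁻¹)⁻¹ = 1
      rw [h1]
      group
    have h2 : Φ (ρ₀ a - 1) = ((Ψ a : (Fin n → AlgebraicClosure (ZMod p)) ≃ₗ[AlgebraicClosure (ZMod p)]
        (Fin n → AlgebraicClosure (ZMod p))) : (Fin n → AlgebraicClosure (ZMod p)) →ₗ[AlgebraicClosure (ZMod p)]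
        (Fin n → AlgebraicClosure (ZMod p))) - 1 := by
      rw [map_sub, map_one, hΨ]
    rw [← h2, ← map_mul, hx₀, map_zero]

end bridge

section eigen2
open Polynomial
variable {K : Type*} [Field K] {W : Type*} [AddCommGroup W] [Module K W]

theorem exists_eigenvector_or_unipotent_algClosed [IsAlgClosed K] [FiniteDimensional K W]
    (g : Module.End K W) :
    (∃ w : W, w ≠ 0 ∧ ∃ l : K, l ≠ 1 ∧ g w = l • w) ∨ ∃ N : ℕ, (g - 1) ^ N = 0 := by
  classical
  obtain ⟨P, hPdef⟩ : ∃ P : K[X], P = minpoly K g := ⟨_, rfl⟩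
  have hPs : Splits P := IsAlgClosed.splits P
  have hPm : P.Monic := by
    rw [hPdef]
    exact minpoly.monic (Algebra.IsIntegral.isIntegral g)
  by_cases hr : ∃ r ∈ P.roots, r ≠ 1
  · left
    obtain ⟨r, hr, hr1⟩ := hr
    have h1 : (minpoly K g).IsRoot r := by
      rw [← hPdef]; exact (mem_roots hPm.ne_zero).mp hr
    obtain ⟨v, hv⟩ := (Module.End.hasEigenvalue_of_isRoot h1).exists_hasEigenvector
    exact ⟨v, hv.2, r, hr1, Module.End.mem_eigenspace_iff.mp hv.1⟩
  · right
    push Not at hr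
    have h1 : P.roots = Multiset.replicate (Multiset.card P.roots) 1 :=
      Multiset.eq_replicate.mpr ⟨rfl, hr⟩
    have h2 : P = (X - C 1) ^ (Multiset.card P.roots) := by
      conv_lhs => rw [hPs.eq_prod_roots_of_monic hPm, h1, Multiset.map_replicate, Multiset.prod_replicate]
    refine ⟨Multiset.card P.roots, ?_⟩
    have h3 : aeval g P = 0 := by rw [hPdef]; exact minpoly.aeval K g
    rw [h2, map_pow, map_sub, aeval_X, map_one, aeval_one] at h3
    exact h3

end eigen2

section cyc

theorem isCyclic_of_unique_involution {T : Type*} [Group T] [Finite T] (hT : IsPGroup 2 T)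
    (hab : ∀ a b : T, a * b = b * a) (z : T) (hz : ∀ t : T, t ^ 2 = 1 → t = 1 ∨ t = z) :
    IsCyclic T := by
  classical
  obtain ⟨g, hg⟩ := Finite.exists_max (fun t : T => orderOf t)
  obtain ⟨e, he⟩ := (IsPGroup.iff_orderOf.mp hT) g
  have hexp : ∀ t : T, t ^ (2 ^ e) = 1 := by
    intro t
    obtain ⟨f, hf⟩ := (IsPGroup.iff_orderOf.mp hT) t
    have h1 : orderOf t ≤ orderOf g := hg t
    rw [hf, he] at h1
    have h2 : f ≤ e := (Nat.pow_le_pow_iff_right (by norm_num)).mp h1
    apply orderOf_dvd_iff_pow_eq_one.mp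
    rw [hf]
    exact pow_dvd_pow 2 h2
  refine ⟨g, fun h => ?_⟩
  by_contra hh
  rcases Nat.eq_zero_or_pos e with he0 | he0
  · apply hh
    have := hexp h
    rw [he0, pow_zero, pow_one] at this
    rw [this]
    exact one_mem (Subgroup.zpowers g)
  obtain ⟨e', rfl⟩ : ∃ e', e = e' + 1 := ⟨e - 1, by omega⟩
  have hw1 : g ^ (2 ^ e') ≠ 1 := by
    apply pow_ne_one_of_lt_orderOf (pow_ne_zero _ (by norm_num))
    rw [he]
    exact Nat.pow_lt_pow_right (by norm_num) (Nat.lt_succ_self e')
  have hw2 : (g ^ (2 ^ e')) ^ 2 = 1 := by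
    rw [← pow_mul, ← pow_succ, ← he]
    exact pow_orderOf_eq_one g
  have hwz : g ^ (2 ^ e') = z := by
    rcases hz _ hw2 with h1 | h1
    · exact absurd h1 hw1
    · exact h1
  have hzg : z ∈ Subgroup.zpowers g := by rw [← hwz]; exact Subgroup.pow_mem _ (Subgroup.mem_zpowers g) _
  -- find h' outside with square inside
  have hex : ∃ j : ℕ, h ^ (2 ^ j) ∈ Subgroup.zpowers g := ⟨e' + 1, by rw [hexp]; exact Subgroup.one_mem _⟩
  have hj0 : Nat.find hex ≠ 0 := by
    intro h0
    have := Nat.find_spec hex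
    rw [h0, pow_zero, pow_one] at this
    exact hh this
  obtain ⟨j, hj⟩ := Nat.exists_eq_succ_of_ne_zero hj0
  obtain ⟨h', hh'def⟩ : ∃ h' : T, h' = h ^ (2 ^ j) := ⟨_, rfl⟩
  have hh'1 : h' ∉ Subgroup.zpowers g := by
    rw [hh'def]
    exact Nat.find_min hex (m := j) (by omega)
  have hh'2 : h' ^ 2 ∈ Subgroup.zpowers g := by
    have := Nat.find_spec hex
    rw [hj, Nat.succ_eq_add_one, pow_succ, pow_mul] at this
    rw [hh'def]
    exact this
  obtain ⟨i, hi⟩ := Subgroup.mem_zpowers_iff.mp hh'2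
  rcases Int.even_or_odd i with ⟨k, hk⟩ | ⟨k, hk⟩
  · have h1 : (h' * g ^ (-k)) ^ 2 = 1 := by
      have hc : Commute h' (g ^ (-k)) := hab _ _
      rw [hc.mul_pow, ← hi, hk, ← zpow_natCast (g ^ (-k)) 2, ← zpow_mul, ← zpow_add]
      have : k + k + -k * ((2 : ℕ) : ℤ) = 0 := by push_cast; ring
      rw [this, zpow_zero]
    rcases hz _ h1 with h2 | h2
    · apply hh'1
      have : h' = g ^ k := by
        have h3 := congrArg (fun t => t * g ^ k) h2
        simp only [mul_assoc, ← zpow_add, neg_add_cancel, zpow_zero, mul_one, one_mul] at h3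
        exact h3
      rw [this]
      exact Subgroup.zpow_mem _ (Subgroup.mem_zpowers g) _
    · apply hh'1
      have : h' = z * g ^ k := by
        have h3 := congrArg (fun t => t * g ^ k) h2
        simp only [mul_assoc, ← zpow_add, neg_add_cancel, zpow_zero, mul_one] at h3
        exact h3
      rw [this]
      exact Subgroup.mul_mem _ hzg (Subgroup.zpow_mem _ (Subgroup.mem_zpowers g) _)
  · have h1 : g ^ (i * ((2 ^ e' : ℕ) : ℤ)) = 1 := by
      rw [zpow_mul, hi, zpow_natCast, ← pow_mul, ← pow_succ']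
      exact hexp h'
    have h2 := orderOf_dvd_iff_zpow_eq_one.mpr h1
    rw [he, hk] at h2
    have h3 : ((2 : ℤ) ^ (e' + 1)) ∣ (2 * k + 1) * 2 ^ e' := by
      have := h2
      push_cast at this
      exact this
    rw [pow_succ, mul_comm ((2 : ℤ) ^ e') 2] at h3
    have h4 : (2 : ℤ) ∣ 2 * k + 1 := by
      have h5 : (2 : ℤ) * 2 ^ e' ∣ (2 * k + 1) * 2 ^ e' := h3
      exact (mul_dvd_mul_iff_right (pow_ne_zero e' (by norm_num : (2 : ℤ) ≠ 0))).mp h5
    omega

end cyc

section sl2facts
open Matrix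
variable {K : Type*} [Field K]

theorem sl2_entries (g : Matrix.SpecialLinearGroup (Fin 2) K) :
    g.1 0 0 * g.1 1 1 - g.1 0 1 * g.1 1 0 = 1 := by
  have := g.2
  rw [Matrix.det_fin_two] at this
  exact this

/-- the only involution of `SL₂(K)` is `-1` (characteristic not two) -/
theorem sl2_sq_eq_one (h2 : (2 : K) ≠ 0) (g : Matrix.SpecialLinearGroup (Fin 2) K) (hg : g ^ 2 = 1) :
    g = 1 ∨ g.1 = -1 := by
  have hdet := sl2_entries g
  have hsq : g.1 * g.1 = 1 := by
    have := congrArg Subtype.val hg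
    rw [pow_two] at this
    exact this
  have h00 : g.1 0 0 * g.1 0 0 + g.1 0 1 * g.1 1 0 = 1 := by
    have := congrFun (congrFun hsq 0) 0
    rw [Matrix.mul_apply, Fin.sum_univ_two, Matrix.one_apply_eq] at this
    exact this
  have h01 : g.1 0 0 * g.1 0 1 + g.1 0 1 * g.1 1 1 = 0 := by
    have := congrFun (congrFun hsq 0) 1
    rw [Matrix.mul_apply, Fin.sum_univ_two, Matrix.one_apply_ne (by decide)] at this
    exact this
  have h10 : g.1 1 0 * g.1 0 0 + g.1 1 1 * g.1 1 0 = 0 := by
    have := congrFun (congrFun hsq 1) 0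
    rw [Matrix.mul_apply, Fin.sum_univ_two, Matrix.one_apply_ne (by decide)] at this
    exact this
  have h11 : g.1 1 0 * g.1 0 1 + g.1 1 1 * g.1 1 1 = 1 := by
    have := congrFun (congrFun hsq 1) 1
    rw [Matrix.mul_apply, Fin.sum_univ_two, Matrix.one_apply_eq] at this
    exact this
  obtain ⟨a, ha⟩ : ∃ a, a = g.1 0 0 := ⟨_, rfl⟩
  obtain ⟨b, hb⟩ : ∃ b, b = g.1 0 1 := ⟨_, rfl⟩
  obtain ⟨c, hc⟩ : ∃ c, c = g.1 1 0 := ⟨_, rfl⟩
  obtain ⟨d, hd⟩ : ∃ d, d = g.1 1 1 := ⟨_, rfl⟩
  rw [← ha, ← hb, ← hc, ← hd] at hdet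
  rw [← ha, ← hb, ← hc] at h00
  rw [← ha, ← hb, ← hd] at h01
  rw [← ha, ← hc, ← hd] at h10
  rw [← hb, ← hc, ← hd] at h11
  by_cases hs : a + d = 0
  · exfalso
    have hd' : d = -a := by linear_combination hs
    rw [hd'] at hdet
    apply h2
    linear_combination -(h00 + hdet)
  · have hb0 : b = 0 := by
      have : b * (a + d) = 0 := by linear_combination h01
      rcases mul_eq_zero.mp this with h | h
      · exact h
      · exact absurd h hs
    have hc0 : c = 0 := by
      have : c * (a + d) = 0 := by linear_combination h10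
      rcases mul_eq_zero.mp this with h | h
      · exact h
      · exact absurd h hs
    rw [hb0, hc0] at hdet h00 h11
    have had : a = d := by linear_combination (-a) * hdet + d * h00
    have ha2 : (a - 1) * (a + 1) = 0 := by linear_combination h00
    rcases mul_eq_zero.mp ha2 with h | h
    · left
      have ha1 : a = 1 := by linear_combination h
      apply Subtype.ext
      apply Matrix.ext
      intro i j
      fin_cases i <;> fin_cases j
      · show g.1 0 0 = 1
        rw [← ha, ha1]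
      · show g.1 0 1 = 0
        rw [← hb, hb0]
      · show g.1 1 0 = 0
        rw [← hc, hc0]
      · show g.1 1 1 = 1
        rw [← hd, ← had, ha1]
    · right
      have ha1 : a = -1 := by linear_combination h
      apply Matrix.ext
      intro i j
      fin_cases i <;> fin_cases j
      · show g.1 0 0 = -1
        rw [← ha, ha1]
      · show g.1 0 1 = -0
        rw [← hb, hb0, neg_zero]
      · show g.1 1 0 = -0
        rw [← hc, hc0, neg_zero]
      · show g.1 1 1 = -1
        rw [← hd, ← had, ha1]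

/-- an element of `SL₂(K)` fixing a nonzero vector is unipotent -/
theorem sl2_sub_one_sq_of_fix (g : Matrix.SpecialLinearGroup (Fin 2) K) (v : Fin 2 → K) (hv : v ≠ 0)
    (hgv : g.1.mulVec v = v) : (g.1 - 1) * (g.1 - 1) = 0 := by
  have hdet := sl2_entries g
  have e0 : g.1 0 0 * v 0 + g.1 0 1 * v 1 = v 0 := by
    have := congrFun hgv 0
    rw [Matrix.mulVec, dotProduct, Fin.sum_univ_two] at this
    exact this
  have e1 : g.1 1 0 * v 0 + g.1 1 1 * v 1 = v 1 := by
    have := congrFun hgv 1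
    rw [Matrix.mulVec, dotProduct, Fin.sum_univ_two] at this
    exact this
  obtain ⟨a, ha⟩ : ∃ a, a = g.1 0 0 := ⟨_, rfl⟩
  obtain ⟨b, hb⟩ : ∃ b, b = g.1 0 1 := ⟨_, rfl⟩
  obtain ⟨c, hc⟩ : ∃ c, c = g.1 1 0 := ⟨_, rfl⟩
  obtain ⟨d, hd⟩ : ∃ d, d = g.1 1 1 := ⟨_, rfl⟩
  rw [← ha, ← hb, ← hc, ← hd] at hdet
  rw [← ha, ← hb] at e0
  rw [← hc, ← hd] at e1
  have htr : a + d = 2 := by
    have hv' : v 0 ≠ 0 ∨ v 1 ≠ 0 := by
      by_contra hcon
      push Not at hcon
      apply hv
      funext i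
      fin_cases i
      · exact hcon.1
      · exact hcon.2
    have key : (a - 1) * (d - 1) - b * c = 0 := by
      rcases hv' with h | h
      · have : ((a - 1) * (d - 1) - b * c) * v 0 = 0 := by
          linear_combination (d - 1) * e0 - b * e1
        rcases mul_eq_zero.mp this with h' | h'
        · exact h'
        · exact absurd h' h
      · have : ((a - 1) * (d - 1) - b * c) * v 1 = 0 := by
          linear_combination (a - 1) * e1 - c * e0
        rcases mul_eq_zero.mp this with h' | h'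
        · exact h'
        · exact absurd h' h
    linear_combination hdet - key
  apply Matrix.ext
  intro i j
  rw [Matrix.mul_apply, Fin.sum_univ_two]
  fin_cases i <;> fin_cases j
  · show (g.1 - 1) 0 0 * (g.1 - 1) 0 0 + (g.1 - 1) 0 1 * (g.1 - 1) 1 0 = 0
    simp only [Matrix.sub_apply, Matrix.one_apply_eq, Matrix.one_apply_ne (show (0 : Fin 2) ≠ 1 by decide),
      Matrix.one_apply_ne (show (1 : Fin 2) ≠ 0 by decide), sub_zero, ← ha, ← hb, ← hc, ← hd]
    linear_combination a * htr - hdet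
  · show (g.1 - 1) 0 0 * (g.1 - 1) 0 1 + (g.1 - 1) 0 1 * (g.1 - 1) 1 1 = 0
    simp only [Matrix.sub_apply, Matrix.one_apply_eq, Matrix.one_apply_ne (show (0 : Fin 2) ≠ 1 by decide),
      Matrix.one_apply_ne (show (1 : Fin 2) ≠ 0 by decide), sub_zero, ← ha, ← hb, ← hc, ← hd]
    linear_combination b * htr
  · show (g.1 - 1) 1 0 * (g.1 - 1) 0 0 + (g.1 - 1) 1 1 * (g.1 - 1) 1 0 = 0
    simp only [Matrix.sub_apply, Matrix.one_apply_eq, Matrix.one_apply_ne (show (0 : Fin 2) ≠ 1 by decide),
      Matrix.one_apply_ne (show (1 : Fin 2) ≠ 0 by decide), sub_zero, ← ha, ← hb, ← hc, ← hd]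
    linear_combination c * htr
  · show (g.1 - 1) 1 0 * (g.1 - 1) 0 1 + (g.1 - 1) 1 1 * (g.1 - 1) 1 1 = 0
    simp only [Matrix.sub_apply, Matrix.one_apply_eq, Matrix.one_apply_ne (show (0 : Fin 2) ≠ 1 by decide),
      Matrix.one_apply_ne (show (1 : Fin 2) ≠ 0 by decide), sub_zero, ← ha, ← hb, ← hc, ← hd]
    linear_combination d * htr - hdet

end sl2facts

section sl2main
open Matrix
variable {K : Type*} [Field K] {p : ℕ} [Fact p.Prime] [CharP K p]

theorem two_ne_zero_of_char (hp2 : p ≠ 2) : (2 : K) ≠ 0 := by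
  intro h
  have h1 : ((2 : ℕ) : K) = 0 := by exact_mod_cast h
  have h2 := (CharP.cast_eq_zero_iff K p 2).mp h1
  exact hp2 ((Nat.prime_dvd_prime_iff_eq Fact.out Nat.prime_two).mp h2)

theorem sl2_pow_char_of_fix (g : Matrix.SpecialLinearGroup (Fin 2) K) (v : Fin 2 → K) (hv : v ≠ 0)
    (hgv : g.1.mulVec v = v) : g ^ p = 1 := by
  have hp : p.Prime := Fact.out
  have h1 := sl2_sub_one_sq_of_fix g v hv hgv
  have h2 : (g.1 - 1) ^ p = 0 := by
    rw [← Nat.sub_add_cancel hp.two_le, pow_add, pow_two, h1, mul_zero]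
  rw [sub_pow_char_of_commute p (Commute.one_right _), one_pow, sub_eq_zero] at h2
  apply Subtype.ext
  rw [Matrix.SpecialLinearGroup.coe_pow, h2]
  rfl

theorem sl2_sylow2_not_comm (hp2 : p ≠ 2) (L : Subgroup (Matrix.SpecialLinearGroup (Fin 2) K))
    [Finite L] (A B : Matrix.SpecialLinearGroup (Fin 2) K) (hL : L = Subgroup.closure {A, B})
    (hA : A ^ p = 1) (hB : B ^ p = 1) (hnp : ¬ IsPGroup p L) (T : Sylow 2 L) :
    ¬ IsMulCommutative ↥(T : Subgroup L) := by
  classical
  have hp : p.Prime := Fact.out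
  have h2K : (2 : K) ≠ 0 := two_ne_zero_of_char hp2
  intro hT
  have hAL : A ∈ L := by rw [hL]; exact Subgroup.subset_closure (Set.mem_insert _ _)
  have hBL : B ∈ L := by rw [hL]; exact Subgroup.subset_closure (Set.mem_insert_of_mem _ rfl)
  -- step 1 : `T` is cyclic
  have hcyc : IsCyclic ↥(T : Subgroup L) := by
    have hab : ∀ a b : ↥(T : Subgroup L), a * b = b * a := hT.is_comm.comm
    by_cases hex : ∃ t₀ : ↥(T : Subgroup L), t₀ ≠ 1 ∧ t₀ ^ 2 = 1
    · obtain ⟨t₀, ht₀1, ht₀2⟩ := hex
      have hm : ∀ t : ↥(T : Subgroup L), t ^ 2 = 1 → t ≠ 1 → (t.1.1 : Matrix.SpecialLinearGroup (Fin 2) K).1 = -1 := by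
        intro t ht ht1
        have h1 : (t.1.1 : Matrix.SpecialLinearGroup (Fin 2) K) ^ 2 = 1 := by
          have := congrArg (fun s : ↥(T : Subgroup L) => (s.1.1 : Matrix.SpecialLinearGroup (Fin 2) K)) ht
          exact this
        rcases sl2_sq_eq_one h2K _ h1 with h | h
        · exfalso
          apply ht1
          apply Subtype.ext
          apply Subtype.ext
          exact h
        · exact h
      apply isCyclic_of_unique_involution T.isPGroup' hab t₀
      intro t ht
      by_cases ht1 : t = 1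
      · exact Or.inl ht1
      · right
        apply Subtype.ext
        apply Subtype.ext
        apply Subtype.ext
        rw [hm t ht ht1, hm t₀ ht₀2 ht₀1]
    · push Not at hex
      apply isCyclic_of_unique_involution T.isPGroup' hab 1
      intro t ht
      by_contra hcon
      push Not at hcon
      exact hex t hcon.1 ht
  -- step 2 : `|L|` is odd
  have hodd : Odd (Nat.card ↥L) := by
    rw [← Nat.not_even_iff_odd, even_iff_two_dvd]
    intro heven
    have hmin : (Nat.card ↥L).minFac = 2 := (Nat.minFac_eq_two_iff _).mpr heven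
    have hcomp := IsCyclic.isComplement' hmin hcyc
    obtain ⟨f, hf⟩ : ∃ f : ↥L →* ↥(T : Subgroup L), f = MonoidHom.transferSylow T
        (hcyc.normalizer_le_centralizer hmin) := ⟨_, rfl⟩
    rw [← hf] at hcomp
    have hfone : ∀ g : ↥L, g ^ p = 1 → f g = 1 := by
      intro g hg
      have h1 : (f g) ^ p = 1 := by rw [← map_pow, hg, map_one]
      obtain ⟨k, hk⟩ := (IsPGroup.iff_orderOf.mp T.isPGroup') (f g)
      have h2 : orderOf (f g) ∣ p := orderOf_dvd_of_pow_eq_one h1
      rw [hk] at h2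
      have hk0 : k = 0 := by
        by_contra hk0
        have h3 : 2 ∣ p := (dvd_pow_self 2 hk0).trans h2
        exact hp2 ((Nat.prime_dvd_prime_iff_eq Nat.prime_two hp).mp h3).symm
      rw [hk0, pow_zero] at hk
      exact orderOf_eq_one_iff.mp hk
    have hker : f.ker = ⊤ := by
      rw [eq_top_iff]
      have h1 : L ≤ (f.ker).map L.subtype := by
        conv_lhs => rw [hL]
        rw [Subgroup.closure_le]
        intro g hg
        rcases hg with rfl | hg
        · refine ⟨⟨g, hAL⟩, ?_, rfl⟩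
          apply MonoidHom.mem_ker.mpr
          apply hfone
          apply Subtype.ext
          rw [Subgroup.coe_pow]
          exact hA
        · rw [Set.mem_singleton_iff] at hg
          subst hg
          refine ⟨⟨g, hBL⟩, ?_, rfl⟩
          apply MonoidHom.mem_ker.mpr
          apply hfone
          apply Subtype.ext
          rw [Subgroup.coe_pow]
          exact hB
      intro g _
      obtain ⟨g', hg', hgg'⟩ := h1 g.2
      have : g' = g := Subtype.ext hgg'
      rw [← this]
      exact hg'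
    have hcard := hcomp.card_mul
    rw [hker, Subgroup.card_top] at hcard
    have hT1 : Nat.card ↥(T : Subgroup L) = 1 := by
      have hpos : 0 < Nat.card ↥L := Nat.card_pos
      exact Nat.eq_of_mul_eq_mul_left hpos (by rw [hcard, mul_one])
    have hTne : (T : Subgroup L) ≠ ⊥ := by
      haveI : Fact (Nat.Prime 2) := ⟨Nat.prime_two⟩
      exact Sylow.ne_bot_of_dvd_card T heven
    exact hTne (Subgroup.card_eq_one.mp hT1)
  -- step 3 : apply the `GL₂` theorem
  obtain ⟨H', hH'⟩ : ∃ H' : Subgroup (GL (Fin 2) K), H' = L.map Matrix.SpecialLinearGroup.toGL := ⟨_, rfl⟩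
  haveI : Finite ↥H' := by
    rw [hH']
    exact Finite.of_equiv _ (L.equivMapOfInjective _ Matrix.SpecialLinearGroup.toGL_injective).toEquiv
  have hcardH' : Nat.card ↥H' = Nat.card ↥L := by
    rw [hH']
    exact Subgroup.card_map_of_injective Matrix.SpecialLinearGroup.toGL_injective
  have hfixall : ∀ v : Fin 2 → K, v ≠ 0 → A.1.mulVec v = v → B.1.mulVec v = v → False := by
    intro v hv hAv hBv
    apply hnp
    have hall : ∀ g ∈ L, g.1.mulVec v = v := by
      intro g hg
      rw [hL] at hg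
      induction hg using Subgroup.closure_induction with
      | mem g hg =>
        rcases hg with rfl | hg
        · exact hAv
        · rw [Set.mem_singleton_iff] at hg
          subst hg
          exact hBv
      | one => rw [Matrix.SpecialLinearGroup.coe_one, Matrix.one_mulVec]
      | mul f g _ _ hf hg =>
        rw [Matrix.SpecialLinearGroup.coe_mul, ← Matrix.mulVec_mulVec, hg, hf]
      | inv f _ hf =>
        have h1 : (f⁻¹).1.mulVec (f.1.mulVec v) = v := by
          rw [Matrix.mulVec_mulVec, ← Matrix.SpecialLinearGroup.coe_mul, inv_mul_cancel,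
            Matrix.SpecialLinearGroup.coe_one, Matrix.one_mulVec]
        rw [hf] at h1
        exact h1
    intro g
    refine ⟨1, ?_⟩
    rw [pow_one]
    apply Subtype.ext
    rw [Subgroup.coe_pow, Subgroup.coe_one]
    exact sl2_pow_char_of_fix g.1 v hv (hall g.1 g.2)
  have hscal : ∀ (g : Matrix.SpecialLinearGroup (Fin 2) K) (v : Fin 2 → K), v ≠ 0 → g ^ p = 1 →
      g.1.mulVec v ∈ Submodule.span K {v} → g.1.mulVec v = v := by
    intro g v hv hg hmem
    obtain ⟨c, hc⟩ := Submodule.mem_span_singleton.mp hmem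
    have hpow : ∀ n : ℕ, (g ^ n).1.mulVec v = c ^ n • v := by
      intro n
      induction n with
      | zero => rw [pow_zero, pow_zero, one_smul, Matrix.SpecialLinearGroup.coe_one, Matrix.one_mulVec]
      | succ n ih =>
        rw [pow_succ, Matrix.SpecialLinearGroup.coe_mul, ← Matrix.mulVec_mulVec, ← hc, Matrix.mulVec_smul, ih,
          smul_smul, pow_succ, mul_comm]
    have h1 := hpow p
    rw [hg, Matrix.SpecialLinearGroup.coe_one, Matrix.one_mulVec] at h1
    have h2 : (c ^ p - 1) • v = 0 := by rw [sub_smul, one_smul, ← h1, sub_self]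
    rcases smul_eq_zero.mp h2 with h3 | h3
    · have hc1 : c = 1 := eq_one_of_pow_char_pow_eq_one (p := p) c 1 (by rw [pow_one]; exact sub_eq_zero.mp h3)
      rw [← hc, hc1, one_smul]
    · exact absurd h3 hv
  have hirr : ∀ v : Fin 2 → K, v ≠ 0 → ∃ g ∈ H',
      (g : Matrix (Fin 2) (Fin 2) K).mulVec v ∉ Submodule.span K {v} := by
    intro v hv
    by_contra hcon
    push Not at hcon
    have hA' : A.1.mulVec v ∈ Submodule.span K {v} :=
      hcon (Matrix.SpecialLinearGroup.toGL A) (by rw [hH']; exact ⟨A, hAL, rfl⟩)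
    have hB' : B.1.mulVec v ∈ Submodule.span K {v} :=
      hcon (Matrix.SpecialLinearGroup.toGL B) (by rw [hH']; exact ⟨B, hBL, rfl⟩)
    exact hfixall v hv (hscal A v hv hA hA') (hscal B v hv hB hB')
  have hndvd := Cfsg.Agent.Lib.Helper4.GL2Odd.not_dvd_card (p := p) hp2 H' (by rw [hcardH']; exact hodd) hirr
  rw [hcardH'] at hndvd
  apply hndvd
  -- `p ∣ |L|`
  have hAB : A ≠ 1 ∨ B ≠ 1 := by
    by_contra hcon
    push Not at hcon
    apply hnp
    have : L = ⊥ := by
      rw [hL, hcon.1, hcon.2, Subgroup.closure_eq_bot_iff]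
      intro g hg
      rcases hg with rfl | hg
      · rfl
      · exact hg
    rw [this]
    exact IsPGroup.of_bot
  have hord : ∀ g : Matrix.SpecialLinearGroup (Fin 2) K, g ∈ L → g ^ p = 1 → g ≠ 1 → p ∣ Nat.card ↥L := by
    intro g hgL hg hg1
    have h1 : orderOf g = p := by
      rcases (Nat.dvd_prime hp).mp (orderOf_dvd_of_pow_eq_one hg) with h | h
      · exact absurd (orderOf_eq_one_iff.mp h) hg1
      · exact h
    have h2 : orderOf (⟨g, hgL⟩ : ↥L) = p := by
      rw [← h1]
      exact Subgroup.orderOf_mk g hgL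
    rw [← h2]
    exact orderOf_dvd_natCard _
  rcases hAB with h | h
  · exact hord A hAL hA h
  · exact hord B hBL hB h

end sl2main

section assemble

theorem closure_pair_subtype_eq_top {G : Type*} [Group G] (H : Subgroup G) (a b : G)
    (hab : H = Subgroup.closure {a, b}) (haH : a ∈ H) (hbH : b ∈ H) :
    Subgroup.closure ({⟨a, haH⟩, ⟨b, hbH⟩} : Set ↥H) = ⊤ := by
  rw [eq_top_iff]
  have h1 : H ≤ (Subgroup.closure ({⟨a, haH⟩, ⟨b, hbH⟩} : Set ↥H)).map H.subtype := by
    conv_lhs => rw [hab]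
    rw [Subgroup.closure_le]
    intro g hg
    rcases hg with rfl | hg
    · exact ⟨⟨g, haH⟩, Subgroup.subset_closure (Set.mem_insert _ _), rfl⟩
    · rw [Set.mem_singleton_iff] at hg
      subst hg
      exact ⟨⟨g, hbH⟩, Subgroup.subset_closure (Set.mem_insert_of_mem _ rfl), rfl⟩
  intro g _
  obtain ⟨g', hg', hgg'⟩ := h1 g.2
  have : g' = g := Subtype.ext hgg'
  rw [← this]
  exact hg'

theorem range_eq_closure_pair {G G' : Type*} [Group G] [Group G'] (H : Subgroup G) (a b : G)
    (hab : H = Subgroup.closure {a, b}) (haH : a ∈ H) (hbH : b ∈ H) (f : ↥H →* G') :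
    f.range = Subgroup.closure {f ⟨a, haH⟩, f ⟨b, hbH⟩} := by
  rw [MonoidHom.range_eq_map, ← closure_pair_subtype_eq_top H a b hab haH hbH, MonoidHom.map_closure,
    Set.image_pair]

end assemble

end Cfsg.Agent.H1
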