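import Mathlib
import Cfsg.Prelude.Def_Transfer
import Cfsg.Prelude.Def_PLocal
import Cfsg.Agent.H1.BaerSuzuki
import Cfsg.Agent.S0593

set_option autoImplicit false
set_option linter.style.haveILetI false
set_option linter.unusedVariables false
set_option linter.unusedSectionVars false

open scoped commutatorElement Pointwise

namespace Cfsg.Agent.H1

section s0595
variable {G : Type*} [Group G]

theorem map_conj_eq_of_mem_normalizer' (V : Subgroup G) (h : G) (hh : h ∈ Subgroup.normalizer (V : Set G)) :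
    V.map (MulAut.conj h).toMonoidHom = V := by
  ext x
  rw [Subgroup.mem_map]
  constructor
  · rintro ⟨y, hy, rfl⟩
    exact (Subgroup.mem_normalizer_iff.mp hh y).mp hy
  · intro hx
    refine ⟨h⁻¹ * x * h, ?_, ?_⟩
    · apply (Subgroup.mem_normalizer_iff.mp hh _).mpr
      have : h * (h⁻¹ * x * h) * h⁻¹ = x := by group
      rw [this]
      exact hx
    · show h * (h⁻¹ * x * h) * h⁻¹ = x
      group

theorem quadratic_conj (V : Subgroup G) (a h : G) (hh : h ∈ Subgroup.normalizer (V : Set G))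
    (hq : ⁅⁅V, Subgroup.zpowers a⁆, Subgroup.zpowers a⁆ = ⊥) :
    ⁅⁅V, Subgroup.zpowers (h * a * h⁻¹)⁆, Subgroup.zpowers (h * a * h⁻¹)⁆ = ⊥ := by
  have h1 : (Subgroup.zpowers a).map (MulAut.conj h).toMonoidHom = Subgroup.zpowers (h * a * h⁻¹) := by
    rw [MonoidHom.map_zpowers]
    rfl
  have h2 := congrArg (Subgroup.map (MulAut.conj h).toMonoidHom) hq
  rw [Subgroup.map_commutator, Subgroup.map_commutator, h1, map_conj_eq_of_mem_normalizer' V h hh,
    Subgroup.map_bot] at h2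
  exact h2

theorem sylow_comm_of_le [Finite G] {p : ℕ} [Fact p.Prime] (T : Sylow p G)
    (hT : ∀ x y : G, x ∈ T → y ∈ T → x * y = y * x) (K : Subgroup G) (T₀ : Sylow p ↥K) :
    ∀ u v : ↥K, u ∈ T₀ → v ∈ T₀ → u * v = v * u := by
  intro u v hu hv
  have h1 : IsPGroup p ↥((T₀ : Subgroup ↥K).map K.subtype) := T₀.isPGroup'.map _
  obtain ⟨Q, hQ⟩ := h1.exists_le_sylow
  obtain ⟨g, hg⟩ := MulAction.exists_smul_eq G T Q
  have hu' : (u : G) ∈ Q := hQ ⟨u, hu, rfl⟩
  have hv' : (v : G) ∈ Q := hQ ⟨v, hv, rfl⟩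
  rw [← hg, mem_sylow_smul] at hu' hv'
  have h2 := hT _ _ hu' hv'
  apply Subtype.ext
  rw [Subgroup.coe_mul, Subgroup.coe_mul]
  have h3 : g⁻¹ * (u : G) * g * (g⁻¹ * (v : G) * g) = g⁻¹ * ((u : G) * v) * g := by group
  have h4 : g⁻¹ * (v : G) * g * (g⁻¹ * (u : G) * g) = g⁻¹ * ((v : G) * u) * g := by group
  rw [h3, h4] at h2
  exact mul_left_cancel (mul_right_cancel h2)

theorem isPGroup_of_map_subtype {p : ℕ} (H : Subgroup G) (S : Subgroup ↥H)
    (h : IsPGroup p ↥(S.map H.subtype)) : IsPGroup p ↥S := by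
  have h1 := h.comap_of_injective H.subtype H.subtype_injective
  rw [Subgroup.comap_map_eq_self_of_injective H.subtype_injective] at h1
  exact h1

theorem zpowers_sup_conj_eq_closure (a g : G) :
    Subgroup.zpowers a ⊔ MulAut.conj g • Subgroup.zpowers a = Subgroup.closure {a, g * a * g⁻¹} := by
  have h1 : MulAut.conj g • Subgroup.zpowers a = Subgroup.zpowers (g * a * g⁻¹) := by
    rw [conj_smul_eq_map, MonoidHom.map_zpowers]
    rfl
  rw [h1, Subgroup.zpowers_eq_closure, Subgroup.zpowers_eq_closure, ← Subgroup.closure_union]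
  rfl

end s0595

end Cfsg.Agent.H1
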