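import Mathlib
import Cfsg.Prelude.Def_Transfer
import Cfsg.Prelude.Def_PLocal
import Cfsg.Agent.H1.QuadSL2
import Cfsg.Agent.H1.QuadBS
import Cfsg.Agent.H1.Cores
import Cfsg.Agent.H1.FrattiniExtra
import Cfsg.Agent.H1.PGroup

set_option autoImplicit false
set_option linter.style.haveILetI false
set_option linter.unusedVariables false
set_option linter.unusedSectionVars false

open scoped commutatorElement Pointwise

namespace Cfsg.Agent.H1

section bridge2
variable {G : Type*} [Group G] [Finite G] {p : ℕ} [Fact p.Prime]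

theorem exists_linear_rep_ker (V H : Subgroup G) (hV : Cfsg.IsElementaryAbelian p V)
    (hHV : H ≤ Subgroup.normalizer (V : Set G))
    (hV1 : V ≠ ⊥) :
    ∃ (n : ℕ) (_ : NeZero n) (Ψ : ↥H →* ((Fin n → AlgebraicClosure (ZMod p)) ≃ₗ[AlgebraicClosure (ZMod p)]
        (Fin n → AlgebraicClosure (ZMod p)))),
      (∀ h : ↥H, Ψ h = 1 → (h : G) ∈ Subgroup.centralizer (V : Set G)) ∧
      ∀ a : ↥H, ⁅⁅V, Subgroup.zpowers (a : G)⁆, Subgroup.zpowers (a : G)⁆ = ⊥ →
        ((Ψ a : (Fin n → AlgebraicClosure (ZMod p)) →ₗ[AlgebraicClosure (ZMod p)]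
          (Fin n → AlgebraicClosure (ZMod p))) - 1) *
        ((Ψ a : (Fin n → AlgebraicClosure (ZMod p)) →ₗ[AlgebraicClosure (ZMod p)]
          (Fin n → AlgebraicClosure (ZMod p))) - 1) = 0 := by
  classical
  letI : CommGroup ↥V := { (inferInstance : Group ↥V) with mul_comm := hV.1.is_comm.comm }
  have hpA : ∀ x : Additive ↥V, p • x = 0 := by
    intro x
    have h1 : (Additive.toMul x : ↥V) ^ p = 1 := by
      apply Subtype.ext
      rw [Subgroup.coe_pow, Subgroup.coe_one]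
      exact hV.2 _ (Additive.toMul x).2
    exact congrArg Additive.ofMul h1
  letI : Module (ZMod p) (Additive ↥V) := by exact AddCommGroup.zmodModule hpA
  haveI : Finite (Additive ↥V) := inferInstanceAs (Finite ↥V)
  haveI : Nontrivial (Additive ↥V) := by
    haveI : Nontrivial ↥V := (Subgroup.nontrivial_iff_ne_bot V).mpr hV1
    exact inferInstanceAs (Nontrivial ↥V)
  -- conjugation action
  let c : ↥H →* MulAut ↥V := (V.normalizerMonoidHom).comp (Subgroup.inclusion hHV)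
  have hcv : ∀ (h : ↥H) (v : ↥V), ((c h v : ↥V) : G) = (h : G) * v * (h : G)⁻¹ := fun h v => rfl
  let lin : MulAut ↥V →* Module.End (ZMod p) (Additive ↥V) :=
    { toFun := fun σ => (MonoidHom.toAdditive σ.toMonoidHom).toZModLinearMap p
      map_one' := by
        apply LinearMap.ext; intro v
        rfl
      map_mul' := by
        intro σ τ; apply LinearMap.ext; intro v
        rfl }
  have hlin : ∀ (σ : MulAut ↥V) (v : Additive ↥V),
      lin σ v = Additive.ofMul (σ (Additive.toMul v)) := fun σ v => rfl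
  let ρ₀ : ↥H →* Module.End (ZMod p) (Additive ↥V) := lin.comp c
  have hρ₀ : ∀ (h : ↥H) (v : Additive ↥V),
      ((Additive.toMul (ρ₀ h v) : ↥V) : G) = (h : G) * (Additive.toMul v : ↥V) * (h : G)⁻¹ :=
    fun h v => rfl
  obtain ⟨n, hndef⟩ : ∃ n : ℕ, n = Module.finrank (ZMod p) (Additive ↥V) := ⟨_, rfl⟩
  have hn : NeZero n := ⟨by rw [hndef]; exact Module.finrank_pos.ne'⟩
  let b : Module.Basis (Fin n) (ZMod p) (Additive ↥V) :=
    (Module.finBasis (ZMod p) (Additive ↥V)).reindex (finCongr hndef.symm)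
  let Φ : Module.End (ZMod p) (Additive ↥V) →+*
      Module.End (AlgebraicClosure (ZMod p)) (Fin n → AlgebraicClosure (ZMod p)) :=
    ((Matrix.toLinAlgEquiv' : Matrix (Fin n) (Fin n) (AlgebraicClosure (ZMod p)) ≃ₐ[AlgebraicClosure (ZMod p)]
        _).toRingEquiv.toRingHom).comp
      (((algebraMap (ZMod p) (AlgebraicClosure (ZMod p))).mapMatrix).comp
        (LinearMap.toMatrixAlgEquiv b).toRingEquiv.toRingHom)
  have hΦinj : Function.Injective Φ := by
    intro f g hfg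
    have h1 : (Matrix.toLinAlgEquiv' : Matrix (Fin n) (Fin n) (AlgebraicClosure (ZMod p)) ≃ₐ[AlgebraicClosure (ZMod p)] _)
        (((LinearMap.toMatrixAlgEquiv b) f).map (algebraMap (ZMod p) (AlgebraicClosure (ZMod p)))) =
        (Matrix.toLinAlgEquiv' : Matrix (Fin n) (Fin n) (AlgebraicClosure (ZMod p)) ≃ₐ[AlgebraicClosure (ZMod p)] _)
        (((LinearMap.toMatrixAlgEquiv b) g).map (algebraMap (ZMod p) (AlgebraicClosure (ZMod p)))) := hfg
    have h2 := (Matrix.toLinAlgEquiv' : Matrix (Fin n) (Fin n) (AlgebraicClosure (ZMod p)) ≃ₐ[AlgebraicClosure (ZMod p)] _).injective h1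
    have h3 := Matrix.map_injective (algebraMap (ZMod p) (AlgebraicClosure (ZMod p))).injective h2
    exact (LinearMap.toMatrixAlgEquiv b).injective h3
  let Ψ : ↥H →* ((Fin n → AlgebraicClosure (ZMod p)) ≃ₗ[AlgebraicClosure (ZMod p)]
        (Fin n → AlgebraicClosure (ZMod p))) :=
    (LinearMap.GeneralLinearGroup.generalLinearEquiv (AlgebraicClosure (ZMod p))
      (Fin n → AlgebraicClosure (ZMod p))).toMonoidHom.comp
      ((Units.map Φ.toMonoidHom).comp ρ₀.toHomUnits)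
  have hΨ : ∀ h : ↥H, ((Ψ h : (Fin n → AlgebraicClosure (ZMod p)) ≃ₗ[AlgebraicClosure (ZMod p)]
        (Fin n → AlgebraicClosure (ZMod p))) : (Fin n → AlgebraicClosure (ZMod p)) →ₗ[AlgebraicClosure (ZMod p)]
        (Fin n → AlgebraicClosure (ZMod p))) = Φ (ρ₀ h) := by
    intro h
    apply LinearMap.ext
    intro w
    rfl
  refine ⟨n, hn, Ψ, ?_, ?_⟩
  · intro h hh
    have h1 : Φ (ρ₀ h) = Φ 1 := by
      rw [← hΨ, hh, map_one]
      rfl
    have h2 : ρ₀ h = 1 := hΦinj h1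
    have h3 : (h : G) ∈ Subgroup.centralizer (V : Set G) := by
      rw [Subgroup.mem_centralizer_iff]
      intro v hv
      have h4 := hρ₀ h (Additive.ofMul ⟨v, hv⟩)
      rw [h2] at h4
      have h5 : (h : G) * v * (h : G)⁻¹ = v := h4.symm
      calc v * (h : G) = ((h : G) * v * (h : G)⁻¹) * (h : G) := by rw [h5]
        _ = (h : G) * v := by group
    exact h3
  · intro a hq
    have hx₀ : (ρ₀ a - 1) * (ρ₀ a - 1) = 0 := by
      apply LinearMap.ext
      intro v
      have hd : ∀ u : Additive ↥V, ((Additive.toMul ((ρ₀ a - 1) u) : ↥V) : G) =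
          (a : G) * (Additive.toMul u : ↥V) * (a : G)⁻¹ * ((Additive.toMul u : ↥V) : G)⁻¹ := by
        intro u
        rw [LinearMap.sub_apply, Module.End.one_apply, toMul_sub, Subgroup.coe_div, hρ₀, div_eq_mul_inv]
      rw [Module.End.mul_apply, LinearMap.zero_apply]
      apply Additive.toMul.injective
      apply Subtype.ext
      rw [hd, hd]
      have h1 := quad_comm'' hq (Additive.toMul v : ↥V).2
      show (a : G) * ((a : G) * (Additive.toMul v : ↥V) * (a : G)⁻¹ * ((Additive.toMul v : ↥V) : G)⁻¹) *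
        (a : G)⁻¹ * ((a : G) * (Additive.toMul v : ↥V) * (a : G)⁻¹ * ((Additive.toMul v : ↥V) : G)⁻¹)⁻¹ = 1
      rw [h1]
      group
    have h2 : Φ (ρ₀ a - 1) = ((Ψ a : (Fin n → AlgebraicClosure (ZMod p)) ≃ₗ[AlgebraicClosure (ZMod p)]
        (Fin n → AlgebraicClosure (ZMod p))) : (Fin n → AlgebraicClosure (ZMod p)) →ₗ[AlgebraicClosure (ZMod p)]
        (Fin n → AlgebraicClosure (ZMod p))) - 1 := by
      rw [map_sub, map_one, hΨ]
    rw [← h2, ← map_mul, hx₀, map_zero]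


theorem quad_pair_sylow2_not_comm (hp : p ≠ 2) (V H : Subgroup G) (hV : Cfsg.IsElementaryAbelian p V)
    (hHV : H ≤ Subgroup.normalizer (V : Set G)) (a b : G) (hab : H = Subgroup.closure {a, b})
    (ha : ⁅⁅V, Subgroup.zpowers a⁆, Subgroup.zpowers a⁆ = ⊥)
    (hb : ⁅⁅V, Subgroup.zpowers b⁆, Subgroup.zpowers b⁆ = ⊥)
    (hnp : ¬ ∀ h ∈ H, ∃ k : ℕ, h ^ p ^ k ∈ Subgroup.centralizer (V : Set G)) (T : Sylow 2 H) :
    ¬ IsMulCommutative ↥(T : Subgroup ↥H) := by
  classical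
  have hpp : p.Prime := Fact.out
  have haH : a ∈ H := by rw [hab]; exact Subgroup.subset_closure (Set.mem_insert _ _)
  have hbH : b ∈ H := by rw [hab]; exact Subgroup.subset_closure (Set.mem_insert_of_mem _ rfl)
  by_cases hV1 : V = ⊥
  · exfalso
    apply hnp
    intro h hh
    refine ⟨0, ?_⟩
    rw [Subgroup.mem_centralizer_iff]
    intro x hx
    rw [hV1] at hx
    have hx1 : x = 1 := hx
    rw [hx1, one_mul, mul_one]
  obtain ⟨n, hn, Ψ, hΨker, hΨq⟩ := exists_linear_rep_ker V H hV hHV hV1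
  haveI : CharP (AlgebraicClosure (ZMod p)) p :=
    charP_of_injective_algebraMap (algebraMap (ZMod p) (AlgebraicClosure (ZMod p))).injective p
  haveI : Nontrivial (Fin n → AlgebraicClosure (ZMod p)) := inferInstance
  obtain ⟨a', ha'⟩ : ∃ a', a' = Ψ ⟨a, haH⟩ := ⟨_, rfl⟩
  obtain ⟨b', hb'⟩ : ∃ b', b' = Ψ ⟨b, hbH⟩ := ⟨_, rfl⟩
  obtain ⟨x, hxdef⟩ : ∃ x : Module.End (AlgebraicClosure (ZMod p)) (Fin n → AlgebraicClosure (ZMod p)),
    x = (a' : (Fin n → AlgebraicClosure (ZMod p)) →ₗ[AlgebraicClosure (ZMod p)]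
      (Fin n → AlgebraicClosure (ZMod p))) - 1 := ⟨_, rfl⟩
  obtain ⟨y, hydef⟩ : ∃ y : Module.End (AlgebraicClosure (ZMod p)) (Fin n → AlgebraicClosure (ZMod p)),
    y = (b' : (Fin n → AlgebraicClosure (ZMod p)) →ₗ[AlgebraicClosure (ZMod p)]
      (Fin n → AlgebraicClosure (ZMod p))) - 1 := ⟨_, rfl⟩
  have hxa : ∀ w, a' w = w + x w := by
    intro w; rw [hxdef, LinearMap.sub_apply, LinearEquiv.coe_coe, Module.End.one_apply]; abel
  have hyb : ∀ w, b' w = w + y w := by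
    intro w; rw [hydef, LinearMap.sub_apply, LinearEquiv.coe_coe, Module.End.one_apply]; abel
  have hx : x * x = 0 := by rw [hxdef, ha']; exact hΨq ⟨a, haH⟩ ha
  have hy : y * y = 0 := by rw [hydef, hb']; exact hΨq ⟨b, hbH⟩ hb
  have hrange : Ψ.range = Subgroup.closure {a', b'} := by
    rw [ha', hb']
    exact range_eq_closure_pair H a b hab haH hbH Ψ
  have hnp' : ¬ IsPGroup p ↥(Subgroup.closure ({a', b'} : Set ((Fin n → AlgebraicClosure (ZMod p)) ≃ₗ[AlgebraicClosure (ZMod p)] (Fin n → AlgebraicClosure (ZMod p))))) := by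
    intro hpg
    apply hnp
    intro h hh
    have h1 : Ψ ⟨h, hh⟩ ∈ Subgroup.closure ({a', b'} : Set ((Fin n → AlgebraicClosure (ZMod p)) ≃ₗ[AlgebraicClosure (ZMod p)] (Fin n → AlgebraicClosure (ZMod p)))) := by
      rw [← hrange]
      exact ⟨_, rfl⟩
    obtain ⟨k, hk⟩ := hpg ⟨_, h1⟩
    refine ⟨k, ?_⟩
    have h2 : Ψ (⟨h, hh⟩ ^ p ^ k) = 1 := by
      rw [map_pow]
      have := congrArg Subtype.val hk
      rw [Subgroup.coe_pow, Subgroup.coe_one] at this
      exact this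
    exact hΨker _ h2
  rcases exists_eigenvector_or_unipotent_algClosed
      (((a' * b' : (Fin n → AlgebraicClosure (ZMod p)) ≃ₗ[AlgebraicClosure (ZMod p)] (Fin n → AlgebraicClosure (ZMod p))) :
        (Fin n → AlgebraicClosure (ZMod p)) →ₗ[AlgebraicClosure (ZMod p)] (Fin n → AlgebraicClosure (ZMod p))))
    with ⟨w, hw, l, hl, hgw⟩ | ⟨N, hN⟩
  swap
  · exfalso
    apply hnp'
    exact isPGroup_closure_of_quad_nilpotent a' b' x y hxa hyb hx hy N
      (quad_t_nilpotent a' b' x y hxa hyb hx hy N hN)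
  obtain ⟨φ, hφ⟩ := exists_sl2_hom_of_eigenvector (p := p) a' b' x y hxa hyb hx hy w hw l hl hgw
  have hmem : ∀ h : ↥H, Ψ h ∈ Subgroup.closure ({a', b'} : Set ((Fin n → AlgebraicClosure (ZMod p)) ≃ₗ[AlgebraicClosure (ZMod p)] (Fin n → AlgebraicClosure (ZMod p)))) := by
    intro h
    rw [← hrange]
    exact ⟨h, rfl⟩
  obtain ⟨θ, hθ⟩ : ∃ θ : ↥H →* Matrix.SpecialLinearGroup (Fin 2) (AlgebraicClosure (ZMod p)),
    θ = φ.comp (Ψ.codRestrict _ hmem) := ⟨_, rfl⟩
  have ha'mem : a' ∈ Subgroup.closure ({a', b'} : Set ((Fin n → AlgebraicClosure (ZMod p)) ≃ₗ[AlgebraicClosure (ZMod p)] (Fin n → AlgebraicClosure (ZMod p)))) :=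
    Subgroup.subset_closure (Set.mem_insert _ _)
  have hb'mem : b' ∈ Subgroup.closure ({a', b'} : Set ((Fin n → AlgebraicClosure (ZMod p)) ≃ₗ[AlgebraicClosure (ZMod p)] (Fin n → AlgebraicClosure (ZMod p)))) :=
    Subgroup.subset_closure (Set.mem_insert_of_mem _ rfl)
  have hθa : θ ⟨a, haH⟩ = φ ⟨a', ha'mem⟩ := by
    rw [hθ, MonoidHom.comp_apply]
    congr 1
    apply Subtype.ext
    rw [MonoidHom.codRestrict_apply]
    exact ha'.symm
  have hθb : θ ⟨b, hbH⟩ = φ ⟨b', hb'mem⟩ := by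
    rw [hθ, MonoidHom.comp_apply]
    congr 1
    apply Subtype.ext
    rw [MonoidHom.codRestrict_apply]
    exact hb'.symm
  have hL1 : θ.range = Subgroup.closure {θ ⟨a, haH⟩, θ ⟨b, hbH⟩} :=
    range_eq_closure_pair H a b hab haH hbH θ
  have hL2 : φ.range = Subgroup.closure {φ ⟨a', ha'mem⟩, φ ⟨b', hb'mem⟩} :=
    range_eq_closure_pair _ a' b' rfl ha'mem hb'mem φ
  have hL3 : θ.range = φ.range := by rw [hL1, hL2, hθa, hθb]
  haveI : Finite ↥θ.range := Finite.of_surjective θ.rangeRestrict θ.rangeRestrict_surjective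
  have hA : (θ ⟨a, haH⟩) ^ p = 1 := by
    rw [hθa, ← map_pow]
    have : (⟨a', ha'mem⟩ : ↥(Subgroup.closure ({a', b'} : Set ((Fin n → AlgebraicClosure (ZMod p)) ≃ₗ[AlgebraicClosure (ZMod p)] (Fin n → AlgebraicClosure (ZMod p)))))) ^ p = 1 := by
      apply Subtype.ext
      rw [Subgroup.coe_pow, Subgroup.coe_one]
      exact quad_pow_char (p := p) a' x hxa hx
    rw [this, map_one]
  have hB : (θ ⟨b, hbH⟩) ^ p = 1 := by
    rw [hθb, ← map_pow]
    have : (⟨b', hb'mem⟩ : ↥(Subgroup.closure ({a', b'} : Set ((Fin n → AlgebraicClosure (ZMod p)) ≃ₗ[AlgebraicClosure (ZMod p)] (Fin n → AlgebraicClosure (ZMod p)))))) ^ p = 1 := by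
      apply Subtype.ext
      rw [Subgroup.coe_pow, Subgroup.coe_one]
      exact quad_pow_char (p := p) b' y hyb hy
    rw [this, map_one]
  have hnpL : ¬ IsPGroup p ↥θ.range := by rw [hL3]; exact hφ
  intro hT
  haveI : Fact (Nat.Prime 2) := ⟨Nat.prime_two⟩
  haveI hT' : IsMulCommutative ↥(T : Subgroup ↥H) := hT
  have hsurj : Function.Surjective θ.rangeRestrict := θ.rangeRestrict_surjective
  have h1 := sl2_sylow2_not_comm (p := p) hp θ.range _ _ hL1 hA hB hnpL (T.mapSurjective hsurj)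
  apply h1
  rw [Sylow.coe_mapSurjective]
  exact Subgroup.map_isMulCommutative _ _


theorem isPStableOn_of_abelian_sylow2 (hp : p ≠ 2)
    (hab : ∀ T : Sylow 2 G, IsMulCommutative ↥(T : Subgroup G)) (V : Subgroup G) [V.Normal]
    (hV : Cfsg.IsElementaryAbelian p V) : Cfsg.IsPStableOn p V := by
  classical
  haveI : Fact (Nat.Prime 2) := ⟨Nat.prime_two⟩
  intro a hq
  by_contra hna
  obtain ⟨ā, hā⟩ : ∃ ā : G ⧸ Subgroup.centralizer (V : Set G), ā = QuotientGroup.mk a := ⟨_, rfl⟩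
  rw [← hā] at hna
  have hex : ∃ gq : G ⧸ Subgroup.centralizer (V : Set G),
      ¬ IsPGroup p ↥(Subgroup.zpowers ā ⊔ MulAut.conj gq • Subgroup.zpowers ā) := by
    by_contra hcon
    push Not at hcon
    have hXp : IsPGroup p ↥(Subgroup.zpowers ā) := IsPGroup.to_le (hcon 1) le_sup_left
    obtain ⟨N, hNn, hNp, hXN⟩ := baer_suzuki (Subgroup.zpowers ā) hXp hcon
    apply hna
    have h1 : N ≤ Cfsg.pCore p (G ⧸ Subgroup.centralizer (V : Set G)) := le_sSup ⟨hNn, hNp⟩
    exact h1 (hXN (Subgroup.mem_zpowers _))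
  obtain ⟨gq, hgq⟩ := hex
  obtain ⟨g, rfl⟩ := QuotientGroup.mk_surjective gq
  obtain ⟨H, hH⟩ : ∃ H : Subgroup G, H = Subgroup.closure {a, g * a * g⁻¹} := ⟨_, rfl⟩
  have hmap : H.map (QuotientGroup.mk' (Subgroup.centralizer (V : Set G))) =
      Subgroup.zpowers ā ⊔ MulAut.conj (QuotientGroup.mk g : G ⧸ Subgroup.centralizer (V : Set G)) • Subgroup.zpowers ā := by
    rw [zpowers_sup_conj_eq_closure, hH, MonoidHom.map_closure, Set.image_pair, hā]
    rfl
  have hnorm : H ≤ Subgroup.normalizer (V : Set G) := by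
    rw [Subgroup.normalizer_eq_top]
    exact le_top
  have hnp : ¬ ∀ h ∈ H, ∃ k : ℕ, h ^ p ^ k ∈ Subgroup.centralizer (V : Set G) := by
    intro hall
    apply hgq
    rw [← hmap]
    rintro ⟨x, hx⟩
    obtain ⟨h, hh, rfl⟩ := hx
    obtain ⟨k, hk⟩ := hall h hh
    refine ⟨k, ?_⟩
    apply Subtype.ext
    rw [Subgroup.coe_pow, Subgroup.coe_one, ← map_pow]
    exact (QuotientGroup.eq_one_iff _).mpr hk
  obtain ⟨T₀⟩ : Nonempty (Sylow 2 ↥H) := inferInstance
  obtain ⟨T⟩ : Nonempty (Sylow 2 G) := inferInstance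
  have h1 := quad_pair_sylow2_not_comm hp V H hV hnorm a (g * a * g⁻¹) hH hq
    (quadratic_conj V a g (by rw [Subgroup.normalizer_eq_top]; exact Subgroup.mem_top g) hq) hnp T₀
  apply h1
  have hT := hab T
  have hcomm := sylow_comm_of_le T (fun x y hx hy => by
      have := hT.is_comm.comm ⟨x, hx⟩ ⟨y, hy⟩
      exact congrArg Subtype.val this) H T₀
  exact ⟨⟨fun u v => Subtype.ext (hcomm u.1 v.1 u.2 v.2)⟩⟩

theorem isPStableOnSection_of_abelian_sylow2 (hp : p ≠ 2)
    (hab : ∀ T : Sylow 2 G, IsMulCommutative ↥(T : Subgroup G)) (K N : Subgroup G) [K.Normal] [N.Normal]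
    (hcomm : ⁅K, K⁆ ≤ N) (hpow : ∀ x ∈ K, x ^ p ∈ N) : Cfsg.IsPStableOnSection p K N := by
  classical
  haveI : Fact (Nat.Prime 2) := ⟨Nat.prime_two⟩
  obtain ⟨Vb, hVb⟩ : ∃ Vb : Subgroup (G ⧸ N), Vb = K.map (QuotientGroup.mk' N) := ⟨_, rfl⟩
  haveI hVbn : Vb.Normal := by
    rw [hVb]
    exact Subgroup.Normal.map inferInstance _ (QuotientGroup.mk'_surjective N)
  have hVbel : Cfsg.IsElementaryAbelian p Vb := by
    constructor
    · refine ⟨⟨fun u v => ?_⟩⟩
      obtain ⟨u, hu⟩ := u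
      obtain ⟨v, hv⟩ := v
      rw [hVb] at hu hv
      obtain ⟨x, hx, rfl⟩ := hu
      obtain ⟨y, hy, rfl⟩ := hv
      apply Subtype.ext
      show QuotientGroup.mk' N x * QuotientGroup.mk' N y = QuotientGroup.mk' N y * QuotientGroup.mk' N x
      rw [← map_mul, ← map_mul]
      apply QuotientGroup.eq.mpr
      have h1 : (x * y)⁻¹ * (y * x) = ⁅y⁻¹, x⁻¹⁆ := by rw [commutatorElement_def]; group
      rw [h1]
      exact hcomm (Subgroup.commutator_mem_commutator (K.inv_mem hy) (K.inv_mem hx))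
    · intro u hu
      rw [hVb] at hu
      obtain ⟨x, hx, rfl⟩ := hu
      rw [← map_pow]
      exact (QuotientGroup.eq_one_iff _).mpr (hpow x hx)
  have habq : ∀ T : Sylow 2 (G ⧸ N), IsMulCommutative ↥(T : Subgroup (G ⧸ N)) := by
    intro Tq
    obtain ⟨T, hT⟩ := Sylow.mapSurjective_surjective (QuotientGroup.mk'_surjective N) 2 Tq
    rw [← hT, Sylow.coe_mapSurjective]
    haveI := hab T
    exact Subgroup.map_isMulCommutative _ _
  have hst := isPStableOn_of_abelian_sylow2 hp habq Vb hVbel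
  intro a hq
  have hq' : ⁅⁅Vb, Subgroup.zpowers (QuotientGroup.mk a : G ⧸ N)⁆,
      Subgroup.zpowers (QuotientGroup.mk a : G ⧸ N)⁆ = ⊥ := by
    rw [eq_bot_iff]
    have h1 : (Subgroup.zpowers a).map (QuotientGroup.mk' N) = Subgroup.zpowers (QuotientGroup.mk a : G ⧸ N) := by
      rw [MonoidHom.map_zpowers]
      rfl
    have h2 := Subgroup.map_mono (f := QuotientGroup.mk' N) hq
    rw [Subgroup.map_commutator, Subgroup.map_commutator, h1, ← hVb] at h2
    refine h2.trans ?_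
    rw [QuotientGroup.map_mk'_self]
  have hmem := hst (QuotientGroup.mk a) hq'
  obtain ⟨f, hf⟩ : ∃ f : G →* (G ⧸ N) ⧸ Subgroup.centralizer (Vb : Set (G ⧸ N)),
    f = (QuotientGroup.mk' _).comp (QuotientGroup.mk' N) := ⟨_, rfl⟩
  have hfsurj : Function.Surjective f := by
    rw [hf]
    exact (QuotientGroup.mk'_surjective _).comp (QuotientGroup.mk'_surjective N)
  have hker : Cfsg.sectionKernel K N = f.ker := by
    unfold Cfsg.sectionKernel
    rw [← hVb, hf, ← MonoidHom.comap_ker, QuotientGroup.ker_mk']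
  refine ⟨(Cfsg.pCore p _).comap f, inferInstance, ?_, ?_, ?_⟩
  · rw [hker]
    intro x hx
    rw [Subgroup.mem_comap, MonoidHom.mem_ker.mp hx]
    exact one_mem _
  · rw [hker, Subgroup.relIndex_ker, Subgroup.map_comap_eq_self_of_surjective hfsurj]
    exact IsPGroup.iff_card.mp (pCore_isPGroup p)
  · rw [Subgroup.mem_comap, hf]
    exact hmem

theorem omegaOne_elementary {P : Type*} [Group P] (q : ℕ) (Z : Subgroup P)
    (hZ : ∀ x ∈ Z, ∀ y ∈ Z, x * y = y * x) :
    (∀ x ∈ Cfsg.omegaOne q Z, ∀ y ∈ Cfsg.omegaOne q Z, x * y = y * x) ∧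
      ∀ x ∈ Cfsg.omegaOne q Z, x ^ q = 1 := by
  have hle : Cfsg.omegaOne q Z ≤ Z := by
    unfold Cfsg.omegaOne
    rw [Subgroup.closure_le]
    intro x hx
    exact hx.1
  refine ⟨fun x hx y hy => hZ x (hle hx) y (hle hy), ?_⟩
  have key : ∀ x ∈ Subgroup.closure {x : P | x ∈ Z ∧ x ^ q = 1}, x ^ q = 1 := by
    intro x hx
    induction hx using Subgroup.closure_induction with
    | mem x hx => exact hx.2
    | one => exact one_pow _
    | mul x y hx hy ihx ihy =>
      have hc : Commute x y := hZ x (hle hx) y (hle hy)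
      rw [hc.mul_pow, ihx, ihy, one_mul]
    | inv x hx ih => rw [inv_pow, ih, inv_one]
  exact fun x hx => key x hx

end bridge2

end Cfsg.Agent.H1
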