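import Mathlib
import Cfsg.Agent.S0025
import Cfsg.Agent.S0016
import Cfsg.Agent.Lib.Lead.QuatSylowSL23
import Cfsg.Agent.Lib.Lead.PSolvable
import Cfsg.Agent.H1.QuadStable
import Cfsg.Agent.H1.CoprimeAction
import Cfsg.Agent.Lib.Helper4.SolvPSolv

set_option autoImplicit false
set_option linter.style.haveILetI false
set_option linter.unusedVariables false
set_option linter.unusedSectionVars false

open scoped commutatorElement Pointwise

namespace Cfsg.Agent.H1

section abs3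
variable {X : Type*} [Group X]

theorem commute_of_normal_disjoint (N S : Subgroup X) (A : X) (hAN : A ∈ N)
    (hSN : S ≤ Subgroup.normalizer (N : Set X)) (hAS : A ∈ Subgroup.normalizer (S : Set X))
    (hdisj : N ⊓ S = ⊥) : ∀ s ∈ S, s * A = A * s := by
  intro s hs
  have h1 : s * A * s⁻¹ * A⁻¹ ∈ N := by
    have : s * A * s⁻¹ ∈ N := (Subgroup.mem_normalizer_iff.mp (hSN hs) A).mp hAN
    exact N.mul_mem this (N.inv_mem hAN)
  have h2 : s * A * s⁻¹ * A⁻¹ ∈ S := by
    have : A * s⁻¹ * A⁻¹ ∈ S := (Subgroup.mem_normalizer_iff.mp hAS s⁻¹).mp (S.inv_mem hs)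
    have e : s * A * s⁻¹ * A⁻¹ = s * (A * s⁻¹ * A⁻¹) := by group
    rw [e]
    exact S.mul_mem hs this
  have h3 : s * A * s⁻¹ * A⁻¹ ∈ N ⊓ S := ⟨h1, h2⟩
  rw [hdisj, Subgroup.mem_bot] at h3
  calc s * A = (s * A * s⁻¹ * A⁻¹) * (A * s) := by group
    _ = A * s := by rw [h3, one_mul]

theorem card_sup_of_le_normalizer_coprime [Finite X] (S C : Subgroup X)
    (hCS : C ≤ Subgroup.normalizer (S : Set X)) (hcop : (Nat.card S).Coprime (Nat.card C)) :
    Nat.card ↥(S ⊔ C) = Nat.card S * Nat.card C := by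
  apply le_antisymm
  · have hsurj : Function.Surjective (fun x : ↥S × ↥C => (⟨x.1.1 * x.2.1,
        mul_mem (Subgroup.mem_sup_left x.1.2) (Subgroup.mem_sup_right x.2.2)⟩ : ↥(S ⊔ C))) := by
      rintro ⟨g, hg⟩
      obtain ⟨n, hn, a, ha, rfl⟩ := (mem_sup_of_le_normalizer S C hCS).mp hg
      exact ⟨(⟨n, hn⟩, ⟨a, ha⟩), rfl⟩
    have := Nat.card_le_card_of_surjective _ hsurj
    rwa [Nat.card_prod] at this
  · apply Nat.le_of_dvd Nat.card_pos
    exact Nat.Coprime.mul_dvd_of_dvd_of_dvd hcop (Subgroup.card_dvd_of_le le_sup_left)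
      (Subgroup.card_dvd_of_le le_sup_right)

theorem le_normalizer_map_subtype_of_normal' (Y : Subgroup X) (U : Subgroup ↥Y) [hU : U.Normal] :
    Y ≤ Subgroup.normalizer ((U.map Y.subtype : Subgroup X) : Set X) := by
  intro y hy
  have key : ∀ (z : X) (hz : z ∈ Y), ∀ n ∈ U.map Y.subtype, z * n * z⁻¹ ∈ U.map Y.subtype := by
    intro z hz n hn
    obtain ⟨n', hn', rfl⟩ := hn
    exact ⟨⟨z, hz⟩ * n' * ⟨z, hz⟩⁻¹, hU.conj_mem n' hn' ⟨z, hz⟩, rfl⟩
  rw [Subgroup.mem_normalizer_iff]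
  intro n
  constructor
  · exact key y hy n
  · intro h
    have := key y⁻¹ (Y.inv_mem hy) _ h
    have e : y⁻¹ * (y * n * y⁻¹) * y⁻¹⁻¹ = n := by group
    rwa [e] at this

theorem orderOf_dvd_of_pow_prime {p : ℕ} (A : X) (hA : A ^ p = 1) : orderOf A ∣ p :=
  orderOf_dvd_of_pow_eq_one hA

theorem card_zpowers_dvd_prime {p : ℕ} (A : X) (hA : A ^ p = 1) : Nat.card ↥(Subgroup.zpowers A) ∣ p := by
  rw [Nat.card_zpowers]
  exact orderOf_dvd_of_pow_eq_one hA

theorem comm_invariant_r_group_odd [Finite X] {p r : ℕ} [Fact p.Prime] [Fact r.Prime] (hp2 : p ≠ 2)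
    (hr2 : r ≠ 2) (hrp : r ≠ p)
    (hP2 : ∀ Y : Subgroup X, Odd (Nat.card Y) → ∀ U : Sylow p Y, (U : Subgroup Y).Normal)
    (S : Subgroup X) (hS : IsPGroup r S) (A : X) (hA : A ^ p = 1)
    (hAS : A ∈ Subgroup.normalizer (S : Set X)) : ∀ s ∈ S, s * A = A * s := by
  have hp : p.Prime := Fact.out
  have hr : r.Prime := Fact.out
  have hCS : Subgroup.zpowers A ≤ Subgroup.normalizer (S : Set X) := by
    rw [Subgroup.zpowers_le]; exact hAS
  have hCcard := card_zpowers_dvd_prime A hA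
  obtain ⟨k, hk⟩ := IsPGroup.iff_card.mp hS
  have hcop : (Nat.card S).Coprime (Nat.card ↥(Subgroup.zpowers A)) := by
    rw [hk]
    apply Nat.Coprime.pow_left
    exact Nat.Coprime.coprime_dvd_right hCcard ((Nat.coprime_primes hr hp).mpr hrp)
  have hcard := card_sup_of_le_normalizer_coprime S (Subgroup.zpowers A) hCS hcop
  obtain ⟨Y, hY⟩ : ∃ Y : Subgroup X, Y = S ⊔ Subgroup.zpowers A := ⟨_, rfl⟩
  rw [← hY] at hcard
  have hodd : Odd (Nat.card ↥Y) := by
    rw [hcard, hk]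
    apply Odd.mul
    · exact Odd.pow (hr.odd_of_ne_two hr2)
    · exact Odd.of_dvd_nat (hp.odd_of_ne_two hp2) hCcard
  obtain ⟨U⟩ : Nonempty (Sylow p ↥Y) := inferInstance
  haveI hU := hP2 Y hodd U
  have hAY : A ∈ Y := by rw [hY]; exact Subgroup.mem_sup_right (Subgroup.mem_zpowers A)
  have hSY : S ≤ Y := by rw [hY]; exact le_sup_left
  apply commute_of_normal_disjoint ((U : Subgroup ↥Y).map Y.subtype) S A
  · -- `A ∈ N`
    have h1 : IsPGroup p ↥(Subgroup.zpowers (⟨A, hAY⟩ : ↥Y)) := by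
      rintro ⟨g, hg⟩
      refine ⟨1, ?_⟩
      obtain ⟨j, rfl⟩ := Subgroup.mem_zpowers_iff.mp hg
      apply Subtype.ext
      rw [pow_one, Subgroup.coe_pow, Subgroup.coe_one, ← zpow_natCast, ← zpow_mul, mul_comm, zpow_mul,
        zpow_natCast]
      have : (⟨A, hAY⟩ : ↥Y) ^ p = 1 := by
        apply Subtype.ext
        rw [Subgroup.coe_pow, Subgroup.coe_one]
        exact hA
      rw [this, one_zpow]
    obtain ⟨Q, hQ⟩ := h1.exists_le_sylow
    obtain ⟨g, hg⟩ := MulAction.exists_smul_eq ↥Y U Q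
    rw [Sylow.smul_eq_of_normal] at hg
    rw [← hg] at hQ
    exact ⟨⟨A, hAY⟩, hQ (Subgroup.mem_zpowers _), rfl⟩
  · exact hSY.trans (le_normalizer_map_subtype_of_normal' Y (U : Subgroup ↥Y))
  · exact hAS
  · have h1 : IsPGroup p ↥((U : Subgroup ↥Y).map Y.subtype) := U.isPGroup'.map _
    exact (IsPGroup.disjoint_of_ne p r (Ne.symm hrp) _ _ h1 hS).eq_bot

theorem unique_order_two_subgroup
    (hP1 : ∀ x y : X, x ^ 2 = 1 → y ^ 2 = 1 → x ≠ 1 → y ≠ 1 → x = y) (S : Subgroup X) [Finite S] :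
    ∀ H K : Subgroup ↥S, Nat.card H = 2 → Nat.card K = 2 → H = K := by
  have key : ∀ H : Subgroup ↥S, Nat.card H = 2 → ∃ x : ↥S, x ≠ 1 ∧ x ^ 2 = 1 ∧ H = Subgroup.zpowers x := by
    intro H hH
    haveI : Nontrivial ↥H := by
      rw [← Finite.one_lt_card_iff_nontrivial, hH]
      norm_num
    obtain ⟨x, hx⟩ := exists_ne (1 : ↥H)
    have hx2 : x ^ 2 = 1 := by rw [← hH]; exact pow_card_eq_one'
    have hx1 : (x : ↥S) ≠ 1 := fun h => hx (Subtype.ext h)
    have hx2' : (x : ↥S) ^ 2 = 1 := by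
      have := congrArg Subtype.val hx2
      rwa [Subgroup.coe_pow, Subgroup.coe_one] at this
    refine ⟨x, hx1, hx2', ?_⟩
    symm
    apply Subgroup.eq_of_le_of_card_ge
    · rw [Subgroup.zpowers_le]; exact x.2
    · rw [hH, Nat.card_zpowers, orderOf_eq_prime hx2' hx1]
  intro H K hH hK
  obtain ⟨x, hx1, hx2, rfl⟩ := key H hH
  obtain ⟨y, hy1, hy2, rfl⟩ := key K hK
  have hxy : (x : X) = y := by
    apply hP1
    · have := congrArg Subtype.val hx2
      rwa [Subgroup.coe_pow, Subgroup.coe_one] at this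
    · have := congrArg Subtype.val hy2
      rwa [Subgroup.coe_pow, Subgroup.coe_one] at this
    · exact fun h => hx1 (Subtype.ext h)
    · exact fun h => hy1 (Subtype.ext h)
  rw [Subtype.ext hxy]

theorem comm_invariant_2_group [Finite X] {p : ℕ} [Fact p.Prime] (hp2 : p ≠ 2) (hp3 : p ≠ 3)
    (hP1 : ∀ x y : X, x ^ 2 = 1 → y ^ 2 = 1 → x ≠ 1 → y ≠ 1 → x = y)
    (S : Subgroup X) (hS : IsPGroup 2 S) (A : X) (hA : A ^ p = 1)
    (hAS : A ∈ Subgroup.normalizer (S : Set X)) : ∀ s ∈ S, s * A = A * s := by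
  haveI : Fact (Nat.Prime 2) := ⟨Nat.prime_two⟩
  have hp : p.Prime := Fact.out
  have hAodd : Odd (orderOf A) :=
    Odd.of_dvd_nat (hp.odd_of_ne_two hp2) (orderOf_dvd_of_pow_eq_one hA)
  rcases Cfsg.Agent.S0016.result 2 (G := ↥S) hS (unique_order_two_subgroup hP1 S) with hcyc | ⟨-, n, ⟨e⟩⟩
  · -- cyclic
    obtain ⟨c, hc⟩ := hcyc.exists_generator
    obtain ⟨k, hk⟩ : ∃ k : ℕ, orderOf (c : X) = 2 ^ k := by
      obtain ⟨k, hk⟩ := (IsPGroup.iff_orderOf.mp hS) c
      exact ⟨k, by rw [← hk]; exact (Subgroup.orderOf_coe c)⟩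
    have hmemc : ∀ s ∈ S, s ∈ Subgroup.zpowers (c : X) := by
      intro s hs
      obtain ⟨j, hj⟩ := Subgroup.mem_zpowers_iff.mp (hc ⟨s, hs⟩)
      refine Subgroup.mem_zpowers_iff.mpr ⟨j, ?_⟩
      have := congrArg Subtype.val hj
      rwa [Subgroup.coe_zpow] at this
    have hn : A * (c : X) * A⁻¹ ∈ Subgroup.zpowers (c : X) :=
      hmemc _ ((Subgroup.mem_normalizer_iff.mp hAS c).mp c.2)
    have h1 := Cfsg.Agent.Lead.QSyl.odd_centralizes_cyclic (c : X) A k hk hAodd hn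
    have hcomm : Commute A (c : X) := by
      show A * (c : X) = (c : X) * A
      calc A * (c : X) = (A * (c : X) * A⁻¹) * A := by group
        _ = (c : X) * A := by rw [h1]
    intro s hs
    obtain ⟨j, rfl⟩ := Subgroup.mem_zpowers_iff.mp (hmemc s hs)
    exact ((hcomm.zpow_right j).eq).symm
  · -- generalized quaternion
    have hCS : Subgroup.zpowers A ≤ Subgroup.normalizer (S : Set X) := by
      rw [Subgroup.zpowers_le]; exact hAS
    have hCcard := card_zpowers_dvd_prime A hA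
    obtain ⟨k, hk⟩ := IsPGroup.iff_card.mp hS
    have hCodd : Odd (Nat.card ↥(Subgroup.zpowers A)) := Odd.of_dvd_nat (hp.odd_of_ne_two hp2) hCcard
    have hcop : (Nat.card S).Coprime (Nat.card ↥(Subgroup.zpowers A)) := by
      rw [hk]
      apply Nat.Coprime.pow_left
      exact (Nat.coprime_two_left).mpr hCodd
    have hcard := card_sup_of_le_normalizer_coprime S (Subgroup.zpowers A) hCS hcop
    obtain ⟨Y, hY⟩ : ∃ Y : Subgroup X, Y = S ⊔ Subgroup.zpowers A := ⟨_, rfl⟩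
    rw [← hY] at hcard
    have hAY : A ∈ Y := by rw [hY]; exact Subgroup.mem_sup_right (Subgroup.mem_zpowers A)
    have hSY : S ≤ Y := by rw [hY]; exact le_sup_left
    have hSp' : IsPGroup 2 ↥(S.subgroupOf Y) := hS.comap_subtype
    have hcardS' : Nat.card ↥(S.subgroupOf Y) = Nat.card S :=
      Nat.card_congr (Subgroup.subgroupOfEquivOfLe hSY).toEquiv
    have hidx : (S.subgroupOf Y).index = Nat.card ↥(Subgroup.zpowers A) := by
      have h1 := (S.subgroupOf Y).card_mul_index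
      rw [hcardS', hcard] at h1
      exact Nat.eq_of_mul_eq_mul_left Nat.card_pos h1
    have hidx' : ¬ 2 ∣ (S.subgroupOf Y).index := by
      rw [hidx]
      exact fun h => (Nat.not_even_iff_odd.mpr hCodd) (even_iff_two_dvd.mpr h)
    obtain ⟨T, hT⟩ : ∃ T : Sylow 2 ↥Y, (T : Subgroup ↥Y) = S.subgroupOf Y :=
      ⟨hSp'.toSylow hidx', hSp'.toSylow_coe hidx'⟩
    have hTe : Nonempty (↥(T : Subgroup ↥Y) ≃* QuaternionGroup (2 ^ n)) := by
      rw [hT]
      exact ⟨(Subgroup.subgroupOfEquivOfLe hSY).trans e⟩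
    rcases Cfsg.Agent.Lead.QSyl.main T n hTe with ⟨P, N', hN'n, hcompl⟩ | ⟨H, K, hK, ⟨e'⟩⟩
    · haveI := hN'n
      have hcardP : Nat.card ↥(P : Subgroup ↥Y) = Nat.card S := by
        have h1 : Nat.card ↥(P : Subgroup ↥Y) = Nat.card ↥(T : Subgroup ↥Y) := by
          rw [Sylow.card_eq_multiplicity P, Sylow.card_eq_multiplicity T]
        rw [h1, hT, hcardS']
      have hcardN' : Nat.card ↥N' = Nat.card ↥(Subgroup.zpowers A) := by
        have h1 := hcompl.card_mul_card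
        rw [hcardP, hcard, mul_comm] at h1
        exact Nat.eq_of_mul_eq_mul_left Nat.card_pos h1
      have hidxN' : N'.index = 2 ^ k := by
        have h1 := N'.card_mul_index
        rw [hcardN', hcard, hk, mul_comm] at h1
        exact Nat.eq_of_mul_eq_mul_right Nat.card_pos h1
      apply commute_of_normal_disjoint (N'.map Y.subtype) S A
      · refine ⟨⟨A, hAY⟩, ?_, rfl⟩
        rw [SetLike.mem_coe, ← QuotientGroup.eq_one_iff]
        have h1 : (QuotientGroup.mk (⟨A, hAY⟩ : ↥Y) : ↥Y ⧸ N') ^ (2 ^ k) = 1 := by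
          rw [← hidxN', Subgroup.index, ]
          exact pow_card_eq_one'
        have h2 : (QuotientGroup.mk (⟨A, hAY⟩ : ↥Y) : ↥Y ⧸ N') ^ p = 1 := by
          rw [← QuotientGroup.mk_pow]
          have : (⟨A, hAY⟩ : ↥Y) ^ p = 1 := by
            apply Subtype.ext
            rw [Subgroup.coe_pow, Subgroup.coe_one]
            exact hA
          rw [this]
          rfl
        have h3 : orderOf (QuotientGroup.mk (⟨A, hAY⟩ : ↥Y) : ↥Y ⧸ N') ∣ Nat.gcd (2 ^ k) p :=
          Nat.dvd_gcd (orderOf_dvd_of_pow_eq_one h1) (orderOf_dvd_of_pow_eq_one h2)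
        have h4 : Nat.gcd (2 ^ k) p = 1 := by
          apply Nat.Coprime.pow_left
          exact (Nat.coprime_primes Nat.prime_two hp).mpr (Ne.symm hp2)
        rw [h4, Nat.dvd_one] at h3
        exact orderOf_eq_one_iff.mp h3
      · exact hSY.trans (le_normalizer_map_subtype_of_normal' Y N')
      · exact hAS
      · apply (Subgroup.disjoint_of_coprime_natCard _).eq_bot
        rw [Nat.card_congr (Subgroup.equivMapOfInjective N' _ Y.subtype_injective).toEquiv.symm, hcardN']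
        exact hcop.symm
    · exfalso
      apply hp3
      have h3 : 3 ∣ Nat.card (Matrix.SpecialLinearGroup (Fin 2) (ZMod 3)) := by
        have := orderOf_dvd_natCard Cfsg.Agent.S1303.u3
        rwa [Cfsg.Agent.S1303.u3_order] at this
      rw [← Nat.card_congr e'.toEquiv] at h3
      have h4 : Nat.card (↥H ⧸ K.subgroupOf H) ∣ Nat.card ↥H := by
        have := (K.subgroupOf H).card_mul_index
        rw [← this]
        exact dvd_mul_left _ _
      have h5 : Nat.card ↥H ∣ Nat.card ↥Y := Subgroup.card_subgroup_dvd_card H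
      have h6 : 3 ∣ 2 ^ k * Nat.card ↥(Subgroup.zpowers A) := by
        rw [← hk, ← hcard]
        exact h3.trans (h4.trans h5)
      have h7 : 3 ∣ Nat.card ↥(Subgroup.zpowers A) := by
        rcases (Nat.Prime.dvd_mul Nat.prime_three).mp h6 with h | h
        · exfalso
          have := Nat.Prime.dvd_of_dvd_pow Nat.prime_three h
          omega
        · exact h
      have h8 : 3 ∣ p := h7.trans hCcard
      exact ((Nat.prime_dvd_prime_iff_eq Nat.prime_three hp).mp h8).symm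

theorem p_eq_three_of_action [Finite X] {p : ℕ} [Fact p.Prime] (hp2 : p ≠ 2)
    (hP1 : ∀ x y : X, x ^ 2 = 1 → y ^ 2 = 1 → x ≠ 1 → y ≠ 1 → x = y)
    (hP2 : ∀ Y : Subgroup X, Odd (Nat.card Y) → ∀ U : Sylow p Y, (U : Subgroup Y).Normal)
    (R : Subgroup X) [hRn : R.Normal] (hR : (Nat.card R).Coprime p) (A : X) (hA : A ^ p = 1)
    (hAR : A ∉ Subgroup.centralizer (R : Set X)) : p = 3 := by
  by_contra hp3
  apply hAR
  have hp : p.Prime := Fact.out
  have hCR : Subgroup.zpowers A ≤ Subgroup.normalizer (R : Set X) := by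
    rw [Subgroup.normalizer_eq_top]; exact le_top
  have hCcard := card_zpowers_dvd_prime A hA
  have hcop : (Nat.card ↥(Subgroup.zpowers A)).Coprime (Nat.card R) :=
    Nat.Coprime.coprime_dvd_left hCcard hR.symm
  have hsolv : Group.IsSolvable ↥(Subgroup.zpowers A) := inferInstance
  have key : ∀ r : ℕ, ∀ [Fact r.Prime], ∃ P : Sylow r ↥R,
      (P : Subgroup ↥R) ≤ (Subgroup.centralizer ({A} : Set X)).subgroupOf R := by
    intro r _
    have hr : r.Prime := Fact.out
    obtain ⟨P, -, hP⟩ := Cfsg.Agent.S0025.result (Subgroup.zpowers A) R hCR hcop (Or.inl hsolv) r ⊥ bot_le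
      IsPGroup.of_bot (by rw [Subgroup.normalizer_eq_top]; exact le_top)
    refine ⟨P, ?_⟩
    have hAS : A ∈ Subgroup.normalizer (((P : Subgroup ↥R).map R.subtype : Subgroup X) : Set X) :=
      hP (Subgroup.mem_zpowers A)
    have hS : IsPGroup r ↥((P : Subgroup ↥R).map R.subtype) := P.isPGroup'.map _
    have hcomm : ∀ s ∈ (P : Subgroup ↥R).map R.subtype, s * A = A * s := by
      by_cases hrp : r = p
      · have hbot : (P : Subgroup ↥R).map R.subtype = ⊥ := by
          obtain ⟨k, hk⟩ := IsPGroup.iff_card.mp hS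
          have h1 : Nat.card ↥((P : Subgroup ↥R).map R.subtype) ∣ Nat.card R :=
            Subgroup.card_dvd_of_le (Subgroup.map_subtype_le _)
          rw [hk, hrp] at h1
          have h2 : (p ^ k).Coprime p := Nat.Coprime.coprime_dvd_left h1 hR
          have hk0 : k = 0 := by
            by_contra hk0
            have h3 : p ∣ Nat.gcd (p ^ k) p := Nat.dvd_gcd (dvd_pow_self p hk0) dvd_rfl
            rw [h2, Nat.dvd_one] at h3
            exact hp.one_lt.ne' h3
          rw [hk0, pow_zero] at hk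
          exact Subgroup.card_eq_one.mp hk
        intro s hs
        rw [hbot, Subgroup.mem_bot] at hs
        rw [hs, one_mul, mul_one]
      · by_cases hr2 : r = 2
        · subst hr2
          exact comm_invariant_2_group hp2 hp3 hP1 _ hS A hA hAS
        · exact comm_invariant_r_group_odd hp2 hr2 hrp hP2 _ hS A hA hAS
    intro x hx
    rw [Subgroup.mem_subgroupOf, mem_centralizer_singleton_iff]
    exact hcomm x.1 ⟨x, hx, rfl⟩
  have htop := eq_top_of_forall_sylow_le _ key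
  rw [Subgroup.mem_centralizer_iff]
  intro x hx
  have h1 : (⟨x, hx⟩ : ↥R) ∈ (Subgroup.centralizer ({A} : Set X)).subgroupOf R := by
    rw [htop]; exact Subgroup.mem_top _
  rw [Subgroup.mem_subgroupOf, mem_centralizer_singleton_iff] at h1
  exact h1

end abs3

section hhdual
open Cfsg Cfsg.Agent.Lib.Lead.PSolvable
variable {G : Type*} [Group G] {p : ℕ}

theorem le_of_central_hall_of_pCore_bot [Finite G] [hp : Fact p.Prime] (hbot : pCore p G = ⊥)
    {D D₀ : Subgroup G} [hD : D.Normal] (hle : D₀ ≤ D)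
    (hidx : ∃ m : ℕ, D₀.relIndex D = p ^ m) (hcen : ∀ x ∈ D₀, ∀ d ∈ D, d * x = x * d) : D ≤ D₀ := by
  obtain ⟨m, hm⟩ := hidx
  obtain ⟨T⟩ : Nonempty (Sylow p ↥D) := inferInstance
  have hD₀c : D₀.subgroupOf D ≤ Subgroup.center ↥D := by
    intro x hx
    rw [Subgroup.mem_subgroupOf] at hx
    rw [Subgroup.mem_center_iff]
    intro d
    apply Subtype.ext
    rw [Subgroup.coe_mul, Subgroup.coe_mul]
    exact hcen x.1 hx d.1 d.2
  have hQtop : D₀.subgroupOf D ⊔ (T : Subgroup ↥D) = ⊤ := by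
    rw [← Subgroup.index_eq_one]
    by_contra hne
    have h1 : (D₀.subgroupOf D ⊔ (T : Subgroup ↥D)).index ∣ p ^ m := by
      rw [← hm]
      exact Subgroup.index_dvd_of_le le_sup_left
    have h2 : (D₀.subgroupOf D ⊔ (T : Subgroup ↥D)).index ∣ (T : Subgroup ↥D).index :=
      Subgroup.index_dvd_of_le le_sup_right
    obtain ⟨j, -, hj⟩ := (Nat.dvd_prime_pow hp.out).mp h1
    have hj0 : j ≠ 0 := by
      intro h
      rw [h, pow_zero] at hj
      exact hne hj
    have h3 : p ∣ (D₀.subgroupOf D ⊔ (T : Subgroup ↥D)).index := by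
      rw [hj]; exact dvd_pow_self p hj0
    exact T.not_dvd_index (h3.trans h2)
  haveI hTn : (T : Subgroup ↥D).Normal := by
    rw [← Subgroup.normalizer_eq_top_iff, eq_top_iff, ← hQtop, sup_le_iff]
    refine ⟨?_, Subgroup.le_normalizer⟩
    intro x hx
    have hxc := hD₀c hx
    rw [Subgroup.mem_normalizer_iff]
    intro t
    have : x * t * x⁻¹ = t := by
      rw [Subgroup.mem_center_iff] at hxc
      rw [← hxc t, mul_inv_cancel_right]
    rw [this]
  haveI hTc : (T : Subgroup ↥D).Characteristic := Sylow.characteristic_of_normal T hTn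
  haveI hTG : ((T : Subgroup ↥D).map D.subtype).Normal := ConjAct.normal_of_characteristic_of_normal
  have hTp : IsPGroup p ↥((T : Subgroup ↥D).map D.subtype) := T.isPGroup'.map _
  have h1 : (T : Subgroup ↥D).map D.subtype ≤ pCore p G := Cfsg.Agent.H1.le_pCore hTG hTp
  rw [hbot, le_bot_iff, Subgroup.map_eq_bot_iff_of_injective _ D.subtype_injective] at h1
  have h2 : ¬ p ∣ Nat.card ↥D := fun h => T.ne_bot_of_dvd_card h h1
  have h3 : D₀.relIndex D ∣ Nat.card ↥D := by
    rw [Subgroup.relIndex]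
    exact Subgroup.index_dvd_card _
  have hm0 : m = 0 := by
    by_contra hm0
    apply h2
    rw [hm] at h3
    exact (dvd_pow_self p hm0).trans h3
  rw [hm0, pow_zero] at hm
  exact Subgroup.relIndex_eq_one.mp hm

/-- dual of Hall–Higman 1.2.3: `p`-solvable and `O_p(G) = 1` imply `C_G(O_{p'}(G)) ≤ O_{p'}(G)` -/
theorem centralizer_pPrimeCore_le [Finite G] [hp : Fact p.Prime] (hsol : IsPSolvable p G)
    (hbot : pCore p G = ⊥) :
    Subgroup.centralizer ((pPrimeCore p G : Subgroup G) : Set G) ≤ pPrimeCore p G := by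
  obtain ⟨n, H, h0, hlast, hmono, hnorm, hfac⟩ := hsol
  haveI hPn : (pPrimeCore p G).Normal := Cfsg.Agent.H1.pPrimeCore_normal p
  haveI hCn : (Subgroup.centralizer ((pPrimeCore p G : Subgroup G) : Set G)).Normal :=
    Subgroup.normal_centralizer
  have hPp : (Nat.card ↥(pPrimeCore p G)).Coprime p := Cfsg.Agent.H1.pPrimeCore_coprime p
  have key : ∀ i : Fin (n + 1),
      Subgroup.centralizer ((pPrimeCore p G : Subgroup G) : Set G) ⊓ H i ≤ pPrimeCore p G := by
    intro i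
    induction i using Fin.induction with
    | zero => rw [h0, inf_bot_eq]; exact bot_le
    | succ i ih =>
      haveI := hnorm i.succ
      haveI := hnorm i.castSucc
      have hHle : H i.castSucc ≤ H i.succ := hmono (Fin.castSucc_lt_succ (i := i)).le
      set C := Subgroup.centralizer ((pPrimeCore p G : Subgroup G) : Set G) with hC
      haveI hDn : (C ⊓ H i.succ).Normal := Subgroup.normal_inf_normal C (H i.succ)
      have hD₀D : C ⊓ H i.castSucc ≤ C ⊓ H i.succ := inf_le_inf_left C hHle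
      have hD₀eq : C ⊓ H i.castSucc = H i.castSucc ⊓ (C ⊓ H i.succ) := by
        apply le_antisymm
        · exact le_inf inf_le_right hD₀D
        · exact le_inf (inf_le_right.trans inf_le_left) inf_le_left
      have hrel : (C ⊓ H i.castSucc).relIndex (C ⊓ H i.succ) ∣ (H i.castSucc).relIndex (H i.succ) := by
        rw [hD₀eq, Subgroup.inf_relIndex_right]
        exact relIndex_dvd_relIndex_of_le hHle inf_le_right
      have hD₀p : (Nat.card ↥(C ⊓ H i.castSucc)).Coprime p :=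
        Nat.Coprime.coprime_dvd_left (Subgroup.card_dvd_of_le ih) hPp
      have hcardD : Nat.card ↥(C ⊓ H i.castSucc) * (C ⊓ H i.castSucc).relIndex (C ⊓ H i.succ) =
          Nat.card ↥(C ⊓ H i.succ) := by
        have := Subgroup.relIndex_mul_relIndex ⊥ (C ⊓ H i.castSucc) (C ⊓ H i.succ) bot_le hD₀D
        rwa [Subgroup.relIndex_bot_left, Subgroup.relIndex_bot_left] at this
      rcases PP.of_dvd hp.out hrel (hfac i) with ⟨m, hm⟩ | hcop
      · have := le_of_central_hall_of_pCore_bot hbot hD₀D ⟨m, hm⟩ (fun x hx d hd => by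
          have hxP : x ∈ pPrimeCore p G := ih hx
          have hdC : d ∈ C := (Subgroup.mem_inf.1 hd).1
          exact (Subgroup.mem_centralizer_iff.1 hdC x hxP).symm)
        exact this.trans ih
      · apply Cfsg.Agent.H1.le_pPrimeCore hDn
        rw [← hcardD]
        exact Nat.Coprime.mul_left hD₀p hcop
  have := key (Fin.last n)
  rwa [hlast, inf_top_eq] at this

end hhdual

theorem exists_center_order_p' {P : Type*} [Group P] [Finite P] {p : ℕ} [Fact p.Prime] (hP : IsPGroup p P)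
    [Nontrivial P] : ∃ z : P, z ∈ Subgroup.center P ∧ orderOf z = p := by
  haveI : Nontrivial ↥(Subgroup.center P) := hP.center_nontrivial
  have hZp : IsPGroup p ↥(Subgroup.center P) := hP.to_subgroup _
  obtain ⟨k, hk⟩ := IsPGroup.iff_card.mp hZp
  have hk0 : k ≠ 0 := by
    intro h
    rw [h, pow_zero] at hk
    have := (Finite.one_lt_card_iff_nontrivial (α := ↥(Subgroup.center P))).mpr inferInstance
    omega
  have hdvd : p ∣ Nat.card ↥(Subgroup.center P) := by rw [hk]; exact dvd_pow_self p hk0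
  obtain ⟨z, hz⟩ := exists_prime_orderOf_dvd_card' p hdvd
  exact ⟨z.1, z.2, by rw [← hz]; exact (Subgroup.orderOf_coe z)⟩

section sl2more
open Matrix
variable {K : Type*} [Field K] {p : ℕ} [Fact p.Prime] [CharP K p]

theorem mat2_fixed_line (M : Matrix (Fin 2) (Fin 2) K) (hM : M ≠ 1) (v w : Fin 2 → K) (hv : v ≠ 0)
    (hMv : M.mulVec v = v) (hMw : M.mulVec w = w) : w ∈ Submodule.span K {v} := by
  have e0 := congrFun hMv 0
  have e1 := congrFun hMv 1
  have f0 := congrFun hMw 0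
  have f1 := congrFun hMw 1
  simp only [Matrix.mulVec, dotProduct, Fin.sum_univ_two] at e0 e1 f0 f1
  have hD : v 0 * w 1 - v 1 * w 0 = 0 := by
    by_contra hD
    apply hM
    have h00 : (M 0 0 - 1) * (v 0 * w 1 - v 1 * w 0) = 0 := by linear_combination w 1 * e0 - v 1 * f0
    have h01 : (M 0 1) * (v 0 * w 1 - v 1 * w 0) = 0 := by linear_combination v 0 * f0 - w 0 * e0
    have h10 : (M 1 0) * (v 0 * w 1 - v 1 * w 0) = 0 := by linear_combination w 1 * e1 - v 1 * f1
    have h11 : (M 1 1 - 1) * (v 0 * w 1 - v 1 * w 0) = 0 := by linear_combination v 0 * f1 - w 0 * e1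
    have g00 := (mul_eq_zero.mp h00).resolve_right hD
    have g01 := (mul_eq_zero.mp h01).resolve_right hD
    have g10 := (mul_eq_zero.mp h10).resolve_right hD
    have g11 := (mul_eq_zero.mp h11).resolve_right hD
    ext i j
    fin_cases i <;> fin_cases j
    · simpa [sub_eq_zero] using g00
    · simpa using g01
    · simpa using g10
    · simpa [sub_eq_zero] using g11
  rw [Submodule.mem_span_singleton]
  by_cases hv0 : v 0 = 0
  · have hv1 : v 1 ≠ 0 := by
      intro hv1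
      apply hv
      ext i
      fin_cases i
      · exact hv0
      · exact hv1
    refine ⟨w 1 / v 1, ?_⟩
    ext i
    fin_cases i
    · simp only [Fin.zero_eta, Pi.smul_apply, smul_eq_mul]
      rw [hv0, mul_zero]
      rw [hv0, zero_mul, zero_sub, neg_eq_zero] at hD
      exact ((mul_eq_zero.mp hD).resolve_left hv1).symm
    · simp only [Fin.mk_one, Pi.smul_apply, smul_eq_mul]
      field_simp
  · refine ⟨w 0 / v 0, ?_⟩
    ext i
    fin_cases i
    · simp only [Fin.zero_eta, Pi.smul_apply, smul_eq_mul]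
      field_simp
    · simp only [Fin.mk_one, Pi.smul_apply, smul_eq_mul]
      field_simp
      linear_combination -hD

theorem sl2_exists_fix_of_pow (g : Matrix.SpecialLinearGroup (Fin 2) K) (k : ℕ) (hg : g ^ p ^ k = 1) :
    ∃ v : Fin 2 → K, v ≠ 0 ∧ g.1.mulVec v = v := by
  have h1 : (g.1 - 1) ^ p ^ k = 0 := by
    rw [sub_pow_char_pow_of_commute p k (Commute.one_right _), one_pow, sub_eq_zero,
      ← Matrix.SpecialLinearGroup.coe_pow, hg]
    rfl
  have h2 : (g.1 - 1).det = 0 := by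
    have := congrArg Matrix.det h1
    rw [Matrix.det_pow, Matrix.det_zero] at this
    exact pow_eq_zero_iff (pow_ne_zero k (Fact.out : p.Prime).ne_zero) |>.mp this
  obtain ⟨v, hv, hv0⟩ := Matrix.exists_mulVec_eq_zero_iff.mpr h2
  refine ⟨v, hv, ?_⟩
  rw [Matrix.sub_mulVec, Matrix.one_mulVec, sub_eq_zero] at hv0
  exact hv0

theorem sl2_fix_of_scal (g : Matrix.SpecialLinearGroup (Fin 2) K) (k : ℕ) (v : Fin 2 → K) (hv : v ≠ 0)
    (hg : g ^ p ^ k = 1) (hmem : g.1.mulVec v ∈ Submodule.span K {v}) : g.1.mulVec v = v := by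
  obtain ⟨c, hc⟩ := Submodule.mem_span_singleton.mp hmem
  have hpow : ∀ n : ℕ, (g ^ n).1.mulVec v = c ^ n • v := by
    intro n
    induction n with
    | zero => rw [pow_zero, pow_zero, one_smul, Matrix.SpecialLinearGroup.coe_one, Matrix.one_mulVec]
    | succ n ih =>
      rw [pow_succ, Matrix.SpecialLinearGroup.coe_mul, ← Matrix.mulVec_mulVec, ← hc, Matrix.mulVec_smul, ih,
        smul_smul, pow_succ, mul_comm]
  have h1 := hpow (p ^ k)
  rw [hg, Matrix.SpecialLinearGroup.coe_one, Matrix.one_mulVec] at h1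
  have h2 : (c ^ p ^ k - 1) • v = 0 := by rw [sub_smul, one_smul, ← h1, sub_self]
  rcases smul_eq_zero.mp h2 with h3 | h3
  · have hc1 : c = 1 := eq_one_of_pow_char_pow_eq_one (p := p) c k (sub_eq_zero.mp h3)
    rw [← hc, hc1, one_smul]
  · exact absurd h3 hv

theorem sl2_isPGroup_of_common_fix (L : Subgroup (Matrix.SpecialLinearGroup (Fin 2) K))
    (A B : Matrix.SpecialLinearGroup (Fin 2) K) (hL : L = Subgroup.closure {A, B}) (v : Fin 2 → K)
    (hv : v ≠ 0) (hAv : A.1.mulVec v = v) (hBv : B.1.mulVec v = v) : IsPGroup p ↥L := by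
  have hall : ∀ g ∈ L, g.1.mulVec v = v := by
    intro g hg
    rw [hL] at hg
    induction hg using Subgroup.closure_induction with
    | mem g hg =>
      rcases hg with rfl | hg
      · exact hAv
      · rw [Set.mem_singleton_iff] at hg
        subst hg
        exact hBv
    | one => rw [Matrix.SpecialLinearGroup.coe_one, Matrix.one_mulVec]
    | mul f g _ _ hf hg =>
      rw [Matrix.SpecialLinearGroup.coe_mul, ← Matrix.mulVec_mulVec, hg, hf]
    | inv f _ hf =>
      have h1 : (f⁻¹).1.mulVec (f.1.mulVec v) = v := by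
        rw [Matrix.mulVec_mulVec, ← Matrix.SpecialLinearGroup.coe_mul, inv_mul_cancel,
          Matrix.SpecialLinearGroup.coe_one, Matrix.one_mulVec]
      rw [hf] at h1
      exact h1
  intro g
  refine ⟨1, ?_⟩
  rw [pow_one]
  apply Subtype.ext
  rw [Subgroup.coe_pow, Subgroup.coe_one]
  exact sl2_pow_char_of_fix g.1 v hv (hall g.1 g.2)

theorem sl2_sub_unique_involution (hp2 : p ≠ 2) (L : Subgroup (Matrix.SpecialLinearGroup (Fin 2) K)) :
    ∀ x y : ↥L, x ^ 2 = 1 → y ^ 2 = 1 → x ≠ 1 → y ≠ 1 → x = y := by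
  have h2K : (2 : K) ≠ 0 := two_ne_zero_of_char (p := p) hp2
  have key : ∀ x : ↥L, x ^ 2 = 1 → x ≠ 1 → (x : Matrix.SpecialLinearGroup (Fin 2) K).1 = -1 := by
    intro x hx hx1
    have h1 : (x : Matrix.SpecialLinearGroup (Fin 2) K) ^ 2 = 1 := by
      have := congrArg Subtype.val hx
      rwa [Subgroup.coe_pow, Subgroup.coe_one] at this
    rcases sl2_sq_eq_one h2K _ h1 with h | h
    · exact absurd (Subtype.ext h) hx1
    · exact h
  intro x y hx hy hx1 hy1
  apply Subtype.ext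
  apply Subtype.ext
  rw [key x hx hx1, key y hy hy1]

theorem sl2_sub_odd_sylow_normal (hp2 : p ≠ 2) (L : Subgroup (Matrix.SpecialLinearGroup (Fin 2) K))
    [Finite L] (Y : Subgroup ↥L) (hodd : Odd (Nat.card Y)) (U : Sylow p ↥Y) :
    (U : Subgroup ↥Y).Normal := by
  obtain ⟨f, hf⟩ : ∃ f : ↥L →* GL (Fin 2) K, f = Matrix.SpecialLinearGroup.toGL.comp L.subtype := ⟨_, rfl⟩
  have hfinj : Function.Injective f := by
    rw [hf]
    exact Matrix.SpecialLinearGroup.toGL_injective.comp L.subtype_injective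
  obtain ⟨e, he⟩ : ∃ e : ↥Y ≃* ↥(Y.map f), e = Y.equivMapOfInjective f hfinj := ⟨_, rfl⟩
  haveI : Finite ↥(Y.map f) := Finite.of_equiv _ e.toEquiv
  have hcard : Nat.card ↥(Y.map f) = Nat.card ↥Y := (Nat.card_congr e.toEquiv).symm
  have hU' := Cfsg.Agent.Lib.Helper4.GL2Odd.sylow_normal (p := p) hp2 (Y.map f) (by rw [hcard]; exact hodd)
    (U.mapSurjective (f := e.toMonoidHom) e.surjective)
  have hU'' : ((U : Subgroup ↥Y).map e.toMonoidHom).Normal := hU'
  have h1 : (U : Subgroup ↥Y) = ((U : Subgroup ↥Y).map e.toMonoidHom).comap e.toMonoidHom :=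
    (Subgroup.comap_map_eq_self_of_injective e.injective _).symm
  rw [h1]
  exact Subgroup.Normal.comap hU'' _

theorem sl2_pCore_eq_bot (L : Subgroup (Matrix.SpecialLinearGroup (Fin 2) K)) [Finite L]
    (A B : Matrix.SpecialLinearGroup (Fin 2) K) (hL : L = Subgroup.closure {A, B})
    (hA : A ^ p = 1) (hB : B ^ p = 1) (hnp : ¬ IsPGroup p L) : Cfsg.pCore p ↥L = ⊥ := by
  by_contra hne
  have hPp : IsPGroup p ↥(Cfsg.pCore p ↥L) := pCore_isPGroup p
  haveI hPn : (Cfsg.pCore p ↥L).Normal := pCore_normal p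
  obtain ⟨z, hzP, hzc, hzp, hz1⟩ : ∃ z ∈ Cfsg.pCore p ↥L, z ∈ Subgroup.centralizer ((Cfsg.pCore p ↥L : Subgroup ↥L) : Set ↥L) ∧
      z ^ p = 1 ∧ z ≠ 1 := by
    haveI : Nontrivial ↥(Cfsg.pCore p ↥L) := (Subgroup.nontrivial_iff_ne_bot _).mpr hne
    obtain ⟨z, hzc, hzo⟩ := exists_center_order_p' hPp
    refine ⟨z.1, z.2, ?_, ?_, ?_⟩
    · rw [Subgroup.mem_centralizer_iff]
      intro x hx
      have := Subgroup.mem_center_iff.mp hzc ⟨x, hx⟩
      exact congrArg Subtype.val this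
    · have h1 : z ^ p = 1 := by
        have := pow_orderOf_eq_one z
        rwa [hzo] at this
      have := congrArg Subtype.val h1
      rwa [Subgroup.coe_pow, Subgroup.coe_one] at this
    · intro h
      have h1 : z = 1 := Subtype.ext h
      rw [h1, orderOf_one] at hzo
      exact (Fact.out : p.Prime).one_lt.ne hzo
  have hzp' : (z : Matrix.SpecialLinearGroup (Fin 2) K) ^ p ^ 1 = 1 := by
    rw [pow_one]
    have := congrArg Subtype.val hzp
    rwa [Subgroup.coe_pow, Subgroup.coe_one] at this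
  have hz1' : (z : Matrix.SpecialLinearGroup (Fin 2) K).1 ≠ 1 := by
    intro h
    apply hz1
    apply Subtype.ext
    apply Subtype.ext
    exact h
  obtain ⟨v, hv, hzv⟩ := sl2_exists_fix_of_pow (p := p) (z : Matrix.SpecialLinearGroup (Fin 2) K) 1 hzp'
  have hPfix : ∀ g ∈ Cfsg.pCore p ↥L, (g : Matrix.SpecialLinearGroup (Fin 2) K).1.mulVec v = v := by
    intro g hg
    have hcomm : g * z = z * g := Subgroup.mem_centralizer_iff.mp hzc g hg
    have hcomm' : (g : Matrix.SpecialLinearGroup (Fin 2) K).1 * (z : Matrix.SpecialLinearGroup (Fin 2) K).1 =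
        (z : Matrix.SpecialLinearGroup (Fin 2) K).1 * (g : Matrix.SpecialLinearGroup (Fin 2) K).1 := by
      have := congrArg (fun x : ↥L => (x : Matrix.SpecialLinearGroup (Fin 2) K).1) hcomm
      simpa using this
    have h1 : (z : Matrix.SpecialLinearGroup (Fin 2) K).1.mulVec
        ((g : Matrix.SpecialLinearGroup (Fin 2) K).1.mulVec v) =
        (g : Matrix.SpecialLinearGroup (Fin 2) K).1.mulVec v := by
      rw [Matrix.mulVec_mulVec, ← hcomm', ← Matrix.mulVec_mulVec, hzv]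
    have h2 := mat2_fixed_line _ hz1' v _ hv hzv h1
    obtain ⟨k, hk⟩ := hPp ⟨g, hg⟩
    have hk' : (g : Matrix.SpecialLinearGroup (Fin 2) K) ^ p ^ k = 1 := by
      have := congrArg (fun x : ↥(Cfsg.pCore p ↥L) => ((x : ↥L) : Matrix.SpecialLinearGroup (Fin 2) K)) hk
      simpa using this
    exact sl2_fix_of_scal (p := p) _ k v hv hk' h2
  have hLinv : ∀ h : ↥L, (h : Matrix.SpecialLinearGroup (Fin 2) K).1.mulVec v ∈ Submodule.span K {v} := by
    intro h
    have h1 : h⁻¹ * z * h ∈ Cfsg.pCore p ↥L := by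
      have := hPn.conj_mem z hzP h⁻¹
      rwa [inv_inv] at this
    have h2 := hPfix _ h1
    apply mat2_fixed_line _ hz1' v _ hv hzv
    have h3 : ((h⁻¹ * z * h : ↥L) : Matrix.SpecialLinearGroup (Fin 2) K).1 =
        (h : Matrix.SpecialLinearGroup (Fin 2) K)⁻¹.1 * (z : Matrix.SpecialLinearGroup (Fin 2) K).1 *
          (h : Matrix.SpecialLinearGroup (Fin 2) K).1 := by
      simp
    rw [h3] at h2
    have h4 : (h : Matrix.SpecialLinearGroup (Fin 2) K).1 * (h : Matrix.SpecialLinearGroup (Fin 2) K)⁻¹.1 = 1 := by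
      rw [← Matrix.SpecialLinearGroup.coe_mul, mul_inv_cancel]
      rfl
    calc (z : Matrix.SpecialLinearGroup (Fin 2) K).1.mulVec ((h : Matrix.SpecialLinearGroup (Fin 2) K).1.mulVec v)
        = ((h : Matrix.SpecialLinearGroup (Fin 2) K).1 * (h : Matrix.SpecialLinearGroup (Fin 2) K)⁻¹.1).mulVec
          ((z : Matrix.SpecialLinearGroup (Fin 2) K).1.mulVec ((h : Matrix.SpecialLinearGroup (Fin 2) K).1.mulVec v)) := by
          rw [h4, Matrix.one_mulVec]
      _ = (h : Matrix.SpecialLinearGroup (Fin 2) K).1.mulVec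
          (((h : Matrix.SpecialLinearGroup (Fin 2) K)⁻¹.1 * (z : Matrix.SpecialLinearGroup (Fin 2) K).1 *
          (h : Matrix.SpecialLinearGroup (Fin 2) K).1).mulVec v) := by
          simp only [Matrix.mulVec_mulVec, mul_assoc]
      _ = (h : Matrix.SpecialLinearGroup (Fin 2) K).1.mulVec v := by rw [h2]
  have hAL : A ∈ L := by rw [hL]; exact Subgroup.subset_closure (Set.mem_insert _ _)
  have hBL : B ∈ L := by rw [hL]; exact Subgroup.subset_closure (Set.mem_insert_of_mem _ rfl)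
  apply hnp
  apply sl2_isPGroup_of_common_fix L A B hL v hv
  · exact sl2_fix_of_scal (p := p) A 1 v hv (by rw [pow_one]; exact hA) (hLinv ⟨A, hAL⟩)
  · exact sl2_fix_of_scal (p := p) B 1 v hv (by rw [pow_one]; exact hB) (hLinv ⟨B, hBL⟩)

theorem sl2_p_eq_three (hp2 : p ≠ 2) (L : Subgroup (Matrix.SpecialLinearGroup (Fin 2) K)) [Finite L]
    (A B : Matrix.SpecialLinearGroup (Fin 2) K) (hL : L = Subgroup.closure {A, B})
    (hA : A ^ p = 1) (hB : B ^ p = 1) (hnp : ¬ IsPGroup p L) (hsol : Cfsg.IsPSolvable p ↥L) : p = 3 := by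
  have hp : p.Prime := Fact.out
  have hbot := sl2_pCore_eq_bot L A B hL hA hB hnp
  have hHH := centralizer_pPrimeCore_le hsol hbot
  haveI hRn : (Cfsg.pPrimeCore p ↥L).Normal := pPrimeCore_normal p
  have hR : (Nat.card ↥(Cfsg.pPrimeCore p ↥L)).Coprime p := pPrimeCore_coprime p
  have hAL : A ∈ L := by rw [hL]; exact Subgroup.subset_closure (Set.mem_insert _ _)
  have hBL : B ∈ L := by rw [hL]; exact Subgroup.subset_closure (Set.mem_insert_of_mem _ rfl)
  have hex : ∃ c : ↥L, c ^ p = 1 ∧ c ≠ 1 := by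
    by_contra hcon
    push Not at hcon
    apply hnp
    have h1 : (⟨A, hAL⟩ : ↥L) = 1 := hcon _ (by apply Subtype.ext; rw [Subgroup.coe_pow, Subgroup.coe_one]; exact hA)
    have h2 : (⟨B, hBL⟩ : ↥L) = 1 := hcon _ (by apply Subtype.ext; rw [Subgroup.coe_pow, Subgroup.coe_one]; exact hB)
    have hA1 : A = 1 := congrArg Subtype.val h1
    have hB1 : B = 1 := congrArg Subtype.val h2
    have : L = ⊥ := by
      rw [hL, hA1, hB1, Subgroup.closure_eq_bot_iff]
      intro g hg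
      rcases hg with rfl | hg
      · rfl
      · exact hg
    rw [this]
    exact IsPGroup.of_bot
  obtain ⟨c, hc, hc1⟩ := hex
  apply p_eq_three_of_action hp2 (sl2_sub_unique_involution (p := p) hp2 L)
    (fun Y hY U => sl2_sub_odd_sylow_normal hp2 L Y hY U) (Cfsg.pPrimeCore p ↥L) hR c hc
  intro hcC
  have hcR := hHH hcC
  have hord : orderOf c = p := orderOf_eq_prime hc hc1
  have h1 : orderOf (⟨c, hcR⟩ : ↥(Cfsg.pPrimeCore p ↥L)) = p := (Subgroup.orderOf_mk c hcR).trans hord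
  have h2 : p ∣ Nat.card ↥(Cfsg.pPrimeCore p ↥L) := by
    have := orderOf_dvd_natCard (⟨c, hcR⟩ : ↥(Cfsg.pPrimeCore p ↥L))
    rwa [h1] at this
  have h3 : p ∣ Nat.gcd (Nat.card ↥(Cfsg.pPrimeCore p ↥L)) p := Nat.dvd_gcd h2 dvd_rfl
  rw [hR, Nat.dvd_one] at h3
  exact hp.one_lt.ne' h3

theorem sl2_section_sl23 (hp2 : p ≠ 2) (L : Subgroup (Matrix.SpecialLinearGroup (Fin 2) K)) [Finite L]
    (A B : Matrix.SpecialLinearGroup (Fin 2) K) (hL : L = Subgroup.closure {A, B})
    (hA : A ^ p = 1) (hB : B ^ p = 1) (hnp : ¬ IsPGroup p L) :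
    ∃ (H K' : Subgroup ↥L) (hK : (K'.subgroupOf H).Normal),
      Nonempty ((H ⧸ K'.subgroupOf H) ≃* Matrix.SpecialLinearGroup (Fin 2) (ZMod 3)) := by
  haveI : Fact (Nat.Prime 2) := ⟨Nat.prime_two⟩
  have hp : p.Prime := Fact.out
  obtain ⟨T⟩ : Nonempty (Sylow 2 ↥L) := inferInstance
  have hTnc := sl2_sylow2_not_comm (p := p) hp2 L A B hL hA hB hnp T
  have hAL : A ∈ L := by rw [hL]; exact Subgroup.subset_closure (Set.mem_insert _ _)
  have hBL : B ∈ L := by rw [hL]; exact Subgroup.subset_closure (Set.mem_insert_of_mem _ rfl)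
  rcases Cfsg.Agent.S0016.result 2 (G := ↥(T : Subgroup ↥L)) T.isPGroup'
    (unique_order_two_subgroup (sl2_sub_unique_involution (p := p) hp2 L) (T : Subgroup ↥L)) with hcyc | ⟨-, n, ⟨e⟩⟩
  · exfalso
    apply hTnc
    obtain ⟨c, hc⟩ := hcyc.exists_generator
    refine ⟨⟨fun u v => ?_⟩⟩
    obtain ⟨i, rfl⟩ := Subgroup.mem_zpowers_iff.mp (hc u)
    obtain ⟨j, rfl⟩ := Subgroup.mem_zpowers_iff.mp (hc v)
    rw [← _root_.zpow_add, ← _root_.zpow_add, add_comm]
  · rcases Cfsg.Agent.Lead.QSyl.main T n ⟨e⟩ with ⟨P, N, hNn, hcompl⟩ | hsec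
    · exfalso
      haveI := hNn
      obtain ⟨k, hk⟩ := IsPGroup.iff_card.mp P.isPGroup'
      have hidx : N.index = 2 ^ k := by
        have h1 := N.card_mul_index
        have h2 := hcompl.card_mul_card
        rw [← h2, hk] at h1
        exact Nat.eq_of_mul_eq_mul_left Nat.card_pos h1
      have hmemN : ∀ g : ↥L, g ^ p = 1 → g ∈ N := by
        intro g hg
        rw [← QuotientGroup.eq_one_iff]
        have h1 : (QuotientGroup.mk g : ↥L ⧸ N) ^ (2 ^ k) = 1 := by
          rw [← hidx, Subgroup.index]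
          exact pow_card_eq_one'
        have h2 : (QuotientGroup.mk g : ↥L ⧸ N) ^ p = 1 := by
          rw [← QuotientGroup.mk_pow, hg]
          rfl
        have h3 : orderOf (QuotientGroup.mk g : ↥L ⧸ N) ∣ Nat.gcd (2 ^ k) p :=
          Nat.dvd_gcd (orderOf_dvd_of_pow_eq_one h1) (orderOf_dvd_of_pow_eq_one h2)
        have h4 : Nat.gcd (2 ^ k) p = 1 := by
          apply Nat.Coprime.pow_left
          exact (Nat.coprime_primes Nat.prime_two hp).mpr (Ne.symm hp2)
        rw [h4, Nat.dvd_one] at h3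
        exact orderOf_eq_one_iff.mp h3
      have hNtop : N = ⊤ := by
        rw [eq_top_iff, ← closure_pair_subtype_eq_top L A B hL hAL hBL, Subgroup.closure_le]
        intro g hg
        rcases hg with rfl | hg
        · apply hmemN
          apply Subtype.ext
          rw [Subgroup.coe_pow, Subgroup.coe_one]
          exact hA
        · rw [Set.mem_singleton_iff] at hg
          subst hg
          apply hmemN
          apply Subtype.ext
          rw [Subgroup.coe_pow, Subgroup.coe_one]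
          exact hB
      have hk0 : 2 ^ k = 1 := by
        rw [← hidx, hNtop, Subgroup.index_top]
      have hT1 : Nat.card ↥(T : Subgroup ↥L) = 1 := by
        rw [Sylow.card_eq_multiplicity T, ← Sylow.card_eq_multiplicity P, hk, hk0]
      apply hTnc
      haveI : Subsingleton ↥(T : Subgroup ↥L) := (Nat.card_eq_one_iff_unique.mp hT1).1
      exact ⟨⟨fun u v => Subsingleton.elim _ _⟩⟩
    · exact hsec

end sl2more

section qp
variable {G : Type*} [Group G] [Finite G] {p : ℕ} [Fact p.Prime]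

theorem exists_sl2_hom_of_quad_pair (V H : Subgroup G) (hV : Cfsg.IsElementaryAbelian p V)
    (hHV : H ≤ Subgroup.normalizer (V : Set G)) (a b : G) (hab : H = Subgroup.closure {a, b})
    (ha : ⁅⁅V, Subgroup.zpowers a⁆, Subgroup.zpowers a⁆ = ⊥)
    (hb : ⁅⁅V, Subgroup.zpowers b⁆, Subgroup.zpowers b⁆ = ⊥)
    (hnp : ¬ ∀ h ∈ H, ∃ k : ℕ, h ^ p ^ k ∈ Subgroup.centralizer (V : Set G)) :
    ∃ (haH : a ∈ H) (hbH : b ∈ H)
      (θ : ↥H →* Matrix.SpecialLinearGroup (Fin 2) (AlgebraicClosure (ZMod p))),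
      (θ ⟨a, haH⟩) ^ p = 1 ∧ (θ ⟨b, hbH⟩) ^ p = 1 ∧ ¬ IsPGroup p ↥θ.range := by
  classical
  have hpp : p.Prime := Fact.out
  have haH : a ∈ H := by rw [hab]; exact Subgroup.subset_closure (Set.mem_insert _ _)
  have hbH : b ∈ H := by rw [hab]; exact Subgroup.subset_closure (Set.mem_insert_of_mem _ rfl)
  by_cases hV1 : V = ⊥
  · exfalso
    apply hnp
    intro h hh
    refine ⟨0, ?_⟩
    rw [Subgroup.mem_centralizer_iff]
    intro x hx
    rw [hV1] at hx
    have hx1 : x = 1 := hx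
    rw [hx1, one_mul, mul_one]
  obtain ⟨n, hn, Ψ, hΨker, hΨq⟩ := exists_linear_rep_ker V H hV hHV hV1
  haveI : CharP (AlgebraicClosure (ZMod p)) p :=
    charP_of_injective_algebraMap (algebraMap (ZMod p) (AlgebraicClosure (ZMod p))).injective p
  haveI : Nontrivial (Fin n → AlgebraicClosure (ZMod p)) := inferInstance
  obtain ⟨a', ha'⟩ : ∃ a', a' = Ψ ⟨a, haH⟩ := ⟨_, rfl⟩
  obtain ⟨b', hb'⟩ : ∃ b', b' = Ψ ⟨b, hbH⟩ := ⟨_, rfl⟩
  obtain ⟨x, hxdef⟩ : ∃ x : Module.End (AlgebraicClosure (ZMod p)) (Fin n → AlgebraicClosure (ZMod p)),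
    x = (a' : (Fin n → AlgebraicClosure (ZMod p)) →ₗ[AlgebraicClosure (ZMod p)]
      (Fin n → AlgebraicClosure (ZMod p))) - 1 := ⟨_, rfl⟩
  obtain ⟨y, hydef⟩ : ∃ y : Module.End (AlgebraicClosure (ZMod p)) (Fin n → AlgebraicClosure (ZMod p)),
    y = (b' : (Fin n → AlgebraicClosure (ZMod p)) →ₗ[AlgebraicClosure (ZMod p)]
      (Fin n → AlgebraicClosure (ZMod p))) - 1 := ⟨_, rfl⟩
  have hxa : ∀ w, a' w = w + x w := by
    intro w; rw [hxdef, LinearMap.sub_apply, LinearEquiv.coe_coe, Module.End.one_apply]; abel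
  have hyb : ∀ w, b' w = w + y w := by
    intro w; rw [hydef, LinearMap.sub_apply, LinearEquiv.coe_coe, Module.End.one_apply]; abel
  have hx : x * x = 0 := by rw [hxdef, ha']; exact hΨq ⟨a, haH⟩ ha
  have hy : y * y = 0 := by rw [hydef, hb']; exact hΨq ⟨b, hbH⟩ hb
  have hrange : Ψ.range = Subgroup.closure {a', b'} := by
    rw [ha', hb']
    exact range_eq_closure_pair H a b hab haH hbH Ψ
  have hnp' : ¬ IsPGroup p ↥(Subgroup.closure ({a', b'} : Set ((Fin n → AlgebraicClosure (ZMod p)) ≃ₗ[AlgebraicClosure (ZMod p)] (Fin n → AlgebraicClosure (ZMod p))))) := by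
    intro hpg
    apply hnp
    intro h hh
    have h1 : Ψ ⟨h, hh⟩ ∈ Subgroup.closure ({a', b'} : Set ((Fin n → AlgebraicClosure (ZMod p)) ≃ₗ[AlgebraicClosure (ZMod p)] (Fin n → AlgebraicClosure (ZMod p)))) := by
      rw [← hrange]
      exact ⟨_, rfl⟩
    obtain ⟨k, hk⟩ := hpg ⟨_, h1⟩
    refine ⟨k, ?_⟩
    have h2 : Ψ (⟨h, hh⟩ ^ p ^ k) = 1 := by
      rw [map_pow]
      have := congrArg Subtype.val hk
      rw [Subgroup.coe_pow, Subgroup.coe_one] at this
      exact this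
    exact hΨker _ h2
  rcases exists_eigenvector_or_unipotent_algClosed
      (((a' * b' : (Fin n → AlgebraicClosure (ZMod p)) ≃ₗ[AlgebraicClosure (ZMod p)] (Fin n → AlgebraicClosure (ZMod p))) :
        (Fin n → AlgebraicClosure (ZMod p)) →ₗ[AlgebraicClosure (ZMod p)] (Fin n → AlgebraicClosure (ZMod p))))
    with ⟨w, hw, l, hl, hgw⟩ | ⟨N, hN⟩
  swap
  · exfalso
    apply hnp'
    exact isPGroup_closure_of_quad_nilpotent a' b' x y hxa hyb hx hy N
      (quad_t_nilpotent a' b' x y hxa hyb hx hy N hN)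
  obtain ⟨φ, hφ⟩ := exists_sl2_hom_of_eigenvector (p := p) a' b' x y hxa hyb hx hy w hw l hl hgw
  have hmem : ∀ h : ↥H, Ψ h ∈ Subgroup.closure ({a', b'} : Set ((Fin n → AlgebraicClosure (ZMod p)) ≃ₗ[AlgebraicClosure (ZMod p)] (Fin n → AlgebraicClosure (ZMod p)))) := by
    intro h
    rw [← hrange]
    exact ⟨h, rfl⟩
  obtain ⟨θ, hθ⟩ : ∃ θ : ↥H →* Matrix.SpecialLinearGroup (Fin 2) (AlgebraicClosure (ZMod p)),
    θ = φ.comp (Ψ.codRestrict _ hmem) := ⟨_, rfl⟩
  have ha'mem : a' ∈ Subgroup.closure ({a', b'} : Set ((Fin n → AlgebraicClosure (ZMod p)) ≃ₗ[AlgebraicClosure (ZMod p)] (Fin n → AlgebraicClosure (ZMod p)))) :=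
    Subgroup.subset_closure (Set.mem_insert _ _)
  have hb'mem : b' ∈ Subgroup.closure ({a', b'} : Set ((Fin n → AlgebraicClosure (ZMod p)) ≃ₗ[AlgebraicClosure (ZMod p)] (Fin n → AlgebraicClosure (ZMod p)))) :=
    Subgroup.subset_closure (Set.mem_insert_of_mem _ rfl)
  have hθa : θ ⟨a, haH⟩ = φ ⟨a', ha'mem⟩ := by
    rw [hθ, MonoidHom.comp_apply]
    congr 1
    apply Subtype.ext
    rw [MonoidHom.codRestrict_apply]
    exact ha'.symm
  have hθb : θ ⟨b, hbH⟩ = φ ⟨b', hb'mem⟩ := by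
    rw [hθ, MonoidHom.comp_apply]
    congr 1
    apply Subtype.ext
    rw [MonoidHom.codRestrict_apply]
    exact hb'.symm
  have hL1 : θ.range = Subgroup.closure {θ ⟨a, haH⟩, θ ⟨b, hbH⟩} :=
    range_eq_closure_pair H a b hab haH hbH θ
  have hL2 : φ.range = Subgroup.closure {φ ⟨a', ha'mem⟩, φ ⟨b', hb'mem⟩} :=
    range_eq_closure_pair _ a' b' rfl ha'mem hb'mem φ
  have hL3 : θ.range = φ.range := by rw [hL1, hL2, hθa, hθb]
  haveI : Finite ↥θ.range := Finite.of_surjective θ.rangeRestrict θ.rangeRestrict_surjective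
  have hA : (θ ⟨a, haH⟩) ^ p = 1 := by
    rw [hθa, ← map_pow]
    have : (⟨a', ha'mem⟩ : ↥(Subgroup.closure ({a', b'} : Set ((Fin n → AlgebraicClosure (ZMod p)) ≃ₗ[AlgebraicClosure (ZMod p)] (Fin n → AlgebraicClosure (ZMod p)))))) ^ p = 1 := by
      apply Subtype.ext
      rw [Subgroup.coe_pow, Subgroup.coe_one]
      exact quad_pow_char (p := p) a' x hxa hx
    rw [this, map_one]
  have hB : (θ ⟨b, hbH⟩) ^ p = 1 := by
    rw [hθb, ← map_pow]
    have : (⟨b', hb'mem⟩ : ↥(Subgroup.closure ({a', b'} : Set ((Fin n → AlgebraicClosure (ZMod p)) ≃ₗ[AlgebraicClosure (ZMod p)] (Fin n → AlgebraicClosure (ZMod p)))))) ^ p = 1 := by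
      apply Subtype.ext
      rw [Subgroup.coe_pow, Subgroup.coe_one]
      exact quad_pow_char (p := p) b' y hyb hy
    rw [this, map_one]
  have hnpL : ¬ IsPGroup p ↥θ.range := by rw [hL3]; exact hφ
  exact ⟨haH, hbH, θ, hA, hB, hnpL⟩

end qp

section transport

theorem section_comap {G₁ G₂ : Type*} [Group G₁] [Group G₂] (f : G₁ →* G₂) (hf : Function.Surjective f)
    (K₂ L₂ : Subgroup G₂) (hL : (L₂.subgroupOf K₂).Normal) :
    ∃ (hL' : ((L₂.comap f).subgroupOf (K₂.comap f)).Normal),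
      Nonempty ((↥(K₂.comap f) ⧸ (L₂.comap f).subgroupOf (K₂.comap f)) ≃* (↥K₂ ⧸ L₂.subgroupOf K₂)) := by
  obtain ⟨g, hg⟩ : ∃ g : ↥(K₂.comap f) →* ↥K₂, g = f.subgroupComap K₂ := ⟨_, rfl⟩
  have hgs : Function.Surjective g := by
    rw [hg]; exact f.subgroupComap_surjective_of_surjective K₂ hf
  have hker : (L₂.comap f).subgroupOf (K₂.comap f) = (L₂.subgroupOf K₂).comap g := by
    ext x
    rw [hg]
    rfl
  have hL' : ((L₂.comap f).subgroupOf (K₂.comap f)).Normal := by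
    rw [hker]; exact hL.comap g
  refine ⟨hL', ?_⟩
  obtain ⟨φ, hφ⟩ : ∃ φ : ↥(K₂.comap f) →* (↥K₂ ⧸ L₂.subgroupOf K₂), φ = (QuotientGroup.mk' _).comp g := ⟨_, rfl⟩
  have hφs : Function.Surjective φ := by
    rw [hφ]; exact (QuotientGroup.mk'_surjective _).comp hgs
  have hφker : φ.ker = (L₂.comap f).subgroupOf (K₂.comap f) := by
    rw [hker, hφ, ← MonoidHom.comap_ker, QuotientGroup.ker_mk']
  exact ⟨(QuotientGroup.quotientMulEquivOfEq hφker.symm).trans (QuotientGroup.quotientKerEquivOfSurjective φ hφs)⟩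

theorem section_map_subtype {G : Type*} [Group G] (H : Subgroup G) (K₁ L₁ : Subgroup ↥H)
    (hL : (L₁.subgroupOf K₁).Normal) :
    K₁.map H.subtype ≤ H ∧
    ∃ (hL' : ((L₁.map H.subtype).subgroupOf (K₁.map H.subtype)).Normal),
      Nonempty ((↥(K₁.map H.subtype) ⧸ (L₁.map H.subtype).subgroupOf (K₁.map H.subtype)) ≃*
        (↥K₁ ⧸ L₁.subgroupOf K₁)) := by
  refine ⟨Subgroup.map_subtype_le _, ?_⟩
  obtain ⟨e, he⟩ : ∃ e : ↥K₁ ≃* ↥(K₁.map H.subtype), e = K₁.equivMapOfInjective H.subtype H.subtype_injective :=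
    ⟨_, rfl⟩
  have hev : ∀ y : ↥K₁, ((e y : ↥(K₁.map H.subtype)) : G) = ((y : ↥H) : G) := by
    intro y; rw [he]; rfl
  have hmap : (L₁.subgroupOf K₁).map e.toMonoidHom = (L₁.map H.subtype).subgroupOf (K₁.map H.subtype) := by
    ext x
    constructor
    · rintro ⟨y, hy, rfl⟩
      rw [Subgroup.mem_subgroupOf]
      exact ⟨y.1, hy, (hev y).symm⟩
    · intro hx
      obtain ⟨y, rfl⟩ := e.surjective x
      refine ⟨y, ?_, rfl⟩
      rw [Subgroup.mem_subgroupOf] at hx
      rw [SetLike.mem_coe, Subgroup.mem_subgroupOf]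
      obtain ⟨z, hz, hzy⟩ := hx
      have hzy' : z = y.1 := by
        apply Subtype.ext
        rw [← hev y]
        exact hzy
      rw [← hzy']
      exact hz
  have hL' : ((L₁.map H.subtype).subgroupOf (K₁.map H.subtype)).Normal := by
    rw [← hmap]
    exact Subgroup.Normal.map hL e.toMonoidHom e.surjective
  refine ⟨hL', ⟨?_⟩⟩
  haveI := hL
  haveI := hL'
  exact (QuotientGroup.congr (L₁.subgroupOf K₁) ((L₁.map H.subtype).subgroupOf (K₁.map H.subtype)) e hmap).symm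

end transport

section qp3
variable {G : Type*} [Group G] [Finite G] {p : ℕ} [Fact p.Prime]

theorem quad_pair_p_eq_three (hp : p ≠ 2) (V H : Subgroup G) (hV : Cfsg.IsElementaryAbelian p V)
    (hHV : H ≤ Subgroup.normalizer (V : Set G)) (a b : G) (hab : H = Subgroup.closure {a, b})
    (ha : ⁅⁅V, Subgroup.zpowers a⁆, Subgroup.zpowers a⁆ = ⊥)
    (hb : ⁅⁅V, Subgroup.zpowers b⁆, Subgroup.zpowers b⁆ = ⊥)
    (hnp : ¬ ∀ h ∈ H, ∃ k : ℕ, h ^ p ^ k ∈ Subgroup.centralizer (V : Set G))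
    (hsol : Cfsg.IsPSolvable p ↥H) : p = 3 := by
  obtain ⟨haH, hbH, θ, hA, hB, hnpL⟩ := exists_sl2_hom_of_quad_pair V H hV hHV a b hab ha hb hnp
  haveI : CharP (AlgebraicClosure (ZMod p)) p :=
    charP_of_injective_algebraMap (algebraMap (ZMod p) (AlgebraicClosure (ZMod p))).injective p
  haveI : Finite ↥θ.range := Finite.of_surjective θ.rangeRestrict θ.rangeRestrict_surjective
  have hL1 : θ.range = Subgroup.closure {θ ⟨a, haH⟩, θ ⟨b, hbH⟩} :=
    range_eq_closure_pair H a b hab haH hbH θ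
  have hsolL : Cfsg.IsPSolvable p ↥θ.range :=
    Cfsg.Agent.Lib.Lead.PSolvable.IsPSolvable.of_surjective θ.rangeRestrict θ.rangeRestrict_surjective hsol
  exact sl2_p_eq_three hp θ.range _ _ hL1 hA hB hnpL hsolL

theorem quad_pair_section (hp : p ≠ 2) (V H : Subgroup G) (hV : Cfsg.IsElementaryAbelian p V)
    (hHV : H ≤ Subgroup.normalizer (V : Set G)) (a b : G) (hab : H = Subgroup.closure {a, b})
    (ha : ⁅⁅V, Subgroup.zpowers a⁆, Subgroup.zpowers a⁆ = ⊥)
    (hb : ⁅⁅V, Subgroup.zpowers b⁆, Subgroup.zpowers b⁆ = ⊥)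
    (hnp : ¬ ∀ h ∈ H, ∃ k : ℕ, h ^ p ^ k ∈ Subgroup.centralizer (V : Set G)) :
    ∃ (K L : Subgroup G) (hL : (L.subgroupOf K).Normal), K ≤ H ∧
      Nonempty ((K ⧸ L.subgroupOf K) ≃* Matrix.SpecialLinearGroup (Fin 2) (ZMod 3)) := by
  obtain ⟨haH, hbH, θ, hA, hB, hnpL⟩ := exists_sl2_hom_of_quad_pair V H hV hHV a b hab ha hb hnp
  haveI : CharP (AlgebraicClosure (ZMod p)) p :=
    charP_of_injective_algebraMap (algebraMap (ZMod p) (AlgebraicClosure (ZMod p))).injective p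
  haveI : Finite ↥θ.range := Finite.of_surjective θ.rangeRestrict θ.rangeRestrict_surjective
  have hL1 : θ.range = Subgroup.closure {θ ⟨a, haH⟩, θ ⟨b, hbH⟩} :=
    range_eq_closure_pair H a b hab haH hbH θ
  obtain ⟨K₂, L₂, hL₂, ⟨e⟩⟩ := sl2_section_sl23 hp θ.range _ _ hL1 hA hB hnpL
  obtain ⟨hL₁, ⟨e₁⟩⟩ := section_comap θ.rangeRestrict θ.rangeRestrict_surjective K₂ L₂ hL₂
  obtain ⟨hle, hL₀, ⟨e₀⟩⟩ := section_map_subtype H (K₂.comap θ.rangeRestrict) (L₂.comap θ.rangeRestrict) hL₁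
  exact ⟨_, _, hL₀, hle, ⟨e₀.trans (e₁.trans e)⟩⟩

theorem quadratic_pow_mem_centralizer (V : Subgroup G) (hV : Cfsg.IsElementaryAbelian p V) (a : G)
    (haV : a ∈ Subgroup.normalizer (V : Set G))
    (hq : ⁅⁅V, Subgroup.zpowers a⁆, Subgroup.zpowers a⁆ = ⊥) : a ^ p ∈ Subgroup.centralizer (V : Set G) := by
  by_cases hV1 : V = ⊥
  · rw [Subgroup.mem_centralizer_iff]
    intro x hx
    rw [hV1] at hx
    have hx1 : x = 1 := hx
    rw [hx1, one_mul, mul_one]
  obtain ⟨n, hn, Ψ, hΨker, hΨq⟩ := exists_linear_rep_ker V (Subgroup.zpowers a) hV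
    (by rw [Subgroup.zpowers_le]; exact haV) hV1
  haveI : CharP (AlgebraicClosure (ZMod p)) p :=
    charP_of_injective_algebraMap (algebraMap (ZMod p) (AlgebraicClosure (ZMod p))).injective p
  haveI : Nontrivial (Fin n → AlgebraicClosure (ZMod p)) := inferInstance
  have h0 := hΨq ⟨a, Subgroup.mem_zpowers a⟩ hq
  have h1 : (Ψ ⟨a, Subgroup.mem_zpowers a⟩) ^ p = 1 :=
    quad_pow_char (p := p) (Ψ ⟨a, Subgroup.mem_zpowers a⟩) _
      (fun w => by rw [LinearMap.sub_apply, LinearEquiv.coe_coe, Module.End.one_apply]; abel) h0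
  have h2 : Ψ (⟨a, Subgroup.mem_zpowers a⟩ ^ p) = 1 := by rw [map_pow, h1]
  have h3 := hΨker _ h2
  rwa [Subgroup.coe_pow] at h3

end qp3

section final

theorem quad_not_pstable_three {G : Type*} [Group G] [Finite G] {p : ℕ} [Fact p.Prime] (hp : p ≠ 2) (V H : Subgroup G) (hV : Cfsg.IsElementaryAbelian p V) (hHV : H ≤ Subgroup.normalizer (V : Set G)) (hf : H ⊓ Subgroup.centralizer (V : Set G) = ⊥) (hsep : Cfsg.IsPSolvable p H) (a : G) (haH : a ∈ H) (hq : ⁅⁅V, Subgroup.zpowers a⁆, Subgroup.zpowers a⁆ = ⊥) (hna : a ∉ (Cfsg.pCore p H).map H.subtype) : p = 3 ∧ ∃ (K L : Subgroup G) (hL : (L.subgroupOf K).Normal), K ≤ H ∧ Nonempty ((K ⧸ L.subgroupOf K) ≃* Matrix.SpecialLinearGroup (Fin 2) (ZMod 3)) := by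
  classical
  by_cases hex : ∃ h ∈ H, ¬ IsPGroup p ↥(Subgroup.closure ({a, h * a * h⁻¹} : Set G))
  · obtain ⟨h, hh, hnp⟩ := hex
    obtain ⟨H₀, hH₀⟩ : ∃ H₀ : Subgroup G, H₀ = Subgroup.closure {a, h * a * h⁻¹} := ⟨_, rfl⟩
    have hH₀H : H₀ ≤ H := by
      rw [hH₀, Subgroup.closure_le]
      intro x hx
      rcases hx with rfl | hx
      · exact haH
      · rw [Set.mem_singleton_iff] at hx
        rw [hx]
        exact H.mul_mem (H.mul_mem hh haH) (H.inv_mem hh)
    rw [← hH₀] at hnp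
    have hnp' : ¬ ∀ x ∈ H₀, ∃ k : ℕ, x ^ p ^ k ∈ Subgroup.centralizer (V : Set G) := by
      intro hall
      apply hnp
      rintro ⟨x, hx⟩
      obtain ⟨k, hk⟩ := hall x hx
      refine ⟨k, ?_⟩
      apply Subtype.ext
      rw [Subgroup.coe_pow, Subgroup.coe_one]
      have h1 : x ^ p ^ k ∈ H ⊓ Subgroup.centralizer (V : Set G) :=
        Subgroup.mem_inf.mpr ⟨H.pow_mem (hH₀H hx) _, hk⟩
      rw [hf, Subgroup.mem_bot] at h1
      exact h1
    have hsol₀ : Cfsg.IsPSolvable p ↥H₀ :=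
      Cfsg.Agent.Lib.Lead.PSolvable.IsPSolvable.of_mulEquiv (Subgroup.subgroupOfEquivOfLe hH₀H)
        (Cfsg.Agent.Lib.Lead.PSolvable.IsPSolvable.subgroup (H₀.subgroupOf H) hsep)
    have hb := quadratic_conj V a h (hHV hh) hq
    refine ⟨quad_pair_p_eq_three hp V H₀ hV (hH₀H.trans hHV) a (h * a * h⁻¹) hH₀ hq hb hnp' hsol₀, ?_⟩
    obtain ⟨K, L, hL, hK, e⟩ := quad_pair_section hp V H₀ hV (hH₀H.trans hHV) a (h * a * h⁻¹) hH₀ hq hb hnp'
    exact ⟨K, L, hL, hK.trans hH₀H, e⟩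
  · exfalso
    push Not at hex
    apply hna
    obtain ⟨a₀, ha₀⟩ : ∃ a₀ : ↥H, a₀ = ⟨a, haH⟩ := ⟨_, rfl⟩
    have hmain : ∀ g : ↥H, IsPGroup p ↥(Subgroup.zpowers a₀ ⊔ MulAut.conj g • Subgroup.zpowers a₀) := by
      intro g
      rw [zpowers_sup_conj_eq_closure]
      apply isPGroup_of_map_subtype
      rw [MonoidHom.map_closure, Set.image_pair]
      have := hex g.1 g.2
      rw [ha₀]
      exact this
    have hXp : IsPGroup p ↥(Subgroup.zpowers a₀) := IsPGroup.to_le (hmain 1) le_sup_left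
    obtain ⟨N, hNn, hNp, hXN⟩ := baer_suzuki (Subgroup.zpowers a₀) hXp hmain
    refine ⟨a₀, ?_, by rw [ha₀]; rfl⟩
    have h1 : N ≤ Cfsg.pCore p ↥H := le_sSup ⟨hNn, hNp⟩
    exact h1 (hXN (Subgroup.mem_zpowers _))


end final

end Cfsg.Agent.H1
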