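import Mathlib
import Cfsg.Agent.H1.FrobAbA

namespace Cfsg.Agent.H1.FrobAb
open Submodule
open Cfsg.Agent.H1.FrobFree
open scoped IsMulCommutative Pointwise

universe u

theorem lin_abelian {k A : Type*} {V : Type u} [Field k] [AddCommGroup V] [Module k V]
    [FiniteDimensional k V] [Group A] [Finite A] (ρ : Representation k A V) (K R : Subgroup A)
    [hKn : K.Normal] (hsup : K ⊔ R = ⊤) (hnil : Group.IsNilpotent K) (hRp : (Nat.card R).Prime)
    (hcard : (Nat.card K : k) ≠ 0)
    (hfpf : ∀ h ∈ R, h ≠ 1 → ∀ q ∈ K, q * h = h * q → q = 1)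
    (hdim : Module.finrank k V = Nat.card R)
    (hCV : ∀ v : V, (∀ q ∈ K, ρ q v = v) → v = 0) :
    ∀ a ∈ K, ∀ b ∈ K, ρ a * ρ b = ρ b * ρ a := by
  classical
  have hρmul : ∀ (a b : A) (v : V), ρ (a * b) v = ρ a (ρ b v) := fun a b v => by
    rw [map_mul]; rfl
  have hρinv : ∀ a : A, ρ a * ρ a⁻¹ = 1 := fun a => by rw [← map_mul, mul_inv_cancel, map_one]
  have hρinv' : ∀ a : A, ρ a⁻¹ * ρ a = 1 := fun a => by rw [← map_mul, inv_mul_cancel, map_one]
  haveI : Group.IsSolvable K := IsNilpotent.to_isSolvable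
  obtain ⟨n, hn⟩ := exists_dser_eq_bot K
  -- every element is a product
  have hprod : ∀ a : A, ∃ q ∈ K, ∃ h ∈ R, q * h = a := by
    intro a
    have ha : a ∈ ((K ⊔ R : Subgroup A) : Set A) := by rw [hsup]; exact Set.mem_univ a
    rw [Subgroup.normal_mul] at ha
    exact Set.mem_mul.1 ha
  -- Step 0: irreducibility
  have hirrA : ∀ U : Submodule k V, U ≠ ⊥ → (∀ a : A, ∀ v ∈ U, ρ a v ∈ U) → U = ⊤ := by
    intro U hU0 hUinv
    set ρU := resRep ρ U hUinv with hρU
    obtain ⟨W, hW1, hW2⟩ := free_main R n ↥U ρU K hKn hn hcard hfpf (by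
      intro v hv
      apply Subtype.ext
      apply hCV
      intro q hq
      have := congrArg Subtype.val (hv q hq)
      rwa [hρU, resRep_apply] at this)
    have hfr := finrank_free (ρU.comp R.subtype) W hW1 hW2
    have hUpos : 0 < Module.finrank k U := by
      rw [Module.finrank_pos_iff]
      exact Submodule.nontrivial_iff_ne_bot.2 hU0
    have hWpos : 0 < Module.finrank k W := by
      by_contra h
      have h0 : Module.finrank k W = 0 := by omega
      rw [h0, mul_zero] at hfr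
      omega
    have hle : Module.finrank k U ≤ Module.finrank k V := Submodule.finrank_le U
    apply Submodule.eq_top_of_finrank_eq
    have : Nat.card R * 1 ≤ Nat.card R * Module.finrank k W := Nat.mul_le_mul_left _ hWpos
    omega
  -- the preimage of the centre of the image of K
  let Z : Subgroup A :=
    { carrier := {a | a ∈ K ∧ ∀ b ∈ K, ρ a * ρ b = ρ b * ρ a}
      mul_mem' := by
        rintro a a' ⟨ha, hac⟩ ⟨ha', hac'⟩
        refine ⟨K.mul_mem ha ha', fun b hb => ?_⟩
        rw [map_mul, mul_assoc, hac' b hb, ← mul_assoc, hac b hb, mul_assoc]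
      one_mem' := ⟨K.one_mem, fun b _ => by rw [map_one, one_mul, mul_one]⟩
      inv_mem' := by
        rintro a ⟨ha, hac⟩
        refine ⟨K.inv_mem ha, fun b hb => ?_⟩
        have := hac b hb
        calc ρ a⁻¹ * ρ b = ρ a⁻¹ * (ρ b * ρ a) * ρ a⁻¹ := by
              rw [mul_assoc, mul_assoc, hρinv, mul_one]
          _ = ρ a⁻¹ * (ρ a * ρ b) * ρ a⁻¹ := by rw [this]
          _ = ρ b * ρ a⁻¹ := by rw [← mul_assoc, hρinv', one_mul] }
  have hZmem : ∀ a, a ∈ Z ↔ (a ∈ K ∧ ∀ b ∈ K, ρ a * ρ b = ρ b * ρ a) := fun a => Iff.rfl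
  have hZK : Z ≤ K := fun a ha => ha.1
  have hZconj : ∀ x : A, ∀ z ∈ Z, x * z * x⁻¹ ∈ Z := by
    rintro x z ⟨hz, hzc⟩
    refine ⟨hKn.conj_mem z hz x, fun b hb => ?_⟩
    have hb' : x⁻¹ * b * x ∈ K := by simpa using hKn.conj_mem b hb x⁻¹
    have h1 := hzc _ hb'
    calc ρ (x * z * x⁻¹) * ρ b = ρ x * (ρ z * ρ (x⁻¹ * b * x)) * ρ x⁻¹ := by
          rw [← map_mul, ← map_mul, ← map_mul, ← map_mul]; congr 1; group
      _ = ρ x * (ρ (x⁻¹ * b * x) * ρ z) * ρ x⁻¹ := by rw [h1]
      _ = ρ b * ρ (x * z * x⁻¹) := by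
          rw [← map_mul, ← map_mul, ← map_mul, ← map_mul]; congr 1; group
  have hcardZ : (Nat.card Z : k) ≠ 0 := by
    intro h0
    apply hcard
    obtain ⟨m, hm⟩ := Subgroup.card_dvd_of_le hZK
    rw [hm, Nat.cast_mul, h0, zero_mul]
  -- the commutative algebra
  set s : Set (Module.End k V) := ρ '' (Z : Set A) with hs
  have hscomm : ∀ a ∈ s, ∀ b ∈ s, a * b = b * a := by
    rintro _ ⟨q, hq, rfl⟩ _ ⟨q', hq', rfl⟩
    exact hq.2 q' hq'.1
  set B := Algebra.adjoin k s with hB
  haveI : IsMulCommutative B := Algebra.isMulCommutative_adjoin k hscomm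
  have hsm : ∀ (x : B) (v : V), x • v = (x : Module.End k V) v := fun x v => rfl
  haveI : IsScalarTower k B V := ⟨fun a x v => rfl⟩
  have hconjB : ∀ h : R, ∀ x ∈ B, ρ (h : A) * x * ρ (h : A)⁻¹ ∈ B := by
    intro h x hx
    induction hx using Algebra.adjoin_induction with
    | mem x hx =>
      obtain ⟨q, hq, rfl⟩ := hx
      apply Algebra.subset_adjoin
      refine ⟨(h : A) * q * (h : A)⁻¹, hZconj h q hq, ?_⟩
      rw [map_mul, map_mul]
    | algebraMap r =>
      rw [← Algebra.commutes, mul_assoc, hρinv, mul_one]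
      exact Subalgebra.algebraMap_mem _ r
    | add x y _ _ hx hy =>
      rw [mul_add, add_mul]
      exact Subalgebra.add_mem _ hx hy
    | mul x y _ _ hx hy =>
      have : ρ (h:A) * (x * y) * ρ (h:A)⁻¹
          = (ρ (h:A) * x * ρ (h:A)⁻¹) * (ρ (h:A) * y * ρ (h:A)⁻¹) := by
        simp only [mul_assoc]
        rw [← mul_assoc (ρ (h:A)⁻¹) (ρ (h:A)), hρinv', one_mul]
      rw [this]
      exact Subalgebra.mul_mem _ hx hy
  letI act : MulSemiringAction R B :=
    { smul := fun h x => ⟨ρ (h:A) * x * ρ (h:A)⁻¹, hconjB h x x.2⟩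
      one_smul := by
        intro x
        apply Subtype.ext
        show ρ ((1 : R) : A) * (x : Module.End k V) * ρ ((1 : R) : A)⁻¹ = x
        simp
      mul_smul := by
        intro g h x
        apply Subtype.ext
        show ρ ((g * h : R) : A) * (x : Module.End k V) * ρ ((g * h : R) : A)⁻¹
          = ρ (g:A) * (ρ (h:A) * (x : Module.End k V) * ρ (h:A)⁻¹) * ρ (g:A)⁻¹
        simp only [Subgroup.coe_mul, mul_inv_rev, map_mul, mul_assoc]
      smul_zero := by
        intro h
        apply Subtype.ext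
        show ρ (h:A) * ((0 : B) : Module.End k V) * ρ (h:A)⁻¹ = ((0 : B) : Module.End k V)
        simp
      smul_add := by
        intro h a b
        apply Subtype.ext
        show ρ (h:A) * ((a + b : B) : Module.End k V) * ρ (h:A)⁻¹
          = ρ (h:A) * (a : Module.End k V) * ρ (h:A)⁻¹ + ρ (h:A) * (b : Module.End k V) * ρ (h:A)⁻¹
        rw [Subalgebra.coe_add, mul_add, add_mul]
      smul_one := by
        intro h
        apply Subtype.ext
        show ρ (h:A) * ((1 : B) : Module.End k V) * ρ (h:A)⁻¹ = ((1 : B) : Module.End k V)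
        rw [OneMemClass.coe_one, mul_one, hρinv]
      smul_mul := by
        intro h a b
        apply Subtype.ext
        show ρ (h:A) * ((a * b : B) : Module.End k V) * ρ (h:A)⁻¹
          = (ρ (h:A) * (a : Module.End k V) * ρ (h:A)⁻¹) * (ρ (h:A) * (b : Module.End k V) * ρ (h:A)⁻¹)
        rw [Subalgebra.coe_mul]
        simp only [mul_assoc]
        rw [← mul_assoc (ρ (h:A)⁻¹) (ρ (h:A)), hρinv', one_mul] }
  have hact : ∀ (h : R) (x : B), ((h • x : B) : Module.End k V) = ρ (h:A) * x * ρ (h:A)⁻¹ :=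
    fun h x => rfl
  set σ : R →* (V →ₗ[k] V) := ρ.comp R.subtype with hσ
  have hσapp : ∀ h : R, σ h = ρ (h : A) := fun h => rfl
  have hsemi : ∀ (h : R) (c : B) (v : V), σ h (c • v) = (h • c) • σ h v := by
    intro h c v
    rw [hsm, hsm, hact, hσapp, Module.End.mul_apply, Module.End.mul_apply,
      ← Module.End.mul_apply (ρ (h:A)⁻¹), hρinv', Module.End.one_apply]
  have hfaith : ∀ x : B, (∀ v : V, x • v = 0) → x = 0 := by
    intro x hx
    apply Subtype.ext
    apply LinearMap.ext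
    intro v
    exact hx v
  have hQB : ∀ q ∈ Z, ρ q ∈ B := fun q hq => Algebra.subset_adjoin ⟨q, hq, rfl⟩
  have hred : ∀ x : B, x * x = 0 → x = 0 := by
    intro x hxx
    have hxx' : ∀ v, (x : Module.End k V) ((x : Module.End k V) v) = 0 := by
      intro v
      have := congrArg (fun y : B => (y : Module.End k V) v) hxx
      simpa using this
    haveI : Fintype Z := Fintype.ofFinite Z
    set ρQ : Representation k Z V := ρ.comp Z.subtype with hρQ
    have hK : Cfsg.Agent.H9.SelfDual.Inv ρQ (LinearMap.ker (x : Module.End k V)) := by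
      intro q v hv
      rw [LinearMap.mem_ker] at hv ⊢
      have hc : (x : Module.End k V) * ρ (q : A) = ρ (q : A) * x := by
        have := mul_comm x ⟨ρ (q : A), hQB q q.2⟩
        exact congrArg Subtype.val this
      show (x : Module.End k V) (ρ (q : A) v) = 0
      rw [← Module.End.mul_apply, hc, Module.End.mul_apply, hv, map_zero]
    obtain ⟨Z', hZ', hKZ⟩ := Cfsg.Agent.H9.SelfDual.maschke ρQ
      (by rw [← Nat.card_eq_fintype_card]; exact hcardZ) _ hK
    have hZB : ∀ y ∈ B, ∀ v ∈ Z', y v ∈ Z' := by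
      intro y hy
      induction hy using Algebra.adjoin_induction with
      | mem y hy =>
        obtain ⟨q, hq, rfl⟩ := hy
        intro v hv
        exact hZ' ⟨q, hq⟩ v hv
      | algebraMap r =>
        intro v hv
        rw [Module.algebraMap_end_apply]
        exact Z'.smul_mem r hv
      | add y z _ _ hy hz =>
        intro v hv
        exact Z'.add_mem (hy v hv) (hz v hv)
      | mul y z _ _ hy hz =>
        intro v hv
        exact hy _ (hz v hv)
    have hZ0 : Z' = ⊥ := by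
      rw [eq_bot_iff]
      intro v hv
      have h1 : (x : Module.End k V) v ∈ Z' := hZB x x.2 v hv
      have h2 : (x : Module.End k V) v ∈ LinearMap.ker (x : Module.End k V) := by
        rw [LinearMap.mem_ker]; exact hxx' v
      have h3 : (x : Module.End k V) v = 0 := by
        have := hKZ.disjoint.le_bot ⟨h2, h1⟩
        exact (Submodule.mem_bot k).1 this
      have h4 : v ∈ LinearMap.ker (x : Module.End k V) := h3
      exact hKZ.disjoint.le_bot ⟨h4, hv⟩
    have hKtop : LinearMap.ker (x : Module.End k V) = ⊤ := by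
      have := hKZ.sup_eq_top
      rw [hZ0, sup_bot_eq] at this
      exact this
    apply Subtype.ext
    exact LinearMap.ker_eq_top.1 hKtop
  -- B commutes with the image of K
  have hBK : ∀ x ∈ B, ∀ b ∈ K, ρ b * x = x * ρ b := by
    intro x hx b hb
    induction hx using Algebra.adjoin_induction with
    | mem x hx =>
      obtain ⟨q, hq, rfl⟩ := hx
      exact (hq.2 b hb).symm
    | algebraMap r => exact (Algebra.commutes r (ρ b)).symm
    | add x y _ _ hx hy => rw [mul_add, add_mul, hx, hy]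
    | mul x y _ _ hx hy => rw [← mul_assoc, hx, mul_assoc, hy, mul_assoc]
  have key := comm_or_scalar (k := k) (C := B) σ hsemi hfaith hred hRp hdim (ρ '' (K : Set A))
    (by
      rintro _ ⟨b, hb, rfl⟩ c v
      rw [hsm, hsm, ← Module.End.mul_apply, hBK c c.2 b hb, Module.End.mul_apply])
    (by
      intro U hU0 hUR hUK
      apply hirrA U hU0
      intro a v hv
      obtain ⟨q, hq, h, hh, rfl⟩ := hprod a
      rw [hρmul]
      exact hUK _ ⟨q, hq, rfl⟩ _ (hUR ⟨h, hh⟩ v hv))
  rcases key with key | key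
  · intro a ha b hb
    exact key _ ⟨a, ha, rfl⟩ _ ⟨b, hb, rfl⟩
  -- the scalar case
  have hZscal : ∀ z ∈ Z, ∃ t : k, ρ z = algebraMap k (Module.End k V) t := by
    intro z hz
    obtain ⟨t, ht⟩ := key ⟨ρ z, hQB z hz⟩
    exact ⟨t, congrArg Subtype.val ht⟩
  have hRbot : R ≠ ⊥ := by
    intro h
    rw [h, Subgroup.card_bot] at hRp
    exact Nat.not_prime_one hRp
  obtain ⟨x, hx1⟩ := (Subgroup.ne_bot_iff_exists_ne_one).1 hRbot
  have hx1' : (x : A) ≠ 1 := fun h => hx1 (Subtype.ext h)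
  have h1 : ∀ z ∈ Z, ρ (z⁻¹ * (x:A) * z * (x:A)⁻¹) = 1 := by
    intro z hz
    obtain ⟨t, ht⟩ := hZscal z hz
    have : ρ (z⁻¹ * (x:A) * z * (x:A)⁻¹) = ρ z⁻¹ * (ρ (x:A) * ρ z * ρ (x:A)⁻¹) := by
      simp only [map_mul, mul_assoc]
    rw [this, ht, ← Algebra.commutes, mul_assoc, hρinv, mul_one, ← ht, hρinv']
  have hinj : Function.Injective (fun q : Z => (⟨(q:A)⁻¹ * (x:A) * q * (x:A)⁻¹, by
      have := hZconj x q q.2
      have h5 : (q:A)⁻¹ * (x:A) * q * (x:A)⁻¹ = (q:A)⁻¹ * ((x:A) * q * (x:A)⁻¹) := by group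
      rw [h5]
      exact Z.mul_mem (Z.inv_mem q.2) this⟩ : Z)) := by
    intro q q' hqq
    have h6 : (q:A)⁻¹ * (x:A) * q * (x:A)⁻¹ = (q':A)⁻¹ * (x:A) * q' * (x:A)⁻¹ :=
      congrArg Subtype.val hqq
    have h7 : ((q':A) * (q:A)⁻¹) * (x:A) = (x:A) * ((q':A) * (q:A)⁻¹) := by
      have h8 : (q:A)⁻¹ * (x:A) * q = (q':A)⁻¹ * (x:A) * q' := mul_right_cancel h6
      calc ((q':A) * (q:A)⁻¹) * (x:A) = (q':A) * ((q:A)⁻¹ * (x:A) * q) * (q:A)⁻¹ := by group
        _ = (q':A) * ((q':A)⁻¹ * (x:A) * q') * (q:A)⁻¹ := by rw [h8]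
        _ = (x:A) * ((q':A) * (q:A)⁻¹) := by group
    have h9 := hfpf x x.2 hx1' _ (K.mul_mem (hZK q'.2) (K.inv_mem (hZK q.2))) h7
    apply Subtype.ext
    have : (q' : A) = q := by
      rw [mul_inv_eq_one] at h9
      exact h9
    exact this.symm
  have hsurj := Finite.surjective_of_injective hinj
  have hZ1 : ∀ z ∈ Z, ρ z = 1 := by
    intro z hz
    obtain ⟨q, hq⟩ := hsurj ⟨z, hz⟩
    have : (q:A)⁻¹ * (x:A) * q * (x:A)⁻¹ = z := congrArg Subtype.val hq
    rw [← this]
    exact h1 q q.2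
  -- nilpotency: everything acts trivially
  have hucs : ∀ m : ℕ, ∀ y : K, y ∈ Subgroup.upperCentralSeries K m → ρ (y : A) = 1 := by
    intro m
    induction m with
    | zero =>
      intro y hy
      rw [Subgroup.upperCentralSeries_zero, Subgroup.mem_bot] at hy
      rw [hy, Subgroup.coe_one, map_one]
    | succ m ih =>
      intro y hy
      rw [Subgroup.mem_upperCentralSeries_succ_iff] at hy
      apply hZ1
      refine ⟨y.2, fun b hb => ?_⟩
      have h2 := ih _ (hy ⟨b, hb⟩)
      have h3 : ρ ((y:A) * b * (y:A)⁻¹ * b⁻¹) = 1 := h2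
      calc ρ (y:A) * ρ b = ρ ((y:A) * b * (y:A)⁻¹ * b⁻¹) * (ρ b * ρ (y:A)) := by
            rw [← map_mul, ← map_mul, ← map_mul]; congr 1; group
        _ = ρ b * ρ (y:A) := by rw [h3, one_mul]
  obtain ⟨m, hm⟩ := hnil.nilpotent
  have hall : ∀ a ∈ K, ρ a = 1 := by
    intro a ha
    exact hucs m ⟨a, ha⟩ (by rw [hm]; exact Subgroup.mem_top _)
  intro a ha b hb
  rw [hall a ha, hall b hb]

end Cfsg.Agent.H1.FrobAb
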