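import Mathlib
import Cfsg.Agent.H1.FrobAbB
import Cfsg.Agent.H1.FrobFixC

namespace Cfsg.Agent.H1.FrobAb
open Cfsg.Agent.H1.FrobFree Cfsg.Agent.H1.FrobFix

universe u

theorem ab_module {F : Type*} [Group F] [Finite F] (K R : Subgroup F) [hKn : K.Normal]
    (hsup : K ⊔ R = ⊤) (hnil : Group.IsNilpotent K) (hRp : (Nat.card R).Prime)
    (hfpf : ∀ e ∈ R, e ≠ 1 → ∀ u ∈ K, u * e = e * u → u = 1)
    {H : Type u} [CommGroup H] [Finite H] (ℓ : ℕ) [hℓ : Fact ℓ.Prime] [Module (ZMod ℓ) (Additive H)]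
    (φ : F →* MulAut H) (hℓF : ¬ ℓ ∣ Nat.card F) (hfix : Nat.card (fixS φ R) = ℓ) :
    ∀ a ∈ K, ∀ b ∈ K, ∀ h : H, φ a (φ b h) = φ b (φ a h) := by
  classical
  let ρ : F →* Module.End (ZMod ℓ) (Additive H) :=
    { toFun := fun f => actLin ℓ (φ f)
      map_one' := by
        refine LinearMap.ext fun v => ?_
        rw [actLin_apply, map_one, MulAut.one_apply, Module.End.one_apply]
        rfl
      map_mul' := by
        intro f g
        refine LinearMap.ext fun v => ?_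
        rw [Module.End.mul_apply, actLin_apply, actLin_apply, actLin_apply, phi_mul_apply]
        rfl }
  have hρ : ∀ (f : F) (v : Additive H), ρ f v = Additive.ofMul (φ f (Additive.toMul v)) :=
    fun f v => rfl
  have hcard : (Nat.card K : ZMod ℓ) ≠ 0 := by
    rw [Ne, ZMod.natCast_eq_zero_iff]
    intro hdvd
    exact hℓF (dvd_trans hdvd (Subgroup.card_subgroup_dvd_card K))
  haveI : Group.IsSolvable K := IsNilpotent.to_isSolvable
  obtain ⟨n, hn⟩ := exists_dser_eq_bot K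
  obtain ⟨V1, V2, hV1, hdis, hsupV, hV1inv, hV2inv⟩ := fix_ker_decomp ρ K hcard
  set ρ2 := resRep ρ V2 hV2inv with hρ2
  have hCV2 : ∀ v : V2, (∀ q ∈ K, ρ2 q v = v) → v = 0 := by
    intro v hv
    apply Subtype.ext
    have h1 : (v : Additive H) ∈ V1 := by
      rw [hV1]
      intro q hq
      have := congrArg Subtype.val (hv q hq)
      rwa [hρ2, resRep_apply] at this
    have h2 : (v : Additive H) ∈ V1 ⊓ V2 := ⟨h1, v.2⟩
    rw [hdis] at h2
    exact (Submodule.mem_bot (ZMod ℓ)).1 h2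
  obtain ⟨W, hW1, hW2⟩ := free_main R n ↥V2 ρ2 K hKn hn hcard hfpf hCV2
  obtain ⟨hc1, hc2⟩ := card_free (ρ2.comp R.subtype) W hW1 hW2
  have hfr := finrank_free (ρ2.comp R.subtype) W hW1 hW2
  -- |W| ≤ ℓ
  have hWle : Nat.card W ≤ ℓ := by
    have h1 : Nat.card {v : V2 // ∀ h : R, (ρ2.comp R.subtype) h v = v} ≤ Nat.card (fixS φ R) := by
      apply Nat.card_le_card_of_injective
        (fun v : {v : V2 // ∀ h : R, (ρ2.comp R.subtype) h v = v} =>
          (⟨Additive.toMul ((v.1 : V2) : Additive H), fun y hy => by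
            have := congrArg Subtype.val (v.2 ⟨y, hy⟩)
            exact this⟩ : fixS φ R))
      intro v w hvw
      apply Subtype.ext
      apply Subtype.ext
      have h2 := Subtype.ext_iff.1 hvw
      exact h2
    rw [hc2, hfix] at h1
    exact h1
  have hWcard : Nat.card W = ℓ ^ Module.finrank (ZMod ℓ) W := by
    rw [Module.natCard_eq_pow_finrank (K := ZMod ℓ) (V := W), Nat.card_zmod]
  have hW01 : Module.finrank (ZMod ℓ) W ≤ 1 := by
    by_contra h
    push Not at h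
    have h1 : ℓ ^ 2 ≤ ℓ ^ Module.finrank (ZMod ℓ) W := Nat.pow_le_pow_right hℓ.out.pos h
    have h2 : ℓ < ℓ ^ 2 := by
      have := hℓ.out.one_lt
      nlinarith
    omega
  have hcomm2 : ∀ a ∈ K, ∀ b ∈ K, ρ2 a * ρ2 b = ρ2 b * ρ2 a := by
    rcases Nat.eq_zero_or_pos (Module.finrank (ZMod ℓ) W) with h0 | hpos
    · have h1 : Module.finrank (ZMod ℓ) V2 = 0 := by rw [hfr, h0, mul_zero]
      haveI : Subsingleton V2 := Module.finrank_zero_iff.1 h1
      intro a _ b _
      apply LinearMap.ext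
      intro v
      exact Subsingleton.elim _ _
    · have h1 : Module.finrank (ZMod ℓ) W = 1 := by omega
      have hdim : Module.finrank (ZMod ℓ) V2 = Nat.card R := by rw [hfr, h1, mul_one]
      exact lin_abelian ρ2 K R hsup hnil hRp hcard hfpf hdim hCV2
  intro a ha b hb h
  have hv : Additive.ofMul h ∈ V1 ⊔ V2 := by rw [hsupV]; exact Submodule.mem_top
  obtain ⟨v1, hv1, v2, hv2, hsum⟩ := Submodule.mem_sup.1 hv
  have e1 : ρ a (ρ b v1) = ρ b (ρ a v1) := by
    rw [(hV1 v1).1 hv1 b hb, (hV1 v1).1 hv1 a ha, (hV1 v1).1 hv1 b hb]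
  have e2 : ρ a (ρ b v2) = ρ b (ρ a v2) := by
    have := congrArg (fun f : Module.End (ZMod ℓ) V2 => ((f ⟨v2, hv2⟩ : V2) : Additive H))
      (hcomm2 a ha b hb)
    exact this
  have e3 : ρ a (ρ b (Additive.ofMul h)) = ρ b (ρ a (Additive.ofMul h)) := by
    rw [← hsum, map_add, map_add, map_add, map_add, e1, e2]
  exact e3

theorem ab_elementary {F : Type*} [Group F] [Finite F] (K R : Subgroup F) [hKn : K.Normal]
    (hsup : K ⊔ R = ⊤) (hnil : Group.IsNilpotent K) (hRp : (Nat.card R).Prime)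
    (hfpf : ∀ e ∈ R, e ≠ 1 → ∀ u ∈ K, u * e = e * u → u = 1)
    {H : Type u} [Group H] [Finite H] (φ : F →* MulAut H) (ℓ : ℕ) (hℓ : ℓ.Prime)
    (hcomm : ∀ a b : H, a * b = b * a) (hexp : ∀ x : H, x ^ ℓ = 1)
    (hℓF : ¬ ℓ ∣ Nat.card F) (hfix : Nat.card (fixS φ R) = ℓ) :
    ∀ a ∈ K, ∀ b ∈ K, ∀ h : H, φ a (φ b h) = φ b (φ a h) := by
  classical
  haveI : Fact ℓ.Prime := ⟨hℓ⟩
  letI : CommGroup H := { (inferInstance : Group H) with mul_comm := hcomm }
  letI : Module (ZMod ℓ) (Additive H) := AddCommGroup.zmodModule (n := ℓ) (by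
    intro x
    show Additive.ofMul ((Additive.toMul x) ^ ℓ) = 0
    rw [hexp]
    rfl)
  exact ab_module K R hsup hnil hRp hfpf ℓ φ hℓF hfix

end Cfsg.Agent.H1.FrobAb
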