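import Mathlib
import Cfsg.Agent.H1.FrobAbC

namespace Cfsg.Agent.H1.FrobAb
open Cfsg.Agent.H1.FrobFree Cfsg.Agent.H1.FrobFix
open scoped commutatorElement

universe u

theorem ab_module_le {F : Type*} [Group F] [Finite F] (K R : Subgroup F) [hKn : K.Normal]
    (hsup : K ⊔ R = ⊤) (hnil : Group.IsNilpotent K) (hRp : (Nat.card R).Prime)
    (hfpf : ∀ e ∈ R, e ≠ 1 → ∀ u ∈ K, u * e = e * u → u = 1)
    {H : Type u} [CommGroup H] [Finite H] (ℓ : ℕ) [hℓ : Fact ℓ.Prime] [Module (ZMod ℓ) (Additive H)]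
    (φ : F →* MulAut H) (hℓF : ¬ ℓ ∣ Nat.card F) (hfix : Nat.card (fixS φ R) ≤ ℓ) :
    ∀ a ∈ K, ∀ b ∈ K, ∀ h : H, φ a (φ b h) = φ b (φ a h) := by
  classical
  let ρ : F →* Module.End (ZMod ℓ) (Additive H) :=
    { toFun := fun f => actLin ℓ (φ f)
      map_one' := by
        refine LinearMap.ext fun v => ?_
        rw [actLin_apply, map_one, MulAut.one_apply, Module.End.one_apply]
        rfl
      map_mul' := by
        intro f g
        refine LinearMap.ext fun v => ?_
        rw [Module.End.mul_apply, actLin_apply, actLin_apply, actLin_apply, phi_mul_apply]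
        rfl }
  have hρ : ∀ (f : F) (v : Additive H), ρ f v = Additive.ofMul (φ f (Additive.toMul v)) :=
    fun f v => rfl
  have hcard : (Nat.card K : ZMod ℓ) ≠ 0 := by
    rw [Ne, ZMod.natCast_eq_zero_iff]
    intro hdvd
    exact hℓF (dvd_trans hdvd (Subgroup.card_subgroup_dvd_card K))
  haveI : Group.IsSolvable K := IsNilpotent.to_isSolvable
  obtain ⟨n, hn⟩ := exists_dser_eq_bot K
  obtain ⟨V1, V2, hV1, hdis, hsupV, hV1inv, hV2inv⟩ := fix_ker_decomp ρ K hcard
  set ρ2 := resRep ρ V2 hV2inv with hρ2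
  have hCV2 : ∀ v : V2, (∀ q ∈ K, ρ2 q v = v) → v = 0 := by
    intro v hv
    apply Subtype.ext
    have h1 : (v : Additive H) ∈ V1 := by
      rw [hV1]
      intro q hq
      have := congrArg Subtype.val (hv q hq)
      rwa [hρ2, resRep_apply] at this
    have h2 : (v : Additive H) ∈ V1 ⊓ V2 := ⟨h1, v.2⟩
    rw [hdis] at h2
    exact (Submodule.mem_bot (ZMod ℓ)).1 h2
  obtain ⟨W, hW1, hW2⟩ := free_main R n ↥V2 ρ2 K hKn hn hcard hfpf hCV2
  obtain ⟨hc1, hc2⟩ := card_free (ρ2.comp R.subtype) W hW1 hW2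
  have hfr := finrank_free (ρ2.comp R.subtype) W hW1 hW2
  -- |W| ≤ ℓ
  have hWle : Nat.card W ≤ ℓ := by
    have h1 : Nat.card {v : V2 // ∀ h : R, (ρ2.comp R.subtype) h v = v} ≤ Nat.card (fixS φ R) := by
      apply Nat.card_le_card_of_injective
        (fun v : {v : V2 // ∀ h : R, (ρ2.comp R.subtype) h v = v} =>
          (⟨Additive.toMul ((v.1 : V2) : Additive H), fun y hy => by
            have := congrArg Subtype.val (v.2 ⟨y, hy⟩)
            exact this⟩ : fixS φ R))
      intro v w hvw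
      apply Subtype.ext
      apply Subtype.ext
      have h2 := Subtype.ext_iff.1 hvw
      exact h2
    rw [hc2] at h1
    exact h1.trans hfix
  have hWcard : Nat.card W = ℓ ^ Module.finrank (ZMod ℓ) W := by
    rw [Module.natCard_eq_pow_finrank (K := ZMod ℓ) (V := W), Nat.card_zmod]
  have hW01 : Module.finrank (ZMod ℓ) W ≤ 1 := by
    by_contra h
    push Not at h
    have h1 : ℓ ^ 2 ≤ ℓ ^ Module.finrank (ZMod ℓ) W := Nat.pow_le_pow_right hℓ.out.pos h
    have h2 : ℓ < ℓ ^ 2 := by
      have := hℓ.out.one_lt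
      nlinarith
    omega
  have hcomm2 : ∀ a ∈ K, ∀ b ∈ K, ρ2 a * ρ2 b = ρ2 b * ρ2 a := by
    rcases Nat.eq_zero_or_pos (Module.finrank (ZMod ℓ) W) with h0 | hpos
    · have h1 : Module.finrank (ZMod ℓ) V2 = 0 := by rw [hfr, h0, mul_zero]
      haveI : Subsingleton V2 := Module.finrank_zero_iff.1 h1
      intro a _ b _
      apply LinearMap.ext
      intro v
      exact Subsingleton.elim _ _
    · have h1 : Module.finrank (ZMod ℓ) W = 1 := by omega
      have hdim : Module.finrank (ZMod ℓ) V2 = Nat.card R := by rw [hfr, h1, mul_one]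
      exact lin_abelian ρ2 K R hsup hnil hRp hcard hfpf hdim hCV2
  intro a ha b hb h
  have hv : Additive.ofMul h ∈ V1 ⊔ V2 := by rw [hsupV]; exact Submodule.mem_top
  obtain ⟨v1, hv1, v2, hv2, hsum⟩ := Submodule.mem_sup.1 hv
  have e1 : ρ a (ρ b v1) = ρ b (ρ a v1) := by
    rw [(hV1 v1).1 hv1 b hb, (hV1 v1).1 hv1 a ha, (hV1 v1).1 hv1 b hb]
  have e2 : ρ a (ρ b v2) = ρ b (ρ a v2) := by
    have := congrArg (fun f : Module.End (ZMod ℓ) V2 => ((f ⟨v2, hv2⟩ : V2) : Additive H))
      (hcomm2 a ha b hb)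
    exact this
  have e3 : ρ a (ρ b (Additive.ofMul h)) = ρ b (ρ a (Additive.ofMul h)) := by
    rw [← hsum, map_add, map_add, map_add, map_add, e1, e2]
  exact e3

theorem ab_elementary_le {F : Type*} [Group F] [Finite F] (K R : Subgroup F) [hKn : K.Normal]
    (hsup : K ⊔ R = ⊤) (hnil : Group.IsNilpotent K) (hRp : (Nat.card R).Prime)
    (hfpf : ∀ e ∈ R, e ≠ 1 → ∀ u ∈ K, u * e = e * u → u = 1)
    {H : Type u} [Group H] [Finite H] (φ : F →* MulAut H) (ℓ : ℕ) (hℓ : ℓ.Prime)
    (hcomm : ∀ a b : H, a * b = b * a) (hexp : ∀ x : H, x ^ ℓ = 1)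
    (hℓF : ¬ ℓ ∣ Nat.card F) (hfix : Nat.card (fixS φ R) ≤ ℓ) :
    ∀ a ∈ K, ∀ b ∈ K, ∀ h : H, φ a (φ b h) = φ b (φ a h) := by
  classical
  haveI : Fact ℓ.Prime := ⟨hℓ⟩
  letI : CommGroup H := { (inferInstance : Group H) with mul_comm := hcomm }
  letI : Module (ZMod ℓ) (Additive H) := AddCommGroup.zmodModule (n := ℓ) (by
    intro x
    show Additive.ofMul ((Additive.toMul x) ^ ℓ) = 0
    rw [hexp]
    rfl)
  exact ab_module_le K R hsup hnil hRp hfpf ℓ φ hℓF hfix


section Quot
variable {F : Type*} [Group F] [Finite F] {H : Type*} [Group H] [Finite H]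

theorem fix_quot_surj (φ : F →* MulAut H) (N : Subgroup H) [N.Normal]
    (hN : ∀ f : F, ∀ n ∈ N, φ f n ∈ N) (hab : ∀ a ∈ N, ∀ b ∈ N, a * b = b * a)
    (Y : Subgroup F) (hcop : (Nat.card N).Coprime (Nat.card Y)) :
    ∃ π : fixS φ Y →* fixS (quotAct φ N hN) Y, Function.Surjective π := by
  classical
  let π : fixS φ Y →* fixS (quotAct φ N hN) Y :=
    { toFun := fun h => ⟨QuotientGroup.mk (h : H), by
        intro y hy
        rw [quotAct_mk, h.2 y hy]⟩
      map_one' := rfl
      map_mul' := fun a b => rfl }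
  refine ⟨π, ?_⟩
  rintro ⟨q, hq⟩
  induction q using QuotientGroup.induction_on with
  | H x =>
    have hx : ∀ y ∈ Y, x⁻¹ * φ y x ∈ N := by
      intro y hy
      have := hq y hy
      rw [quotAct_mk] at this
      exact QuotientGroup.eq.1 this.symm
    obtain ⟨n, hn, hfix⟩ := exists_fixed_in_coset φ N hN hab Y hcop x hx
    refine ⟨⟨x * n, hfix⟩, ?_⟩
    apply Subtype.ext
    show (QuotientGroup.mk (x * n) : H ⧸ N) = QuotientGroup.mk x
    rw [QuotientGroup.eq]
    simpa using hn

theorem fix_res_inj (φ : F →* MulAut H) (N : Subgroup H)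
    (hN : ∀ f : F, ∀ n ∈ N, φ f n ∈ N) (Y : Subgroup F) :
    ∃ ι : fixS (resAct φ N hN) Y →* fixS φ Y, Function.Injective ι := by
  let ι : fixS (resAct φ N hN) Y →* fixS φ Y :=
    { toFun := fun n => ⟨((n : N) : H), by
        intro y hy
        have := congrArg Subtype.val (n.2 y hy)
        exact this⟩
      map_one' := rfl
      map_mul' := fun a b => rfl }
  refine ⟨ι, ?_⟩
  intro a b hab
  apply Subtype.ext
  apply Subtype.ext
  have h2 := Subtype.ext_iff.1 hab
  exact h2

/-- stability: acting trivially on `N` and `H/N` with coprime order forces a trivial action -/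
theorem ker_of_stable (φ : F →* MulAut H) (N : Subgroup H) [N.Normal]
    (hN : ∀ f : F, ∀ n ∈ N, φ f n ∈ N) (hcop : (Nat.card N).Coprime (Nat.card F)) (c : F)
    (h1 : c ∈ (resAct φ N hN).ker) (h2 : c ∈ (quotAct φ N hN).ker) : c ∈ φ.ker := by
  rw [MonoidHom.mem_ker] at h1 h2 ⊢
  have hfixN : ∀ n ∈ N, φ c n = n := by
    intro n hn
    have := congrArg (fun e : MulAut N => ((e ⟨n, hn⟩ : N) : H)) h1
    exact this
  have hd : ∀ h : H, h⁻¹ * φ c h ∈ N := by
    intro h
    have := congrArg (fun e : MulAut (H ⧸ N) => e (QuotientGroup.mk h)) h2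
    simp only [quotAct_mk, MulAut.one_apply] at this
    exact QuotientGroup.eq.1 this.symm
  have hpow : ∀ (j : ℕ) (h : H), φ (c ^ j) h = h * (h⁻¹ * φ c h) ^ j := by
    intro j
    induction j with
    | zero => intro h; simp
    | succ j ih =>
      intro h
      rw [pow_succ', phi_mul_apply, ih, map_mul, hfixN _ (N.pow_mem (hd h) j), pow_succ',
        ← mul_assoc, mul_inv_cancel_left]
  set m := Nat.card N with hm
  have hcm : φ c ^ m = 1 := by
    rw [← map_pow]
    ext h
    rw [hpow, MulAut.one_apply]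
    have : (⟨h⁻¹ * φ c h, hd h⟩ : N) ^ m = 1 := by rw [hm]; exact pow_card_eq_one'
    have h3 := congrArg Subtype.val this
    rw [Subgroup.coe_pow, Subgroup.coe_one] at h3
    rw [h3, mul_one]
  have ho1 : orderOf (φ c) ∣ m := orderOf_dvd_of_pow_eq_one hcm
  have ho2 : orderOf (φ c) ∣ Nat.card F := dvd_trans (orderOf_map_dvd φ c) (orderOf_dvd_natCard c)
  have ho : orderOf (φ c) = 1 := Nat.dvd_one.1 (hcop ▸ Nat.dvd_gcd ho1 ho2)
  exact orderOf_eq_one_iff.1 ho

end Quot

theorem ab_all {F : Type*} [Group F] [Finite F] (K R : Subgroup F) [hKn : K.Normal]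
    (hsup : K ⊔ R = ⊤) (hnil : Group.IsNilpotent K) (hRp : (Nat.card R).Prime)
    (hfpf : ∀ e ∈ R, e ≠ 1 → ∀ u ∈ K, u * e = e * u → u = 1) (n : ℕ) :
    ∀ (H : Type u) [Group H] [Finite H] (φ : F →* MulAut H), Nat.card H ≤ n →
      Group.IsSolvable H → (Nat.card H).Coprime (Nat.card F) → IsCyclic (fixS φ R) →
      ⁅K, K⁆ ≤ φ.ker := by
  induction n with
  | zero =>
    intro H _ _ φ hn _ _ _
    have := Nat.card_pos (α := H)
    omega
  | succ n ih =>
    intro H _ _ φ hn hs hcop hcyc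
    by_cases hnt : Nontrivial H
    swap
    · haveI : Subsingleton H := not_nontrivial_iff_subsingleton.1 hnt
      intro c _
      rw [MonoidHom.mem_ker]
      ext h
      exact Subsingleton.elim _ _
    haveI := hs
    rcases exists_char_abelian (H := H) with h | ⟨N, hNchar, hNbot, hNtop, hNab⟩
    · obtain ⟨ℓ, hℓ, hcomm, hexp⟩ := h
      have hℓH : ℓ ∣ Nat.card H := by
        obtain ⟨x, hx⟩ := exists_ne (1 : H)
        have h1 : orderOf x ∣ ℓ := orderOf_dvd_of_pow_eq_one (hexp x)
        rcases (Nat.dvd_prime hℓ).1 h1 with h2 | h2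
        · exact absurd (orderOf_eq_one_iff.1 h2) hx
        · rw [← h2]; exact orderOf_dvd_natCard x
      have hℓF : ¬ ℓ ∣ Nat.card F := by
        intro h1
        have h2 := Nat.dvd_gcd hℓH h1
        rw [hcop] at h2
        exact hℓ.one_lt.ne' (Nat.dvd_one.1 h2)
      have hfixle : Nat.card (fixS φ R) ≤ ℓ := by
        obtain ⟨g, hg⟩ := hcyc.exists_generator
        rw [← orderOf_eq_card_of_forall_mem_zpowers hg]
        apply Nat.le_of_dvd hℓ.pos
        apply orderOf_dvd_of_pow_eq_one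
        apply Subtype.ext
        rw [Subgroup.coe_pow, Subgroup.coe_one]
        exact hexp _
      have key := ab_elementary_le K R hsup hnil hRp hfpf φ ℓ hℓ hcomm hexp hℓF hfixle
      rw [Subgroup.commutator_le]
      intro a ha b hb
      rw [MonoidHom.mem_ker, map_commutatorElement, commutatorElement_eq_one_iff_mul_comm]
      ext h
      exact key a ha b hb h
    · haveI := hNchar
      haveI hNn : N.Normal := inferInstance
      have hN : ∀ f : F, ∀ n ∈ N, φ f n ∈ N := by
        intro f n hn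
        exact (Subgroup.characteristic_iff_le_comap.1 hNchar) (φ f) hn
      have hcardH : Nat.card H = Nat.card (H ⧸ N) * Nat.card N :=
        Subgroup.card_eq_card_quotient_mul_card_subgroup N
      have hN1 : 1 < Nat.card N := (Subgroup.one_lt_card_iff_ne_bot N).2 hNbot
      have hQ1 : 1 < Nat.card (H ⧸ N) := by
        have h0 : 0 < Nat.card (H ⧸ N) := Nat.card_pos
        by_contra hle
        have h1 : Nat.card (H ⧸ N) = 1 := by omega
        apply hNtop
        rw [← Subgroup.index_eq_one]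
        exact h1
      have hNlt : Nat.card N ≤ n := by
        have : Nat.card N * 2 ≤ Nat.card H := by
          rw [hcardH, mul_comm]
          exact Nat.mul_le_mul_right _ hQ1
        omega
      have hQlt : Nat.card (H ⧸ N) ≤ n := by
        have : Nat.card (H ⧸ N) * 2 ≤ Nat.card H := by
          rw [hcardH]
          exact Nat.mul_le_mul_left _ hN1
        omega
      have hcopN : (Nat.card N).Coprime (Nat.card F) :=
        Nat.Coprime.coprime_dvd_left (Subgroup.card_subgroup_dvd_card N) hcop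
      have hcopQ : (Nat.card (H ⧸ N)).Coprime (Nat.card F) :=
        Nat.Coprime.coprime_dvd_left ⟨Nat.card N, hcardH⟩ hcop
      have hcopR : (Nat.card N).Coprime (Nat.card R) :=
        Nat.Coprime.coprime_dvd_right (Subgroup.card_subgroup_dvd_card R) hcopN
      obtain ⟨ι, hι⟩ := fix_res_inj φ N hN R
      obtain ⟨π, hπ⟩ := fix_quot_surj φ N hN hNab R hcopR
      haveI := hcyc
      have hcycN : IsCyclic (fixS (resAct φ N hN) R) := isCyclic_of_injective ι hι
      have hcycQ : IsCyclic (fixS (quotAct φ N hN) R) := isCyclic_of_surjective π hπ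
      have h1 := ih ↥N (resAct φ N hN) hNlt inferInstance hcopN hcycN
      have h2 := ih (H ⧸ N) (quotAct φ N hN) hQlt inferInstance hcopQ hcycQ
      intro c hc
      exact ker_of_stable φ N hN hcopN c (h1 hc) (h2 hc)

end Cfsg.Agent.H1.FrobAb
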