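import Mathlib
import Cfsg.Agent.H1.FrobAbD

namespace Cfsg.Agent.H1.FrobAb
open Cfsg.Agent.H1.FrobFree Cfsg.Agent.H1.FrobFix
open scoped commutatorElement Pointwise

section Internal
variable {X : Type*} [Group X] [Finite X]

theorem internal_pkg (U E : Subgroup X) (hU1 : U ≠ ⊥) (hE1 : E ≠ ⊥) (hUE : U ⊓ E = ⊥)
    (hUn : ∀ e ∈ E, ∀ u ∈ U, e * u * e⁻¹ ∈ U)
    (hfpf : ∀ e ∈ E, e ≠ 1 → ∀ u ∈ U, e * u = u * e → u = 1) :
    (U.subgroupOf (U ⊔ E)).Normal ∧ U.subgroupOf (U ⊔ E) ⊔ E.subgroupOf (U ⊔ E) = ⊤ ∧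
    Group.IsNilpotent (U.subgroupOf (U ⊔ E)) ∧
    (∀ e ∈ E.subgroupOf (U ⊔ E), e ≠ 1 → ∀ u ∈ U.subgroupOf (U ⊔ E), u * e = e * u → u = 1) ∧
    Nat.card (E.subgroupOf (U ⊔ E)) = Nat.card E := by
  classical
  set L : Subgroup X := U ⊔ E with hL
  have hUL : U ≤ L := le_sup_left
  have hEL : E ≤ L := le_sup_right
  set U' : Subgroup L := U.subgroupOf L with hU'
  set E' : Subgroup L := E.subgroupOf L with hE'
  have hEN : E ≤ Subgroup.normalizer (U : Set X) := by
    intro e he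
    rw [Subgroup.mem_normalizer_iff]
    intro u
    constructor
    · intro hu
      exact hUn e he u hu
    · intro hu
      have := hUn e⁻¹ (E.inv_mem he) _ hu
      rw [inv_inv] at this
      convert this using 1
      group
  have hLN : L ≤ Subgroup.normalizer (U : Set X) := sup_le Subgroup.le_normalizer hEN
  haveI hU'n : U'.Normal := by
    refine ⟨fun n hn g => ?_⟩
    rw [hU', Subgroup.mem_subgroupOf] at hn ⊢
    have := (Subgroup.mem_normalizer_iff.1 (hLN g.2) (n : X)).1 hn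
    simpa using this
  have hsup : U' ⊔ E' = ⊤ := by
    rw [hU', hE', ← Subgroup.subgroupOf_sup hUL hEL, Subgroup.subgroupOf_self]
  have hdisj : U' ⊓ E' = ⊥ := by
    rw [eq_bot_iff]
    rintro x ⟨hx1, hx2⟩
    rw [Subgroup.mem_bot]
    apply Subtype.ext
    have : (x : X) ∈ U ⊓ E := ⟨Subgroup.mem_subgroupOf.1 hx1, Subgroup.mem_subgroupOf.1 hx2⟩
    rw [hUE, Subgroup.mem_bot] at this
    exact this
  have hfpf' : ∀ e ∈ E', e ≠ 1 → ∀ u ∈ U', u * e = e * u → u = 1 := by
    intro e he hne u hu hcomm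
    apply Subtype.ext
    apply hfpf (e : X) (Subgroup.mem_subgroupOf.1 he) (fun h => hne (Subtype.ext h)) (u : X)
      (Subgroup.mem_subgroupOf.1 hu)
    have := congrArg Subtype.val hcomm
    exact this.symm
  have hU'bot : U' ≠ ⊥ := by
    intro h
    apply hU1
    rw [eq_bot_iff]
    intro u hu
    have : (⟨u, hUL hu⟩ : L) ∈ U' := Subgroup.mem_subgroupOf.2 hu
    rw [h, Subgroup.mem_bot] at this
    rw [Subgroup.mem_bot]
    exact congrArg Subtype.val this
  have hE'bot : E' ≠ ⊥ := by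
    intro h
    apply hE1
    rw [eq_bot_iff]
    intro u hu
    have : (⟨u, hEL hu⟩ : L) ∈ E' := Subgroup.mem_subgroupOf.2 hu
    rw [h, Subgroup.mem_bot] at this
    rw [Subgroup.mem_bot]
    exact congrArg Subtype.val this
  have hcompl : Subgroup.IsComplement' U' E' := by
    apply Subgroup.isComplement'_of_disjoint_and_mul_eq_univ (disjoint_iff.2 hdisj)
    rw [← Subgroup.normal_mul, hsup]
    rfl
  have hFC : Cfsg.IsFrobeniusComplement E' := by
    rw [Cfsg.Agent.S0039.result U' E' hcompl hU'bot hE'bot]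
    intro e he hne
    rw [eq_bot_iff]
    rintro u ⟨hu1, hu2⟩
    rw [Subgroup.mem_bot]
    apply hfpf' e he hne u hu1
    have := Subgroup.mem_centralizer_iff.1 hu2 e (Set.mem_singleton e)
    exact this.symm
  obtain ⟨N, hNk, hNn, hNc⟩ := Cfsg.Agent.S0035.result E' hFC
  have hU'N : U' ≤ N := by
    intro u hu
    have : u ∈ (N : Set L) := by
      rw [hNk]
      by_cases hu1 : u = 1
      · exact Or.inl hu1
      · right
        intro g hg
        rw [Subgroup.mem_pointwise_smul_iff_inv_smul_mem] at hg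
        have h1 : (MulAut.conj g)⁻¹ • u ∈ U' := by
          rw [MulAut.smul_def, MulAut.conj_inv_apply]
          have := hU'n.conj_mem u hu g⁻¹
          simpa using this
        have h2 : (MulAut.conj g)⁻¹ • u ∈ U' ⊓ E' := ⟨h1, hg⟩
        rw [hdisj, Subgroup.mem_bot] at h2
        apply hu1
        rw [MulAut.smul_def, MulAut.conj_inv_apply] at h2
        have : u = g * (g⁻¹ * u * g) * g⁻¹ := by group
        rw [this, h2]
        group
    exact this
  have hcardUN : Nat.card U' = Nat.card N := by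
    have h1 := hcompl.card_mul_card
    have h2 := hNc.card_mul_card
    have hpos : 0 < Nat.card E' := Nat.card_pos
    exact Nat.eq_of_mul_eq_mul_right hpos (h1.trans h2.symm)
  have hUN : U' = N := Subgroup.eq_of_le_of_card_ge hU'N hcardUN.ge
  have hker : Cfsg.frobeniusKernel E' = (U' : Set L) := by rw [hUN, hNk]
  obtain ⟨-, -, hnil, -⟩ := Cfsg.Agent.H1.frob_pkg E' U' hFC hker
  have e4 : Nat.card E' = Nat.card E :=
    Nat.card_congr (Subgroup.subgroupOfEquivOfLe hEL).toEquiv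
  exact ⟨hU'n, hsup, hnil, hfpf', e4⟩

theorem internal_ab (U E H : Subgroup X) (hU1 : U ≠ ⊥) (hE1 : E ≠ ⊥) (hUE : U ⊓ E = ⊥)
    (hUn : ∀ e ∈ E, ∀ u ∈ U, e * u * e⁻¹ ∈ U)
    (hfpf : ∀ e ∈ E, e ≠ 1 → ∀ u ∈ U, e * u = u * e → u = 1)
    (hEp : (Nat.card E).Prime)
    (hHn : ∀ x ∈ U ⊔ E, ∀ h ∈ H, x * h * x⁻¹ ∈ H) (hsolv : Group.IsSolvable H)
    (hcop : Nat.Coprime (Nat.card H) (Nat.card ↥(U ⊔ E)))
    (hcyc : IsCyclic ↥(H ⊓ Subgroup.centralizer (E : Set X))) :
    ⁅U, U⁆ ≤ Subgroup.centralizer (H : Set X) := by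
  classical
  obtain ⟨hU'n, hsup, hnil, hfpf', e4⟩ := internal_pkg U E hU1 hE1 hUE hUn hfpf
  set L : Subgroup X := U ⊔ E with hL
  have hUL : U ≤ L := le_sup_left
  have hEL : E ≤ L := le_sup_right
  set U' : Subgroup L := U.subgroupOf L with hU'
  set E' : Subgroup L := E.subgroupOf L with hE'
  set φ := conjAct L H hHn with hφ
  have hcyc' : IsCyclic (fixS φ E') := by
    let ι : fixS φ E' →* ↥(H ⊓ Subgroup.centralizer (E : Set X)) :=
      { toFun := fun h => ⟨(h.1 : X), h.1.2, by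
          show (h.1 : X) ∈ Subgroup.centralizer (E : Set X)
          rw [Subgroup.mem_centralizer_iff]
          intro y hy
          have h1 := h.2 ⟨y, hEL hy⟩ (Subgroup.mem_subgroupOf.2 hy)
          have h2 : y * (h.1 : X) * y⁻¹ = (h.1 : X) := congrArg Subtype.val h1
          calc y * (h.1 : X) = (y * (h.1 : X) * y⁻¹) * y := by group
            _ = (h.1 : X) * y := by rw [h2]⟩
        map_one' := rfl
        map_mul' := fun a b => rfl }
    have hι : Function.Injective ι := by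
      intro a b hab
      apply Subtype.ext
      apply Subtype.ext
      have h2 := Subtype.ext_iff.1 hab
      exact h2
    exact isCyclic_of_injective ι hι
  rw [← e4] at hEp
  have key := ab_all U' E' hsup hnil hEp hfpf' (Nat.card H) ↥H φ le_rfl hsolv hcop hcyc'
  rw [Subgroup.commutator_le]
  intro a ha b hb
  have ha' : (⟨a, hUL ha⟩ : L) ∈ U' := Subgroup.mem_subgroupOf.2 ha
  have hb' : (⟨b, hUL hb⟩ : L) ∈ U' := Subgroup.mem_subgroupOf.2 hb
  have h := key (Subgroup.commutator_mem_commutator ha' hb')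
  rw [MonoidHom.mem_ker] at h
  rw [Subgroup.mem_centralizer_iff]
  intro m hm
  have h1 := congrArg (fun e : MulAut H => ((e ⟨m, hm⟩ : H) : X)) h
  have h2 : ⁅a, b⁆ * m * ⁅a, b⁆⁻¹ = m := h1
  calc m * ⁅a, b⁆ = (⁅a, b⁆ * m * ⁅a, b⁆⁻¹) * ⁅a, b⁆ := by rw [h2]
    _ = ⁅a, b⁆ * m := by group

end Internal

end Cfsg.Agent.H1.FrobAb
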