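import Mathlib
import Cfsg.Agent.S0026
import Cfsg.Agent.H1.Cores
import Cfsg.Agent.H1.Card
import Cfsg.Agent.H2.BG11.B
import Cfsg.Agent.H2.BG12.A
import Cfsg.Agent.H2.BGU.Nilp
import Cfsg.Agent.Lib.Helper4.Rank2Aut
import Cfsg.Agent.Lib.Helper4.BGTransD
import Cfsg.Agent.Lib.Helper8.BGTenG

/-!
# B&G Section 11, part (c) [Theorem 11.7 / 12.5(c)]: general lemmas

General group-theoretic lemmas used in the assembly of (c): `M_σ A ⊴ M` for an exceptional
triple `(M, A, A₀)`.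
-/

set_option autoImplicit false
set_option linter.unusedVariables false
set_option linter.unusedSectionVars false
set_option linter.style.haveILetI false

open scoped commutatorElement

namespace Cfsg.Agent.H1.BG11c

open Cfsg Cfsg.Agent.Lib.Helper8.BGTen Cfsg.Agent.Lib.Helper4.BGTrans
open Cfsg.Agent.Lib.Helper7 (IsSylowIn exists_isSylowIn_ge)
open Cfsg.Agent.H2.BGU (Oq Oq_le isPGroup_Oq le_normalizer_Oq)

universe u

variable {G : Type u} [Group G] [Finite G]

/-! ### coprime action -/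

/-- coprime action: if `[K, A]` centralizes `A` then so does `K` -/
theorem le_centralizer_of_commutator_le {A K : Subgroup G}
    (hAK : A ≤ Subgroup.normalizer (K : Set G)) (hcop : (Nat.card ↥A).Coprime (Nat.card ↥K))
    (hsolv : Group.IsSolvable ↥A ∨ Group.IsSolvable ↥K)
    (hc : ⁅K, A⁆ ≤ Subgroup.centralizer (A : Set G)) : K ≤ Subgroup.centralizer (A : Set G) := by
  have h := Cfsg.Agent.S0026.result A K hAK hcop hsolv
  exact h.symm.le.trans (sup_le hc inf_le_right)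

/-- coprime action: if `C_K(A) = 1` then `K = [K, A]` -/
theorem commutator_eq_of_inf_centralizer_eq_bot {A K : Subgroup G}
    (hAK : A ≤ Subgroup.normalizer (K : Set G)) (hcop : (Nat.card ↥A).Coprime (Nat.card ↥K))
    (hsolv : Group.IsSolvable ↥A ∨ Group.IsSolvable ↥K)
    (hfix : K ⊓ Subgroup.centralizer (A : Set G) = ⊥) : ⁅K, A⁆ = K := by
  have h := Cfsg.Agent.S0026.result A K hAK hcop hsolv
  rwa [hfix, sup_bot_eq] at h

/-- an `r`-group meets a group of order prime to `r` trivially -/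
theorem inf_eq_bot_of_not_dvd {r : ℕ} [hr : Fact r.Prime] {X C : Subgroup G} (hX : IsPGroup r ↥X)
    (hC : ¬ r ∣ Nat.card ↥C) : X ⊓ C = ⊥ := by
  have hp : IsPGroup r ↥(X ⊓ C : Subgroup G) := hX.to_le inf_le_left
  obtain ⟨n, hn⟩ := hp.exists_card_eq
  rcases Nat.eq_zero_or_pos n with h0 | h0
  · rw [h0, pow_zero] at hn
    exact Subgroup.card_eq_one.mp hn
  · exfalso
    apply hC
    have h1 : r ∣ Nat.card ↥(X ⊓ C : Subgroup G) := by
      rw [hn]
      exact dvd_pow_self r h0.ne'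
    exact h1.trans (Subgroup.card_dvd_of_le inf_le_right)

/-- the order of an `r`-group is prime to every `n` not divisible by `r` -/
theorem coprime_card_of_isPGroup {r : ℕ} [hr : Fact r.Prime] {X : Subgroup G} (hX : IsPGroup r ↥X)
    {n : ℕ} (hn : ¬ r ∣ n) : (Nat.card ↥X).Coprime n := by
  obtain ⟨k, hk⟩ := hX.exists_card_eq
  rw [hk]
  exact Nat.Coprime.pow_left k ((Nat.Prime.coprime_iff_not_dvd hr.out).mpr hn)

/-- a nontrivial `r`-group has order divisible by `r` -/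
theorem dvd_card_of_isPGroup {r : ℕ} [hr : Fact r.Prime] {X : Subgroup G} (hX : IsPGroup r ↥X)
    (hX1 : X ≠ ⊥) : r ∣ Nat.card ↥X := by
  obtain ⟨k, hk⟩ := hX.exists_card_eq
  have hk0 : k ≠ 0 := by
    rintro rfl
    rw [pow_zero] at hk
    exact hX1 (Subgroup.card_eq_one.mp hk)
  rw [hk]
  exact dvd_pow_self r hk0

/-- a `p`-group acting on a group of prime order `r` without fixed points: `p < r` -/
theorem lt_of_fpf_prime {p r : ℕ} [hp : Fact p.Prime] (hr : r.Prime) {A X : Subgroup G}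
    (hA : IsPGroup p ↥A) (hAX : A ≤ Subgroup.normalizer (X : Set G)) (hX : Nat.card ↥X = r)
    (hfix : X ⊓ Subgroup.centralizer (A : Set G) = ⊥) : p < r := by
  classical
  letI : MulAction ↥A ↥X :=
    MulAction.compHom ↥X (Cfsg.Agent.Lib.Helper4.Rank2Aut.conjHom X A hAX)
  have hsmul : ∀ (a : ↥A) (x : ↥X), ((a • x : ↥X) : G) = a.1 * x.1 * a.1⁻¹ := fun a x => rfl
  have hfp : MulAction.fixedPoints ↥A ↥X = {1} := by
    ext x
    rw [MulAction.mem_fixedPoints, Set.mem_singleton_iff]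
    constructor
    · intro h
      have hx : (x : G) ∈ X ⊓ Subgroup.centralizer (A : Set G) := by
        refine ⟨x.2, ?_⟩
        refine Subgroup.mem_centralizer_iff.mpr ?_
        intro a ha
        have h1 := congrArg Subtype.val (h ⟨a, ha⟩)
        rw [hsmul] at h1
        exact mul_inv_eq_iff_eq_mul.mp h1
      rw [hfix, Subgroup.mem_bot] at hx
      exact Subtype.ext hx
    · rintro rfl a
      apply Subtype.ext
      rw [hsmul]
      simp
  have hmod := hA.card_modEq_card_fixedPoints ↥X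
  have hone : Nat.card ↥({1} : Set ↥X) = 1 := by simp
  rw [hfp, hX, hone] at hmod
  have hdvd : p ∣ r - 1 := (Nat.modEq_iff_dvd' hr.one_lt.le).mp hmod.symm
  have hle : p ≤ r - 1 := Nat.le_of_dvd (by have := hr.one_lt; omega) hdvd
  have := hr.one_lt
  omega

/-! ### `Ω₁(Z(R))` -/

/-- `Ω₁(Z(R))`: the elements of order dividing `r` in the centre of `R` -/
def omegaCenter (r : ℕ) (R : Subgroup G) : Subgroup G where
  carrier := {z | z ∈ R ∧ (∀ x ∈ R, x * z = z * x) ∧ z ^ r = 1}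
  one_mem' := ⟨R.one_mem, fun x _ => by rw [mul_one, one_mul], one_pow r⟩
  mul_mem' := by
    rintro a b ⟨ha, hac, har⟩ ⟨hb, hbc, hbr⟩
    refine ⟨R.mul_mem ha hb, fun x hx => ?_, ?_⟩
    · rw [← mul_assoc, hac x hx, mul_assoc, hbc x hx, ← mul_assoc]
    · have hcomm : Commute a b := hbc a ha
      rw [hcomm.mul_pow, har, hbr, one_mul]
  inv_mem' := by
    rintro a ⟨ha, hac, har⟩
    refine ⟨R.inv_mem ha, fun x hx => ?_, by rw [inv_pow, har, inv_one]⟩
    have h1 := hac x hx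
    calc x * a⁻¹ = a⁻¹ * (a * x) * a⁻¹ := by group
      _ = a⁻¹ * (x * a) * a⁻¹ := by rw [h1]
      _ = a⁻¹ * x := by group

theorem mem_omegaCenter {r : ℕ} {R : Subgroup G} {z : G} :
    z ∈ omegaCenter r R ↔ z ∈ R ∧ (∀ x ∈ R, x * z = z * x) ∧ z ^ r = 1 := Iff.rfl

theorem omegaCenter_le (r : ℕ) (R : Subgroup G) : omegaCenter r R ≤ R := fun _ h => h.1

theorem omegaCenter_elem (r : ℕ) (R : Subgroup G) :
    Cfsg.IsElementaryAbelian r (omegaCenter r R) := by
  refine ⟨⟨⟨fun a b => ?_⟩⟩, fun a ha => ha.2.2⟩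
  apply Subtype.ext
  exact b.2.2.1 a.1 a.2.1

theorem normalizer_le_normalizer_omegaCenter (r : ℕ) (R : Subgroup G) :
    Subgroup.normalizer (R : Set G) ≤ Subgroup.normalizer (omegaCenter r R : Set G) := by
  intro g hg
  apply Cfsg.Agent.Lib.Lead.Conj.mem_normalizer_of_conj_mem
  rintro z ⟨hz, hzc, hzr⟩
  refine ⟨(Subgroup.mem_normalizer_iff.mp hg z).mp hz, fun x hx => ?_, ?_⟩
  · have hx' : g⁻¹ * x * g ∈ R := (Subgroup.mem_normalizer_iff''.mp hg x).mp hx
    have h1 := hzc _ hx'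
    calc x * (g * z * g⁻¹) = g * ((g⁻¹ * x * g) * z) * g⁻¹ := by group
      _ = g * (z * (g⁻¹ * x * g)) * g⁻¹ := by rw [h1]
      _ = g * z * g⁻¹ * x := by group
  · rw [conj_pow, hzr]
    group

theorem omegaCenter_ne_bot {r : ℕ} [hr : Fact r.Prime] {R : Subgroup G} (hR : IsPGroup r ↥R)
    (hR1 : R ≠ ⊥) : omegaCenter r R ≠ ⊥ := by
  haveI : Nontrivial ↥R := (Subgroup.nontrivial_iff_ne_bot R).mpr hR1
  haveI : Nontrivial ↥(Subgroup.center ↥R) := hR.center_nontrivial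
  have hZp : IsPGroup r ↥(Subgroup.center ↥R) := hR.to_subgroup _
  have hdvd : r ∣ Nat.card ↥(Subgroup.center ↥R) := by
    obtain ⟨n, hn⟩ := hZp.exists_card_eq
    have hlt : 1 < Nat.card ↥(Subgroup.center ↥R) := Finite.one_lt_card
    have hn0 : n ≠ 0 := by
      rintro rfl
      rw [pow_zero] at hn
      omega
    rw [hn]
    exact dvd_pow_self r hn0
  obtain ⟨z, hzo⟩ := exists_prime_orderOf_dvd_card' (G := ↥(Subgroup.center ↥R)) r hdvd
  have ho : orderOf ((z : ↥R) : G) = r := by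
    rw [Subgroup.orderOf_coe, Subgroup.orderOf_coe]
    exact hzo
  have hzr : ((z : ↥R) : G) ^ r = 1 := by
    have := pow_orderOf_eq_one ((z : ↥R) : G)
    rwa [ho] at this
  have hz1 : ((z : ↥R) : G) ≠ 1 := by
    intro h1
    rw [h1, orderOf_one] at ho
    exact hr.out.one_lt.ne ho
  have hmem : ((z : ↥R) : G) ∈ omegaCenter r R := by
    refine ⟨(z : ↥R).2, fun x hx => ?_, hzr⟩
    have h1 := Subgroup.mem_center_iff.mp z.2 ⟨x, hx⟩
    exact congrArg Subtype.val h1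
  intro hb
  rw [hb, Subgroup.mem_bot] at hmem
  exact hz1 hmem

/-- `Ω₁(Z(R))` packaged -/
theorem exists_omegaCenter {r : ℕ} [hr : Fact r.Prime] {R : Subgroup G} (hR : IsPGroup r ↥R)
    (hR1 : R ≠ ⊥) : ∃ Z : Subgroup G, Z ≤ R ∧ Z ≠ ⊥ ∧ Cfsg.IsElementaryAbelian r Z ∧
      Subgroup.normalizer (R : Set G) ≤ Subgroup.normalizer (Z : Set G) :=
  ⟨omegaCenter r R, omegaCenter_le r R, omegaCenter_ne_bot hR hR1, omegaCenter_elem r R,
    normalizer_le_normalizer_omegaCenter r R⟩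

/-- an elementary abelian `r`-group of order `≠ 1, r` contains one of order `r²` -/
theorem exists_sq_of_card_ne {r : ℕ} [hr : Fact r.Prime] {Z : Subgroup G}
    (hZ : Cfsg.IsElementaryAbelian r Z) (hZ1 : Z ≠ ⊥) (hcard : Nat.card ↥Z ≠ r) :
    ∃ B : Subgroup G, B ≤ Z ∧ Cfsg.IsElementaryAbelian r B ∧ Nat.card ↥B = r ^ 2 := by
  have hZp : IsPGroup r ↥Z := isPGroup_of_elementary hZ
  obtain ⟨n, hn⟩ := hZp.exists_card_eq
  have hn0 : n ≠ 0 := by
    rintro rfl
    rw [pow_zero] at hn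
    exact hZ1 (Subgroup.card_eq_one.mp hn)
  have hn1 : n ≠ 1 := by
    rintro rfl
    rw [pow_one] at hn
    exact hcard hn
  have h2n : 2 ≤ n := by omega
  have hdvd : r ^ 2 ∣ Nat.card ↥Z := by
    rw [hn]
    exact pow_dvd_pow r h2n
  obtain ⟨K, hK⟩ := Sylow.exists_subgroup_card_pow_prime r hdvd
  refine ⟨K.map Z.subtype, Subgroup.map_subtype_le K, ⟨?_, ?_⟩, ?_⟩
  · refine ⟨⟨fun a b => ?_⟩⟩
    obtain ⟨a, ha⟩ := a
    obtain ⟨b, hb⟩ := b
    obtain ⟨a', ha', rfl⟩ := ha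
    obtain ⟨b', hb', rfl⟩ := hb
    apply Subtype.ext
    show Z.subtype a' * Z.subtype b' = Z.subtype b' * Z.subtype a'
    rw [← map_mul, ← map_mul, hZ.1.is_comm.comm a' b']
  · rintro _ ⟨a, ha, rfl⟩
    exact hZ.2 a a.2
  · rw [Subgroup.card_map_of_injective Z.subtype_injective]
    exact hK

/-! ### conjugates, normalizers -/

theorem isElementaryAbelian_cj {r : ℕ} (g : G) {B : Subgroup G}
    (hB : Cfsg.IsElementaryAbelian r B) : Cfsg.IsElementaryAbelian r (cj g B) := by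
  refine ⟨?_, ?_⟩
  · have := hB.1
    exact Subgroup.map_isMulCommutative B _
  · rintro _ ⟨a, ha, rfl⟩
    rw [← map_pow, hB.2 a ha, map_one]

theorem mem_normalizer_sup {X Y : Subgroup G} {g : G}
    (hX : g ∈ Subgroup.normalizer (X : Set G)) (hY : g ∈ Subgroup.normalizer (Y : Set G)) :
    g ∈ Subgroup.normalizer ((X ⊔ Y : Subgroup G) : Set G) := by
  apply mem_normalizer_of_cj_eq
  have h1 : cj g (X ⊔ Y) = cj g X ⊔ cj g Y := Subgroup.map_sup X Y _
  rw [h1, cj_eq_of_mem_normalizer hX, cj_eq_of_mem_normalizer hY]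

/-- two distinct subgroups of order `p` generate a group of order `p²` containing them -/
theorem le_sup_of_card_prime {p : ℕ} [hp : Fact p.Prime] {A B0 B1 : Subgroup G} (hB0 : B0 ≤ A)
    (hB1 : B1 ≤ A) (hA : Nat.card ↥A = p ^ 2) (h0 : Nat.card ↥B0 = p) (h1 : Nat.card ↥B1 = p)
    (hne : B0 ≠ B1) : A ≤ B0 ⊔ B1 := by
  have hle : B0 ⊔ B1 ≤ A := sup_le hB0 hB1
  have hdvd : Nat.card ↥(B0 ⊔ B1 : Subgroup G) ∣ p ^ 2 := by
    rw [← hA]
    exact Subgroup.card_dvd_of_le hle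
  obtain ⟨k, hk2, hk⟩ := (Nat.dvd_prime_pow hp.out).mp hdvd
  have hlt : p < Nat.card ↥(B0 ⊔ B1 : Subgroup G) := by
    by_contra hnot
    push Not at hnot
    have e : B0 = B0 ⊔ B1 := Subgroup.eq_of_le_of_card_ge le_sup_left (by rw [h0]; exact hnot)
    have hB10 : B1 ≤ B0 := le_sup_right.trans e.ge
    exact hne (Subgroup.eq_of_le_of_card_ge hB10 (by rw [h0, h1])).symm
  have hk' : k = 2 := by
    rw [hk] at hlt
    rcases Nat.lt_or_ge k 2 with h | h
    · exfalso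
      have h3 : p ^ k ≤ p ^ 1 := Nat.pow_le_pow_right hp.out.pos (by omega)
      rw [pow_one] at h3
      omega
    · omega
  have hcard : Nat.card ↥(B0 ⊔ B1 : Subgroup G) = Nat.card ↥A := by rw [hk, hk', hA]
  exact (Subgroup.eq_of_le_of_card_ge hle hcard.ge).ge

/-- if `n²` lies in `M` and `G` has odd order, then `n ∈ M` -/
theorem mem_of_sq_mem (hodd : Odd (Nat.card G)) {M : Subgroup G} {n : G} (h : n * n ∈ M) :
    n ∈ M := by
  have ho : Odd (orderOf n) := Odd.of_dvd_nat hodd (orderOf_dvd_natCard n)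
  obtain ⟨k, hk⟩ := ho
  have h1 : n ^ (2 * k + 1) = 1 := by
    rw [← hk]
    exact pow_orderOf_eq_one n
  have h2 : (n * n) ^ (k + 1) = n := by
    have e1 : n * n = n ^ 2 := (pow_two n).symm
    have e2 : 2 * (k + 1) = 2 * k + 1 + 1 := by omega
    rw [e1, ← pow_mul, e2, pow_succ (n := 2 * k + 1), h1, one_mul]
  rw [← h2]
  exact M.pow_mem h (k + 1)

/-! ### nilpotent groups and their Sylow subgroups -/

/-- in a nilpotent group `N`, `O_q(N)` is a Sylow `q`-subgroup -/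
theorem sylIn_Oq_of_nilpotent {N : Subgroup G} (hN : Group.IsNilpotent ↥N) (q : ℕ)
    [hq : Fact q.Prime] : IsSylowIn q (Oq q N) N := by
  obtain ⟨S, hS, -⟩ := exists_isSylowIn_ge (p := q) (Q := ⊥) (H := N) IsPGroup.of_bot bot_le
  have h1 : S ≤ Oq q N := Cfsg.Agent.H2.BGU.le_Oq_of_isPGroup hN hS.1 hS.isPGroup
  have h2 : Oq q N = S := sylIn_eq_of_le hS (Oq_le q _) (isPGroup_Oq hq.out _) h1
  rw [h2]
  exact hS

/-- a subgroup containing a Sylow `q`-subgroup of `N` for every `q` contains `N` -/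
theorem le_of_forall_sylIn_le {N C : Subgroup G}
    (h : ∀ (q : ℕ) [Fact q.Prime], ∃ S : Subgroup G, IsSylowIn q S N ∧ S ≤ C) : N ≤ C := by
  have htop : C.subgroupOf N = ⊤ := by
    apply Cfsg.Agent.H1.eq_top_of_forall_sylow_le
    intro q hq
    obtain ⟨S, hS, hSC⟩ := h q
    obtain ⟨R, hR⟩ := hS.exists_sylow
    refine ⟨R, ?_⟩
    rw [hR]
    intro x hx
    rw [Subgroup.mem_subgroupOf] at hx ⊢
    exact hSC hx
  rwa [Subgroup.subgroupOf_eq_top] at htop

/-! ### complements of `M_σ` -/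

/-- Schur–Zassenhaus: `M_σ` has a complement in `M` -/
theorem exists_compl (hG : Cfsg.IsMinSimpleOddOrder G) {M : Subgroup G} (hM : IsCoatom M) :
    ∃ E : Subgroup G, Cfsg.IsComplIn E (Cfsg.sigmaCore M) M := by
  have hH := Cfsg.Agent.H2.BG11.sigmaCore_hallOf hG hM
  have hcard : Nat.card ↥(Cfsg.sigmaCore M) = Nat.card ↥(Cfsg.piCore (Cfsg.sigma M) ↥M) :=
    Subgroup.card_map_of_injective M.subtype_injective
  have hidx : (Cfsg.sigmaCore M).relIndex M = (Cfsg.piCore (Cfsg.sigma M) ↥M).index :=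
    relIndex_map_subtype_self M _
  have hcop : (Nat.card ↥(Cfsg.piCore (Cfsg.sigma M) ↥M)).Coprime
      (Cfsg.piCore (Cfsg.sigma M) ↥M).index := by
    apply Nat.coprime_of_dvd
    intro q hq hd1 hd2
    rw [← hcard] at hd1
    rw [← hidx] at hd2
    exact hH.2.2 q hq (hH.2.1 q hq hd1) hd2
  obtain ⟨H, hHc⟩ := Subgroup.exists_left_complement'_of_coprime hcop
  refine ⟨H.map M.subtype, Subgroup.map_subtype_le _, Subgroup.map_subtype_le _, ?_, ?_⟩
  · have h1 : H ⊓ Cfsg.piCore (Cfsg.sigma M) ↥M = ⊥ := hHc.disjoint.eq_bot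
    show H.map M.subtype ⊓ (Cfsg.piCore (Cfsg.sigma M) ↥M).map M.subtype = ⊥
    rw [← Subgroup.map_inf _ _ _ M.subtype_injective, h1, Subgroup.map_bot]
  · intro m hm
    obtain ⟨⟨a, b⟩, hab⟩ := hHc.2 ⟨m, hm⟩
    refine ⟨((a : ↥M) : G), Subgroup.mem_map_of_mem M.subtype a.2, ((b : ↥M) : G),
      Subgroup.mem_map_of_mem M.subtype b.2, ?_⟩
    have h2 := congrArg Subtype.val hab
    exact h2.symm

end Cfsg.Agent.H1.BG11c
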