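import Mathlib
import Cfsg.Prelude.Def_Transfer
import Cfsg.Agent.H1.CentralizerIndexBound
import Cfsg.Agent.H1.PGroup
import Cfsg.Agent.H1.Cores
import Cfsg.Agent.Lib.Lead.HallPet
import Cfsg.Agent.Lib.Helper7.MaxClassA

set_option autoImplicit false

namespace Cfsg.Agent.H1.RankTwoOmega

open scoped Pointwise

universe u

/-- a `p`-group whose abelian subgroups have order at most `p²` has order at most `p³` -/
lemma card_le_cube {T : Type u} [Group T] [Finite T] {p : ℕ} [hp : Fact p.Prime] (hT : IsPGroup p T)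
    (hab : ∀ B : Subgroup T, IsMulCommutative B → Nat.card B ≤ p ^ 2) : Nat.card T ≤ p ^ 3 := by
  obtain ⟨A, -, hAmax⟩ := Finite.exists_le_maximal
    (p := fun M : Subgroup T => M.Normal ∧ IsMulCommutative M) (a := ⊥)
    ⟨inferInstance, inferInstance⟩
  obtain ⟨⟨hAn, hAc⟩, hAm⟩ := hAmax
  have hmax : ∀ B : Subgroup T, B.Normal → IsMulCommutative B → A ≤ B → B = A :=
    fun M hMn hMc hle => le_antisymm (hAm ⟨hMn, hMc⟩ hle) hle
  obtain ⟨a, ha⟩ := (hT.to_subgroup A).exists_card_eq
  have h1 := Cfsg.Agent.H1.card_le_of_maximal_normal_abelian' hT A hAc hmax a ha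
  have h2 : a ≤ 2 := by
    have := hab A hAc
    rw [ha] at this
    exact (Nat.pow_le_pow_iff_right hp.out.one_lt).mp this
  refine h1.trans (Nat.pow_le_pow_right hp.out.pos ?_)
  interval_cases a <;> norm_num

/-- products of elements of order dividing `p` have order dividing `p` -/
theorem mul_pow_eq_one (p : ℕ) [hp : Fact p.Prime] (hp3 : 3 < p) :
    ∀ n : ℕ, ∀ (R : Type u) [Group R] [Finite R], Nat.card R ≤ n → IsPGroup p R →
      (∀ E : Subgroup R, Cfsg.IsElementaryAbelian p E → Nat.card E ≤ p ^ 2) →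
      ∀ x y : R, x ^ p = 1 → y ^ p = 1 → (x * y) ^ p = 1 := by
  intro n
  induction n using Nat.strong_induction_on with
  | _ n ih =>
  intro R _ _ hn hR hrk x y hx hy
  have hsub : ∀ K : Subgroup R, K ≠ ⊤ → ∀ a b : R, a ∈ K → b ∈ K → a ^ p = 1 → b ^ p = 1 →
      (a * b) ^ p = 1 := by
    intro K hK a b ha hb hap hbp
    have hlt : Nat.card K < Nat.card R := by
      rcases (Subgroup.card_le_card_group K).lt_or_eq with h | h
      · exact h
      · exact absurd ((Subgroup.card_eq_iff_eq_top K).mp h) hK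
    have hrkK : ∀ E : Subgroup ↥K, Cfsg.IsElementaryAbelian p E → Nat.card E ≤ p ^ 2 := by
      intro E hE
      have hEA : Cfsg.IsElementaryAbelian p (E.map K.subtype) := by
        obtain ⟨hc, he⟩ := hE
        haveI := hc
        refine ⟨inferInstance, ?_⟩
        rintro _ ⟨a', ha', rfl⟩
        have := he a' ha'
        have h2 := congrArg Subtype.val this
        simpa using h2
      have := hrk _ hEA
      rwa [Subgroup.card_map_of_injective K.subtype_injective] at this
    have h1 := ih (Nat.card K) (lt_of_lt_of_le hlt hn) ↥K le_rfl (hR.to_subgroup K) hrkK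
      ⟨a, ha⟩ ⟨b, hb⟩ (Subtype.ext (by simpa using hap)) (Subtype.ext (by simpa using hbp))
    have h2 := congrArg Subtype.val h1
    simpa using h2
  by_cases hcomm : x * y = y * x
  · rw [(show Commute x y from hcomm).mul_pow, hx, hy, one_mul]
  by_cases hK : Subgroup.closure ({x, y} : Set R) = ⊤
  swap
  · exact hsub _ hK x y (Subgroup.subset_closure (by simp)) (Subgroup.subset_closure (by simp)) hx hy
  have hxtop : Subgroup.zpowers x ≠ ⊤ := by
    intro h
    apply hcomm
    have hy' : y ∈ Subgroup.zpowers x := h ▸ Subgroup.mem_top y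
    obtain ⟨k, rfl⟩ := Subgroup.mem_zpowers_iff.mp hy'
    exact ((Commute.refl x).zpow_right k).eq
  obtain ⟨M, hMco, hxM⟩ := (eq_top_or_exists_le_coatom (Subgroup.zpowers x)).resolve_left hxtop
  obtain ⟨hMn, hMidx⟩ := Cfsg.Agent.H1.coatom_normal_index_of_pgroup hR M hMco
  have hMtop : M ≠ ⊤ := hMco.1
  obtain ⟨E, hE⟩ : ∃ E : Subgroup R, E = Subgroup.closure {z : R | z ∈ M ∧ z ^ p = 1} := ⟨_, rfl⟩
  have hEexp : ∀ z ∈ E, z ^ p = 1 := by
    intro z hz
    rw [hE] at hz
    have : z ∈ M ∧ z ^ p = 1 := by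
      refine Subgroup.closure_induction (p := fun z _ => z ∈ M ∧ z ^ p = 1) ?_ ?_ ?_ ?_ hz
      · intro z hz; exact hz
      · exact ⟨M.one_mem, one_pow p⟩
      · intro a b _ _ ha hb
        exact ⟨M.mul_mem ha.1 hb.1, hsub M hMtop a b ha.1 hb.1 ha.2 hb.2⟩
      · intro a _ ha
        exact ⟨M.inv_mem ha.1, by rw [inv_pow, ha.2, inv_one]⟩
    exact this.2
  haveI hEn : E.Normal := by
    refine ⟨fun n hn g => ?_⟩
    rw [hE] at hn ⊢
    refine Subgroup.closure_induction
      (p := fun z _ => g * z * g⁻¹ ∈ Subgroup.closure {z : R | z ∈ M ∧ z ^ p = 1}) ?_ ?_ ?_ ?_ hn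
    · intro z hz
      apply Subgroup.subset_closure
      refine ⟨hMn.conj_mem z hz.1 g, ?_⟩
      rw [conj_pow, hz.2]; group
    · simp
    · intro a b _ _ ha hb
      have : g * (a * b) * g⁻¹ = (g * a * g⁻¹) * (g * b * g⁻¹) := by group
      rw [this]; exact Subgroup.mul_mem _ ha hb
    · intro a _ ha
      have : g * a⁻¹ * g⁻¹ = (g * a * g⁻¹)⁻¹ := by group
      rw [this]; exact Subgroup.inv_mem _ ha
  have hxE : x ∈ E := by
    rw [hE]
    exact Subgroup.subset_closure ⟨hxM (Subgroup.mem_zpowers x), hx⟩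
  have hEcard : Nat.card E ≤ p ^ 3 := by
    apply card_le_cube (hR.to_subgroup E)
    intro B hB
    haveI := hB
    have hEA : Cfsg.IsElementaryAbelian p (B.map E.subtype) := by
      refine ⟨inferInstance, ?_⟩
      rintro _ ⟨a', -, rfl⟩
      exact hEexp _ a'.2
    have := hrk _ hEA
    rwa [Subgroup.card_map_of_injective E.subtype_injective] at this
  have htop : Subgroup.zpowers y ⊔ E = ⊤ := by
    rw [eq_top_iff, ← hK, Subgroup.closure_le]
    intro z hz
    rcases hz with rfl | hz
    · exact Subgroup.mem_sup_right hxE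
    · rw [Set.mem_singleton_iff] at hz
      subst hz
      exact Subgroup.mem_sup_left (Subgroup.mem_zpowers _)
  have hRcard : Nat.card R ≤ p ^ 4 := by
    have h1 := Cfsg.Agent.H1.card_sup_dvd_of_normal (Subgroup.zpowers y) E
    rw [htop, Subgroup.card_top] at h1
    have h2 : Nat.card (Subgroup.zpowers y) ≤ p := by
      rw [Nat.card_zpowers]
      exact Nat.le_of_dvd hp.out.pos (orderOf_dvd_of_pow_eq_one hy)
    have h3 := Nat.le_of_dvd (Nat.mul_pos Nat.card_pos Nat.card_pos) h1
    calc Nat.card R ≤ Nat.card (Subgroup.zpowers y) * Nat.card E := h3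
      _ ≤ p * p ^ 3 := Nat.mul_le_mul h2 hEcard
      _ = p ^ 4 := by ring
  -- the class is less than `p`
  haveI hnil : Group.IsNilpotent R := hR.isNilpotent
  obtain ⟨k, hk⟩ := hR.exists_card_eq
  have hk4 : k ≤ 4 := by
    rw [hk] at hRcard
    exact (Nat.pow_le_pow_iff_right hp.out.one_lt).mp hRcard
  have hk2 : 2 ≤ k := by
    by_contra hlt
    apply hcomm
    have hk1 : k = 0 ∨ k = 1 := by omega
    rcases hk1 with rfl | rfl
    · rw [pow_zero] at hk
      haveI : Subsingleton R := (Nat.card_eq_one_iff_unique.mp hk).1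
      exact Subsingleton.elim _ _
    · rw [pow_one] at hk
      haveI := isCyclic_of_prime_card hk
      exact (IsCyclic.commGroup (α := R)).mul_comm x y
  have hcl := Cfsg.Agent.Lib.Helper7.MaxClass.nilpotencyClass_le_of_card p k R hk2 hk
  have hlcs : (⊤ : Subgroup R).lowerCentralSeries (p - 1) = ⊥ := by
    rw [Subgroup.lowerCentralSeries_eq_bot_iff_nilpotencyClass_le]
    omega
  -- the derived subgroup lies in `E`
  have hquot : ∀ r : R, ∃ j : ℤ, (QuotientGroup.mk' E r) = (QuotientGroup.mk' E y) ^ j := by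
    intro r
    have hr : r ∈ (↑(Subgroup.zpowers y ⊔ E) : Set R) := by rw [htop]; exact Subgroup.mem_top r
    rw [Subgroup.mul_normal] at hr
    obtain ⟨a, ha, e, he, rfl⟩ := Set.mem_mul.mp hr
    obtain ⟨j, rfl⟩ := Subgroup.mem_zpowers_iff.mp ha
    refine ⟨j, ?_⟩
    have he1 : QuotientGroup.mk' E e = 1 := (QuotientGroup.eq_one_iff e).mpr he
    rw [map_mul, he1, mul_one, map_zpow]
  have hder : commutator R ≤ E := by
    rw [commutator_def, Subgroup.commutator_le]
    intro a _ b _
    rw [← QuotientGroup.eq_one_iff, ← QuotientGroup.mk'_apply, map_commutatorElement,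
      commutatorElement_eq_one_iff_commute]
    obtain ⟨i, hi⟩ := hquot a
    obtain ⟨j, hj⟩ := hquot b
    rw [hi, hj]
    exact (Commute.refl _).zpow_zpow i j
  obtain ⟨c, hc, heq⟩ := Cfsg.Agent.Lib.Lead.HallPet.weak_hall_petrescu hp.out hlcs x y
  have hbot : Subgroup.closure {z : R | ∃ u ∈ _root_.commutator R, z = u ^ p} = ⊥ := by
    rw [eq_bot_iff, Subgroup.closure_le]
    rintro z ⟨u, hu, rfl⟩
    rw [SetLike.mem_coe, Subgroup.mem_bot]
    exact hEexp u (hder hu)
  rw [hbot, Subgroup.mem_bot] at hc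
  rw [heq, hx, hy, hc]
  simp

end Cfsg.Agent.H1.RankTwoOmega
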