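import Mathlib
import Cfsg.Prelude.Def_Transfer
import Cfsg.Prelude.Def_PLocal
import Cfsg.Agent.H1.RankTwoOmega
import Cfsg.Agent.H1.NormalRankTwo
import Cfsg.Agent.S4209
import Cfsg.Agent.H2.RegularPGroup

set_option autoImplicit false

namespace Cfsg.Agent.H1.OmegaQuot

open scoped Pointwise

universe u

/-- card of a preimage under the quotient map -/
lemma card_comap_mk {R : Type u} [Group R] [Finite R] (T : Subgroup R) [T.Normal]
    (U : Subgroup (R ⧸ T)) :
    Nat.card (U.comap (QuotientGroup.mk' T)) = Nat.card U * Nat.card T := by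
  have h1 : (U.comap (QuotientGroup.mk' T)).index = U.index :=
    Subgroup.index_comap_of_surjective U (QuotientGroup.mk'_surjective T)
  have h2 := Subgroup.card_mul_index (U.comap (QuotientGroup.mk' T))
  have h3 := Subgroup.card_mul_index U
  have h4 := Subgroup.card_eq_card_quotient_mul_card_subgroup T
  have hpos : 0 < U.index := Nat.pos_of_ne_zero (Subgroup.index_ne_zero_of_finite)
  rw [h1] at h2
  have : Nat.card (U.comap (QuotientGroup.mk' T)) * U.index = (Nat.card U * Nat.card T) * U.index := by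
    rw [h2, h4, ← h3]; ring
  exact Nat.eq_of_mul_eq_mul_right hpos this

/-- the lifting lemma: an exponent-`p` subgroup of order `p³` of `R/T`, `|T| = p`, `p > 3`, gives an
exponent-`p` subgroup of order at least `p³` of `R`. -/
theorem exists_exponent_p_lift {R : Type u} [Group R] [Finite R] {p : ℕ} [hp : Fact p.Prime] (hp3 : 3 < p)
    (hR : IsPGroup p R) (T : Subgroup R) [T.Normal] (hT : Nat.card T = p)
    (U : Subgroup (R ⧸ T)) (hU : Nat.card U = p ^ 3) (hUexp : ∀ x ∈ U, x ^ p = 1) :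
    ∃ K : Subgroup R, p ^ 3 ≤ Nat.card K ∧ ∀ x ∈ K, x ^ p = 1 := by
  obtain ⟨V, hV⟩ : ∃ V : Subgroup R, V = U.comap (QuotientGroup.mk' T) := ⟨_, rfl⟩
  have hVcard : Nat.card V = p ^ 4 := by
    rw [hV, card_comap_mk, hU, hT]; ring
  have hpowT : ∀ v : V, (v : R) ^ p ∈ T := by
    intro v
    have h1 : QuotientGroup.mk' T (v : R) ∈ U := by
      have h0 : (v : R) ∈ U.comap (QuotientGroup.mk' T) := hV ▸ v.2
      exact h0
    have h2 := hUexp _ h1
    rw [← map_pow] at h2
    exact (QuotientGroup.eq_one_iff _).mp h2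
  haveI hnil : Group.IsNilpotent V := (hR.to_subgroup V).isNilpotent
  have hcl := Cfsg.Agent.Lib.Helper7.MaxClass.nilpotencyClass_le_of_card p 4 V (by norm_num) hVcard
  have hlcs : (⊤ : Subgroup V).lowerCentralSeries (p - 1) = ⊥ := by
    rw [Subgroup.lowerCentralSeries_eq_bot_iff_nilpotencyClass_le]
    omega
  have hreg : Cfsg.IsRegularPGroup p V := Cfsg.Agent.S4209.result (hR.to_subgroup V) hlcs
  obtain ⟨H, -, hH⟩ := Cfsg.Agent.H2.RegP.omega_subgroup hreg 1
  have hHmem : ∀ v : V, v ∈ H ↔ v ^ p = 1 := by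
    intro v
    have : v ∈ (H : Set V) ↔ v ∈ {x : V | x ^ p ^ 1 = 1} := by rw [hH]
    simpa using this
  -- the map V ⧸ H → T
  let f : V → T := fun v => ⟨(v : R) ^ p, hpowT v⟩
  have hf : ∀ a b : V, f a = f b → (QuotientGroup.mk a : V ⧸ H) = QuotientGroup.mk b := by
    intro a b hab
    have h1 : (a : R) ^ p = (b : R) ^ p := congrArg Subtype.val hab
    have h2 : a ^ p ^ 1 = b ^ p ^ 1 := by
      rw [pow_one]
      exact Subtype.ext (by simpa using h1)
    have h3 := (Cfsg.Agent.H2.RegP.main hreg a b 1).mp h2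
    rw [pow_one] at h3
    exact QuotientGroup.eq.mpr ((hHmem _).mpr h3)
  have hcardle : Nat.card (V ⧸ H) ≤ p := by
    rw [← hT]
    let g : V ⧸ H → T := fun q => f q.out
    apply Nat.card_le_card_of_injective g
    intro q1 q2 h
    have := hf _ _ h
    rwa [QuotientGroup.out_eq', QuotientGroup.out_eq'] at this
  have hHcard : p ^ 3 ≤ Nat.card H := by
    have h1 := Subgroup.card_eq_card_quotient_mul_card_subgroup H
    rw [hVcard] at h1
    have h2 : p ^ 4 ≤ p * Nat.card H := by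
      rw [h1]
      exact Nat.mul_le_mul_right _ hcardle
    have hp0 : 0 < p := hp.out.pos
    have : p * p ^ 3 ≤ p * Nat.card H := by
      calc p * p ^ 3 = p ^ 4 := by ring
        _ ≤ p * Nat.card H := h2
    exact Nat.le_of_mul_le_mul_left this hp0
  refine ⟨H.map V.subtype, ?_, ?_⟩
  · rw [Subgroup.card_map_of_injective V.subtype_injective]
    exact hHcard
  · rintro _ ⟨v, hv, rfl⟩
    have := (hHmem v).mp hv
    have h2 := congrArg Subtype.val this
    simpa using h2


/-- `Ω₁` is transported by isomorphisms -/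
lemma card_omegaOne_congr {G H : Type*} [Group G] [Group H] (e : G ≃* H) (p : ℕ) :
    Nat.card (Cfsg.omegaOne p (⊤ : Subgroup G)) = Nat.card (Cfsg.omegaOne p (⊤ : Subgroup H)) := by
  have h : (Cfsg.omegaOne p (⊤ : Subgroup G)).map e.toMonoidHom = Cfsg.omegaOne p (⊤ : Subgroup H) := by
    unfold Cfsg.omegaOne
    rw [MonoidHom.map_closure]
    congr 1
    ext y
    constructor
    · rintro ⟨x, ⟨-, hx⟩, rfl⟩
      refine ⟨Subgroup.mem_top _, ?_⟩
      show (e x) ^ p = 1
      rw [← map_pow, hx, map_one]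
    · rintro ⟨-, hy⟩
      refine ⟨e.symm y, ⟨Subgroup.mem_top _, ?_⟩, ?_⟩
      · rw [← map_pow, hy, map_one]
      · show e (e.symm y) = y
        simp
  rw [← h, Subgroup.card_map_of_injective (f := e.toMonoidHom) e.injective]

/-- an exponent-`p` subgroup lies in `Ω₁` -/
lemma le_omegaOne_of_exponent {G : Type*} [Group G] (p : ℕ) (K : Subgroup G) (hK : ∀ x ∈ K, x ^ p = 1) :
    K ≤ Cfsg.omegaOne p (⊤ : Subgroup G) := by
  intro x hx
  exact Subgroup.subset_closure ⟨Subgroup.mem_top _, hK x hx⟩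

/-- base case: `|T| = p` -/
theorem base {R : Type u} [Group R] [Finite R] {p : ℕ} [hp : Fact p.Prime] (hp3 : 3 < p)
    (hR : IsPGroup p R) (hO : Nat.card (Cfsg.omegaOne p (⊤ : Subgroup R)) ≤ p ^ 2)
    (T : Subgroup R) [T.Normal] (hT : Nat.card T = p) :
    Nat.card (Cfsg.omegaOne p (⊤ : Subgroup (R ⧸ T))) ≤ p ^ 2 := by
  by_contra hcon
  push Not at hcon
  have hQ : IsPGroup p (R ⧸ T) := hR.to_quotient T
  -- an exponent-`p` subgroup of order `p³` in the quotient
  obtain ⟨U, hU, hUexp⟩ : ∃ U : Subgroup (R ⧸ T), Nat.card U = p ^ 3 ∧ ∀ x ∈ U, x ^ p = 1 := by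
    have hcube : ∀ W : Subgroup (R ⧸ T), p ^ 2 < Nat.card W → p ^ 3 ≤ Nat.card W := by
      intro W hW
      obtain ⟨k, hk⟩ := (hQ.to_subgroup W).exists_card_eq
      rw [hk] at hW ⊢
      have := (Nat.pow_lt_pow_iff_right hp.out.one_lt).mp hW
      exact Nat.pow_le_pow_right hp.out.pos this
    by_cases hrk : ∀ E : Subgroup (R ⧸ T), Cfsg.IsElementaryAbelian p E → Nat.card E ≤ p ^ 2
    · have hmul := Cfsg.Agent.H1.RankTwoOmega.mul_pow_eq_one p hp3 (Nat.card (R ⧸ T)) (R ⧸ T) le_rfl hQ hrk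
      have hexp : ∀ x ∈ Cfsg.omegaOne p (⊤ : Subgroup (R ⧸ T)), x ^ p = 1 := by
        intro x hx
        unfold Cfsg.omegaOne at hx
        refine Subgroup.closure_induction (p := fun z _ => z ^ p = 1) ?_ ?_ ?_ ?_ hx
        · intro z hz; exact hz.2
        · exact one_pow p
        · intro a b _ _ ha hb; exact hmul a b ha hb
        · intro a _ ha; rw [inv_pow, ha, inv_one]
      obtain ⟨U, hUle, hUc⟩ := Sylow.exists_subgroup_le_card_pow_prime_of_le_card hp.out hQ
        (hcube _ hcon)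
      exact ⟨U, hUc, fun x hx => hexp x (hUle hx)⟩
    · push Not at hrk
      obtain ⟨E, hE, hEc⟩ := hrk
      obtain ⟨U, hUle, hUc⟩ := Sylow.exists_subgroup_le_card_pow_prime_of_le_card hp.out hQ
        (hcube _ hEc)
      exact ⟨U, hUc, fun x hx => hE.2 x (hUle hx)⟩
  obtain ⟨K, hK, hKexp⟩ := exists_exponent_p_lift hp3 hR T hT U hU hUexp
  have h1 := Subgroup.card_le_of_le (le_omegaOne_of_exponent p K hKexp)
  have h2 : p ^ 2 < p ^ 3 := Nat.pow_lt_pow_right hp.out.one_lt (by norm_num)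
  omega

/-- **S0637**: `p > 3`, `|Ω₁(R)| ≤ p²` passes to quotients. -/
theorem omegaOne_quotient (p : ℕ) [hp : Fact p.Prime] (hp3 : 3 < p) :
    ∀ n : ℕ, ∀ (R : Type u) [Group R] [Finite R], Nat.card R ≤ n → IsPGroup p R →
      Nat.card (Cfsg.omegaOne p (⊤ : Subgroup R)) ≤ p ^ 2 →
      ∀ (T : Subgroup R) [T.Normal], Nat.card (Cfsg.omegaOne p (⊤ : Subgroup (R ⧸ T))) ≤ p ^ 2 := by
  intro n
  induction n using Nat.strong_induction_on with
  | _ n ih =>
  intro R _ _ hn hR hO T hTn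
  by_cases hTb : T = ⊥
  · subst hTb
    rw [card_omegaOne_congr (QuotientGroup.quotientBot (G := R)) p]
    exact hO
  obtain ⟨z, hzT, hzc, hzo⟩ := Cfsg.Agent.H1.exists_central_order_p hR T hTb
  haveI hZn : (Subgroup.zpowers z).Normal := by
    refine ⟨fun x hx g => ?_⟩
    obtain ⟨k, rfl⟩ := Subgroup.mem_zpowers_iff.mp hx
    have hcomm : g * z ^ k = z ^ k * g := by
      have := Subgroup.mem_center_iff.mp (Subgroup.zpow_mem _ hzc k) g
      exact this
    rw [hcomm, mul_inv_cancel_right]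
    exact Subgroup.zpow_mem_zpowers z k
  have hZcard : Nat.card (Subgroup.zpowers z) = p := by rw [Nat.card_zpowers, hzo]
  have hZle : Subgroup.zpowers z ≤ T := by
    rw [Subgroup.zpowers_le]; exact hzT
  have hb := base hp3 hR hO (Subgroup.zpowers z) hZcard
  have hlt : Nat.card (R ⧸ Subgroup.zpowers z) < Nat.card R := by
    have h1 := Subgroup.card_eq_card_quotient_mul_card_subgroup (Subgroup.zpowers z)
    rw [hZcard] at h1
    have hpos : 0 < Nat.card (R ⧸ Subgroup.zpowers z) := Nat.card_pos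
    have : 1 < p := hp.out.one_lt
    nlinarith
  have h2 := ih (Nat.card (R ⧸ Subgroup.zpowers z)) (lt_of_lt_of_le hlt hn) (R ⧸ Subgroup.zpowers z) le_rfl
    (hR.to_quotient _) hb (T.map (QuotientGroup.mk' (Subgroup.zpowers z)))
  rw [← card_omegaOne_congr (QuotientGroup.quotientQuotientEquivQuotient (Subgroup.zpowers z) T hZle) p]
  exact h2

end Cfsg.Agent.H1.OmegaQuot
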