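import Mathlib
import Cfsg.Prelude.Def_OddOrderLocal
import Cfsg.Agent.H1.OmegaQuot
import Cfsg.Agent.H1.AutOrbC

set_option autoImplicit false

namespace Cfsg.Agent.H1.MetaOmega

open scoped Pointwise commutatorElement

universe u

/-- Frattini-type: if `H ⊔ K = ⊤` with `K` consisting of `p`-th powers then `H = ⊤`. -/
lemma eq_top_of_sup_pow {R : Type u} [Group R] [Finite R] {p : ℕ} [hp : Fact p.Prime] (hR : IsPGroup p R)
    (H K : Subgroup R) (hK : ∀ x ∈ K, ∃ y : R, x = y ^ p) (hsup : H ⊔ K = ⊤) : H = ⊤ := by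
  by_contra hH
  obtain ⟨M, hMco, hHM⟩ := (eq_top_or_exists_le_coatom H).resolve_left hH
  obtain ⟨hMn, hMidx⟩ := Cfsg.Agent.H1.coatom_normal_index_of_pgroup hR M hMco
  have hKM : K ≤ M := by
    intro x hx
    obtain ⟨y, rfl⟩ := hK x hx
    rw [← hMidx]
    exact Subgroup.pow_index_mem M y
  have : (⊤ : Subgroup R) ≤ M := hsup ▸ sup_le hHM hKM
  exact hMco.1 (top_le_iff.mp this)

lemma card_lt_of_lt {G : Type*} [Group G] [Finite G] {H K : Subgroup G} (h : H < K) :
    Nat.card H < Nat.card K := by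
  by_contra hcon
  push Not at hcon
  exact h.ne (Subgroup.eq_of_le_of_card_ge h.le hcon)

/-- a group of order at most `p²` is commutative -/
lemma comm_of_card_le_sq {Q : Type u} [Group Q] [Finite Q] {p : ℕ} [hp : Fact p.Prime] (hQ : IsPGroup p Q)
    (hc : Nat.card Q ≤ p ^ 2) (a b : Q) : a * b = b * a := by
  obtain ⟨k, hk⟩ := hQ.exists_card_eq
  have hk2 : k ≤ 2 := by
    rw [hk] at hc
    exact (Nat.pow_le_pow_iff_right hp.out.one_lt).mp hc
  interval_cases k
  · rw [pow_zero] at hk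
    haveI : Subsingleton Q := (Nat.card_eq_one_iff_unique.mp hk).1
    exact Subsingleton.elim _ _
  · rw [pow_one] at hk
    haveI := isCyclic_of_prime_card hk
    exact (IsCyclic.commGroup (α := Q)).mul_comm a b
  · exact (IsPGroup.isMulCommutative_of_card_eq_prime_sq hk).is_comm.comm a b


/-- in a class-two group generated by `x, y` all commutators are powers of `⁅x, y⁆` -/
lemma comm_mem_zpowers {R : Type u} [Group R] (hc : ∀ a b : R, ⁅a, b⁆ ∈ Subgroup.center R) (x y : R)
    (hgen : Subgroup.closure ({x, y} : Set R) = ⊤) (a b : R) : ⁅a, b⁆ ∈ Subgroup.zpowers ⁅x, y⁆ := by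
  have hinvr : ∀ u v : R, ⁅u, v⁻¹⁆ = ⁅u, v⁆⁻¹ := by
    intro u v
    have := Cfsg.Agent.H1.AutOrbC.comm_mul_right hc u v v⁻¹
    rw [mul_inv_cancel, commutatorElement_one_right] at this
    exact (inv_eq_of_mul_eq_one_right this.symm).symm
  have hinvl : ∀ u v : R, ⁅u⁻¹, v⁆ = ⁅u, v⁆⁻¹ := by
    intro u v
    have := Cfsg.Agent.H1.AutOrbC.comm_mul_left hc u u⁻¹ v
    rw [mul_inv_cancel, commutatorElement_one_left] at this
    exact (inv_eq_of_mul_eq_one_right this.symm).symm
  have step1 : ∀ b : R, ⁅x, b⁆ ∈ Subgroup.zpowers ⁅x, y⁆ ∧ ⁅y, b⁆ ∈ Subgroup.zpowers ⁅x, y⁆ := by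
    intro b
    have hb : b ∈ Subgroup.closure ({x, y} : Set R) := hgen ▸ Subgroup.mem_top b
    refine Subgroup.closure_induction
      (p := fun b _ => ⁅x, b⁆ ∈ Subgroup.zpowers ⁅x, y⁆ ∧ ⁅y, b⁆ ∈ Subgroup.zpowers ⁅x, y⁆) ?_ ?_ ?_ ?_ hb
    · intro z hz
      rcases hz with hz | hz
      · subst hz
        refine ⟨by rw [commutatorElement_self]; exact one_mem _, ?_⟩
        rw [← commutatorElement_inv z y]
        exact Subgroup.inv_mem _ (Subgroup.mem_zpowers _)
      · rw [Set.mem_singleton_iff] at hz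
        subst hz
        exact ⟨Subgroup.mem_zpowers _, by rw [commutatorElement_self]; exact one_mem _⟩
    · simp
    · intro u v _ _ hu hv
      rw [Cfsg.Agent.H1.AutOrbC.comm_mul_right hc, Cfsg.Agent.H1.AutOrbC.comm_mul_right hc]
      exact ⟨Subgroup.mul_mem _ hu.1 hv.1, Subgroup.mul_mem _ hu.2 hv.2⟩
    · intro u _ hu
      rw [hinvr, hinvr]
      exact ⟨Subgroup.inv_mem _ hu.1, Subgroup.inv_mem _ hu.2⟩
  have ha : a ∈ Subgroup.closure ({x, y} : Set R) := hgen ▸ Subgroup.mem_top a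
  refine Subgroup.closure_induction
    (p := fun a _ => ⁅a, b⁆ ∈ Subgroup.zpowers ⁅x, y⁆) ?_ ?_ ?_ ?_ ha
  · intro z hz
    rcases hz with rfl | hz
    · exact (step1 b).1
    · rw [Set.mem_singleton_iff] at hz
      subst hz
      exact (step1 b).2
  · simp
  · intro u v _ _ hu hv
    rw [Cfsg.Agent.H1.AutOrbC.comm_mul_left hc]
    exact Subgroup.mul_mem _ hu hv
  · intro u _ hu
    rw [hinvl]
    exact Subgroup.inv_mem _ hu

/-- the class-two case -/
theorem class_two_case {R : Type u} [Group R] [Finite R] {p : ℕ} [hp : Fact p.Prime] (hp2 : p ≠ 2)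
    (hR : IsPGroup p R) (hc : ∀ a b : R, ⁅a, b⁆ ∈ Subgroup.center R) (hcp : ∀ a b : R, ⁅a, b⁆ ^ p = 1)
    (hO : Nat.card (Cfsg.omegaOne p (⊤ : Subgroup R)) ≤ p ^ 2) : Cfsg.IsMetacyclic R := by
  have hch : p ∣ p.choose 2 := hp.out.dvd_choose_self (by norm_num) (by
    have := hp.out.two_le
    omega)
  let P : R →* R := MonoidHom.mk' (fun x => x ^ p) (by
    intro a b
    obtain ⟨m, hm⟩ := hch
    rw [Cfsg.Agent.H1.AutOrbC.mul_pow_class2 hc, hm, pow_mul, hcp, one_pow, mul_one])
  have hPapp : ∀ x : R, P x = x ^ p := fun x => rfl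
  have hker : Nat.card P.ker ≤ p ^ 2 := by
    refine le_trans (Subgroup.card_le_of_le ?_) hO
    intro x hx
    exact Subgroup.subset_closure ⟨Subgroup.mem_top _, hx⟩
  haveI hPn : P.range.Normal := by
    refine ⟨fun x hx g => ?_⟩
    obtain ⟨y, rfl⟩ := hx
    refine ⟨g * y * g⁻¹, ?_⟩
    rw [hPapp, hPapp, conj_pow]
  have hidx : P.range.index ≤ p ^ 2 := by
    have h1 := Subgroup.card_mul_index P.ker
    rw [Subgroup.index_ker] at h1
    have h2 := Subgroup.card_mul_index P.range
    have hpos : 0 < Nat.card P.range := Nat.card_pos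
    have : Nat.card P.range * P.range.index = Nat.card P.range * Nat.card P.ker := by
      rw [h2, ← h1]; ring
    rw [Nat.eq_of_mul_eq_mul_left hpos this]
    exact hker
  have hQcard : Nat.card (R ⧸ P.range) ≤ p ^ 2 := hidx
  have hQp : IsPGroup p (R ⧸ P.range) := hR.to_quotient _
  have hpowK : ∀ x ∈ P.range, ∃ y : R, x = y ^ p := by
    rintro _ ⟨y, rfl⟩
    exact ⟨y, rfl⟩
  -- commutators lie in the range
  have hcomm_mem : ∀ a b : R, ⁅a, b⁆ ∈ P.range := by
    intro a b
    rw [← QuotientGroup.eq_one_iff, ← QuotientGroup.mk'_apply, map_commutatorElement,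
      commutatorElement_eq_one_iff_commute]
    exact comm_of_card_le_sq hQp hQcard _ _
  -- generation
  have hgen : ∀ w : R, w ∉ P.range → ∃ t : R, Subgroup.closure ({w, t} : Set R) = ⊤ := by
    intro w hw
    by_cases htop : Subgroup.zpowers w ⊔ P.range = ⊤
    · refine ⟨1, eq_top_of_sup_pow hR _ _ hpowK ?_⟩
      rw [eq_top_iff, ← htop]
      refine sup_le_sup_right ?_ _
      rw [Subgroup.zpowers_le]
      exact Subgroup.subset_closure (by simp)
    · obtain ⟨t, ht⟩ : ∃ t : R, t ∉ Subgroup.zpowers w ⊔ P.range := by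
        by_contra hcon
        push Not at hcon
        exact htop (eq_top_iff.mpr fun x _ => hcon x)
      refine ⟨t, eq_top_of_sup_pow hR _ _ hpowK ?_⟩
      -- index considerations
      have hlt : P.range < Subgroup.zpowers w ⊔ P.range := by
        refine lt_of_le_of_ne le_sup_right ?_
        intro h
        apply hw
        rw [h]
        exact Subgroup.mem_sup_left (Subgroup.mem_zpowers w)
      have hlt2 : Subgroup.zpowers w ⊔ P.range < Subgroup.closure ({w, t} : Set R) ⊔ P.range := by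
        refine lt_of_le_of_ne ?_ ?_
        · refine sup_le_sup_right ?_ _
          rw [Subgroup.zpowers_le]
          exact Subgroup.subset_closure (by simp)
        · intro h
          apply ht
          rw [h]
          exact Subgroup.mem_sup_left (Subgroup.subset_closure (by simp))
      -- cards: a chain of three strictly increasing subgroups above `P.range` of index ≤ p²
      obtain ⟨k0, hk0⟩ := (hR.to_subgroup P.range).exists_card_eq
      obtain ⟨k1, hk1⟩ := (hR.to_subgroup (Subgroup.zpowers w ⊔ P.range)).exists_card_eq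
      obtain ⟨k2, hk2⟩ := (hR.to_subgroup (Subgroup.closure ({w, t} : Set R) ⊔ P.range)).exists_card_eq
      obtain ⟨k3, hk3⟩ := hR.exists_card_eq
      have h01 : k0 < k1 := by
        have := card_lt_of_lt hlt
        rw [hk0, hk1] at this
        exact (Nat.pow_lt_pow_iff_right hp.out.one_lt).mp this
      have h12 : k1 < k2 := by
        have := card_lt_of_lt hlt2
        rw [hk1, hk2] at this
        exact (Nat.pow_lt_pow_iff_right hp.out.one_lt).mp this
      have h03 : k3 ≤ k0 + 2 := by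
        have h2 := Subgroup.card_mul_index P.range
        rw [hk0, hk3] at h2
        have : p ^ k3 ≤ p ^ k0 * p ^ 2 := by
          rw [← h2]
          exact Nat.mul_le_mul_left _ hidx
        rw [← pow_add] at this
        exact (Nat.pow_le_pow_iff_right hp.out.one_lt).mp this
      have h23 : k3 ≤ k2 := by omega
      apply (Subgroup.card_eq_iff_eq_top _).mp
      apply le_antisymm (Subgroup.card_le_card_group _)
      rw [hk2, hk3]
      exact Nat.pow_le_pow_right hp.out.pos h23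
  by_cases hRtop : P.range = ⊤
  · have hbt : (⊥ : Subgroup R) = ⊤ := eq_top_of_sup_pow hR ⊥ P.range hpowK (by rw [hRtop]; simp)
    haveI : Subsingleton R := Subgroup.subsingleton_iff.mp (subsingleton_of_bot_eq_top hbt)
    exact ⟨⊥, inferInstance, inferInstance, inferInstance⟩
  obtain ⟨w₀, hw₀⟩ : ∃ w : R, w ∉ P.range := by
    by_contra hcon
    push Not at hcon
    exact hRtop (eq_top_iff.mpr fun x _ => hcon x)
  obtain ⟨t₀, hgen₀⟩ := hgen w₀ hw₀
  obtain ⟨c, hcdef⟩ : ∃ c : R, c = ⁅w₀, t₀⁆ := ⟨_, rfl⟩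
  have hallc : ∀ a b : R, ⁅a, b⁆ ∈ Subgroup.zpowers c := by
    intro a b
    rw [hcdef]
    exact comm_mem_zpowers hc w₀ t₀ hgen₀ a b
  obtain ⟨w, hw, hcw⟩ : ∃ w : R, w ∉ P.range ∧ c ∈ Subgroup.zpowers w := by
    by_cases hc1 : c = 1
    · exact ⟨w₀, hw₀, hc1 ▸ one_mem _⟩
    · by_contra hcon
      push Not at hcon
      have hall : ∀ k : ℕ, ∃ w : R, w ^ (p ^ k) = c := by
        intro k
        induction k with
        | zero => exact ⟨c, by simp⟩
        | succ k ih =>
          obtain ⟨w, hw⟩ := ih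
          have hwr : w ∈ P.range := by
            by_contra h
            exact hcon w h (hw ▸ Subgroup.pow_mem _ (Subgroup.mem_zpowers w) _)
          obtain ⟨v, rfl⟩ := hwr
          refine ⟨v, ?_⟩
          rw [pow_succ', pow_mul]
          exact hw
      obtain ⟨k3, hk3⟩ := hR.exists_card_eq
      obtain ⟨w, hw⟩ := hall k3
      rw [← hk3, pow_card_eq_one'] at hw
      exact hc1 hw.symm
  obtain ⟨t, ht⟩ := hgen w hw
  have hzle : Subgroup.zpowers c ≤ Subgroup.zpowers w := by
    rw [Subgroup.zpowers_le]; exact hcw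
  haveI hNn : (Subgroup.zpowers w).Normal := by
    refine ⟨fun x hx g => ?_⟩
    obtain ⟨k, rfl⟩ := Subgroup.mem_zpowers_iff.mp hx
    have h1 : g * w ^ k * g⁻¹ = (g * w * g⁻¹) ^ k := by rw [conj_zpow]
    rw [h1]
    apply Subgroup.zpow_mem
    have h2 : g * w * g⁻¹ = ⁅g, w⁆ * w := by rw [commutatorElement_def]; group
    rw [h2]
    exact Subgroup.mul_mem _ (hzle (hallc g w)) (Subgroup.mem_zpowers w)
  refine ⟨Subgroup.zpowers w, hNn, inferInstance, ?_⟩
  refine ⟨⟨QuotientGroup.mk' _ t, fun x => ?_⟩⟩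
  obtain ⟨r, rfl⟩ := QuotientGroup.mk'_surjective _ x
  have hr : r ∈ Subgroup.closure ({w, t} : Set R) := ht ▸ Subgroup.mem_top r
  refine Subgroup.closure_induction
    (p := fun r _ => QuotientGroup.mk' (Subgroup.zpowers w) r ∈
      Subgroup.zpowers (QuotientGroup.mk' (Subgroup.zpowers w) t)) ?_ ?_ ?_ ?_ hr
  · intro z hz
    rcases hz with rfl | hz
    · have : QuotientGroup.mk' (Subgroup.zpowers z) z = 1 :=
        (QuotientGroup.eq_one_iff z).mpr (Subgroup.mem_zpowers z)
      rw [this]; exact one_mem _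
    · rw [Set.mem_singleton_iff] at hz
      subst hz
      exact Subgroup.mem_zpowers _
  · rw [map_one]; exact one_mem _
  · intro u v _ _ hu hv
    rw [map_mul]; exact Subgroup.mul_mem _ hu hv
  · intro u _ hu
    rw [map_inv]; exact Subgroup.inv_mem _ hu


/-- lifting metacyclicity through a central subgroup of order `p` inside a derived subgroup of order `≠ p` -/
theorem lift_case {R : Type u} [Group R] [Finite R] {p : ℕ} [hp : Fact p.Prime] (hR : IsPGroup p R)
    (z : R) (hzc : z ∈ Subgroup.center R) (hzo : orderOf z = p) (hzR : z ∈ commutator R)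
    (hcard : Nat.card (commutator R) ≠ p) [hZn : (Subgroup.zpowers z).Normal]
    (hmeta : Cfsg.IsMetacyclic (R ⧸ Subgroup.zpowers z)) : Cfsg.IsMetacyclic R := by
  obtain ⟨Nbar, hNbn, hNbc, hQc⟩ := hmeta
  haveI := hNbn
  obtain ⟨N, hNdef⟩ : ∃ N : Subgroup R, N = Nbar.comap (QuotientGroup.mk' (Subgroup.zpowers z)) := ⟨_, rfl⟩
  have hNmem : ∀ x : R, x ∈ N ↔ QuotientGroup.mk' (Subgroup.zpowers z) x ∈ Nbar := by
    intro x; rw [hNdef]; exact Subgroup.mem_comap
  haveI hNn : N.Normal := by rw [hNdef]; infer_instance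
  have hzcomm : ∀ x : R, z * x = x * z := fun x => (Subgroup.mem_center_iff.mp hzc x).symm
  have hzN : z ∈ N := by
    rw [hNmem]
    have : QuotientGroup.mk' (Subgroup.zpowers z) z = 1 :=
      (QuotientGroup.eq_one_iff z).mpr (Subgroup.mem_zpowers z)
    rw [this]; exact one_mem _
  -- generator of `Nbar`
  obtain ⟨gen, hgen⟩ := IsCyclic.exists_generator (α := Nbar)
  obtain ⟨a, ha⟩ := QuotientGroup.mk'_surjective (Subgroup.zpowers z) gen.1
  have haN : a ∈ N := by rw [hNmem, ha]; exact gen.2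
  have hNelt : ∀ n ∈ N, ∃ i j : ℤ, n = a ^ i * z ^ j := by
    intro n hn
    have h1 : (⟨QuotientGroup.mk' (Subgroup.zpowers z) n, (hNmem n).mp hn⟩ : Nbar) ∈ Subgroup.zpowers gen :=
      hgen _
    obtain ⟨i, hi⟩ := Subgroup.mem_zpowers_iff.mp h1
    have h2 := congrArg Subtype.val hi
    simp only [Subgroup.coe_zpow] at h2
    rw [← ha, ← map_zpow] at h2
    have h3 : (a ^ i)⁻¹ * n ∈ Subgroup.zpowers z := QuotientGroup.eq.mp h2
    obtain ⟨j, hj⟩ := Subgroup.mem_zpowers_iff.mp h3
    refine ⟨i, j, ?_⟩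
    rw [hj]; group
  -- generator of the quotient
  obtain ⟨q, hq⟩ := IsCyclic.exists_generator (α := (R ⧸ Subgroup.zpowers z) ⧸ Nbar)
  obtain ⟨q', hq'⟩ := QuotientGroup.mk'_surjective Nbar q
  obtain ⟨b, hb⟩ := QuotientGroup.mk'_surjective (Subgroup.zpowers z) q'
  have hRelt : ∀ g : R, ∃ i : ℤ, ∃ n ∈ N, g = b ^ i * n := by
    intro g
    obtain ⟨i, hi⟩ := Subgroup.mem_zpowers_iff.mp
      (hq (QuotientGroup.mk' Nbar (QuotientGroup.mk' (Subgroup.zpowers z) g)))
    rw [← hq', ← hb, ← map_zpow, ← map_zpow] at hi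
    have h3 : (QuotientGroup.mk' (Subgroup.zpowers z) (b ^ i))⁻¹ *
        (QuotientGroup.mk' (Subgroup.zpowers z) g) ∈ Nbar := QuotientGroup.eq.mp hi
    rw [← map_inv, ← map_mul] at h3
    refine ⟨i, (b ^ i)⁻¹ * g, (hNmem _).mpr h3, by group⟩
  -- `N` is abelian
  have hNcomm : ∀ n ∈ N, ∀ m ∈ N, n * m = m * n := by
    intro n hn m hm
    obtain ⟨i, j, rfl⟩ := hNelt n hn
    obtain ⟨i', j', rfl⟩ := hNelt m hm
    have hza : Commute z a := hzcomm a
    have h1 : Commute (a ^ i) (a ^ i') := (Commute.refl a).zpow_zpow i i'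
    have h2 : Commute (a ^ i) (z ^ j') := (hza.symm).zpow_zpow i j'
    have h3 : Commute (z ^ j) (a ^ i') := hza.zpow_zpow j i'
    have h4 : Commute (z ^ j) (z ^ j') := (Commute.refl z).zpow_zpow j j'
    exact ((h1.mul_right h2).mul_left (h3.mul_right h4)).eq
  obtain ⟨c, hcdef⟩ : ∃ c : R, c = ⁅a, b⁆ := ⟨_, rfl⟩
  have hcN : c ∈ N := by
    rw [hcdef, commutatorElement_def]
    have : a * b * a⁻¹ * b⁻¹ = a * (b * a⁻¹ * b⁻¹) := by group
    rw [this]
    exact N.mul_mem haN (hNn.conj_mem _ (N.inv_mem haN) b)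
  obtain ⟨k, l, hckl⟩ := hNelt c hcN
  have hbab : b * a * b⁻¹ = c⁻¹ * a := by rw [hcdef, commutatorElement_def]; group
  have hca : Commute c a := hNcomm c hcN a haN
  have hbcb : b * c * b⁻¹ = c ^ (1 - k) := by
    have h1 : b * c * b⁻¹ = (b * a * b⁻¹) ^ k * (b * z * b⁻¹) ^ l := by
      rw [conj_zpow, conj_zpow, hckl]; group
    have h2 : b * z * b⁻¹ = z := by rw [← hzcomm b]; group
    rw [h1, h2, hbab, (hca.inv_left).mul_zpow, inv_zpow, ← zpow_neg, mul_assoc, ← hckl, zpow_sub,
      zpow_one]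
    have : Commute (c ^ (-k)) c := (Commute.refl c).zpow_left _
    rw [this.eq, zpow_neg]
  -- `C = ⟨c⟩` is normal
  have hb_norm : b ∈ Subgroup.normalizer ((Subgroup.zpowers c : Subgroup R) : Set R) := by
    apply Subgroup.mem_normalizer_fintype
    intro n hn
    obtain ⟨i, rfl⟩ := Subgroup.mem_zpowers_iff.mp hn
    rw [SetLike.mem_coe, ← conj_zpow, hbcb]
    exact Subgroup.zpow_mem _ (Subgroup.zpow_mem _ (Subgroup.mem_zpowers c) _) _
  have hN_norm : N ≤ Subgroup.normalizer ((Subgroup.zpowers c : Subgroup R) : Set R) := by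
    intro n hn
    apply Subgroup.mem_normalizer_fintype
    intro x hx
    obtain ⟨i, rfl⟩ := Subgroup.mem_zpowers_iff.mp hx
    have hxN : c ^ i ∈ N := N.zpow_mem hcN i
    rw [hNcomm n hn _ hxN, mul_inv_cancel_right]
    exact hx
  haveI hCn : (Subgroup.zpowers c).Normal := by
    rw [← Subgroup.normalizer_eq_top_iff, eq_top_iff]
    intro g _
    obtain ⟨i, n, hn, rfl⟩ := hRelt g
    exact Subgroup.mul_mem _ (Subgroup.zpow_mem _ hb_norm i) (hN_norm hn)
  -- all commutators lie in `C`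
  have hallc : ∀ g h : R, ⁅g, h⁆ ∈ Subgroup.zpowers c := by
    intro g h
    rw [← QuotientGroup.eq_one_iff, ← QuotientGroup.mk'_apply, map_commutatorElement,
      commutatorElement_eq_one_iff_commute]
    set π := QuotientGroup.mk' (Subgroup.zpowers c) with hπ
    have hab : Commute (π a) (π b) := by
      rw [← commutatorElement_eq_one_iff_commute, ← map_commutatorElement, ← hcdef]
      exact (QuotientGroup.eq_one_iff c).mpr (Subgroup.mem_zpowers c)
    have hzb : Commute (π z) (π b) := by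
      show π z * π b = π b * π z
      rw [← map_mul, ← map_mul, hzcomm b]
    have hbn : ∀ n ∈ N, Commute (π b) (π n) := by
      intro n hn
      obtain ⟨i, j, rfl⟩ := hNelt n hn
      rw [map_mul, map_zpow, map_zpow]
      exact (hab.symm.zpow_right i).mul_right (hzb.symm.zpow_right j)
    have hnn : ∀ n ∈ N, ∀ m ∈ N, Commute (π n) (π m) := by
      intro n hn m hm
      show π n * π m = π m * π n
      rw [← map_mul, ← map_mul, hNcomm n hn m hm]
    obtain ⟨i, n, hn, rfl⟩ := hRelt g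
    obtain ⟨i', m, hm, rfl⟩ := hRelt h
    rw [map_mul, map_mul, map_zpow, map_zpow]
    have h1 : Commute (π b ^ i) (π b ^ i') := (Commute.refl _).zpow_zpow i i'
    have h2 : Commute (π b ^ i) (π m) := (hbn m hm).zpow_left i
    have h3 : Commute (π n) (π b ^ i') := ((hbn n hn).zpow_left i').symm
    have h4 : Commute (π n) (π m) := hnn n hn m hm
    exact (h1.mul_right h2).mul_left (h3.mul_right h4)
  have hCeq : commutator R = Subgroup.zpowers c := by
    apply le_antisymm
    · rw [commutator_def, Subgroup.commutator_le]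
      intro g _ h _
      exact hallc g h
    · rw [Subgroup.zpowers_le, hcdef, commutator_def]
      exact Subgroup.commutator_mem_commutator (Subgroup.mem_top a) (Subgroup.mem_top b)
  -- the order of `c`
  obtain ⟨j, hj⟩ := (IsPGroup.iff_orderOf.mp hR) c
  have hz1 : z ≠ 1 := by
    intro h
    rw [h, orderOf_one] at hzo
    exact hp.out.one_lt.ne hzo
  have hzC : z ∈ Subgroup.zpowers c := hCeq ▸ hzR
  have hj2 : 2 ≤ j := by
    by_contra hlt
    have hj01 : j = 0 ∨ j = 1 := by omega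
    rcases hj01 with rfl | rfl
    · rw [pow_zero, orderOf_eq_one_iff] at hj
      rw [hj, Subgroup.zpowers_one_eq_bot, Subgroup.mem_bot] at hzC
      exact hz1 hzC
    · apply hcard
      rw [hCeq, Nat.card_zpowers, hj, pow_one]
  obtain ⟨m, hm⟩ := Subgroup.mem_zpowers_iff.mp hzC
  have hpm : (p : ℤ) ∣ m := by
    have h1 : c ^ (m * p) = 1 := by
      rw [zpow_mul, hm, zpow_natCast, ← hzo, pow_orderOf_eq_one]
    have h2 := (orderOf_dvd_iff_zpow_eq_one).mpr h1
    rw [hj] at h2
    have h3 : ((p : ℤ) ^ (j - 1)) * p ∣ m * p := by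
      have : ((p ^ j : ℕ) : ℤ) = (p : ℤ) ^ (j - 1) * p := by
        rw [← pow_succ]
        push_cast
        congr 1
        omega
      rwa [this] at h2
    have hp0 : (p : ℤ) ≠ 0 := by exact_mod_cast hp.out.ne_zero
    have h4 := (mul_dvd_mul_iff_right hp0).mp h3
    exact dvd_trans (dvd_pow_self _ (by omega)) h4
  obtain ⟨m', rfl⟩ := hpm
  have hcp : c ^ p ∈ Subgroup.zpowers a := by
    have hza : Commute (a ^ k) (z ^ l) := ((show Commute z a from hzcomm a).symm).zpow_zpow k l
    rw [hckl, hza.mul_pow]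
    have : (z ^ l) ^ p = 1 := by
      rw [← zpow_natCast, ← zpow_mul, mul_comm, zpow_mul, zpow_natCast, ← hzo, pow_orderOf_eq_one,
        one_zpow]
    rw [this, mul_one]
    exact Subgroup.pow_mem _ (Subgroup.zpow_mem _ (Subgroup.mem_zpowers a) _) _
  have hza : z ∈ Subgroup.zpowers a := by
    rw [← hm, zpow_mul, zpow_natCast]
    exact Subgroup.zpow_mem _ hcp _
  refine ⟨N, hNn, ?_, ?_⟩
  · refine ⟨⟨⟨a, haN⟩, fun x => ?_⟩⟩
    obtain ⟨i, j', hx⟩ := hNelt x.1 x.2
    have : x.1 ∈ Subgroup.zpowers a := by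
      rw [hx]
      exact Subgroup.mul_mem _ (Subgroup.zpow_mem _ (Subgroup.mem_zpowers a) _)
        (Subgroup.zpow_mem _ hza _)
    obtain ⟨i', hi'⟩ := Subgroup.mem_zpowers_iff.mp this
    refine Subgroup.mem_zpowers_iff.mpr ⟨i', ?_⟩
    apply Subtype.ext
    simp only [Subgroup.coe_zpow]
    exact hi'
  · refine ⟨⟨QuotientGroup.mk' N b, fun x => ?_⟩⟩
    obtain ⟨g, rfl⟩ := QuotientGroup.mk'_surjective N x
    obtain ⟨i, n, hn, rfl⟩ := hRelt g
    refine Subgroup.mem_zpowers_iff.mpr ⟨i, ?_⟩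
    have hn1 : QuotientGroup.mk' N n = 1 := (QuotientGroup.eq_one_iff n).mpr hn
    rw [map_mul, map_zpow, hn1, mul_one]


/-- **S0639**: `p > 3`, `|Ω₁(R)| ≤ p²` implies `R` metacyclic. -/
theorem metacyclic_of_omegaOne (p : ℕ) [hp : Fact p.Prime] (hp3 : 3 < p) :
    ∀ n : ℕ, ∀ (R : Type u) [Group R] [Finite R], Nat.card R ≤ n → IsPGroup p R →
      Nat.card (Cfsg.omegaOne p (⊤ : Subgroup R)) ≤ p ^ 2 → Cfsg.IsMetacyclic R := by
  intro n
  induction n using Nat.strong_induction_on with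
  | _ n ih =>
  intro R _ _ hn hR hO
  by_cases hcase : (∀ a b : R, ⁅a, b⁆ ∈ Subgroup.center R) ∧ (∀ a b : R, ⁅a, b⁆ ^ p = 1)
  · exact class_two_case (by omega) hR hcase.1 hcase.2 hO
  have hmemc : ∀ a b : R, ⁅a, b⁆ ∈ commutator R := fun a b => by
    rw [commutator_def]
    exact Subgroup.commutator_mem_commutator (Subgroup.mem_top a) (Subgroup.mem_top b)
  have hcb : commutator R ≠ ⊥ := by
    intro h
    apply hcase
    have h1 : ∀ a b : R, ⁅a, b⁆ = 1 := fun a b => by
      have := hmemc a b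
      rw [h] at this
      exact Subgroup.mem_bot.mp this
    exact ⟨fun a b => by rw [h1]; exact one_mem _, fun a b => by rw [h1, one_pow]⟩
  obtain ⟨z, hzR, hzc, hzo⟩ := Cfsg.Agent.H1.exists_central_order_p hR (commutator R) hcb
  have hcp : Nat.card (commutator R) ≠ p := by
    intro h
    apply hcase
    have hle : Subgroup.zpowers z ≤ commutator R := by rw [Subgroup.zpowers_le]; exact hzR
    have heq : Subgroup.zpowers z = commutator R := by
      apply Subgroup.eq_of_le_of_card_ge hle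
      rw [h, Nat.card_zpowers, hzo]
    have hall : ∀ u ∈ commutator R, u ∈ Subgroup.center R ∧ u ^ p = 1 := by
      intro u hu
      rw [← heq] at hu
      obtain ⟨i, rfl⟩ := Subgroup.mem_zpowers_iff.mp hu
      refine ⟨Subgroup.zpow_mem _ hzc i, ?_⟩
      rw [← zpow_natCast, ← zpow_mul, mul_comm, zpow_mul, zpow_natCast, ← hzo, pow_orderOf_eq_one,
        one_zpow]
    exact ⟨fun a b => (hall _ (hmemc a b)).1, fun a b => (hall _ (hmemc a b)).2⟩
  haveI hZn : (Subgroup.zpowers z).Normal := by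
    refine ⟨fun x hx g => ?_⟩
    obtain ⟨k, rfl⟩ := Subgroup.mem_zpowers_iff.mp hx
    have hcomm : g * z ^ k = z ^ k * g := Subgroup.mem_center_iff.mp (Subgroup.zpow_mem _ hzc k) g
    rw [hcomm, mul_inv_cancel_right]
    exact Subgroup.zpow_mem_zpowers z k
  have hZcard : Nat.card (Subgroup.zpowers z) = p := by rw [Nat.card_zpowers, hzo]
  have hb := Cfsg.Agent.H1.OmegaQuot.omegaOne_quotient p hp3 (Nat.card R) R le_rfl hR hO
    (Subgroup.zpowers z)
  have hlt : Nat.card (R ⧸ Subgroup.zpowers z) < Nat.card R := by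
    have h1 := Subgroup.card_eq_card_quotient_mul_card_subgroup (Subgroup.zpowers z)
    rw [hZcard] at h1
    have hpos : 0 < Nat.card (R ⧸ Subgroup.zpowers z) := Nat.card_pos
    have : 1 < p := hp.out.one_lt
    nlinarith
  have hmeta := ih (Nat.card (R ⧸ Subgroup.zpowers z)) (lt_of_lt_of_le hlt hn)
    (R ⧸ Subgroup.zpowers z) le_rfl (hR.to_quotient _) hb
  exact lift_case hR z hzc hzo hzR hcp hmeta

end Cfsg.Agent.H1.MetaOmega
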