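import Mathlib
import Cfsg.Agent.H1.BG11cA
import Cfsg.Agent.H1.BG11HH
import Cfsg.Agent.H2.BGU.Balance
import Cfsg.Agent.Lib.helper3.BG11E
import Cfsg.Agent.Lib.Helper4.BG11F
import Cfsg.Agent.S1409
import Cfsg.Agent.S1414
import Cfsg.Agent.S1415

/-!
# B&G Section 11, part (c) [Theorem 11.7 / 12.5(c)]: `M_σ A ⊴ M`

For an exceptional triple `(M, A, A₀)` (helper2's `ExcTriple`), assuming (b) in the form of
helper4's `HypB` (Sylow `p`-subgroups of `M` containing `A` are abelian with `Ω₁ = A`), we prove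
helper4's `HypC`: `M ≤ N_G(M_σ A)`.
-/

set_option autoImplicit false
set_option linter.unusedVariables false
set_option linter.unusedSectionVars false
set_option linter.style.haveILetI false

open scoped commutatorElement

namespace Cfsg.Agent.H1.BG11c

open Cfsg Cfsg.Agent.Lib.Helper8.BGTen Cfsg.Agent.Lib.Helper4.BGTrans
open Cfsg.Agent.Lib.Helper7 (IsSylowIn exists_isSylowIn_ge)
open Cfsg.Agent.H2.BGU (Oq Oq_le isPGroup_Oq le_normalizer_Oq normalizer_le_normalizer_Oq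
  solvable_of_le_coatom Op' Op'_le le_normalizer_Op' coprime_card_Op' Op'_prime_eq)
open Cfsg.Agent.H2.BG11 Cfsg.Agent.H2.BG12
open Cfsg.Agent.Lib.Helper4.BG11E (HypB HypC)

universe u

variable {G : Type u} [Group G] [Finite G]

variable {M A A0 : Subgroup G} {p : ℕ} [hp : Fact p.Prime]

/-- every element normalizing a Sylow `p`-subgroup `P ⊇ A` of `M` normalizes `A = Ω₁(P)` -/
theorem cj_eq_of_mem_normalizer_sylow (hB : HypB G) (h : ExcTriple M p A A0) {P : Subgroup G}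
    (hP : IsSylowIn p P M) (hAP : A ≤ P) {g : G} (hg : g ∈ Subgroup.normalizer (P : Set G)) :
    cj g A = A := by
  obtain ⟨R, hR⟩ := hP.exists_sylow
  have hRP : (R : Subgroup ↥M).map M.subtype = P := by
    rw [hR]
    exact Subgroup.map_subgroupOf_eq_of_le hP.1
  have hΩ := (hB M A A0 p h R (by rw [hRP]; exact hAP)).2
  rw [hRP] at hΩ
  have hgA : cj g A ≤ A := by
    intro x hx
    rw [mem_cj] at hx
    have hxP : x ∈ P := by
      have h1 : g * (g⁻¹ * x * g) * g⁻¹ ∈ P :=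
        (Subgroup.mem_normalizer_iff.mp hg _).mp (hAP hx)
      have e : g * (g⁻¹ * x * g) * g⁻¹ = x := by group
      rwa [e] at h1
    refine (hΩ x hxP).mp ?_
    have h2 : (g⁻¹ * x * g) ^ p = 1 := h.elem.2 _ hx
    have e : x ^ p = g * (g⁻¹ * x * g) ^ p * g⁻¹ := by
      rw [← conj_pow]
      congr 1
      group
    rw [e, h2]
    group
  exact Subgroup.eq_of_le_of_card_ge hgA (by rw [card_cj])

/-- two subgroups of order `p` generating `A`, both acting fixed-point-freely on `M_σ` -/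
theorem exists_fpf_pair (hG : Cfsg.IsMinSimpleOddOrder G) (hB : HypB G)
    (h : ExcTriple M p A A0) :
    ∃ B0 B1 : Subgroup G, B0 ≤ A ∧ B1 ≤ A ∧ A ≤ B0 ⊔ B1 ∧ Nat.card ↥B0 = p ∧ Nat.card ↥B1 = p ∧
      Cfsg.sigmaCore M ⊓ Subgroup.centralizer (B0 : Set G) = ⊥ ∧
      Cfsg.sigmaCore M ⊓ Subgroup.centralizer (B1 : Set G) = ⊥ := by
  obtain ⟨P, n, hP, hAP, hnP, hnM⟩ := h.exists_conj
  have hnA : cj n A = A := cj_eq_of_mem_normalizer_sylow hB h hP hAP hnP
  have hn'P : n⁻¹ ∈ Subgroup.normalizer (P : Set G) := Subgroup.inv_mem _ hnP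
  have hn'A : cj n⁻¹ A = A := cj_eq_of_mem_normalizer_sylow hB h hP hAP hn'P
  have hn'M : n⁻¹ ∉ M := by
    intro hm
    apply hnM
    have := M.inv_mem hm
    rwa [inv_inv] at this
  have hfpf : ∀ g : G, g ∉ M → cj g A = A →
      Cfsg.sigmaCore M ⊓ Subgroup.centralizer ((cj g A0 : Subgroup G) : Set G) = ⊥ := by
    intro g hgM hgA
    have hAg : A ≤ cj g M := by
      rw [← hgA]
      exact cj_mono g h.le
    have hi := h.sigmaCore_inf_cj hG hgM hAg
    apply le_bot_iff.mp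
    rw [← hi]
    refine inf_le_inf_left _ ?_
    refine (Subgroup.centralizer_le_normalizer _).trans ?_
    rw [← cj_normalizer]
    exact cj_mono g h.norm0
  have hB0A : cj n A0 ≤ A := by
    rw [← hnA]
    exact cj_mono n h.le0
  have hB1A : cj n⁻¹ A0 ≤ A := by
    rw [← hn'A]
    exact cj_mono n⁻¹ h.le0
  have hc0 : Nat.card ↥(cj n A0) = p := by rw [card_cj]; exact h.card0
  have hc1 : Nat.card ↥(cj n⁻¹ A0) = p := by rw [card_cj]; exact h.card0
  have hne : cj n A0 ≠ cj n⁻¹ A0 := by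
    intro heq
    apply hnM
    have h1 : cj (n * n) A0 = A0 := by rw [cj_mul, heq, cj_cj_inv]
    have h2 : n * n ∈ M := h.norm0 (mem_normalizer_of_cj_eq h1)
    exact mem_of_sq_mem hG.1 h2
  exact ⟨cj n A0, cj n⁻¹ A0, hB0A, hB1A, le_sup_of_card_prime hB0A hB1A h.card hc0 hc1 hne,
    hc0, hc1, hfpf n hnM hnA, hfpf n⁻¹ hn'M hn'A⟩

/-- a `p`-subgroup of `M` containing `A` is abelian -/
theorem comm_of_pgroup_ge (hB : HypB G) (h : ExcTriple M p A A0) {Q : Subgroup G} (hQM : Q ≤ M)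
    (hQ : IsPGroup p ↥Q) (hAQ : A ≤ Q) : ∀ x ∈ Q, ∀ y ∈ Q, x * y = y * x := by
  obtain ⟨P, hP, hQP⟩ := exists_isSylowIn_ge hQ hQM
  obtain ⟨R, hR⟩ := hP.exists_sylow
  have hRP : (R : Subgroup ↥M).map M.subtype = P := by
    rw [hR]
    exact Subgroup.map_subgroupOf_eq_of_le hP.1
  have hc := (hB M A A0 p h R (by rw [hRP]; exact hAQ.trans hQP)).1
  intro x hx y hy
  have hxR : (⟨x, hQM hx⟩ : ↥M) ∈ (R : Subgroup ↥M) := by
    rw [hR]
    exact Subgroup.mem_subgroupOf.mpr (hQP hx)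
  have hyR : (⟨y, hQM hy⟩ : ↥M) ∈ (R : Subgroup ↥M) := by
    rw [hR]
    exact Subgroup.mem_subgroupOf.mpr (hQP hy)
  have h1 := hc.is_comm.comm (⟨⟨x, hQM hx⟩, hxR⟩ : ↥(R : Subgroup ↥M)) ⟨⟨y, hQM hy⟩, hyR⟩
  have h2 := congrArg (fun z : ↥(R : Subgroup ↥M) => ((z : ↥M) : G)) h1
  exact h2

/-- Step 0: if `E ⊇ A` and `E'` centralizes `A`, then `E` normalizes `A` -/
theorem le_normalizer_of_commutator_le (hG : Cfsg.IsMinSimpleOddOrder G)
    (h : ExcTriple M p A A0) {E : Subgroup G} (hAE : A ≤ E)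
    (hc : ⁅E, E⁆ ≤ Subgroup.centralizer (A : Set G)) :
    E ≤ Subgroup.normalizer (A : Set G) := by
  intro e he
  apply Cfsg.Agent.Lib.Lead.Conj.mem_normalizer_of_conj_mem
  intro a ha
  have hcE : ⁅e, a⁆ ∈ ⁅E, E⁆ := Subgroup.commutator_mem_commutator he (hAE ha)
  have hcC : ⁅e, a⁆ ∈ Subgroup.centralizer (A : Set G) := hc hcE
  have hconj : e * a * e⁻¹ = ⁅e, a⁆ * a := by
    rw [commutatorElement_def]
    group
  have hcomm : Commute ⁅e, a⁆ a := (Subgroup.mem_centralizer_iff.mp hcC a ha).symm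
  have hpow : ⁅e, a⁆ ^ p = 1 := by
    have h1 : (⁅e, a⁆ * a) ^ p = 1 := by
      rw [← hconj, conj_pow, h.elem.2 a ha]
      group
    rw [hcomm.mul_pow, h.elem.2 a ha, mul_one] at h1
    exact h1
  have hcA : ⁅e, a⁆ ∈ A := (h.mem_iff_pow hG _ hcC).mp hpow
  rw [hconj]
  exact A.mul_mem hcA ha

/-- **Main lemma**: a normal `r`-subgroup (`r ≠ p`) of a complement `E ⊇ A` of `M_σ` in `M`
centralizes `A`. -/
theorem le_centralizer_of_rgroup (hG : Cfsg.IsMinSimpleOddOrder G) (hB : HypB G)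
    (h : ExcTriple M p A A0) {E : Subgroup G} (hE : Cfsg.IsComplIn E (Cfsg.sigmaCore M) M)
    (hAE : A ≤ E) {r : ℕ} [hr : Fact r.Prime] (hrp : r ≠ p) {R : Subgroup G} (hRE : R ≤ E)
    (hR : IsPGroup r ↥R) (hER : E ≤ Subgroup.normalizer (R : Set G)) :
    R ≤ Subgroup.centralizer (A : Set G) := by
  by_contra hRC
  have hM := h.coatom
  have hpσ := h.not_sigma
  have hR1 : R ≠ ⊥ := by
    rintro rfl
    exact hRC bot_le
  have hRM : R ≤ M := hRE.trans hE.1
  have hrR : r ∣ Nat.card ↥R := dvd_card_of_isPGroup hR hR1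
  have hrσ : r ∉ Cfsg.sigma M :=
    not_mem_sigma_of_dvd_compl hG hM hE hr.out (hrR.trans (Subgroup.card_dvd_of_le hRE))
  have hrMσ : ¬ r ∣ Nat.card ↥(Cfsg.sigmaCore M) :=
    fun hd => hrσ (mem_sigma_of_dvd_sigmaCore hG hM hr.out hd)
  have hrp' : ¬ r ∣ p := fun hd => hrp ((Nat.prime_dvd_prime_iff_eq hr.out hp.out).mp hd)
  have hrA : ¬ r ∣ Nat.card ↥A := by
    rw [h.card]
    exact fun hd => hrp' (hr.out.dvd_of_dvd_pow hd)
  obtain ⟨B0, B1, hB0, hB1, hAB, h0, h1, hf0, hf1⟩ := exists_fpf_pair hG hB h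
  have hAR : A ≤ Subgroup.normalizer (R : Set G) := hAE.trans hER
  have hcopA : ∀ {X : Subgroup G}, IsPGroup r ↥X → (Nat.card ↥A).Coprime (Nat.card ↥X) :=
    fun hX => (coprime_card_of_isPGroup hX hrA).symm
  have hsolvA : Group.IsSolvable ↥A := solvable_of_le_coatom hG hM h.le
  -- the HH step for `R`
  have hhR : ⁅R, A⁆ ≤ Subgroup.centralizer ((Cfsg.sigmaCore M : Subgroup G) : Set G) :=
    Cfsg.Agent.H1.BG11.hh_pair hG hM hpσ A B0 B1 h.le hB0 hB1 hAB h0 h1 hf0 hf1 R hRM hAR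
      (coprime_card_of_isPGroup hR hrp') (coprime_card_of_isPGroup hR hrMσ)
  obtain ⟨Rc, hRcdef⟩ : ∃ Rc : Subgroup G,
      Rc = R ⊓ Subgroup.centralizer ((Cfsg.sigmaCore M : Subgroup G) : Set G) := ⟨_, rfl⟩
  have hRcR : Rc ≤ R := by rw [hRcdef]; exact inf_le_left
  have hRcσ : Rc ≤ Subgroup.centralizer ((Cfsg.sigmaCore M : Subgroup G) : Set G) := by
    rw [hRcdef]; exact inf_le_right
  have hRcp : IsPGroup r ↥Rc := hR.to_le hRcR
  have hERc : E ≤ Subgroup.normalizer (Rc : Set G) := by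
    rw [hRcdef]
    exact Cfsg.Agent.Lib.Helper4.BGTrans.le_normalizer_inf hER
      (hE.1.trans (Cfsg.Agent.H1.BG11.le_normalizer_centralizer_sigmaCore M))
  have hσRc : Cfsg.sigmaCore M ≤ Subgroup.normalizer (Rc : Set G) :=
    (Subgroup.le_centralizer_iff.mp hRcσ).trans (Subgroup.centralizer_le_normalizer _)
  have hMRc : M ≤ Subgroup.normalizer (Rc : Set G) := by
    intro m hm
    obtain ⟨e, he, s, hs, rfl⟩ := hE.2.2.2 m hm
    exact Subgroup.mul_mem _ (hERc he) (hσRc hs)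
  have hcomRc : ⁅R, A⁆ ≤ Rc := by
    rw [hRcdef]
    exact le_inf (Subgroup.le_normalizer_iff_commutator_le_left.mp hAR) hhR
  have hRcC : ¬ Rc ≤ Subgroup.centralizer (A : Set G) := by
    intro hc
    apply hRC
    exact le_centralizer_of_commutator_le hAR (hcopA hR) (Or.inl hsolvA) (hcomRc.trans hc)
  by_cases hrC : r ∣ Nat.card ↥(Subgroup.centralizer (A : Set G))
  · exact hRcC (Cfsg.Agent.Lib.helper3.BG11.lemmaR3 hG hM
      (Cfsg.Agent.Lib.helper3.BG11.e2Max_of_not_sigma hG hM hpσ h.le h.elem h.card) h.le hrp hrσ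
      hRcp hMRc hrC)
  · have hRc1 : Rc ≠ ⊥ := by
      intro hb
      apply hRcC
      rw [hb]
      exact bot_le
    obtain ⟨Z, hZRc, hZ1, hZe, hNZ⟩ := exists_omegaCenter hRcp hRc1
    have hZM : Z ≤ M := hZRc.trans (hRcR.trans hRM)
    have hZσ : Z ≤ Subgroup.centralizer ((Cfsg.sigmaCore M : Subgroup G) : Set G) :=
      hZRc.trans hRcσ
    have hZcard : Nat.card ↥Z = r := by
      by_contra hne
      obtain ⟨B, hBZ, hBe, hB2⟩ := exists_sq_of_card_ne hZe hZ1 hne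
      exact Cfsg.Agent.Lib.helper3.BG11.star hG hM hrσ (hBZ.trans hZM) hBe hB2 (hBZ.trans hZσ)
    have hMZ : M ≤ Subgroup.normalizer (Z : Set G) := hMRc.trans hNZ
    have hNZM : Subgroup.normalizer (Z : Set G) = M :=
      Cfsg.Agent.H2.BGU.normalizer_eq_coatom hG hM hZ1 hZM hMZ
    have hZp : IsPGroup r ↥Z := isPGroup_of_elementary hZe
    have hZA : Z ⊓ Subgroup.centralizer (A : Set G) = ⊥ := inf_eq_bot_of_not_dvd hZp hrC
    have hpr : p < r := lt_of_fpf_prime hr.out h.isPGroup (h.le.trans hMZ) hZcard hZA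
    -- S1414: primes dividing `|M : O_{p'}(M)|` are `≤ p`
    have hpβ : p ∉ Cfsg.beta M := fun hb => hb.1.2 (h.rank hG).1
    have hidx := ((Cfsg.Agent.S1414.result hG M hM).2.2.2.2 p hp.out h.dvd_card hpβ).2.2
    have hrK : ¬ r ∣ (Cfsg.pPrimeCore p ↥M).index :=
      fun hd => absurd (hidx r hr.out hd) (not_le.mpr hpr)
    obtain ⟨K0, hK0def⟩ : ∃ K0 : Subgroup G, K0 = Op' p M := ⟨_, rfl⟩
    have hK0M : K0 ≤ M := by rw [hK0def]; exact Op'_le p M
    have hMK0 : M ≤ Subgroup.normalizer (K0 : Set G) := by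
      rw [hK0def]; exact le_normalizer_Op' p M
    have hK0idx : K0.relIndex M = (Cfsg.pPrimeCore p ↥M).index := by
      rw [hK0def, Op'_prime_eq hp.out M]
      exact relIndex_map_subtype_self M _
    have hcopAK : (Nat.card ↥A).Coprime (Nat.card ↥K0) := by
      rw [hK0def, h.card]
      exact Nat.Coprime.pow_left 2 (coprime_card_Op' p M)
    have hsolvK : Group.IsSolvable ↥K0 := solvable_of_le_coatom hG hM hK0M
    obtain ⟨S, hS, hAS⟩ := exists_inv_sylow' (q := r) (h.le.trans hMK0) hcopAK hsolvK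
    have hSM : S ≤ M := hS.1.trans hK0M
    have hSp : IsPGroup r ↥S := hS.isPGroup
    have hrK0 : ¬ r ∣ K0.relIndex M := by rw [hK0idx]; exact hrK
    have hSsyl : IsSylowIn r S M := by
      refine ⟨hSM, ?_⟩
      rw [hS.2]
      congr 1
      have e1 : Nat.card ↥M = K0.relIndex M * Nat.card ↥K0 :=
        Cfsg.Agent.H1.card_eq_relIndex_mul_card hK0M
      have hne0 : K0.relIndex M ≠ 0 := by
        intro h0'
        rw [h0', zero_mul] at e1
        exact Nat.card_pos.ne' e1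
      have e2 : (K0.relIndex M).factorization r = 0 :=
        Nat.factorization_eq_zero_of_not_dvd hrK0
      rw [e1, Nat.factorization_mul hne0 Nat.card_pos.ne', Finsupp.add_apply, e2, zero_add]
    -- the `r`-rank of `M` is at least 2
    have hrank : ¬ Cfsg.PRankLE r 1 ↥M :=
      (Cfsg.Agent.S1409.result hG M hM r hrσ Z hZcard hNZM.le).1.2
    obtain ⟨B, hBM, hBe, hB2⟩ := exists_elem_sq (p := r) hrank
    obtain ⟨RS, hRS⟩ := hSsyl.exists_sylow
    have hRSmap : (RS : Subgroup ↥M).map M.subtype = S := by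
      rw [hRS]
      exact Subgroup.map_subgroupOf_eq_of_le hSM
    obtain ⟨m, hmM, hmB⟩ := Cfsg.Agent.Lib.Helper4.BG11E.exists_cj_le_sylow hBM
      (isPGroup_of_elementary hBe) RS
    rw [hRSmap] at hmB
    -- `S = [S, A] ≤ C(M_σ)`
    have hSA : S ⊓ Subgroup.centralizer (A : Set G) = ⊥ := inf_eq_bot_of_not_dvd hSp hrC
    have hScomm : ⁅S, A⁆ = S :=
      commutator_eq_of_inf_centralizer_eq_bot hAS (hcopA hSp) (Or.inl hsolvA) hSA
    have hhS : ⁅S, A⁆ ≤ Subgroup.centralizer ((Cfsg.sigmaCore M : Subgroup G) : Set G) :=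
      Cfsg.Agent.H1.BG11.hh_pair hG hM hpσ A B0 B1 h.le hB0 hB1 hAB h0 h1 hf0 hf1 S hSM hAS
        (coprime_card_of_isPGroup hSp hrp') (coprime_card_of_isPGroup hSp hrMσ)
    rw [hScomm] at hhS
    have hB'e : Cfsg.IsElementaryAbelian r (cj m B) := isElementaryAbelian_cj m hBe
    have hB'2 : Nat.card ↥(cj m B) = r ^ 2 := by rw [card_cj]; exact hB2
    exact Cfsg.Agent.Lib.helper3.BG11.star hG hM hrσ (hmB.trans hSM) hB'e hB'2 (hmB.trans hhS)

/-- **(c)** [B&G Theorem 11.7 / 12.5(c)]: `M_σ A ⊴ M`, from (b). -/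
theorem hypC_of_hypB (hG : Cfsg.IsMinSimpleOddOrder G) (hB : HypB G) : HypC G := by
  intro M A A0 p hp h
  haveI : Fact p.Prime := hp
  have hM := h.coatom
  obtain ⟨E0, hE0⟩ := exists_compl hG hM
  obtain ⟨m, hm, hAm⟩ := exists_cj_compl_ge hG hM hE0 h.le (h.coprime_sigmaCore hG)
  have hE1 := compl_cj hE0 hm
  obtain ⟨E, hEdef⟩ : ∃ E : Subgroup G, E = cj m E0 := ⟨_, rfl⟩
  have hE : Cfsg.IsComplIn E (Cfsg.sigmaCore M) M := by rw [hEdef]; exact hE1
  have hAE : A ≤ E := by rw [hEdef]; exact hAm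
  have hnil : Group.IsNilpotent ↥⁅E, E⁆ := (Cfsg.Agent.S1415.result hG M hM E hE).1
  have hEE : ⁅E, E⁆ ≤ E := Subgroup.commutator_le_self E
  have hEn : E ≤ Subgroup.normalizer ((⁅E, E⁆ : Subgroup G) : Set G) :=
    Subgroup.normalizer_commutator_ge_left E E
  have hc : ⁅E, E⁆ ≤ Subgroup.centralizer (A : Set G) := by
    apply le_of_forall_sylIn_le
    intro r hr
    refine ⟨Oq r ⁅E, E⁆, sylIn_Oq_of_nilpotent hnil r, ?_⟩
    have hRE : Oq r ⁅E, E⁆ ≤ E := (Oq_le r _).trans hEE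
    have hRp : IsPGroup r ↥(Oq r ⁅E, E⁆) := isPGroup_Oq hr.out _
    have hER : E ≤ Subgroup.normalizer (Oq r ⁅E, E⁆ : Set G) :=
      hEn.trans (normalizer_le_normalizer_Oq r _)
    by_cases hrp : r = p
    · have hRp' : IsPGroup p ↥(Oq r ⁅E, E⁆) := by rw [← hrp]; exact hRp
      have hAR : A ≤ Subgroup.normalizer (Oq r ⁅E, E⁆ : Set G) := hAE.trans hER
      have hQp : IsPGroup p ↥(Oq r ⁅E, E⁆ ⊔ A : Subgroup G) :=
        IsPGroup.to_sup_of_normal_left' hRp' h.isPGroup hAR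
      have hcomm := comm_of_pgroup_ge hB h (sup_le (hRE.trans hE.1) h.le) hQp le_sup_right
      intro x hx
      refine Subgroup.mem_centralizer_iff.mpr ?_
      intro a ha
      exact hcomm a (Subgroup.mem_sup_right ha) x (Subgroup.mem_sup_left hx)
    · exact le_centralizer_of_rgroup hG hB h hE hAE hrp hRE hRp hER
  have hEA : E ≤ Subgroup.normalizer (A : Set G) := le_normalizer_of_commutator_le hG h hAE hc
  intro x hx
  obtain ⟨e, he, s, hs, rfl⟩ := hE.2.2.2 x hx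
  refine Subgroup.mul_mem _ ?_ ?_
  · exact mem_normalizer_sup (Cfsg.Agent.H2.BG11.le_normalizer_sigmaCore M (hE.1 he)) (hEA he)
  · exact Subgroup.le_normalizer (Subgroup.mem_sup_left hs)

end Cfsg.Agent.H1.BG11c
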