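import Mathlib
import Cfsg.Agent.H1.Basic
import Cfsg.Agent.H1.Card

set_option autoImplicit false

namespace Cfsg.Agent.H1

open scoped commutatorElement Pointwise

/-- `x` is a `π`-element -/
def IsPiElt (π : Set ℕ) {G : Type*} [Monoid G] (x : G) : Prop :=
  ∀ p : ℕ, p.Prime → p ∣ orderOf x → p ∈ π

/-- the `π`-elements form a subgroup -/
def PiClosed (π : Set ℕ) (G : Type*) [Group G] : Prop :=
  ∃ K : Subgroup G, ∀ x : G, x ∈ K ↔ IsPiElt π x

lemma isPiElt_of_orderOf_dvd {π : Set ℕ} {G H : Type*} [Monoid G] [Monoid H] {x : G} {y : H}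
    (h : orderOf y ∣ orderOf x) (hx : IsPiElt π x) : IsPiElt π y :=
  fun p hp hpy => hx p hp (hpy.trans h)

lemma isPiElt_of_orderOf_eq_prime_pow {π : Set ℕ} {G : Type*} [Monoid G] {x : G} {r a : ℕ} (hr : r.Prime) (hrπ : r ∈ π)
    (h : orderOf x = r ^ a) : IsPiElt π x := by
  intro p hp hpx
  rw [h] at hpx
  have := (Nat.prime_dvd_prime_iff_eq hp hr).mp (hp.dvd_of_dvd_pow hpx)
  rw [this]; exact hrπ

lemma eq_one_of_isPiElt_of_prime_pow {π : Set ℕ} {G : Type*} [Monoid G] {x : G} {q a : ℕ} (hq : q.Prime) (hqπ : q ∉ π)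
    (hx : IsPiElt π x) (h : orderOf x ∣ q ^ a) : x = 1 := by
  obtain ⟨b, -, hb⟩ := (Nat.dvd_prime_pow hq).mp h
  rcases Nat.eq_zero_or_pos b with h0 | h0
  · rw [h0, pow_zero] at hb
    exact orderOf_eq_one_iff.mp hb
  · exfalso
    apply hqπ
    apply hx q hq
    rw [hb]
    exact dvd_pow_self q h0.ne'

lemma isPiElt_of_pow_mem {π : Set ℕ} {G : Type*} [Group G] (L : Subgroup G) (hL : ∀ z ∈ L, IsPiElt π z)
    (n : G) (m : ℕ) (hm : ∀ p : ℕ, p.Prime → p ∣ m → p ∈ π) (h : n ^ m ∈ L) : IsPiElt π n := by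
  have h1 : orderOf n ∣ m * orderOf (n ^ m) := by
    apply orderOf_dvd_of_pow_eq_one
    rw [pow_mul, pow_orderOf_eq_one]
  intro p hp hpn
  rcases (Nat.Prime.dvd_mul hp).mp (hpn.trans h1) with h2 | h2
  · exact hm p hp h2
  · exact hL _ h p hp h2

/-- divisibility by all prime-power parts -/
lemma dvd_card_of_forall_prime {G : Type*} [Group G] [Finite G] (T : Subgroup G) (n : ℕ) (hn : n ≠ 0)
    (h : ∀ p : ℕ, p.Prime → ∃ S : Subgroup G, S ≤ T ∧ Nat.card S = p ^ n.factorization p) : n ∣ Nat.card T := by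
  rw [← Nat.factorization_prime_le_iff_dvd hn Nat.card_pos.ne']
  intro p hp
  obtain ⟨S, hST, hS⟩ := h p hp
  have : p ^ n.factorization p ∣ Nat.card T := hS ▸ Subgroup.card_dvd_of_le hST
  exact (hp.pow_dvd_iff_le_factorization Nat.card_pos.ne').mp this

/-- a `p`-element is conjugate into any subgroup of index prime to `p` -/
lemma exists_conj_mem_of_index_coprime {X : Type*} [Group X] [Finite X] {p : ℕ} [Fact p.Prime]
    (x : X) (a : ℕ) (hx : orderOf x = p ^ a) (H : Subgroup X) (hp : ¬ p ∣ H.index) :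
    ∃ g : X, g⁻¹ * x * g ∈ H := by
  have hN0 : IsPGroup p (Subgroup.zpowers x) := by
    rw [IsPGroup.iff_card]
    exact ⟨a, by rw [Nat.card_zpowers, hx]⟩
  have hfix := hN0.nonempty_fixed_point_of_prime_not_dvd_card (X ⧸ H) hp
  obtain ⟨c, hc⟩ := hfix
  obtain ⟨g, rfl⟩ := QuotientGroup.mk_surjective c
  refine ⟨g, ?_⟩
  have h1 := hc ⟨x, Subgroup.mem_zpowers x⟩
  have h2 : ((x * g : X) : X ⧸ H) = (g : X ⧸ H) := h1
  rw [QuotientGroup.eq] at h2
  have h3 := H.inv_mem h2
  have e : ((x * g)⁻¹ * g)⁻¹ = g⁻¹ * x * g := by group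
  rwa [e] at h3

/-- the subgroup of elements commuting with `x` modulo `L` -/
def commSub {G : Type*} [Group G] (L : Subgroup G) [L.Normal] (x : G) : Subgroup G :=
  (Subgroup.centralizer {(QuotientGroup.mk' L x)}).comap (QuotientGroup.mk' L)

lemma mem_commSub {G : Type*} [Group G] (L : Subgroup G) [L.Normal] (x k : G) :
    k ∈ commSub L x ↔ ⁅x, k⁆ ∈ L := by
  unfold commSub
  rw [Subgroup.mem_comap, mem_centralizer_singleton_iff, ← (QuotientGroup.eq_one_iff (N := L) ⁅x, k⁆)]
  rw [commutatorElement_def]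
  simp only [QuotientGroup.mk'_apply, QuotientGroup.mk_mul, QuotientGroup.mk_inv]
  constructor
  · intro h
    rw [← h]; group
  · intro h
    have := congrArg (fun t => t * ((k : G ⧸ L) * (x : G ⧸ L))) h
    simp only [one_mul] at this
    rw [← this]; group

/-- `π'`-homogeneity, elementwise form: `π`-elements normalizing a nontrivial `π'`-subgroup centralize it -/
def PiHom (π : Set ℕ) (G : Type*) [Group G] : Prop :=
  ∀ H : Subgroup G, H ≠ ⊥ → (∀ p : ℕ, p.Prime → p ∣ Nat.card ↥H → p ∉ π) →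
    ∀ x ∈ Subgroup.normalizer (H : Set G), IsPiElt π x → x ∈ Subgroup.centralizer (H : Set G)

lemma piHom_of_relIndex {π : Set ℕ} {G : Type*} [Group G] [Finite G]
    (hhom : ∀ H : Subgroup G, H ≠ ⊥ → (∀ p : ℕ, p.Prime → p ∣ Nat.card ↥H → p ∉ π) →
        ∀ p : ℕ, p.Prime → p ∣ (Subgroup.centralizer (H : Set G)).relIndex (Subgroup.normalizer (H : Set G)) → p ∉ π) :
    PiHom π G := by
  intro Q hQ hQq n hn hnpi
  have hrel := hhom Q hQ hQq
  set m := (Subgroup.centralizer (Q : Set G)).relIndex (Subgroup.normalizer (Q : Set G)) with hm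
  have hcop : Nat.Coprime m (orderOf n) := by
    apply Nat.coprime_of_dvd
    intro k hk hkm hkn
    exact hrel k hk hkm (hnpi k hk hkn)
  have hpow : n ^ m ∈ Subgroup.centralizer (Q : Set G) := by
    have := Subgroup.pow_index_mem ((Subgroup.centralizer (Q : Set G)).subgroupOf (Subgroup.normalizer (Q : Set G)))
      (⟨n, hn⟩ : Subgroup.normalizer (Q : Set G))
    rw [Subgroup.mem_subgroupOf] at this
    exact this
  obtain ⟨u, hu⟩ := exists_pow_eq_self_of_coprime hcop
  rw [← hu]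
  exact Subgroup.pow_mem _ hpow u

/-- if all `r`-elements of `K` lie in `L ≤ K` then `r ∤ [K : L]` -/
lemma not_dvd_relIndex_of_forall {G : Type*} [Group G] [Finite G] (K L : Subgroup G) (hLK : L ≤ K)
    (r : ℕ) [Fact r.Prime] (h : ∀ x ∈ K, (∃ a, orderOf x = r ^ a) → x ∈ L) : ¬ r ∣ L.relIndex K := by
  intro hdvd
  have h1 := card_eq_relIndex_mul_card hLK
  let P : Sylow r K := default
  have h2 : Nat.card ((P : Subgroup K).map K.subtype) = r ^ (Nat.card K).factorization r := by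
    rw [Subgroup.card_map_of_injective K.subtype_injective]
    exact P.card_eq_multiplicity
  have hPL : (P : Subgroup K).map K.subtype ≤ L := by
    rintro _ ⟨y, hy, rfl⟩
    apply h _ y.2
    obtain ⟨a, ha⟩ := (IsPGroup.iff_orderOf.mp P.2) ⟨y, hy⟩
    rw [Subgroup.orderOf_mk] at ha
    exact ⟨a, by rw [← ha]; exact (Subgroup.orderOf_coe y)⟩
  have h3 : r ^ (Nat.card K).factorization r ∣ Nat.card L := h2 ▸ Subgroup.card_dvd_of_le hPL
  have h4 : r ^ ((Nat.card K).factorization r + 1) ∣ Nat.card K := by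
    have h5 : r ^ ((Nat.card K).factorization r + 1) ∣ L.relIndex K * Nat.card L := by
      rw [pow_succ, mul_comm]
      exact Nat.mul_dvd_mul hdvd h3
    rwa [← h1] at h5
  have := ((Fact.out : r.Prime).pow_dvd_iff_le_factorization Nat.card_pos.ne').mp h4
  omega

lemma relIndex_of_piHom {π : Set ℕ} {G : Type*} [Group G] [Finite G] (hh : PiHom π G) :
    ∀ H : Subgroup G, H ≠ ⊥ → (∀ p : ℕ, p.Prime → p ∣ Nat.card ↥H → p ∉ π) →
        ∀ p : ℕ, p.Prime → p ∣ (Subgroup.centralizer (H : Set G)).relIndex (Subgroup.normalizer (H : Set G)) → p ∉ π := by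
  intro H hH hHq p hp hpdvd hpπ
  haveI : Fact p.Prime := ⟨hp⟩
  refine not_dvd_relIndex_of_forall (Subgroup.normalizer (H : Set G)) (Subgroup.centralizer (H : Set G))
    (Subgroup.centralizer_le_normalizer (H : Set G)) p ?_ hpdvd
  rintro x hx ⟨a, ha⟩
  exact hh H hH hHq x hx (isPiElt_of_orderOf_eq_prime_pow hp hpπ ha)

lemma PiHom.subgroup {π : Set ℕ} {G : Type*} [Group G] (hh : PiHom π G) (B : Subgroup G) : PiHom π B := by
  intro H hH hHq x hx hxpi
  have h1 : H.map B.subtype ≠ ⊥ := by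
    intro h0
    apply hH
    rw [eq_bot_iff]
    intro y hy
    have : (y : G) ∈ H.map B.subtype := ⟨y, hy, rfl⟩
    rw [h0, Subgroup.mem_bot] at this
    rw [Subgroup.mem_bot]
    exact Subtype.ext this
  have h2 : ∀ p : ℕ, p.Prime → p ∣ Nat.card ↥(H.map B.subtype) → p ∉ π := by
    intro p hp hpd
    rw [Subgroup.card_map_of_injective B.subtype_injective] at hpd
    exact hHq p hp hpd
  have h3 : (x : G) ∈ Subgroup.normalizer ((H.map B.subtype : Subgroup G) : Set G) := by
    rw [Subgroup.mem_normalizer_iff]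
    intro y
    constructor
    · rintro ⟨z, hz, rfl⟩
      exact ⟨x * z * x⁻¹, (Subgroup.mem_normalizer_iff.mp hx z).mp hz, rfl⟩
    · rintro ⟨z, hz, hzy⟩
      have hzy' : (z : G) = (x : G) * y * (x : G)⁻¹ := hzy
      have hyB : y ∈ B := by
        have : y = (x : G)⁻¹ * (z : G) * (x : G) := by rw [hzy']; group
        rw [this]
        exact B.mul_mem (B.mul_mem (B.inv_mem x.2) z.2) x.2
      refine ⟨⟨y, hyB⟩, ?_, rfl⟩
      refine (Subgroup.mem_normalizer_iff.mp hx ⟨y, hyB⟩).mpr ?_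
      have : x * ⟨y, hyB⟩ * x⁻¹ = z := Subtype.ext hzy'.symm
      rw [this]; exact hz
  have h4 : IsPiElt π (x : G) := isPiElt_of_orderOf_dvd (by rw [Subgroup.orderOf_coe]) hxpi
  have h5 := hh _ h1 h2 _ h3 h4
  rw [Subgroup.mem_centralizer_iff] at h5 ⊢
  intro y hy
  apply Subtype.ext
  exact h5 (y : G) ⟨y, hy, rfl⟩

section core

variable {G : Type*} [Group G] [Finite G] (π : Set ℕ)
    (hhom : PiHom π G)
    (K L : Subgroup G) [K.Normal] [L.Normal]
    (hL : ∀ x, x ∈ L ↔ x ∈ K ∧ IsPiElt π x)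

omit [Finite G] [K.Normal] [L.Normal] in
include hL in
lemma sylow_le_L (r : ℕ) [Fact r.Prime] (hr : r ∈ π) (P : Sylow r K) :
    (P : Subgroup K).map K.subtype ≤ L := by
  rintro _ ⟨y, hy, rfl⟩
  rw [hL]
  refine ⟨y.2, ?_⟩
  obtain ⟨a, ha⟩ := (IsPGroup.iff_orderOf.mp P.2) ⟨y, hy⟩
  rw [Subgroup.orderOf_mk] at ha
  apply isPiElt_of_orderOf_eq_prime_pow (Fact.out) hr (a := a)
  rw [← ha]
  exact (Subgroup.orderOf_coe y)

omit [K.Normal] [L.Normal] in
include hL in
lemma not_dvd_relIndex (r : ℕ) [Fact r.Prime] (hr : r ∈ π) : ¬ r ∣ L.relIndex K := by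
  intro hdvd
  have hLK : L ≤ K := fun x hx => ((hL x).mp hx).1
  have h1 := card_eq_relIndex_mul_card hLK
  let P : Sylow r K := default
  have h2 : Nat.card ((P : Subgroup K).map K.subtype) = r ^ (Nat.card K).factorization r := by
    rw [Subgroup.card_map_of_injective K.subtype_injective]
    exact P.card_eq_multiplicity
  have h3 : r ^ (Nat.card K).factorization r ∣ Nat.card L := h2 ▸ Subgroup.card_dvd_of_le (sylow_le_L π K L hL r hr P)
  have h4 : r ^ ((Nat.card K).factorization r + 1) ∣ Nat.card K := by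
    have h5 : r ^ ((Nat.card K).factorization r + 1) ∣ L.relIndex K * Nat.card L := by
      rw [pow_succ, mul_comm]
      exact Nat.mul_dvd_mul hdvd h3
    rwa [← h1] at h5
  have := ((Fact.out : r.Prime).pow_dvd_iff_le_factorization Nat.card_pos.ne').mp h4
  omega

include hhom hL in
lemma exists_sylow_comm (r : ℕ) [Fact r.Prime] (hr : r ∈ π) (x : G) (a : ℕ) (hx : orderOf x = r ^ a)
    (q : ℕ) [Fact q.Prime] (hq : q ∉ π) :
    ∃ Q₁ : Subgroup G, Q₁ ≤ K ∧ Nat.card Q₁ = q ^ (Nat.card K).factorization q ∧ ∀ y ∈ Q₁, ⁅x, y⁆ ∈ L := by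
  have hLK : L ≤ K := fun x hx => ((hL x).mp hx).1
  have hLπ : ∀ z ∈ L, IsPiElt π z := fun z hz => ((hL z).mp hz).2
  let P : Sylow q K := default
  set Q : Subgroup G := (P : Subgroup K).map K.subtype with hQdef
  have hQcard : Nat.card Q = q ^ (Nat.card K).factorization q := by
    rw [hQdef, Subgroup.card_map_of_injective K.subtype_injective]
    exact P.card_eq_multiplicity
  have hQK : Q ≤ K := by
    rintro _ ⟨y, -, rfl⟩; exact y.2
  by_cases hQ : Q = ⊥
  · refine ⟨Q, hQK, hQcard, ?_⟩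
    intro y hy
    rw [hQ, Subgroup.mem_bot] at hy
    rw [hy, commutatorElement_def]
    simp
  -- the subgroup X = L N_G(Q)
  set X : Subgroup G := L ⊔ Subgroup.normalizer (Q : Set G) with hXdef
  have hfr : Subgroup.normalizer (Q : Set G) ⊔ K = ⊤ := Sylow.normalizer_sup_eq_top P
  have hXK : X ⊔ K = ⊤ := by
    apply top_le_iff.mp
    rw [← hfr]
    exact sup_le_sup_right le_sup_right K
  have hidx : X.index ∣ L.relIndex K := by
    have h1 : (X ⊓ K).relIndex K = X.relIndex (X ⊔ K) :=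
      relIndex_inf_eq_relIndex_sup X K (by rw [Subgroup.normalizer_eq_top]; exact le_top)
    rw [hXK, Subgroup.relIndex_top_right] at h1
    rw [← h1]
    exact Subgroup.relIndex_dvd_of_le_left K (le_inf le_sup_left hLK)
  have hrX : ¬ r ∣ X.index := fun h => not_dvd_relIndex π K L hL r hr (h.trans hidx)
  obtain ⟨g, hg⟩ := exists_conj_mem_of_index_coprime x a hx X hrX
  set y : G := g⁻¹ * x * g with hydef
  have hyord : orderOf y = r ^ a := by
    rw [← hx]
    have : y = (MulAut.conj g⁻¹) x := by simp [hydef]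
    rw [this, MulEquiv.orderOf_eq]
  -- decompose y = l * n
  have hmem : y ∈ (L : Set G) * (Subgroup.normalizer (Q : Set G) : Set G) := by
    rw [← Subgroup.normal_mul]; exact hg
  obtain ⟨l, hl, n, hn, hln⟩ := Set.mem_mul.mp hmem
  -- n is a π-element
  have hnpi : IsPiElt π n := by
    apply isPiElt_of_pow_mem L hLπ n (r ^ a)
    · intro p hp hpr
      have := (Nat.prime_dvd_prime_iff_eq hp Fact.out).mp (hp.dvd_of_dvd_pow hpr)
      rw [this]; exact hr
    · rw [← QuotientGroup.eq_one_iff (N := L)]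
      have e1 : ((n : G) : G ⧸ L) = ((y : G) : G ⧸ L) := by
        rw [← hln, QuotientGroup.mk_mul, (QuotientGroup.eq_one_iff l).mpr hl, one_mul]
      rw [QuotientGroup.mk_pow, e1, ← QuotientGroup.mk_pow, ← hyord, pow_orderOf_eq_one]
      rfl
  -- hence n centralizes Q
  have hQq : ∀ p : ℕ, p.Prime → p ∣ Nat.card Q → p ∉ π := by
    intro p hp hpQ
    rw [hQcard] at hpQ
    have := (Nat.prime_dvd_prime_iff_eq hp Fact.out).mp (hp.dvd_of_dvd_pow hpQ)
    rw [this]; exact hq
  have hncent : n ∈ Subgroup.centralizer (Q : Set G) := hhom Q hQ hQq n hn hnpi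
  -- so y commutes with Q modulo L
  have hyQ : ∀ z ∈ Q, ⁅y, z⁆ ∈ L := by
    intro z hz
    have hnz : z * n = n * z := (Subgroup.mem_centralizer_iff.mp hncent) z hz
    have e : ⁅y, z⁆ = l * (z * l⁻¹ * z⁻¹) := by
      rw [commutatorElement_def, ← hln]
      have : l * n * z * (l * n)⁻¹ * z⁻¹ = l * (n * z) * n⁻¹ * l⁻¹ * z⁻¹ := by group
      rw [this, ← hnz]; group
    rw [e]
    exact L.mul_mem hl (Subgroup.Normal.conj_mem inferInstance _ (L.inv_mem hl) z)
  refine ⟨Q.map (MulAut.conj g).toMonoidHom, ?_, ?_, ?_⟩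
  · rintro _ ⟨z, hz, rfl⟩
    exact Subgroup.Normal.conj_mem inferInstance z (hQK hz) g
  · rw [Subgroup.card_map_of_injective (MulAut.conj g).injective]
    exact hQcard
  · rintro _ ⟨z, hz, rfl⟩
    have e : ⁅x, (MulAut.conj g).toMonoidHom z⁆ = g * ⁅y, z⁆ * g⁻¹ := by
      simp only [MulEquiv.coe_toMonoidHom, MulAut.conj_apply, commutatorElement_def, hydef]
      group
    rw [e]
    exact Subgroup.Normal.conj_mem inferInstance _ (hyQ z hz) g

include hhom hL in
lemma comm_mem_of_prime_pow (r : ℕ) [Fact r.Prime] (hr : r ∈ π) (x : G) (a : ℕ) (hx : orderOf x = r ^ a) :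
    ∀ k ∈ K, ⁅x, k⁆ ∈ L := by
  have hLK : L ≤ K := fun x hx => ((hL x).mp hx).1
  set S : Subgroup G := K ⊓ commSub L x with hS
  have hdvd : Nat.card K ∣ Nat.card S := by
    apply dvd_card_of_forall_prime S (Nat.card K) Nat.card_pos.ne'
    intro p hp
    haveI : Fact p.Prime := ⟨hp⟩
    by_cases hpπ : p ∈ π
    · let P : Sylow p K := default
      refine ⟨(P : Subgroup K).map K.subtype, ?_, ?_⟩
      · intro z hz
        have hzL := sylow_le_L π K L hL p hpπ P hz
        refine ⟨hLK hzL, (mem_commSub L x z).mpr ?_⟩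
        have : ⁅x, z⁆ = (x * z * x⁻¹) * z⁻¹ := by rw [commutatorElement_def]
        rw [this]
        exact L.mul_mem (Subgroup.Normal.conj_mem inferInstance z hzL x) (L.inv_mem hzL)
      · rw [Subgroup.card_map_of_injective K.subtype_injective]
        exact P.card_eq_multiplicity
    · obtain ⟨Q₁, hQK, hQc, hQL⟩ := exists_sylow_comm π hhom K L hL r hr x a hx p hpπ
      refine ⟨Q₁, ?_, hQc⟩
      intro z hz
      exact ⟨hQK hz, (mem_commSub L x z).mpr (hQL z hz)⟩
  have hSK : S = K := Subgroup.eq_of_le_of_card_ge inf_le_left (Nat.le_of_dvd Nat.card_pos hdvd)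
  intro k hk
  rw [← hSK] at hk
  exact (mem_commSub L x k).mp hk.2

/-- the subgroup of elements centralizing `K` modulo `L` -/
def centMod {G : Type*} [Group G] (K L : Subgroup G) [L.Normal] : Subgroup G :=
  (Subgroup.centralizer ((K.map (QuotientGroup.mk' L) : Subgroup (G ⧸ L)) : Set (G ⧸ L))).comap (QuotientGroup.mk' L)

lemma mem_centMod {G : Type*} [Group G] (K L : Subgroup G) [L.Normal] (g : G) :
    g ∈ centMod K L ↔ ∀ k ∈ K, ⁅g, k⁆ ∈ L := by
  unfold centMod
  rw [Subgroup.mem_comap, Subgroup.mem_centralizer_iff]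
  constructor
  · intro h k hk
    rw [← mem_commSub, commSub, Subgroup.mem_comap, mem_centralizer_singleton_iff]
    exact h _ ⟨k, hk, rfl⟩
  · rintro h _ ⟨k, hk, rfl⟩
    have := h k hk
    rw [← mem_commSub, commSub, Subgroup.mem_comap, mem_centralizer_singleton_iff] at this
    exact this

include hhom hL in
lemma isPiElt_mem_centMod (x : G) (hx : IsPiElt π x) : x ∈ centMod K L := by
  set n := orderOf x with hn
  have hn0 : n ≠ 0 := (orderOf_pos x).ne'
  set T : Subgroup G := centMod K L ⊓ Subgroup.zpowers x with hT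
  have hdvd : n ∣ Nat.card T := by
    apply dvd_card_of_forall_prime T n hn0
    intro p hp
    haveI : Fact p.Prime := ⟨hp⟩
    set v := n.factorization p with hv
    have hpv : p ^ v ∣ n := Nat.ordProj_dvd n p
    set xp : G := x ^ (n / p ^ v) with hxp
    have hord : orderOf xp = p ^ v := by
      rw [hxp, orderOf_pow_of_dvd]
      · rw [← hn]
        exact Nat.div_div_self hpv hn0
      · intro h0
        have := Nat.div_mul_cancel hpv
        rw [h0, zero_mul] at this
        exact hn0 this.symm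
      · rw [← hn]
        exact Nat.div_dvd_of_dvd hpv
    refine ⟨Subgroup.zpowers xp, ?_, ?_⟩
    · rw [Subgroup.zpowers_le]
      refine ⟨?_, Subgroup.pow_mem _ (Subgroup.mem_zpowers x) _⟩
      rcases Nat.eq_zero_or_pos v with h0 | h0
      · rw [h0, pow_zero] at hord
        rw [orderOf_eq_one_iff.mp hord]
        exact Subgroup.one_mem _
      · have hpn : p ∣ n := (dvd_pow_self p h0.ne').trans hpv
        have hpπ : p ∈ π := hx p hp hpn
        refine (mem_centMod K L xp).mpr ?_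
        exact comm_mem_of_prime_pow π hhom K L hL p hpπ xp v hord
    · rw [Nat.card_zpowers, hord]
  have hTz : T = Subgroup.zpowers x := by
    apply Subgroup.eq_of_le_of_card_ge inf_le_right
    rw [Nat.card_zpowers]
    exact Nat.le_of_dvd Nat.card_pos hdvd
  have : x ∈ T := by rw [hTz]; exact Subgroup.mem_zpowers x
  exact this.1

include hhom hL in
theorem pi_closed_core (M : Subgroup G)
    (hM1 : ∀ x, IsPiElt π x → x ∈ M)
    (hM2 : ∀ x ∈ M, ∀ q : ℕ, q.Prime → q ∉ π → (∃ a, orderOf x = q ^ a) → x ∈ K) :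
    ∃ H : Subgroup G, ∀ x, x ∈ H ↔ IsPiElt π x := by
  have hLK : L ≤ K := fun x hx => ((hL x).mp hx).1
  have hLπ : ∀ z ∈ L, IsPiElt π z := fun z hz => ((hL z).mp hz).2
  set H : Subgroup G := Subgroup.closure {x | IsPiElt π x} with hHdef
  have hHC : H ≤ centMod K L := by
    rw [hHdef, Subgroup.closure_le]
    intro x hx
    exact isPiElt_mem_centMod π hhom K L hL x hx
  have hHM : H ≤ M := by
    rw [hHdef, Subgroup.closure_le]
    intro x hx
    exact hM1 x hx
  have key : ∀ q : ℕ, q.Prime → q ∉ π → ¬ q ∣ Nat.card H := by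
    intro q hqp hqπ hqH
    haveI : Fact q.Prime := ⟨hqp⟩
    let Q : Sylow q H := default
    have hQord : ∀ y ∈ (Q : Subgroup H), ∃ b, orderOf y = q ^ b := by
      intro y hy
      obtain ⟨b, hb⟩ := (IsPGroup.iff_orderOf.mp Q.2) ⟨y, hy⟩
      rw [Subgroup.orderOf_mk] at hb
      exact ⟨b, hb⟩
    have hQK : ∀ y ∈ (Q : Subgroup H), (y : G) ∈ K := by
      intro y hy
      obtain ⟨b, hb⟩ := hQord y hy
      apply hM2 (y : G) (hHM y.2) q hqp hqπ ⟨b, ?_⟩
      rw [← hb]
      exact Subgroup.orderOf_coe y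
    have hNC : Subgroup.normalizer ((Q : Subgroup H) : Set H) ≤ Subgroup.centralizer ((Q : Subgroup H) : Set H) := by
      intro n hn
      rw [Subgroup.mem_centralizer_iff]
      intro y hy
      have hc : ⁅n, y⁆ ∈ (Q : Subgroup H) := by
        rw [commutatorElement_def]
        exact (Q : Subgroup H).mul_mem ((Subgroup.mem_normalizer_iff.mp hn y).mp hy) ((Q : Subgroup H).inv_mem hy)
      have hcL : ((⁅n, y⁆ : H) : G) ∈ L := by
        have h1 := (mem_centMod K L (n : G)).mp (hHC n.2) (y : G) (hQK y hy)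
        have h2 : ((⁅n, y⁆ : H) : G) = ⁅(n : G), (y : G)⁆ := by
          simp [commutatorElement_def]
        rw [h2]; exact h1
      obtain ⟨b, hb⟩ := hQord _ hc
      have h1 : ((⁅n, y⁆ : H) : G) = 1 := by
        apply eq_one_of_isPiElt_of_prime_pow hqp hqπ (hLπ _ hcL) (a := b)
        rw [Subgroup.orderOf_coe, hb]
      have h2 : ⁅n, y⁆ = 1 := by
        apply Subtype.ext
        rw [h1]; rfl
      rw [commutatorElement_eq_one_iff_mul_comm] at h2
      exact h2.symm
    have hcompl := MonoidHom.ker_transferSylow_isComplement' Q hNC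
    have hker : (MonoidHom.transferSylow Q hNC).ker = ⊤ := by
      apply top_le_iff.mp
      have h1 : (⊤ : Subgroup H) = Subgroup.closure (Subtype.val ⁻¹' {x : G | IsPiElt π x}) :=
        (Subgroup.closure_closure_coe_preimage).symm
      rw [h1, Subgroup.closure_le]
      intro x hx
      have hx' : IsPiElt π (x : G) := hx
      have hx'' : IsPiElt π x := isPiElt_of_orderOf_dvd (by rw [Subgroup.orderOf_coe]) hx'
      have h2 : IsPiElt π ((MonoidHom.transferSylow Q hNC) x) :=
        isPiElt_of_orderOf_dvd (orderOf_map_dvd _ x) hx''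
      obtain ⟨b, hb⟩ := (IsPGroup.iff_orderOf.mp Q.2) ((MonoidHom.transferSylow Q hNC) x)
      have := eq_one_of_isPiElt_of_prime_pow hqp hqπ h2 (a := b) (by rw [hb])
      exact this
    rw [hker] at hcompl
    have hcard := hcompl.card_mul_card
    rw [Subgroup.card_top] at hcard
    have hQ1 : Nat.card (Q : Subgroup H) = 1 := by
      have hpos : 0 < Nat.card H := Nat.card_pos
      nlinarith [hcard]
    have hQc := Q.card_eq_multiplicity
    rw [hQ1] at hQc
    have hv : (Nat.card H).factorization q = 0 := by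
      by_contra h0
      have : 1 < q ^ (Nat.card H).factorization q := Nat.one_lt_pow h0 hqp.one_lt
      omega
    have := (hqp.pow_dvd_iff_le_factorization (k := 1) Nat.card_pos.ne').mp (by rwa [pow_one])
    omega
  refine ⟨H, fun x => ⟨fun hx => ?_, fun hx => Subgroup.subset_closure hx⟩⟩
  intro p hp hpx
  by_contra hpπ
  exact key p hp hpπ (hpx.trans (Subgroup.orderOf_dvd_natCard H hx))

end core

theorem piClosed_extension {G : Type*} [Group G] [Finite G] (π : Set ℕ) (hh : PiHom π G)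
    (K : Subgroup G) [K.Normal] (hK : PiClosed π K) (hQ : PiClosed π (G ⧸ K)) : PiClosed π G := by
  obtain ⟨LK, hLK⟩ := hK
  obtain ⟨Lb, hLb⟩ := hQ
  set L : Subgroup G := LK.map K.subtype with hLdef
  have hL : ∀ x, x ∈ L ↔ x ∈ K ∧ IsPiElt π x := by
    intro x
    constructor
    · rintro ⟨y, hy, rfl⟩
      refine ⟨y.2, ?_⟩
      have := (hLK y).mp hy
      intro p hp hpx
      apply this p hp
      have e : orderOf (K.subtype y) = orderOf y := Subgroup.orderOf_coe y
      rwa [e] at hpx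
    · rintro ⟨hxK, hx⟩
      refine ⟨⟨x, hxK⟩, (hLK _).mpr ?_, rfl⟩
      intro p hp hpx
      apply hx p hp
      rwa [Subgroup.orderOf_mk] at hpx
  haveI : L.Normal := by
    constructor
    intro x hx g
    rw [hL] at hx ⊢
    refine ⟨Subgroup.Normal.conj_mem inferInstance x hx.1 g, ?_⟩
    have : g * x * g⁻¹ = (MulAut.conj g) x := by simp [MulAut.conj_apply]
    rw [this]
    exact isPiElt_of_orderOf_dvd (by rw [MulEquiv.orderOf_eq]) hx.2
  set M : Subgroup G := Lb.comap (QuotientGroup.mk' K) with hMdef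
  have hM1 : ∀ x, IsPiElt π x → x ∈ M := by
    intro x hx
    rw [hMdef, Subgroup.mem_comap, hLb]
    exact isPiElt_of_orderOf_dvd (orderOf_map_dvd _ x) hx
  have hM2 : ∀ x ∈ M, ∀ q : ℕ, q.Prime → q ∉ π → (∃ a, orderOf x = q ^ a) → x ∈ K := by
    rintro x hx q hq hqπ ⟨a, ha⟩
    rw [hMdef, Subgroup.mem_comap, hLb] at hx
    have h1 : orderOf ((QuotientGroup.mk' K) x) ∣ q ^ a := ha ▸ orderOf_map_dvd _ x
    have := eq_one_of_isPiElt_of_prime_pow hq hqπ hx h1
    exact (QuotientGroup.eq_one_iff x).mp this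
  exact pi_closed_core π hh K L hL M hM1 hM2

lemma PiClosed.of_mulEquiv {π : Set ℕ} {G G' : Type*} [Group G] [Group G'] (e : G ≃* G') (h : PiClosed π G) :
    PiClosed π G' := by
  obtain ⟨K, hK⟩ := h
  refine ⟨K.map e.toMonoidHom, fun x => ?_⟩
  rw [Subgroup.mem_map_equiv, hK]
  constructor
  · intro hx
    exact isPiElt_of_orderOf_dvd (by rw [MulEquiv.orderOf_eq]) hx
  · intro hx
    exact isPiElt_of_orderOf_dvd (by rw [MulEquiv.orderOf_eq]) hx

lemma piClosed_of_card_pi {π : Set ℕ} {G : Type*} [Group G] [Finite G]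
    (h : ∀ p : ℕ, p.Prime → p ∣ Nat.card G → p ∈ π) : PiClosed π G := by
  refine ⟨⊤, fun x => ⟨fun _ p hp hpx => h p hp (hpx.trans (orderOf_dvd_natCard x)), fun _ => Subgroup.mem_top x⟩⟩

lemma piClosed_of_card_pi' {π : Set ℕ} {G : Type*} [Group G] [Finite G]
    (h : ∀ p : ℕ, p.Prime → p ∣ Nat.card G → p ∉ π) : PiClosed π G := by
  refine ⟨⊥, fun x => ⟨fun hx => ?_, fun hx => ?_⟩⟩
  · rw [Subgroup.mem_bot] at hx
    intro p hp hpx
    rw [hx, orderOf_one] at hpx
    exact absurd (Nat.dvd_one.mp hpx) hp.ne_one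
  · rw [Subgroup.mem_bot]
    by_contra hne
    have h1 : orderOf x ≠ 1 := fun h1 => hne (orderOf_eq_one_iff.mp h1)
    obtain ⟨p, hp, hpx⟩ := Nat.exists_prime_and_dvd h1
    exact h p hp (hpx.trans (orderOf_dvd_natCard x)) (hx p hp hpx)

lemma isPiElt_conj {π : Set ℕ} {G : Type*} [Group G] (g x : G) (hx : IsPiElt π x) : IsPiElt π (g * x * g⁻¹) := by
  have : g * x * g⁻¹ = (MulAut.conj g) x := by simp [MulAut.conj_apply]
  rw [this]
  exact isPiElt_of_orderOf_dvd (by rw [MulEquiv.orderOf_eq]) hx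

/-- a `π`-closed group is `π'`-homogeneous -/
lemma piHom_of_piClosed {π : Set ℕ} {G : Type*} [Group G] [Finite G] (h : PiClosed π G) : PiHom π G := by
  obtain ⟨K, hK⟩ := h
  intro H hH hHq x hx hxpi
  rw [Subgroup.mem_centralizer_iff]
  intro y hy
  have hxK : x ∈ K := (hK x).mpr hxpi
  have hc : ⁅x, y⁆ ∈ K := by
    have : ⁅x, y⁆ = x * (y * x⁻¹ * y⁻¹) := by rw [commutatorElement_def]; group
    rw [this]
    refine K.mul_mem hxK ?_
    rw [hK]
    apply isPiElt_conj
    have : orderOf x⁻¹ = orderOf x := orderOf_inv x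
    exact isPiElt_of_orderOf_dvd (by rw [this]) hxpi
  have hcH : ⁅x, y⁆ ∈ H := by
    rw [commutatorElement_def]
    exact H.mul_mem ((Subgroup.mem_normalizer_iff.mp hx y).mp hy) (H.inv_mem hy)
  have h1 : ⁅x, y⁆ = 1 := by
    by_contra hne
    have h1 : orderOf ⁅x, y⁆ ≠ 1 := fun h1 => hne (orderOf_eq_one_iff.mp h1)
    obtain ⟨p, hp, hpx⟩ := Nat.exists_prime_and_dvd h1
    exact hHq p hp (hpx.trans (Subgroup.orderOf_dvd_natCard H hcH)) ((hK _).mp hc p hp hpx)
  rw [commutatorElement_eq_one_iff_mul_comm] at h1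
  exact h1.symm

end Cfsg.Agent.H1
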