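import Mathlib
import Cfsg.Prelude.Def_Local
import Cfsg.Agent.H1.Basic
import Cfsg.Agent.H1.Card
import Cfsg.Agent.H1.Cores
import Cfsg.Agent.H1.CyclicSub
import Cfsg.Agent.H1.PLength
import Cfsg.Agent.H1.PiClosed
import Cfsg.Agent.S0016

set_option autoImplicit false

namespace Cfsg.Agent.H1

open scoped Pointwise commutatorElement

/-- a finite `p`-group (`p` odd) with a proper nontrivial subgroup which is the only subgroup of its order is cyclic -/
theorem isCyclic_of_unique_card {T : Type*} [Group T] [Finite T] {p : ℕ} [Fact p.Prime] (hp : p ≠ 2)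
    (hT : IsPGroup p T) (Q : Subgroup T) (hQ1 : Q ≠ ⊥) (hQ2 : Q ≠ ⊤)
    (huniq : ∀ X : Subgroup T, Nat.card X = Nat.card Q → X = Q) : IsCyclic T := by
  have hpp : p.Prime := Fact.out
  obtain ⟨n, hn⟩ := hT.exists_card_eq
  obtain ⟨j, hj⟩ := (hT.to_subgroup Q).exists_card_eq
  have hj0 : j ≠ 0 := by
    rintro rfl
    rw [pow_zero] at hj
    exact hQ1 (Subgroup.card_eq_one.mp hj)
  have hjn : j < n := by
    have h1 : p ^ j ∣ p ^ n := by rw [← hj, ← hn]; exact Subgroup.card_subgroup_dvd_card Q
    have h2 : j ≤ n := (Nat.pow_dvd_pow_iff_le_right hpp.one_lt).mp h1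
    rcases Nat.lt_or_ge j n with h | h
    · exact h
    · exfalso
      have : j = n := le_antisymm h2 h
      apply hQ2
      rw [← Subgroup.card_eq_iff_eq_top, hj, hn, this]
  -- subgroups of order at most p^j lie in Q
  have hle : ∀ X : Subgroup T, ∀ i : ℕ, Nat.card X = p ^ i → i ≤ j → X ≤ Q := by
    intro X i hX hi
    have hdvd : p ^ j ∣ Nat.card T := by rw [hn]; exact pow_dvd_pow p hjn.le
    obtain ⟨X', hX', hXX'⟩ := Sylow.exists_subgroup_card_pow_prime_le p hdvd X hX hi
    rw [← huniq X' (by rw [hX', hj])]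
    exact hXX'
  -- a subgroup M of order p^(j+1) containing Q is cyclic
  have hdvd1 : p ^ (j + 1) ∣ Nat.card T := by rw [hn]; exact pow_dvd_pow p hjn
  obtain ⟨M, hMcard, hQM⟩ := Sylow.exists_subgroup_card_pow_prime_le p hdvd1 Q hj (Nat.le_succ j)
  obtain ⟨x, hxM, hxQ⟩ : ∃ x ∈ M, x ∉ Q := by
    by_contra hcon
    push_neg at hcon
    have : M ≤ Q := hcon
    have := Subgroup.card_le_of_le this
    rw [hMcard, hj] at this
    have := (Nat.pow_le_pow_iff_right hpp.one_lt).mp this
    omega
  have hMz : M = Subgroup.zpowers x := by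
    by_contra hne
    have hzM : Subgroup.zpowers x ≤ M := by rw [Subgroup.zpowers_le]; exact hxM
    obtain ⟨i, hi⟩ := (hT.to_subgroup (Subgroup.zpowers x)).exists_card_eq
    have hilt : i < j + 1 := by
      by_contra hge
      push_neg at hge
      apply hne
      symm
      apply Subgroup.eq_of_le_of_card_ge hzM
      rw [hMcard, hi]
      exact Nat.pow_le_pow_right hpp.pos hge
    have := hle _ i hi (by omega)
    exact hxQ (this (Subgroup.mem_zpowers x))
  haveI hMcyc : IsCyclic M := by rw [hMz]; infer_instance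
  haveI hQcyc : IsCyclic Q := by
    haveI : IsCyclic (Q.subgroupOf M) := inferInstance
    exact isCyclic_of_surjective (Subgroup.subgroupOfEquivOfLe hQM).toMonoidHom (Subgroup.subgroupOfEquivOfLe hQM).surjective
  -- uniqueness of the subgroup of order p
  have hu : ∀ H K : Subgroup T, Nat.card H = p → Nat.card K = p → H = K := by
    intro H K hH hK
    have hHQ : H ≤ Q := hle H 1 (by rw [hH, pow_one]) (by omega)
    have hKQ : K ≤ Q := hle K 1 (by rw [hK, pow_one]) (by omega)
    have h1 : Nat.card (H.subgroupOf Q) = Nat.card (K.subgroupOf Q) := by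
      rw [Nat.card_congr (Subgroup.subgroupOfEquivOfLe hHQ).toEquiv, Nat.card_congr (Subgroup.subgroupOfEquivOfLe hKQ).toEquiv,
        hH, hK]
    have h2 := eq_of_card_eq_of_isCyclic _ _ h1
    rw [Subgroup.subgroupOf_inj, inf_eq_left.mpr hHQ, inf_eq_left.mpr hKQ] at h2
    exact h2
  rcases Cfsg.Agent.S0016.result p hT hu with h | ⟨h2, -⟩
  · exact h
  · exact absurd h2 hp

section conj

variable {G : Type*} [Group G] [Finite G] {p : ℕ} [Fact p.Prime]
    (hC : ∀ H K : Subgroup G, IsPGroup p H → IsPGroup p K → Nat.card H = Nat.card K →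
      ∃ g : G, K = H.map (MulAut.conj g).toMonoidHom) (P : Sylow p G)

omit [Fact p.Prime] in
include hC in
lemma unique_of_conj (K : Subgroup G) [hK : K.Normal] (X : Subgroup G) (hXP : X ≤ P)
    (hcard : Nat.card X = Nat.card ((P : Subgroup G) ⊓ K : Subgroup G)) : X = (P : Subgroup G) ⊓ K := by
  have h1 : IsPGroup p ((P : Subgroup G) ⊓ K : Subgroup G) := P.2.to_le inf_le_left
  have h2 : IsPGroup p X := P.2.to_le hXP
  obtain ⟨g, hg⟩ := hC _ X h1 h2 hcard.symm
  have hXK : X ≤ K := by
    rw [hg]
    rintro _ ⟨z, hz, rfl⟩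
    exact hK.conj_mem z hz.2 g
  exact Subgroup.eq_of_le_of_card_ge (le_inf hXP hXK) hcard.symm.le

lemma sylow_inf_ne_bot (K : Subgroup G) [hK : K.Normal] (hdvd : p ∣ Nat.card K) : (P : Subgroup G) ⊓ K ≠ ⊥ := by
  intro hbot
  have hpp : p.Prime := Fact.out
  have h1 := card_sup_mul_card_inf (P : Subgroup G) K (by rw [Subgroup.normalizer_eq_top]; exact le_top)
  rw [hbot, Subgroup.card_bot, mul_one] at h1
  have h2 : Nat.card ((P : Subgroup G) ⊔ K : Subgroup G) ∣ Nat.card G := Subgroup.card_subgroup_dvd_card _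
  have h3 : p ^ ((Nat.card G).factorization p + 1) ∣ Nat.card G := by
    refine dvd_trans ?_ h2
    rw [h1, pow_succ, P.card_eq_multiplicity]
    exact Nat.mul_dvd_mul_left _ hdvd
  have := (hpp.pow_dvd_iff_le_factorization Nat.card_pos.ne').mp h3
  omega

include hC in
theorem isCyclic_of_conj (hp : p ≠ 2) (K : Subgroup G) [hK : K.Normal] (h1 : (P : Subgroup G) ⊓ K ≠ ⊥)
    (h2 : ¬ (P : Subgroup G) ≤ K) : IsCyclic (P : Subgroup G) := by
  set Q : Subgroup (P : Subgroup G) := ((P : Subgroup G) ⊓ K).subgroupOf (P : Subgroup G) with hQ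
  have hmapQ : Q.map (P : Subgroup G).subtype = (P : Subgroup G) ⊓ K := Subgroup.map_subgroupOf_eq_of_le inf_le_left
  apply isCyclic_of_unique_card hp P.2 Q
  · intro h
    apply h1
    rw [← hmapQ, h, Subgroup.map_bot]
  · intro h
    apply h2
    intro y hy
    have : (⟨y, hy⟩ : (P : Subgroup G)) ∈ Q := by rw [h]; trivial
    exact (Subgroup.mem_subgroupOf.mp this).2
  · intro X hX
    have h3 : X.map (P : Subgroup G).subtype = (P : Subgroup G) ⊓ K := by
      apply unique_of_conj hC P K
      · exact Subgroup.map_subtype_le X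
      · rw [Subgroup.card_map_of_injective (Subgroup.subtype_injective _), hX, ← hmapQ,
          Subgroup.card_map_of_injective (Subgroup.subtype_injective _)]
    apply Subgroup.map_injective (Subgroup.subtype_injective (P : Subgroup G))
    rw [h3, hmapQ]

end conj

/-- for a `p`-solvable group of order divisible by `p`, `O_{p',p}` has order divisible by `p` -/
theorem dvd_card_ups_two {H : Type*} [Group H] [Finite H] {p : ℕ} [Fact p.Prime] (hsol : Cfsg.IsPSolvable p H)
    (hdvd : p ∣ Nat.card H) : p ∣ Nat.card ((Cfsg.upperPSeries p H 2).1) := by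
  have hpp : p.Prime := Fact.out
  obtain ⟨n, S, h0, hlast, hmono, hnorm, hstep⟩ := hsol
  by_contra hnot
  have claim : ∀ i : ℕ, ∀ hi : i < n + 1, (Nat.card (S ⟨i, hi⟩)).Coprime p := by
    intro i
    induction i with
    | zero =>
      intro hi
      have e : S ⟨0, hi⟩ = ⊥ := h0
      rw [e, Subgroup.card_bot]
      exact Nat.coprime_one_left p
    | succ i ih =>
      intro hi
      have hi' : i < n := by omega
      have ihA := ih (by omega)
      set j : Fin n := ⟨i, hi'⟩ with hj
      have eA : S ⟨i, by omega⟩ = S j.castSucc := rfl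
      have eB : S ⟨i + 1, hi⟩ = S j.succ := rfl
      rw [eB]
      rw [eA] at ihA
      have hAB : S j.castSucc ≤ S j.succ := hmono (Fin.castSucc_lt_succ (i := j)).le
      have hcard := card_eq_relIndex_mul_card hAB
      rcases hstep j with ⟨m, hm⟩ | hcop
      · rcases Nat.eq_zero_or_pos m with hm0 | hm0
        · rw [hm0, pow_zero] at hm
          rw [hcard, hm, one_mul]; exact ihA
        · exfalso
          apply hnot
          haveI := hnorm j.castSucc
          haveI := hnorm j.succ
          have hA1 : S j.castSucc ≤ (Cfsg.upperPSeries p H 1).1 := by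
            apply le_ups_succ (N := ⊥) (j := 0) (by rw [ups_zero])
            refine ⟨fun _ x hx => ⟨Nat.card (S j.castSucc), ihA, ?_⟩, fun h => absurd (by decide) h⟩
            rw [Subgroup.mem_bot]
            have : (⟨x, hx⟩ : S j.castSucc) ^ Nat.card (S j.castSucc) = 1 := pow_card_eq_one'
            exact congrArg Subtype.val this
          have hB2 : S j.succ ≤ (Cfsg.upperPSeries p H 2).1 := by
            apply le_ups_succ (N := S j.castSucc) (j := 1) hA1
            refine ⟨fun h => absurd h (by decide), fun _ x hx => ⟨m, ?_⟩⟩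
            have := Subgroup.pow_index_mem ((S j.castSucc).subgroupOf (S j.succ)) (⟨x, hx⟩ : S j.succ)
            rw [Subgroup.mem_subgroupOf] at this
            have e : ((S j.castSucc).subgroupOf (S j.succ)).index = p ^ m := hm
            rw [e] at this
            exact this
          have h1 : p ∣ Nat.card (S j.succ) := by
            rw [hcard, hm]
            exact Dvd.dvd.mul_right (dvd_pow_self p hm0.ne') _
          exact h1.trans (Subgroup.card_dvd_of_le hB2)
      · rw [hcard]
        exact Nat.Coprime.mul_left hcop ihA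
  have hfin := claim n (by omega)
  have e : S ⟨n, by omega⟩ = ⊤ := hlast
  rw [e, Subgroup.card_top] at hfin
  exact hpp.ne_one (Nat.eq_one_of_dvd_coprimes hfin hdvd (dvd_refl p))

lemma centMod_normal {G : Type*} [Group G] (K L : Subgroup G) [K.Normal] [L.Normal] : (centMod K L).Normal := by
  unfold centMod
  haveI : (K.map (QuotientGroup.mk' L)).Normal := Subgroup.Normal.map inferInstance _ (QuotientGroup.mk'_surjective L)
  infer_instance

end Cfsg.Agent.H1
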