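import Mathlib
import Cfsg.Agent.H1.BG11cB
import Cfsg.Agent.Lib.Helper5.BG11b

/-!
# B&G Section 11: (b) and (c) for exceptional triples, unconditionally

`hypB hG : HypB G` (helper5's `sylow_abelian'`) and `hypC hG : HypC G` (= B&G 11.7 / 12.5(c)).
-/

set_option autoImplicit false

namespace Cfsg.Agent.H1.BG11c

open Cfsg.Agent.Lib.Helper4.BG11E (HypB HypC)

universe u

variable {G : Type u} [Group G] [Finite G]

/-- **(b)** in helper4's shape -/
theorem hypB (hG : Cfsg.IsMinSimpleOddOrder G) : HypB G :=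
  fun _ _ _ _ _ h P hAP => Cfsg.Agent.Lib.Helper5.BG11b.sylow_abelian' hG h P hAP

/-- **(c)** in helper4's shape: `M ≤ N_G(M_σ A)` for every exceptional triple -/
theorem hypC (hG : Cfsg.IsMinSimpleOddOrder G) : HypC G := hypC_of_hypB hG (hypB hG)

end Cfsg.Agent.H1.BG11c
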