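import Mathlib
import Cfsg.Agent.H1.BGShult
import Cfsg.Agent.H1.NormMap
import Cfsg.Agent.S0022

/-!
# A Hall–Higman/Shult-type lemma "with fixed points" (for B&G 12.18 = S1428)

`hh_fix` : `y` of prime order `r` normalizes `T` and `Q` (`T` normalizes `Q`, orders pairwise coprime,
everything solvable of odd order).  If `T` centralizes `C_Q(y)`, then `[T, y]` centralizes `Q`.
(`Q` is an arbitrary subgroup, not necessarily abelian.)  The case `C_Q(y) = 1` is `BGShult.shult`.
-/

set_option autoImplicit false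
set_option linter.unusedVariables false
set_option linter.unusedSectionVars false
set_option linter.style.haveILetI false

open scoped commutatorElement

namespace Cfsg.Agent.H1.BG1218

universe u

section basic
variable {G : Type*} [Group G]

/-- an element normalizing `H` and `K` normalizes `[H, K]` -/
theorem mem_normalizer_commutator {H K : Subgroup G} {g : G}
    (hH : g ∈ Subgroup.normalizer (H : Set G)) (hK : g ∈ Subgroup.normalizer (K : Set G)) :
    g ∈ Subgroup.normalizer ((⁅H, K⁆ : Subgroup G) : Set G) := by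
  rw [Subgroup.mem_normalizer_iff_map_conj_eq] at hH hK ⊢
  rw [Subgroup.map_commutator, hH, hK]

theorem le_normalizer_commutator {H K N : Subgroup G}
    (hH : N ≤ Subgroup.normalizer (H : Set G)) (hK : N ≤ Subgroup.normalizer (K : Set G)) :
    N ≤ Subgroup.normalizer ((⁅H, K⁆ : Subgroup G) : Set G) :=
  fun g hg => mem_normalizer_commutator (hH hg) (hK hg)

/-- the normalizer of `W` normalizes `C_G(W)` -/
theorem mem_normalizer_centralizer {W : Subgroup G} {g : G}
    (hg : g ∈ Subgroup.normalizer (W : Set G)) :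
    g ∈ Subgroup.normalizer ((Subgroup.centralizer (W : Set G) : Subgroup G) : Set G) := by
  rw [Subgroup.mem_normalizer_iff]
  intro h
  have key : ∀ m ∈ Subgroup.normalizer (W : Set G), ∀ c ∈ Subgroup.centralizer (W : Set G),
      m * c * m⁻¹ ∈ Subgroup.centralizer (W : Set G) := by
    intro m hm c hc
    refine Subgroup.mem_centralizer_iff.mpr ?_
    intro w hw
    have hw' : m⁻¹ * w * m⁻¹⁻¹ ∈ W :=
      (Subgroup.mem_normalizer_iff.mp (Subgroup.inv_mem _ hm) w).mp hw
    have := Subgroup.mem_centralizer_iff.mp hc _ hw'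
    calc w * (m * c * m⁻¹) = m * ((m⁻¹ * w * m⁻¹⁻¹) * c) * m⁻¹ := by group
      _ = m * (c * (m⁻¹ * w * m⁻¹⁻¹)) * m⁻¹ := by rw [this]
      _ = (m * c * m⁻¹) * w := by group
  constructor
  · intro hh; exact key g hg h hh
  · intro hh
    have := key g⁻¹ (Subgroup.inv_mem _ hg) _ hh
    have e : g⁻¹ * (g * h * g⁻¹) * g⁻¹⁻¹ = h := by group
    rwa [e] at this

/-- `[H, K] ≤ H` when `K` normalizes `H` -/
theorem commutator_le_left_of_le_normalizer {H K : Subgroup G}
    (hK : K ≤ Subgroup.normalizer (H : Set G)) : ⁅H, K⁆ ≤ H := by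
  rw [Subgroup.commutator_le]
  intro g hg k hk
  rw [commutatorElement_def]
  have h1 : k * g⁻¹ * k⁻¹ ∈ H := (Subgroup.mem_normalizer_iff.mp (hK hk) g⁻¹).mp (H.inv_mem hg)
  have e : g * k * g⁻¹ * k⁻¹ = g * (k * g⁻¹ * k⁻¹) := by group
  rw [e]
  exact H.mul_mem hg h1

/-- if `y` normalizes `C` and `[g, y] ∈ C` for all `g ∈ T` then `[T, ⟨y⟩] ≤ C` -/
theorem commutator_zpowers_le [Finite G] {T C : Subgroup G} {y : G}
    (hyC : y ∈ Subgroup.normalizer (C : Set G)) (h : ∀ g ∈ T, ⁅g, y⁆ ∈ C) :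
    ⁅T, Subgroup.zpowers y⁆ ≤ C := by
  rw [Subgroup.commutator_le]
  intro g hg z hz
  have hz' : z ∈ Submonoid.powers y := mem_powers_iff_mem_zpowers.mpr hz
  obtain ⟨n, hn0⟩ := hz'
  have hn1 : y ^ n = z := hn0
  rw [← hn1]
  clear hn1 hn0 hz
  induction n with
  | zero =>
    rw [pow_zero, commutatorElement_one_right]
    exact C.one_mem
  | succ n ih =>
    have hn := ih
    have e : ⁅g, y ^ (n + 1)⁆ = ⁅g, y ^ n⁆ * (y ^ n * ⁅g, y⁆ * (y ^ n)⁻¹) := by
      rw [pow_succ]
      simp only [commutatorElement_def]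
      group
    rw [e]
    refine C.mul_mem hn ?_
    have hyn : y ^ n ∈ Subgroup.normalizer (C : Set G) := Subgroup.pow_mem _ hyC n
    exact (Subgroup.mem_normalizer_iff.mp hyn _).mp (h g hg)

end basic

section abelian
variable {G : Type u} [Group G] [Finite G]

/-- **Lemma A**, abelian case. -/
theorem hh_fix_abelian (Q T : Subgroup G) (y : G) (r : ℕ) (hr : r.Prime)
    (hyr : y ^ r = 1) (hQab : ∀ a ∈ Q, ∀ b ∈ Q, a * b = b * a)
    (hTQ : T ≤ Subgroup.normalizer (Q : Set G))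
    (hyQ : y ∈ Subgroup.normalizer (Q : Set G)) (hyT : y ∈ Subgroup.normalizer (T : Set G))
    (hsolv : Group.IsSolvable ↥(Q ⊔ T ⊔ Subgroup.zpowers y))
    (hodd : Odd (Nat.card ↥(Q ⊔ T ⊔ Subgroup.zpowers y)))
    (hrQ : r.Coprime (Nat.card Q)) (hrT : r.Coprime (Nat.card T))
    (hcop : (Nat.card T).Coprime (Nat.card Q))
    (hfix : ∀ m ∈ Q, y * m = m * y → ∀ t ∈ T, t * m = m * t) :
    ⁅T, Subgroup.zpowers y⁆ ≤ Subgroup.centralizer (Q : Set G) := by
  classical
  set Y := Subgroup.zpowers y with hY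
  set T1 := ⁅T, Y⁆ with hT1
  have hYT : Y ≤ Subgroup.normalizer (T : Set G) := by
    rw [hY, Subgroup.zpowers_le]; exact hyT
  have hYQ : Y ≤ Subgroup.normalizer (Q : Set G) := by
    rw [hY, Subgroup.zpowers_le]; exact hyQ
  have hT1T : T1 ≤ T := commutator_le_left_of_le_normalizer hYT
  have hTT1 : T ≤ Subgroup.normalizer (T1 : Set G) := Subgroup.normalizer_commutator_ge_left T Y
  have hYT1 : Y ≤ Subgroup.normalizer (T1 : Set G) := Subgroup.normalizer_commutator_ge_right T Y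
  have hT1Q : T1 ≤ Subgroup.normalizer (Q : Set G) := hT1T.trans hTQ
  set Q1 := ⁅Q, T1⁆ with hQ1
  have hQ1Q : Q1 ≤ Q := commutator_le_left_of_le_normalizer hT1Q
  have hTQ1 : T ≤ Subgroup.normalizer (Q1 : Set G) := le_normalizer_commutator hTQ hTT1
  have hyQ1 : y ∈ Subgroup.normalizer (Q1 : Set G) :=
    mem_normalizer_commutator hyQ (hYT1 (Subgroup.mem_zpowers y))
  have hQc : IsMulCommutative Q := ⟨⟨fun a b => Subtype.ext (hQab a.1 a.2 b.1 b.2)⟩⟩
  have hcopT1 : (Nat.card T1).Coprime (Nat.card Q) :=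
    Nat.Coprime.coprime_dvd_left (Subgroup.card_dvd_of_le hT1T) hcop
  have hfit : Q1 ⊓ Subgroup.centralizer (T1 : Set G) = ⊥ :=
    Cfsg.Agent.H1.commutator_inf_centralizer_eq_bot_of_abelian Q T1 hQc hT1Q hcopT1
  -- `y` acts fixed-point-freely on `Q1`
  have hfpf : ∀ m ∈ Q1, y * m = m * y → m = 1 := by
    intro m hm hc
    have h1 := hfix m (hQ1Q hm) hc
    have hmem : m ∈ Q1 ⊓ Subgroup.centralizer (T1 : Set G) := by
      refine ⟨hm, ?_⟩
      refine Subgroup.mem_centralizer_iff.mpr ?_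
      intro t ht
      exact h1 t (hT1T ht)
    rw [hfit, Subgroup.mem_bot] at hmem
    exact hmem
  have hle : Q1 ⊔ T ⊔ Subgroup.zpowers y ≤ Q ⊔ T ⊔ Subgroup.zpowers y :=
    sup_le_sup_right (sup_le_sup_right hQ1Q T) _
  have hsolv1 : Group.IsSolvable ↥(Q1 ⊔ T ⊔ Subgroup.zpowers y) :=
    Group.isSolvable_of_isSolvable_injective (Subgroup.inclusion_injective hle)
  have hodd1 : Odd (Nat.card ↥(Q1 ⊔ T ⊔ Subgroup.zpowers y)) :=
    Odd.of_dvd_nat hodd (Subgroup.card_dvd_of_le hle)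
  have hrQ1 : r.Coprime (Nat.card Q1) :=
    Nat.Coprime.coprime_dvd_right (Subgroup.card_dvd_of_le hQ1Q) hrQ
  have hcop1 : (Nat.card T).Coprime (Nat.card Q1) :=
    Nat.Coprime.coprime_dvd_right (Subgroup.card_dvd_of_le hQ1Q) hcop
  have hsh := Cfsg.Agent.H1.BGShult.shult Q1 T y r hr hyr hTQ1 hyQ1 hyT hsolv1 hodd1 hrQ1 hrT
    hcop1 hfpf
  have hyC : y ∈ Subgroup.normalizer ((Subgroup.centralizer (Q1 : Set G) : Subgroup G) : Set G) :=
    mem_normalizer_centralizer hyQ1
  have hT1C : T1 ≤ Subgroup.centralizer (Q1 : Set G) := commutator_zpowers_le hyC hsh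
  have hQ1C : Q1 ≤ Subgroup.centralizer (T1 : Set G) := Subgroup.le_centralizer_iff.mp hT1C
  have hQ1bot : Q1 = ⊥ := by
    rw [eq_bot_iff, ← hfit]
    exact le_inf le_rfl hQ1C
  have h2 : Q ≤ Subgroup.centralizer (T1 : Set G) :=
    Subgroup.commutator_eq_bot_iff_le_centralizer.mp hQ1bot
  exact Subgroup.le_centralizer_iff.mp h2

end abelian

/-- type-level induction for Lemma A -/
theorem hh_fix_aux (n : ℕ) : ∀ (Y : Type u) [Group Y] [Finite Y] [Group.IsSolvable Y]
    (hodd : Odd (Nat.card Y))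
    (K Q T : Subgroup Y) [K.Normal] [Q.Normal] (hQK : Q ≤ K) (hTK : T ≤ K) (x : Y) (r : ℕ)
    (hr : r.Prime) (hxr : x ^ r = 1) (hcop : r.Coprime (Nat.card K))
    (hxT : x ∈ Subgroup.normalizer (T : Set Y)) (hTQ : (Nat.card T).Coprime (Nat.card Q))
    (hfix : ∀ q ∈ Q, x * q = q * x → ∀ t ∈ T, t * q = q * t) (hn : Nat.card Q ≤ n),
    ∀ g ∈ T, ⁅g, x⁆ ∈ Subgroup.centralizer (Q : Set Y) := by
  induction n with
  | zero =>
    intro Y _ _ _ hodd K Q T _ _ hQK hTK x r hr hxr hcop hxT hTQ hfix hn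
    have : 0 < Nat.card Q := Nat.card_pos
    omega
  | succ n ih =>
    intro Y _ _ _ hodd K Q T _ hQn hQK hTK x r hr hxr hcop hxT hTQ hfix hn g hg
    classical
    by_cases hQ1 : Q = ⊥
    · rw [hQ1, Subgroup.mem_centralizer_iff]
      intro h hh
      have : h = 1 := hh
      rw [this, one_mul, mul_one]
    -- minimal normal subgroup inside Q
    let S : Set (Subgroup Y) := {B | B.Normal ∧ B ≠ ⊥ ∧ B ≤ Q}
    have hSne : S.Nonempty := ⟨Q, hQn, hQ1, le_rfl⟩
    obtain ⟨M, hMS, hMmin'⟩ :=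
      WellFounded.has_min (measure (fun B : Subgroup Y => Nat.card B)).wf S hSne
    obtain ⟨hMn, hM1, hMQ⟩ := hMS
    haveI := hMn
    have hMmin : ∀ B : Subgroup Y, B.Normal → B ≤ M → B = ⊥ ∨ B = M := by
      intro B hBn hBM
      by_cases hB1 : B = ⊥
      · exact Or.inl hB1
      right
      have hBS : B ∈ S := ⟨hBn, hB1, hBM.trans hMQ⟩
      have h1 := hMmin' B hBS
      have h2 : ¬ Nat.card B < Nat.card M := h1
      exact Subgroup.eq_of_le_of_card_ge hBM (not_lt.mp h2)
    obtain ⟨ℓ, hℓ, hℓM, hMcomm, hMexp⟩ := Cfsg.Agent.H2.BG37.min_normal_elementary M hM1 hMmin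
    have hTx : ∀ t ∈ T, x * t * x⁻¹ ∈ T := fun t ht =>
      (Subgroup.mem_normalizer_iff.mp hxT t).mp ht
    -- the element c
    set c := ⁅g, x⁆ with hc
    have hcT : c ∈ T := by
      rw [hc, commutatorElement_def]
      have h1 : x * g⁻¹ * x⁻¹ ∈ T := hTx _ (T.inv_mem hg)
      have e : g * x * g⁻¹ * x⁻¹ = g * (x * g⁻¹ * x⁻¹) := by group
      rw [e]
      exact T.mul_mem hg h1
    have hMnorm : ∀ z : Y, z ∈ Subgroup.normalizer (M : Set Y) := by
      intro z
      rw [Subgroup.normalizer_eq_top_iff.mpr hMn]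
      exact Subgroup.mem_top z
    have hQnorm : ∀ z : Y, z ∈ Subgroup.normalizer (Q : Set Y) := by
      intro z
      rw [Subgroup.normalizer_eq_top_iff.mpr hQn]
      exact Subgroup.mem_top z
    have hcM : c ∈ Subgroup.centralizer (M : Set Y) := by
      have hsolvM : Group.IsSolvable ↥(M ⊔ T ⊔ Subgroup.zpowers x) := inferInstance
      have hoddM : Odd (Nat.card ↥(M ⊔ T ⊔ Subgroup.zpowers x)) :=
        Odd.of_dvd_nat hodd (Subgroup.card_subgroup_dvd_card _)
      have hrM : r.Coprime (Nat.card M) :=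
        Nat.Coprime.coprime_dvd_right (Subgroup.card_dvd_of_le (hMQ.trans hQK)) hcop
      have hrT : r.Coprime (Nat.card T) :=
        Nat.Coprime.coprime_dvd_right (Subgroup.card_dvd_of_le hTK) hcop
      have hTM : (Nat.card T).Coprime (Nat.card M) :=
        Nat.Coprime.coprime_dvd_right (Subgroup.card_dvd_of_le hMQ) hTQ
      have h1 := hh_fix_abelian M T x r hr hxr hMcomm (fun z _ => hMnorm z) (hMnorm x) hxT
        hsolvM hoddM hrM hrT hTM (fun m hm hcm t ht => hfix m (hMQ hm) hcm t ht)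
      exact h1 (Subgroup.commutator_mem_commutator hg (Subgroup.mem_zpowers x))
    -- quotient
    set π := QuotientGroup.mk' M with hπ
    have hπsurj : Function.Surjective π := QuotientGroup.mk'_surjective M
    have hker : π.ker = M := QuotientGroup.ker_mk' M
    haveI hK'n : (K.map π).Normal := Subgroup.Normal.map inferInstance π hπsurj
    haveI hQ'n : (Q.map π).Normal := Subgroup.Normal.map hQn π hπsurj
    have hoddq : Odd (Nat.card (Y ⧸ M)) :=
      Odd.of_dvd_nat hodd (Subgroup.card_quotient_dvd_card M)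
    have hcardQ : Nat.card M * Nat.card (Q.map π) = Nat.card Q := by
      have h1 := Subgroup.relIndex_mul_relIndex (⊥ : Subgroup Y) M Q bot_le hMQ
      rw [Subgroup.relIndex_bot_left, Subgroup.relIndex_bot_left] at h1
      have h2 := Subgroup.relIndex_ker π (K := Q)
      rw [hker] at h2
      rw [← h2]
      exact h1
    have hMcard : 2 ≤ Nat.card M := by
      have h1 : Nat.card M ≠ 1 := by
        intro h
        exact hM1 (Subgroup.card_eq_one.mp h)
      have h2 : 0 < Nat.card M := Nat.card_pos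
      omega
    have hn' : Nat.card (Q.map π) ≤ n := by
      have h0 : 0 < Nat.card (Q.map π) := Nat.card_pos
      have : 2 * Nat.card (Q.map π) ≤ Nat.card Q := by
        rw [← hcardQ]
        exact Nat.mul_le_mul_right _ hMcard
      omega
    have hcop' : r.Coprime (Nat.card (K.map π)) :=
      Nat.Coprime.coprime_dvd_right (Subgroup.card_map_dvd K π) hcop
    have hTQ' : (Nat.card (T.map π)).Coprime (Nat.card (Q.map π)) :=
      Nat.Coprime.coprime_dvd_left (Subgroup.card_map_dvd T π)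
        (Nat.Coprime.coprime_dvd_right (Subgroup.card_map_dvd Q π) hTQ)
    have hxT' : π x ∈ Subgroup.normalizer ((T.map π : Subgroup (Y ⧸ M)) : Set (Y ⧸ M)) :=
      Subgroup.le_normalizer_map π ⟨x, hxT, rfl⟩
    have hxr' : (π x) ^ r = 1 := by rw [← map_pow, hxr, map_one]
    -- fixed points lift
    have hfix' : ∀ q ∈ Q.map π, π x * q = q * π x → ∀ t ∈ T.map π, t * q = q * t := by
      rintro _ ⟨q, hq, rfl⟩ hcomm _ ⟨t, ht, rfl⟩
      have hA : Subgroup.zpowers x ≤ Subgroup.normalizer (Q : Set Y) := fun z _ => hQnorm z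
      have hcardx : Nat.card (Subgroup.zpowers x) ∣ r := by
        rw [Nat.card_zpowers]
        exact orderOf_dvd_of_pow_eq_one hxr
      have hcopx : (Nat.card (Subgroup.zpowers x)).Coprime (Nat.card Q) :=
        Nat.Coprime.coprime_dvd_left hcardx
          (Nat.Coprime.coprime_dvd_right (Subgroup.card_dvd_of_le hQK) hcop)
      have hfixq : ∀ a ∈ Subgroup.zpowers x, a * q * a⁻¹ * q⁻¹ ∈ M := by
        intro a ha
        obtain ⟨k, rfl⟩ := Subgroup.mem_zpowers_iff.mp ha
        rw [← hker, MonoidHom.mem_ker]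
        have hcm : Commute (π x) (π q) := hcomm
        have hcm2 : Commute (π x ^ k) (π q) := hcm.zpow_left k
        rw [map_mul, map_mul, map_mul, map_inv, map_inv, map_zpow, hcm2.eq]
        group
      obtain ⟨c0, hc0, hc0M⟩ := Cfsg.Agent.S0022.result (Subgroup.zpowers x) Q hA hcopx
        (Or.inl inferInstance) M hMQ (fun z _ => hMnorm z) (fun z _ => hMnorm z) q hq hfixq
      have hπc0 : π c0 = π q := by
        have h1 : π (q⁻¹ * c0) = 1 := by
          rw [← MonoidHom.mem_ker, hker]; exact hc0M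
        rw [map_mul, map_inv] at h1
        have := inv_mul_eq_one.mp h1
        exact this.symm
      have hc0x : x * c0 = c0 * x :=
        (Subgroup.mem_centralizer_iff.mp hc0.2 x (Subgroup.mem_zpowers x))
      have h2 := hfix c0 hc0.1 hc0x t ht
      rw [← hπc0, ← map_mul, ← map_mul, h2]
    have hIH := ih (Y ⧸ M) hoddq (K.map π) (Q.map π) (T.map π) (Subgroup.map_mono hQK)
      (Subgroup.map_mono hTK) (π x) r hr hxr' hcop' hxT' hTQ' hfix' hn' (π g) ⟨g, hg, rfl⟩
    have hπc : π c = ⁅π g, π x⁆ := by rw [hc, map_commutatorElement]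
    rw [← hπc] at hIH
    -- now c centralizes Q
    rw [Subgroup.mem_centralizer_iff]
    intro q hq
    have hq' : q ∈ Q := hq
    have h1 : π q * π c = π c * π q :=
      (Subgroup.mem_centralizer_iff.mp hIH) (π q) ⟨q, hq', rfl⟩
    have hmM : c * q * c⁻¹ * q⁻¹ ∈ M := by
      rw [← hker, MonoidHom.mem_ker]
      rw [map_mul, map_mul, map_mul, map_inv, map_inv, ← h1]
      group
    have hcm : c * (c * q * c⁻¹ * q⁻¹) = (c * q * c⁻¹ * q⁻¹) * c :=
      ((Subgroup.mem_centralizer_iff.mp hcM) _ hmM).symm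
    have hck : c ^ orderOf c = 1 := pow_orderOf_eq_one c
    have hordT : orderOf c ∣ Nat.card T := by
      have := orderOf_dvd_natCard (⟨c, hcT⟩ : T)
      rwa [Subgroup.orderOf_mk] at this
    have hk : (orderOf c).Coprime (Nat.card Q) := Nat.Coprime.coprime_dvd_left hordT hTQ
    exact (Cfsg.Agent.H1.BGShult.comm_of_stab Q c q hq' (orderOf c) hck hk (hMQ hmM) hcm).symm

/-- **Lemma A** in subgroup form: if `T` centralizes `C_Q(y)` then `[T, y]` centralizes `Q`. -/
theorem hh_fix {G : Type u} [Group G] [Finite G] (Q T : Subgroup G) (y : G) (r : ℕ) (hr : r.Prime)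
    (hyr : y ^ r = 1) (hTQ : T ≤ Subgroup.normalizer (Q : Set G))
    (hyQ : y ∈ Subgroup.normalizer (Q : Set G)) (hyT : y ∈ Subgroup.normalizer (T : Set G))
    (hsolv : Group.IsSolvable ↥(Q ⊔ T ⊔ Subgroup.zpowers y))
    (hodd : Odd (Nat.card ↥(Q ⊔ T ⊔ Subgroup.zpowers y)))
    (hrQ : r.Coprime (Nat.card Q)) (hrT : r.Coprime (Nat.card T))
    (hcop : (Nat.card T).Coprime (Nat.card Q))
    (hfix : ∀ m ∈ Q, y * m = m * y → ∀ t ∈ T, t * m = m * t) :
    ∀ g ∈ T, ⁅g, y⁆ ∈ Subgroup.centralizer (Q : Set G) := by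
  classical
  set Y₀ := Q ⊔ T ⊔ Subgroup.zpowers y with hY₀
  have hQY : Q ≤ Y₀ := le_sup_left.trans le_sup_left
  have hTY : T ≤ Y₀ := le_sup_right.trans le_sup_left
  have hyY : y ∈ Y₀ := (le_sup_right : Subgroup.zpowers y ≤ Y₀) (Subgroup.mem_zpowers y)
  have hyconjQ : ∀ m ∈ Q, y * m * y⁻¹ ∈ Q := fun m hm =>
    (Subgroup.mem_normalizer_iff.mp hyQ m).mp hm
  have hyconjT : ∀ m ∈ T, y * m * y⁻¹ ∈ T := fun m hm =>
    (Subgroup.mem_normalizer_iff.mp hyT m).mp hm
  have hY₀Q : Y₀ ≤ Subgroup.normalizer (Q : Set G) := by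
    refine sup_le (sup_le Subgroup.le_normalizer hTQ) ?_
    rw [Subgroup.zpowers_le]
    exact hyQ
  have hyQT : y ∈ Subgroup.normalizer ((Q ⊔ T : Subgroup G) : Set G) := by
    rw [Subgroup.mem_normalizer_iff_map_conj_eq] at hyQ hyT ⊢
    rw [Subgroup.map_sup, hyQ, hyT]
  have hY₀QT : Y₀ ≤ Subgroup.normalizer ((Q ⊔ T : Subgroup G) : Set G) := by
    refine sup_le Subgroup.le_normalizer ?_
    rw [Subgroup.zpowers_le]
    exact hyQT
  haveI : Group.IsSolvable ↥Y₀ := hsolv
  set K : Subgroup ↥Y₀ := (Q ⊔ T).subgroupOf Y₀ with hK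
  set Q' : Subgroup ↥Y₀ := Q.subgroupOf Y₀ with hQ'
  set T' : Subgroup ↥Y₀ := T.subgroupOf Y₀ with hT'
  haveI hKn : K.Normal :=
    (Subgroup.normal_subgroupOf_iff_le_normalizer (le_sup_left : Q ⊔ T ≤ Y₀)).mpr hY₀QT
  haveI hQn : Q'.Normal := (Subgroup.normal_subgroupOf_iff_le_normalizer hQY).mpr hY₀Q
  have hQK : Q' ≤ K := by
    intro z hz
    exact (le_sup_left : Q ≤ Q ⊔ T) hz
  have hTK : T' ≤ K := by
    intro z hz
    exact (le_sup_right : T ≤ Q ⊔ T) hz
  have hcardQ' : Nat.card Q' = Nat.card Q :=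
    Nat.card_congr (Subgroup.subgroupOfEquivOfLe hQY).toEquiv
  have hcardT' : Nat.card T' = Nat.card T :=
    Nat.card_congr (Subgroup.subgroupOfEquivOfLe hTY).toEquiv
  set x : ↥Y₀ := ⟨y, hyY⟩ with hx
  have hxr : x ^ r = 1 := by
    apply Subtype.ext
    simp [hx, hyr]
  -- card K divides card Q * card T
  have hKcard : Nat.card K ∣ Nat.card Q * Nat.card T := by
    set π := QuotientGroup.mk' Q' with hπ
    have hker : π.ker = Q' := QuotientGroup.ker_mk' Q'
    have h1 := Subgroup.relIndex_mul_relIndex (⊥ : Subgroup ↥Y₀) Q' K bot_le hQK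
    rw [Subgroup.relIndex_bot_left, Subgroup.relIndex_bot_left] at h1
    have h2 := Subgroup.relIndex_ker π (K := K)
    rw [hker] at h2
    have h3 : K.map π = T'.map π := by
      apply le_antisymm
      · have hKsup : K = Q' ⊔ T' := by
          rw [hK, hQ', hT']
          exact Subgroup.subgroupOf_sup hQY hTY
        rw [hKsup, Subgroup.map_sup]
        refine sup_le ?_ le_rfl
        rintro _ ⟨q, hq, rfl⟩
        have : π q = 1 := by
          rw [← MonoidHom.mem_ker, hker]; exact hq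
        rw [this]
        exact Subgroup.one_mem _
      · exact Subgroup.map_mono hTK
    rw [h2, h3, hcardQ'] at h1
    rw [← h1]
    exact Nat.mul_dvd_mul_left _ ((Subgroup.card_map_dvd T' π).trans (by rw [hcardT']))
  have hcopK : r.Coprime (Nat.card K) :=
    Nat.Coprime.coprime_dvd_right hKcard (Nat.Coprime.mul_right hrQ hrT)
  have hxT' : x ∈ Subgroup.normalizer (T' : Set ↥Y₀) := by
    rw [Subgroup.mem_normalizer_iff]
    intro t
    have := Subgroup.mem_normalizer_iff.mp hyT t.1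
    exact this
  have hTQ' : (Nat.card T').Coprime (Nat.card Q') := by rw [hcardT', hcardQ']; exact hcop
  have hfix' : ∀ q ∈ Q', x * q = q * x → ∀ t ∈ T', t * q = q * t := by
    intro q hq hc t ht
    have h1 : y * q.1 = q.1 * y := congrArg Subtype.val hc
    exact Subtype.ext (hfix q.1 hq h1 t.1 ht)
  intro g hg
  have hgY : g ∈ Y₀ := hTY hg
  have hmain := hh_fix_aux (Nat.card Q') ↥Y₀ hodd K Q' T' hQK hTK x r hr hxr hcopK hxT' hTQ'
    hfix' le_rfl ⟨g, hgY⟩ hg
  rw [Subgroup.mem_centralizer_iff] at hmain ⊢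
  intro q hq
  have hq' : q ∈ Q := hq
  have := hmain ⟨q, hQY hq'⟩ hq'
  have h2 := congrArg Subtype.val this
  simpa [commutatorElement_def] using h2

/-- **Lemma A** for a subgroup `R` of prime order: if `T` centralizes `C_Q(R)` then `[T, R]`
centralizes `Q`. -/
theorem hh_fix_sub {G : Type u} [Group G] [Finite G] (Q T R : Subgroup G) (r : ℕ) (hr : r.Prime)
    (hR : Nat.card ↥R = r) (hTQ : T ≤ Subgroup.normalizer (Q : Set G))
    (hRQ : R ≤ Subgroup.normalizer (Q : Set G)) (hRT : R ≤ Subgroup.normalizer (T : Set G))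
    (hsolv : Group.IsSolvable ↥(Q ⊔ T ⊔ R))
    (hodd : Odd (Nat.card ↥(Q ⊔ T ⊔ R)))
    (hrQ : r.Coprime (Nat.card Q)) (hrT : r.Coprime (Nat.card T))
    (hcop : (Nat.card T).Coprime (Nat.card Q))
    (hfix : T ≤ Subgroup.centralizer ((Q ⊓ Subgroup.centralizer (R : Set G) : Subgroup G) : Set G)) :
    ⁅T, R⁆ ≤ Subgroup.centralizer (Q : Set G) := by
  classical
  haveI : Fact r.Prime := ⟨hr⟩
  have hne : ∃ y ∈ R, y ≠ 1 := by
    by_contra hcon
    push Not at hcon
    have : R = ⊥ := by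
      rw [eq_bot_iff]
      intro z hz
      exact Subgroup.mem_bot.mpr (hcon z hz)
    rw [this, Subgroup.card_bot] at hR
    exact hr.one_lt.ne hR
  obtain ⟨y, hyR, hy1⟩ := hne
  have hyr : y ^ r = 1 := by
    have h1 := pow_card_eq_one' (G := R) (x := ⟨y, hyR⟩)
    rw [hR] at h1
    have h2 : (((⟨y, hyR⟩ : R) ^ r : R) : G) = ((1 : R) : G) := congrArg Subtype.val h1
    rw [Subgroup.coe_pow] at h2
    exact h2
  have hzp : Subgroup.zpowers y = R := by
    apply Subgroup.eq_of_le_of_card_ge ((Subgroup.zpowers_le).mpr hyR)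
    rw [Nat.card_zpowers, orderOf_eq_prime hyr hy1, hR]
  have hfix' : ∀ m ∈ Q, y * m = m * y → ∀ t ∈ T, t * m = m * t := by
    intro m hm hc t ht
    have hmem : m ∈ Q ⊓ Subgroup.centralizer (R : Set G) := by
      refine ⟨hm, ?_⟩
      refine Subgroup.mem_centralizer_iff.mpr ?_
      intro z hz
      have hz' : z ∈ Subgroup.zpowers y := by rw [hzp]; exact hz
      obtain ⟨k, rfl⟩ := Subgroup.mem_zpowers_iff.mp hz'
      have hcm : Commute y m := hc
      exact (hcm.zpow_left k)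
    exact (Subgroup.mem_centralizer_iff.mp (hfix ht) m hmem).symm
  have hsolv' : Group.IsSolvable ↥(Q ⊔ T ⊔ Subgroup.zpowers y) := by rw [hzp]; exact hsolv
  have hodd' : Odd (Nat.card ↥(Q ⊔ T ⊔ Subgroup.zpowers y)) := by rw [hzp]; exact hodd
  have h := hh_fix Q T y r hr hyr hTQ (hRQ hyR) (hRT hyR) hsolv' hodd' hrQ hrT hcop hfix'
  have hyC : y ∈ Subgroup.normalizer ((Subgroup.centralizer (Q : Set G) : Subgroup G) : Set G) :=
    mem_normalizer_centralizer (hRQ hyR)
  rw [← hzp]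
  exact commutator_zpowers_le hyC h

end Cfsg.Agent.H1.BG1218
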