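import Mathlib
import Cfsg.Prelude.Def_CaseTheorems
import Cfsg.Agent.H1.NormalRankTwo
import Cfsg.Agent.H1.BurnsideBasis
import Cfsg.Agent.S0015

set_option autoImplicit false

namespace Cfsg.Agent.H1

open scoped commutatorElement

section
variable {R : Type*} [Group R] [Finite R] {p : ℕ} [Fact p.Prime]

lemma normal_card_p_le_center (hR : IsPGroup p R) (N : Subgroup R) [N.Normal] (hN : Nat.card N = p) :
    N ≤ Subgroup.center R := by
  have hpp : p.Prime := Fact.out
  have hne : N ≠ ⊥ := by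
    intro h
    rw [h, Subgroup.card_bot] at hN
    exact hpp.one_lt.ne hN
  obtain ⟨z, hzN, hzc, hzo⟩ := exists_central_order_p hR N hne
  have h1 : Subgroup.zpowers z = N := by
    apply Subgroup.eq_of_le_of_card_ge (Subgroup.zpowers_le.2 hzN)
    rw [Nat.card_zpowers, hzo, hN]
  rw [← h1, Subgroup.zpowers_le]
  exact hzc

theorem card_le_cube_of_rank_two_exp_p (hR : IsPGroup p R)
    (hrank : ∀ A : Subgroup R, IsMulCommutative A → (∀ a ∈ A, a ^ p = 1) → Nat.card A ≤ p ^ 2)
    (hexp : ∀ x : R, x ^ p = 1) : Nat.card R ≤ p ^ 3 := by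
  have hpp : p.Prime := Fact.out
  have hnil : Group.IsNilpotent R := hR.isNilpotent
  obtain ⟨A, -, hAmax⟩ := Finite.exists_le_maximal
    (p := fun M : Subgroup R => M.Normal ∧ IsMulCommutative M) (a := ⊥)
    ⟨inferInstance, inferInstance⟩
  obtain ⟨⟨hAn, hAc⟩, hAm⟩ := hAmax
  have hmax : ∀ M : Subgroup R, M.Normal → IsMulCommutative M → A ≤ M → M = A :=
    fun M h1 h2 h4 => le_antisymm (hAm ⟨h1, h2⟩ h4) h4
  have hCA : Subgroup.centralizer (A : Set R) = A := Cfsg.Agent.S0015.result A hmax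
  have hAcard : Nat.card A ≤ p ^ 2 := hrank A hAc (fun a _ => hexp a)
  have hp23 : p ^ 2 ≤ p ^ 3 := Nat.pow_le_pow_right hpp.pos (by norm_num)
  by_cases hAtop : A = ⊤
  · have : Nat.card R = Nat.card A := by rw [hAtop, Subgroup.card_top]
    omega
  have hAbot : A ≠ ⊥ := by
    intro h
    apply hAtop
    rw [← hCA, h]
    simp
  obtain ⟨z, hzA, hzc, hzo⟩ := exists_central_order_p hR A hAbot
  obtain ⟨Z, hZ⟩ : ∃ Z, Z = Subgroup.zpowers z := ⟨_, rfl⟩
  have hZc : Z ≤ Subgroup.center R := by rw [hZ, Subgroup.zpowers_le]; exact hzc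
  have hZn : Z.Normal := by
    constructor
    intro n hn g
    have := Subgroup.mem_center_iff.1 (hZc hn) g
    rw [this, mul_inv_cancel_right]; exact hn
  have hZcard : Nat.card Z = p := by rw [hZ, Nat.card_zpowers, hzo]
  have hZA : Z ≤ A := by rw [hZ, Subgroup.zpowers_le]; exact hzA
  have hZneA : Z ≠ A := by
    intro h
    apply hAtop
    rw [← hCA, ← h, eq_top_iff]
    intro g _
    rw [Subgroup.mem_centralizer_iff]
    intro y hy
    exact (Subgroup.mem_center_iff.1 (hZc hy) g).symm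
  obtain ⟨a₀, ha₀A, ha₀Z⟩ : ∃ a₀ ∈ A, a₀ ∉ Z := by
    by_contra hcon
    push Not at hcon
    exact hZneA (le_antisymm hZA hcon)
  -- A = Z ⊔ ⟨a₀⟩
  have hidx := index_eq_mul_index_sup_zpowers (p := p) Z a₀ ha₀Z (by rw [hexp a₀]; exact Z.one_mem)
  have hcardsup : Nat.card (Z ⊔ Subgroup.zpowers a₀ : Subgroup R) = p ^ 2 := by
    have h1 := Subgroup.card_mul_index Z
    have h2 := Subgroup.card_mul_index (Z ⊔ Subgroup.zpowers a₀)
    rw [hidx, hZcard] at h1
    have hpos : 0 < (Z ⊔ Subgroup.zpowers a₀).index := Nat.pos_of_ne_zero Subgroup.index_ne_zero_of_finite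
    apply Nat.eq_of_mul_eq_mul_right hpos
    rw [h2, ← h1]; ring
  have hAeq : Z ⊔ Subgroup.zpowers a₀ = A := by
    apply Subgroup.eq_of_le_of_card_ge (sup_le hZA (Subgroup.zpowers_le.2 ha₀A))
    rw [hcardsup]; exact hAcard
  -- commutators with a₀ lie in Z
  have hcomm : ∀ g : R, ⁅g, a₀⁆ ∈ Z := by
    intro g
    have hAbar : (A.map (QuotientGroup.mk' Z)) = Subgroup.zpowers (QuotientGroup.mk' Z a₀) := by
      rw [← hAeq, Subgroup.map_sup, MonoidHom.map_zpowers]
      have : Z.map (QuotientGroup.mk' Z) = ⊥ := by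
        rw [← le_bot_iff, Subgroup.map_le_iff_le_comap]
        intro n hn
        rw [Subgroup.mem_comap, Subgroup.mem_bot]
        exact (QuotientGroup.eq_one_iff n).2 hn
      rw [this, bot_sup_eq]
    have hord : orderOf (QuotientGroup.mk' Z a₀) = p := by
      apply orderOf_eq_prime
      · rw [← map_pow, hexp a₀, map_one]
      · intro h; exact ha₀Z ((QuotientGroup.eq_one_iff _).1 h)
    have hAbarn : (A.map (QuotientGroup.mk' Z)).Normal := hAn.map _ (QuotientGroup.mk'_surjective Z)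
    have hAbarc : Nat.card (A.map (QuotientGroup.mk' Z)) = p := by
      rw [hAbar, Nat.card_zpowers, hord]
    have hcent := normal_card_p_le_center (hR.to_quotient Z) (A.map (QuotientGroup.mk' Z)) hAbarc
    have h1 : QuotientGroup.mk' Z a₀ ∈ Subgroup.center (R ⧸ Z) :=
      hcent (Subgroup.mem_map_of_mem _ ha₀A)
    have h2 := Subgroup.mem_center_iff.1 h1 (QuotientGroup.mk' Z g)
    rw [← QuotientGroup.eq_one_iff, commutatorElement_def]
    show QuotientGroup.mk' Z (g * a₀ * g⁻¹ * a₀⁻¹) = 1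
    rw [map_mul, map_mul, map_mul, map_inv, map_inv, h2]
    group
  -- the homomorphism
  have hcen : ∀ g : R, ∀ h : R, h * ⁅g, a₀⁆ = ⁅g, a₀⁆ * h := fun g h =>
    Subgroup.mem_center_iff.1 (hZc (hcomm g)) h
  let f : R →* R := MonoidHom.mk' (fun g => ⁅g, a₀⁆) (by
    intro g h
    show ⁅g * h, a₀⁆ = ⁅g, a₀⁆ * ⁅h, a₀⁆
    have e : ⁅g * h, a₀⁆ = g * ⁅h, a₀⁆ * g⁻¹ * ⁅g, a₀⁆ := by
      simp only [commutatorElement_def]; group
    rw [e, hcen h g, mul_assoc, mul_assoc, mul_inv_cancel_left, ← hcen g]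
    )
  have hker : f.ker ≤ A := by
    intro g hg
    rw [MonoidHom.mem_ker] at hg
    have hg' : ⁅g, a₀⁆ = 1 := hg
    rw [commutatorElement_eq_one_iff_commute] at hg'
    rw [← hCA, Subgroup.mem_centralizer_iff]
    intro y hy
    have hy' : y ∈ Z ⊔ Subgroup.zpowers a₀ := by rw [hAeq]; exact hy
    have hle : Z ⊔ Subgroup.zpowers a₀ ≤ Subgroup.centralizer {g} := by
      apply sup_le
      · intro w hw
        rw [Subgroup.mem_centralizer_singleton_iff]
        exact (Subgroup.mem_center_iff.1 (hZc hw) g).symm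
      · rw [Subgroup.zpowers_le, Subgroup.mem_centralizer_singleton_iff]
        exact hg'.eq.symm
    have := hle hy'
    rw [Subgroup.mem_centralizer_singleton_iff] at this
    exact this
  have hrange : f.range ≤ Z := by
    rintro _ ⟨g, rfl⟩
    exact hcomm g
  have h1 : Nat.card R = Nat.card f.ker * Nat.card f.range := by
    rw [← Subgroup.index_ker, Subgroup.card_mul_index]
  rw [h1]
  calc Nat.card f.ker * Nat.card f.range ≤ Nat.card A * Nat.card Z :=
        Nat.mul_le_mul (Subgroup.card_le_of_le hker) (Subgroup.card_le_of_le hrange)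
    _ ≤ p ^ 2 * p := Nat.mul_le_mul hAcard hZcard.le
    _ = p ^ 3 := by ring

end

end Cfsg.Agent.H1
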