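import Mathlib
import Cfsg.Prelude.Def_Transfer
import Cfsg.Agent.Lib.Lead.OmegaFaithful
import Cfsg.Agent.H1.NormalRankTwo
import Cfsg.Agent.H1.RankTwoExpP

/-!
# `Ω₁(Z₂(S))` for a `p`-subgroup `S` of `G`, `p` odd (for B&G 12.18 = S1428)

`omegaZ2 p hp2 S` is the set of `x ∈ S` with `x ^ p = 1` and `[x, S] ≤ Z(S)`; for odd `p` it is a
subgroup (of exponent `p`, class at most 2), normalized by `N_G(S)`, and it contains every normal
subgroup of order `p ^ 2` of `S` consisting of elements of order dividing `p`; hence it contains an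
elementary abelian subgroup of order `p ^ 2` as soon as the `p`-group `S` is not cyclic.
-/

set_option autoImplicit false
set_option linter.unusedVariables false
set_option linter.unusedSectionVars false
set_option linter.style.haveILetI false

open scoped commutatorElement

namespace Cfsg.Agent.H1.BG1218

universe u

section defs
variable {G : Type*} [Group G]

/-- `Ω₁(Z₂(S))` for odd `p` -/
def omegaZ2 (p : ℕ) (hp2 : p % 2 = 1) (S : Subgroup G) : Subgroup G where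
  carrier := {x | x ∈ S ∧ x ^ p = 1 ∧ ∀ y ∈ S, ∀ w ∈ S, ⁅x, y⁆ * w = w * ⁅x, y⁆}
  one_mem' := by
    refine ⟨S.one_mem, one_pow p, ?_⟩
    intro y _ w _
    rw [commutatorElement_one_left, one_mul, mul_one]
  mul_mem' := by
    rintro a b ⟨ha, hap, hac⟩ ⟨hb, hbp, hbc⟩
    refine ⟨S.mul_mem ha hb, ?_, ?_⟩
    · -- the power formula
      set z := ⁅b, a⁆ with hz
      have hza : z * a = a * z := hbc a ha a ha
      have hzb : z * b = b * z := hbc a ha b hb
      have h : b * a = a * b * z := by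
        have h1 : z * (a * b) = (a * b) * z := hbc a ha (a * b) (S.mul_mem ha hb)
        rw [← h1, hz, commutatorElement_def]
        group
      have hzp : z ^ p = 1 := by
        have h1 := Cfsg.Agent.Lib.Lead.OmegaFaithful.class_two_pow_comm h hza hzb p
        rw [hbp, one_mul, mul_one] at h1
        have h2 : a * 1 = a * z ^ p := by rw [mul_one]; exact h1
        exact (mul_left_cancel h2).symm
      have h2 := Cfsg.Agent.Lib.Lead.OmegaFaithful.class_two_pow h hza hzb p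
      rw [h2, hap, hbp, one_mul, one_mul,
        Cfsg.Agent.Lib.Lead.OmegaFaithful.sum_range_prime_odd hp2, pow_mul, hzp, one_pow]
    · intro y hy w hw
      have e : ⁅a * b, y⁆ = a * ⁅b, y⁆ * a⁻¹ * ⁅a, y⁆ := by
        simp only [commutatorElement_def]; group
      have h1 : ⁅b, y⁆ * a = a * ⁅b, y⁆ := hbc y hy a ha
      have e2 : a * ⁅b, y⁆ * a⁻¹ = ⁅b, y⁆ := by
        rw [← h1]; group
      rw [e, e2]
      have h3 : ⁅b, y⁆ * w = w * ⁅b, y⁆ := hbc y hy w hw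
      have h4 : ⁅a, y⁆ * w = w * ⁅a, y⁆ := hac y hy w hw
      calc ⁅b, y⁆ * ⁅a, y⁆ * w = ⁅b, y⁆ * (⁅a, y⁆ * w) := by rw [mul_assoc]
        _ = ⁅b, y⁆ * (w * ⁅a, y⁆) := by rw [h4]
        _ = (⁅b, y⁆ * w) * ⁅a, y⁆ := by rw [mul_assoc]
        _ = (w * ⁅b, y⁆) * ⁅a, y⁆ := by rw [h3]
        _ = w * (⁅b, y⁆ * ⁅a, y⁆) := by rw [mul_assoc]
  inv_mem' := by
    rintro a ⟨ha, hap, hac⟩
    refine ⟨S.inv_mem ha, by rw [inv_pow, hap, inv_one], ?_⟩
    intro y hy w hw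
    have e : ⁅a⁻¹, y⁆ = a⁻¹ * (⁅a, y⁆)⁻¹ * a := by
      simp only [commutatorElement_def]; group
    have h1 : ⁅a, y⁆ * a = a * ⁅a, y⁆ := hac y hy a ha
    have e2 : a⁻¹ * (⁅a, y⁆)⁻¹ * a = (⁅a, y⁆)⁻¹ := by
      have : (⁅a, y⁆)⁻¹ * a = a * (⁅a, y⁆)⁻¹ := by
        have hc : Commute ⁅a, y⁆ a := h1
        exact hc.inv_left.eq
      rw [mul_assoc, this]; group
    rw [e, e2]
    have h4 : Commute ⁅a, y⁆ w := hac y hy w hw
    exact h4.inv_left.eq

theorem mem_omegaZ2 {p : ℕ} {hp2 : p % 2 = 1} {S : Subgroup G} {x : G} :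
    x ∈ omegaZ2 p hp2 S ↔ x ∈ S ∧ x ^ p = 1 ∧ ∀ y ∈ S, ∀ w ∈ S, ⁅x, y⁆ * w = w * ⁅x, y⁆ :=
  Iff.rfl

theorem omegaZ2_le (p : ℕ) (hp2 : p % 2 = 1) (S : Subgroup G) : omegaZ2 p hp2 S ≤ S :=
  fun _ h => h.1

theorem pow_eq_one_of_mem_omegaZ2 {p : ℕ} {hp2 : p % 2 = 1} {S : Subgroup G} {x : G}
    (h : x ∈ omegaZ2 p hp2 S) : x ^ p = 1 := h.2.1

/-- `Ω₁(Z₂(S))` is normalized by `N_G(S)` -/
theorem normalizer_le_normalizer_omegaZ2 (p : ℕ) (hp2 : p % 2 = 1) (S : Subgroup G) :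
    Subgroup.normalizer (S : Set G) ≤
      Subgroup.normalizer ((omegaZ2 p hp2 S : Subgroup G) : Set G) := by
  have key : ∀ g ∈ Subgroup.normalizer (S : Set G), ∀ x ∈ omegaZ2 p hp2 S,
      g * x * g⁻¹ ∈ omegaZ2 p hp2 S := by
    rintro g hg x ⟨hx, hxp, hxc⟩
    have hgi : g⁻¹ ∈ Subgroup.normalizer (S : Set G) := Subgroup.inv_mem _ hg
    refine ⟨(Subgroup.mem_normalizer_iff.mp hg x).mp hx, ?_, ?_⟩
    · rw [conj_pow, hxp]; group
    · intro y hy w hw
      have hy' : g⁻¹ * y * g⁻¹⁻¹ ∈ S := (Subgroup.mem_normalizer_iff.mp hgi y).mp hy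
      have hw' : g⁻¹ * w * g⁻¹⁻¹ ∈ S := (Subgroup.mem_normalizer_iff.mp hgi w).mp hw
      have h1 := hxc _ hy' _ hw'
      have e : ⁅g * x * g⁻¹, y⁆ = g * ⁅x, g⁻¹ * y * g⁻¹⁻¹⁆ * g⁻¹ := by
        simp only [commutatorElement_def]; group
      rw [e]
      calc g * ⁅x, g⁻¹ * y * g⁻¹⁻¹⁆ * g⁻¹ * w
          = g * (⁅x, g⁻¹ * y * g⁻¹⁻¹⁆ * (g⁻¹ * w * g⁻¹⁻¹)) * g⁻¹ := by group
        _ = g * ((g⁻¹ * w * g⁻¹⁻¹) * ⁅x, g⁻¹ * y * g⁻¹⁻¹⁆) * g⁻¹ := by rw [h1]
        _ = w * (g * ⁅x, g⁻¹ * y * g⁻¹⁻¹⁆ * g⁻¹) := by group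
  intro g hg
  rw [Subgroup.mem_normalizer_iff]
  intro x
  constructor
  · intro hx; exact key g hg x hx
  · intro hx
    have := key g⁻¹ (Subgroup.inv_mem _ hg) _ hx
    have e : g⁻¹ * (g * x * g⁻¹) * g⁻¹⁻¹ = x := by group
    rwa [e] at this

end defs

section pgroup

/-- in a `p`-group, the commutators `[x, y]`, `x` in a normal subgroup of order `p ^ 2`, are
central -/
theorem commutator_mem_center_of_normal_sq {R : Type*} [Group R] [Finite R] {p : ℕ} [Fact p.Prime]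
    (hR : IsPGroup p R) (A : Subgroup R) [hAn : A.Normal] (hA : Nat.card A = p ^ 2) :
    ∀ x ∈ A, ∀ y : R, ⁅x, y⁆ ∈ Subgroup.center R := by
  have hpp : p.Prime := Fact.out
  have hne : A ≠ ⊥ := by
    intro h
    rw [h, Subgroup.card_bot] at hA
    have : 1 < p ^ 2 := Nat.one_lt_pow (by norm_num) hpp.one_lt
    omega
  obtain ⟨z, hzA, hzc, hzo⟩ := Cfsg.Agent.H1.exists_central_order_p hR A hne
  obtain ⟨Z, hZ⟩ : ∃ Z : Subgroup R, Z = Subgroup.zpowers z := ⟨_, rfl⟩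
  have hZc : Z ≤ Subgroup.center R := by rw [hZ, Subgroup.zpowers_le]; exact hzc
  haveI hZn : Z.Normal := by
    constructor
    intro n hn g
    have := Subgroup.mem_center_iff.1 (hZc hn) g
    rw [this, mul_inv_cancel_right]; exact hn
  have hZcard : Nat.card Z = p := by rw [hZ, Nat.card_zpowers, hzo]
  have hZA : Z ≤ A := by rw [hZ, Subgroup.zpowers_le]; exact hzA
  set π := QuotientGroup.mk' Z with hπ
  have hπsurj : Function.Surjective π := QuotientGroup.mk'_surjective Z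
  have hker : π.ker = Z := QuotientGroup.ker_mk' Z
  haveI hBn : (A.map π).Normal := Subgroup.Normal.map hAn π hπsurj
  have hcard : Nat.card Z * Nat.card (A.map π) = Nat.card A := by
    have h1 := Subgroup.relIndex_mul_relIndex (⊥ : Subgroup R) Z A bot_le hZA
    rw [Subgroup.relIndex_bot_left, Subgroup.relIndex_bot_left] at h1
    have h2 := Subgroup.relIndex_ker π (K := A)
    rw [hker] at h2
    rw [← h2]
    exact h1
  have hBcard : Nat.card (A.map π) = p := by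
    rw [hZcard, hA, pow_two] at hcard
    exact Nat.eq_of_mul_eq_mul_left hpp.pos hcard
  have hBc : A.map π ≤ Subgroup.center (R ⧸ Z) :=
    Cfsg.Agent.H1.normal_card_p_le_center (hR.to_quotient Z) (A.map π) hBcard
  intro x hx y
  have h1 : π x ∈ Subgroup.center (R ⧸ Z) := hBc ⟨x, hx, rfl⟩
  have h2 : π ⁅x, y⁆ = 1 := by
    rw [map_commutatorElement, commutatorElement_def]
    have := Subgroup.mem_center_iff.mp h1 (π y)
    rw [← this]; group
  have h3 : ⁅x, y⁆ ∈ Z := by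
    rw [← hker, MonoidHom.mem_ker]; exact h2
  exact hZc h3

variable {G : Type u} [Group G] [Finite G]

/-- a noncyclic `p`-subgroup `S` (`p` odd) has an elementary abelian subgroup of order `p ^ 2` inside
`Ω₁(Z₂(S))` -/
theorem exists_sq_le_omegaZ2 {p : ℕ} [hp : Fact p.Prime] (hp2 : p % 2 = 1) {S : Subgroup G}
    (hS : IsPGroup p ↥S) (hnc : ¬ IsCyclic ↥S) :
    ∃ A : Subgroup G, A ≤ omegaZ2 p hp2 S ∧ Cfsg.IsElementaryAbelian p A ∧ Nat.card ↥A = p ^ 2 := by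
  have hpne : p ≠ 2 := by
    intro h; rw [h] at hp2; norm_num at hp2
  have hnc' : ¬ IsCyclic ↥(⊤ : Subgroup ↥S) := by
    intro hc
    apply hnc
    exact isCyclic_of_surjective (Subgroup.topEquiv : ↥(⊤ : Subgroup ↥S) ≃* ↥S)
      (Subgroup.topEquiv : ↥(⊤ : Subgroup ↥S) ≃* ↥S).surjective
  obtain ⟨A', -, hA'n, hA'e, hA'c⟩ :=
    Cfsg.Agent.H1.normal_elem_abelian_sq_le hpne hS (⊤ : Subgroup ↥S) hnc'
  haveI := hA'n
  have hcen := commutator_mem_center_of_normal_sq hS A' hA'c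
  refine ⟨A'.map S.subtype, ?_, ?_, ?_⟩
  · rintro _ ⟨x, hx, rfl⟩
    refine ⟨x.2, ?_, ?_⟩
    · have := hA'e.2 x hx
      have h2 : ((x ^ p : ↥S) : G) = ((1 : ↥S) : G) := congrArg Subtype.val this
      rw [Subgroup.coe_pow] at h2
      exact h2
    · intro y hy w hw
      have h1 := hcen x hx ⟨y, hy⟩
      have h2 := Subgroup.mem_center_iff.mp h1 ⟨w, hw⟩
      have h3 : ((⟨w, hw⟩ * ⁅x, ⟨y, hy⟩⁆ : ↥S) : G) = ((⁅x, ⟨y, hy⟩⁆ * ⟨w, hw⟩ : ↥S) : G) :=
        congrArg Subtype.val h2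
      simp only [Subgroup.coe_mul, commutatorElement_def, Subgroup.coe_inv] at h3
      simp only [Subgroup.subtype_apply, commutatorElement_def]
      exact h3.symm
  · refine ⟨⟨⟨?_⟩⟩, ?_⟩
    · rintro ⟨_, ⟨a, ha, rfl⟩⟩ ⟨_, ⟨b, hb, rfl⟩⟩
      apply Subtype.ext
      have := hA'e.1.is_comm.comm ⟨a, ha⟩ ⟨b, hb⟩
      have h2 : a * b = b * a := congrArg Subtype.val this
      show S.subtype a * S.subtype b = S.subtype b * S.subtype a
      rw [← map_mul, ← map_mul, h2]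
    · rintro _ ⟨a, ha, rfl⟩
      have := hA'e.2 a ha
      rw [← map_pow, this, map_one]
  · rw [Subgroup.card_map_of_injective S.subtype_injective]; exact hA'c

end pgroup

end Cfsg.Agent.H1.BG1218
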