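import Mathlib
import Cfsg.Agent.H1.BG1218A
import Cfsg.Agent.H1.BG1218B
import Cfsg.Agent.H1.ElemAbelian
import Cfsg.Agent.Lib.Helper4.BG1218C
import Cfsg.Agent.Lib.Helper7.BG127F
import Cfsg.Agent.S0025
import Cfsg.Agent.S1403
import Cfsg.Agent.S1406
import Cfsg.Agent.S1409

/-!
# B&G 12.18 (S1428), case (2d-ii) and Step Z: the Hall–Higman steps

* `rankLE_one_alpha_centralizer` (12.5): `r ∉ σ(L)`, `r_r(L) ≤ 1`, `R ≤ L` of order `r`:
  `C_{L_α}(R)` has rank at most 1;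
* `mem_of_pow_eq_one` : in a `p`-group `C` of rank `≤ 1` every `x` with `x ^ p = 1` lies in any given
  subgroup `P ≤ C` of order `p`;
* `lside_main` : `p ∈ α(L)`, `R ≤ L` of order `r` as above, `P ≤ L` of order `p` centralized by `R`
  and by the `R`-invariant `α(L)'`-, `r'`-subgroup `D ≤ L`: `[D, R]` centralizes an elementary
  abelian subgroup of order `p ^ 2` of `L_α`;
* `lside_unique` : hence `L` is the only maximal subgroup over `C_L(X)`, and `N_G(X) ≤ L`, for every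
  `1 ≠ X ≤ [D, R]`;
* `mside_main` (Step Z): if the `R`-invariant `α(M)'`-, `r'`-subgroup `T ≤ M` centralizes
  `C_{M_α}(R)` then `[T, R]` centralizes `M_α`;
* `eq_of_alphaCore_le` : `1 ≠ M_α ≤ L` forces `L = M`.
-/

set_option autoImplicit false
set_option linter.unusedVariables false
set_option linter.unusedSectionVars false
set_option linter.style.haveILetI false

open scoped commutatorElement

namespace Cfsg.Agent.H1.BG1218

open Cfsg
open Cfsg.Agent.Lib.Helper7 (IsSylowIn exists_isSylowIn_ge card_subgroupOf_of_le)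

universe u

variable {G : Type u} [Group G] [Finite G]

/-- if `L` is the only maximal subgroup over `C_L(X)` then `N_G(X) ≤ L` -/
theorem normalizer_le_of_unique (hG : Cfsg.IsMinSimpleOddOrder G) {L X : Subgroup G}
    (hL : IsCoatom L) (hX1 : X ≠ ⊥) (hXL : X ≤ L)
    (hU : Cfsg.InUniqueMaximal (L ⊓ Subgroup.centralizer (X : Set G))) :
    Subgroup.normalizer (X : Set G) ≤ L := by
  have hXt : X ≠ ⊤ := Cfsg.Agent.H2.BGU.ne_top_of_le_coatom hL hXL
  have hNt := Cfsg.Agent.Lib.Helper8.BGTen.normalizer_ne_top' hG hX1 hXt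
  obtain ⟨H, hH, hNH⟩ := Cfsg.Agent.H2.BGU.exists_coatom_ge hNt
  obtain ⟨L0, ⟨hL0, hle0⟩, huniq⟩ := hU
  have h1 : L = L0 := huniq L ⟨hL, inf_le_left⟩
  have h2 : H = L0 := huniq H
    ⟨hH, inf_le_right.trans ((Subgroup.centralizer_le_normalizer _).trans hNH)⟩
  rw [h1, ← h2]
  exact hNH

/-- if `L` is the only maximal subgroup over `C_L(X)` then every maximal subgroup over `C_G(X)` is `L` -/
theorem eq_of_unique {L X H : Subgroup G} (hL : IsCoatom L) (hH : IsCoatom H)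
    (hU : Cfsg.InUniqueMaximal (L ⊓ Subgroup.centralizer (X : Set G)))
    (hCH : L ⊓ Subgroup.centralizer (X : Set G) ≤ H) : H = L := by
  obtain ⟨L0, ⟨hL0, hle0⟩, huniq⟩ := hU
  have h1 : L = L0 := huniq L ⟨hL, inf_le_left⟩
  have h2 : H = L0 := huniq H ⟨hH, hCH⟩
  rw [h1, h2]

/-- **(12.5)**: `C_{L_α}(R)` has rank at most one when `r ∉ σ(L)`, `r_r(L) ≤ 1`, `|R| = r`, `R ≤ L`. -/
theorem rankLE_one_alpha_centralizer (hG : Cfsg.IsMinSimpleOddOrder G) {L : Subgroup G}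
    (hL : IsCoatom L) {r : ℕ} [hr : Fact r.Prime] (hrσ : r ∉ Cfsg.sigma L)
    (hr1 : Cfsg.PRankLE r 1 ↥L) {R : Subgroup G} (hRL : R ≤ L) (hR : Nat.card ↥R = r) :
    Cfsg.RankLE 1 ↥(Cfsg.alphaCore L ⊓ Subgroup.centralizer (R : Set G) : Subgroup G) := by
  by_contra hne
  have hrα : ∀ q : ℕ, q.Prime → q ∣ Nat.card ↥R → q ∉ Cfsg.alpha L := by
    intro q hq hqd hqα
    rw [hR] at hqd
    have hqr : q = r := (Nat.prime_dvd_prime_iff_eq hq hr.out).mp hqd
    apply hqα.2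
    rw [hqr]
    exact Cfsg.Agent.Lib.Helper8.BGTen.pRankLE_succ hr.out hr1
  have hU := Cfsg.Agent.S1406.result hG L hL R hRL hrα hne
  have hR1 : R ≠ ⊥ := by
    intro h0
    rw [h0, Subgroup.card_bot] at hR
    exact hr.out.one_lt.ne hR
  have hNL := normalizer_le_of_unique hG hL hR1 hRL hU
  exact (Cfsg.Agent.S1409.result hG L hL r hrσ R hR hNL).1.2 hr1

/-- in a `p`-group `C` all of whose elementary abelian subgroups have order at most `p`, every element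
of order dividing `p` lies in any given subgroup `P ≤ C` of order `p` -/
theorem mem_of_pow_eq_one {p : ℕ} [hp : Fact p.Prime] {C P : Subgroup G} (hC : IsPGroup p ↥C)
    (hrk : ∀ B : Subgroup G, B ≤ C → Cfsg.IsElementaryAbelian p B → Nat.card ↥B ≤ p)
    (hPC : P ≤ C) (hP : Nat.card ↥P = p) {x : G} (hxC : x ∈ C) (hxp : x ^ p = 1) : x ∈ P := by
  have hPel : Cfsg.IsElementaryAbelian p P :=
    Cfsg.Agent.Lib.Helper4.BGUniq.isElementaryAbelian_of_card_prime hP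
  have key : ∀ z ∈ C, z ^ p = 1 → z ∈ Subgroup.centralizer (P : Set G) → z ∈ P := by
    intro z hzC hzp hzc
    have hsup := Cfsg.Agent.H1.isElementaryAbelian_sup_zpowers p P hPel z hzc hzp
    have hle : Nat.card ↥(P ⊔ Subgroup.zpowers z : Subgroup G) ≤ p :=
      hrk _ (sup_le hPC (Subgroup.zpowers_le.mpr hzC)) hsup
    have h1 : P = P ⊔ Subgroup.zpowers z :=
      Subgroup.eq_of_le_of_card_ge le_sup_left (by rw [hP]; exact hle)
    rw [h1]
    exact Subgroup.mem_sup_right (Subgroup.mem_zpowers z)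
  have hP1 : P ≠ ⊥ := by
    intro h0
    rw [h0, Subgroup.card_bot] at hP
    exact hp.out.one_lt.ne hP
  have hC1 : C ≠ ⊥ := by
    intro h0
    apply hP1
    rw [eq_bot_iff, ← h0]
    exact hPC
  haveI : Nontrivial ↥C := (Subgroup.nontrivial_iff_ne_bot C).mpr hC1
  obtain ⟨z, -, hzc, hzo⟩ :=
    Cfsg.Agent.H1.exists_central_order_p hC (⊤ : Subgroup ↥C) top_ne_bot
  have hzcomm : ∀ c ∈ C, c * (z : G) = (z : G) * c := by
    intro c hc
    have := Subgroup.mem_center_iff.mp hzc ⟨c, hc⟩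
    exact congrArg Subtype.val this
  have hzp : (z : G) ^ p = 1 := by
    have h1 : z ^ p = 1 := by rw [← hzo]; exact pow_orderOf_eq_one z
    have h2 : ((z ^ p : ↥C) : G) = ((1 : ↥C) : G) := congrArg Subtype.val h1
    rw [Subgroup.coe_pow] at h2
    exact h2
  have hzP : (z : G) ∈ P := by
    apply key _ z.2 hzp
    refine Subgroup.mem_centralizer_iff.mpr ?_
    intro g hg
    exact hzcomm g (hPC hg)
  have hz1 : (z : G) ≠ 1 := by
    intro h1
    have : z = 1 := Subtype.ext h1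
    rw [this, orderOf_one] at hzo
    exact hp.out.one_lt.ne hzo
  have hzpP : Subgroup.zpowers (z : G) = P := by
    apply Subgroup.eq_of_le_of_card_ge ((Subgroup.zpowers_le).mpr hzP)
    rw [Nat.card_zpowers, orderOf_eq_prime hzp hz1, hP]
  apply key x hxC hxp
  refine Subgroup.mem_centralizer_iff.mpr ?_
  intro g hg
  have hg' : g ∈ Subgroup.zpowers (z : G) := by rw [hzpP]; exact hg
  obtain ⟨k, rfl⟩ := Subgroup.mem_zpowers_iff.mp hg'
  have hcm : Commute x (z : G) := hzcomm x hxC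
  exact (hcm.zpow_right k).symm.eq

/-- **L-side main lemma** (case (2d-ii) of S1428). -/
theorem lside_main (hG : Cfsg.IsMinSimpleOddOrder G) {L : Subgroup G} (hL : IsCoatom L)
    {p : ℕ} [hp : Fact p.Prime] (hpα : p ∈ Cfsg.alpha L)
    {r : ℕ} [hr : Fact r.Prime] (hrσ : r ∉ Cfsg.sigma L) (hr1 : Cfsg.PRankLE r 1 ↥L)
    {R P D : Subgroup G} (hRL : R ≤ L) (hR : Nat.card ↥R = r) (hPL : P ≤ L)
    (hP : Nat.card ↥P = p) (hRP : R ≤ Subgroup.centralizer (P : Set G)) (hDL : D ≤ L)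
    (hRD : R ≤ Subgroup.normalizer (D : Set G)) (hDP : D ≤ Subgroup.centralizer (P : Set G))
    (hDα : ∀ q : ℕ, q.Prime → q ∣ Nat.card ↥D → q ∉ Cfsg.alpha L) (hDr : ¬ r ∣ Nat.card ↥D) :
    ∃ A : Subgroup G, A ≤ Cfsg.alphaCore L ∧ Cfsg.IsElementaryAbelian p A ∧ Nat.card ↥A = p ^ 2 ∧
      ⁅D, R⁆ ≤ Subgroup.centralizer (A : Set G) := by
  classical
  have hU := Cfsg.Agent.Lib.helper3.BG11.uT hG
  set K := Cfsg.alphaCore L with hK
  have hKL : K ≤ L := Cfsg.Agent.Lib.Helper8.BGTen.alphaCore_le L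
  have hLK : L ≤ Subgroup.normalizer (K : Set G) :=
    Cfsg.Agent.Lib.Helper8.BGTen.le_normalizer_alphaCore L
  have hPp : IsPGroup p ↥P := IsPGroup.of_card (n := 1) (by rw [hP, pow_one])
  have hPK : P ≤ K := Cfsg.Agent.Lib.BG127H7.pGroup_le_alphaCore hG hU hL hp.out hpα hPp hPL
  have hrα : r ∉ Cfsg.alpha L := fun h =>
    h.2 (Cfsg.Agent.Lib.Helper8.BGTen.pRankLE_succ hr.out hr1)
  -- coprimality
  have hRK : (Nat.card ↥R).Coprime (Nat.card ↥K) := by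
    rw [hR]
    exact (Nat.Prime.coprime_iff_not_dvd hr.out).mpr (fun h =>
      hrα (Cfsg.Agent.Lib.Helper8.BGTen.mem_alpha_of_dvd_alphaCore L hr.out h))
  have hDK : (Nat.card ↥D).Coprime (Nat.card ↥K) := by
    apply Nat.coprime_of_dvd
    intro k hk hk1 hk2
    exact hDα k hk hk1 (Cfsg.Agent.Lib.Helper8.BGTen.mem_alpha_of_dvd_alphaCore L hk hk2)
  set A0 := D ⊔ R with hA0
  have hA0L : A0 ≤ L := sup_le hDL hRL
  have hA0K : A0 ≤ Subgroup.normalizer (K : Set G) := hA0L.trans hLK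
  have hcardA0 : Nat.card ↥A0 ∣ Nat.card ↥R * Nat.card ↥D := by
    have := Cfsg.Agent.Lib.BG127H7.card_sup_dvd_of_le_normalizer (H := R) (N := D) hRD
    rwa [sup_comm] at this
  have hcopA0 : (Nat.card ↥A0).Coprime (Nat.card ↥K) :=
    Nat.Coprime.coprime_dvd_left hcardA0 (Nat.Coprime.mul_left hRK hDK)
  have hKsolv : Group.IsSolvable ↥K := Cfsg.Agent.H2.BGU.solvable_of_le_coatom hG hL hKL
  have hA0P : A0 ≤ Subgroup.normalizer (P : Set G) :=
    sup_le (hDP.trans (Subgroup.centralizer_le_normalizer _))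
      (hRP.trans (Subgroup.centralizer_le_normalizer _))
  obtain ⟨S1, hPS, hA0S⟩ := Cfsg.Agent.S0025.result A0 K hA0K hcopA0 (Or.inr hKsolv) p P hPK hPp
    hA0P
  set S := (S1 : Subgroup ↥K).map K.subtype with hS
  have hSK : IsSylowIn p S K := IsSylowIn.of_sylow S1
  have hSp : IsPGroup p ↥S := hSK.isPGroup
  -- `S` is a Sylow subgroup of `L`
  obtain ⟨SL, hSL, hSSL⟩ := exists_isSylowIn_ge hSp (hSK.1.trans hKL)
  have hSLK : SL ≤ K :=
    Cfsg.Agent.Lib.BG127H7.pGroup_le_alphaCore hG hU hL hp.out hpα hSL.isPGroup hSL.1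
  have hSLS : SL = S := Cfsg.Agent.Lib.Helper8.BGTen.sylIn_eq_of_le hSK hSLK hSL.isPGroup hSSL
  rw [hSLS] at hSL
  have hnc : ¬ IsCyclic ↥S := by
    intro hc
    have := Cfsg.Agent.Lib.helper3.BG12.pRankLE_one_of_cyclic_sylow hSL hc
    exact hpα.2 (Cfsg.Agent.Lib.Helper8.BGTen.pRankLE_succ hp.out this)
  have hp2 : p % 2 = 1 := by
    have hdvd : p ∣ Nat.card G := by
      rw [← hP]; exact Subgroup.card_subgroup_dvd_card P
    exact Nat.odd_iff.mp (Odd.of_dvd_nat hG.1 hdvd)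
  set W := omegaZ2 p hp2 S with hW
  have hWS : W ≤ S := omegaZ2_le p hp2 S
  have hWK : W ≤ K := hWS.trans hSK.1
  have hA0W : A0 ≤ Subgroup.normalizer (W : Set G) :=
    hA0S.trans (normalizer_le_normalizer_omegaZ2 p hp2 S)
  obtain ⟨A, hAW, hAe, hAc⟩ := exists_sq_le_omegaZ2 hp2 hSp hnc
  -- `C_W(R) ≤ P`
  have hrk := rankLE_one_alpha_centralizer hG hL hrσ hr1 hRL hR
  set CS := S ⊓ Subgroup.centralizer (R : Set G) with hCS
  have hCSp : IsPGroup p ↥CS := hSp.to_le inf_le_left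
  have hCSrk : ∀ B : Subgroup G, B ≤ CS → Cfsg.IsElementaryAbelian p B → Nat.card ↥B ≤ p := by
    intro B hB hBe
    have h1 : B ≤ K ⊓ Subgroup.centralizer (R : Set G) :=
      le_inf ((hB.trans inf_le_left).trans hSK.1) (hB.trans inf_le_right)
    have := Cfsg.Agent.Lib.Helper4.BGUniq.card_le_of_pRankLE (hrk p hp.out) hBe h1
    rwa [pow_one] at this
  have hPCS : P ≤ CS := le_inf hPS (Subgroup.le_centralizer_iff.mp hRP)
  have hfix : D ≤ Subgroup.centralizer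
      ((W ⊓ Subgroup.centralizer (R : Set G) : Subgroup G) : Set G) := by
    intro d hd
    refine Subgroup.mem_centralizer_iff.mpr ?_
    intro m hm
    have hmW : m ∈ W := hm.1
    have hmCS : m ∈ CS := ⟨hWS hmW, hm.2⟩
    have hmP : m ∈ P := mem_of_pow_eq_one hCSp hCSrk hPCS hP hmCS (pow_eq_one_of_mem_omegaZ2 hmW)
    exact Subgroup.mem_centralizer_iff.mp (hDP hd) m hmP
  have hle : W ⊔ D ⊔ R ≤ L := sup_le (sup_le (hWK.trans hKL) hDL) hRL
  have hsolv : Group.IsSolvable ↥(W ⊔ D ⊔ R) := Cfsg.Agent.H2.BGU.solvable_of_le_coatom hG hL hle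
  have hodd : Odd (Nat.card ↥(W ⊔ D ⊔ R)) := Cfsg.Agent.H2.BGU.odd_card_subgroup hG _
  have hWcard : Nat.card ↥W ∣ Nat.card ↥K := Subgroup.card_dvd_of_le hWK
  have hrW : r.Coprime (Nat.card ↥W) := by
    have := Nat.Coprime.coprime_dvd_right hWcard hRK
    rwa [hR] at this
  have hrD : r.Coprime (Nat.card ↥D) := (Nat.Prime.coprime_iff_not_dvd hr.out).mpr hDr
  have hDW : (Nat.card ↥D).Coprime (Nat.card ↥W) := Nat.Coprime.coprime_dvd_right hWcard hDK
  have hmain := hh_fix_sub W D R r hr.out hR ((le_sup_left : D ≤ A0).trans hA0W)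
    ((le_sup_right : R ≤ A0).trans hA0W) hRD hsolv hodd hrW hrD hDW hfix
  refine ⟨A, hAW.trans hWK, hAe, hAc, hmain.trans ?_⟩
  exact Subgroup.centralizer_le (by exact_mod_cast hAW)

/-- **L-side, uniqueness form**: for every `1 ≠ X ≤ [D, R]`, `L` is the only maximal subgroup over
`C_L(X)` and `N_G(X) ≤ L`. -/
theorem lside_unique (hG : Cfsg.IsMinSimpleOddOrder G) {L : Subgroup G} (hL : IsCoatom L)
    {p : ℕ} [hp : Fact p.Prime] (hpα : p ∈ Cfsg.alpha L)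
    {r : ℕ} [hr : Fact r.Prime] (hrσ : r ∉ Cfsg.sigma L) (hr1 : Cfsg.PRankLE r 1 ↥L)
    {R P D : Subgroup G} (hRL : R ≤ L) (hR : Nat.card ↥R = r) (hPL : P ≤ L)
    (hP : Nat.card ↥P = p) (hRP : R ≤ Subgroup.centralizer (P : Set G)) (hDL : D ≤ L)
    (hRD : R ≤ Subgroup.normalizer (D : Set G)) (hDP : D ≤ Subgroup.centralizer (P : Set G))
    (hDα : ∀ q : ℕ, q.Prime → q ∣ Nat.card ↥D → q ∉ Cfsg.alpha L) (hDr : ¬ r ∣ Nat.card ↥D)
    {X : Subgroup G} (hX : X ≤ ⁅D, R⁆) (hX1 : X ≠ ⊥) :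
    Cfsg.InUniqueMaximal (L ⊓ Subgroup.centralizer (X : Set G)) ∧
      Subgroup.normalizer (X : Set G) ≤ L ∧
      ∀ H : Subgroup G, IsCoatom H → L ⊓ Subgroup.centralizer (X : Set G) ≤ H → H = L := by
  obtain ⟨A, hAK, hAe, hAc, hcen⟩ :=
    lside_main hG hL hpα hrσ hr1 hRL hR hPL hP hRP hDL hRD hDP hDα hDr
  have hXD : X ≤ D := hX.trans (commutator_le_left_of_le_normalizer hRD)
  have hXL : X ≤ L := hXD.trans hDL
  have hXα : ∀ q : ℕ, q.Prime → q ∣ Nat.card ↥X → q ∉ Cfsg.alpha L := fun q hq hqd =>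
    hDα q hq (hqd.trans (Subgroup.card_dvd_of_le hXD))
  have hAX : A ≤ Cfsg.alphaCore L ⊓ Subgroup.centralizer (X : Set G) :=
    le_inf hAK (Subgroup.le_centralizer_iff.mp (hX.trans hcen))
  have hnr : ¬ Cfsg.RankLE 1 ↥(Cfsg.alphaCore L ⊓ Subgroup.centralizer (X : Set G) : Subgroup G) := by
    intro h
    have h1 := Cfsg.Agent.Lib.Helper4.BGUniq.card_le_of_pRankLE (h p hp.out) hAe hAX
    rw [hAc, pow_one] at h1
    have : p < p ^ 2 := by
      have := hp.out.one_lt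
      nlinarith
    omega
  have hU := Cfsg.Agent.S1406.result hG L hL X hXL hXα hnr
  exact ⟨hU, normalizer_le_of_unique hG hL hX1 hXL hU, fun H hH hCH => eq_of_unique hL hH hU hCH⟩

/-- **M-side main lemma** (Step Z of S1428): if `T` centralizes `C_{M_α}(R)` then `[T, R]`
centralizes `M_α`. -/
theorem mside_main (hG : Cfsg.IsMinSimpleOddOrder G) {M : Subgroup G} (hM : IsCoatom M)
    {r : ℕ} [hr : Fact r.Prime] {R T : Subgroup G} (hRM : R ≤ M) (hR : Nat.card ↥R = r)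
    (hrα : r ∉ Cfsg.alpha M) (hTM : T ≤ M) (hRT : R ≤ Subgroup.normalizer (T : Set G))
    (hTα : ∀ q : ℕ, q.Prime → q ∣ Nat.card ↥T → q ∉ Cfsg.alpha M) (hTr : ¬ r ∣ Nat.card ↥T)
    (hfix : T ≤ Subgroup.centralizer
      ((Cfsg.alphaCore M ⊓ Subgroup.centralizer (R : Set G) : Subgroup G) : Set G)) :
    ⁅T, R⁆ ≤ Subgroup.centralizer ((Cfsg.alphaCore M : Subgroup G) : Set G) := by
  set K := Cfsg.alphaCore M with hK
  have hKM : K ≤ M := Cfsg.Agent.Lib.Helper8.BGTen.alphaCore_le M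
  have hMK : M ≤ Subgroup.normalizer (K : Set G) :=
    Cfsg.Agent.Lib.Helper8.BGTen.le_normalizer_alphaCore M
  have hrK : r.Coprime (Nat.card ↥K) :=
    (Nat.Prime.coprime_iff_not_dvd hr.out).mpr (fun h =>
      hrα (Cfsg.Agent.Lib.Helper8.BGTen.mem_alpha_of_dvd_alphaCore M hr.out h))
  have hTK : (Nat.card ↥T).Coprime (Nat.card ↥K) := by
    apply Nat.coprime_of_dvd
    intro k hk hk1 hk2
    exact hTα k hk hk1 (Cfsg.Agent.Lib.Helper8.BGTen.mem_alpha_of_dvd_alphaCore M hk hk2)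
  have hle : K ⊔ T ⊔ R ≤ M := sup_le (sup_le hKM hTM) hRM
  have hsolv : Group.IsSolvable ↥(K ⊔ T ⊔ R) := Cfsg.Agent.H2.BGU.solvable_of_le_coatom hG hM hle
  have hodd : Odd (Nat.card ↥(K ⊔ T ⊔ R)) := Cfsg.Agent.H2.BGU.odd_card_subgroup hG _
  have hrT : r.Coprime (Nat.card ↥T) := (Nat.Prime.coprime_iff_not_dvd hr.out).mpr hTr
  exact hh_fix_sub K T R r hr.out hR (hTM.trans hMK) (hRM.trans hMK) hRT hsolv hodd hrK hrT hTK hfix

/-- a maximal subgroup containing `M_α ≠ 1` is `M` -/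
theorem eq_of_alphaCore_le (hG : Cfsg.IsMinSimpleOddOrder G) {M L : Subgroup G} (hM : IsCoatom M)
    (hL : IsCoatom L) (hα : Cfsg.alphaCore M ≠ ⊥) (h : Cfsg.alphaCore M ≤ L) : L = M := by
  have hU := Cfsg.Agent.Lib.helper3.BG11.uT hG
  set K := Cfsg.alphaCore M with hK
  have hKM : K ≤ M := Cfsg.Agent.Lib.Helper8.BGTen.alphaCore_le M
  have hcard : Nat.card ↥K ≠ 1 := fun h1 => hα (Subgroup.card_eq_one.mp h1)
  obtain ⟨s, hs, hsd⟩ := Nat.exists_prime_and_dvd hcard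
  have hsα : s ∈ Cfsg.alpha M := Cfsg.Agent.Lib.Helper8.BGTen.mem_alpha_of_dvd_alphaCore M hs hsd
  obtain ⟨W, hWe, hWM, hWc⟩ := Cfsg.Agent.Lib.Helper4.BGUniq.exists_of_not_pRankLE hsα.2
  have hWp : IsPGroup s ↥W := Cfsg.Agent.Lib.Helper4.BGTrans.isPGroup_of_elementary hWe
  have hWK : W ≤ K := Cfsg.Agent.Lib.BG127H7.pGroup_le_alphaCore hG hU hM hs hsα hWp hWM
  have hn2 : ¬ Cfsg.RankLE 2 ↥K := fun h2 =>
    Cfsg.Agent.Lib.Helper4.BGUniq.not_pRankLE_of_le hWe hWK hWc (h2 s hs)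
  have hn1 : ¬ Cfsg.RankLE 1 ↥K := fun h1 =>
    Cfsg.Agent.Lib.Helper4.BGUniq.not_pRankLE_of_le hWe hWK hWc
      (Cfsg.Agent.Lib.Helper8.BGTen.pRankLE_succ hs (h1 s hs))
  have hKt : K ≠ ⊤ := Cfsg.Agent.H2.BGU.ne_top_of_le_coatom hM hKM
  obtain ⟨L0, ⟨hL0, hle0⟩, huniq⟩ := Cfsg.Agent.S1403.result hG K hKt hn1 (Or.inl hn2)
  have h1 : M = L0 := huniq M ⟨hM, hKM⟩
  have h2 : L = L0 := huniq L ⟨hL, h⟩
  rw [h1, h2]

end Cfsg.Agent.H1.BG1218
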