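import Mathlib
import Cfsg.Agent.H1.BG1218A
import Cfsg.Agent.Lib.Helper8.BGTw18A

/-!
# Lemma A in the shape `HypLemA` used by helper8's S1428 assembly
-/

set_option autoImplicit false
set_option linter.unusedVariables false
set_option linter.unusedSectionVars false

open scoped commutatorElement

namespace Cfsg.Agent.H1.BG1218

universe u

variable {G : Type u} [Group G] [Finite G]

/-- **Lemma A**, `zpowers` form: if `C_Q(y) ≤ C_G(T)` then `[T, ⟨y⟩] ≤ C_G(Q)`. -/
theorem hh_fix_zpowers (Q T : Subgroup G) (y : G) (r : ℕ) (hr : r.Prime)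
    (hyr : y ^ r = 1) (hTQ : T ≤ Subgroup.normalizer (Q : Set G))
    (hyQ : y ∈ Subgroup.normalizer (Q : Set G)) (hyT : y ∈ Subgroup.normalizer (T : Set G))
    (hsolv : Group.IsSolvable ↥(Q ⊔ T ⊔ Subgroup.zpowers y))
    (hodd : Odd (Nat.card ↥(Q ⊔ T ⊔ Subgroup.zpowers y)))
    (hrQ : r.Coprime (Nat.card Q)) (hrT : r.Coprime (Nat.card T))
    (hcop : (Nat.card T).Coprime (Nat.card Q))
    (hfix : Q ⊓ Subgroup.centralizer ((Subgroup.zpowers y : Subgroup G) : Set G) ≤
      Subgroup.centralizer (T : Set G)) :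
    ⁅T, Subgroup.zpowers y⁆ ≤ Subgroup.centralizer (Q : Set G) := by
  have hfix' : ∀ m ∈ Q, y * m = m * y → ∀ t ∈ T, t * m = m * t := by
    intro m hm hc t ht
    have hmem : m ∈ Q ⊓ Subgroup.centralizer ((Subgroup.zpowers y : Subgroup G) : Set G) := by
      refine ⟨hm, ?_⟩
      refine Subgroup.mem_centralizer_iff.mpr ?_
      intro z hz
      obtain ⟨k, rfl⟩ := Subgroup.mem_zpowers_iff.mp hz
      have hcm : Commute y m := hc
      exact (hcm.zpow_left k)
    exact Subgroup.mem_centralizer_iff.mp (hfix hmem) t ht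
  have h := hh_fix Q T y r hr hyr hTQ hyQ hyT hsolv hodd hrQ hrT hcop hfix'
  exact commutator_zpowers_le (mem_normalizer_centralizer hyQ) h

/-- helper8's `HypLemA`, unconditionally -/
theorem hypLemA : Cfsg.Agent.Lib.Helper8.BGTen.HypLemA G :=
  fun Q T y r hr hyr hTQ hyQ hyT hsolv hodd hrQ hrT hcop hfix =>
    hh_fix_zpowers Q T y r hr hyr hTQ hyQ hyT hsolv hodd hrQ hrT hcop hfix

end Cfsg.Agent.H1.BG1218
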