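import Mathlib
import Cfsg.Agent.H2.BG12.G
import Cfsg.Agent.H2.BG13.B
import Cfsg.Agent.Lib.helper3.BG11D
import Cfsg.Agent.Lib.helper3.BG11A
import Cfsg.Agent.Lib.helper3.BG12B
import Cfsg.Agent.Lib.Helper7.BG127F
import Cfsg.Agent.Lib.Helper4.BGUniqE
import Cfsg.Agent.Lib.Helper4.BGTransC
import Cfsg.Agent.S1408
import Cfsg.Agent.S1417
import Cfsg.Agent.S1418
import Cfsg.Agent.S1422

/-!
# B&G Lemma 12.11(a)

`p ∈ τ₂(M)`, `A ≤ E` elementary abelian of order `p²` (`E` a complement of `M_σ` in `M`) and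
`L` a maximal subgroup containing `N_G(A)`.  Then `τ₂(M) ⊆ σ(L) − β(L)`.
-/

set_option autoImplicit false
set_option linter.unusedVariables false
set_option linter.unusedSectionVars false
set_option linter.style.haveILetI false

open scoped commutatorElement Pointwise

namespace Cfsg.Agent.H1.BG14

open Cfsg Cfsg.Agent.Lib.Helper8.BGTen
open Cfsg.Agent.Lib.Helper7 (IsSylowIn exists_isSylowIn_ge)

universe u
variable {G : Type u} [Group G] [Finite G]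

/-- the `p`-torsion `Ω₁` of a commutative subgroup -/
def omegaAb (p : ℕ) (S : Subgroup G) (hS : ∀ a ∈ S, ∀ b ∈ S, a * b = b * a) : Subgroup G where
  carrier := {x | x ∈ S ∧ x ^ p = 1}
  one_mem' := ⟨S.one_mem, one_pow p⟩
  mul_mem' := by
    intro a b ha hb
    refine ⟨S.mul_mem ha.1 hb.1, ?_⟩
    have hc : Commute a b := hS a ha.1 b hb.1
    rw [hc.mul_pow, ha.2, hb.2, one_mul]
  inv_mem' := by
    intro a ha
    exact ⟨S.inv_mem ha.1, by rw [inv_pow, ha.2, inv_one]⟩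

theorem mem_omegaAb {p : ℕ} {S : Subgroup G} {hS : ∀ a ∈ S, ∀ b ∈ S, a * b = b * a} {x : G} :
    x ∈ omegaAb p S hS ↔ x ∈ S ∧ x ^ p = 1 := Iff.rfl

theorem isElementaryAbelian_omegaAb (p : ℕ) (S : Subgroup G)
    (hS : ∀ a ∈ S, ∀ b ∈ S, a * b = b * a) : Cfsg.IsElementaryAbelian p (omegaAb p S hS) := by
  refine ⟨⟨⟨fun a b => Subtype.ext (hS a a.2.1 b b.2.1)⟩⟩, fun a ha => ha.2⟩

theorem normalizer_le_normalizer_omegaAb (p : ℕ) (S : Subgroup G)
    (hS : ∀ a ∈ S, ∀ b ∈ S, a * b = b * a) :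
    Subgroup.normalizer (S : Set G) ≤ Subgroup.normalizer ((omegaAb p S hS : Subgroup G) : Set G) := by
  intro g hg
  rw [Subgroup.mem_normalizer_iff] at hg ⊢
  intro x
  rw [mem_omegaAb, mem_omegaAb, ← hg x]
  have : (g * x * g⁻¹) ^ p = g * x ^ p * g⁻¹ := conj_pow
  rw [this]
  constructor
  · rintro ⟨h1, h2⟩
    exact ⟨h1, by rw [h2, mul_one, mul_inv_cancel]⟩
  · rintro ⟨h1, h2⟩
    refine ⟨h1, ?_⟩
    have h3 : x ^ p = g⁻¹ * (g * x ^ p * g⁻¹) * g := by group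
    rw [h3, h2, mul_one, inv_mul_cancel]

/-- the normalizer of a nontrivial uniqueness subgroup of `L` lies in `L` -/
theorem normalizer_le_of_inUniqueMaximal (hG : Cfsg.IsMinSimpleOddOrder G) {L S : Subgroup G}
    (hL : IsCoatom L) (hS1 : S ≠ ⊥) (hSL : S ≤ L) (hU : Cfsg.InUniqueMaximal S) :
    Subgroup.normalizer (S : Set G) ≤ L := by
  have hSt : S ≠ ⊤ := Cfsg.Agent.H2.BGU.ne_top_of_le_coatom hL hSL
  have hNt := normalizer_ne_top' hG hS1 hSt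
  obtain ⟨H, hH, hNH⟩ := Cfsg.Agent.H2.BGU.exists_coatom_ge hNt
  obtain ⟨L0, ⟨hL0, hle0⟩, huniq⟩ := hU
  have h1 : L = L0 := huniq L ⟨hL, hSL⟩
  have h2 : H = L0 := huniq H ⟨hH, Subgroup.le_normalizer.trans hNH⟩
  rw [h1, ← h2]
  exact hNH

theorem ne_bot_of_card_sq {p : ℕ} [hp : Fact p.Prime] {A : Subgroup G} (hAc : Nat.card ↥A = p ^ 2) :
    A ≠ ⊥ := by
  rintro rfl
  rw [Subgroup.card_bot] at hAc
  have := hp.out.one_lt
  have h2 : 1 < p ^ 2 := Nat.one_lt_pow (by norm_num) this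
  omega

/-- `p ∈ τ₂(M)`, `A ≤ M` elementary of order `p²`, `N_G(A) ≤ L`: every Sylow `p`-subgroup of `L`
containing `A` has its normalizer in `L` -/
theorem sylow_normalizer_le (hG : Cfsg.IsMinSimpleOddOrder G) {M : Subgroup G} (hM : IsCoatom M)
    {p : ℕ} [hpf : Fact p.Prime] (hp : p ∈ Cfsg.tau2 M) {A : Subgroup G} (hAM : A ≤ M)
    (hAel : Cfsg.IsElementaryAbelian p A) (hAc : Nat.card ↥A = p ^ 2) {L : Subgroup G}
    (hL : IsCoatom L) (hNL : Subgroup.normalizer (A : Set G) ≤ L) {S : Subgroup G}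
    (hS : IsSylowIn p S L) (hAS : A ≤ S) : Subgroup.normalizer (S : Set G) ≤ L := by
  by_cases hc : ∀ a ∈ S, ∀ b ∈ S, a * b = b * a
  · have hΩ := isElementaryAbelian_omegaAb p S hc
    have hAΩ : A ≤ omegaAb p S hc := fun a ha => ⟨hAS ha, hAel.2 a ha⟩
    have h8 := (Cfsg.Agent.S1408.result hG M hM p hp.2.1 hp.2.2.1 hp.2.2.2).2 A hAM hAel hAc
      (omegaAb p S hc) hΩ hAΩ
    have h1 := normalizer_le_normalizer_omegaAb p S hc
    rw [h8] at h1
    exact h1.trans hNL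
  · have hna : ¬ IsMulCommutative ↥S := by
      intro h
      apply hc
      intro a ha b hb
      have := h.is_comm.comm ⟨a, ha⟩ ⟨b, hb⟩
      exact congrArg Subtype.val this
    have hU := Cfsg.Agent.S1422.result hG p S hS.isPGroup hna
    have hA1 : A ≠ ⊥ := ne_bot_of_card_sq hAc
    have hS1 : S ≠ ⊥ := by
      rintro rfl
      exact hA1 (le_bot_iff.mp hAS)
    exact normalizer_le_of_inUniqueMaximal hG hL hS1 hS.1 hU

/-- `p ∈ τ₂(M)`, `A ≤ M` elementary of order `p²`, `N_G(A) ≤ L` maximal: `p ∈ σ(L)` -/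
theorem mem_sigma_of_normalizer_le (hG : Cfsg.IsMinSimpleOddOrder G) {M : Subgroup G}
    (hM : IsCoatom M) {p : ℕ} [hpf : Fact p.Prime] (hp : p ∈ Cfsg.tau2 M) {A : Subgroup G}
    (hAM : A ≤ M) (hAel : Cfsg.IsElementaryAbelian p A) (hAc : Nat.card ↥A = p ^ 2)
    {L : Subgroup G} (hL : IsCoatom L) (hNL : Subgroup.normalizer (A : Set G) ≤ L) :
    p ∈ Cfsg.sigma L := by
  have hAL : A ≤ L := Subgroup.le_normalizer.trans hNL
  have hAp : IsPGroup p ↥A := Cfsg.Agent.Lib.Helper4.BGTrans.isPGroup_of_elementary hAel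
  obtain ⟨S, hS, hAS⟩ := exists_isSylowIn_ge hAp hAL
  have hA1 : A ≠ ⊥ := ne_bot_of_card_sq hAc
  have hS1 : S ≠ ⊥ := by
    rintro rfl
    exact hA1 (le_bot_iff.mp hAS)
  exact Cfsg.Agent.Lib.helper3.BG11.mem_sigma_of_sylIn hS hS1
    (sylow_normalizer_le hG hM hp hAM hAel hAc hL hNL hS hAS)

/-- two subgroups of coprime orders normalizing each other commute elementwise -/
theorem comm_of_coprime_normalize {A B : Subgroup G}
    (hAB : A ≤ Subgroup.normalizer (B : Set G)) (hBA : B ≤ Subgroup.normalizer (A : Set G))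
    (hcop : (Nat.card ↥A).Coprime (Nat.card ↥B)) : B ≤ Subgroup.centralizer (A : Set G) := by
  have hinf : A ⊓ B = ⊥ := Subgroup.inf_eq_bot_of_coprime hcop
  intro b hb
  rw [Subgroup.mem_centralizer_iff]
  intro a ha
  have hcA : a * (b * a⁻¹ * b⁻¹) ∈ A := by
    have h1 := (Subgroup.mem_normalizer_iff.mp (hBA hb) a⁻¹).mp (A.inv_mem ha)
    exact A.mul_mem ha h1
  have hcB : a * b * a⁻¹ * b⁻¹ ∈ B := by
    have h1 := (Subgroup.mem_normalizer_iff.mp (hAB ha) b).mp hb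
    exact B.mul_mem h1 (B.inv_mem hb)
  have hc : a * b * a⁻¹ * b⁻¹ ∈ A ⊓ B := by
    refine ⟨?_, hcB⟩
    have : a * b * a⁻¹ * b⁻¹ = a * (b * a⁻¹ * b⁻¹) := by group
    rw [this]
    exact hcA
  rw [hinf, Subgroup.mem_bot] at hc
  have : a * b = b * a := by
    have h2 : a * b = (a * b * a⁻¹ * b⁻¹) * (b * a) := by group
    rw [h2, hc, one_mul]
  exact this

/-- **B&G Lemma 12.11(a)**: for `p ∈ τ₂(M)`, `A ≤ E` elementary abelian of order `p²` and a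
maximal subgroup `L ⊇ N_G(A)`: `τ₂(M) ⊆ σ(L) − β(L)`. -/
theorem tau2_subset_sigma (hG : Cfsg.IsMinSimpleOddOrder G) {M : Subgroup G} (hM : IsCoatom M)
    {E : Subgroup G} (hE : Cfsg.IsComplIn E (Cfsg.sigmaCore M) M) {p : ℕ} [hpf : Fact p.Prime]
    (hp : p ∈ Cfsg.tau2 M) {A : Subgroup G}
    (hA : A ≤ E ∧ Cfsg.IsElementaryAbelian p A ∧ Nat.card ↥A = p ^ 2) {L : Subgroup G}
    (hL : IsCoatom L) (hNL : Subgroup.normalizer (A : Set G) ≤ L) :
    ∀ q ∈ Cfsg.tau2 M, q ∈ Cfsg.sigma L ∧ q ∉ Cfsg.beta L := by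
  intro q hq
  haveI : Fact q.Prime := ⟨hq.1⟩
  have hU := Cfsg.Agent.H2.BG11.uniq hG
  refine ⟨?_, fun hβ => (Cfsg.Agent.S1408.result hG M hM q hq.2.1 hq.2.2.1 hq.2.2.2).1 hβ.2⟩
  have hEM : E ≤ M := hE.1
  have hpL : p ∈ Cfsg.sigma L :=
    mem_sigma_of_normalizer_le hG hM hp (hA.1.trans hEM) hA.2.1 hA.2.2 hL hNL
  by_cases hqp : q = p
  · rw [hqp]; exact hpL
  -- an elementary abelian `q²` inside `E`
  obtain ⟨B0, hB0M, hB0el, hB0c⟩ := Cfsg.Agent.H2.BG12.exists_elem_sq (p := q) (M := M) hq.2.2.2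
  have hqσM : ¬ q ∣ Nat.card ↥(Cfsg.sigmaCore M) :=
    Cfsg.Agent.Lib.helper3.BG11.not_dvd_sigmaCore hG hM hq.1 hq.2.1
  have hcopB0 : (Nat.card ↥B0).Coprime (Nat.card ↥(Cfsg.sigmaCore M)) := by
    rw [hB0c]
    exact Nat.Coprime.pow_left 2 ((Nat.Prime.coprime_iff_not_dvd hq.1).mpr hqσM)
  obtain ⟨m, hm, hB0m⟩ := Cfsg.Agent.H2.BG12.exists_cj_compl_ge hG hM hE hB0M hcopB0
  set B : Subgroup G := cj m⁻¹ B0 with hBdef
  have hBE : B ≤ E := by
    rw [hBdef, cj_le_iff, inv_inv]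
    exact hB0m
  have hBel : Cfsg.IsElementaryAbelian q B := Cfsg.Agent.H2.BG12.isElementaryAbelian_cj hB0el _
  have hBc : Nat.card ↥B = q ^ 2 := by rw [hBdef, card_cj]; exact hB0c
  have hAn := (Cfsg.Agent.S1418.result hG M hM E hE p hp A hA).1.1
  have hBn := (Cfsg.Agent.S1418.result hG M hM E hE q hq B ⟨hBE, hBel, hBc⟩).1.1
  have hcop : (Nat.card ↥A).Coprime (Nat.card ↥B) := by
    rw [hA.2.2, hBc]
    apply Nat.Coprime.pow
    exact (Nat.coprime_primes hpf.out hq.1).mpr (fun h => hqp h.symm)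
  have hBA : B ≤ Subgroup.centralizer (A : Set G) :=
    comm_of_coprime_normalize (hA.1.trans hBn) (hBE.trans hAn) hcop
  have hBL : B ≤ L := hBA.trans ((Subgroup.centralizer_le_normalizer (A : Set G)).trans hNL)
  by_contra hqσ
  -- `q ∈ τ₂(L)`
  have hq2 : Cfsg.PRankLE q 2 ↥L := by
    by_contra h2
    exact hqσ (alpha_subset_sigma hG hU hL ⟨hq.1, h2⟩)
  have hq1 : ¬ Cfsg.PRankLE q 1 ↥L := by
    apply Cfsg.Agent.Lib.Helper4.BGUniq.not_pRankLE_of_le hBel hBL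
    rw [hBc, pow_one]
    have := hq.1.one_lt
    nlinarith
  have hqτ : q ∈ Cfsg.tau2 L := ⟨hq.1, hqσ, hq2, hq1⟩
  have hLM : M ≠ L := by
    rintro rfl
    exact (Cfsg.Agent.S1418.result hG M hM E hE p hp A hA).2.1.2.2 hNL
  have h17 := (Cfsg.Agent.S1417.result hG L hL q hqτ B ⟨hBL, hBel, hBc⟩).2.2.2.2.1 M hM hLM
    (hBE.trans hEM)
  have hAp : IsPGroup p ↥A := Cfsg.Agent.Lib.Helper4.BGTrans.isPGroup_of_elementary hA.2.1
  have hAL : A ≤ L := Subgroup.le_normalizer.trans hNL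
  have hAσ : A ≤ Cfsg.sigmaCore L :=
    Cfsg.Agent.Lib.BG127H7.pGroup_le_sigmaCore hG hU hL hpf.out hpL hAp hAL
  have hAbot : A ≤ ⊥ := by
    rw [← h17]
    exact le_inf hAσ (hA.1.trans hEM)
  exact ne_bot_of_card_sq hA.2.2 (le_bot_iff.mp hAbot)

end Cfsg.Agent.H1.BG14
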