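import Mathlib
import Cfsg.Agent.H1.BG14A
import Cfsg.Agent.H1.CoprimeHall
import Cfsg.Agent.Lib.Helper4.BG13C
import Cfsg.Agent.Lib.helper3.BG12D
import Cfsg.Agent.Lib.Helper4.BGTwB
import Cfsg.Agent.Lib.Helper4.BGTransC
import Cfsg.Agent.S1415
import Cfsg.Agent.S1420
import Cfsg.Agent.S1428

/-!
# S1432 (the `κ`/`τ₂` dichotomy for `σ(M)'`-elements centralizing an element of `M_σ`)
conditionally on the frozen statements of S1351, S1354, S1430.
-/

set_option autoImplicit false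
set_option linter.unusedVariables false
set_option linter.unusedSectionVars false
set_option linter.style.haveILetI false

open scoped commutatorElement Pointwise

namespace Cfsg.Agent.H1.BG14

open Cfsg Cfsg.Agent.Lib.Helper8.BGTen
open Cfsg.Agent.Lib.Helper7 (IsSylowIn exists_isSylowIn_ge card_subgroupOf_of_le)

universe u

/-- the frozen statement of S1351 -/
def St1351 (G : Type u) [Group G] [Finite G] : Prop :=
  ∀ (M : Subgroup G), IsCoatom M →
    (∃ K : Subgroup G, Cfsg.IsPiHallOf (Cfsg.kappa M) K M) ∧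
      ∀ K : Subgroup G, Cfsg.IsPiHallOf (Cfsg.kappa M) K M → IsCyclic K

/-- the frozen statement of S1354 -/
def St1354 (G : Type u) [Group G] [Finite G] : Prop :=
  ∀ (M : Subgroup G), IsCoatom M → ∀ (K : Subgroup G), IsCyclic K →
    Cfsg.IsPiHallOf (Cfsg.kappa M) K M →
    Cfsg.sigmaCore M ⊓ Subgroup.centralizer (K : Set G) ≠ ⊥ ∧
      (K ≠ ⊥ → ∀ k ∈ K, k ≠ 1 →
        M ⊓ Subgroup.centralizer ({k} : Set G) =
          K ⊔ (Cfsg.sigmaCore M ⊓ Subgroup.centralizer (K : Set G)))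

/-- the frozen statement of S1430 -/
def St1430 (G : Type u) [Group G] [Finite G] : Prop :=
  ∀ (M : Subgroup G), IsCoatom M → ∀ (K : Subgroup G), Cfsg.IsPiHallOf (Cfsg.kappa M) K M →
    K ≠ ⊥ →
    (∀ k ∈ K, k ≠ 1 → Cfsg.sigmaCore M ⊓ Subgroup.centralizer ({k} : Set G) =
        (Cfsg.sigmaCore M ⊓ Subgroup.centralizer (K : Set G))) ∧
      (∃ U : Subgroup G, IsMulCommutative U ∧
        Cfsg.IsPiHallOf {q | q.Prime ∧ q ∉ Cfsg.kappa M ∧ q ∉ Cfsg.sigma M} U M ∧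
        K ≤ Subgroup.normalizer (U : Set G) ∧
        ∀ k ∈ K, k ≠ 1 → U ⊓ Subgroup.centralizer ({k} : Set G) = ⊥) ∧
      ∀ X : Subgroup G, X ≤ K → (Nat.card X).Prime →
        M ⊓ Subgroup.normalizer (X : Set G) =
            K ⊔ (Cfsg.sigmaCore M ⊓ Subgroup.centralizer (K : Set G)) ∧
          M ⊓ Subgroup.normalizer (K : Set G) =
            K ⊔ (Cfsg.sigmaCore M ⊓ Subgroup.centralizer (K : Set G)) ∧
          ∀ Mstar : Subgroup G, IsCoatom Mstar → Subgroup.normalizer (X : Set G) ≤ Mstar →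
            X ≤ Cfsg.sigmaCore Mstar

variable {G : Type u} [Group G] [Finite G]

/-- subgroups of equal order of a cyclic subgroup are equal -/
theorem eq_of_card_eq_of_le_isCyclic {C X Y : Subgroup G} (hc : IsCyclic ↥C) (hX : X ≤ C)
    (hY : Y ≤ C) (h : Nat.card ↥X = Nat.card ↥Y) : X = Y := by
  haveI := hc
  letI : CommGroup ↥C := IsCyclic.commGroup
  set n := Nat.card ↥X with hn
  have hker : Nat.card ↥(powMonoidHom n : ↥C →* ↥C).ker = n := by
    rw [IsCyclic.card_powMonoidHom_ker]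
    exact Nat.gcd_eq_right (hn ▸ Subgroup.card_dvd_of_le hX)
  have key : ∀ Z : Subgroup G, Z ≤ C → Nat.card ↥Z = n →
      Z.subgroupOf C = (powMonoidHom n : ↥C →* ↥C).ker := by
    intro Z hZ hZn
    apply Subgroup.eq_of_le_of_card_ge
    · intro z hz
      rw [MonoidHom.mem_ker, powMonoidHom_apply]
      apply Subtype.ext
      have h1 : (⟨z.1, hz⟩ : ↥Z) ^ Nat.card ↥Z = 1 := pow_card_eq_one'
      rw [hZn] at h1
      have h2 := congrArg Subtype.val h1
      simpa using h2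
    · rw [hker, card_subgroupOf_of_le hZ, hZn]
  have h1 := key X hX rfl
  have h2 := key Y hY h.symm
  have h3 : X.subgroupOf C = Y.subgroupOf C := h1.trans h2.symm
  calc X = (X.subgroupOf C).map C.subtype := (Subgroup.map_subgroupOf_eq_of_le hX).symm
    _ = (Y.subgroupOf C).map C.subtype := by rw [h3]
    _ = Y := Subgroup.map_subgroupOf_eq_of_le hY

/-- the order of a conjugate -/
theorem orderOf_conj' (g z : G) : orderOf (g * z * g⁻¹) = orderOf z := by
  have := orderOf_injective (MulAut.conj g).toMonoidHom (MulAut.conj g).injective z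
  simpa using this

/-- the element of order `p` in `⟨x⟩` -/
theorem orderOf_pow_div {x : G} {p : ℕ} (hp : p.Prime) (hpn : p ∣ orderOf x) :
    orderOf (x ^ (orderOf x / p)) = p := by
  have hpos : 0 < orderOf x := orderOf_pos x
  have h1 : orderOf x / p ≠ 0 := by
    intro h0
    have := Nat.div_mul_cancel hpn
    rw [h0, zero_mul] at this
    omega
  rw [orderOf_pow_of_dvd h1 (Nat.div_dvd_of_dvd hpn)]
  exact Nat.div_div_self hpn hpos.ne'

/-- a prime `p ∉ σ(M)` of rank one with an element of order `p` of `M` fixing a point of `M_σ`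
lies in `κ(M)` -/
theorem mem_kappa_of_fixed_point (hG : Cfsg.IsMinSimpleOddOrder G) {M : Subgroup G}
    (hM : IsCoatom M) {p : ℕ} [hp : Fact p.Prime] (hpσ : p ∉ Cfsg.sigma M)
    (hr : Cfsg.PRankLE p 1 ↥M) {z y : G} (hzM : z ∈ M) (hz : orderOf z = p)
    (hy : y ∈ Cfsg.sigmaCore M) (hy1 : y ≠ 1) (hzy : z * y = y * z) : p ∈ Cfsg.kappa M := by
  have hpM : p ∣ Nat.card ↥M := by
    rw [← hz]
    exact Subgroup.orderOf_dvd_natCard M hzM
  refine ⟨hp.out, hpM, hpσ, fun P => ⟨?_, ?_⟩⟩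
  · have hQ : IsCyclic ↥((P : Subgroup ↥M).map M.subtype) :=
      Cfsg.Agent.Lib.Helper4.BGTw.isCyclic_of_pRankLE_one hG hr (Subgroup.map_subtype_le _)
        (P.isPGroup'.map _)
    haveI := hQ
    let e := Subgroup.equivMapOfInjective (P : Subgroup ↥M) M.subtype M.subtype_injective
    exact isCyclic_of_surjective e.symm e.symm.surjective
  · have hS : IsSylowIn p ((P : Subgroup ↥M).map M.subtype) M :=
      Cfsg.Agent.Lib.Helper7.IsSylowIn.of_sylow P
    have hZp : IsPGroup p ↥(Subgroup.zpowers z) := by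
      apply IsPGroup.of_card (n := 1)
      rw [Nat.card_zpowers, hz, pow_one]
    have hZM : Subgroup.zpowers z ≤ M := by
      rw [Subgroup.zpowers_le]; exact hzM
    obtain ⟨Q, hQ, hZQ⟩ := exists_isSylowIn_ge hZp hZM
    obtain ⟨m, hm, hSm⟩ := hQ.conj hS
    have hx0 : m * z * m⁻¹ ∈ (P : Subgroup ↥M).map M.subtype := by
      have h1 : (P : Subgroup ↥M).map M.subtype = cj m Q := hSm
      rw [h1]
      exact conj_mem_cj (hZQ (Subgroup.mem_zpowers z))
    obtain ⟨w, hw, hwe⟩ := hx0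
    have hwe' : (w : G) = m * z * m⁻¹ := hwe
    have hz1 : z ≠ 1 := by
      rintro rfl
      rw [orderOf_one] at hz
      exact hp.out.one_lt.ne hz
    refine ⟨w, hw, ?_, m * y * m⁻¹, ?_, ?_, ?_⟩
    · intro h1
      apply hz1
      have h2 : (w : G) = 1 := by rw [h1]; rfl
      rw [hwe'] at h2
      have h3 : z = m⁻¹ * (m * z * m⁻¹) * m := by group
      rw [h3, h2, mul_one, inv_mul_cancel]
    · exact (Subgroup.mem_normalizer_iff.mp
        (Cfsg.Agent.H2.BG11.le_normalizer_sigmaCore M hm) y).mp hy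
    · intro h1
      apply hy1
      have h3 : y = m⁻¹ * (m * y * m⁻¹) * m := by group
      rw [h3, h1, mul_one, inv_mul_cancel]
    · rw [hwe']
      calc m * z * m⁻¹ * (m * y * m⁻¹) = m * (z * y) * m⁻¹ := by group
        _ = m * (y * z) * m⁻¹ := by rw [hzy]
        _ = m * y * m⁻¹ * (m * z * m⁻¹) := by group

/-- primes of `κ(M)` have rank one and lie in `τ₁(M) ∪ τ₃(M)` -/
theorem tau13_of_mem_kappa (hG : Cfsg.IsMinSimpleOddOrder G) {M : Subgroup G}
    (hM : IsCoatom M) {p : ℕ} (hκ : p ∈ Cfsg.kappa M) :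
    Cfsg.PRankLE p 1 ↥M ∧ (p ∈ Cfsg.tau1 M ∨ p ∈ Cfsg.tau3 M) := by
  obtain ⟨hp, hpM, hpσ, hall⟩ := hκ
  haveI : Fact p.Prime := ⟨hp⟩
  obtain ⟨P⟩ : Nonempty (Sylow p ↥M) := inferInstance
  have hc := (hall P).1
  have hS : IsSylowIn p ((P : Subgroup ↥M).map M.subtype) M :=
    Cfsg.Agent.Lib.Helper7.IsSylowIn.of_sylow P
  have hc' : IsCyclic ↥((P : Subgroup ↥M).map M.subtype) := by
    haveI := hc
    let e := Subgroup.equivMapOfInjective (P : Subgroup ↥M) M.subtype M.subtype_injective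
    exact isCyclic_of_surjective e e.surjective
  have hr : Cfsg.PRankLE p 1 ↥M := Cfsg.Agent.Lib.helper3.BG12.pRankLE_one_of_cyclic_sylow hS hc'
  refine ⟨hr, ?_⟩
  by_cases h2 : p ∣ Nat.card ↥⁅M, M⁆
  · exact Or.inr ⟨hp, hpσ, h2, hr⟩
  · exact Or.inl ⟨hp, hpσ, hpM, h2, hr⟩

/-- `K` normalizes `K* = M_σ ∩ C(K)` -/
theorem le_normalizer_Kstar {M K : Subgroup G} (hKM : K ≤ M) :
    K ≤ Subgroup.normalizer
      ((Cfsg.sigmaCore M ⊓ Subgroup.centralizer (K : Set G) : Subgroup G) : Set G) := by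
  intro g hg
  have h1 : g ∈ Subgroup.normalizer (Cfsg.sigmaCore M : Set G) :=
    Cfsg.Agent.H2.BG11.le_normalizer_sigmaCore M (hKM hg)
  rw [Subgroup.mem_normalizer_iff] at h1 ⊢
  intro x
  rw [Subgroup.mem_inf, Subgroup.mem_inf]
  constructor
  · rintro ⟨hx1, hx2⟩
    refine ⟨(h1 x).mp hx1, ?_⟩
    rw [Subgroup.mem_centralizer_iff] at hx2 ⊢
    intro k hk
    have hk' : g⁻¹ * k * g ∈ K := K.mul_mem (K.mul_mem (K.inv_mem hg) hk) hg
    have h2 := hx2 _ hk'
    calc k * (g * x * g⁻¹) = g * ((g⁻¹ * k * g) * x) * g⁻¹ := by group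
      _ = g * (x * (g⁻¹ * k * g)) * g⁻¹ := by rw [h2]
      _ = g * x * g⁻¹ * k := by group
  · rintro ⟨hx1, hx2⟩
    refine ⟨(h1 x).mpr hx1, ?_⟩
    rw [Subgroup.mem_centralizer_iff] at hx2 ⊢
    intro k hk
    have hk' : g * k * g⁻¹ ∈ K := K.mul_mem (K.mul_mem hg hk) (K.inv_mem hg)
    have h2 := hx2 _ hk'
    have h3 : g * k * g⁻¹ * (g * x * g⁻¹) = g * (k * x) * g⁻¹ := by group
    have h4 : g * x * g⁻¹ * (g * k * g⁻¹) = g * (x * k) * g⁻¹ := by group
    rw [h3, h4] at h2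
    have h5 := mul_left_cancel (mul_right_cancel h2)
    exact h5

/-- the prime divisors of the order of an element of `C_M(k)`, `k ∈ K − 1`, lie in
`κ(M) ∪ σ(M)` -/
theorem prime_of_centralizer (hG : Cfsg.IsMinSimpleOddOrder G) {M : Subgroup G} (hM : IsCoatom M)
    (h54 : St1354 G) {K : Subgroup G} (hKc : IsCyclic ↥K)
    (hK : Cfsg.IsPiHallOf (Cfsg.kappa M) K M) {k : G} (hk : k ∈ K) (hk1 : k ≠ 1) {w : G}
    (hwM : w ∈ M) (hwk : k * w = w * k) {q : ℕ} (hq : q.Prime) (hqw : q ∣ orderOf w) :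
    q ∈ Cfsg.kappa M ∨ q ∈ Cfsg.sigma M := by
  have hK1 : K ≠ ⊥ := by
    intro h
    rw [h, Subgroup.mem_bot] at hk
    exact hk1 hk
  have h := (h54 M hM K hKc hK).2 hK1 k hk hk1
  have hw : w ∈ M ⊓ Subgroup.centralizer ({k} : Set G) := by
    rw [Subgroup.mem_inf]
    refine ⟨hwM, ?_⟩
    rw [Subgroup.mem_centralizer_iff]
    intro c hc
    rw [Set.mem_singleton_iff] at hc
    rw [hc]; exact hwk
  rw [h] at hw
  have h1 : orderOf w ∣ Nat.card ↥(K ⊔ (Cfsg.sigmaCore M ⊓ Subgroup.centralizer (K : Set G))) :=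
    Subgroup.orderOf_dvd_natCard _ hw
  have h2 := Cfsg.Agent.Lib.BG127H7.card_sup_dvd_of_le_normalizer (le_normalizer_Kstar hK.1)
  have h3 : q ∣ Nat.card ↥K *
      Nat.card ↥(Cfsg.sigmaCore M ⊓ Subgroup.centralizer (K : Set G) : Subgroup G) :=
    (hqw.trans h1).trans h2
  rcases (Nat.Prime.dvd_mul hq).mp h3 with h4 | h4
  · exact Or.inl (hK.2.1 q hq h4)
  · right
    apply Cfsg.Agent.H2.BG11.mem_sigma_of_dvd_sigmaCore hG hM hq
    exact h4.trans (Subgroup.card_dvd_of_le inf_le_left)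

/-- a `σ(M)'`-subgroup of `M` lies in a complement of `M_σ` -/
theorem exists_compl_ge (hG : Cfsg.IsMinSimpleOddOrder G) {M : Subgroup G} (hM : IsCoatom M)
    {K : Subgroup G} (hKM : K ≤ M)
    (hcop : (Nat.card ↥K).Coprime (Nat.card ↥(Cfsg.sigmaCore M))) :
    ∃ E : Subgroup G, Cfsg.IsComplIn E (Cfsg.sigmaCore M) M ∧ K ≤ E := by
  obtain ⟨E0, hE0⟩ := Cfsg.Agent.Lib.helper3.BG12.exists_compl hG hM
  obtain ⟨m, hm, hKm⟩ := Cfsg.Agent.H2.BG12.exists_cj_compl_ge hG hM hE0 hKM hcop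
  exact ⟨cj m E0, Cfsg.Agent.H2.BG12.compl_cj hE0 hm, hKm⟩

/-- a Hall `κ(M)`-subgroup has order coprime to `|M_σ|` -/
theorem coprime_kappa_hall (hG : Cfsg.IsMinSimpleOddOrder G) {M : Subgroup G} (hM : IsCoatom M)
    {K : Subgroup G} (hK : Cfsg.IsPiHallOf (Cfsg.kappa M) K M) :
    (Nat.card ↥K).Coprime (Nat.card ↥(Cfsg.sigmaCore M)) := by
  apply Nat.coprime_of_dvd
  intro q hq hd1 hd2
  have h1 : q ∈ Cfsg.kappa M := hK.2.1 q hq hd1
  exact h1.2.2.1 (Cfsg.Agent.H2.BG11.mem_sigma_of_dvd_sigmaCore hG hM hq hd2)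

/-- a solvable nontrivial subgroup is not contained in its derived subgroup -/
theorem not_le_commutator_self (hG : Cfsg.IsMinSimpleOddOrder G) {E : Subgroup G} (hEt : E ≠ ⊤)
    (hE1 : E ≠ ⊥) : ¬ E ≤ ⁅E, E⁆ := by
  intro h
  haveI : Group.IsSolvable ↥E := hG.2.2.2 E hEt
  haveI : Nontrivial ↥E := (Subgroup.nontrivial_iff_ne_bot E).mpr hE1
  have h1 := IsSolvable.commutator_lt_top_of_nontrivial ↥E
  have h2 : (commutator ↥E).map E.subtype = ⁅E, E⁆ := Subgroup.map_subtype_commutator E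
  have h3' : ⁅E, E⁆ ≤ E := by
    rw [Subgroup.commutator_le]
    intro a ha b hb
    rw [commutatorElement_def]
    exact E.mul_mem (E.mul_mem (E.mul_mem ha hb) (E.inv_mem ha)) (E.inv_mem hb)
  have h3 : ⁅E, E⁆ = E := le_antisymm h3' h
  have h4 : (commutator ↥E).map E.subtype = (⊤ : Subgroup ↥E).map E.subtype := by
    rw [h2, h3, ← MonoidHom.range_eq_map, Subgroup.range_subtype]
  have h5 := Subgroup.map_injective E.subtype_injective h4
  exact h1.ne h5

/-- **`K` contains a `τ₁(M)`-element** (given the frozen S1430): some prime of `τ₁(M)` divides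
`|K|`. -/
theorem exists_tau1_dvd_card (hG : Cfsg.IsMinSimpleOddOrder G) {M : Subgroup G} (hM : IsCoatom M)
    (h30 : St1430 G) {K : Subgroup G} (hK : Cfsg.IsPiHallOf (Cfsg.kappa M) K M) (hK1 : K ≠ ⊥) :
    ∃ p, p ∈ Cfsg.tau1 M ∧ p ∣ Nat.card ↥K := by
  by_contra hno
  push Not at hno
  have hKτ3 : ∀ r : ℕ, r.Prime → r ∣ Nat.card ↥K → r ∈ Cfsg.tau3 M := by
    intro r hr hrK
    rcases (tau13_of_mem_kappa hG hM (hK.2.1 r hr hrK)).2 with h | h
    · exact absurd hrK (hno r h)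
    · exact h
  obtain ⟨E, hE, hKE⟩ := exists_compl_ge hG hM hK.1 (coprime_kappa_hall hG hM hK)
  have hEM : E ≤ M := hE.1
  have hEt : E ≠ ⊤ := Cfsg.Agent.H2.BGU.ne_top_of_le_coatom hM hEM
  have hsolvE : Group.IsSolvable ↥E := hG.2.2.2 E hEt
  obtain ⟨E3, hE3⟩ := Cfsg.Agent.H1.exists_isPiHallOf (Cfsg.tau3 M) E hsolvE
  obtain ⟨hE3c, hE3d, hE3n⟩ := (Cfsg.Agent.S1415.result hG M hM E hE).2.2 E3 hE3
  -- `K ≤ E₃`
  obtain ⟨e, he, hKe⟩ := Cfsg.Agent.H1.isPiHallOf_dominance (Cfsg.tau3 M) E3 E K hsolvE hE3 hKE hKτ3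
  have hKE3 : K ≤ E3 := by
    have : cj e E3 = E3 := cj_eq_of_mem_normalizer (hE3n he)
    rw [← this]; exact hKe
  -- `E ≤ N(K)`
  have hEN : E ≤ Subgroup.normalizer (K : Set G) := by
    intro g hg
    apply mem_normalizer_of_cj_eq
    have h1 : cj g K ≤ E3 := by
      have : cj g E3 = E3 := cj_eq_of_mem_normalizer (hE3n hg)
      rw [← this]; exact cj_mono g hKE3
    exact eq_of_card_eq_of_le_isCyclic hE3c h1 hKE3 (card_cj g K)
  -- a subgroup of prime order of `K`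
  have hcardK : Nat.card ↥K ≠ 1 := by
    intro h
    exact hK1 (Subgroup.card_eq_one.mp h)
  obtain ⟨r, hr, hrK⟩ := Nat.exists_prime_and_dvd hcardK
  haveI : Fact r.Prime := ⟨hr⟩
  obtain ⟨c, hc⟩ := exists_prime_orderOf_dvd_card' r hrK
  have hX0 : Subgroup.zpowers (c : G) ≤ K := by
    rw [Subgroup.zpowers_le]; exact c.2
  have hX0c : (Nat.card ↥(Subgroup.zpowers (c : G))).Prime := by
    rw [Nat.card_zpowers, Subgroup.orderOf_coe, hc]; exact hr
  have hNK := ((h30 M hM K hK hK1).2.2 _ hX0 hX0c).2.1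
  have hEKK : E ≤ K ⊔ (Cfsg.sigmaCore M ⊓ Subgroup.centralizer (K : Set G)) := by
    rw [← hNK]; exact le_inf hEM hEN
  have hd1 : Nat.card ↥E ∣ Nat.card ↥K *
      Nat.card ↥(Cfsg.sigmaCore M ⊓ Subgroup.centralizer (K : Set G) : Subgroup G) :=
    (Subgroup.card_dvd_of_le hEKK).trans
      (Cfsg.Agent.Lib.BG127H7.card_sup_dvd_of_le_normalizer (le_normalizer_Kstar hK.1))
  have hcopE := Cfsg.Agent.H2.BG12.coprime_compl hG hM hE
  have hcop2 : (Nat.card ↥E).Coprime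
      (Nat.card ↥(Cfsg.sigmaCore M ⊓ Subgroup.centralizer (K : Set G) : Subgroup G)) :=
    Nat.Coprime.coprime_dvd_right (Subgroup.card_dvd_of_le inf_le_left) hcopE
  have hd2 : Nat.card ↥E ∣ Nat.card ↥K := hcop2.dvd_of_dvd_mul_right hd1
  have hEK : K = E := Subgroup.eq_of_le_of_card_ge hKE (Nat.le_of_dvd Nat.card_pos hd2)
  have hE1 : E ≠ ⊥ := hEK ▸ hK1
  apply not_le_commutator_self hG hEt hE1
  rw [← hEK] at hE3d
  calc E = K := hEK.symm
    _ ≤ E3 := hKE3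
    _ ≤ ⁅K, K⁆ := hE3d
    _ = ⁅E, E⁆ := by rw [hEK]

/-- for `y ∈ K* − 1`, `C_G(y) ≤ M` (given the frozen S1430; uses (α) = B&G 13.6) -/
theorem centralizer_le_of_mem_Kstar (hG : Cfsg.IsMinSimpleOddOrder G) {M : Subgroup G}
    (hM : IsCoatom M) (h30 : St1430 G) {K : Subgroup G}
    (hK : Cfsg.IsPiHallOf (Cfsg.kappa M) K M) (hK1 : K ≠ ⊥) {y : G}
    (hy : y ∈ Cfsg.sigmaCore M ⊓ Subgroup.centralizer (K : Set G)) (hy1 : y ≠ 1) :
    Subgroup.centralizer ({y} : Set G) ≤ M := by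
  obtain ⟨p, hpτ, hpK⟩ := exists_tau1_dvd_card hG hM h30 hK hK1
  haveI : Fact p.Prime := ⟨hpτ.1⟩
  obtain ⟨c, hc⟩ := exists_prime_orderOf_dvd_card' p hpK
  set P : Subgroup G := Subgroup.zpowers (c : G) with hP
  have hPK : P ≤ K := by
    rw [hP, Subgroup.zpowers_le]; exact c.2
  have hPc : Nat.card ↥P = p := by
    rw [hP, Nat.card_zpowers, Subgroup.orderOf_coe, hc]
  obtain ⟨E, hE, hKE⟩ := exists_compl_ge hG hM hK.1 (coprime_kappa_hall hG hM hK)
  -- a subgroup of prime order of `⟨y⟩`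
  have hoy : orderOf y ≠ 1 := by
    intro h
    exact hy1 (orderOf_eq_one_iff.mp h)
  obtain ⟨q, hq, hqy⟩ := Nat.exists_prime_and_dvd hoy
  haveI : Fact q.Prime := ⟨hq⟩
  set t : G := y ^ (orderOf y / q) with ht
  have hto : orderOf t = q := orderOf_pow_div hq hqy
  set X : Subgroup G := Subgroup.zpowers t with hX
  have hXc : Nat.card ↥X = q := by rw [hX, Nat.card_zpowers, hto]
  have hXD : X ≤ Cfsg.sigmaCore M ⊓ Subgroup.centralizer (P : Set G) := by
    rw [hX, Subgroup.zpowers_le]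
    refine ⟨Subgroup.pow_mem _ hy.1 _, ?_⟩
    apply Subgroup.pow_mem
    exact Subgroup.centralizer_le (show (P : Set G) ⊆ K from hPK) hy.2
  have h28 : Cfsg.Agent.Lib.Helper4.BG13.Hyp1428 G :=
    fun M hM E hE p hp P hPE hP R hRE hR =>
      Cfsg.Agent.S1428.result hG M hM E hE p hp P hPE hP R hRE hR
  have hα := (Cfsg.Agent.Lib.Helper4.BG13.cent_cent_sigmaCore_tau1_uniq hG h28 hM hE hpτ
    (hPK.trans hKE) hPc hXD hXc).2.1.1
  refine le_trans ?_ hα
  intro g hg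
  rw [Subgroup.mem_centralizer_iff] at hg ⊢
  have hgy : Commute y g := hg y (Set.mem_singleton y)
  intro x hx
  obtain ⟨j, rfl⟩ := Subgroup.mem_zpowers_iff.mp hx
  exact ((hgy.pow_left _).zpow_left j)

/-- **S1432**, conditionally on the frozen statements of S1351, S1354, S1430. -/
theorem s1432_of (hG : Cfsg.IsMinSimpleOddOrder G) (h51 : St1351 G) (h54 : St1354 G)
    (h30 : St1430 G) (M : Subgroup G) (hM : IsCoatom M) (x : G) (hx : x ∈ Cfsg.sigmaCore M)
    (hx1 : x ≠ 1) (x' : G) (hx' : x' ∈ M ⊓ Subgroup.centralizer ({x} : Set G)) (hx'1 : x' ≠ 1)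
    (hσ : ∀ p : ℕ, p.Prime → p ∣ orderOf x' → p ∉ Cfsg.sigma M) :
    ((∀ p : ℕ, p.Prime → p ∣ orderOf x' → p ∈ Cfsg.kappa M) ∧
        Subgroup.centralizer ({x} : Set G) ≤ M) ∨
      ((∀ p : ℕ, p.Prime → p ∣ orderOf x' → p ∈ Cfsg.tau2 M) ∧
        (∃ L : Subgroup G, IsCoatom L ∧ ∀ p : ℕ, p.Prime → p ∣ orderOf x' → p ∈ Cfsg.sigma L) ∧
        (Subgroup.centralizer ({x'} : Set G) ≤ M ∧
          ∀ L : Subgroup G, IsCoatom L → Subgroup.centralizer ({x'} : Set G) ≤ L → L = M)) := by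
  have hx'M : x' ∈ M := hx'.1
  have hxx' : x * x' = x' * x :=
    (Subgroup.mem_centralizer_iff.mp hx'.2) x (Set.mem_singleton x)
  have hsolvM : Group.IsSolvable ↥M := hG.2.2.2 M hM.1
  obtain ⟨⟨K, hK⟩, hcyc⟩ := h51 M hM
  have hKc : IsCyclic ↥K := hcyc K hK
  -- Step A
  have hA : ∀ p : ℕ, p.Prime → p ∣ orderOf x' → p ∈ Cfsg.kappa M ∨ p ∈ Cfsg.tau2 M := by
    intro p hp hpn
    haveI : Fact p.Prime := ⟨hp⟩
    have hpσ := hσ p hp hpn
    have hpM : p ∣ Nat.card ↥M := hpn.trans (Subgroup.orderOf_dvd_natCard M hx'M)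
    have hzo := orderOf_pow_div hp hpn
    have hzM : x' ^ (orderOf x' / p) ∈ M := M.pow_mem hx'M _
    have hzx : x' ^ (orderOf x' / p) * x = x * x' ^ (orderOf x' / p) := by
      have : Commute x' x := hxx'.symm
      exact this.pow_left _
    rcases Cfsg.Agent.H2.BG13.tau_cases hG hM hp hpM hpσ with h | h | h
    · exact Or.inl (mem_kappa_of_fixed_point hG hM hpσ h.2.2.2.2 hzM hzo hx hx1 hzx)
    · exact Or.inr h
    · exact Or.inl (mem_kappa_of_fixed_point hG hM hpσ h.2.2.2 hzM hzo hx hx1 hzx)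
  -- Step B: no mixing
  have hB : ∀ p : ℕ, p.Prime → p ∣ orderOf x' → p ∈ Cfsg.kappa M →
      ∀ q : ℕ, q.Prime → q ∣ orderOf x' → q ∈ Cfsg.kappa M := by
    intro p hp hpn hpκ q hq hqn
    by_contra hqκ
    set zp : G := x' ^ (orderOf x' / p) with hzp
    set zq : G := x' ^ (orderOf x' / q) with hzq
    have hzpo : orderOf zp = p := orderOf_pow_div hp hpn
    have hzqo : orderOf zq = q := orderOf_pow_div hq hqn
    have hZp : Subgroup.zpowers zp ≤ M := by
      rw [Subgroup.zpowers_le]; exact M.pow_mem hx'M _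
    have hPi : Cfsg.Agent.H1.PiNum (Cfsg.kappa M) (Nat.card ↥(Subgroup.zpowers zp)) := by
      intro r hr hrd
      rw [Nat.card_zpowers, hzpo] at hrd
      rw [(Nat.prime_dvd_prime_iff_eq hr hp).mp hrd]
      exact hpκ
    obtain ⟨g, hg, hle⟩ := Cfsg.Agent.H1.isPiHallOf_dominance (Cfsg.kappa M) K M _ hsolvM hK hZp hPi
    have hk : g⁻¹ * zp * g ∈ K := mem_cj.mp (hle (Subgroup.mem_zpowers zp))
    have hzp1 : zp ≠ 1 := by
      intro h
      rw [h, orderOf_one] at hzpo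
      exact hp.one_lt.ne hzpo
    have hk1 : g⁻¹ * zp * g ≠ 1 := by
      intro h
      apply hzp1
      have h3 : zp = g * (g⁻¹ * zp * g) * g⁻¹ := by group
      rw [h3, h, mul_one, mul_inv_cancel]
    have hwM : g⁻¹ * zq * g ∈ M := M.mul_mem (M.mul_mem (M.inv_mem hg) (M.pow_mem hx'M _)) hg
    have hcomm : zp * zq = zq * zp := (Commute.refl x').pow_pow _ _
    have hwk : g⁻¹ * zp * g * (g⁻¹ * zq * g) = g⁻¹ * zq * g * (g⁻¹ * zp * g) := by
      calc g⁻¹ * zp * g * (g⁻¹ * zq * g) = g⁻¹ * (zp * zq) * g := by group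
        _ = g⁻¹ * (zq * zp) * g := by rw [hcomm]
        _ = g⁻¹ * zq * g * (g⁻¹ * zp * g) := by group
    have hwo : orderOf (g⁻¹ * zq * g) = q := by
      have := orderOf_conj' g⁻¹ zq
      rw [inv_inv] at this
      rw [this, hzqo]
    rcases prime_of_centralizer hG hM h54 hKc hK hk hk1 hwM hwk hq (hwo ▸ dvd_rfl) with h | h
    · exact hqκ h
    · exact hσ q hq hqn h
  by_cases hex : ∃ p : ℕ, p.Prime ∧ p ∣ orderOf x' ∧ p ∈ Cfsg.kappa M
  · -- all primes in `κ(M)`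
    obtain ⟨p, hp, hpn, hpκ⟩ := hex
    have hall : ∀ q : ℕ, q.Prime → q ∣ orderOf x' → q ∈ Cfsg.kappa M := hB p hp hpn hpκ
    refine Or.inl ⟨hall, ?_⟩
    have hZ : Subgroup.zpowers x' ≤ M := by
      rw [Subgroup.zpowers_le]; exact hx'M
    have hPi : Cfsg.Agent.H1.PiNum (Cfsg.kappa M) (Nat.card ↥(Subgroup.zpowers x')) := by
      intro r hr hrd
      rw [Nat.card_zpowers] at hrd
      exact hall r hr hrd
    obtain ⟨g, hg, hle⟩ := Cfsg.Agent.H1.isPiHallOf_dominance (Cfsg.kappa M) K M _ hsolvM hK hZ hPi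
    have hk : g⁻¹ * x' * g ∈ K := mem_cj.mp (hle (Subgroup.mem_zpowers x'))
    have hk1 : g⁻¹ * x' * g ≠ 1 := by
      intro h
      apply hx'1
      have h3 : x' = g * (g⁻¹ * x' * g) * g⁻¹ := by group
      rw [h3, h, mul_one, mul_inv_cancel]
    have hK1 : K ≠ ⊥ := by
      intro h
      rw [h, Subgroup.mem_bot] at hk
      exact hk1 hk
    have hginv : g⁻¹ ∈ M := M.inv_mem hg
    have hyσ : g⁻¹ * x * g ∈ Cfsg.sigmaCore M := by
      have := (Subgroup.mem_normalizer_iff.mp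
        (Cfsg.Agent.H2.BG11.le_normalizer_sigmaCore M hginv) x).mp hx
      rwa [inv_inv] at this
    have hy1 : g⁻¹ * x * g ≠ 1 := by
      intro h
      apply hx1
      have h3 : x = g * (g⁻¹ * x * g) * g⁻¹ := by group
      rw [h3, h, mul_one, mul_inv_cancel]
    have hyk : g⁻¹ * x * g ∈ Subgroup.centralizer ({g⁻¹ * x' * g} : Set G) := by
      rw [Subgroup.mem_centralizer_iff]
      intro c hc
      rw [Set.mem_singleton_iff] at hc
      rw [hc]
      calc g⁻¹ * x' * g * (g⁻¹ * x * g) = g⁻¹ * (x' * x) * g := by group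
        _ = g⁻¹ * (x * x') * g := by rw [hxx']
        _ = g⁻¹ * x * g * (g⁻¹ * x' * g) := by group
    have hyKs : g⁻¹ * x * g ∈ Cfsg.sigmaCore M ⊓ Subgroup.centralizer (K : Set G) := by
      rw [← (h30 M hM K hK hK1).1 _ hk hk1]
      exact ⟨hyσ, hyk⟩
    have hCy := centralizer_le_of_mem_Kstar hG hM h30 hK hK1 hyKs hy1
    intro c hc
    rw [Subgroup.mem_centralizer_iff] at hc
    have hcx : x * c = c * x := hc x (Set.mem_singleton x)
    have h1 : g⁻¹ * c * g ∈ Subgroup.centralizer ({g⁻¹ * x * g} : Set G) := by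
      rw [Subgroup.mem_centralizer_iff]
      intro d hd
      rw [Set.mem_singleton_iff] at hd
      rw [hd]
      calc g⁻¹ * x * g * (g⁻¹ * c * g) = g⁻¹ * (x * c) * g := by group
        _ = g⁻¹ * (c * x) * g := by rw [hcx]
        _ = g⁻¹ * c * g * (g⁻¹ * x * g) := by group
    have h2 : g⁻¹ * c * g ∈ M := hCy h1
    have h3 : c = g * (g⁻¹ * c * g) * g⁻¹ := by group
    rw [h3]
    exact M.mul_mem (M.mul_mem hg h2) hginv
  · -- all primes in `τ₂(M)`
    push Not at hex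
    have hall : ∀ q : ℕ, q.Prime → q ∣ orderOf x' → q ∈ Cfsg.tau2 M := by
      intro q hq hqn
      rcases hA q hq hqn with h | h
      · exact absurd h (hex q hq hqn)
      · exact h
    refine Or.inr ⟨hall, ?_, ?_⟩
    · have hox : orderOf x' ≠ 1 := by
        intro h
        exact hx'1 (orderOf_eq_one_iff.mp h)
      obtain ⟨p, hp, hpn⟩ := Nat.exists_prime_and_dvd hox
      haveI : Fact p.Prime := ⟨hp⟩
      have hpτ := hall p hp hpn
      obtain ⟨A0, hA0M, hA0el, hA0c⟩ :=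
        Cfsg.Agent.H2.BG12.exists_elem_sq (p := p) (M := M) hpτ.2.2.2
      have hA0cop : (Nat.card ↥A0).Coprime (Nat.card ↥(Cfsg.sigmaCore M)) := by
        rw [hA0c]
        apply Nat.Coprime.pow_left
        exact (Nat.Prime.coprime_iff_not_dvd hp).mpr
          (Cfsg.Agent.Lib.helper3.BG11.not_dvd_sigmaCore hG hM hp hpτ.2.1)
      obtain ⟨E, hE, hA0E⟩ := exists_compl_ge hG hM hA0M hA0cop
      have hA01 : A0 ≠ ⊥ := ne_bot_of_card_sq hA0c
      have hA0t : A0 ≠ ⊤ := Cfsg.Agent.H2.BGU.ne_top_of_le_coatom hM hA0M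
      have hNt := normalizer_ne_top' hG hA01 hA0t
      obtain ⟨L, hL, hNL⟩ := Cfsg.Agent.H2.BGU.exists_coatom_ge hNt
      refine ⟨L, hL, fun q hq hqn => ?_⟩
      exact (tau2_subset_sigma hG hM hE hpτ ⟨hA0E, hA0el, hA0c⟩ hL hNL q (hall q hq hqn)).1
    · obtain ⟨E, hE⟩ := Cfsg.Agent.Lib.helper3.BG12.exists_compl hG hM
      apply (Cfsg.Agent.S1420.result hG M hM E hE).2.2.2 x' hx'M hx'1 hall
      exact ⟨hx'M, x, hx, hx1, hxx'.symm⟩

end Cfsg.Agent.H1.BG14
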