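import Mathlib
import Cfsg.Agent.H1.BG14B
import Cfsg.Agent.Lib.Helper4.BG14C
import Cfsg.Agent.Lib.Helper4.BG13D
import Cfsg.Agent.Lib.Helper5.BG1218F3
import Cfsg.Agent.S1378

/-!
# S1432 from the single hypothesis `HypC3` (helper4's `Cfsg.Agent.Lib.Helper4.BG14.HypC3`)

No Hall `κ(M)`-subgroup is needed:
* mixing of a `κ(M)`-prime `p` and a `τ₂(M)`-prime: `p ∈ τ₃(M)` is excluded by B&G 12.6(e)
  (helper5's `no_tau3_elt`), `p ∈ τ₁(M)` by helper4's COR 2 (`not_le_centralizer_tau2'`);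
* `C_G(x) ≤ M` in the `κ`-case: (α) (helper4's `alpha_uniq`) if a `τ₁(M)`-prime divides `o(x')`,
  `HypC3` otherwise;
* the `τ₂`-case: S1420(d) and B&G 12.11(a).
-/

set_option autoImplicit false
set_option linter.unusedVariables false
set_option linter.unusedSectionVars false
set_option linter.style.haveILetI false

open scoped commutatorElement Pointwise

namespace Cfsg.Agent.H1.BG14

open Cfsg Cfsg.Agent.Lib.Helper8.BGTen
open Cfsg.Agent.Lib.Helper7 (IsSylowIn exists_isSylowIn_ge card_subgroupOf_of_le)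

universe u
variable {G : Type u} [Group G] [Finite G]

/-- the σ-partition (S1378) in helper4's form -/
theorem hypPart (hG : Cfsg.IsMinSimpleOddOrder G) : Cfsg.Agent.Lib.Helper4.BG14.HypPart G :=
  fun M N hM hN h => (Cfsg.Agent.S1378.result hG).2 M N hM hN h

/-- the centralizer of an element lies in the centralizer of each cyclic subgroup generated by
one of its powers -/
theorem centralizer_singleton_le_zpowers_pow (y : G) (k : ℕ) :
    Subgroup.centralizer ({y} : Set G) ≤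
      Subgroup.centralizer ((Subgroup.zpowers (y ^ k) : Subgroup G) : Set G) := by
  intro g hg
  rw [Subgroup.mem_centralizer_iff] at hg ⊢
  have hgy : Commute y g := hg y (Set.mem_singleton y)
  intro x hx
  obtain ⟨j, rfl⟩ := Subgroup.mem_zpowers_iff.mp hx
  exact ((hgy.pow_left _).zpow_left j)

/-- two commuting elements of `M` of prime orders outside `σ(M)` lie in a common complement -/
theorem exists_compl_ge_pair (hG : Cfsg.IsMinSimpleOddOrder G) {M : Subgroup G} (hM : IsCoatom M)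
    {a b : G} (haM : a ∈ M) (hbM : b ∈ M) (hab : a * b = b * a) {p q : ℕ} (hp : p.Prime)
    (hq : q.Prime) (hao : orderOf a = p) (hbo : orderOf b = q) (hpσ : p ∉ Cfsg.sigma M)
    (hqσ : q ∉ Cfsg.sigma M) :
    ∃ E : Subgroup G, Cfsg.IsComplIn E (Cfsg.sigmaCore M) M ∧ Subgroup.zpowers a ≤ E ∧
      Subgroup.zpowers b ≤ E := by
  set Y : Subgroup G := Subgroup.zpowers a ⊔ Subgroup.zpowers b with hY
  have hYM : Y ≤ M := by
    rw [hY]
    exact sup_le (Subgroup.zpowers_le.mpr haM) (Subgroup.zpowers_le.mpr hbM)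
  have hnorm : Subgroup.zpowers a ≤ Subgroup.normalizer ((Subgroup.zpowers b : Subgroup G) : Set G) := by
    have h1 : Subgroup.zpowers a ≤ Subgroup.centralizer ((Subgroup.zpowers b : Subgroup G) : Set G) := by
      rw [Subgroup.zpowers_le, Subgroup.mem_centralizer_iff]
      intro x hx
      obtain ⟨j, rfl⟩ := Subgroup.mem_zpowers_iff.mp hx
      have : Commute b a := hab.symm
      exact (this.zpow_left j)
    exact h1.trans (Subgroup.centralizer_le_normalizer _)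
  have hd : Nat.card ↥Y ∣ p * q := by
    have := Cfsg.Agent.Lib.BG127H7.card_sup_dvd_of_le_normalizer hnorm
    rwa [Nat.card_zpowers, Nat.card_zpowers, hao, hbo] at this
  have hcop : (Nat.card ↥Y).Coprime (Nat.card ↥(Cfsg.sigmaCore M)) := by
    apply Nat.Coprime.coprime_dvd_left hd
    apply Nat.Coprime.mul_left
    · exact (Nat.Prime.coprime_iff_not_dvd hp).mpr
        (Cfsg.Agent.Lib.helper3.BG11.not_dvd_sigmaCore hG hM hp hpσ)
    · exact (Nat.Prime.coprime_iff_not_dvd hq).mpr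
        (Cfsg.Agent.Lib.helper3.BG11.not_dvd_sigmaCore hG hM hq hqσ)
  obtain ⟨E, hE, hYE⟩ := exists_compl_ge hG hM hYM hcop
  exact ⟨E, hE, le_sup_left.trans hYE, le_sup_right.trans hYE⟩

/-- a `σ(M)'`-element of prime order of `M` lies in a complement -/
theorem exists_compl_ge_zpowers (hG : Cfsg.IsMinSimpleOddOrder G) {M : Subgroup G}
    (hM : IsCoatom M) {a : G} (haM : a ∈ M) {p : ℕ} (hp : p.Prime) (hao : orderOf a = p)
    (hpσ : p ∉ Cfsg.sigma M) :
    ∃ E : Subgroup G, Cfsg.IsComplIn E (Cfsg.sigmaCore M) M ∧ Subgroup.zpowers a ≤ E := by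
  have hcop : (Nat.card ↥(Subgroup.zpowers a)).Coprime (Nat.card ↥(Cfsg.sigmaCore M)) := by
    rw [Nat.card_zpowers, hao]
    exact (Nat.Prime.coprime_iff_not_dvd hp).mpr
      (Cfsg.Agent.Lib.helper3.BG11.not_dvd_sigmaCore hG hM hp hpσ)
  exact exists_compl_ge hG hM (Subgroup.zpowers_le.mpr haM) hcop

/-- **S1432** from `HypC3`. -/
theorem s1432_of_hypC3 (hG : Cfsg.IsMinSimpleOddOrder G)
    (hC3 : Cfsg.Agent.Lib.Helper4.BG14.HypC3 G) (M : Subgroup G) (hM : IsCoatom M) (x : G)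
    (hx : x ∈ Cfsg.sigmaCore M) (hx1 : x ≠ 1) (x' : G)
    (hx' : x' ∈ M ⊓ Subgroup.centralizer ({x} : Set G)) (hx'1 : x' ≠ 1)
    (hσ : ∀ p : ℕ, p.Prime → p ∣ orderOf x' → p ∉ Cfsg.sigma M) :
    ((∀ p : ℕ, p.Prime → p ∣ orderOf x' → p ∈ Cfsg.kappa M) ∧
        Subgroup.centralizer ({x} : Set G) ≤ M) ∨
      ((∀ p : ℕ, p.Prime → p ∣ orderOf x' → p ∈ Cfsg.tau2 M) ∧
        (∃ L : Subgroup G, IsCoatom L ∧ ∀ p : ℕ, p.Prime → p ∣ orderOf x' → p ∈ Cfsg.sigma L) ∧
        (Subgroup.centralizer ({x'} : Set G) ≤ M ∧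
          ∀ L : Subgroup G, IsCoatom L → Subgroup.centralizer ({x'} : Set G) ≤ L → L = M)) := by
  have hx'M : x' ∈ M := hx'.1
  have hxx' : x * x' = x' * x :=
    (Subgroup.mem_centralizer_iff.mp hx'.2) x (Set.mem_singleton x)
  have hpart := hypPart hG
  -- the element of order `p` of `⟨x'⟩` and its basic properties
  have hz : ∀ p : ℕ, p.Prime → p ∣ orderOf x' →
      orderOf (x' ^ (orderOf x' / p)) = p ∧ x' ^ (orderOf x' / p) ∈ M ∧
        x' ^ (orderOf x' / p) * x = x * x' ^ (orderOf x' / p) := by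
    intro p hp hpn
    refine ⟨orderOf_pow_div hp hpn, M.pow_mem hx'M _, ?_⟩
    have : Commute x' x := hxx'.symm
    exact this.pow_left _
  -- `⟨x⟩ ≤ M_σ ∩ C(⟨z⟩)` for `z` commuting with `x`
  have hxD : ∀ z : G, z * x = x * z →
      Subgroup.zpowers x ≤ Cfsg.sigmaCore M ⊓
        Subgroup.centralizer ((Subgroup.zpowers z : Subgroup G) : Set G) := by
    intro z hzx
    rw [Subgroup.zpowers_le, Subgroup.mem_inf]
    refine ⟨hx, ?_⟩
    rw [Subgroup.mem_centralizer_iff]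
    intro y hy
    obtain ⟨j, rfl⟩ := Subgroup.mem_zpowers_iff.mp hy
    have : Commute z x := hzx
    exact (this.zpow_left j)
  have hZx1 : Subgroup.zpowers x ≠ ⊥ := fun h => hx1 (Subgroup.zpowers_eq_bot.mp h)
  have hDne : ∀ z : G, z * x = x * z →
      Cfsg.sigmaCore M ⊓ Subgroup.centralizer ((Subgroup.zpowers z : Subgroup G) : Set G) ≠ ⊥ := by
    intro z hzx h0
    have := hxD z hzx
    rw [h0, le_bot_iff] at this
    exact hZx1 this
  -- Step A
  have hA : ∀ p : ℕ, p.Prime → p ∣ orderOf x' → p ∈ Cfsg.kappa M ∨ p ∈ Cfsg.tau2 M := by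
    intro p hp hpn
    haveI : Fact p.Prime := ⟨hp⟩
    have hpσ := hσ p hp hpn
    have hpM : p ∣ Nat.card ↥M := hpn.trans (Subgroup.orderOf_dvd_natCard M hx'M)
    obtain ⟨hzo, hzM, hzx⟩ := hz p hp hpn
    rcases Cfsg.Agent.H2.BG13.tau_cases hG hM hp hpM hpσ with h | h | h
    · exact Or.inl (mem_kappa_of_fixed_point hG hM hpσ h.2.2.2.2 hzM hzo hx hx1 hzx)
    · exact Or.inr h
    · exact Or.inl (mem_kappa_of_fixed_point hG hM hpσ h.2.2.2 hzM hzo hx hx1 hzx)
  -- Step B: no mixing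
  have hB : ∀ p : ℕ, p.Prime → p ∣ orderOf x' → p ∈ Cfsg.kappa M →
      ∀ q : ℕ, q.Prime → q ∣ orderOf x' → q ∈ Cfsg.kappa M := by
    intro p hp hpn hpκ q hq hqn
    by_contra hqκ
    haveI : Fact p.Prime := ⟨hp⟩
    haveI : Fact q.Prime := ⟨hq⟩
    have hqτ : q ∈ Cfsg.tau2 M := by
      rcases hA q hq hqn with h | h
      · exact absurd h hqκ
      · exact h
    obtain ⟨hzpo, hzpM, hzpx⟩ := hz p hp hpn
    obtain ⟨hzqo, hzqM, hzqx⟩ := hz q hq hqn
    rcases (tau13_of_mem_kappa hG hM hpκ).2 with hp1 | hp3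
    · -- `p ∈ τ₁(M)`: helper4's COR 2
      have hcomm : x' ^ (orderOf x' / p) * x' ^ (orderOf x' / q) =
          x' ^ (orderOf x' / q) * x' ^ (orderOf x' / p) := (Commute.refl x').pow_pow _ _
      obtain ⟨E, hE, hPE, hTE⟩ := exists_compl_ge_pair hG hM hzpM hzqM hcomm hp hq hzpo hzqo
        (hσ p hp hpn) (hσ q hq hqn)
      have hPc : Nat.card ↥(Subgroup.zpowers (x' ^ (orderOf x' / p))) = p := by
        rw [Nat.card_zpowers, hzpo]
      have hTc : Nat.card ↥(Subgroup.zpowers (x' ^ (orderOf x' / q))) = q := by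
        rw [Nat.card_zpowers, hzqo]
      apply Cfsg.Agent.Lib.Helper4.BG14.not_le_centralizer_tau2' hG hpart hC3 hM hE hp1 hPE hPc
        (hDne _ hzpx) hqτ hTE hTc
      rw [Subgroup.zpowers_le, Subgroup.mem_centralizer_iff]
      intro y hy
      obtain ⟨j, rfl⟩ := Subgroup.mem_zpowers_iff.mp hy
      have : Commute (x' ^ (orderOf x' / p)) (x' ^ (orderOf x' / q)) := hcomm
      exact (this.zpow_left j)
    · -- `p ∈ τ₃(M)`: B&G 12.6(e)
      apply Cfsg.Agent.Lib.Helper5.BG1218F.no_tau3_elt hG hM hqτ hp3 hzpM hzpo hZx1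
        (Subgroup.zpowers_le.mpr hx)
      rw [Subgroup.mem_centralizer_iff]
      intro y hy
      obtain ⟨j, rfl⟩ := Subgroup.mem_zpowers_iff.mp hy
      have : Commute x (x' ^ (orderOf x' / p)) := hzpx.symm
      exact (this.zpow_left j)
  by_cases hex : ∃ p : ℕ, p.Prime ∧ p ∣ orderOf x' ∧ p ∈ Cfsg.kappa M
  · -- all primes in `κ(M)`
    obtain ⟨p, hp, hpn, hpκ⟩ := hex
    haveI : Fact p.Prime := ⟨hp⟩
    have hall : ∀ q : ℕ, q.Prime → q ∣ orderOf x' → q ∈ Cfsg.kappa M := hB p hp hpn hpκ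
    refine Or.inl ⟨hall, ?_⟩
    obtain ⟨hzo, hzM, hzx⟩ := hz p hp hpn
    -- a subgroup of prime order of `⟨x⟩`
    have hox : orderOf x ≠ 1 := fun h => hx1 (orderOf_eq_one_iff.mp h)
    obtain ⟨ℓ, hℓ, hℓx⟩ := Nat.exists_prime_and_dvd hox
    haveI : Fact ℓ.Prime := ⟨hℓ⟩
    set Y : Subgroup G := Subgroup.zpowers (x ^ (orderOf x / ℓ)) with hY
    have hYc : Nat.card ↥Y = ℓ := by rw [hY, Nat.card_zpowers, orderOf_pow_div hℓ hℓx]
    have hYx : Y ≤ Subgroup.zpowers x := by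
      rw [hY, Subgroup.zpowers_le]
      exact Subgroup.pow_mem _ (Subgroup.mem_zpowers x) _
    have hYD := hYx.trans (hxD _ hzx)
    have hCY : Subgroup.centralizer ({x} : Set G) ≤ Subgroup.centralizer (Y : Set G) :=
      centralizer_singleton_le_zpowers_pow x _
    have hPc : Nat.card ↥(Subgroup.zpowers (x' ^ (orderOf x' / p))) = p := by
      rw [Nat.card_zpowers, hzo]
    rcases (tau13_of_mem_kappa hG hM hpκ).2 with hp1 | hp3
    · have hα := (Cfsg.Agent.Lib.Helper4.BG13.alpha_uniq hG hM hp1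
        (Subgroup.zpowers_le.mpr hzM) hPc hYD hYc).2.1.1
      exact hCY.trans hα
    · obtain ⟨E, hE, hRE⟩ := exists_compl_ge_zpowers hG hM hzM hp hzo (hσ p hp hpn)
      have hY1 : Y ≠ ⊥ := by
        intro h
        rw [h, Subgroup.card_bot] at hYc
        exact hℓ.one_lt.ne hYc
      have hYt : Y ≠ ⊤ := by
        apply Cfsg.Agent.H2.BGU.ne_top_of_le_coatom hM
        exact hYD.trans (inf_le_left.trans (Cfsg.Agent.H2.BG11.sigmaCore_le M))
      have hNt := normalizer_ne_top' hG hY1 hYt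
      obtain ⟨L, hL, hNL⟩ := Cfsg.Agent.H2.BGU.exists_coatom_ge hNt
      have hLM : L = M := hC3 M hM E hE p hp3 _ hRE hPc Y hYD (hYc ▸ hℓ) L hL hNL
      rw [hLM] at hNL
      exact hCY.trans ((Subgroup.centralizer_le_normalizer _).trans hNL)
  · -- all primes in `τ₂(M)`
    push Not at hex
    have hall : ∀ q : ℕ, q.Prime → q ∣ orderOf x' → q ∈ Cfsg.tau2 M := by
      intro q hq hqn
      rcases hA q hq hqn with h | h
      · exact absurd h (hex q hq hqn)
      · exact h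
    refine Or.inr ⟨hall, ?_, ?_⟩
    · have hox : orderOf x' ≠ 1 := by
        intro h
        exact hx'1 (orderOf_eq_one_iff.mp h)
      obtain ⟨p, hp, hpn⟩ := Nat.exists_prime_and_dvd hox
      haveI : Fact p.Prime := ⟨hp⟩
      have hpτ := hall p hp hpn
      obtain ⟨A0, hA0M, hA0el, hA0c⟩ :=
        Cfsg.Agent.H2.BG12.exists_elem_sq (p := p) (M := M) hpτ.2.2.2
      have hA0cop : (Nat.card ↥A0).Coprime (Nat.card ↥(Cfsg.sigmaCore M)) := by
        rw [hA0c]
        apply Nat.Coprime.pow_left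
        exact (Nat.Prime.coprime_iff_not_dvd hp).mpr
          (Cfsg.Agent.Lib.helper3.BG11.not_dvd_sigmaCore hG hM hp hpτ.2.1)
      obtain ⟨E, hE, hA0E⟩ := exists_compl_ge hG hM hA0M hA0cop
      have hA01 : A0 ≠ ⊥ := ne_bot_of_card_sq hA0c
      have hA0t : A0 ≠ ⊤ := Cfsg.Agent.H2.BGU.ne_top_of_le_coatom hM hA0M
      have hNt := normalizer_ne_top' hG hA01 hA0t
      obtain ⟨L, hL, hNL⟩ := Cfsg.Agent.H2.BGU.exists_coatom_ge hNt
      refine ⟨L, hL, fun q hq hqn => ?_⟩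
      exact (tau2_subset_sigma hG hM hE hpτ ⟨hA0E, hA0el, hA0c⟩ hL hNL q (hall q hq hqn)).1
    · obtain ⟨E, hE⟩ := Cfsg.Agent.Lib.helper3.BG12.exists_compl hG hM
      apply (Cfsg.Agent.S1420.result hG M hM E hE).2.2.2 x' hx'M hx'1 hall
      exact ⟨hx'M, x, hx, hx1, hxx'.symm⟩

end Cfsg.Agent.H1.BG14
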