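import Mathlib
import Cfsg.Agent.H1.BG14C
import Cfsg.Agent.H1.CoprimeHall
import Cfsg.Agent.H2.BG14.B
import Cfsg.Agent.Lib.helper3.BG14A
import Cfsg.Agent.S1432
import Cfsg.Agent.S1425

/-!
# B&G Section 14 (helper1), part E: the sets `M̃` cover `G^#` up to `κ`-elements (S1379, part 2)

For `g ≠ 1` either `g ∈ Ñ` for some maximal subgroup `N`, or a conjugate of `g` is `x * x'` with
`x ∈ M_σ^#`, `C_G(x) ≤ M`, and `x' ≠ 1` a `κ(M)`-element of `C_M(x)`.
-/

set_option autoImplicit false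
set_option linter.unusedVariables false
set_option linter.unusedSectionVars false
set_option linter.style.haveILetI false
set_option maxHeartbeats 1000000

open scoped commutatorElement Pointwise

namespace Cfsg.Agent.H1.BG14

open Cfsg Cfsg.Agent.Lib.Helper8.BGTen

universe u

variable {G : Type u} [Group G] [Finite G]

/-- the `π`-decomposition of an element -/
theorem exists_pi_decomp (π : Set ℕ) (g : G) :
    ∃ a b : G, a ∈ Subgroup.zpowers g ∧ b ∈ Subgroup.zpowers g ∧ g = a * b ∧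
      Cfsg.Agent.H1.PiNum π (orderOf a) ∧ Cfsg.Agent.H1.PiNum πᶜ (orderOf b) := by
  obtain ⟨m, n, hmn, hm, hn⟩ :=
    Cfsg.Agent.H1.exists_pi_factorization π (orderOf g) (orderOf_pos g).ne'
  have hcop : m.Coprime n := hm.coprime hn
  have hbez : (1 : ℤ) = m * Nat.gcdA m n + n * Nat.gcdB m n := by
    have := Nat.gcd_eq_gcd_ab m n
    rw [hcop.gcd_eq_one] at this
    exact_mod_cast this
  have hord : ((orderOf g : ℕ) : ℤ) = (m : ℤ) * n := by rw [hmn]; push_cast; ring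
  refine ⟨g ^ ((n : ℤ) * Nat.gcdB m n), g ^ ((m : ℤ) * Nat.gcdA m n), ⟨_, rfl⟩, ⟨_, rfl⟩, ?_, ?_, ?_⟩
  · rw [← zpow_add, add_comm, ← hbez, zpow_one]
  · apply hm.of_dvd
    apply orderOf_dvd_of_pow_eq_one
    rw [← zpow_natCast, ← zpow_mul]
    have e : (n : ℤ) * Nat.gcdB m n * (m : ℤ) = ((orderOf g : ℕ) : ℤ) * Nat.gcdB m n := by
      rw [hord]; ring
    rw [e, zpow_mul, zpow_natCast, pow_orderOf_eq_one, one_zpow]
  · apply hn.of_dvd
    apply orderOf_dvd_of_pow_eq_one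
    rw [← zpow_natCast, ← zpow_mul]
    have e : (m : ℤ) * Nat.gcdA m n * (n : ℤ) = ((orderOf g : ℕ) : ℤ) * Nat.gcdA m n := by
      rw [hord]; ring
    rw [e, zpow_mul, zpow_natCast, pow_orderOf_eq_one, one_zpow]

/-- `Ã` is closed under conjugation -/
theorem tildeOf_conj {M : Subgroup G} {A : Set G} {g : G} (h : g ∈ Cfsg.tildeOf M A) (c : G) :
    c * g * c⁻¹ ∈ Cfsg.tildeOf M A := by
  obtain ⟨a, ha, r, hr, y, rfl⟩ := h
  exact ⟨a, ha, r, hr, c * y, by group⟩

/-- the `τ₂`-alternative of S1432 puts `x x'` into `L̃` -/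
theorem tilde_of_tau2 (hG : Cfsg.IsMinSimpleOddOrder G) {M L : Subgroup G} (hM : IsCoatom M)
    (hL : IsCoatom L) {x x' : G} (hx : x ∈ Cfsg.sigmaCore M) (hx'1 : x' ≠ 1)
    (hcomm : x * x' = x' * x)
    (hσL : ∀ p : ℕ, p.Prime → p ∣ orderOf x' → p ∈ Cfsg.sigma L)
    (hσM : ∀ p : ℕ, p.Prime → p ∣ orderOf x' → p ∉ Cfsg.sigma M)
    (hCM : Subgroup.centralizer ({x'} : Set G) ≤ M)
    (huniq : ∀ L' : Subgroup G, IsCoatom L' → Subgroup.centralizer ({x'} : Set G) ≤ L' → L' = M) :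
    x * x' ∈ Cfsg.tildeOf L ((Cfsg.sigmaCore L : Set G) \ {1}) := by
  have hY1 : Subgroup.zpowers x' ≠ ⊥ := by
    intro h
    rw [Subgroup.zpowers_eq_bot] at h
    exact hx'1 h
  have hY : ∀ p : ℕ, p.Prime → p ∣ Nat.card ↥(Subgroup.zpowers x') → p ∈ Cfsg.sigma L := by
    intro p hp hpd
    rw [Nat.card_zpowers] at hpd
    exact hσL p hp hpd
  obtain ⟨h, hh⟩ := Cfsg.Agent.S1425.result hG L hL (Subgroup.zpowers x') hY1 hY
  have hy : h * x' * h⁻¹ ∈ Cfsg.sigmaCore L :=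
    hh (conj_mem_cj (Subgroup.mem_zpowers x'))
  have hy1 : h * x' * h⁻¹ ≠ 1 := by
    intro h1
    exact hx'1 (conj_eq_one_iff.mp h1)
  have hCy : Subgroup.centralizer ({h * x' * h⁻¹} : Set G)
      = cj h (Subgroup.centralizer ({x'} : Set G)) := Cfsg.Agent.H2.BG14.centralizer_conj h x'
  have hN : IsCoatom (cj h M) := isCoatom_cj hM h
  have hCyN : Subgroup.centralizer ({h * x' * h⁻¹} : Set G) ≤ cj h M := by
    rw [hCy]
    exact cj_mono h hCM
  have huniqN : ∀ L' : Subgroup G, IsCoatom L' →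
      Subgroup.centralizer ({h * x' * h⁻¹} : Set G) ≤ L' → L' = cj h M := by
    intro L' hL' hle
    rw [hCy, cj_le_iff] at hle
    have h2 := huniq _ (isCoatom_cj hL' h⁻¹) hle
    rw [← h2, cj_cj_inv]
  have hnot : ¬ Subgroup.centralizer ({h * x' * h⁻¹} : Set G) ≤ L := by
    intro hle
    have hLN : L = cj h M := huniqN L hL hle
    have hy' := hy
    rw [hLN, Cfsg.Agent.H2.BG11.sigmaCore_cj hG hM h, mem_cj] at hy'
    have e : h⁻¹ * (h * x' * h⁻¹) * h = x' := by group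
    rw [e] at hy'
    have hd : orderOf x' ∣ Nat.card ↥(Cfsg.sigmaCore M) := by
      have := Subgroup.orderOf_dvd_natCard (Cfsg.sigmaCore M) hy'
      exact this
    have hne : orderOf x' ≠ 1 := by
      intro h1
      exact hx'1 (orderOf_eq_one_iff.mp h1)
    obtain ⟨p, hp, hpd⟩ := Nat.exists_prime_and_dvd hne
    exact hσM p hp hpd
      (Cfsg.Agent.H2.BG11.mem_sigma_of_dvd_sigmaCore hG hM hp (hpd.trans hd))
  obtain ⟨N', hN', hyN', hun', hR, -, -⟩ :=
    Cfsg.Agent.H2.BG14.supportR_eq_of_not_le hG hL hy hy1 hnot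
  have hNN : cj h M = N' := hun' _ hN hCyN
  have hr : h * x * h⁻¹ ∈ Cfsg.supportR L (h * x' * h⁻¹) := by
    rw [hR, ← hNN, Cfsg.Agent.H2.BG11.sigmaCore_cj hG hM h]
    refine Subgroup.mem_inf.mpr ⟨conj_mem_cj hx, ?_⟩
    rw [Subgroup.mem_centralizer_singleton_iff]
    have e1 : h * x * h⁻¹ * (h * x' * h⁻¹) = h * (x * x') * h⁻¹ := by group
    have e2 : h * x' * h⁻¹ * (h * x * h⁻¹) = h * (x' * x) * h⁻¹ := by group
    rw [e1, e2, hcomm]
  refine ⟨h * x' * h⁻¹, ⟨hy, hy1⟩, h * x * h⁻¹, hr, h⁻¹, ?_⟩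
  rw [hcomm]
  group

/-- **the cover lemma**: `x ∈ M_σ^#`, `x'` a `σ(M)'`-element of `C_G(x)`: then `x x'` lies in some
`L̃`, or `C_G(x) ≤ M` and `x' ≠ 1` is a `κ(M)`-element of `M`. -/
theorem tilde_or_kappa (hG : Cfsg.IsMinSimpleOddOrder G) {M : Subgroup G} (hM : IsCoatom M)
    {x x' : G} (hx : x ∈ Cfsg.sigmaCore M) (hx1 : x ≠ 1)
    (hx' : x' ∈ Subgroup.centralizer ({x} : Set G))
    (hσ : ∀ p : ℕ, p.Prime → p ∣ orderOf x' → p ∉ Cfsg.sigma M) :
    (∃ L : Subgroup G, IsCoatom L ∧ x * x' ∈ Cfsg.tildeOf L ((Cfsg.sigmaCore L : Set G) \ {1})) ∨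
      (x' ≠ 1 ∧ x' ∈ M ∧ (∀ p : ℕ, p.Prime → p ∣ orderOf x' → p ∈ Cfsg.kappa M) ∧
        Subgroup.centralizer ({x} : Set G) ≤ M) := by
  have hcomm : x' * x = x * x' := Subgroup.mem_centralizer_singleton_iff.mp hx'
  by_cases hx'1 : x' = 1
  · left
    refine ⟨M, hM, x, ⟨hx, hx1⟩, 1, Subgroup.one_mem _, 1, ?_⟩
    rw [hx'1]
    simp
  by_cases hxM : Subgroup.centralizer ({x} : Set G) ≤ M
  · have hx'M : x' ∈ M ⊓ Subgroup.centralizer ({x} : Set G) := ⟨hxM hx', hx'⟩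
    rcases Cfsg.Agent.S1432.result hG M hM x hx hx1 x' hx'M hx'1 hσ with
      ⟨hκ, hC⟩ | ⟨hτ, ⟨L, hL, hσL⟩, hCM, huniq⟩
    · right
      exact ⟨hx'1, hxM hx', hκ, hC⟩
    · left
      exact ⟨L, hL, tilde_of_tau2 hG hM hL hx hx'1 hcomm.symm hσL hσ hCM huniq⟩
  · left
    obtain ⟨N, hN, hxN, hun, hR, hnorm, hcompl⟩ :=
      Cfsg.Agent.H2.BG14.supportR_eq_of_not_le hG hM hx hx1 hxM
    have hox : orderOf x ≠ 1 := by
      intro h1
      exact hx1 (orderOf_eq_one_iff.mp h1)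
    obtain ⟨t, ht, htx⟩ := Nat.exists_prime_and_dvd hox
    haveI : Fact t.Prime := ⟨ht⟩
    obtain ⟨N₁, hN₁, hxN₁, -, -, -, -, hσMN, hNM, hcN⟩ :=
      Cfsg.Agent.Lib.helper3.BG14.exists_max_of_prime hG hM hx hxM htx
    have hNN : N₁ = N := hun N₁ hN₁ hxN₁
    rw [hNN] at hσMN hNM hcN
    obtain ⟨a, b, ha, hb, hab, haπ, hbπ⟩ := exists_pi_decomp (Cfsg.sigma N) x'
    have hzC : Subgroup.zpowers x' ≤ Subgroup.centralizer ({x} : Set G) := by
      rw [Subgroup.zpowers_le]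
      exact hx'
    have haC := hzC ha
    have hbC := hzC hb
    have haN : a ∈ Cfsg.sigmaCore N := by
      have h1 : Subgroup.zpowers a ≤ Cfsg.sigmaCore N := by
        apply Cfsg.Agent.Lib.helper3.BG12.le_sigmaCore_of_sigma_group hG hN
        · rw [Subgroup.zpowers_le]
          exact hxN haC
        · intro p hp hpd
          rw [Nat.card_zpowers] at hpd
          exact haπ p hp hpd
      exact h1 (Subgroup.mem_zpowers a)
    have haR : a ∈ Cfsg.supportR M x := by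
      rw [hR]
      exact ⟨haN, haC⟩
    by_cases hb1 : b = 1
    · refine ⟨M, hM, x, ⟨hx, hx1⟩, a, haR, 1, ?_⟩
      rw [hab, hb1]
      simp
    · -- `C_M(x)` is a Hall `σ(N)'`-subgroup of `C_G(x)`
      have hcopN := Cfsg.Agent.H2.BG12.coprime_compl hG hN hcN
      have hHall : Cfsg.IsPiHallOf (Cfsg.sigma N)ᶜ (M ⊓ Subgroup.centralizer ({x} : Set G))
          (Subgroup.centralizer ({x} : Set G)) := by
        refine ⟨inf_le_right, ?_, ?_⟩
        · intro p hp hpd hpσ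
          have h1 : p ∣ Nat.card ↥(M ⊓ N) :=
            hpd.trans (Subgroup.card_dvd_of_le (inf_le_inf_left M hxN))
          have h2 : p ∣ Nat.card ↥(Cfsg.sigmaCore N) :=
            Cfsg.Agent.H2.BG11.dvd_card_sigmaCore hG hN hpσ
          have h3 := Nat.dvd_gcd h1 h2
          rw [hcopN.gcd_eq_one] at h3
          exact hp.one_lt.ne' (Nat.dvd_one.mp h3)
        · intro p hp hpσ hpd
          have h1 := Cfsg.Agent.Lib.BG127H7.card_of_isComplIn hcompl
          have h2 := Cfsg.Agent.H1.card_eq_relIndex_mul_card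
            (inf_le_right : M ⊓ Subgroup.centralizer ({x} : Set G) ≤ Subgroup.centralizer ({x} : Set G))
          rw [h1] at h2
          have hpos : 0 < Nat.card ↥(M ⊓ Subgroup.centralizer ({x} : Set G)) := Nat.card_pos
          have h3 : (M ⊓ Subgroup.centralizer ({x} : Set G)).relIndex
              (Subgroup.centralizer ({x} : Set G))
              = Nat.card ↥(Cfsg.sigmaCore N ⊓ Subgroup.centralizer ({x} : Set G)) := by
            have : Nat.card ↥(M ⊓ Subgroup.centralizer ({x} : Set G)) *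
                Nat.card ↥(Cfsg.sigmaCore N ⊓ Subgroup.centralizer ({x} : Set G)) =
                Nat.card ↥(M ⊓ Subgroup.centralizer ({x} : Set G)) *
                (M ⊓ Subgroup.centralizer ({x} : Set G)).relIndex
                  (Subgroup.centralizer ({x} : Set G)) := by
              rw [h2]; ring
            exact (Nat.eq_of_mul_eq_mul_left hpos this).symm
          rw [h3] at hpd
          have h4 : p ∣ Nat.card ↥(Cfsg.sigmaCore N) :=
            hpd.trans (Subgroup.card_dvd_of_le inf_le_left)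
          exact hpσ (Cfsg.Agent.H2.BG11.mem_sigma_of_dvd_sigmaCore hG hN hp h4)
      haveI hsolv : Group.IsSolvable ↥(Subgroup.centralizer ({x} : Set G)) :=
        Cfsg.Agent.H2.BGU.solvable_of_le_coatom hG hN hxN
      have hbU : Cfsg.Agent.H1.PiNum (Cfsg.sigma N)ᶜ (Nat.card ↥(Subgroup.zpowers b)) := by
        rw [Nat.card_zpowers]
        exact hbπ
      obtain ⟨c, hc, hle⟩ := Cfsg.Agent.H1.isPiHallOf_dominance (Cfsg.sigma N)ᶜ
        (M ⊓ Subgroup.centralizer ({x} : Set G)) (Subgroup.centralizer ({x} : Set G))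
        (Subgroup.zpowers b) hsolv hHall (by rw [Subgroup.zpowers_le]; exact hbC) hbU
      have hb' : c⁻¹ * b * c ∈ M ⊓ Subgroup.centralizer ({x} : Set G) :=
        mem_cj.mp (hle (Subgroup.mem_zpowers b))
      have hb'1 : c⁻¹ * b * c ≠ 1 := by
        intro h1
        have : c⁻¹ * b * c⁻¹⁻¹ = 1 := by rw [inv_inv]; exact h1
        exact hb1 (conj_eq_one_iff.mp this)
      have hob' : orderOf (c⁻¹ * b * c) = orderOf b := by
        have := orderOf_conj' c⁻¹ b
        rwa [inv_inv] at this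
      have hσb' : ∀ p : ℕ, p.Prime → p ∣ orderOf (c⁻¹ * b * c) → p ∉ Cfsg.sigma M := by
        intro p hp hpd
        rw [hob'] at hpd
        exact hσ p hp (hpd.trans (orderOf_dvd_of_mem_zpowers hb))
      have hcx : c * x = x * c := Subgroup.mem_centralizer_singleton_iff.mp hc
      rcases Cfsg.Agent.S1432.result hG M hM x hx hx1 (c⁻¹ * b * c) hb' hb'1 hσb' with
        ⟨-, hC⟩ | ⟨hτ, ⟨L, hL, hσL⟩, hCM, huniq⟩
      · exact absurd hC hxM
      · -- `a' := c⁻¹ a c ∈ N_σ ∩ M = 1`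
        have hab_comm : a * b = b * a := by
          obtain ⟨i, rfl⟩ := Subgroup.mem_zpowers_iff.mp ha
          obtain ⟨j, rfl⟩ := Subgroup.mem_zpowers_iff.mp hb
          rw [← zpow_add, ← zpow_add, add_comm]
        have ha'N : c⁻¹ * a * c ∈ Cfsg.sigmaCore N := by
          have hcN : c⁻¹ ∈ Subgroup.normalizer (Cfsg.sigmaCore N : Set G) :=
            Cfsg.Agent.H2.BG11.le_normalizer_sigmaCore N (N.inv_mem (hxN hc))
          have := (Subgroup.mem_normalizer_iff.mp hcN a).mp haN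
          rwa [inv_inv] at this
        have ha'M : c⁻¹ * a * c ∈ M := by
          apply hCM
          rw [Subgroup.mem_centralizer_singleton_iff]
          have e1 : c⁻¹ * a * c * (c⁻¹ * b * c) = c⁻¹ * (a * b) * c := by group
          have e2 : c⁻¹ * b * c * (c⁻¹ * a * c) = c⁻¹ * (b * a) * c := by group
          rw [e1, e2, hab_comm]
        have ha'1 : c⁻¹ * a * c = 1 := by
          have : c⁻¹ * a * c ∈ Cfsg.sigmaCore N ⊓ M := ⟨ha'N, ha'M⟩
          rw [hNM] at this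
          exact Subgroup.mem_bot.mp this
        have ha1 : a = 1 := by
          have : c⁻¹ * a * c⁻¹⁻¹ = 1 := by rw [inv_inv]; exact ha'1
          exact conj_eq_one_iff.mp this
        have hxb' : x * (c⁻¹ * b * c) = c⁻¹ * b * c * x :=
          (Subgroup.mem_centralizer_singleton_iff.mp hb'.2).symm
        have hmem := tilde_of_tau2 hG hM hL hx hb'1 hxb' hσL hσb' hCM huniq
        have hconj := tildeOf_conj hmem c
        refine ⟨L, hL, ?_⟩
        have e : x * x' = c * (x * (c⁻¹ * b * c)) * c⁻¹ := by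
          rw [hab, ha1, one_mul]
          have : c * (x * (c⁻¹ * b * c)) * c⁻¹ = (c * x) * c⁻¹ * b := by group
          rw [this, hcx]
          group
        rw [e]
        exact hconj

/-- general form: every `g ≠ 1` lies in some `L̃`, or is conjugate to `x x'` with `x ∈ M_σ^#`,
`C_G(x) ≤ M`, `x' ≠ 1` a `κ(M)`-element of `C_M(x)`. -/
theorem tilde_or_kappa' (hG : Cfsg.IsMinSimpleOddOrder G) (g : G) (hg : g ≠ 1) :
    (∃ L : Subgroup G, IsCoatom L ∧ g ∈ Cfsg.tildeOf L ((Cfsg.sigmaCore L : Set G) \ {1})) ∨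
      ∃ M : Subgroup G, IsCoatom M ∧ ∃ h x x' : G, h * g * h⁻¹ = x * x' ∧ x ∈ Cfsg.sigmaCore M ∧
        x ≠ 1 ∧ x' ∈ M ∧ x' ≠ 1 ∧ x * x' = x' * x ∧
        (∀ p : ℕ, p.Prime → p ∣ orderOf x' → p ∈ Cfsg.kappa M) ∧
        Subgroup.centralizer ({x} : Set G) ≤ M := by
  have hog : orderOf g ≠ 1 := by
    intro h1
    exact hg (orderOf_eq_one_iff.mp h1)
  obtain ⟨p, hp, hpd⟩ := Nat.exists_prime_and_dvd hog
  obtain ⟨M, hM, hpM⟩ := (Cfsg.Agent.S1378.result hG).1 p hp (hpd.trans (orderOf_dvd_natCard g))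
  obtain ⟨a, b, ha, hb, hab, haπ, hbπ⟩ := exists_pi_decomp (Cfsg.sigma M) g
  have hab_comm : a * b = b * a := by
    obtain ⟨i, rfl⟩ := Subgroup.mem_zpowers_iff.mp ha
    obtain ⟨j, rfl⟩ := Subgroup.mem_zpowers_iff.mp hb
    rw [← zpow_add, ← zpow_add, add_comm]
  have ha1 : a ≠ 1 := by
    intro h1
    rw [h1, one_mul] at hab
    rw [hab] at hpd
    exact hbπ p hp hpd hpM
  have hY1 : Subgroup.zpowers a ≠ ⊥ := by
    intro h
    rw [Subgroup.zpowers_eq_bot] at h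
    exact ha1 h
  have hY : ∀ q : ℕ, q.Prime → q ∣ Nat.card ↥(Subgroup.zpowers a) → q ∈ Cfsg.sigma M := by
    intro q hq hqd
    rw [Nat.card_zpowers] at hqd
    exact haπ q hq hqd
  obtain ⟨h, hh⟩ := Cfsg.Agent.S1425.result hG M hM (Subgroup.zpowers a) hY1 hY
  have hx : h * a * h⁻¹ ∈ Cfsg.sigmaCore M := hh (conj_mem_cj (Subgroup.mem_zpowers a))
  have hx1 : h * a * h⁻¹ ≠ 1 := by
    intro h1
    exact ha1 (conj_eq_one_iff.mp h1)
  have hx' : h * b * h⁻¹ ∈ Subgroup.centralizer ({h * a * h⁻¹} : Set G) := by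
    rw [Subgroup.mem_centralizer_singleton_iff]
    have e1 : h * b * h⁻¹ * (h * a * h⁻¹) = h * (b * a) * h⁻¹ := by group
    have e2 : h * a * h⁻¹ * (h * b * h⁻¹) = h * (a * b) * h⁻¹ := by group
    rw [e1, e2, hab_comm]
  have hσ : ∀ q : ℕ, q.Prime → q ∣ orderOf (h * b * h⁻¹) → q ∉ Cfsg.sigma M := by
    intro q hq hqd
    rw [orderOf_conj'] at hqd
    exact hbπ q hq hqd
  have hprod : h * a * h⁻¹ * (h * b * h⁻¹) = h * g * h⁻¹ := by
    rw [hab]; group
  rcases tilde_or_kappa hG hM hx hx1 hx' hσ with ⟨L, hL, hmem⟩ | ⟨h1, h2, h3, h4⟩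
  · left
    refine ⟨L, hL, ?_⟩
    rw [hprod] at hmem
    have := tildeOf_conj hmem h⁻¹
    have e : h⁻¹ * (h * g * h⁻¹) * h⁻¹⁻¹ = g := by group
    rwa [e] at this
  · right
    refine ⟨M, hM, h, h * a * h⁻¹, h * b * h⁻¹, hprod.symm, hx, hx1, h2, h1, ?_, h3, h4⟩
    exact (Subgroup.mem_centralizer_singleton_iff.mp hx').symm

/-- **S1379, part 2**: if no maximal subgroup has a nonempty `κ`, the sets `M̃` cover `G^#`. -/
theorem cover_of_kappa_empty (hG : Cfsg.IsMinSimpleOddOrder G)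
    (hκ : ∀ M : Subgroup G, IsCoatom M → Cfsg.kappa M = ∅) (g : G) (hg : g ≠ 1) :
    ∃ M : Subgroup G, IsCoatom M ∧ g ∈ Cfsg.tildeOf M ((Cfsg.sigmaCore M : Set G) \ {1}) := by
  rcases tilde_or_kappa' hG g hg with h | ⟨M, hM, h, x, x', -, -, -, -, hx'1, -, hκ', -⟩
  · exact h
  · exfalso
    have hne : orderOf x' ≠ 1 := by
      intro h1
      exact hx'1 (orderOf_eq_one_iff.mp h1)
    obtain ⟨p, hp, hpd⟩ := Nat.exists_prime_and_dvd hne
    have := hκ' p hp hpd
    rw [hκ M hM] at this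
    exact this

end Cfsg.Agent.H1.BG14
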