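import Mathlib

/-!
# B&G Section 14 (helper1), part F: the abstract counting core of B&G 14.7 (the (★) count)

Pure counting/arithmetic: finitely many pairwise disjoint subsets `A i` (the `M̃_i`) and `C` (the
class support of `T`) of `G ∖ {1}` whose sizes are given by the formulas of S1377 and of the
TI-count cannot exist when there are at least two indices.
-/

set_option autoImplicit false
set_option linter.unusedVariables false
set_option linter.unusedSectionVars false

namespace Cfsg.Agent.H1.BG14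

/-- cardinality of a finite disjoint union -/
theorem ncard_biUnion_eq {α ι : Type*} [Finite α] (S : Finset ι) (A : ι → Set α)
    (hd : ∀ i ∈ S, ∀ j ∈ S, i ≠ j → Disjoint (A i) (A j)) :
    (⋃ i ∈ S, A i).ncard = ∑ i ∈ S, (A i).ncard := by
  classical
  induction S using Finset.induction_on with
  | empty => simp
  | insert a S' ha ih =>
    rw [Finset.set_biUnion_insert, Finset.sum_insert ha, Set.ncard_union_eq, ih]
    · intro i hi j hj hij
      exact hd i (Finset.mem_insert_of_mem hi) j (Finset.mem_insert_of_mem hj) hij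
    · rw [Set.disjoint_iUnion₂_right]
      intro i hi
      exact hd a (Finset.mem_insert_self a S') i (Finset.mem_insert_of_mem hi)
        (by rintro rfl; exact ha hi)

/-- the union bound for the `(★)` count -/
theorem sum_ncard_add_le {G ι : Type*} [Group G] [Finite G] (S : Finset ι)
    (A : ι → Set G) (C : Set G)
    (hAA : ∀ i ∈ S, ∀ j ∈ S, i ≠ j → Disjoint (A i) (A j)) (hAC : ∀ i ∈ S, Disjoint (A i) C)
    (hA1 : ∀ i ∈ S, (1 : G) ∉ A i) (hC1 : (1 : G) ∉ C) :
    ∑ i ∈ S, (A i).ncard + C.ncard + 1 ≤ Nat.card G := by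
  have h1 : ((⋃ i ∈ S, A i) ∪ C).ncard = ∑ i ∈ S, (A i).ncard + C.ncard := by
    rw [Set.ncard_union_eq, ncard_biUnion_eq S A hAA]
    rw [Set.disjoint_iUnion₂_left]
    exact hAC
  have h2 : (((⋃ i ∈ S, A i) ∪ C) ∪ {1}).ncard = ∑ i ∈ S, (A i).ncard + C.ncard + 1 := by
    rw [Set.ncard_union_eq, h1, Set.ncard_singleton]
    rw [Set.disjoint_singleton_right]
    intro h
    rcases h with h | h
    · rw [Set.mem_iUnion₂] at h
      obtain ⟨i, hi, h⟩ := h
      exact hA1 i hi h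
    · exact hC1 h
  rw [← h2]
  exact Set.ncard_le_card _

/-- **the (★) count** (abstract form) -/
theorem star_count {G : Type*} [Group G] [Finite G] {ι : Type*} (S : Finset ι) (hS : 2 ≤ S.card)
    (A : ι → Set G) (C : Set G)
    (hAA : ∀ i ∈ S, ∀ j ∈ S, i ≠ j → Disjoint (A i) (A j)) (hAC : ∀ i ∈ S, Disjoint (A i) C)
    (hA1 : ∀ i ∈ S, (1 : G) ∉ A i) (hC1 : (1 : G) ∉ C)
    (m z : ι → ℕ) (Zc t : ℕ) (hz : ∀ i ∈ S, 0 < z i) (h3 : ∀ i ∈ S, 3 * z i ≤ m i)
    (hA : ∀ i ∈ S, (A i).ncard * Zc * m i = (m i - 1) * z i * Nat.card G)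
    (hC : C.ncard * Zc = Nat.card G * t) (ht : t + ∑ i ∈ S, (z i - 1) + 1 = Zc) : False := by
  have hbound := sum_ncard_add_le S A C hAA hAC hA1 hC1
  have hn : 0 < Nat.card G := Nat.card_pos
  -- pass to `ℤ`
  set n : ℤ := (Nat.card G : ℤ) with hndef
  have hn' : 0 < n := by rw [hndef]; exact_mod_cast hn
  set sa : ℤ := ∑ i ∈ S, ((A i).ncard : ℤ) with hsa
  set sz : ℤ := ∑ i ∈ S, (z i : ℤ) with hsz
  set k : ℤ := (S.card : ℤ) with hk
  have hk2 : 2 ≤ k := by rw [hk]; exact_mod_cast hS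
  have hbound' : sa + (C.ncard : ℤ) + 1 ≤ n := by
    have : ((∑ i ∈ S, (A i).ncard + C.ncard + 1 : ℕ) : ℤ) ≤ (Nat.card G : ℤ) := by
      exact_mod_cast hbound
    push_cast at this
    exact this
  have hC' : (C.ncard : ℤ) * Zc = n * t := by rw [hndef]; exact_mod_cast hC
  have ht' : (t : ℤ) + (sz - k) + 1 = Zc := by
    have h1 : ((∑ i ∈ S, (z i - 1) : ℕ) : ℤ) = sz - k := by
      rw [Nat.cast_sum, hsz, hk]
      rw [show ((S.card : ℕ) : ℤ) = ∑ i ∈ S, (1 : ℤ) by simp]
      rw [← Finset.sum_sub_distrib]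
      apply Finset.sum_congr rfl
      intro i hi
      rw [Nat.cast_sub (hz i hi)]
      simp
    have h2 : ((t + ∑ i ∈ S, (z i - 1) + 1 : ℕ) : ℤ) = (Zc : ℤ) := by exact_mod_cast ht
    push_cast at h2
    rw [← h1]
    push_cast
    exact h2
  have hZc : (1 : ℤ) ≤ Zc := by
    have : 0 ≤ (t : ℤ) := Int.natCast_nonneg t
    have hsk : 0 ≤ sz - k := by
      rw [hsz, hk, show ((S.card : ℕ) : ℤ) = ∑ i ∈ S, (1 : ℤ) by simp, ← Finset.sum_sub_distrib]
      apply Finset.sum_nonneg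
      intro i hi
      have := hz i hi
      have h' : (1 : ℤ) ≤ (z i : ℤ) := by exact_mod_cast this
      linarith
    linarith
  -- the per-index inequality
  have hper : ∀ i ∈ S, 3 * (z i : ℤ) * n - n ≤ 3 * ((A i).ncard : ℤ) * Zc := by
    intro i hi
    have hzi : (1 : ℤ) ≤ (z i : ℤ) := by exact_mod_cast hz i hi
    have h3i : 3 * (z i : ℤ) ≤ (m i : ℤ) := by exact_mod_cast h3 i hi
    have hmi : (1 : ℤ) ≤ (m i : ℤ) := by linarith
    have hm1 : 1 ≤ m i := by exact_mod_cast hmi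
    have hAi : ((A i).ncard : ℤ) * Zc * m i = ((m i : ℤ) - 1) * z i * n := by
      have := hA i hi
      have h' : (((A i).ncard * Zc * m i : ℕ) : ℤ) = (((m i - 1) * z i * Nat.card G : ℕ) : ℤ) := by
        exact_mod_cast this
      push_cast [Nat.cast_sub hm1] at h'
      exact h'
    by_contra hcon
    push Not at hcon
    -- `3 a Zc < 3 z n - n`; multiply by `m i > 0`
    have hmpos : (0 : ℤ) < (m i : ℤ) := by linarith
    have h5 : 3 * ((A i).ncard : ℤ) * Zc * m i < (3 * (z i : ℤ) * n - n) * m i :=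
      mul_lt_mul_of_pos_right hcon hmpos
    have h6 : 3 * ((A i).ncard : ℤ) * Zc * m i = 3 * (((m i : ℤ) - 1) * z i * n) := by
      rw [← hAi]; ring
    rw [h6] at h5
    nlinarith [mul_nonneg hn'.le (sub_nonneg.mpr h3i)]
  have hsum : 3 * sz * n - n * k ≤ 3 * sa * Zc := by
    have h1 : ∑ i ∈ S, (3 * (z i : ℤ) * n - n) ≤ ∑ i ∈ S, 3 * ((A i).ncard : ℤ) * Zc :=
      Finset.sum_le_sum hper
    have e1 : ∑ i ∈ S, (3 * (z i : ℤ) * n - n) = 3 * sz * n - n * k := by
      rw [Finset.sum_sub_distrib, hsz, hk, Finset.sum_const, nsmul_eq_mul, Finset.mul_sum,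
        Finset.sum_mul]
      ring
    have e2 : ∑ i ∈ S, 3 * ((A i).ncard : ℤ) * Zc = 3 * sa * Zc := by
      rw [hsa, Finset.mul_sum, Finset.sum_mul]
    rw [e1, e2] at h1
    exact h1
  -- final arithmetic
  have hZpos : (0 : ℤ) < Zc := by linarith
  have h7 : 3 * Zc * (sa + (C.ncard : ℤ) + 1) ≤ 3 * Zc * n :=
    mul_le_mul_of_nonneg_left hbound' (by linarith)
  have h8 : 3 * (Zc : ℤ) * (sa + (C.ncard : ℤ) + 1) = 3 * sa * Zc + 3 * (n * t) + 3 * Zc := by
    rw [← hC']; ring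
  rw [h8] at h7
  have h9 : (t : ℤ) = Zc - 1 - sz + k := by linarith
  rw [h9] at h7
  nlinarith [mul_le_mul_of_nonneg_left hk2 hn'.le]

end Cfsg.Agent.H1.BG14
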