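import Mathlib
import Cfsg.Agent.H1.AbelianIndec
import Cfsg.Agent.H1.CoprimeAction
import Cfsg.Agent.H1.Card
import Cfsg.Agent.H1.BG14B
import Cfsg.Agent.H2.HyperplaneGen
import Cfsg.Agent.Lib.Lead.Conj
import Cfsg.Agent.Lib.Helper8.BGTenA

/-!
# B&G Section 16 preliminaries (helper1), part A: general group theory

General lemmas used for S1421 / S1360: comparing exponents, elements of `N ⋊ H`, subgroups of a group
of order `p²`, an element normalizing three lines of `E_{p²}` acts as a power map, the dichotomy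
"scalar or some line is invariant" for odd groups acting with abelian image.
-/

set_option autoImplicit false
set_option linter.unusedVariables false
set_option linter.unusedSectionVars false
set_option linter.style.haveILetI false

open scoped commutatorElement Pointwise

namespace Cfsg.Agent.H1.BG16

open Cfsg Cfsg.Agent.Lib.Helper8.BGTen

universe u

variable {G : Type u} [Group G]

/-! ### exponents -/

/-- if `E₀ ≤ E` realises the order of every element of prime power order of `E`, then `E₀` and `E`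
have the same exponent -/
theorem exponent_eq_of_forall [Finite G] {E₀ E : Subgroup G} (hle : E₀ ≤ E)
    (h : ∀ r : ℕ, r.Prime → ∀ e ∈ E, IsPGroup r ↥(Subgroup.zpowers e) →
      ∃ e₀ ∈ E₀, orderOf e₀ = orderOf e) :
    Monoid.exponent ↥E₀ = Monoid.exponent ↥E := by
  apply Nat.dvd_antisymm
  · exact Monoid.exponent_dvd_of_monoidHom (Subgroup.inclusion hle) (Subgroup.inclusion_injective hle)
  · apply Monoid.exponent_dvd_of_forall_pow_eq_one
    intro g
    rw [← orderOf_dvd_iff_pow_eq_one, Nat.dvd_iff_prime_pow_dvd_dvd]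
    intro r k hr hrk
    by_cases hk : k = 0
    · rw [hk, pow_zero]; exact one_dvd _
    have hog : orderOf (g : G) = orderOf g := Subgroup.orderOf_coe g
    have hpos : 0 < orderOf (g : G) := orderOf_pos (g : G)
    have hrk' : r ^ k ∣ orderOf (g : G) := hog ▸ hrk
    obtain ⟨e, hedef⟩ : ∃ e : G, e = (g : G) ^ (orderOf (g : G) / r ^ k) := ⟨_, rfl⟩
    have heo : orderOf e = r ^ k := hedef ▸ orderOf_pow_orderOf_div hpos.ne' hrk'
    have heE : e ∈ E := hedef ▸ E.pow_mem g.2 _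
    have hep : IsPGroup r ↥(Subgroup.zpowers e) := by
      apply IsPGroup.of_card (n := k)
      rw [Nat.card_zpowers, heo]
    obtain ⟨e₀, he₀, ho⟩ := h r hr e heE hep
    have := Monoid.order_dvd_exponent (⟨e₀, he₀⟩ : ↥E₀)
    rwa [Subgroup.orderOf_mk, ho, heo] at this

/-! ### elements of `N ⋊ H` -/

/-- powers in `N H` when `H` normalizes `N` -/
theorem exists_mul_pow {N H : Subgroup G} (hHN : H ≤ Subgroup.normalizer (N : Set G)) {n h : G}
    (hn : n ∈ N) (hh : h ∈ H) (j : ℕ) : ∃ n' ∈ N, (n * h) ^ j = n' * h ^ j := by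
  induction j with
  | zero => exact ⟨1, N.one_mem, by simp⟩
  | succ j ih =>
    obtain ⟨n', hn', e⟩ := ih
    refine ⟨n' * (h ^ j * n * (h ^ j)⁻¹), N.mul_mem hn' ?_, ?_⟩
    · exact (Subgroup.mem_normalizer_iff.mp (hHN (H.pow_mem hh j)) n).mp hn
    · rw [pow_succ, e, pow_succ]; group

theorem mem_of_pow_mem_of_coprime {K : Subgroup G} {h : G} {j : ℕ} (hj : h ^ j ∈ K)
    (hcop : j.Coprime (orderOf h)) : h ∈ K := by
  obtain ⟨m, hm⟩ := exists_pow_eq_self_of_coprime hcop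
  rw [← hm]
  exact K.pow_mem hj m

/-- an element of `N H` whose order is prime to `|H|` lies in `N` -/
theorem mem_left_of_pow_eq_one [Finite G] {N H : Subgroup G}
    (hHN : H ≤ Subgroup.normalizer (N : Set G)) {x : G} (hx : x ∈ N ⊔ H) {j : ℕ} (hj : x ^ j = 1)
    (hcop : j.Coprime (Nat.card ↥H)) : x ∈ N := by
  obtain ⟨n, hn, h, hh, rfl⟩ := (Cfsg.Agent.H1.mem_sup_of_le_normalizer N H hHN).mp hx
  obtain ⟨n', hn', e⟩ := exists_mul_pow hHN hn hh j
  rw [hj] at e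
  have h1 : h ^ j ∈ N := by
    have : h ^ j = n'⁻¹ := eq_inv_of_mul_eq_one_right e.symm
    rw [this]; exact N.inv_mem hn'
  have h2 : orderOf h ∣ Nat.card ↥H := by
    have := orderOf_dvd_natCard (⟨h, hh⟩ : ↥H)
    rwa [Subgroup.orderOf_mk] at this
  have h3 : h ∈ N := mem_of_pow_mem_of_coprime h1 (Nat.Coprime.coprime_dvd_right h2 hcop)
  exact N.mul_mem hn h3

/-! ### subgroups of a group of order `p²` -/

theorem card_cases_of_le [Finite G] {p : ℕ} [hp : Fact p.Prime] {A B : Subgroup G}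
    (hA : Nat.card ↥A = p ^ 2) (hBA : B ≤ A) : B = ⊥ ∨ Nat.card ↥B = p ∨ B = A := by
  have hd : Nat.card ↥B ∣ p ^ 2 := hA ▸ Subgroup.card_dvd_of_le hBA
  obtain ⟨k, hk, hc⟩ := (Nat.dvd_prime_pow hp.out).mp hd
  interval_cases k
  · left
    rw [pow_zero] at hc
    exact Subgroup.card_eq_one.mp hc
  · right; left
    rw [pow_one] at hc
    exact hc
  · right; right
    exact Subgroup.eq_of_le_of_card_ge hBA (by rw [hA, hc])

theorem inf_eq_bot_of_card_prime [Finite G] {p : ℕ} [hp : Fact p.Prime] {X Y : Subgroup G}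
    (hX : Nat.card ↥X = p) (hY : Nat.card ↥Y = p) (hne : X ≠ Y) : X ⊓ Y = ⊥ := by
  have hd : Nat.card ↥(X ⊓ Y) ∣ p := hX ▸ Subgroup.card_dvd_of_le inf_le_left
  rcases (Nat.dvd_prime hp.out).mp hd with h | h
  · exact Subgroup.card_eq_one.mp h
  · exfalso
    apply hne
    have h1 : X ⊓ Y = X := Subgroup.eq_of_le_of_card_ge inf_le_left (by rw [h, hX])
    have h2 : X ⊓ Y = Y := Subgroup.eq_of_le_of_card_ge inf_le_right (by rw [h, hY])
    rw [← h1, h2]

theorem eq_zpowers_of_card_prime [Finite G] {p : ℕ} [hp : Fact p.Prime] {X : Subgroup G}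
    (hX : Nat.card ↥X = p) {x : G} (hx : x ∈ X) (hx1 : x ≠ 1) : X = Subgroup.zpowers x := by
  symm
  apply Subgroup.eq_of_le_of_card_ge (Subgroup.zpowers_le.mpr hx)
  rw [Nat.card_zpowers, hX]
  have h1 : orderOf x ∣ p := by
    have := orderOf_dvd_natCard (⟨x, hx⟩ : ↥X)
    rwa [Subgroup.orderOf_mk, hX] at this
  rcases (Nat.dvd_prime hp.out).mp h1 with h | h
  · exact absurd (orderOf_eq_one_iff.mp h) hx1
  · exact h.ge

theorem exists_ne_one_of_card_prime [Finite G] {p : ℕ} [hp : Fact p.Prime] {X : Subgroup G}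
    (hX : Nat.card ↥X = p) : ∃ x ∈ X, x ≠ 1 := by
  have hne : X ≠ ⊥ := by
    rintro rfl
    rw [Subgroup.card_bot] at hX
    exact hp.out.one_lt.ne hX
  obtain ⟨⟨x, hx⟩, hx1⟩ := (Subgroup.ne_bot_iff_exists_ne_one).mp hne
  exact ⟨x, hx, fun h => hx1 (Subtype.ext h)⟩

theorem exists_pow_eq_conj [Finite G] {X : Subgroup G} {g x : G}
    (hg : g ∈ Subgroup.normalizer (X : Set G)) (hX : X = Subgroup.zpowers x) :
    ∃ k : ℕ, g * x * g⁻¹ = x ^ k := by
  have h1 : g * x * g⁻¹ ∈ X :=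
    (Subgroup.mem_normalizer_iff.mp hg x).mp (hX ▸ Subgroup.mem_zpowers x)
  rw [hX] at h1
  have h2 : g * x * g⁻¹ ∈ Submonoid.powers x := mem_powers_iff_mem_zpowers.mpr h1
  obtain ⟨k, hk⟩ := h2
  exact ⟨k, hk.symm⟩

/-- an element normalizing three distinct subgroups of order `p` of an abelian group of order `p²`
acts on it as a power map -/
theorem conj_eq_pow_of_three_lines [Finite G] {p : ℕ} [hp : Fact p.Prime]
    {A X₁ X₂ X₃ : Subgroup G}
    (hAc : ∀ a ∈ A, ∀ b ∈ A, a * b = b * a) (hA : Nat.card ↥A = p ^ 2)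
    (h1A : X₁ ≤ A) (h2A : X₂ ≤ A) (h3A : X₃ ≤ A)
    (h1 : Nat.card ↥X₁ = p) (h2 : Nat.card ↥X₂ = p) (h3 : Nat.card ↥X₃ = p)
    (h12 : X₁ ≠ X₂) (h13 : X₁ ≠ X₃) (h23 : X₂ ≠ X₃) {g : G}
    (hg1 : g ∈ Subgroup.normalizer (X₁ : Set G)) (hg2 : g ∈ Subgroup.normalizer (X₂ : Set G))
    (hg3 : g ∈ Subgroup.normalizer (X₃ : Set G)) :
    ∃ γ : ℕ, ∀ a ∈ A, g * a * g⁻¹ = a ^ γ := by
  have i12 : X₁ ⊓ X₂ = ⊥ := inf_eq_bot_of_card_prime h1 h2 h12
  have i13 : X₁ ⊓ X₃ = ⊥ := inf_eq_bot_of_card_prime h1 h3 h13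
  have i23 : X₂ ⊓ X₃ = ⊥ := inf_eq_bot_of_card_prime h2 h3 h23
  have hn21 : X₂ ≤ Subgroup.normalizer (X₁ : Set G) := by
    intro y hy
    apply Cfsg.Agent.Lib.Lead.Conj.mem_normalizer_of_conj_mem
    intro x hx
    have : y * x * y⁻¹ = x := by
      rw [hAc y (h2A hy) x (h1A hx)]; group
    rw [this]; exact hx
  have hsup : X₁ ⊔ X₂ = A := by
    apply Subgroup.eq_of_le_of_card_ge (sup_le h1A h2A)
    have hc := Cfsg.Agent.H1.card_sup_mul_card_inf X₂ X₁ hn21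
    rw [inf_comm, i12, Subgroup.card_bot, mul_one, h1, h2, sup_comm] at hc
    rw [hA, hc, sq]
  obtain ⟨w, hw3, hw1⟩ := exists_ne_one_of_card_prime h3
  have hwA : w ∈ X₁ ⊔ X₂ := hsup ▸ h3A hw3
  obtain ⟨u, hu, v, hv, rfl⟩ := (Cfsg.Agent.H1.mem_sup_of_le_normalizer X₁ X₂ hn21).mp hwA
  have hu1 : u ≠ 1 := by
    rintro rfl
    rw [one_mul] at hw3 hw1
    have : v ∈ X₂ ⊓ X₃ := ⟨hv, hw3⟩
    rw [i23, Subgroup.mem_bot] at this
    exact hw1 this
  have hv1 : v ≠ 1 := by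
    rintro rfl
    rw [mul_one] at hw3 hw1
    have : u ∈ X₁ ⊓ X₃ := ⟨hu, hw3⟩
    rw [i13, Subgroup.mem_bot] at this
    exact hw1 this
  have e1 := eq_zpowers_of_card_prime h1 hu hu1
  have e2 := eq_zpowers_of_card_prime h2 hv hv1
  have e3 := eq_zpowers_of_card_prime h3 hw3 hw1
  obtain ⟨α, hα⟩ := exists_pow_eq_conj hg1 e1
  obtain ⟨β, hβ⟩ := exists_pow_eq_conj hg2 e2
  obtain ⟨γ, hγ⟩ := exists_pow_eq_conj hg3 e3
  have huv : Commute u v := hAc u (h1A hu) v (h2A hv)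
  have hkey : u ^ α * v ^ β = u ^ γ * v ^ γ := by
    rw [← huv.mul_pow, ← hγ, ← hα, ← hβ]; group
  have ht : (u ^ γ)⁻¹ * u ^ α = v ^ γ * (v ^ β)⁻¹ := by
    have : u ^ α = u ^ γ * v ^ γ * (v ^ β)⁻¹ := by rw [← hkey]; group
    rw [this]; group
  have ht1 : (u ^ γ)⁻¹ * u ^ α ∈ X₁ ⊓ X₂ := by
    refine ⟨X₁.mul_mem (X₁.inv_mem (X₁.pow_mem hu γ)) (X₁.pow_mem hu α), ?_⟩
    rw [ht]
    exact X₂.mul_mem (X₂.pow_mem hv γ) (X₂.inv_mem (X₂.pow_mem hv β))
  rw [i12, Subgroup.mem_bot] at ht1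
  have huα : u ^ α = u ^ γ := by
    have : u ^ α = u ^ γ * ((u ^ γ)⁻¹ * u ^ α) := by group
    rw [this, ht1, mul_one]
  have hvβ : v ^ β = v ^ γ := by
    have h5 : v ^ γ * (v ^ β)⁻¹ = 1 := by rw [← ht, ht1]
    have : v ^ β = (v ^ γ * (v ^ β)⁻¹)⁻¹ * v ^ γ := by group
    rw [this, h5, inv_one, one_mul]
  have hconj1 : ∀ x ∈ X₁, g * x * g⁻¹ = x ^ γ := by
    intro x hx
    rw [e1] at hx
    obtain ⟨k, rfl⟩ := Subgroup.mem_zpowers_iff.mp hx
    have : g * u ^ k * g⁻¹ = (g * u * g⁻¹) ^ k := by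
      simpa using (map_zpow (MulAut.conj g).toMonoidHom u k)
    rw [this, hα, huα, ← zpow_natCast, ← zpow_natCast, ← zpow_mul, ← zpow_mul, mul_comm]
  have hconj2 : ∀ x ∈ X₂, g * x * g⁻¹ = x ^ γ := by
    intro x hx
    rw [e2] at hx
    obtain ⟨k, rfl⟩ := Subgroup.mem_zpowers_iff.mp hx
    have : g * v ^ k * g⁻¹ = (g * v * g⁻¹) ^ k := by
      simpa using (map_zpow (MulAut.conj g).toMonoidHom v k)
    rw [this, hβ, hvβ, ← zpow_natCast, ← zpow_natCast, ← zpow_mul, ← zpow_mul, mul_comm]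
  refine ⟨γ, fun a ha => ?_⟩
  have haA : a ∈ X₁ ⊔ X₂ := hsup ▸ ha
  obtain ⟨x, hx, y, hy, rfl⟩ := (Cfsg.Agent.H1.mem_sup_of_le_normalizer X₁ X₂ hn21).mp haA
  have hxy : Commute x y := hAc x (h1A hx) y (h2A hy)
  rw [hxy.mul_pow, ← hconj1 x hx, ← hconj2 y hy]; group

theorem mem_normalizer_of_conj_eq_pow [Finite G] {A X : Subgroup G} {g : G} {γ : ℕ}
    (h : ∀ a ∈ A, g * a * g⁻¹ = a ^ γ) (hXA : X ≤ A) : g ∈ Subgroup.normalizer (X : Set G) := by
  apply Cfsg.Agent.Lib.Lead.Conj.mem_normalizer_of_conj_mem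
  intro x hx
  rw [h x (hXA hx)]
  exact X.pow_mem hx γ

/-- **Dichotomy.**  Let `N` act on the abelian group `A` of order `p²` with `[N, N]` acting trivially, `|G|`
odd.  If `g ∈ N` normalizes a subgroup `X₁` of order `p` of `A`, then either `g` normalizes every
subgroup of `A`, or `X₁` is normalized by `N`. -/
theorem dichotomy [Finite G] {p : ℕ} [hp : Fact p.Prime] {A N X₁ : Subgroup G}
    (hAc : ∀ a ∈ A, ∀ b ∈ A, a * b = b * a) (hA : Nat.card ↥A = p ^ 2)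
    (hodd : Odd (Nat.card G))
    (hNA : N ≤ Subgroup.normalizer (A : Set G))
    (hcomm : ⁅N, N⁆ ≤ Subgroup.centralizer (A : Set G)) {g : G} (hgN : g ∈ N)
    (hX₁A : X₁ ≤ A) (hX₁ : Nat.card ↥X₁ = p) (hg : g ∈ Subgroup.normalizer (X₁ : Set G)) :
    (∀ X : Subgroup G, X ≤ A → g ∈ Subgroup.normalizer (X : Set G)) ∨
      N ≤ Subgroup.normalizer (X₁ : Set G) := by
  by_cases hN1 : N ≤ Subgroup.normalizer (X₁ : Set G)
  · exact Or.inr hN1
  left
  obtain ⟨n, hnN, hn⟩ := SetLike.not_le_iff_exists.mp hN1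
  -- transport of invariance
  have F2 : ∀ X : Subgroup G, X ≤ A → g ∈ Subgroup.normalizer (X : Set G) →
      g ∈ Subgroup.normalizer ((cj n X : Subgroup G) : Set G) := by
    intro X hXA hgX
    rw [← cj_normalizer, mem_cj]
    have hc : g⁻¹ * n⁻¹ * g * n ∈ Subgroup.normalizer (X : Set G) := by
      have h1 : ⁅g⁻¹, n⁻¹⁆ ∈ ⁅N, N⁆ :=
        Subgroup.commutator_mem_commutator (N.inv_mem hgN) (N.inv_mem hnN)
      have h2 := hcomm h1
      have h3 : ⁅g⁻¹, n⁻¹⁆ = g⁻¹ * n⁻¹ * g * n := by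
        rw [commutatorElement_def]; group
      rw [h3] at h2
      exact Subgroup.centralizer_le_normalizer _ (Subgroup.centralizer_le hXA h2)
    have e : n⁻¹ * g * n = g * (g⁻¹ * n⁻¹ * g * n) := by group
    rw [e]
    exact Subgroup.mul_mem _ hgX hc
  have hcjA : ∀ X : Subgroup G, X ≤ A → cj n X ≤ A := by
    intro X hXA
    have := cj_mono n hXA
    rwa [cj_eq_of_mem_normalizer (hNA hnN)] at this
  set X₂ := cj n X₁ with hX₂
  set X₃ := cj n X₂ with hX₃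
  have h2A : X₂ ≤ A := hcjA X₁ hX₁A
  have h3A : X₃ ≤ A := hcjA X₂ h2A
  have c2 : Nat.card ↥X₂ = p := by rw [hX₂, card_cj, hX₁]
  have c3 : Nat.card ↥X₃ = p := by rw [hX₃, card_cj, c2]
  have h12 : X₁ ≠ X₂ := by
    intro h
    exact hn (mem_normalizer_of_cj_eq h.symm)
  have h23 : X₂ ≠ X₃ := by
    intro h
    apply h12
    have := congrArg (cj n⁻¹) h
    rwa [hX₃, cj_inv_cj, hX₂, cj_inv_cj] at this
  have h13 : X₁ ≠ X₃ := by
    intro h
    have h1 : cj (n * n) X₁ = X₁ := by rw [cj_mul]; exact h.symm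
    have h2 : n * n ∈ Subgroup.normalizer (X₁ : Set G) := mem_normalizer_of_cj_eq h1
    have hoddn : Odd (orderOf n) := Odd.of_dvd_nat hodd (orderOf_dvd_natCard n)
    have hcop : Nat.Coprime 2 (orderOf n) := Nat.coprime_two_left.mpr hoddn
    apply hn
    apply mem_of_pow_mem_of_coprime (j := 2) _ hcop
    rw [pow_two]; exact h2
  have hg2 : g ∈ Subgroup.normalizer (X₂ : Set G) := F2 X₁ hX₁A hg
  have hg3 : g ∈ Subgroup.normalizer (X₃ : Set G) := F2 X₂ h2A hg2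
  obtain ⟨γ, hγ⟩ := conj_eq_pow_of_three_lines hAc hA hX₁A h2A h3A hX₁ c2 c3 h12 h13 h23 hg hg2 hg3
  intro X hXA
  exact mem_normalizer_of_conj_eq_pow hγ hXA

end Cfsg.Agent.H1.BG16
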