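import Mathlib
import Cfsg.Agent.H1.BG16A
import Cfsg.Agent.Lib.Helper4.Rank2Aut

/-!
# B&G Section 16 preliminaries (helper1), part B: coprime action on abelian `p`-groups, internally

* the conjugation action of `H ≤ N_G(P)` on an abelian subgroup `P`, relative Maschke inside `G`;
* the module lemma: an `H`-invariant subgroup of order `p` inside `℧^{a-1}(P)` is `Ω₁` of an
  `H`-invariant cyclic subgroup of maximal order;
* a noncyclic abelian quotient cannot act fixed-point-freely (rank two lemma inside `G`).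
-/

set_option autoImplicit false
set_option linter.unusedVariables false
set_option linter.unusedSectionVars false
set_option linter.style.haveILetI false

open scoped commutatorElement Pointwise

namespace Cfsg.Agent.H1.BG16

open Cfsg Cfsg.Agent.Lib.Helper8.BGTen

universe u

variable {G : Type u} [Group G]

/-- conjugation action of a subgroup `H ≤ N_G(P)` on `P` -/
@[reducible] def conjAct (P H : Subgroup G) (hHP : H ≤ Subgroup.normalizer (P : Set G)) :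
    MulDistribMulAction ↥H ↥P where
  smul h x := ⟨h.1 * x.1 * h.1⁻¹, (Subgroup.mem_normalizer_iff.mp (hHP h.2) x.1).mp x.2⟩
  one_smul x := by
    apply Subtype.ext
    show (1 : G) * x.1 * (1 : G)⁻¹ = x.1
    simp
  mul_smul a b x := by
    apply Subtype.ext
    show (a.1 * b.1) * x.1 * (a.1 * b.1)⁻¹ = a.1 * (b.1 * x.1 * b.1⁻¹) * a.1⁻¹
    group
  smul_mul a x y := by
    apply Subtype.ext
    show a.1 * (x.1 * y.1) * a.1⁻¹ = (a.1 * x.1 * a.1⁻¹) * (a.1 * y.1 * a.1⁻¹)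
    group
  smul_one a := by
    apply Subtype.ext
    show a.1 * 1 * a.1⁻¹ = 1
    simp

/-- relative Maschke inside `G` -/
theorem exists_invariant_rel_complement' [Finite G] {P H N₀ D Q : Subgroup G}
    (hPc : ∀ a ∈ P, ∀ b ∈ P, a * b = b * a) (hHP : H ≤ Subgroup.normalizer (P : Set G))
    (hcop : (Nat.card ↥H).Coprime (Nat.card ↥P)) (p : ℕ) (hp : p.Prime)
    (hND : N₀ ≤ D) (hDQ : D ≤ Q) (hQP : Q ≤ P)
    (hN : H ≤ Subgroup.normalizer (N₀ : Set G)) (hD : H ≤ Subgroup.normalizer (D : Set G))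
    (hQ : H ≤ Subgroup.normalizer (Q : Set G)) (hexp : ∀ q ∈ Q, q ^ p ∈ N₀) :
    ∃ W : Subgroup G, H ≤ Subgroup.normalizer (W : Set G) ∧ N₀ ≤ W ∧ W ≤ Q ∧ D ⊓ W ≤ N₀ ∧
      ∀ q ∈ Q, ∃ d ∈ D, ∃ w ∈ W, q = d * w := by
  letI : CommGroup ↥P :=
    { (inferInstance : Group ↥P) with mul_comm := fun a b => Subtype.ext (hPc a a.2 b b.2) }
  letI : MulDistribMulAction ↥H ↥P := conjAct P H hHP
  have hsmul : ∀ (h : ↥H) (x : ↥P), ((h • x : ↥P) : G) = h.1 * x.1 * h.1⁻¹ := fun _ _ => rfl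
  have inv : ∀ {X : Subgroup G}, H ≤ Subgroup.normalizer (X : Set G) →
      ∀ y : ↥H, ∀ v ∈ X.subgroupOf P, y • v ∈ X.subgroupOf P := by
    intro X hX y v hv
    rw [Subgroup.mem_subgroupOf] at hv ⊢
    rw [hsmul]
    exact (Subgroup.mem_normalizer_iff.mp (hX y.2) v.1).mp hv
  obtain ⟨E', hE'inv, hNE, hEQ, hDE, hsup⟩ :=
    Cfsg.Agent.H1.exists_invariant_rel_complement (V := ↥P) (Y := ↥H) hcop p hp
      (N₀.subgroupOf P) (D.subgroupOf P) (Q.subgroupOf P)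
      (Subgroup.subgroupOf_mono _ hND) (Subgroup.subgroupOf_mono _ hDQ)
      (inv hN) (inv hD) (inv hQ)
      (by
        intro q hq
        rw [Subgroup.mem_subgroupOf] at hq ⊢
        exact hexp _ hq)
  refine ⟨E'.map P.subtype, ?_, ?_, ?_, ?_, ?_⟩
  · intro h hh
    apply Cfsg.Agent.Lib.Lead.Conj.mem_normalizer_of_conj_mem
    rintro _ ⟨v, hv, rfl⟩
    exact ⟨(⟨h, hh⟩ : ↥H) • v, hE'inv ⟨h, hh⟩ v hv, rfl⟩
  · intro x hx
    have hxP : x ∈ P := hQP (hDQ (hND hx))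
    exact ⟨⟨x, hxP⟩, hNE (Subgroup.mem_subgroupOf.mpr hx), rfl⟩
  · rintro _ ⟨v, hv, rfl⟩
    exact Subgroup.mem_subgroupOf.mp (hEQ hv)
  · rintro _ ⟨hxD, ⟨v, hv, rfl⟩⟩
    have : v ∈ D.subgroupOf P ⊓ E' := ⟨Subgroup.mem_subgroupOf.mpr hxD, hv⟩
    exact Subgroup.mem_subgroupOf.mp (hDE this)
  · intro q hq
    have hqP : q ∈ P := hQP hq
    have h1 : (⟨q, hqP⟩ : ↥P) ∈ D.subgroupOf P ⊔ E' := by
      rw [hsup]; exact Subgroup.mem_subgroupOf.mpr hq
    obtain ⟨d, hd, w, hw, e⟩ := Subgroup.mem_sup.mp h1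
    refine ⟨d.1, Subgroup.mem_subgroupOf.mp hd, w.1, ⟨w, hw, rfl⟩, ?_⟩
    have := congrArg Subtype.val e
    exact this.symm

/-! ### power maps on abelian subgroups -/

/-- preimage of `X` under the `n`-th power map on the abelian subgroup `S` -/
def powPre (S : Subgroup G) (hS : ∀ a ∈ S, ∀ b ∈ S, a * b = b * a) (n : ℕ) (X : Subgroup G) :
    Subgroup G where
  carrier := {x | x ∈ S ∧ x ^ n ∈ X}
  one_mem' := ⟨S.one_mem, by rw [one_pow]; exact X.one_mem⟩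
  mul_mem' := by
    intro a b ha hb
    refine ⟨S.mul_mem ha.1 hb.1, ?_⟩
    have hc : Commute a b := hS a ha.1 b hb.1
    rw [hc.mul_pow]
    exact X.mul_mem ha.2 hb.2
  inv_mem' := by
    intro a ha
    refine ⟨S.inv_mem ha.1, ?_⟩
    rw [inv_pow]
    exact X.inv_mem ha.2

theorem mem_powPre {S : Subgroup G} {hS : ∀ a ∈ S, ∀ b ∈ S, a * b = b * a} {n : ℕ}
    {X : Subgroup G} {x : G} : x ∈ powPre S hS n X ↔ x ∈ S ∧ x ^ n ∈ X := Iff.rfl

theorem powPre_le (S : Subgroup G) (hS : ∀ a ∈ S, ∀ b ∈ S, a * b = b * a) (n : ℕ)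
    (X : Subgroup G) : powPre S hS n X ≤ S := fun _ hx => hx.1

/-- image of the `n`-th power map on the abelian subgroup `S` -/
def powIm (S : Subgroup G) (hS : ∀ a ∈ S, ∀ b ∈ S, a * b = b * a) (n : ℕ) : Subgroup G where
  carrier := {x | ∃ y ∈ S, y ^ n = x}
  one_mem' := ⟨1, S.one_mem, one_pow n⟩
  mul_mem' := by
    rintro _ _ ⟨a, ha, rfl⟩ ⟨b, hb, rfl⟩
    have hc : Commute a b := hS a ha b hb
    exact ⟨a * b, S.mul_mem ha hb, hc.mul_pow n⟩
  inv_mem' := by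
    rintro _ ⟨a, ha, rfl⟩
    exact ⟨a⁻¹, S.inv_mem ha, inv_pow a n⟩

theorem mem_powIm {S : Subgroup G} {hS : ∀ a ∈ S, ∀ b ∈ S, a * b = b * a} {n : ℕ} {x : G} :
    x ∈ powIm S hS n ↔ ∃ y ∈ S, y ^ n = x := Iff.rfl

theorem powIm_le (S : Subgroup G) (hS : ∀ a ∈ S, ∀ b ∈ S, a * b = b * a) (n : ℕ) :
    powIm S hS n ≤ S := by
  rintro _ ⟨y, hy, rfl⟩
  exact S.pow_mem hy n

theorem conj_pow' (g x : G) (n : ℕ) : (g * x * g⁻¹) ^ n = g * x ^ n * g⁻¹ := conj_pow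

theorem normalizer_le_normalizer_powIm [Finite G] (S : Subgroup G)
    (hS : ∀ a ∈ S, ∀ b ∈ S, a * b = b * a) (n : ℕ) :
    Subgroup.normalizer (S : Set G) ≤ Subgroup.normalizer ((powIm S hS n : Subgroup G) : Set G) := by
  intro g hg
  apply Cfsg.Agent.Lib.Lead.Conj.mem_normalizer_of_conj_mem
  rintro _ ⟨y, hy, rfl⟩
  exact ⟨g * y * g⁻¹, (Subgroup.mem_normalizer_iff.mp hg y).mp hy, conj_pow' g y n⟩

theorem mem_normalizer_powPre [Finite G] {S X : Subgroup G}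
    (hS : ∀ a ∈ S, ∀ b ∈ S, a * b = b * a) (n : ℕ) {g : G}
    (hgS : g ∈ Subgroup.normalizer (S : Set G)) (hgX : g ∈ Subgroup.normalizer (X : Set G)) :
    g ∈ Subgroup.normalizer ((powPre S hS n X : Subgroup G) : Set G) := by
  apply Cfsg.Agent.Lib.Lead.Conj.mem_normalizer_of_conj_mem
  rintro x ⟨hx, hxn⟩
  refine ⟨(Subgroup.mem_normalizer_iff.mp hgS x).mp hx, ?_⟩
  rw [conj_pow']
  exact (Subgroup.mem_normalizer_iff.mp hgX _).mp hxn

/-! ### the module lemma -/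

/-- **Module lemma.**  `P` an abelian `p`-group with `x^{p N₁} = 1` for all `x`, `H` a `p'`-group
normalizing `P` and a subgroup `Xs` of order `p` all of whose elements are `N₁`-th powers in `P`.  Then
some `c ∈ P` has `⟨c⟩` normalized by `H` and `c^{N₁}` a generator of `Xs`. -/
theorem exists_cyclic_invariant [Finite G] {p : ℕ} [hp : Fact p.Prime] {P H Xs : Subgroup G}
    (hPc : ∀ a ∈ P, ∀ b ∈ P, a * b = b * a) (hPp : IsPGroup p ↥P)
    (hHP : H ≤ Subgroup.normalizer (P : Set G)) (hcop : (Nat.card ↥H).Coprime p)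
    {N₁ : ℕ} (hexp : ∀ x ∈ P, x ^ (p * N₁) = 1)
    (hXs : Nat.card ↥Xs = p) (hHX : H ≤ Subgroup.normalizer (Xs : Set G))
    (hXP : ∀ x ∈ Xs, ∃ y ∈ P, y ^ N₁ = x) :
    ∃ c ∈ P, H ≤ Subgroup.normalizer ((Subgroup.zpowers c : Subgroup G) : Set G) ∧
      c ^ N₁ ∈ Xs ∧ c ^ N₁ ≠ 1 := by
  classical
  have hpp : p.Prime := hp.out
  obtain ⟨nP, hnP⟩ := hPp.exists_card_eq
  have hcopP : (Nat.card ↥H).Coprime (Nat.card ↥P) := by
    rw [hnP]; exact Nat.Coprime.pow_right nP hcop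
  -- the family of admissible subgroups
  let 𝒮 : Set (Subgroup G) := {S | S ≤ P ∧ H ≤ Subgroup.normalizer (S : Set G) ∧
    (∀ s ∈ S, s ^ N₁ ∈ Xs) ∧ ∃ s ∈ S, s ^ N₁ ≠ 1}
  have hS₀ : powPre P hPc N₁ Xs ∈ 𝒮 := by
    refine ⟨powPre_le _ _ _ _, ?_, fun s hs => hs.2, ?_⟩
    · intro h hh
      exact mem_normalizer_powPre hPc N₁ (hHP hh) (hHX hh)
    · obtain ⟨x₀, hx₀, hx₀1⟩ := exists_ne_one_of_card_prime hXs
      obtain ⟨y, hy, hyx⟩ := hXP x₀ hx₀
      exact ⟨y, ⟨hy, hyx ▸ hx₀⟩, hyx ▸ hx₀1⟩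
  obtain ⟨S, hSmin⟩ := Set.Finite.exists_minimal (Set.toFinite 𝒮) ⟨_, hS₀⟩
  obtain ⟨hSP, hHS, hSX, s₁, hs₁S, hs₁⟩ := hSmin.prop
  have hSc : ∀ a ∈ S, ∀ b ∈ S, a * b = b * a := fun a ha b hb => hPc a (hSP ha) b (hSP hb)
  -- `T = Ω_{a-1}(S)` and `Φ = S^p`
  set T := powPre S hSc N₁ ⊥ with hT
  set Φ := powIm S hSc p with hΦ
  have hTmem : ∀ {x : G}, x ∈ T ↔ x ∈ S ∧ x ^ N₁ = 1 := by
    intro x
    rw [hT, mem_powPre, Subgroup.mem_bot]
  have hΦT : Φ ≤ T := by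
    rintro _ ⟨y, hy, rfl⟩
    rw [hTmem]
    refine ⟨S.pow_mem hy p, ?_⟩
    rw [← pow_mul]
    exact hexp y (hSP hy)
  have hTS : T ≤ S := powPre_le _ _ _ _
  have hHT : H ≤ Subgroup.normalizer (T : Set G) := by
    intro h hh
    refine mem_normalizer_powPre hSc N₁ (hHS hh) ?_
    rw [Subgroup.mem_normalizer_iff]
    intro x
    rw [Subgroup.mem_bot, Subgroup.mem_bot]
    exact conj_eq_one_iff.symm
  have hHΦ : H ≤ Subgroup.normalizer (Φ : Set G) :=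
    hHS.trans (normalizer_le_normalizer_powIm S hSc p)
  obtain ⟨W, hHW, hΦW, hWS, hTW, hdec⟩ :=
    exists_invariant_rel_complement' hPc hHP hcopP p hpp hΦT hTS hSP hHΦ hHT hHS
      (fun q hq => ⟨q, hq, rfl⟩)
  -- `W` is admissible, hence `W = S`
  have hW𝒮 : W ∈ 𝒮 := by
    refine ⟨hWS.trans hSP, hHW, fun w hw => hSX w (hWS hw), ?_⟩
    obtain ⟨t, ht, w, hw, e⟩ := hdec s₁ hs₁S
    refine ⟨w, hw, ?_⟩
    have hc : Commute t w := hSc t (hTS ht) w (hWS hw)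
    have : s₁ ^ N₁ = w ^ N₁ := by
      rw [e, hc.mul_pow, (hTmem.mp ht).2, one_mul]
    rw [← this]; exact hs₁
  have hSW : S ≤ W := hSmin.le_of_le hW𝒮 hWS
  have hTΦ : T ≤ Φ := by
    intro t ht
    exact hΦ ▸ (hΦ ▸ hTW ⟨ht, hSW (hTS ht)⟩)
  -- `Xs = ⟨s₁^{N₁}⟩`
  have hXgen : Xs = Subgroup.zpowers (s₁ ^ N₁) :=
    eq_zpowers_of_card_prime hXs (hSX s₁ hs₁S) hs₁
  -- every element of `S` is a power of `s₁` times an element of `T`
  have hdec1 : ∀ y ∈ S, ∃ j : ℤ, ∃ t ∈ T, y = s₁ ^ j * t := by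
    intro y hy
    have h1 : y ^ N₁ ∈ Subgroup.zpowers (s₁ ^ N₁) := hXgen ▸ hSX y hy
    obtain ⟨j, hj⟩ := Subgroup.mem_zpowers_iff.mp h1
    have hsj : s₁ ^ j ∈ S := S.zpow_mem hs₁S j
    have hc : Commute (s₁ ^ j)⁻¹ y := hSc _ (S.inv_mem hsj) y hy
    refine ⟨j, (s₁ ^ j)⁻¹ * y, hTmem.mpr ⟨S.mul_mem (S.inv_mem hsj) hy, ?_⟩, by group⟩
    rw [hc.mul_pow, ← hj, inv_pow, ← zpow_natCast (s₁ ^ j), ← zpow_mul, mul_comm j, zpow_mul,
      zpow_natCast, inv_mul_cancel]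
  -- `S = ⟨s₁⟩ S^{p^k}` for all `k`
  have hdec2 : ∀ k : ℕ, ∀ y ∈ S, ∃ c ∈ Subgroup.zpowers s₁, ∃ z ∈ S, y = c * z ^ (p ^ k) := by
    intro k
    induction k with
    | zero =>
      intro y hy
      exact ⟨1, Subgroup.one_mem _, y, hy, by simp⟩
    | succ k ih =>
      intro y hy
      obtain ⟨c, hc, z, hz, rfl⟩ := ih y hy
      obtain ⟨j, t, ht, rfl⟩ := hdec1 z hz
      obtain ⟨z', hz', rfl⟩ := hTΦ ht
      have hsj : s₁ ^ j ∈ S := S.zpow_mem hs₁S j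
      have hcomm : Commute (s₁ ^ j) (z' ^ p) := hSc _ hsj _ (S.pow_mem hz' p)
      refine ⟨c * (s₁ ^ j) ^ (p ^ k), Subgroup.mul_mem _ hc
        (Subgroup.pow_mem _ (Subgroup.zpow_mem _ (Subgroup.mem_zpowers s₁) j) _), z', hz', ?_⟩
      rw [hcomm.mul_pow, ← pow_mul, pow_succ, mul_assoc, mul_comm p]
  have hScyc : S ≤ Subgroup.zpowers s₁ := by
    intro y hy
    obtain ⟨c, hc, z, hz, rfl⟩ := hdec2 nP y hy
    have : z ^ (p ^ nP) = 1 := by
      have h1 := pow_card_eq_one' (G := ↥P) (x := ⟨z, hSP hz⟩)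
      rw [hnP] at h1
      exact congrArg Subtype.val h1
    rw [this, mul_one]; exact hc
  have hSeq : S = Subgroup.zpowers s₁ :=
    le_antisymm hScyc (Subgroup.zpowers_le.mpr hs₁S)
  exact ⟨s₁, hSP hs₁S, hSeq ▸ hHS, hSX s₁ hs₁S, hs₁⟩

/-! ### the rank two lemma -/

/-- two commuting automorphisms `σ, τ` with `σ^q = τ^q = 1` of an abelian `q'`-group `V` such that
every `σ^i τ^j` outside the identity class acts fixed-point-freely: then `V = 1` -/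
theorem no_fpf_rank_two {q : ℕ} [hq : Fact q.Prime] {V : Type*} [Group V]
    (hV : ∀ a b : V, a * b = b * a)
    (σ τ : MulAut V) (hστ : σ * τ = τ * σ) (hσ : σ ^ q = 1) (hτ : τ ^ q = 1)
    (hqV : ¬ q ∣ Nat.card V)
    (hfpf : ∀ i j : ℕ, ¬ (q ∣ i ∧ q ∣ j) → ∀ v : V, (σ ^ i * τ ^ j) v = v → v = 1) :
    ∀ v : V, v = 1 := by
  letI : CommGroup V := { (inferInstance : Group V) with mul_comm := hV }
  haveI : NeZero q := ⟨hq.out.ne_zero⟩
  let L : ZMod q × ZMod q → Monoid.End V := fun u =>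
    ((σ ^ u.1.val * τ ^ u.2.val : MulAut V) : V ≃* V).toMonoidHom
  have hpowσ : ∀ a b : ZMod q, σ ^ (a + b).val = σ ^ a.val * σ ^ b.val := by
    intro a b
    rw [ZMod.val_add, ← pow_add]
    exact (pow_eq_pow_mod _ hσ).symm
  have hpowτ : ∀ a b : ZMod q, τ ^ (a + b).val = τ ^ a.val * τ ^ b.val := by
    intro a b
    rw [ZMod.val_add, ← pow_add]
    exact (pow_eq_pow_mod _ hτ).symm
  have hcomm : ∀ a b : ℕ, σ ^ a * τ ^ b = τ ^ b * σ ^ a := by
    intro a b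
    exact ((Commute.pow_pow (show Commute σ τ from hστ) a b)).eq
  have hL : ∀ u v, L (u + v) = L u * L v := by
    intro u v
    have e : σ ^ (u + v).1.val * τ ^ (u + v).2.val =
        (σ ^ u.1.val * τ ^ u.2.val) * (σ ^ v.1.val * τ ^ v.2.val) := by
      rw [Prod.fst_add, Prod.snd_add, hpowσ, hpowτ]
      calc σ ^ u.1.val * σ ^ v.1.val * (τ ^ u.2.val * τ ^ v.2.val)
          = σ ^ u.1.val * (σ ^ v.1.val * τ ^ u.2.val) * τ ^ v.2.val := by group
        _ = σ ^ u.1.val * (τ ^ u.2.val * σ ^ v.1.val) * τ ^ v.2.val := by rw [hcomm]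
        _ = _ := by group
    apply MonoidHom.ext
    intro x
    show (σ ^ (u + v).1.val * τ ^ (u + v).2.val) x = _
    rw [e]
    rfl
  have hL0 : L 0 = 1 := by
    apply MonoidHom.ext
    intro x
    show (σ ^ (0 : ZMod q × ZMod q).1.val * τ ^ (0 : ZMod q × ZMod q).2.val) x = x
    simp
  have key := Cfsg.Agent.H2.HyperGen.rank_two (p := q) (V := V) L hL hL0 ⊤
    (fun _ _ _ => Subgroup.mem_top _) hqV
    (by
      intro u hu w _ hw
      apply hfpf u.1.val u.2.val _ w hw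
      rintro ⟨h1, h2⟩
      apply hu
      have e1 : u.1 = 0 := by
        rw [← ZMod.val_eq_zero]
        exact Nat.eq_zero_of_dvd_of_lt h1 (ZMod.val_lt _)
      have e2 : u.2 = 0 := by
        rw [← ZMod.val_eq_zero]
        exact Nat.eq_zero_of_dvd_of_lt h2 (ZMod.val_lt _)
      exact Prod.ext e1 e2)
  intro v
  exact key v (Subgroup.mem_top v)

/-- the rank two lemma inside `G` -/
theorem no_fpf_rank_two' {q : ℕ} [hq : Fact q.Prime] {A : Subgroup G}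
    (hAc : ∀ a ∈ A, ∀ b ∈ A, a * b = b * a) (hA1 : A ≠ ⊥) (hqA : ¬ q ∣ Nat.card ↥A)
    {y z : G} (hy : y ∈ Subgroup.normalizer (A : Set G)) (hz : z ∈ Subgroup.normalizer (A : Set G))
    (hyz : y * z = z * y)
    (hyq : y ^ q ∈ Subgroup.centralizer (A : Set G)) (hzq : z ^ q ∈ Subgroup.centralizer (A : Set G))
    (hfpf : ∀ i j : ℕ, ¬ (q ∣ i ∧ q ∣ j) → ∀ a ∈ A,
      (y ^ i * z ^ j) * a * (y ^ i * z ^ j)⁻¹ = a → a = 1) : False := by
  set c := Cfsg.Agent.Lib.Helper4.Rank2Aut.conjHom A (Subgroup.normalizer (A : Set G)) le_rfl with hc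
  set Y : ↥(Subgroup.normalizer (A : Set G)) := ⟨y, hy⟩ with hY
  set Z : ↥(Subgroup.normalizer (A : Set G)) := ⟨z, hz⟩ with hZ
  have hYZ : Y * Z = Z * Y := Subtype.ext hyz
  have hone : ∀ x : ↥(Subgroup.normalizer (A : Set G)),
      (x : G) ∈ Subgroup.centralizer (A : Set G) → c x = 1 := by
    intro x hx
    apply MulEquiv.ext
    intro a
    apply Subtype.ext
    rw [hc, Cfsg.Agent.Lib.Helper4.Rank2Aut.conjHom_apply]
    have := Subgroup.mem_centralizer_iff.mp hx a a.2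
    show (x : G) * a * (x : G)⁻¹ = ((1 : MulAut ↥A) a : ↥A)
    rw [MulAut.one_apply, ← this]
    group
  have key := no_fpf_rank_two (q := q) (V := ↥A)
    (fun a b => Subtype.ext (hAc a a.2 b b.2)) (c Y) (c Z)
    (by rw [← map_mul, ← map_mul, hYZ])
    (by rw [← map_pow]; exact hone _ hyq)
    (by rw [← map_pow]; exact hone _ hzq) hqA
    (by
      intro i j hij v hv
      apply Subtype.ext
      apply hfpf i j hij v v.2
      rw [← map_pow, ← map_pow, ← map_mul] at hv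
      have := congrArg Subtype.val hv
      rw [hc, Cfsg.Agent.Lib.Helper4.Rank2Aut.conjHom_apply] at this
      exact this)
  apply hA1
  rw [eq_bot_iff]
  intro a ha
  rw [Subgroup.mem_bot]
  exact congrArg Subtype.val (key ⟨a, ha⟩)

end Cfsg.Agent.H1.BG16
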