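import Mathlib
import Cfsg.Agent.H1.BG16B
import Cfsg.Agent.H1.BG14A
import Cfsg.Agent.H1.BG14B
import Cfsg.Agent.H1.CoprimeHall
import Cfsg.Agent.H2.BG12.G
import Cfsg.Agent.H2.BG13.B
import Cfsg.Agent.Lib.Helper7.BG127E
import Cfsg.Agent.S1414
import Cfsg.Agent.S1415
import Cfsg.Agent.S1417
import Cfsg.Agent.S1418
import Cfsg.Agent.S1419
import Cfsg.Agent.S1420
import Cfsg.Agent.S1432

/-!
# B&G Section 16 preliminaries (helper1), part C: the setting of S1421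

`E` a complement of `M_σ` in `M`; "bad lines" (subgroups of order `p ∈ τ₂(M)` of `E` with a fixed point
on `M_σ`), the criterion for a subgroup of `E` to act regularly on `M_σ`, Sylow data from S1417 in
`IsSylowIn` form, normal `p`-complements as subgroups of `G`.
-/

set_option autoImplicit false
set_option linter.unusedVariables false
set_option linter.unusedSectionVars false
set_option linter.style.haveILetI false
set_option maxHeartbeats 1000000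

open scoped commutatorElement Pointwise

namespace Cfsg.Agent.H1.BG16

open Cfsg Cfsg.Agent.Lib.Helper8.BGTen
open Cfsg.Agent.Lib.Helper7 (IsSylowIn exists_isSylowIn_ge)

universe u

variable {G : Type u} [Group G] [Finite G]

/-- the hypothesis (H) of S1421 -/
def HypH (M E : Subgroup G) : Prop :=
  ∀ e ∈ E, e ≠ 1 → (∀ p : ℕ, p.Prime → p ∣ orderOf e → p ∈ Cfsg.tau1 M ∪ Cfsg.tau3 M) →
    Cfsg.sigmaCore M ⊓ Subgroup.centralizer ({e} : Set G) = ⊥

/-! ### Sylow data -/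

/-- S1417(b) in `IsSylowIn` form -/
theorem syl17 (hG : Cfsg.IsMinSimpleOddOrder G) {M : Subgroup G} (hM : IsCoatom M) {p : ℕ}
    [hpf : Fact p.Prime] (hp : p ∈ Cfsg.tau2 M) {A : Subgroup G} (hAM : A ≤ M)
    (hAe : Cfsg.IsElementaryAbelian p A) (hAc : Nat.card ↥A = p ^ 2) {P : Subgroup G}
    (hP : IsSylowIn p P M) :
    (∀ a ∈ P, ∀ b ∈ P, a * b = b * a) ∧
      (A ≤ P → (∀ x ∈ P, x ^ p = 1 ↔ x ∈ A) ∧ ¬ Subgroup.normalizer (P : Set G) ≤ M) := by
  obtain ⟨R, hR⟩ := hP.exists_sylow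
  have hmap : (R : Subgroup ↥M).map M.subtype = P := by
    rw [hR]; exact Subgroup.map_subgroupOf_eq_of_le hP.1
  obtain ⟨hc, h2⟩ := (Cfsg.Agent.S1417.result hG M hM p hp A ⟨hAM, hAe, hAc⟩).2.1 R
  constructor
  · intro a ha b hb
    have ha' : (⟨a, hP.1 ha⟩ : ↥M) ∈ (R : Subgroup ↥M) := by
      rw [hR]; exact Subgroup.mem_subgroupOf.mpr ha
    have hb' : (⟨b, hP.1 hb⟩ : ↥M) ∈ (R : Subgroup ↥M) := by
      rw [hR]; exact Subgroup.mem_subgroupOf.mpr hb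
    have := hc.is_comm.comm (⟨_, ha'⟩ : ↥(R : Subgroup ↥M)) ⟨_, hb'⟩
    exact congrArg (fun t : ↥(R : Subgroup ↥M) => ((t : ↥M) : G)) this
  · intro hAP
    rw [hmap] at h2
    exact h2 hAP

/-- primes dividing `|E|` lie in `τ₁ ∪ τ₂ ∪ τ₃` -/
theorem tau_cases_compl (hG : Cfsg.IsMinSimpleOddOrder G) {M E : Subgroup G} (hM : IsCoatom M)
    (hE : Cfsg.IsComplIn E (Cfsg.sigmaCore M) M) {r : ℕ} (hr : r.Prime)
    (hd : r ∣ Nat.card ↥E) : r ∈ Cfsg.tau1 M ∨ r ∈ Cfsg.tau2 M ∨ r ∈ Cfsg.tau3 M :=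
  Cfsg.Agent.H2.BG13.tau_cases hG hM hr (hd.trans (Subgroup.card_dvd_of_le hE.1))
    (Cfsg.Agent.H2.BG12.not_mem_sigma_of_dvd_compl hG hM hE hr hd)

theorem orderOf_dvd_card_of_mem {H : Subgroup G} {x : G} (hx : x ∈ H) :
    orderOf x ∣ Nat.card ↥H := by
  have := orderOf_dvd_natCard (⟨x, hx⟩ : ↥H)
  rwa [Subgroup.orderOf_mk] at this

/-! ### bad lines -/

/-- a subgroup `X` of order `p` of `A` with a fixed point on `M_σ` has `N_G(X) ≤ M` -/
theorem normalizer_le_of_bad (hG : Cfsg.IsMinSimpleOddOrder G) {M E : Subgroup G}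
    (hM : IsCoatom M) (hE : Cfsg.IsComplIn E (Cfsg.sigmaCore M) M) {p : ℕ} [hpf : Fact p.Prime]
    (hp : p ∈ Cfsg.tau2 M) {A : Subgroup G}
    (hA : A ≤ E ∧ Cfsg.IsElementaryAbelian p A ∧ Nat.card ↥A = p ^ 2) {X : Subgroup G}
    (hXA : X ≤ A) (hXc : Nat.card ↥X = p)
    (hbad : Cfsg.sigmaCore M ⊓ Subgroup.centralizer (X : Set G) ≠ ⊥) :
    Subgroup.normalizer (X : Set G) ≤ M := by
  obtain ⟨hCM, huniq⟩ := (Cfsg.Agent.S1418.result hG M hM E hE p hp A hA).2.2 X hXA hXc hbad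
  have hX1 : X ≠ ⊥ := by
    rintro rfl
    rw [Subgroup.card_bot] at hXc
    exact hpf.out.one_lt.ne hXc
  have hXt : X ≠ ⊤ := ne_top_of_le_coatom hM ((hXA.trans hA.1).trans hE.1)
  obtain ⟨L, hL, hNL⟩ := exists_coatom_ge (normalizer_ne_top' hG hX1 hXt)
  have := huniq L hL ((Subgroup.centralizer_le_normalizer _).trans hNL)
  rw [← this]; exact hNL

/-- **Criterion.**  A subgroup `E₀ ≤ E` none of whose subgroups of order `p ∈ τ₂(M)` has a fixed point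
on `M_σ` acts regularly on `M_σ`. -/
theorem regular_of_lines (hG : Cfsg.IsMinSimpleOddOrder G) {M E : Subgroup G} (hM : IsCoatom M)
    (hE : Cfsg.IsComplIn E (Cfsg.sigmaCore M) M) (hH : HypH M E) {E₀ : Subgroup G} (hle : E₀ ≤ E)
    (h : ∀ p ∈ Cfsg.tau2 M, ∀ X : Subgroup G, X ≤ E₀ → Nat.card ↥X = p →
      Cfsg.sigmaCore M ⊓ Subgroup.centralizer (X : Set G) = ⊥) :
    ∀ e ∈ E₀, e ≠ 1 → Cfsg.sigmaCore M ⊓ Subgroup.centralizer ({e} : Set G) = ⊥ := by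
  intro e he he1
  rw [eq_bot_iff]
  intro x hx
  obtain ⟨hxσ, hxc⟩ := Subgroup.mem_inf.mp hx
  rw [Subgroup.mem_bot]
  by_contra hx1
  have hoe : orderOf e ≠ 1 := fun h => he1 (orderOf_eq_one_iff.mp h)
  obtain ⟨r, hr, hre⟩ := Nat.exists_prime_and_dvd hoe
  haveI : Fact r.Prime := ⟨hr⟩
  obtain ⟨e', he'def⟩ : ∃ e' : G, e' = e ^ (orderOf e / r) := ⟨_, rfl⟩
  have he'o : orderOf e' = r := he'def ▸ Cfsg.Agent.H1.BG14.orderOf_pow_div hr hre
  have he'E₀ : e' ∈ E₀ := he'def ▸ E₀.pow_mem he _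
  have he'1 : e' ≠ 1 := by
    intro h0
    rw [h0, orderOf_one] at he'o
    exact hr.one_lt.ne he'o
  have hcomm : e' * x = x * e' := by
    have h1 : e * x = x * e := (Subgroup.mem_centralizer_singleton_iff.mp hxc).symm
    rw [he'def]
    exact ((Commute.pow_left (show Commute e x from h1) _)).eq
  have hxe' : x ∈ Cfsg.sigmaCore M ⊓ Subgroup.centralizer ({e'} : Set G) :=
    Subgroup.mem_inf.mpr ⟨hxσ, Subgroup.mem_centralizer_singleton_iff.mpr hcomm.symm⟩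
  have hrE : r ∣ Nat.card ↥E := he'o ▸ orderOf_dvd_card_of_mem (hle he'E₀)
  have h13 : ∀ q : ℕ, q.Prime → q ∣ orderOf e' → q = r := by
    intro q hq hqd
    rw [he'o] at hqd
    exact (Nat.prime_dvd_prime_iff_eq hq hr).mp hqd
  rcases tau_cases_compl hG hM hE hr hrE with h1 | h2 | h3
  · have := hH e' (hle he'E₀) he'1 (fun q hq hqd => (h13 q hq hqd) ▸ Or.inl h1)
    rw [this, Subgroup.mem_bot] at hxe'
    exact hx1 hxe'
  · have hc : Nat.card ↥(Subgroup.zpowers e') = r := by rw [Nat.card_zpowers, he'o]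
    have := h r h2 (Subgroup.zpowers e') (Subgroup.zpowers_le.mpr he'E₀) hc
    have hx' : x ∈ Cfsg.sigmaCore M ⊓
        Subgroup.centralizer ((Subgroup.zpowers e' : Subgroup G) : Set G) := by
      refine ⟨hxσ, ?_⟩
      rw [centralizer_zpowers_eq]
      exact hxe'.2
    rw [this, Subgroup.mem_bot] at hx'
    exact hx1 hx'
  · have := hH e' (hle he'E₀) he'1 (fun q hq hqd => (h13 q hq hqd) ▸ Or.inr h3)
    rw [this, Subgroup.mem_bot] at hxe'
    exact hx1 hxe'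

/-! ### normal `p`-complements inside `G` -/


/-- a normal `p`-complement of a subgroup `Y`, as a subgroup of `G` -/
theorem exists_normal_compl {p : ℕ} [hpf : Fact p.Prime] {Y : Subgroup G}
    (h : Cfsg.HasNormalPComplement p ↥Y) :
    ∃ D : Subgroup G, D ≤ Y ∧ ¬ p ∣ Nat.card ↥D ∧
      (∀ x ∈ Y, (orderOf x).Coprime p → x ∈ D) ∧
      Subgroup.normalizer (Y : Set G) ≤ Subgroup.normalizer (D : Set G) := by
  obtain ⟨S, Nc, hN, hcompl⟩ := h
  haveI := hN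
  have hpp : p.Prime := hpf.out
  have hcm : Nat.card ↥Nc * Nat.card ↥(S : Subgroup ↥Y) = Nat.card ↥Y := hcompl.card_mul
  obtain ⟨v, hv⟩ : ∃ v : ℕ, v = (Nat.card ↥Y).factorization p := ⟨_, rfl⟩
  have hS : Nat.card ↥(S : Subgroup ↥Y) = p ^ v := by
    rw [hv]; exact S.card_eq_multiplicity
  have hpN : ¬ p ∣ Nat.card ↥Nc := by
    intro hd
    obtain ⟨k, hk⟩ := hd
    have h1 : p ^ (v + 1) ∣ Nat.card ↥Y := by
      rw [← hcm, hS, hk, pow_succ]
      exact ⟨k, by ring⟩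
    rw [hv] at h1
    exact Nat.pow_succ_factorization_not_dvd Nat.card_pos.ne' hpp h1
  have hidx : Nc.index = p ^ v := by
    have h1 := Nc.card_mul_index
    rw [← hcm, hS] at h1
    exact Nat.eq_of_mul_eq_mul_left Nat.card_pos h1
  have hmem : ∀ x ∈ Y, (orderOf x).Coprime p → x ∈ Nc.map Y.subtype := by
    intro x hx hcop
    refine ⟨⟨x, hx⟩, ?_, rfl⟩
    show (⟨x, hx⟩ : ↥Y) ∈ Nc
    rw [← QuotientGroup.eq_one_iff (N := Nc), ← orderOf_eq_one_iff]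
    have h1 : orderOf ((⟨x, hx⟩ : ↥Y) : ↥Y ⧸ Nc) ∣ orderOf x := by
      have := orderOf_dvd_of_pow_eq_one (x := ((⟨x, hx⟩ : ↥Y) : ↥Y ⧸ Nc)) (n := orderOf x) (by
        rw [← QuotientGroup.mk_pow]
        have : (⟨x, hx⟩ : ↥Y) ^ orderOf x = 1 := by
          apply Subtype.ext
          rw [Subgroup.coe_pow]
          exact pow_orderOf_eq_one x
        rw [this]; rfl)
      exact this
    have h2 : orderOf ((⟨x, hx⟩ : ↥Y) : ↥Y ⧸ Nc) ∣ p ^ v := by
      rw [← hidx, Subgroup.index_eq_card]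
      exact orderOf_dvd_natCard _
    exact Nat.eq_one_of_dvd_coprimes (Nat.Coprime.pow_right _ hcop) h1 h2
  have hcD : Nat.card ↥(Nc.map Y.subtype) = Nat.card ↥Nc :=
    Subgroup.card_map_of_injective Y.subtype_injective
  refine ⟨Nc.map Y.subtype, Subgroup.map_subtype_le _, by rw [hcD]; exact hpN, hmem, ?_⟩
  intro g hg
  apply Cfsg.Agent.Lib.Lead.Conj.mem_normalizer_of_conj_mem
  intro d hd
  have hdY : d ∈ Y := Subgroup.map_subtype_le _ hd
  apply hmem _ ((Subgroup.mem_normalizer_iff.mp hg d).mp hdY)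
  rw [Cfsg.Agent.Lib.Lead.Conj.orderOf_conj]
  have h1 : orderOf d ∣ Nat.card ↥(Nc.map Y.subtype) := orderOf_dvd_card_of_mem hd
  rw [hcD] at h1
  exact Nat.Coprime.coprime_dvd_left h1 ((Nat.Prime.coprime_iff_not_dvd hpp).mpr hpN).symm

/-! ### elements of maximal order, `℧^{a-1}` -/

theorem exists_max_order {p : ℕ} [hpf : Fact p.Prime] {P : Subgroup G} (hP : IsPGroup p ↥P) :
    ∃ c ∈ P, ∀ x ∈ P, orderOf x ∣ orderOf c := by
  obtain ⟨c, hc⟩ := Finite.exists_max (fun x : ↥P => orderOf (x : G))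
  refine ⟨c.1, c.2, fun x hx => ?_⟩
  obtain ⟨i, hi⟩ := (IsPGroup.iff_orderOf.mp hP) ⟨x, hx⟩
  obtain ⟨j, hj⟩ := (IsPGroup.iff_orderOf.mp hP) c
  rw [Subgroup.orderOf_mk] at hi
  have hj' : orderOf (c : G) = p ^ j := by rw [← hj, Subgroup.orderOf_coe]
  have hle : p ^ i ≤ p ^ j := by
    rw [← hi, ← hj']
    exact hc ⟨x, hx⟩
  rw [hi, hj']
  exact pow_dvd_pow p ((Nat.pow_le_pow_iff_right hpf.out.one_lt).mp hle)

/-- the data `N₁ = p^{a-1}` and `℧^{a-1}(P)` for an abelian `p`-group `P ≠ 1` with `Ω₁(P) = A` of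
order `p²` -/
theorem exists_agemo {p : ℕ} [hpf : Fact p.Prime] {P A : Subgroup G} (hP : IsPGroup p ↥P)
    (hPc : ∀ a ∈ P, ∀ b ∈ P, a * b = b * a) (hAc : Nat.card ↥A = p ^ 2)
    (hΩ : ∀ x ∈ P, x ^ p = 1 ↔ x ∈ A) (hAP : A ≤ P) :
    ∃ N₁ : ℕ, (∀ x ∈ P, x ^ (p * N₁) = 1) ∧ (∃ c ∈ P, c ^ N₁ ≠ 1) ∧
      powIm P hPc N₁ ≤ A ∧ (Nat.card ↥(powIm P hPc N₁) = p ∨ powIm P hPc N₁ = A) ∧
      (∀ d ∈ P, d ^ N₁ ≠ 1 → ∀ x ∈ P, orderOf x ∣ orderOf d) := by
  have hpp : p.Prime := hpf.out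
  obtain ⟨c, hcP, hmax⟩ := exists_max_order hP
  have hA1 : A ≠ ⊥ := Cfsg.Agent.H1.BG14.ne_bot_of_card_sq hAc
  have hc1 : c ≠ 1 := by
    rintro rfl
    apply hA1
    rw [eq_bot_iff]
    intro a ha
    have := hmax a (hAP ha)
    rw [orderOf_one, Nat.dvd_one, orderOf_eq_one_iff] at this
    exact Subgroup.mem_bot.mpr this
  have hpc : p ∣ orderOf c := by
    obtain ⟨j, hj⟩ := (IsPGroup.iff_orderOf.mp hP) ⟨c, hcP⟩
    rw [Subgroup.orderOf_mk] at hj
    rw [hj]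
    apply dvd_pow_self
    rintro rfl
    rw [pow_zero, orderOf_eq_one_iff] at hj
    exact hc1 hj
  refine ⟨orderOf c / p, ?_, ⟨c, hcP, ?_⟩, ?_, ?_, ?_⟩
  · intro x hx
    rw [Nat.mul_div_cancel' hpc]
    exact orderOf_dvd_iff_pow_eq_one.mp (hmax x hx)
  · intro h0
    have := Cfsg.Agent.H1.BG14.orderOf_pow_div hpp hpc
    rw [h0, orderOf_one] at this
    exact hpp.one_lt.ne this
  · rintro _ ⟨y, hy, rfl⟩
    rw [← hΩ _ (P.pow_mem hy _), ← pow_mul, mul_comm, Nat.mul_div_cancel' hpc]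
    exact orderOf_dvd_iff_pow_eq_one.mp (hmax y hy)
  · have hle : powIm P hPc (orderOf c / p) ≤ A := by
      rintro _ ⟨y, hy, rfl⟩
      rw [← hΩ _ (P.pow_mem hy _), ← pow_mul, mul_comm, Nat.mul_div_cancel' hpc]
      exact orderOf_dvd_iff_pow_eq_one.mp (hmax y hy)
    rcases card_cases_of_le hAc hle with h | h | h
    · exfalso
      have h1 : c ^ (orderOf c / p) ∈ powIm P hPc (orderOf c / p) := ⟨c, hcP, rfl⟩
      rw [h, Subgroup.mem_bot] at h1
      have := Cfsg.Agent.H1.BG14.orderOf_pow_div hpp hpc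
      rw [h1, orderOf_one] at this
      exact hpp.one_lt.ne this
    · exact Or.inl h
    · exact Or.inr h
  · intro d hdP hd x hx
    refine (hmax x hx).trans ?_
    obtain ⟨j, hj⟩ := (IsPGroup.iff_orderOf.mp hP) ⟨c, hcP⟩
    obtain ⟨i, hi⟩ := (IsPGroup.iff_orderOf.mp hP) ⟨d, hdP⟩
    rw [Subgroup.orderOf_mk] at hj hi
    have hj0 : j ≠ 0 := by
      rintro rfl
      rw [pow_zero, orderOf_eq_one_iff] at hj
      exact hc1 hj
    obtain ⟨j', rfl⟩ := Nat.exists_eq_succ_of_ne_zero hj0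
    have hN : orderOf c / p = p ^ j' := by
      rw [hj, pow_succ]
      exact Nat.mul_div_cancel _ hpp.pos
    rw [hj, hi]
    apply pow_dvd_pow
    by_contra hlt
    push Not at hlt
    apply hd
    rw [hN]
    apply orderOf_dvd_iff_pow_eq_one.mp
    rw [hi]
    exact pow_dvd_pow p (by omega)

end Cfsg.Agent.H1.BG16
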