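import Mathlib
import Cfsg.Agent.H1.BG16C
import Cfsg.Agent.Lib.helper3.BG13A

/-!
# B&G Section 16 preliminaries (helper1), part D: the kill lemma

`p ∈ τ₂(M)` with a bad line in `A ≅ E_{p²}`, and `⟨y⟩` a cyclic Sylow `q`-subgroup of `E`
(`q ∈ τ₁(M) ∪ τ₃(M)`): then `y` normalizes some subgroup of order `p` of `A`.
-/

set_option autoImplicit false
set_option linter.unusedVariables false
set_option linter.unusedSectionVars false
set_option linter.style.haveILetI false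
set_option maxHeartbeats 1000000

open scoped commutatorElement Pointwise

namespace Cfsg.Agent.H1.BG16

open Cfsg Cfsg.Agent.Lib.Helper8.BGTen
open Cfsg.Agent.Lib.Helper7 (IsSylowIn exists_isSylowIn_ge)

universe u

variable {G : Type u} [Group G] [Finite G]

theorem exists_cj_le_of_sylow {p : ℕ} [Fact p.Prime] {T A B : Subgroup G} (hT : IsSylowIn p T A)
    (hB : IsPGroup p ↥B) (hBA : B ≤ A) : ∃ a ∈ A, cj a B ≤ T := by
  obtain ⟨T', hT', hBT'⟩ := exists_isSylowIn_ge hB hBA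
  obtain ⟨a, ha, hconj⟩ := hT'.conj hT
  exact ⟨a, ha, hconj ▸ cj_mono a hBT'⟩

/-- the fixed points on `A` of an element commuting with `y`, where `y` normalizes `A` but no
subgroup of order `p` of `A` -/
theorem fix_cases {p : ℕ} [hpf : Fact p.Prime] {A : Subgroup G} (hAc : Nat.card ↥A = p ^ 2)
    {y w : G} (hyA : y ∈ Subgroup.normalizer (A : Set G))
    (hno : ∀ X : Subgroup G, X ≤ A → Nat.card ↥X = p → y ∉ Subgroup.normalizer (X : Set G))
    (hyw : y * w = w * y) :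
    A ⊓ Subgroup.centralizer ({w} : Set G) = ⊥ ∨ A ≤ Subgroup.centralizer ({w} : Set G) := by
  have hyF : y ∈ Subgroup.normalizer ((A ⊓ Subgroup.centralizer ({w} : Set G) : Subgroup G) : Set G) := by
    apply Cfsg.Agent.Lib.Lead.Conj.mem_normalizer_of_conj_mem
    intro a ha
    obtain ⟨haA, haw⟩ := Subgroup.mem_inf.mp ha
    refine Subgroup.mem_inf.mpr ⟨(Subgroup.mem_normalizer_iff.mp hyA a).mp haA, ?_⟩
    rw [Subgroup.mem_centralizer_singleton_iff]
    have h1 : Commute y w := hyw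
    have h2 : Commute a w := Subgroup.mem_centralizer_singleton_iff.mp haw
    exact ((h1.mul_left h2).mul_left h1.inv_left).eq
  rcases card_cases_of_le hAc (inf_le_left : A ⊓ Subgroup.centralizer ({w} : Set G) ≤ A) with h | h | h
  · exact Or.inl h
  · exact absurd hyF (hno _ inf_le_left h)
  · right
    rw [← h]
    exact inf_le_right

theorem mem_centralizer_of_le_singleton {A : Subgroup G} {w : G}
    (h : A ≤ Subgroup.centralizer ({w} : Set G)) : w ∈ Subgroup.centralizer (A : Set G) := by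
  rw [Subgroup.mem_centralizer_iff]
  intro a ha
  exact Subgroup.mem_centralizer_singleton_iff.mp (h ha)

/-- **Kill lemma.** -/
theorem kill (hG : Cfsg.IsMinSimpleOddOrder G) {M E : Subgroup G} (hM : IsCoatom M)
    (hE : Cfsg.IsComplIn E (Cfsg.sigmaCore M) M) (hH : HypH M E) {p : ℕ} [hpf : Fact p.Prime]
    (hp : p ∈ Cfsg.tau2 M) {A : Subgroup G}
    (hA : A ≤ E ∧ Cfsg.IsElementaryAbelian p A ∧ Nat.card ↥A = p ^ 2) {X : Subgroup G}
    (hXA : X ≤ A) (hXc : Nat.card ↥X = p)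
    (hbad : Cfsg.sigmaCore M ⊓ Subgroup.centralizer (X : Set G) ≠ ⊥)
    {q : ℕ} [hqf : Fact q.Prime] (hqp : q ≠ p) (hq13 : q ∈ Cfsg.tau1 M ∪ Cfsg.tau3 M) {y : G}
    (hy : IsSylowIn q (Subgroup.zpowers y) E) :
    ∃ X₁ : Subgroup G, X₁ ≤ A ∧ Nat.card ↥X₁ = p ∧ y ∈ Subgroup.normalizer (X₁ : Set G) := by
  classical
  by_contra hcon
  push Not at hcon
  have hpp : p.Prime := hpf.out
  have hqq : q.Prime := hqf.out
  obtain ⟨hAE, hAe, hAc⟩ := hA
  have hAM : A ≤ M := hAE.trans hE.1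
  have h18 := Cfsg.Agent.S1418.result hG M hM E hE p hp A ⟨hAE, hAe, hAc⟩
  have h17 := Cfsg.Agent.S1417.result hG M hM p hp A ⟨hAM, hAe, hAc⟩
  have hEN : E ≤ Subgroup.normalizer (A : Set G) := h18.1.1
  have hCAE : Subgroup.centralizer (A : Set G) ≤ E := by
    have := h18.2.1.1
    rwa [h18.2.1.2.1] at this
  have hyE : y ∈ E := hy.1 (Subgroup.mem_zpowers y)
  have hyA : y ∈ Subgroup.normalizer (A : Set G) := hEN hyE
  have hAcomm : ∀ a ∈ A, ∀ b ∈ A, a * b = b * a := fun a ha b hb =>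
    congrArg Subtype.val (hAe.1.is_comm.comm (⟨a, ha⟩ : ↥A) ⟨b, hb⟩)
  have hAp : IsPGroup p ↥A := Cfsg.Agent.Lib.Helper4.BGTrans.isPGroup_of_elementary hAe
  have hA1 : A ≠ ⊥ := Cfsg.Agent.H1.BG14.ne_bot_of_card_sq hAc
  have hAt : A ≠ ⊤ := ne_top_of_le_coatom hM hAM
  have hyq : IsPGroup q ↥(Subgroup.zpowers y) := hy.isPGroup
  obtain ⟨m, hm⟩ := hyq.exists_card_eq
  rw [Nat.card_zpowers] at hm
  -- `y` does not centralize `A`
  have hynC : y ∉ Subgroup.centralizer (A : Set G) := by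
    intro hc
    apply hcon X hXA hXc
    exact Subgroup.centralizer_le_normalizer _ (Subgroup.centralizer_le hXA hc)
  have hy1 : y ≠ 1 := by
    rintro rfl
    exact hynC (Subgroup.one_mem _)
  have hcopAy : (Nat.card ↥A).Coprime (Nat.card ↥(Subgroup.zpowers y)) := by
    rw [hAc, Nat.card_zpowers, hm]
    exact Nat.Coprime.pow _ _ ((Nat.coprime_primes hpp hqq).mpr (Ne.symm hqp))
  have hordq : ∀ w ∈ Subgroup.zpowers y, ∀ r : ℕ, r.Prime → r ∣ orderOf w → r = q := by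
    intro w hw r hr hrd
    have h1 : orderOf w ∣ q ^ m := hm ▸ orderOf_dvd_of_mem_zpowers hw
    exact (Nat.prime_dvd_prime_iff_eq hr hqq).mp (hr.dvd_of_dvd_pow (hrd.trans h1))
  -- the nonabelian case: the unique bad line is invariant
  by_cases hSp : ∃ S : Sylow p G, IsMulCommutative (S : Subgroup G)
  swap
  · push Not at hSp
    have h19 := Cfsg.Agent.S1419.result hG M hM E hE p hp hSp A ⟨hAE, hAe, hAc⟩
    apply hcon (A ⊓ Subgroup.centralizer (Cfsg.sigmaCore M : Set G)) inf_le_left h19.2.1.1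
    apply Cfsg.Agent.Lib.Lead.Conj.mem_normalizer_of_conj_mem
    intro a ha
    obtain ⟨haA, haC⟩ := Subgroup.mem_inf.mp ha
    refine Subgroup.mem_inf.mpr ⟨(Subgroup.mem_normalizer_iff.mp hyA a).mp haA, ?_⟩
    have hyσ : y ∈ Subgroup.normalizer (Cfsg.sigmaCore M : Set G) :=
      Cfsg.Agent.H2.BG11.le_normalizer_sigmaCore M (hE.1 hyE)
    have h1 : y * a * y⁻¹ ∈ cj y (Subgroup.centralizer (Cfsg.sigmaCore M : Set G)) :=
      conj_mem_cj haC
    rwa [cj_centralizer, cj_eq_of_mem_normalizer hyσ] at h1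
  -- (i) `Y₀ = ⟨y⟩ ∩ C(A) ≠ 1`
  have hY₀ : Subgroup.zpowers y ⊓ Subgroup.centralizer (A : Set G) ≠ ⊥ := by
    intro hY₀
    have hfrob : ∀ r ∈ Subgroup.zpowers y, r ≠ 1 →
        A ⊓ Subgroup.centralizer ({r} : Set G) = ⊥ := by
      intro r hr hr1
      have hyr : y * r = r * y := by
        obtain ⟨k, rfl⟩ := Subgroup.mem_zpowers_iff.mp hr
        exact ((Commute.refl y).zpow_right k).eq
      rcases fix_cases hAc hyA hcon hyr with h | h
      · exact h
      · exfalso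
        have : r ∈ Subgroup.zpowers y ⊓ Subgroup.centralizer (A : Set G) :=
          Subgroup.mem_inf.mpr ⟨hr, mem_centralizer_of_le_singleton h⟩
        rw [hY₀, Subgroup.mem_bot] at this
        exact hr1 this
    have hMN := Cfsg.Agent.H2.BG11.le_normalizer_sigmaCore M
    have hcop : (Nat.card ↥(A ⊔ Subgroup.zpowers y)).Coprime (Nat.card ↥(Cfsg.sigmaCore M)) := by
      have h1 : A ⊔ Subgroup.zpowers y ≤ E := sup_le hAE (Subgroup.zpowers_le.mpr hyE)
      exact Nat.Coprime.coprime_dvd_left (Subgroup.card_dvd_of_le h1)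
        (Cfsg.Agent.H2.BG12.coprime_compl hG hM hE)
    have hform := Cfsg.Agent.Lib.helper3.BG13.frobenius_formula A (Subgroup.zpowers y)
      (Cfsg.sigmaCore M) hA1 (Subgroup.zpowers_ne_bot.mpr hy1)
      (Subgroup.inf_eq_bot_of_coprime hcopAy) (Subgroup.zpowers_le.mpr hyA) hfrob
      (Cfsg.Agent.H2.BGU.solvable_of_le_coatom hG hM (Cfsg.Agent.H2.BG11.sigmaCore_le M))
      (hAM.trans hMN) ((Subgroup.zpowers_le.mpr (hE.1 hyE)).trans hMN) hcop
    have hCA : Cfsg.sigmaCore M ⊓ Subgroup.centralizer (A : Set G) = ⊥ := h17.2.2.2.1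
    have hCy : Cfsg.sigmaCore M ⊓
        Subgroup.centralizer ((Subgroup.zpowers y : Subgroup G) : Set G) = ⊥ := by
      rw [centralizer_zpowers_eq]
      apply hH y hyE hy1
      intro r hr hrd
      rw [hordq y (Subgroup.mem_zpowers y) r hr hrd]
      exact hq13
    have hCAy : Cfsg.sigmaCore M ⊓ (Subgroup.centralizer (A : Set G) ⊓
        Subgroup.centralizer ((Subgroup.zpowers y : Subgroup G) : Set G)) = ⊥ := by
      rw [eq_bot_iff, ← hCA]
      exact inf_le_inf_left _ inf_le_left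
    rw [hCA, hCy, hCAy, Subgroup.card_bot, one_pow, one_mul, mul_one] at hform
    apply hbad
    rw [eq_bot_iff]
    have hσ1 : Cfsg.sigmaCore M = ⊥ := Subgroup.card_eq_one.mp hform
    rw [hσ1]
    exact inf_le_left
  -- (ii) a maximal subgroup `L ≥ N_G(A)`
  obtain ⟨L, hL, hNL⟩ := exists_coatom_ge (normalizer_ne_top' hG hA1 hAt)
  have hLM : L ≠ M := by
    rintro rfl
    exact h18.2.1.2.2 hNL
  have hEL : E ≤ L := hEN.trans hNL
  have hAL : A ≤ L := hAE.trans hEL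
  obtain ⟨hpσL, hpβL⟩ := Cfsg.Agent.H1.BG14.tau2_subset_sigma hG hM hE hp ⟨hAE, hAe, hAc⟩ hL hNL p hp
  have hAσ : A ≤ Cfsg.sigmaCore L := Cfsg.Agent.H2.BG11.le_sigmaCore_of_pgroup hG hL hpσL hAL hAp
  have hyL : Subgroup.zpowers y ≤ L := Subgroup.zpowers_le.mpr (hEL hyE)
  have hqσL : q ∉ Cfsg.sigma L := by
    intro hqσ
    have hyσ : Subgroup.zpowers y ≤ Cfsg.sigmaCore L :=
      Cfsg.Agent.H2.BG11.le_sigmaCore_of_pgroup hG hL hqσ hyL hyq
    have hnpc := ((Cfsg.Agent.S1414.result hG L hL).2.2.2.2 p hpp hpσL.2.1 hpβL).2.1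
    obtain ⟨D, hDL, hpD, hDmem, hDn⟩ := exists_normal_compl hnpc
    have hyD : y ∈ D := by
      apply hDmem y (hyσ (Subgroup.mem_zpowers y))
      rw [hm]
      exact Nat.Coprime.pow_left _ ((Nat.coprime_primes hqq hpp).mpr hqp)
    have hAD : A ⊓ D = ⊥ := by
      apply Subgroup.inf_eq_bot_of_coprime
      rw [hAc]
      exact Nat.Coprime.pow_left _ ((Nat.Prime.coprime_iff_not_dvd hpp).mpr hpD)
    apply hynC
    rw [Subgroup.mem_centralizer_iff]
    intro a ha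
    have haN : a ∈ Subgroup.normalizer (D : Set G) := hDn (Subgroup.le_normalizer (hAσ ha))
    have h1 : a * y * a⁻¹ * y⁻¹ ∈ D :=
      D.mul_mem ((Subgroup.mem_normalizer_iff.mp haN y).mp hyD) (D.inv_mem hyD)
    have h2 : a * y * a⁻¹ * y⁻¹ ∈ A := by
      have h3 : y * a⁻¹ * y⁻¹ ∈ A := (Subgroup.mem_normalizer_iff.mp hyA a⁻¹).mp (A.inv_mem ha)
      have e : a * y * a⁻¹ * y⁻¹ = a * (y * a⁻¹ * y⁻¹) := by group
      rw [e]; exact A.mul_mem ha h3
    have h3 : a * y * a⁻¹ * y⁻¹ ∈ A ⊓ D := Subgroup.mem_inf.mpr ⟨h2, h1⟩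
    rw [hAD, Subgroup.mem_bot] at h3
    have e : a * y = (a * y * a⁻¹ * y⁻¹) * (y * a) := by group
    rw [e, h3, one_mul]
  -- (iii) `q ∈ τ₂(L)`
  obtain ⟨x, hxX, hx1⟩ := exists_ne_one_of_card_prime hXc
  have hXgen : X = Subgroup.zpowers x := eq_zpowers_of_card_prime hXc hxX hx1
  obtain ⟨⟨y₀, hy₀⟩, hy₀1'⟩ := (Subgroup.ne_bot_iff_exists_ne_one).mp hY₀
  have hy₀1 : y₀ ≠ 1 := fun h => hy₀1' (Subtype.ext h)
  obtain ⟨hy₀y, hy₀C⟩ := Subgroup.mem_inf.mp hy₀
  have hy₀x : y₀ ∈ Subgroup.centralizer ({x} : Set G) := by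
    rw [Subgroup.mem_centralizer_singleton_iff]
    exact (Subgroup.mem_centralizer_iff.mp hy₀C x (hXA hxX)).symm
  have hqτ2L : q ∈ Cfsg.tau2 L := by
    have h32 := Cfsg.Agent.S1432.result hG L hL x (hAσ (hXA hxX)) hx1 y₀
      (Subgroup.mem_inf.mpr ⟨hyL hy₀y, hy₀x⟩) hy₀1
      (fun r hr hrd => (hordq y₀ hy₀y r hr hrd) ▸ hqσL)
    rcases h32 with ⟨-, hCx⟩ | ⟨hτ, -, -⟩
    · exfalso
      apply hLM
      apply (h18.2.2 X hXA hXc hbad).2 L hL
      rw [hXgen, centralizer_zpowers_eq]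
      exact hCx
    · have hoy₀ : orderOf y₀ ≠ 1 := fun h => hy₀1 (orderOf_eq_one_iff.mp h)
      obtain ⟨r, hr, hrd⟩ := Nat.exists_prime_and_dvd hoy₀
      have := hτ r hr hrd
      rwa [hordq y₀ hy₀y r hr hrd] at this
  -- (iv) `A ⊴ L`
  obtain ⟨B, hBL, hBe, hBc⟩ := Cfsg.Agent.H2.BG12.exists_elem_sq hqτ2L.2.2.2
  have hnilL : Group.IsNilpotent ↥(Cfsg.sigmaCore L) :=
    (Cfsg.Agent.S1417.result hG L hL q hqτ2L B ⟨hBL, hBe, hBc⟩).1
  obtain ⟨PL, hPL, hAPL⟩ := exists_isSylowIn_ge hAp hAσ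
  have hσPL : Cfsg.sigmaCore L ≤ Subgroup.normalizer (PL : Set G) := by
    obtain ⟨R, hR⟩ := hPL.exists_sylow
    have h1 := ((Group.isNilpotent_of_finite_tfae (G := ↥(Cfsg.sigmaCore L))).out 0 3 rfl rfl).mp
      hnilL p hpf R
    rw [hR] at h1
    exact (Subgroup.normal_subgroupOf_iff_le_normalizer hPL.1).mp h1
  have hLPL : L ≤ Subgroup.normalizer (PL : Set G) := by
    intro l hl
    apply mem_normalizer_of_cj_eq
    have h1 : IsSylowIn p (cj l PL) (Cfsg.sigmaCore L) := by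
      have := sylIn_cj hPL l
      rwa [cj_eq_of_mem_normalizer (Cfsg.Agent.H2.BG11.le_normalizer_sigmaCore L hl)] at this
    obtain ⟨h, hh, e⟩ := hPL.conj h1
    rw [e]
    exact cj_eq_of_mem_normalizer (hσPL hh)
  have hPLc : ∀ a ∈ PL, ∀ b ∈ PL, a * b = b * a :=
    Cfsg.Agent.H2.BG12.comm_of_sylow_abelian hSp hPL.isPGroup
  have hPLCA : PL ≤ Subgroup.centralizer (A : Set G) := by
    intro g hg
    rw [Subgroup.mem_centralizer_iff]
    intro a ha
    exact hPLc a (hAPL ha) g hg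
  have hPLM : PL ≤ M := (hPLCA.trans hCAE).trans hE.1
  obtain ⟨P', hP', hPLP'⟩ := exists_isSylowIn_ge hPL.isPGroup hPLM
  have hΩ := ((syl17 hG hM hp hAM hAe hAc hP').2 (hAPL.trans hPLP')).1
  have hLA : L ≤ Subgroup.normalizer (A : Set G) := by
    intro l hl
    apply Cfsg.Agent.Lib.Lead.Conj.mem_normalizer_of_conj_mem
    intro a ha
    have h1 : l * a * l⁻¹ ∈ PL := (Subgroup.mem_normalizer_iff.mp (hLPL hl) a).mp (hAPL ha)
    rw [← hΩ _ (hPLP' h1), conj_pow', hAe.2 a ha]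
    group
  -- (v) a Sylow `q`-subgroup of `L` containing `y`
  obtain ⟨QL, hQL, hyQL⟩ := exists_isSylowIn_ge hyq hyL
  have hQLc : ∀ a ∈ QL, ∀ b ∈ QL, a * b = b * a := (syl17 hG hL hqτ2L hBL hBe hBc hQL).1
  have hBq : IsPGroup q ↥B := Cfsg.Agent.Lib.Helper4.BGTrans.isPGroup_of_elementary hBe
  obtain ⟨l, hl, hB'⟩ := exists_cj_le_of_sylow hQL hBq hBL
  have hB'e : Cfsg.IsElementaryAbelian q (cj l B) := Cfsg.Agent.H2.BG12.isElementaryAbelian_cj hBe l
  have hB'c : Nat.card ↥(cj l B) = q ^ 2 := by rw [card_cj, hBc]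
  have hCq : QL ⊓ Subgroup.centralizer (A : Set G) ≤ Subgroup.zpowers y := by
    have hTE : (QL ⊓ Subgroup.centralizer (A : Set G)) ⊔ Subgroup.zpowers y ≤ E :=
      sup_le (inf_le_right.trans hCAE) (Subgroup.zpowers_le.mpr hyE)
    have hTQ : (QL ⊓ Subgroup.centralizer (A : Set G)) ⊔ Subgroup.zpowers y ≤ QL :=
      sup_le inf_le_left hyQL
    have hTq : IsPGroup q ↥((QL ⊓ Subgroup.centralizer (A : Set G)) ⊔ Subgroup.zpowers y) :=
      hQL.isPGroup.to_le hTQ
    have := sylIn_eq_of_le hy hTE hTq le_sup_right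
    rw [← this]
    exact le_sup_left
  -- (vi) the rank two contradiction
  have hex : ∃ k : ℕ, y ^ (q ^ k) ∈ Subgroup.centralizer (A : Set G) := by
    refine ⟨m, ?_⟩
    rw [← hm, pow_orderOf_eq_one]
    exact Subgroup.one_mem _
  have hk0 : Nat.find hex ≠ 0 := by
    intro h0
    have := Nat.find_spec hex
    rw [h0, pow_zero, pow_one] at this
    exact hynC this
  obtain ⟨k', hk'⟩ := Nat.exists_eq_succ_of_ne_zero hk0
  obtain ⟨yt, hytdef⟩ : ∃ yt : G, yt = y ^ (q ^ k') := ⟨_, rfl⟩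
  have hytn : yt ∉ Subgroup.centralizer (A : Set G) := by
    rw [hytdef]
    exact Nat.find_min hex (by omega)
  have hytq : yt ^ q ∈ Subgroup.centralizer (A : Set G) := by
    have := Nat.find_spec hex
    rw [hk', pow_succ, pow_mul] at this
    rw [hytdef]; exact this
  have hyty : yt ∈ Subgroup.zpowers y := hytdef ▸ Subgroup.pow_mem _ (Subgroup.mem_zpowers y) _
  have hytQ : yt ∈ QL := hyQL hyty
  -- an element `z` of order `q` outside `⟨y⟩`
  obtain ⟨z, hzB, hzy⟩ : ∃ z ∈ cj l B, z ∉ Subgroup.zpowers y := by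
    by_contra hall
    push Not at hall
    have hle : cj l B ≤ Subgroup.zpowers y := hall
    haveI : IsCyclic ↥(cj l B) := Subgroup.isCyclic_of_le hle
    have h1 : Monoid.exponent ↥(cj l B) = Nat.card ↥(cj l B) := IsCyclic.exponent_eq_card
    have h2 : Monoid.exponent ↥(cj l B) ∣ q := by
      apply Monoid.exponent_dvd_of_forall_pow_eq_one
      intro b
      apply Subtype.ext
      rw [Subgroup.coe_pow]
      exact hB'e.2 b b.2
    rw [h1, hB'c] at h2
    have h3 : q ^ 2 ≤ q := Nat.le_of_dvd hqq.pos h2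
    have h4 : q < q ^ 2 := by
      have := hqq.one_lt
      nlinarith
    omega
  have hzQ : z ∈ QL := hB' hzB
  have hzq : z ^ q = 1 := hB'e.2 z hzB
  have hQLA : QL ≤ Subgroup.normalizer (A : Set G) := hQL.1.trans hLA
  apply no_fpf_rank_two' (q := q) hAcomm hA1
    (by
      rw [hAc]
      intro hd
      exact hqp ((Nat.prime_dvd_prime_iff_eq hqq hpp).mp (hqq.dvd_of_dvd_pow hd)))
    (hQLA hytQ) (hQLA hzQ) (hQLc yt hytQ z hzQ) hytq
    (by rw [hzq]; exact Subgroup.one_mem _)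
  intro i j hij a ha hfix
  obtain ⟨w, hwdef⟩ : ∃ w : G, w = yt ^ i * z ^ j := ⟨_, rfl⟩
  rw [← hwdef] at hfix
  have hwQ : w ∈ QL := hwdef ▸ QL.mul_mem (QL.pow_mem hytQ i) (QL.pow_mem hzQ j)
  have hyw : y * w = w * y := hQLc y (hyQL (Subgroup.mem_zpowers y)) w hwQ
  have haw : a ∈ A ⊓ Subgroup.centralizer ({w} : Set G) := by
    refine Subgroup.mem_inf.mpr ⟨ha, ?_⟩
    rw [Subgroup.mem_centralizer_singleton_iff]
    exact (mul_inv_eq_iff_eq_mul.mp hfix).symm
  rcases fix_cases hAc hyA hcon hyw with h | h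
  · rw [h, Subgroup.mem_bot] at haw
    exact haw
  · exfalso
    have hwC : w ∈ Subgroup.centralizer (A : Set G) := mem_centralizer_of_le_singleton h
    have hwy : w ∈ Subgroup.zpowers y := hCq (Subgroup.mem_inf.mpr ⟨hwQ, hwC⟩)
    by_cases hqj : q ∣ j
    · -- then `q ∤ i` and `yt ^ i ∈ C(A)`
      have hqi : ¬ q ∣ i := fun hqi => hij ⟨hqi, hqj⟩
      have hzj : z ^ j = 1 := by
        obtain ⟨t, rfl⟩ := hqj
        rw [pow_mul, hzq, one_pow]
      have hyti : yt ^ i ∈ Subgroup.centralizer (A : Set G) := by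
        rw [hwdef, hzj, mul_one] at hwC
        exact hwC
      have hcop : Nat.Coprime i q := ((Nat.Prime.coprime_iff_not_dvd hqq).mpr hqi).symm
      have hbez := Nat.gcd_eq_gcd_ab i q
      rw [hcop.gcd_eq_one] at hbez
      apply hytn
      have : yt = (yt ^ i) ^ (Nat.gcdA i q) * (yt ^ q) ^ (Nat.gcdB i q) := by
        rw [← zpow_natCast yt i, ← zpow_natCast yt q, ← zpow_mul, ← zpow_mul, ← zpow_add]
        rw [← hbez]
        simp
      rw [this]
      exact Subgroup.mul_mem _ (Subgroup.zpow_mem _ hyti _) (Subgroup.zpow_mem _ hytq _)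
    · -- then `z ∈ ⟨y⟩`
      have hzj : z ^ j ∈ Subgroup.zpowers y := by
        have : z ^ j = (yt ^ i)⁻¹ * w := by rw [hwdef]; group
        rw [this]
        exact Subgroup.mul_mem _ (Subgroup.inv_mem _ (Subgroup.pow_mem _ hyty i)) hwy
      apply hzy
      apply mem_of_pow_mem_of_coprime hzj
      have hoz : orderOf z ∣ q := orderOf_dvd_of_pow_eq_one hzq
      exact Nat.Coprime.coprime_dvd_right hoz
        (((Nat.Prime.coprime_iff_not_dvd hqq).mpr hqj).symm)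

end Cfsg.Agent.H1.BG16
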