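import Mathlib
import Cfsg.Agent.H1.BG16D
import Cfsg.Agent.H1.QuadThree

/-!
# B&G Section 16 preliminaries (helper1), part E: the cyclic subgroups `C_p` (abelian case)

If all Sylow `q`-subgroups of `G`, `q ∈ τ₂(M)`, are abelian and `p ∈ τ₂(M)` has a bad line, then `E`
has a normal cyclic `p`-subgroup of maximal order all of whose subgroups of order `p` act regularly on
`M_σ`.
-/

set_option autoImplicit false
set_option linter.unusedVariables false
set_option linter.unusedSectionVars false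
set_option linter.style.haveILetI false
set_option maxHeartbeats 1000000

open scoped commutatorElement Pointwise

namespace Cfsg.Agent.H1.BG16

open Cfsg Cfsg.Agent.Lib.Helper8.BGTen
open Cfsg.Agent.Lib.Helper7 (IsSylowIn exists_isSylowIn_ge)

universe u

variable {G : Type u} [Group G] [Finite G]

/-- a Sylow `p`-subgroup and a Hall `p'`-subgroup normalizing it generate the group -/
theorem sup_eq_of_sylow_hall {p : ℕ} [hpf : Fact p.Prime] {P K E : Subgroup G}
    (hP : IsSylowIn p P E) (hK : Cfsg.IsPiHallOf {r | r ≠ p} K E)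
    (hKP : K ≤ Subgroup.normalizer (P : Set G)) : P ⊔ K = E := by
  have hpp : p.Prime := hpf.out
  obtain ⟨hKE, hKπ, hKidx⟩ := hK
  have hpK : ¬ p ∣ Nat.card ↥K := fun hd => hKπ p hpp hd rfl
  have hcop : (Nat.card ↥P).Coprime (Nat.card ↥K) := by
    rw [hP.2]
    exact Nat.Coprime.pow_left _ ((Nat.Prime.coprime_iff_not_dvd hpp).mpr hpK)
  have hcard := Cfsg.Agent.H1.card_sup_of_le_normalizer_coprime P K hKP hcop
  apply Subgroup.eq_of_le_of_card_ge (sup_le hP.1 hKE)
  rw [hcard]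
  have hE := Cfsg.Agent.H1.card_eq_relIndex_mul_card hKE
  have hidx0 : K.relIndex E ≠ 0 := by
    intro h0
    rw [h0, zero_mul] at hE
    exact Nat.card_pos.ne' hE
  have hpow := Nat.eq_prime_pow_of_unique_prime_dvd (n := K.relIndex E) (p := p) hidx0
    (fun {d} hd hdvd => by
      by_contra hne
      exact hKidx d hd hne hdvd)
  have hdvd : K.relIndex E ∣ Nat.card ↥P := by
    rw [hP.2, hpow]
    apply pow_dvd_pow
    have h1 : p ^ (K.relIndex E).primeFactorsList.length ∣ Nat.card ↥E := by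
      rw [← hpow, hE]
      exact Dvd.intro _ rfl
    exact (hpp.pow_dvd_iff_le_factorization Nat.card_pos.ne').mp h1
  rw [hE]
  exact Nat.mul_le_mul_right _ (Nat.le_of_dvd Nat.card_pos hdvd)

theorem isCyclic_zpowers' (c : G) : IsCyclic ↥(Subgroup.zpowers c) := inferInstance

theorem exists_eq_zpowers_of_isCyclic {R : Subgroup G} (hR : IsCyclic ↥R) :
    ∃ y : G, R = Subgroup.zpowers y := by
  obtain ⟨g, hg⟩ := hR.exists_generator
  refine ⟨(g : G), ?_⟩
  apply le_antisymm
  · intro x hx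
    obtain ⟨k, hk⟩ := Subgroup.mem_zpowers_iff.mp (hg ⟨x, hx⟩)
    rw [Subgroup.mem_zpowers_iff]
    refine ⟨k, ?_⟩
    have := congrArg Subtype.val hk
    rwa [Subgroup.coe_zpow] at this
  · exact Subgroup.zpowers_le.mpr g.2

/-- **The cyclic subgroups `C_p`** (all Sylow subgroups for the primes of `τ₂(M)` abelian). -/
theorem exists_cyclic_good (hG : Cfsg.IsMinSimpleOddOrder G) {M E : Subgroup G} (hM : IsCoatom M)
    (hE : Cfsg.IsComplIn E (Cfsg.sigmaCore M) M) (hH : HypH M E)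
    (hab : ∀ q : ℕ, q ∈ Cfsg.tau2 M → ∀ [Fact q.Prime],
      ∃ S : Sylow q G, IsMulCommutative (S : Subgroup G))
    {p : ℕ} [hpf : Fact p.Prime] (hp : p ∈ Cfsg.tau2 M)
    (hbad : ∃ X : Subgroup G, X ≤ E ∧ Nat.card ↥X = p ∧
      Cfsg.sigmaCore M ⊓ Subgroup.centralizer (X : Set G) ≠ ⊥) :
    ∃ c ∈ Cfsg.fittingOf E, E ≤ Subgroup.normalizer ((Subgroup.zpowers c : Subgroup G) : Set G) ∧
      IsPGroup p ↥(Subgroup.zpowers c) ∧
      (∀ e ∈ E, IsPGroup p ↥(Subgroup.zpowers e) → orderOf e ∣ orderOf c) ∧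
      (∀ X : Subgroup G, X ≤ Subgroup.zpowers c → Nat.card ↥X = p →
        Cfsg.sigmaCore M ⊓ Subgroup.centralizer (X : Set G) = ⊥) := by
  classical
  have hpp : p.Prime := hpf.out
  obtain ⟨A, hAE, hAe, hAc⟩ := Cfsg.Agent.Lib.BG127H7.exists_elem_le_compl hE hp
  have hAM : A ≤ M := hAE.trans hE.1
  have hAp : IsPGroup p ↥A := Cfsg.Agent.Lib.Helper4.BGTrans.isPGroup_of_elementary hAe
  have hAcomm : ∀ a ∈ A, ∀ b ∈ A, a * b = b * a := fun a ha b hb =>
    congrArg Subtype.val (hAe.1.is_comm.comm (⟨a, ha⟩ : ↥A) ⟨b, hb⟩)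
  have h18 := Cfsg.Agent.S1418.result hG M hM E hE p hp A ⟨hAE, hAe, hAc⟩
  have h17 := Cfsg.Agent.S1417.result hG M hM p hp A ⟨hAM, hAe, hAc⟩
  obtain ⟨Xb, hXbE, hXbc, hXbbad⟩ := hbad
  have hXbA : Xb ≤ A := h18.1.2 Xb hXbE hXbc
  -- the normal Sylow subgroup
  obtain ⟨S, hAS⟩ := hAp.exists_le_sylow
  have hSc' : ∀ a ∈ (S : Subgroup G), ∀ b ∈ (S : Subgroup G), a * b = b * a :=
    Cfsg.Agent.H2.BG12.comm_of_sylow_abelian (hab p hp) S.isPGroup'
  have hScomm : IsMulCommutative (S : Subgroup G) :=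
    ⟨⟨fun a b => Subtype.ext (hSc' a a.2 b b.2)⟩⟩
  obtain ⟨hSE, hES⟩ := Cfsg.Agent.H2.BG12.st128 hG M hM E hE p hp A ⟨hAE, hAe, hAc⟩ S hScomm hAS
  have hpsub0 : ∀ Q : Subgroup G, Q ≤ Subgroup.normalizer ((S : Subgroup G) : Set G) →
      IsPGroup p ↥Q → Q ≤ (S : Subgroup G) := by
    intro Q hQN hQp
    have h1 := hQp.inf_normalizer_sylow S
    intro x hx
    have h3 : x ∈ Q ⊓ Subgroup.normalizer ((S : Subgroup G) : Set G) :=
      Subgroup.mem_inf.mpr ⟨hx, hQN hx⟩
    have h4 : x ∈ Q ⊓ (S : Subgroup G) := h1 ▸ h3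
    exact (Subgroup.mem_inf.mp h4).2
  have hPE0 : IsSylowIn p (S : Subgroup G) E := Cfsg.Agent.Lib.Helper7.IsSylowIn.of_sylow_le S hSE
  have hPM0 : IsSylowIn p (S : Subgroup G) M :=
    Cfsg.Agent.Lib.Helper7.IsSylowIn.of_sylow_le S (hSE.trans hE.1)
  have hPp0 : IsPGroup p ↥(S : Subgroup G) := S.isPGroup'
  obtain ⟨P, hPdef⟩ : ∃ P : Subgroup G, P = (S : Subgroup G) := ⟨_, rfl⟩
  rw [← hPdef] at hAS hSc' hSE hES hpsub0 hPE0 hPM0 hPp0
  have hPp : IsPGroup p ↥P := hPp0
  have hPE : IsSylowIn p P E := hPE0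
  have hPM : IsSylowIn p P M := hPM0
  obtain ⟨hPc, h2⟩ := syl17 hG hM hp hAM hAe hAc hPM
  obtain ⟨hΩ, hNP⟩ := h2 hAS
  have hPF : P ≤ Cfsg.fittingOf E :=
    Cfsg.Agent.H2.BGU.le_fittingOf hSE hES hPp.isNilpotent
  have hPCA : P ≤ Subgroup.centralizer (A : Set G) := by
    intro g hg
    rw [Subgroup.mem_centralizer_iff]
    intro a ha
    exact hPc a (hAS ha) g hg
  -- `p`-subgroups normalizing `P` lie in `P`
  have hpsub : ∀ Q : Subgroup G, Q ≤ Subgroup.normalizer (P : Set G) → IsPGroup p ↥Q → Q ≤ P :=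
    hpsub0
  have hpel : ∀ e ∈ E, IsPGroup p ↥(Subgroup.zpowers e) → e ∈ P := fun e he hep =>
    hpsub _ (Subgroup.zpowers_le.mpr (hES he)) hep (Subgroup.mem_zpowers e)
  obtain ⟨N₁, hexp, ⟨c₀, hc₀P, hc₀⟩, hVA, hcases, hmaxo⟩ := exists_agemo hPp hPc hAc hΩ hAS
  -- the line selection
  have hline : ∃ Xs : Subgroup G, Xs ≤ powIm P hPc N₁ ∧ Nat.card ↥Xs = p ∧
      E ≤ Subgroup.normalizer (Xs : Set G) ∧
      Cfsg.sigmaCore M ⊓ Subgroup.centralizer (Xs : Set G) = ⊥ := by
    rcases hcases with hV | hV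
    · refine ⟨powIm P hPc N₁, le_rfl, hV, hES.trans (normalizer_le_normalizer_powIm P hPc N₁), ?_⟩
      by_contra hb
      have := normalizer_le_of_bad hG hM hE hp ⟨hAE, hAe, hAc⟩ hVA hV hb
      exact hNP ((normalizer_le_normalizer_powIm P hPc N₁).trans this)
    · -- the homocyclic case
      have hNA : Subgroup.normalizer (P : Set G) ≤ Subgroup.normalizer (A : Set G) := by
        intro g hg
        apply Cfsg.Agent.Lib.Lead.Conj.mem_normalizer_of_conj_mem
        intro a ha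
        have h1 : g * a * g⁻¹ ∈ P := (Subgroup.mem_normalizer_iff.mp hg a).mp (hAS ha)
        rw [← hΩ _ h1, conj_pow', hAe.2 a ha]
        group
      have hp2 : p ≠ 2 := by
        rintro rfl
        have h1 : 2 ∣ Nat.card G := by
          have : 2 ∣ Nat.card ↥A := by rw [hAc]; exact Dvd.intro_left _ rfl
          exact this.trans (Subgroup.card_subgroup_dvd_card A)
        exact (Nat.not_even_iff_odd.mpr hG.1) (even_iff_two_dvd.mpr h1)
      have hcomm : ⁅Subgroup.normalizer (P : Set G), Subgroup.normalizer (P : Set G)⁆ ≤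
          Subgroup.centralizer (A : Set G) :=
        Cfsg.Agent.H2.BG12.commutator_le_centralizer_of_pelements hp2 hAp
          (Cfsg.Agent.H2.BG12.pRankLE_two_of_card hAc) hNA
          (Cfsg.Agent.H2.BGU.odd_card_subgroup hG _)
          (fun Q hQN hQp => (hpsub Q hQN hQp).trans hPCA)
      by_cases hinv : ∃ X : Subgroup G, X ≤ A ∧ Nat.card ↥X = p ∧
          Subgroup.normalizer (P : Set G) ≤ Subgroup.normalizer (X : Set G)
      · obtain ⟨X, hXA, hXc, hNX⟩ := hinv
        refine ⟨X, hV ▸ hXA, hXc, hES.trans hNX, ?_⟩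
        by_contra hb
        have := normalizer_le_of_bad hG hM hE hp ⟨hAE, hAe, hAc⟩ hXA hXc hb
        exact hNP (hNX.trans this)
      · push Not at hinv
        -- every element of `E` normalizes every subgroup of `A`
        have hall : ∀ e ∈ E, ∀ X : Subgroup G, X ≤ A → e ∈ Subgroup.normalizer (X : Set G) := by
          intro e he X hXA
          apply Cfsg.Agent.H2.BG12.mem_of_primary_parts (H := Subgroup.normalizer (X : Set G))
            (orderOf e) e rfl
          intro r hr hrd v hv hvr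
          haveI : Fact r.Prime := ⟨hr⟩
          have hvE : v ∈ E := (Subgroup.zpowers_le.mpr he) hv
          have hcent : v ∈ Subgroup.centralizer (A : Set G) →
              v ∈ Subgroup.normalizer (X : Set G) := fun h =>
            Subgroup.centralizer_le_normalizer _ (Subgroup.centralizer_le hXA h)
          by_cases hrp : r = p
          · subst hrp
            exact hcent (hPCA (hpel v hvE hvr))
          have hvo : ∀ s : ℕ, s.Prime → s ∣ orderOf v → s = r := by
            intro s hs hsd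
            obtain ⟨j, hj⟩ := (IsPGroup.iff_orderOf.mp hvr) ⟨v, Subgroup.mem_zpowers v⟩
            rw [Subgroup.orderOf_mk] at hj
            rw [hj] at hsd
            exact (Nat.prime_dvd_prime_iff_eq hs hr).mp (hs.dvd_of_dvd_pow hsd)
          have hrE : r ∣ Nat.card ↥E :=
            (hrd.trans (orderOf_dvd_card_of_mem he))
          rcases tau_cases_compl hG hM hE hr hrE with h1 | h2 | h3
          · -- `r ∈ τ₁`
            obtain ⟨R, hR, hvR⟩ := exists_isSylowIn_ge hvr (Subgroup.zpowers_le.mpr hvE)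
            have hRc : IsCyclic ↥R := Cfsg.Agent.Lib.Helper4.BGTw.isCyclic_of_pRankLE_one hG
              h1.2.2.2.2 (hR.1.trans hE.1) hR.isPGroup
            obtain ⟨y, rfl⟩ := exists_eq_zpowers_of_isCyclic hRc
            obtain ⟨X₁, hX₁A, hX₁c, hyX₁⟩ := kill hG hM hE hH hp ⟨hAE, hAe, hAc⟩ hXbA hXbc hXbbad
              hrp (Or.inl h1) hR
            have hyE : y ∈ E := hR.1 (Subgroup.mem_zpowers y)
            rcases dichotomy hAcomm hAc hG.1 hNA hcomm (hES hyE) hX₁A hX₁c hyX₁ with h | h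
            · exact (Subgroup.zpowers_le.mpr (h X hXA)) (hvR (Subgroup.mem_zpowers v))
            · exact absurd h (hinv X₁ hX₁A hX₁c)
          · -- `r ∈ τ₂`
            have hvF : v ∈ Cfsg.fittingOf E :=
              Cfsg.Agent.H2.BG12.mem_fittingOf_of_tau2 hG (Cfsg.Agent.H2.BG12.st128 hG) hM hE hab hvE
                (fun s hs hsd => (hvo s hs hsd) ▸ h2)
            apply hcent
            rw [Subgroup.mem_centralizer_iff]
            intro a ha
            exact Cfsg.Agent.H2.BG12.fittingOf_compl_comm hG hM hE a (hPF (hAS ha)) v hvF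
          · -- `r ∈ τ₃`
            obtain ⟨R, hR, hvR⟩ := exists_isSylowIn_ge hvr (Subgroup.zpowers_le.mpr hvE)
            have hRc : IsCyclic ↥R := Cfsg.Agent.Lib.Helper4.BGTw.isCyclic_of_pRankLE_one hG
              h3.2.2.2 (hR.1.trans hE.1) hR.isPGroup
            obtain ⟨y, rfl⟩ := exists_eq_zpowers_of_isCyclic hRc
            obtain ⟨X₁, hX₁A, hX₁c, hyX₁⟩ := kill hG hM hE hH hp ⟨hAE, hAe, hAc⟩ hXbA hXbc hXbbad
              hrp (Or.inr h3) hR
            have hyE : y ∈ E := hR.1 (Subgroup.mem_zpowers y)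
            rcases dichotomy hAcomm hAc hG.1 hNA hcomm (hES hyE) hX₁A hX₁c hyX₁ with h | h
            · exact (Subgroup.zpowers_le.mpr (h X hXA)) (hvR (Subgroup.mem_zpowers v))
            · exact absurd h (hinv X₁ hX₁A hX₁c)
        obtain ⟨A₁, hA₁A, hA₁c, hA₁⟩ := h17.2.2.2.2.2
        exact ⟨A₁, hV ▸ hA₁A, hA₁c, fun e he => hall e he A₁ hA₁A, hA₁⟩
  obtain ⟨Xs, hXsV, hXsc, hEXs, hXsgood⟩ := hline
  -- the module lemma
  have hsE : Group.IsSolvable ↥E := Cfsg.Agent.H2.BGU.solvable_of_le_coatom hG hM hE.1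
  obtain ⟨K, hK⟩ := Cfsg.Agent.H1.exists_isPiHallOf {r | r ≠ p} E hsE
  have hpK : ¬ p ∣ Nat.card ↥K := fun hd => hK.2.1 p hpp hd rfl
  have hKP : K ≤ Subgroup.normalizer (P : Set G) := hK.1.trans hES
  obtain ⟨c, hcP, hKc, hcX, hc1⟩ := exists_cyclic_invariant hPc hPp hKP
    ((Nat.Prime.coprime_iff_not_dvd hpp).mpr hpK).symm hexp hXsc (hK.1.trans hEXs)
    (fun x hx => hXsV hx)
  have hEc : E ≤ Subgroup.normalizer ((Subgroup.zpowers c : Subgroup G) : Set G) := by
    rw [← sup_eq_of_sylow_hall hPE hK hKP]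
    apply sup_le _ hKc
    intro g hg
    apply Subgroup.centralizer_le_normalizer
    rw [centralizer_zpowers_eq, Subgroup.mem_centralizer_singleton_iff]
    exact hPc g hg c hcP
  refine ⟨c, hPF hcP, hEc, hPp.to_le (Subgroup.zpowers_le.mpr hcP), ?_, ?_⟩
  · intro e he hep
    exact hmaxo c hcP hc1 e (hpel e he hep)
  · intro X hXc hXp
    have hXsgen : Xs = Subgroup.zpowers (c ^ N₁) := eq_zpowers_of_card_prime hXsc hcX hc1
    have hXsle : Xs ≤ Subgroup.zpowers c := by
      rw [hXsgen]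
      exact Subgroup.zpowers_le.mpr (Subgroup.pow_mem _ (Subgroup.mem_zpowers c) _)
    have : X = Xs := Cfsg.Agent.H1.BG14.eq_of_card_eq_of_le_isCyclic (isCyclic_zpowers' c) hXc hXsle
      (by rw [hXp, hXsc])
    rw [this]
    exact hXsgood

end Cfsg.Agent.H1.BG16
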