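import Mathlib
import Cfsg.Agent.H1.BG16E

/-!
# B&G Section 16 preliminaries (helper1), part F: the subgroup `E₀` (abelian case)
-/

set_option autoImplicit false
set_option linter.unusedVariables false
set_option linter.unusedSectionVars false
set_option linter.style.haveILetI false
set_option maxHeartbeats 1000000

open scoped commutatorElement Pointwise

namespace Cfsg.Agent.H1.BG16

open Cfsg Cfsg.Agent.Lib.Helper8.BGTen
open Cfsg.Agent.Lib.Helper7 (IsSylowIn exists_isSylowIn_ge)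

universe u

variable {G : Type u} [Group G] [Finite G]

theorem orderOf_eq_pow_of_isPGroup {r : ℕ} [Fact r.Prime] {x : G} (hx : IsPGroup r ↥(Subgroup.zpowers x)) :
    ∃ j : ℕ, orderOf x = r ^ j := by
  obtain ⟨j, hj⟩ := (IsPGroup.iff_orderOf.mp hx) ⟨x, Subgroup.mem_zpowers x⟩
  rw [Subgroup.orderOf_mk] at hj
  exact ⟨j, hj⟩

/-- an `r`-element is killed by the `p'`-part of `|G|`, `r ≠ p` -/
theorem pow_ordCompl_eq_one {x : G} {r p : ℕ} (hr : r.Prime) (hp : p.Prime) (hrp : r ≠ p)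
    (hx : IsPGroup r ↥(Subgroup.zpowers x)) : x ^ (ordCompl[p] (Nat.card G)) = 1 := by
  haveI : Fact r.Prime := ⟨hr⟩
  obtain ⟨j, hj⟩ := orderOf_eq_pow_of_isPGroup hx
  apply orderOf_dvd_iff_pow_eq_one.mp
  have h1 : orderOf x ∣ ordCompl[p] (Nat.card G) * ordProj[p] (Nat.card G) := by
    rw [mul_comm, Nat.ordProj_mul_ordCompl_eq_self]
    exact orderOf_dvd_natCard x
  apply Nat.Coprime.dvd_of_dvd_mul_right _ h1
  rw [hj]
  exact Nat.Coprime.pow _ _ ((Nat.coprime_primes hr hp).mpr hrp)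

/-- a `p`-element is a power of its `m_p`-th power -/
theorem mem_zpowers_pow_ordCompl {x : G} {p : ℕ} (hp : p.Prime)
    (hx : IsPGroup p ↥(Subgroup.zpowers x)) :
    x ∈ Subgroup.zpowers (x ^ (ordCompl[p] (Nat.card G))) := by
  haveI : Fact p.Prime := ⟨hp⟩
  obtain ⟨j, hj⟩ := orderOf_eq_pow_of_isPGroup hx
  apply mem_of_pow_mem_of_coprime (Subgroup.mem_zpowers _)
  rw [hj]
  exact (Nat.Coprime.pow_left j (Nat.coprime_ordCompl hp Nat.card_pos.ne')).symm

theorem isPGroup_zpowers_of_orderOf {x : G} {p : ℕ} [Fact p.Prime] {j : ℕ}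
    (h : orderOf x = p ^ j) : IsPGroup p ↥(Subgroup.zpowers x) := by
  apply IsPGroup.of_card (n := j)
  rw [Nat.card_zpowers, h]

/-- **The subgroup `E₀`, when all Sylow `q`-subgroups of `G`, `q ∈ τ₂(M)`, are abelian.** -/
theorem exists_E0_abelian (hG : Cfsg.IsMinSimpleOddOrder G) {M E : Subgroup G} (hM : IsCoatom M)
    (hE : Cfsg.IsComplIn E (Cfsg.sigmaCore M) M) (hH : HypH M E)
    (hab : ∀ q : ℕ, q ∈ Cfsg.tau2 M → ∀ [Fact q.Prime],
      ∃ S : Sylow q G, IsMulCommutative (S : Subgroup G)) :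
    ∃ E₀ : Subgroup G, E₀ ≤ E ∧ Monoid.exponent ↥E₀ = Monoid.exponent ↥E ∧
      ∀ e ∈ E₀, e ≠ 1 → Cfsg.sigmaCore M ⊓ Subgroup.centralizer ({e} : Set G) = ⊥ := by
  classical
  -- the primes with a bad line
  set π₀ : Set ℕ := {p | p ∈ Cfsg.tau2 M ∧ ∃ X : Subgroup G, X ≤ E ∧ Nat.card ↥X = p ∧
    Cfsg.sigmaCore M ⊓ Subgroup.centralizer (X : Set G) ≠ ⊥} with hπ₀
  have hex : ∀ p : ℕ, p ∈ π₀ → ∃ c : G, c ∈ Cfsg.fittingOf E ∧
      E ≤ Subgroup.normalizer ((Subgroup.zpowers c : Subgroup G) : Set G) ∧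
      IsPGroup p ↥(Subgroup.zpowers c) ∧
      (∀ e ∈ E, IsPGroup p ↥(Subgroup.zpowers e) → orderOf e ∣ orderOf c) ∧
      (∀ X : Subgroup G, X ≤ Subgroup.zpowers c → Nat.card ↥X = p →
        Cfsg.sigmaCore M ⊓ Subgroup.centralizer (X : Set G) = ⊥) := by
    intro p hp
    haveI : Fact p.Prime := ⟨hp.1.1⟩
    obtain ⟨c, h1, h2, h3, h4, h5⟩ := exists_cyclic_good hG hM hE hH hab hp.1 hp.2
    exact ⟨c, h1, h2, h3, h4, h5⟩
  choose! c hc using hex
  have hFc := Cfsg.Agent.H2.BG12.fittingOf_compl_comm hG hM hE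
  have hFE : Cfsg.fittingOf E ≤ E := Cfsg.Agent.H2.BGU.fittingOf_le E
  -- the subgroup `D₀`
  let D₀ : Subgroup G :=
    { carrier := {d | d ∈ Cfsg.fittingOf E ∧ ∀ p ∈ π₀,
        d ^ (ordCompl[p] (Nat.card G)) ∈ Subgroup.zpowers (c p)}
      one_mem' := ⟨Subgroup.one_mem _, fun p _ => by rw [one_pow]; exact Subgroup.one_mem _⟩
      mul_mem' := by
        intro a b ha hb
        refine ⟨Subgroup.mul_mem _ ha.1 hb.1, fun p hp => ?_⟩
        have hcomm : Commute a b := hFc a ha.1 b hb.1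
        rw [hcomm.mul_pow]
        exact Subgroup.mul_mem _ (ha.2 p hp) (hb.2 p hp)
      inv_mem' := by
        intro a ha
        refine ⟨Subgroup.inv_mem _ ha.1, fun p hp => ?_⟩
        rw [inv_pow]
        exact Subgroup.inv_mem _ (ha.2 p hp) }
  have hD₀mem : ∀ {d : G}, d ∈ D₀ ↔ d ∈ Cfsg.fittingOf E ∧ ∀ p ∈ π₀,
      d ^ (ordCompl[p] (Nat.card G)) ∈ Subgroup.zpowers (c p) := Iff.rfl
  have hD₀E : D₀ ≤ E := fun d hd => hFE hd.1
  have hED₀ : E ≤ Subgroup.normalizer (D₀ : Set G) := by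
    intro e he
    apply Cfsg.Agent.Lib.Lead.Conj.mem_normalizer_of_conj_mem
    intro d hd
    refine hD₀mem.mpr ⟨?_, fun p hp => ?_⟩
    · exact (Subgroup.mem_normalizer_iff.mp (Cfsg.Agent.H2.BGU.le_normalizer_fittingOf E he) d).mp hd.1
    · rw [conj_pow']
      exact (Subgroup.mem_normalizer_iff.mp ((hc p hp).2.1 he) _).mp (hd.2 p hp)
  have hcD₀ : ∀ p ∈ π₀, Subgroup.zpowers (c p) ≤ D₀ := by
    intro p hp
    rw [Subgroup.zpowers_le]
    refine hD₀mem.mpr ⟨(hc p hp).1, fun p' hp' => ?_⟩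
    by_cases hpp' : p = p'
    · subst hpp'
      exact Subgroup.pow_mem _ (Subgroup.mem_zpowers _) _
    · rw [pow_ordCompl_eq_one hp.1.1 hp'.1.1 hpp' (hc p hp).2.2.1]
      exact Subgroup.one_mem _
  -- the Hall subgroup
  have hsE : Group.IsSolvable ↥E := Cfsg.Agent.H2.BGU.solvable_of_le_coatom hG hM hE.1
  obtain ⟨K, hK⟩ := Cfsg.Agent.H1.exists_isPiHallOf {r | r ∉ π₀} E hsE
  have hKD₀ : K ≤ Subgroup.normalizer (D₀ : Set G) := hK.1.trans hED₀
  have hE₀E : D₀ ⊔ K ≤ E := sup_le hD₀E hK.1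
  refine ⟨D₀ ⊔ K, hE₀E, ?_, ?_⟩
  · -- the exponent
    apply exponent_eq_of_forall hE₀E
    intro r hr e he hep
    haveI : Fact r.Prime := ⟨hr⟩
    by_cases hrπ : r ∈ π₀
    · have hd := (hc r hrπ).2.2.2.1 e he hep
      refine ⟨(c r) ^ (orderOf (c r) / orderOf e), ?_, ?_⟩
      · exact Subgroup.mem_sup_left (hcD₀ r hrπ (Subgroup.pow_mem _ (Subgroup.mem_zpowers _) _))
      · exact orderOf_pow_orderOf_div (orderOf_pos (c r)).ne' hd
    · obtain ⟨j, hj⟩ := orderOf_eq_pow_of_isPGroup hep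
      have hpi : Cfsg.Agent.H1.PiNum {r | r ∉ π₀} (Nat.card ↥(Subgroup.zpowers e)) := by
        intro s hs hsd
        rw [Nat.card_zpowers, hj] at hsd
        have : s = r := (Nat.prime_dvd_prime_iff_eq hs hr).mp (hs.dvd_of_dvd_pow hsd)
        rw [this]; exact hrπ
      obtain ⟨g, hg, hle⟩ := Cfsg.Agent.H1.isPiHallOf_dominance {r | r ∉ π₀} K E
        (Subgroup.zpowers e) hsE hK (Subgroup.zpowers_le.mpr he) hpi
      have := hle (Subgroup.mem_zpowers e)
      obtain ⟨k, hk, hke⟩ := this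
      refine ⟨k, Subgroup.mem_sup_right hk, ?_⟩
      rw [← hke]
      exact (Cfsg.Agent.Lib.Lead.Conj.orderOf_conj g k).symm
  · -- regularity
    apply regular_of_lines hG hM hE hH hE₀E
    intro p hp X hXE₀ hXc
    haveI : Fact p.Prime := ⟨hp.1⟩
    by_cases hpπ : p ∈ π₀
    · obtain ⟨x, hxX, hx1⟩ := exists_ne_one_of_card_prime hXc
      have hXgen : X = Subgroup.zpowers x := eq_zpowers_of_card_prime hXc hxX hx1
      have hxp : x ^ p = 1 := by
        have := orderOf_dvd_card_of_mem hxX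
        rw [hXc] at this
        exact orderOf_dvd_iff_pow_eq_one.mp this
      have hpK : p.Coprime (Nat.card ↥K) := by
        rw [Nat.Prime.coprime_iff_not_dvd hp.1]
        intro hd
        exact hK.2.1 p hp.1 hd hpπ
      have hxD₀ : x ∈ D₀ := mem_left_of_pow_eq_one hKD₀ (hXE₀ hxX) hxp hpK
      have hxpg : IsPGroup p ↥(Subgroup.zpowers x) := by
        apply isPGroup_zpowers_of_orderOf (j := 1)
        rw [pow_one]
        exact orderOf_eq_prime hxp hx1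
      have hxc : x ∈ Subgroup.zpowers (c p) :=
        (Subgroup.zpowers_le.mpr (hxD₀.2 p hpπ)) (mem_zpowers_pow_ordCompl hp.1 hxpg)
      apply (hc p hpπ).2.2.2.2 X _ hXc
      rw [hXgen]
      exact Subgroup.zpowers_le.mpr hxc
    · by_contra hb
      exact hpπ ⟨hp, X, hXE₀.trans hE₀E, hXc, hb⟩

end Cfsg.Agent.H1.BG16
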