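import Mathlib
import Cfsg.Agent.H1.BG16F

/-!
# B&G Section 16 preliminaries (helper1), part G: the subgroup `E₀` (nonabelian case)

`q ∈ τ₂(M)` with nonabelian Sylow `q`-subgroups of `G`: then `τ₂(M) = {q}`, the only possible bad line
is `A₀ = C_A(M_σ)`, and `E₀ = B (C H₁)` with `B = E ∩ O_{q'}(L_σ)`, `H₁` a Hall `q'`-subgroup of
`N_E(P)` and `C ≤ P` cyclic of maximal order, `H₁`-invariant, with `Ω₁(C) ≠ A₀`.
-/

set_option autoImplicit false
set_option linter.unusedVariables false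
set_option linter.unusedSectionVars false
set_option linter.style.haveILetI false
set_option maxHeartbeats 1000000

open scoped commutatorElement Pointwise

namespace Cfsg.Agent.H1.BG16

open Cfsg Cfsg.Agent.Lib.Helper8.BGTen
open Cfsg.Agent.Lib.Helper7 (IsSylowIn exists_isSylowIn_ge)

universe u

variable {G : Type u} [Group G] [Finite G]

theorem sylIn_of_le_mid {p : ℕ} [hpf : Fact p.Prime] {P E' E : Subgroup G} (hP : IsSylowIn p P E)
    (h1 : P ≤ E') (h2 : E' ≤ E) : IsSylowIn p P E' := by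
  have hpp : p.Prime := hpf.out
  refine ⟨h1, ?_⟩
  rw [hP.2]
  congr 1
  apply le_antisymm
  · have hd : p ^ (Nat.card ↥E).factorization p ∣ Nat.card ↥E' := by
      rw [← hP.2]; exact Subgroup.card_dvd_of_le h1
    exact (hpp.pow_dvd_iff_le_factorization Nat.card_pos.ne').mp hd
  · have hd : p ^ (Nat.card ↥E').factorization p ∣ Nat.card ↥E :=
      (Nat.ordProj_dvd _ _).trans (Subgroup.card_dvd_of_le h2)
    exact (hpp.pow_dvd_iff_le_factorization Nat.card_pos.ne').mp hd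

/-- `|E| = |P| |K|` for a Sylow `p`-subgroup `P` and a Hall `p'`-subgroup `K` -/
theorem card_eq_of_sylow_hall {p : ℕ} [hpf : Fact p.Prime] {P K E : Subgroup G}
    (hP : IsSylowIn p P E) (hK : Cfsg.IsPiHallOf {r | r ≠ p} K E) :
    Nat.card ↥E = Nat.card ↥P * Nat.card ↥K := by
  have hpp : p.Prime := hpf.out
  obtain ⟨hKE, hKπ, hKidx⟩ := hK
  have hpK : ¬ p ∣ Nat.card ↥K := fun hd => hKπ p hpp hd rfl
  have hE := Cfsg.Agent.H1.card_eq_relIndex_mul_card hKE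
  have hidx0 : K.relIndex E ≠ 0 := by
    intro h0
    rw [h0, zero_mul] at hE
    exact Nat.card_pos.ne' hE
  have hpow := Nat.eq_prime_pow_of_unique_prime_dvd (n := K.relIndex E) (p := p) hidx0
    (fun {d} hd hdvd => by
      by_contra hne
      exact hKidx d hd hne hdvd)
  have hdvd : K.relIndex E ∣ Nat.card ↥P := by
    rw [hP.2, hpow]
    apply pow_dvd_pow
    have h1 : p ^ (K.relIndex E).primeFactorsList.length ∣ Nat.card ↥E := by
      rw [← hpow, hE]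
      exact Dvd.intro _ rfl
    exact (hpp.pow_dvd_iff_le_factorization Nat.card_pos.ne').mp h1
  have hdvd2 : Nat.card ↥P ∣ K.relIndex E := by
    have h1 : Nat.card ↥P ∣ K.relIndex E * Nat.card ↥K := hE ▸ Subgroup.card_dvd_of_le hP.1
    apply Nat.Coprime.dvd_of_dvd_mul_right _ h1
    rw [hP.2]
    exact Nat.Coprime.pow_left _ ((Nat.Prime.coprime_iff_not_dvd hpp).mpr hpK)
  rw [hE, Nat.dvd_antisymm hdvd hdvd2]

theorem isSylowIn_of_dvd {p : ℕ} [hpf : Fact p.Prime] {P H : Subgroup G} (hPH : P ≤ H)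
    (hP : IsPGroup p ↥P) {s : ℕ} (hd : Nat.card ↥H ∣ Nat.card ↥P * s) (hs : ¬ p ∣ s) :
    IsSylowIn p P H := by
  have hpp : p.Prime := hpf.out
  obtain ⟨k, hk⟩ := hP.exists_card_eq
  refine ⟨hPH, ?_⟩
  rw [hk]
  congr 1
  apply le_antisymm
  · have h1 : p ^ k ∣ Nat.card ↥H := hk ▸ Subgroup.card_dvd_of_le hPH
    exact (hpp.pow_dvd_iff_le_factorization Nat.card_pos.ne').mp h1
  · have h1 : p ^ (Nat.card ↥H).factorization p ∣ p ^ k * s := by
      rw [← hk]; exact (Nat.ordProj_dvd _ _).trans hd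
    have h2 : p ^ (Nat.card ↥H).factorization p ∣ p ^ k :=
      Nat.Coprime.dvd_of_dvd_mul_right
        (Nat.Coprime.pow_left _ ((Nat.Prime.coprime_iff_not_dvd hpp).mpr hs)) h1
    exact (Nat.pow_dvd_pow_iff_le_right hpp.one_lt).mp h2

theorem mem_normalizer_inf {X Y : Subgroup G} {g : G} (hX : g ∈ Subgroup.normalizer (X : Set G))
    (hY : g ∈ Subgroup.normalizer (Y : Set G)) :
    g ∈ Subgroup.normalizer ((X ⊓ Y : Subgroup G) : Set G) := by
  apply Cfsg.Agent.Lib.Lead.Conj.mem_normalizer_of_conj_mem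
  intro x hx
  obtain ⟨h1, h2⟩ := Subgroup.mem_inf.mp hx
  exact Subgroup.mem_inf.mpr ⟨(Subgroup.mem_normalizer_iff.mp hX x).mp h1,
    (Subgroup.mem_normalizer_iff.mp hY x).mp h2⟩

/-- **The subgroup `E₀`, when some `q ∈ τ₂(M)` has nonabelian Sylow `q`-subgroups in `G`.** -/
theorem exists_E0_nonabelian (hG : Cfsg.IsMinSimpleOddOrder G) {M E : Subgroup G} (hM : IsCoatom M)
    (hE : Cfsg.IsComplIn E (Cfsg.sigmaCore M) M) (hH : HypH M E) {q : ℕ} [hqf : Fact q.Prime]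
    (hq : q ∈ Cfsg.tau2 M) (hna : ∀ S : Sylow q G, ¬ IsMulCommutative (S : Subgroup G)) :
    ∃ E₀ : Subgroup G, E₀ ≤ E ∧ Monoid.exponent ↥E₀ = Monoid.exponent ↥E ∧
      ∀ e ∈ E₀, e ≠ 1 → Cfsg.sigmaCore M ⊓ Subgroup.centralizer ({e} : Set G) = ⊥ := by
  classical
  have hqq : q.Prime := hqf.out
  obtain ⟨A, hAE, hAe, hAc⟩ := Cfsg.Agent.Lib.BG127H7.exists_elem_le_compl hE hq
  obtain ⟨hτ, ⟨hA₀c, -⟩, hgood⟩ := Cfsg.Agent.S1419.result hG M hM E hE q hq hna A ⟨hAE, hAe, hAc⟩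
  obtain ⟨A₀, hA₀def⟩ : ∃ A₀ : Subgroup G,
    A₀ = A ⊓ Subgroup.centralizer (Cfsg.sigmaCore M : Set G) := ⟨_, rfl⟩
  rw [← hA₀def] at hA₀c hgood
  have hA₀A : A₀ ≤ A := hA₀def ▸ inf_le_left
  by_cases hbadq : Cfsg.sigmaCore M ⊓ Subgroup.centralizer (A₀ : Set G) = ⊥
  · refine ⟨E, le_rfl, rfl, ?_⟩
    apply regular_of_lines hG hM hE hH le_rfl
    intro p hp X hXE hXc
    rw [hτ, Set.mem_singleton_iff] at hp
    rw [hp] at hXc
    by_cases hX : X = A₀
    · rw [hX]; exact hbadq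
    · exact (hgood X hXE hXc hX).1
  -- the bad case
  have hAM : A ≤ M := hAE.trans hE.1
  have hAp : IsPGroup q ↥A := Cfsg.Agent.Lib.Helper4.BGTrans.isPGroup_of_elementary hAe
  have hAcomm : ∀ a ∈ A, ∀ b ∈ A, a * b = b * a := fun a ha b hb =>
    congrArg Subtype.val (hAe.1.is_comm.comm (⟨a, ha⟩ : ↥A) ⟨b, hb⟩)
  have hA1 : A ≠ ⊥ := Cfsg.Agent.H1.BG14.ne_bot_of_card_sq hAc
  have hAt : A ≠ ⊤ := ne_top_of_le_coatom hM hAM
  have h18 := Cfsg.Agent.S1418.result hG M hM E hE q hq A ⟨hAE, hAe, hAc⟩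
  have hEN : E ≤ Subgroup.normalizer (A : Set G) := h18.1.1
  have hEA₀ : E ≤ Subgroup.normalizer (A₀ : Set G) := by
    intro e he
    rw [hA₀def]
    apply mem_normalizer_inf (hEN he)
    have heσ : e ∈ Subgroup.normalizer (Cfsg.sigmaCore M : Set G) :=
      Cfsg.Agent.H2.BG11.le_normalizer_sigmaCore M (hE.1 he)
    apply mem_normalizer_of_cj_eq
    rw [cj_centralizer, cj_eq_of_mem_normalizer heσ]
  -- a Sylow `q`-subgroup of `E`
  obtain ⟨P, hPE, hAP⟩ := exists_isSylowIn_ge hAp hAE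
  have hPM : IsSylowIn q P M := Cfsg.Agent.Lib.BG127H7.sylowIn_of_isComplIn hE
    (Cfsg.Agent.Lib.BG127H7.coprime_card_sigmaCore hqq hq.2.1) hPE
  obtain ⟨hPc, h2⟩ := syl17 hG hM hq hAM hAe hAc hPM
  obtain ⟨hΩ, hNP⟩ := h2 hAP
  have hPq : IsPGroup q ↥P := hPE.isPGroup
  obtain ⟨N₁, hexp, ⟨c₀, hc₀P, hc₀⟩, hVA, hcases, hmaxo⟩ := exists_agemo hPq hPc hAc hΩ hAP
  -- the maximal subgroup `L`
  obtain ⟨L, hL, hNL⟩ := exists_coatom_ge (normalizer_ne_top' hG hA1 hAt)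
  have hEL : E ≤ L := hEN.trans hNL
  obtain ⟨hqσL, hqβL⟩ :=
    Cfsg.Agent.H1.BG14.tau2_subset_sigma hG hM hE hq ⟨hAE, hAe, hAc⟩ hL hNL q hq
  have hnpc := ((Cfsg.Agent.S1414.result hG L hL).2.2.2.2 q hqq hqσL.2.1 hqβL).2.1
  obtain ⟨D, hDL, hqD, hDmem, hDn⟩ := exists_normal_compl hnpc
  have hLσ := Cfsg.Agent.H2.BG11.le_normalizer_sigmaCore L
  have hLD : L ≤ Subgroup.normalizer (D : Set G) := hLσ.trans hDn
  -- the normal `q'`-subgroup `B`
  obtain ⟨B, hBdef⟩ : ∃ B : Subgroup G, B = E ⊓ D := ⟨_, rfl⟩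
  have hBE : B ≤ E := hBdef ▸ inf_le_left
  have hEB : E ≤ Subgroup.normalizer (B : Set G) := by
    intro e he
    rw [hBdef]
    exact mem_normalizer_inf (Subgroup.le_normalizer he) (hLD (hEL he))
  have hqB : ¬ q ∣ Nat.card ↥B := by
    intro hd
    exact hqD (hd.trans (Subgroup.card_dvd_of_le (hBdef ▸ inf_le_right)))
  -- `E_L = E ∩ L_σ = B P`
  obtain ⟨EL, hELdef⟩ : ∃ EL : Subgroup G, EL = E ⊓ Cfsg.sigmaCore L := ⟨_, rfl⟩
  have hELE : EL ≤ E := hELdef ▸ inf_le_left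
  have hEEL : E ≤ Subgroup.normalizer (EL : Set G) := by
    intro e he
    rw [hELdef]
    exact mem_normalizer_inf (Subgroup.le_normalizer he) (hLσ (hEL he))
  have hPσ : P ≤ Cfsg.sigmaCore L :=
    Cfsg.Agent.H2.BG11.le_sigmaCore_of_pgroup hG hL hqσL (hPE.1.trans hEL) hPq
  have hPEL : IsSylowIn q P EL := sylIn_of_le_mid hPE (hELdef ▸ le_inf hPE.1 hPσ) hELE
  have hsE : Group.IsSolvable ↥E := Cfsg.Agent.H2.BGU.solvable_of_le_coatom hG hM hE.1
  have hsEL : Group.IsSolvable ↥EL :=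
    Cfsg.Agent.H2.BGU.solvable_of_le_coatom hG hM (hELE.trans hE.1)
  obtain ⟨KL, hKL⟩ := Cfsg.Agent.H1.exists_isPiHallOf {r | r ≠ q} EL hsEL
  have hqKL : ¬ q ∣ Nat.card ↥KL := fun hd => hKL.2.1 q hqq hd rfl
  have hKLB : KL ≤ B := by
    intro k hk
    have hkEL : k ∈ EL := hKL.1 hk
    rw [hELdef] at hkEL
    obtain ⟨hkE, hkσ⟩ := Subgroup.mem_inf.mp hkEL
    rw [hBdef]
    refine Subgroup.mem_inf.mpr ⟨hkE, hDmem k hkσ ?_⟩
    exact Nat.Coprime.coprime_dvd_left (orderOf_dvd_card_of_mem hk)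
      ((Nat.Prime.coprime_iff_not_dvd hqq).mpr hqKL).symm
  have hPB : P ≤ Subgroup.normalizer (B : Set G) := hPE.1.trans hEB
  have hcopBP : (Nat.card ↥B).Coprime (Nat.card ↥P) := by
    rw [hPE.2]
    exact (Nat.Coprime.pow_left _ ((Nat.Prime.coprime_iff_not_dvd hqq).mpr hqB)).symm
  have hBEL : B ≤ EL := by
    rw [hBdef, hELdef]
    exact inf_le_inf_left _ hDL
  have hELeq : B ⊔ P = EL := by
    apply Subgroup.eq_of_le_of_card_ge (sup_le hBEL hPEL.1)
    rw [Cfsg.Agent.H1.card_sup_of_le_normalizer_coprime B P hPB hcopBP,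
      card_eq_of_sylow_hall hPEL hKL, mul_comm]
    exact Nat.mul_le_mul_right _ (Subgroup.card_le_of_le hKLB)
  -- Frattini
  have hfrat : ∀ e ∈ E, ∃ b ∈ B, ∃ n ∈ E ⊓ Subgroup.normalizer (P : Set G), e = b * n := by
    intro e he
    have h1 : IsSylowIn q (cj e P) EL := by
      have := sylIn_cj hPEL e
      rwa [cj_eq_of_mem_normalizer (hEEL he)] at this
    obtain ⟨l, hl, heq⟩ := hPEL.conj h1
    rw [← hELeq] at hl
    obtain ⟨b, hb, x, hx, rfl⟩ := (Cfsg.Agent.H1.mem_sup_of_le_normalizer B P hPB).mp hl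
    have h2 : cj e P = cj b P := by
      rw [heq]
      show cj (b * x) P = cj b P
      rw [cj_mul, cj_eq_of_mem hx]
    refine ⟨b, hb, b⁻¹ * e, Subgroup.mem_inf.mpr ⟨E.mul_mem (E.inv_mem (hBE hb)) he, ?_⟩, by group⟩
    apply mem_normalizer_of_cj_eq
    rw [cj_mul, h2, cj_inv_cj]
  -- `N_E(P)` and a Hall `q'`-subgroup `H₁` of it
  obtain ⟨NP, hNPdef⟩ : ∃ NP : Subgroup G, NP = E ⊓ Subgroup.normalizer (P : Set G) := ⟨_, rfl⟩
  rw [← hNPdef] at hfrat
  have hNPE : NP ≤ E := hNPdef ▸ inf_le_left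
  have hPNP : IsSylowIn q P NP :=
    sylIn_of_le_mid hPE (hNPdef ▸ le_inf hPE.1 Subgroup.le_normalizer) hNPE
  have hsNP : Group.IsSolvable ↥NP :=
    Cfsg.Agent.H2.BGU.solvable_of_le_coatom hG hM (hNPE.trans hE.1)
  obtain ⟨H₁, hH₁⟩ := Cfsg.Agent.H1.exists_isPiHallOf {r | r ≠ q} NP hsNP
  have hH₁NP : H₁ ≤ NP := hH₁.1
  have hH₁E : H₁ ≤ E := hH₁NP.trans hNPE
  have hH₁P : H₁ ≤ Subgroup.normalizer (P : Set G) := hH₁NP.trans (hNPdef ▸ inf_le_right)
  have hqH₁ : ¬ q ∣ Nat.card ↥H₁ := fun hd => hH₁.2.1 q hqq hd rfl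
  have hcopH₁ : (Nat.card ↥H₁).Coprime q := ((Nat.Prime.coprime_iff_not_dvd hqq).mpr hqH₁).symm
  -- the good line
  have hline : ∃ Xs : Subgroup G, Xs ≤ powIm P hPc N₁ ∧ Nat.card ↥Xs = q ∧
      H₁ ≤ Subgroup.normalizer (Xs : Set G) ∧
      Cfsg.sigmaCore M ⊓ Subgroup.centralizer (Xs : Set G) = ⊥ := by
    rcases hcases with hV | hV
    · refine ⟨powIm P hPc N₁, le_rfl, hV, hH₁P.trans (normalizer_le_normalizer_powIm P hPc N₁), ?_⟩
      by_contra hb
      have := normalizer_le_of_bad hG hM hE hq ⟨hAE, hAe, hAc⟩ hVA hV hb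
      exact hNP ((normalizer_le_normalizer_powIm P hPc N₁).trans this)
    · have hcopA : (Nat.card ↥H₁).Coprime (Nat.card ↥A) := by
        rw [hAc]; exact Nat.Coprime.pow_right _ hcopH₁
      have hH₁A : H₁ ≤ Subgroup.normalizer (A : Set G) := hH₁E.trans hEN
      have hH₁bot : H₁ ≤ Subgroup.normalizer ((⊥ : Subgroup G) : Set G) := by
        intro h _
        rw [Subgroup.mem_normalizer_iff]
        intro x
        rw [Subgroup.mem_bot, Subgroup.mem_bot]
        exact conj_eq_one_iff.symm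
      obtain ⟨W, hH₁W, -, hWA, hA₀W, hdec⟩ := exists_invariant_rel_complement' hAcomm hH₁A hcopA
        q hqq bot_le hA₀A le_rfl hH₁bot (hH₁E.trans hEA₀) hH₁A
        (fun a ha => by rw [hAe.2 a ha]; exact Subgroup.one_mem _)
      have hA₀1 : A₀ ≠ ⊥ := by
        rintro h
        rw [h, Subgroup.card_bot] at hA₀c
        exact hqq.one_lt.ne hA₀c
      have hWc : Nat.card ↥W = q := by
        rcases card_cases_of_le hAc hWA with h | h | h
        · exfalso
          have hle : A ≤ A₀ := by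
            intro a ha
            obtain ⟨d, hd, w, hw, rfl⟩ := hdec a ha
            rw [h, Subgroup.mem_bot] at hw
            rw [hw, mul_one]; exact hd
          have := Subgroup.card_le_of_le hle
          rw [hAc, hA₀c] at this
          have h4 : q < q ^ 2 := by
            have := hqq.one_lt
            nlinarith
          omega
        · exact h
        · exfalso
          apply hA₀1
          rw [eq_bot_iff]
          intro a ha
          exact hA₀W (Subgroup.mem_inf.mpr ⟨ha, h ▸ hA₀A ha⟩)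
      have hWne : W ≠ A₀ := by
        rintro rfl
        apply hA₀1
        rw [eq_bot_iff]
        intro a ha
        exact hA₀W (Subgroup.mem_inf.mpr ⟨ha, ha⟩)
      exact ⟨W, hV ▸ hWA, hWc, hH₁W, (hgood W (hWA.trans hAE) hWc hWne).1⟩
  obtain ⟨Xs, hXsV, hXsc, hH₁Xs, hXsgood⟩ := hline
  -- the module lemma
  obtain ⟨c, hcP, hH₁c, hcX, hc1⟩ := exists_cyclic_invariant hPc hPq hH₁P hcopH₁ hexp hXsc hH₁Xs
    (fun x hx => hXsV hx)
  have hcE : Subgroup.zpowers c ≤ E := Subgroup.zpowers_le.mpr (hPE.1 hcP)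
  have hCH₁E : Subgroup.zpowers c ⊔ H₁ ≤ E := sup_le hcE hH₁E
  have hE₀E : B ⊔ (Subgroup.zpowers c ⊔ H₁) ≤ E := sup_le hBE hCH₁E
  refine ⟨B ⊔ (Subgroup.zpowers c ⊔ H₁), hE₀E, ?_, ?_⟩
  · -- the exponent
    apply exponent_eq_of_forall hE₀E
    intro r hr e he hep
    haveI : Fact r.Prime := ⟨hr⟩
    by_cases hrq : r = q
    · subst hrq
      obtain ⟨g, hg, hle⟩ := exists_cj_le_of_sylow hPE hep (Subgroup.zpowers_le.mpr he)
      have h1 : g * e * g⁻¹ ∈ P := hle (conj_mem_cj (Subgroup.mem_zpowers e))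
      have hd : orderOf e ∣ orderOf c := by
        rw [← Cfsg.Agent.Lib.Lead.Conj.orderOf_conj g e]
        exact hmaxo c hcP hc1 _ h1
      refine ⟨c ^ (orderOf c / orderOf e), ?_, orderOf_pow_orderOf_div (orderOf_pos c).ne' hd⟩
      exact Subgroup.mem_sup_right (Subgroup.mem_sup_left
        (Subgroup.pow_mem _ (Subgroup.mem_zpowers c) _))
    · -- Dedekind and dominance
      obtain ⟨j, hj⟩ := orderOf_eq_pow_of_isPGroup hep
      have hTd : Nat.card ↥(Subgroup.zpowers e ⊔ B) ∣ Nat.card ↥(Subgroup.zpowers e) * Nat.card ↥B :=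
        Cfsg.Agent.Lib.BG127H7.card_sup_dvd_of_le_normalizer ((Subgroup.zpowers_le.mpr he).trans hEB)
      have hqT : ¬ q ∣ Nat.card ↥(Subgroup.zpowers e ⊔ B) := by
        intro hd
        rcases (Nat.Prime.dvd_mul hqq).mp (hd.trans hTd) with h | h
        · rw [Nat.card_zpowers, hj] at h
          exact hrq ((Nat.prime_dvd_prime_iff_eq hqq hr).mp (hqq.dvd_of_dvd_pow h)).symm
        · exact hqB h
      obtain ⟨b, hb, n, hn, rfl⟩ := hfrat e he
      have hnT : n ∈ (Subgroup.zpowers (b * n) ⊔ B) ⊓ NP := by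
        refine Subgroup.mem_inf.mpr ⟨?_, hn⟩
        have h0 : b⁻¹ * (b * n) ∈ Subgroup.zpowers (b * n) ⊔ B :=
          Subgroup.mul_mem _ (Subgroup.inv_mem _ (Subgroup.mem_sup_right hb))
            (Subgroup.mem_sup_left (Subgroup.mem_zpowers _))
        rwa [inv_mul_cancel_left] at h0
      have hpi : Cfsg.Agent.H1.PiNum {r | r ≠ q}
          (Nat.card ↥((Subgroup.zpowers (b * n) ⊔ B) ⊓ NP)) := by
        intro s hs hsd hsq
        rw [hsq] at hsd
        exact hqT (hsd.trans (Subgroup.card_dvd_of_le inf_le_left))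
      obtain ⟨g, hg, hle⟩ := Cfsg.Agent.H1.isPiHallOf_dominance {r | r ≠ q} H₁ NP _ hsNP hH₁
        inf_le_right hpi
      obtain ⟨h, hh, hhn⟩ := hle hnT
      have hgE : g ∈ E := hNPE hg
      have hbg : g⁻¹ * b * g ∈ B := by
        have := (Subgroup.mem_normalizer_iff.mp (Subgroup.inv_mem _ (hEB hgE)) b).mp hb
        simpa using this
      refine ⟨g⁻¹ * (b * n) * g, ?_, ?_⟩
      · have e1 : g⁻¹ * (b * n) * g = (g⁻¹ * b * g) * h := by
          have : n = g * h * g⁻¹ := by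
            rw [← hhn]; simp [MulAut.conj_apply]
          rw [this]; group
        rw [e1]
        exact Subgroup.mul_mem _ (Subgroup.mem_sup_left hbg)
          (Subgroup.mem_sup_right (Subgroup.mem_sup_right hh))
      · have := Cfsg.Agent.Lib.Lead.Conj.orderOf_conj g⁻¹ (b * n)
        rwa [inv_inv] at this
  · -- regularity
    apply regular_of_lines hG hM hE hH hE₀E
    intro p hp X hXE₀ hXc
    rw [hτ, Set.mem_singleton_iff] at hp
    rw [hp] at hXc
    by_cases hX : X = A₀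
    swap
    · exact (hgood X (hXE₀.trans hE₀E) hXc hX).1
    exfalso
    subst hX
    have hd1 : Nat.card ↥(H₁ ⊔ Subgroup.zpowers c) ∣ Nat.card ↥H₁ * Nat.card ↥(Subgroup.zpowers c) :=
      Cfsg.Agent.Lib.BG127H7.card_sup_dvd_of_le_normalizer hH₁c
    have hd2 : Nat.card ↥((Subgroup.zpowers c ⊔ H₁) ⊔ B) ∣
        Nat.card ↥(Subgroup.zpowers c ⊔ H₁) * Nat.card ↥B :=
      Cfsg.Agent.Lib.BG127H7.card_sup_dvd_of_le_normalizer (hCH₁E.trans hEB)
    have hd : Nat.card ↥(B ⊔ (Subgroup.zpowers c ⊔ H₁)) ∣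
        Nat.card ↥(Subgroup.zpowers c) * (Nat.card ↥H₁ * Nat.card ↥B) := by
      rw [sup_comm B]
      refine hd2.trans ?_
      rw [sup_comm (Subgroup.zpowers c)]
      calc Nat.card ↥(H₁ ⊔ Subgroup.zpowers c) * Nat.card ↥B
          ∣ (Nat.card ↥H₁ * Nat.card ↥(Subgroup.zpowers c)) * Nat.card ↥B :=
            Nat.mul_dvd_mul_right hd1 _
        _ = Nat.card ↥(Subgroup.zpowers c) * (Nat.card ↥H₁ * Nat.card ↥B) := by ring
    have hs : ¬ q ∣ Nat.card ↥H₁ * Nat.card ↥B := by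
      intro h
      rcases (Nat.Prime.dvd_mul hqq).mp h with h | h
      · exact hqH₁ h
      · exact hqB h
    have hCsyl : IsSylowIn q (Subgroup.zpowers c) (B ⊔ (Subgroup.zpowers c ⊔ H₁)) :=
      isSylowIn_of_dvd (le_sup_left.trans le_sup_right)
        (hPq.to_le (Subgroup.zpowers_le.mpr hcP)) hd hs
    have hXq : IsPGroup q ↥X := hAp.to_le hA₀A
    obtain ⟨g, hg, hle⟩ := exists_cj_le_of_sylow hCsyl hXq hXE₀
    rw [cj_eq_of_mem_normalizer (hEA₀ (hE₀E hg))] at hle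
    have hXsgen : Xs = Subgroup.zpowers (c ^ N₁) := eq_zpowers_of_card_prime hXsc hcX hc1
    have hXsle : Xs ≤ Subgroup.zpowers c := by
      rw [hXsgen]
      exact Subgroup.zpowers_le.mpr (Subgroup.pow_mem _ (Subgroup.mem_zpowers c) _)
    have : X = Xs := Cfsg.Agent.H1.BG14.eq_of_card_eq_of_le_isCyclic (isCyclic_zpowers' c) hle hXsle
      (by rw [hXc, hXsc])
    rw [this] at hbadq
    exact hbadq hXsgood

end Cfsg.Agent.H1.BG16
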