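import Mathlib
import Cfsg.Agent.H1.BG16G

/-!
# B&G Section 16 preliminaries (helper1), part H: S1421 assembled
-/

set_option autoImplicit false
set_option linter.unusedVariables false
set_option linter.unusedSectionVars false
set_option linter.style.haveILetI false
set_option maxHeartbeats 1000000

open scoped commutatorElement Pointwise

namespace Cfsg.Agent.H1.BG16

open Cfsg Cfsg.Agent.Lib.Helper8.BGTen
open Cfsg.Agent.Lib.Helper7 (IsSylowIn exists_isSylowIn_ge)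

universe u

variable {G : Type u} [Group G] [Finite G]

/-- under (H), an element of `E` with a fixed point on `M_σ` is a `τ₂(M)`-element -/
theorem tau2_of_fixed_point (hG : Cfsg.IsMinSimpleOddOrder G) {M E : Subgroup G} (hM : IsCoatom M)
    (hE : Cfsg.IsComplIn E (Cfsg.sigmaCore M) M) (hH : HypH M E) {e x : G} (he : e ∈ E)
    (hx : x ∈ Cfsg.sigmaCore M) (hx1 : x ≠ 1) (hex : e * x = x * e) :
    ∀ r : ℕ, r.Prime → r ∣ orderOf e → r ∈ Cfsg.tau2 M := by
  intro r hr hre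
  obtain ⟨e', he'def⟩ : ∃ e' : G, e' = e ^ (orderOf e / r) := ⟨_, rfl⟩
  have he'o : orderOf e' = r := he'def ▸ Cfsg.Agent.H1.BG14.orderOf_pow_div hr hre
  have he'E : e' ∈ E := he'def ▸ E.pow_mem he _
  have he'1 : e' ≠ 1 := by
    intro h0
    rw [h0, orderOf_one] at he'o
    exact hr.one_lt.ne he'o
  have hcomm : e' * x = x * e' := by
    rw [he'def]
    exact ((Commute.pow_left (show Commute e x from hex) _)).eq
  have hxe' : x ∈ Cfsg.sigmaCore M ⊓ Subgroup.centralizer ({e'} : Set G) :=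
    Subgroup.mem_inf.mpr ⟨hx, Subgroup.mem_centralizer_singleton_iff.mpr hcomm.symm⟩
  have hrE : r ∣ Nat.card ↥E := he'o ▸ orderOf_dvd_card_of_mem he'E
  have h13 : ∀ q : ℕ, q.Prime → q ∣ orderOf e' → q = r := by
    intro q hq hqd
    rw [he'o] at hqd
    exact (Nat.prime_dvd_prime_iff_eq hq hr).mp hqd
  rcases tau_cases_compl hG hM hE hr hrE with h1 | h2 | h3
  · exfalso
    have := hH e' he'E he'1 (fun q hq hqd => (h13 q hq hqd) ▸ Or.inl h1)
    rw [this, Subgroup.mem_bot] at hxe'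
    exact hx1 hxe'
  · exact h2
  · exfalso
    have := hH e' he'E he'1 (fun q hq hqd => (h13 q hq hqd) ▸ Or.inr h3)
    rw [this, Subgroup.mem_bot] at hxe'
    exact hx1 hxe'

/-- **S1421 (a)** -/
theorem s1421_a (hG : Cfsg.IsMinSimpleOddOrder G) {M E : Subgroup G} (hM : IsCoatom M)
    (hE : Cfsg.IsComplIn E (Cfsg.sigmaCore M) M) (hH : HypH M E) :
    ∃ A₀ : Subgroup G, A₀ ≤ E ∧ E ≤ Subgroup.normalizer (A₀ : Set G) ∧ IsMulCommutative ↥A₀ ∧
      ∀ x ∈ Cfsg.sigmaCore M, x ≠ 1 → E ⊓ Subgroup.centralizer ({x} : Set G) ≤ A₀ := by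
  by_cases hab : ∀ q : ℕ, q ∈ Cfsg.tau2 M → ∀ [Fact q.Prime],
      ∃ S : Sylow q G, IsMulCommutative (S : Subgroup G)
  · refine ⟨Cfsg.fittingOf E, Cfsg.Agent.H2.BGU.fittingOf_le E,
      Cfsg.Agent.H2.BGU.le_normalizer_fittingOf E, ?_, ?_⟩
    · refine ⟨⟨fun a b => ?_⟩⟩
      apply Subtype.ext
      exact Cfsg.Agent.H2.BG12.fittingOf_compl_comm hG hM hE a a.2 b b.2
    · intro x hx hx1 e he
      obtain ⟨heE, hec⟩ := Subgroup.mem_inf.mp he
      have hex : e * x = x * e := Subgroup.mem_centralizer_singleton_iff.mp hec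
      exact Cfsg.Agent.H2.BG12.mem_fittingOf_of_tau2 hG (Cfsg.Agent.H2.BG12.st128 hG) hM hE hab heE
        (tau2_of_fixed_point hG hM hE hH heE hx hx1 hex)
  · push Not at hab
    obtain ⟨q, hq, hqf, hna⟩ := hab
    obtain ⟨A, hAE, hAe, hAc⟩ := Cfsg.Agent.Lib.BG127H7.exists_elem_le_compl hE hq
    have hτeq : Cfsg.tau2 M = {q} :=
      (Cfsg.Agent.S1419.result hG M hM E hE q hq hna A ⟨hAE, hAe, hAc⟩).1
    have h18 := Cfsg.Agent.S1418.result hG M hM E hE q hq A ⟨hAE, hAe, hAc⟩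
    refine ⟨A, hAE, h18.1.1, hAe.1, ?_⟩
    intro x hx hx1 e he
    obtain ⟨heE, hec⟩ := Subgroup.mem_inf.mp he
    have hex : e * x = x * e := Subgroup.mem_centralizer_singleton_iff.mp hec
    have hτ := tau2_of_fixed_point hG hM hE hH heE hx hx1 hex
    have hup : IsPGroup q ↥(Subgroup.zpowers e) := by
      apply Cfsg.Agent.H2.BG12.isPGroup_of_forall_prime_dvd
      intro y hy r hr hd
      have h1 : orderOf y ∣ orderOf e := orderOf_dvd_of_mem_zpowers hy
      have := hτ r hr (hd.trans h1)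
      rw [hτeq] at this
      exact this
    have hpow := Cfsg.Agent.H2.BG12.pow_eq_one_of_fixed_point hG hM hE hq hna ⟨hAE, hAe, hAc⟩
      (hE.1 heE) hup hx hx1 hex
    by_cases he1 : e = 1
    · rw [he1]; exact A.one_mem
    · have hoe : orderOf e = q := orderOf_eq_prime hpow he1
      have hc : Nat.card ↥(Subgroup.zpowers e) = q := by rw [Nat.card_zpowers, hoe]
      exact h18.1.2 _ (Subgroup.zpowers_le.mpr heE) hc (Subgroup.mem_zpowers e)

/-- **S1421** -/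
theorem s1421 (hG : Cfsg.IsMinSimpleOddOrder G) {M E : Subgroup G} (hM : IsCoatom M)
    (hE : Cfsg.IsComplIn E (Cfsg.sigmaCore M) M) (hH : HypH M E) :
    (∃ A₀ : Subgroup G, A₀ ≤ E ∧ E ≤ Subgroup.normalizer (A₀ : Set G) ∧ IsMulCommutative ↥A₀ ∧
        ∀ x ∈ Cfsg.sigmaCore M, x ≠ 1 → E ⊓ Subgroup.centralizer ({x} : Set G) ≤ A₀) ∧
      ∃ E₀ : Subgroup G, E₀ ≤ E ∧ Monoid.exponent ↥E₀ = Monoid.exponent ↥E ∧
        ∀ e ∈ E₀, e ≠ 1 → Cfsg.sigmaCore M ⊓ Subgroup.centralizer ({e} : Set G) = ⊥ := by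
  refine ⟨s1421_a hG hM hE hH, ?_⟩
  by_cases hab : ∀ q : ℕ, q ∈ Cfsg.tau2 M → ∀ [Fact q.Prime],
      ∃ S : Sylow q G, IsMulCommutative (S : Subgroup G)
  · exact exists_E0_abelian hG hM hE hH hab
  · push Not at hab
    obtain ⟨q, hq, hqf, hna⟩ := hab
    exact exists_E0_nonabelian hG hM hE hH hq hna

end Cfsg.Agent.H1.BG16
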