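import Mathlib
import Cfsg.Agent.H1.BG16H
import Cfsg.Agent.S1353

/-!
# B&G Section 16 preliminaries (helper1), part I: S1360

In the standard factorisation `M = K U M_σ`, `U` has a subgroup `U₀` of the same exponent acting
regularly on `M_σ`.
-/

set_option autoImplicit false
set_option linter.unusedVariables false
set_option linter.unusedSectionVars false
set_option linter.style.haveILetI false
set_option maxHeartbeats 1000000

open scoped commutatorElement Pointwise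

namespace Cfsg.Agent.H1.BG16

open Cfsg Cfsg.Agent.Lib.Helper8.BGTen
open Cfsg.Agent.Lib.Helper7 (IsSylowIn exists_isSylowIn_ge)

universe u

variable {G : Type u} [Group G] [Finite G]

theorem not_tau2_of_tau13 {M : Subgroup G} {r : ℕ} (h : r ∈ Cfsg.tau1 M ∪ Cfsg.tau3 M) :
    r ∉ Cfsg.tau2 M := by
  intro h2
  rcases h with h1 | h3
  · exact h2.2.2.2 h1.2.2.2.2
  · exact h2.2.2.2 h3.2.2.2

/-- the case `K = 1` -/
theorem s1360_of_bot (hG : Cfsg.IsMinSimpleOddOrder G) {M K U : Subgroup G} (hM : IsCoatom M)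
    (hKU : Cfsg.IsSigmaDecomposition M K U) (hK : K = ⊥) :
    ∃ U₀ : Subgroup G, U₀ ≤ U ∧ Monoid.exponent ↥U₀ = Monoid.exponent ↥U ∧
      ∀ u ∈ U₀, u ∈ Cfsg.sigmaHat M → u = 1 := by
  have hE : Cfsg.IsComplIn U (Cfsg.sigmaCore M) M := by
    have := hKU.compl
    rwa [hK, bot_sup_eq] at this
  have hH : HypH M U := by
    intro e he he1 h13
    rw [eq_bot_iff]
    intro x hx
    obtain ⟨hxσ, hxc⟩ := Subgroup.mem_inf.mp hx
    rw [Subgroup.mem_bot]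
    by_contra hx1
    have hex : e * x = x * e := (Subgroup.mem_centralizer_singleton_iff.mp hxc).symm
    have hτ := Cfsg.Agent.H2.BG12.forall_mem_tau2_of_fixed_point hG hM hKU he hxσ hx1 hex
    have hoe : orderOf e ≠ 1 := fun h => he1 (orderOf_eq_one_iff.mp h)
    obtain ⟨r, hr, hre⟩ := Nat.exists_prime_and_dvd hoe
    exact not_tau2_of_tau13 (h13 r hr hre) (hτ r hr hre)
  obtain ⟨-, E₀, hE₀U, hexp, hreg⟩ := s1421 hG hM hE hH
  refine ⟨E₀, hE₀U, hexp, ?_⟩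
  rintro u hu ⟨-, y, hy, hy1, huy⟩
  by_contra hu1
  have := hreg u hu hu1
  have hmem : y ∈ Cfsg.sigmaCore M ⊓ Subgroup.centralizer ({u} : Set G) :=
    Subgroup.mem_inf.mpr ⟨hy, Subgroup.mem_centralizer_singleton_iff.mpr huy.symm⟩
  rw [this, Subgroup.mem_bot] at hmem
  exact hy1 hmem

/-- the case `K ≠ 1`: `U` is abelian -/
theorem U_comm_of_ne_bot (hG : Cfsg.IsMinSimpleOddOrder G) {M K U : Subgroup G} (hM : IsCoatom M)
    (hKU : Cfsg.IsSigmaDecomposition M K U) (hK : K ≠ ⊥) :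
    ∀ a ∈ U, ∀ b ∈ U, a * b = b * a := by
  obtain ⟨⟨k₀, hk₀⟩, hk₀1'⟩ := (Subgroup.ne_bot_iff_exists_ne_one).mp hK
  have hk₀1 : k₀ ≠ 1 := fun h => hk₀1' (Subtype.ext h)
  have hok : orderOf k₀ ≠ 1 := fun h => hk₀1 (orderOf_eq_one_iff.mp h)
  obtain ⟨r, hr, hrk⟩ := Nat.exists_prime_and_dvd hok
  obtain ⟨k, hkdef⟩ : ∃ k : G, k = k₀ ^ (orderOf k₀ / r) := ⟨_, rfl⟩
  have hko : orderOf k = r := hkdef ▸ Cfsg.Agent.H1.BG14.orderOf_pow_div hr hrk
  have hkK : k ∈ K := hkdef ▸ K.pow_mem hk₀ _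
  have hk1 : k ≠ 1 := by
    intro h0
    rw [h0, orderOf_one] at hko
    exact hr.one_lt.ne hko
  have hfpf := Cfsg.Agent.S1353.result hG M hM K U hKU k hkK hk1
  have hnil : Group.IsNilpotent ↥U := by
    apply Cfsg.Agent.H2.BG11.nilpotent_of_fpf_prime hr hko (hKU.normal hkK)
    intro x hx hfix
    have hmem : x ∈ U ⊓ Subgroup.centralizer ({k} : Set G) := by
      refine Subgroup.mem_inf.mpr ⟨hx, ?_⟩
      rw [Subgroup.mem_centralizer_singleton_iff]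
      exact (mul_inv_eq_iff_eq_mul.mp hfix).symm
    rw [hfpf, Subgroup.mem_bot] at hmem
    exact hmem
  obtain ⟨E, hE, hUE⟩ := Cfsg.Agent.H2.BG12.exists_compl_ge_U hG hM hKU
  have hcomm := (Cfsg.Agent.S1420.result hG M hM E hE).1 U (Cfsg.Agent.H2.BG12.U_le hKU) hnil
    (fun p hp hd => Cfsg.Agent.H2.BG12.not_mem_sigma_of_dvd_U hG hM hKU hp hd)
  intro a ha b hb
  exact congrArg Subtype.val (hcomm.is_comm.comm (⟨a, ha⟩ : ↥U) ⟨b, hb⟩)

/-- the elements `c_p` -/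
theorem exists_c_of_tau2 (hG : Cfsg.IsMinSimpleOddOrder G) {M K U : Subgroup G} (hM : IsCoatom M)
    (hKU : Cfsg.IsSigmaDecomposition M K U) (hUc : ∀ a ∈ U, ∀ b ∈ U, a * b = b * a)
    {p : ℕ} [hpf : Fact p.Prime] (hp : p ∈ Cfsg.tau2 M) :
    ∃ c ∈ U, IsPGroup p ↥(Subgroup.zpowers c) ∧
      (∀ x ∈ U, IsPGroup p ↥(Subgroup.zpowers x) → orderOf x ∣ orderOf c) ∧
      (∀ X : Subgroup G, X ≤ Subgroup.zpowers c → Nat.card ↥X = p →
        Cfsg.sigmaCore M ⊓ Subgroup.centralizer (X : Set G) = ⊥) := by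
  classical
  have hpp : p.Prime := hpf.out
  by_cases hpU : p ∣ Nat.card ↥U
  swap
  · refine ⟨1, U.one_mem, ?_, ?_, ?_⟩
    · rw [Subgroup.zpowers_one_eq_bot]; exact IsPGroup.of_bot
    · intro x hx hxp
      obtain ⟨j, hj⟩ := orderOf_eq_pow_of_isPGroup hxp
      have h1 : orderOf x ∣ Nat.card ↥U := orderOf_dvd_card_of_mem hx
      have hj0 : j = 0 := by
        by_contra hj0
        apply hpU
        rw [hj] at h1
        exact (dvd_pow_self p hj0).trans h1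
      rw [hj, hj0, pow_zero]
      exact one_dvd _
    · intro X hX hXc
      exfalso
      rw [Subgroup.zpowers_one_eq_bot, le_bot_iff] at hX
      rw [hX, Subgroup.card_bot] at hXc
      exact hpp.one_lt.ne hXc
  -- the Sylow `p`-subgroup of `U`
  obtain ⟨Up, hUp, -⟩ := exists_isSylowIn_ge (p := p) (Q := ⊥) (H := U) IsPGroup.of_bot bot_le
  have hUM : U ≤ M := Cfsg.Agent.H2.BG12.U_le hKU
  have hpK : ¬ p ∣ Nat.card ↥K := by
    intro hd
    have hκ := hKU.hall.2.1 p hpp hd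
    exact hp.2.2.2 (Cfsg.Agent.H1.BG14.tau13_of_mem_kappa hG hM hκ).1
  have hpσ : ¬ p ∣ Nat.card ↥(Cfsg.sigmaCore M) := by
    intro hd
    exact hp.2.1 (Cfsg.Agent.H2.BG11.mem_sigma_of_dvd_sigmaCore hG hM hpp hd)
  have hcopKσ : (Nat.card ↥(K ⊔ Cfsg.sigmaCore M)).Coprime p := by
    apply Nat.Coprime.symm
    rw [Nat.Prime.coprime_iff_not_dvd hpp]
    intro hd
    have h1 := Cfsg.Agent.Lib.BG127H7.card_sup_dvd_of_le_normalizer
      (hKU.hall.1.trans (Cfsg.Agent.H2.BG11.le_normalizer_sigmaCore M))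
    rcases (Nat.Prime.dvd_mul hpp).mp (hd.trans h1) with h | h
    · exact hpK h
    · exact hpσ h
  have hUpM : IsSylowIn p Up M :=
    Cfsg.Agent.Lib.BG127H7.sylowIn_of_isComplIn hKU.compl hcopKσ hUp
  have hUpq : IsPGroup p ↥Up := hUp.isPGroup
  -- an elementary abelian subgroup of order `p²` inside `Up`
  obtain ⟨A', hA'M, hA'e, hA'c⟩ := Cfsg.Agent.H2.BG12.exists_elem_sq hp.2.2.2
  have hA'p : IsPGroup p ↥A' := Cfsg.Agent.Lib.Helper4.BGTrans.isPGroup_of_elementary hA'e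
  obtain ⟨m, hm, hAUp⟩ := exists_cj_le_of_sylow hUpM hA'p hA'M
  obtain ⟨A, hAdef⟩ : ∃ A : Subgroup G, A = cj m A' := ⟨_, rfl⟩
  rw [← hAdef] at hAUp
  have hAe : Cfsg.IsElementaryAbelian p A := hAdef ▸ Cfsg.Agent.H2.BG12.isElementaryAbelian_cj hA'e m
  have hAc : Nat.card ↥A = p ^ 2 := by rw [hAdef, card_cj, hA'c]
  have hAM : A ≤ M := hAUp.trans hUpM.1
  obtain ⟨E, hE, hUE⟩ := Cfsg.Agent.H2.BG12.exists_compl_ge_U hG hM hKU
  have hAE : A ≤ E := (hAUp.trans hUp.1).trans hUE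
  obtain ⟨hPc, h2⟩ := syl17 hG hM hp hAM hAe hAc hUpM
  obtain ⟨hΩ, hNP⟩ := h2 hAUp
  obtain ⟨N₁, hexp, ⟨c₀, hc₀P, hc₀⟩, hVA, hcases, hmaxo⟩ := exists_agemo hUpq hPc hAc hΩ hAUp
  -- `p`-elements of `U` lie in `Up`
  have hpel : ∀ x ∈ U, IsPGroup p ↥(Subgroup.zpowers x) → x ∈ Up := by
    intro x hx hxp
    obtain ⟨u, hu, hle⟩ := exists_cj_le_of_sylow hUp hxp (Subgroup.zpowers_le.mpr hx)
    have h1 : u * x * u⁻¹ ∈ Up := hle (conj_mem_cj (Subgroup.mem_zpowers x))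
    have h2 : u * x * u⁻¹ = x := by
      rw [hUc u hu x hx]; group
    rwa [h2] at h1
  -- the element `c`
  have hcex : ∃ c ∈ Up, c ^ N₁ ≠ 1 ∧ Cfsg.sigmaCore M ⊓
      Subgroup.centralizer ((Subgroup.zpowers (c ^ N₁) : Subgroup G) : Set G) = ⊥ := by
    rcases hcases with hV | hV
    · refine ⟨c₀, hc₀P, hc₀, ?_⟩
      have hgen : powIm Up hPc N₁ = Subgroup.zpowers (c₀ ^ N₁) :=
        eq_zpowers_of_card_prime hV ⟨c₀, hc₀P, rfl⟩ hc₀
      rw [← hgen]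
      by_contra hb
      have := normalizer_le_of_bad hG hM hE hp ⟨hAE, hAe, hAc⟩ hVA hV hb
      exact hNP ((normalizer_le_normalizer_powIm Up hPc N₁).trans this)
    · obtain ⟨A₁, hA₁A, hA₁c, hA₁⟩ :=
        (Cfsg.Agent.S1417.result hG M hM p hp A ⟨hAM, hAe, hAc⟩).2.2.2.2.2
      obtain ⟨a₁, ha₁, ha₁1⟩ := exists_ne_one_of_card_prime hA₁c
      have hmem : a₁ ∈ powIm Up hPc N₁ := hV ▸ hA₁A ha₁
      obtain ⟨x, hx, hxa⟩ := hmem
      refine ⟨x, hx, hxa ▸ ha₁1, ?_⟩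
      rw [hxa, ← eq_zpowers_of_card_prime hA₁c ha₁ ha₁1]
      exact hA₁
  obtain ⟨c, hcUp, hc1, hcgood⟩ := hcex
  refine ⟨c, hUp.1 hcUp, hUpq.to_le (Subgroup.zpowers_le.mpr hcUp), ?_, ?_⟩
  · intro x hx hxp
    exact hmaxo c hcUp hc1 x (hpel x hx hxp)
  · intro X hXc hXp
    have hord : orderOf (c ^ N₁) = p := by
      apply orderOf_eq_prime _ hc1
      rw [← pow_mul, mul_comm]
      exact hexp c hcUp
    have hle : Subgroup.zpowers (c ^ N₁) ≤ Subgroup.zpowers c :=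
      Subgroup.zpowers_le.mpr (Subgroup.pow_mem _ (Subgroup.mem_zpowers c) _)
    have : X = Subgroup.zpowers (c ^ N₁) :=
      Cfsg.Agent.H1.BG14.eq_of_card_eq_of_le_isCyclic (isCyclic_zpowers' c) hXc hle
        (by rw [hXp, Nat.card_zpowers, hord])
    rw [this]
    exact hcgood

/-- **S1360** -/
theorem s1360 (hG : Cfsg.IsMinSimpleOddOrder G) {M K U : Subgroup G} (hM : IsCoatom M)
    (hKU : Cfsg.IsSigmaDecomposition M K U) :
    ∃ U₀ : Subgroup G, U₀ ≤ U ∧ Monoid.exponent ↥U₀ = Monoid.exponent ↥U ∧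
      ∀ u ∈ U₀, u ∈ Cfsg.sigmaHat M → u = 1 := by
  classical
  by_cases hK : K = ⊥
  · exact s1360_of_bot hG hM hKU hK
  have hUc := U_comm_of_ne_bot hG hM hKU hK
  have hex : ∀ p : ℕ, p ∈ Cfsg.tau2 M → ∃ c : G, c ∈ U ∧ IsPGroup p ↥(Subgroup.zpowers c) ∧
      (∀ x ∈ U, IsPGroup p ↥(Subgroup.zpowers x) → orderOf x ∣ orderOf c) ∧
      (∀ X : Subgroup G, X ≤ Subgroup.zpowers c → Nat.card ↥X = p →
        Cfsg.sigmaCore M ⊓ Subgroup.centralizer (X : Set G) = ⊥) := by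
    intro p hp
    haveI : Fact p.Prime := ⟨hp.1⟩
    obtain ⟨c, h1, h2, h3, h4⟩ := exists_c_of_tau2 hG hM hKU hUc hp
    exact ⟨c, h1, h2, h3, h4⟩
  choose! c hc using hex
  let U₀ : Subgroup G :=
    { carrier := {u | u ∈ U ∧ ∀ p ∈ Cfsg.tau2 M,
        u ^ (ordCompl[p] (Nat.card G)) ∈ Subgroup.zpowers (c p)}
      one_mem' := ⟨U.one_mem, fun p _ => by rw [one_pow]; exact Subgroup.one_mem _⟩
      mul_mem' := by
        intro a b ha hb
        refine ⟨U.mul_mem ha.1 hb.1, fun p hp => ?_⟩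
        have hcomm : Commute a b := hUc a ha.1 b hb.1
        rw [hcomm.mul_pow]
        exact Subgroup.mul_mem _ (ha.2 p hp) (hb.2 p hp)
      inv_mem' := by
        intro a ha
        refine ⟨U.inv_mem ha.1, fun p hp => ?_⟩
        rw [inv_pow]
        exact Subgroup.inv_mem _ (ha.2 p hp) }
  have hU₀mem : ∀ {u : G}, u ∈ U₀ ↔ u ∈ U ∧ ∀ p ∈ Cfsg.tau2 M,
      u ^ (ordCompl[p] (Nat.card G)) ∈ Subgroup.zpowers (c p) := Iff.rfl
  have hU₀U : U₀ ≤ U := fun u hu => hu.1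
  have hcU₀ : ∀ p ∈ Cfsg.tau2 M, Subgroup.zpowers (c p) ≤ U₀ := by
    intro p hp
    rw [Subgroup.zpowers_le]
    refine hU₀mem.mpr ⟨(hc p hp).1, fun p' hp' => ?_⟩
    by_cases hpp' : p = p'
    · subst hpp'
      exact Subgroup.pow_mem _ (Subgroup.mem_zpowers _) _
    · rw [pow_ordCompl_eq_one hp.1 hp'.1 hpp' (hc p hp).2.1]
      exact Subgroup.one_mem _
  refine ⟨U₀, hU₀U, ?_, ?_⟩
  · apply exponent_eq_of_forall hU₀U
    intro r hr e he hep
    haveI : Fact r.Prime := ⟨hr⟩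
    by_cases hrτ : r ∈ Cfsg.tau2 M
    · have hd := (hc r hrτ).2.2.1 e he hep
      exact ⟨(c r) ^ (orderOf (c r) / orderOf e),
        hcU₀ r hrτ (Subgroup.pow_mem _ (Subgroup.mem_zpowers _) _),
        orderOf_pow_orderOf_div (orderOf_pos (c r)).ne' hd⟩
    · refine ⟨e, hU₀mem.mpr ⟨he, fun p hp => ?_⟩, rfl⟩
      have hrp : r ≠ p := fun h => hrτ (h ▸ hp)
      rw [pow_ordCompl_eq_one hr hp.1 hrp hep]
      exact Subgroup.one_mem _
  · rintro u hu ⟨-, y, hy, hy1, huy⟩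
    by_contra hu1
    have hou : orderOf u ≠ 1 := fun h => hu1 (orderOf_eq_one_iff.mp h)
    obtain ⟨r, hr, hru⟩ := Nat.exists_prime_and_dvd hou
    haveI : Fact r.Prime := ⟨hr⟩
    obtain ⟨u', hu'def⟩ : ∃ u' : G, u' = u ^ (orderOf u / r) := ⟨_, rfl⟩
    have hu'o : orderOf u' = r := hu'def ▸ Cfsg.Agent.H1.BG14.orderOf_pow_div hr hru
    have hu'U₀ : u' ∈ U₀ := hu'def ▸ U₀.pow_mem hu _
    have hcomm : u' * y = y * u' := by
      rw [hu'def]
      exact ((Commute.pow_left (show Commute u y from huy) _)).eq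
    have hrτ : r ∈ Cfsg.tau2 M :=
      Cfsg.Agent.H2.BG12.mem_tau2_of_fixed_point hG hM hKU (hU₀U hu'U₀) hr hu'o hy hy1 hcomm
    have hu'p : IsPGroup r ↥(Subgroup.zpowers u') := by
      apply isPGroup_zpowers_of_orderOf (j := 1)
      rw [pow_one]; exact hu'o
    have hu'c : u' ∈ Subgroup.zpowers (c r) :=
      (Subgroup.zpowers_le.mpr (hu'U₀.2 r hrτ)) (mem_zpowers_pow_ordCompl hr hu'p)
    have hgood := (hc r hrτ).2.2.2 (Subgroup.zpowers u') (Subgroup.zpowers_le.mpr hu'c)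
      (by rw [Nat.card_zpowers, hu'o])
    have hmem : y ∈ Cfsg.sigmaCore M ⊓
        Subgroup.centralizer ((Subgroup.zpowers u' : Subgroup G) : Set G) := by
      refine Subgroup.mem_inf.mpr ⟨hy, ?_⟩
      rw [centralizer_zpowers_eq, Subgroup.mem_centralizer_singleton_iff]
      exact hcomm.symm
    rw [hgood, Subgroup.mem_bot] at hmem
    exact hy1 hmem

end Cfsg.Agent.H1.BG16
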