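import Mathlib
import Cfsg.Prelude.Def_Characters
import Cfsg.Agent.Lib.helper3.Irr16
import Cfsg.Agent.Lib.helper3.Irr17
import Cfsg.Agent.Lib.helper3.ProdIrr
import Cfsg.Agent.Lib.helper3.Lin

/-!
# Brauer–Leonard: the level of `N` — the direct product `C = P × V`
-/

set_option autoImplicit false
set_option linter.style.haveILetI false
set_option linter.unusedSectionVars false
set_option linter.unusedVariables false

namespace Cfsg.Agent.H1.BL

open Cfsg Cfsg.Agent.Lib.helper3.Irr Cfsg.Agent.Lib.helper3.IndFun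
open Cfsg.Agent.Lib.helper3.CharBasic
open scoped ComplexConjugate
open Classical

variable {N : Type*} [Group N]

/-- The hypotheses at the level of `N`. -/
structure Hyp (P V : Subgroup N) : Prop where
  comm : ∀ x ∈ P, ∀ v ∈ V, x * v = v * x
  disj : ∀ x ∈ P, x ∈ V → x = 1
  abel : ∀ x ∈ P, ∀ y ∈ P, x * y = y * x
  semireg : ∀ n : N, n ∉ P ⊔ V → ∀ x ∈ P, n * x * n⁻¹ = x → x = 1

variable {P V : Subgroup N}

/-- The multiplication map `P × V → N`. -/
def mulHom (h : Hyp P V) : ↥P × ↥V →* N where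
  toFun z := (z.1 : N) * (z.2 : N)
  map_one' := by simp
  map_mul' a b := by
    have hc := h.comm _ b.1.2 _ a.2.2
    show ((a.1 * b.1 : ↥P) : N) * ((a.2 * b.2 : ↥V) : N) = a.1 * a.2 * (b.1 * b.2)
    rw [Subgroup.coe_mul, Subgroup.coe_mul]
    calc (a.1 : N) * b.1 * (a.2 * b.2) = a.1 * (b.1 * a.2) * b.2 := by group
      _ = a.1 * (a.2 * b.1) * b.2 := by rw [hc]
      _ = _ := by group

theorem mulHom_apply (h : Hyp P V) (z : ↥P × ↥V) : mulHom h z = (z.1 : N) * (z.2 : N) := rfl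

theorem mulHom_injective (h : Hyp P V) : Function.Injective (mulHom h) := by
  intro a b hab
  rw [mulHom_apply, mulHom_apply] at hab
  have h1 : ((b.1 : N))⁻¹ * a.1 = b.2 * (a.2 : N)⁻¹ := by
    have : (a.1 : N) = b.1 * b.2 * (a.2 : N)⁻¹ := by rw [← hab]; group
    rw [this]; group
  have h2 : ((b.1 : N))⁻¹ * a.1 ∈ P := P.mul_mem (P.inv_mem b.1.2) a.1.2
  have h3 : ((b.1 : N))⁻¹ * a.1 ∈ V := by rw [h1]; exact V.mul_mem b.2.2 (V.inv_mem a.2.2)
  have h4 := h.disj _ h2 h3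
  have h5 : (a.1 : N) = b.1 := by
    have := inv_mul_eq_one.mp h4
    exact this.symm
  have h6 : (a.2 : N) = b.2 := by
    rw [h5] at hab
    exact mul_left_cancel hab
  exact Prod.ext (Subtype.ext h5) (Subtype.ext h6)

theorem mulHom_range (h : Hyp P V) : (mulHom h).range = P ⊔ V := by
  apply le_antisymm
  · rintro _ ⟨z, rfl⟩
    rw [mulHom_apply]
    exact (P ⊔ V).mul_mem (Subgroup.mem_sup_left z.1.2) (Subgroup.mem_sup_right z.2.2)
  · apply sup_le
    · intro x hx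
      exact ⟨(⟨x, hx⟩, 1), by simp [mulHom_apply]⟩
    · intro v hv
      exact ⟨(1, ⟨v, hv⟩), by simp [mulHom_apply]⟩

/-- The isomorphism `P × V ≃* C`. -/
noncomputable def iota (h : Hyp P V) : ↥P × ↥V ≃* ↥(P ⊔ V) :=
  (MonoidHom.ofInjective (mulHom_injective h)).trans (MulEquiv.subgroupCongr (mulHom_range h))

theorem iota_coe (h : Hyp P V) (z : ↥P × ↥V) :
    ((iota h z : ↥(P ⊔ V)) : N) = (z.1 : N) * (z.2 : N) := rfl

theorem iota_symm_mul (h : Hyp P V) (c : ↥(P ⊔ V)) :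
    ((((iota h).symm c).1 : ↥P) : N) * ((((iota h).symm c).2 : ↥V) : N) = (c : N) := by
  have := iota_coe h ((iota h).symm c)
  rw [MulEquiv.apply_symm_apply] at this
  exact this.symm

theorem iota_symm_of_mem_P (h : Hyp P V) (c : ↥(P ⊔ V)) (hc : (c : N) ∈ P) :
    (iota h).symm c = (⟨c, hc⟩, 1) := by
  rw [MulEquiv.symm_apply_eq]
  apply Subtype.ext
  rw [iota_coe]
  simp

theorem iota_symm_of_mem_V (h : Hyp P V) (c : ↥(P ⊔ V)) (hc : (c : N) ∈ V) :
    (iota h).symm c = (1, ⟨c, hc⟩) := by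
  rw [MulEquiv.symm_apply_eq]
  apply Subtype.ext
  rw [iota_coe]
  simp

/-- The product function `λ × θ` on `C`. -/
noncomputable def pr (h : Hyp P V) (lam : ↥P → ℂ) (th : ↥V → ℂ) : ↥(P ⊔ V) → ℂ :=
  fun c => lam ((iota h).symm c).1 * th ((iota h).symm c).2

theorem pr_iota (h : Hyp P V) (lam : ↥P → ℂ) (th : ↥V → ℂ) (z : ↥P × ↥V) :
    pr h lam th (iota h z) = lam z.1 * th z.2 := by
  unfold pr
  rw [MulEquiv.symm_apply_apply]

theorem pr_of_mem_P (h : Hyp P V) (lam : ↥P → ℂ) (th : ↥V → ℂ) (c : ↥(P ⊔ V))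
    (hc : (c : N) ∈ P) : pr h lam th c = lam ⟨c, hc⟩ * th 1 := by
  unfold pr
  rw [iota_symm_of_mem_P h c hc]

theorem pr_of_mem_V (h : Hyp P V) (lam : ↥P → ℂ) (th : ↥V → ℂ) (c : ↥(P ⊔ V))
    (hc : (c : N) ∈ V) : pr h lam th c = lam 1 * th ⟨c, hc⟩ := by
  unfold pr
  rw [iota_symm_of_mem_V h c hc]

theorem pr_eq_comp (h : Hyp P V) (lam : ↥P → ℂ) (th : ↥V → ℂ) :
    pr h lam th = fun c => (fun z : ↥P × ↥V => lam z.1 * th z.2) ((iota h).symm c) := rfl

section fin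

variable [Finite N]

theorem isIrrCharacter_pr (h : Hyp P V) {lam : ↥P → ℂ} {th : ↥V → ℂ}
    (hl : IsIrrCharacter ↥P lam) (ht : IsIrrCharacter ↥V th) :
    IsIrrCharacter ↥(P ⊔ V) (pr h lam th) := by
  letI : Fintype ↥P := Fintype.ofFinite _
  letI : Fintype ↥V := Fintype.ofFinite _
  rw [pr_eq_comp]
  exact isIrrCharacter_comp_mulEquiv (iota h).symm (isIrrCharacter_prod hl ht)

theorem exists_pr_of_irr (h : Hyp P V) {φ : ↥(P ⊔ V) → ℂ} (hφ : IsIrrCharacter ↥(P ⊔ V) φ) :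
    ∃ (lam : ↥P → ℂ) (th : ↥V → ℂ), IsIrrCharacter ↥P lam ∧ IsIrrCharacter ↥V th ∧
      φ = pr h lam th := by
  letI : Fintype ↥P := Fintype.ofFinite _
  letI : Fintype ↥V := Fintype.ofFinite _
  have h1 : IsIrrCharacter (↥P × ↥V) (fun z => φ (iota h z)) :=
    isIrrCharacter_comp_mulEquiv (iota h) hφ
  obtain ⟨lam, th, hl, ht, heq⟩ := exists_of_isIrrCharacter_prod h1
  refine ⟨lam, th, hl, ht, ?_⟩
  funext c
  have := congrFun heq ((iota h).symm c)
  simp only [MulEquiv.apply_symm_apply] at this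
  rw [this]
  rfl

end fin

theorem classInner_pr [Fintype N] (h : Hyp P V) (lam lam' : ↥P → ℂ) (th th' : ↥V → ℂ) :
    classInner (pr h lam th) (pr h lam' th') = classInner lam lam' * classInner th th' := by
  rw [pr_eq_comp, pr_eq_comp]
  rw [classInner_comp_mulEquiv (iota h).symm (fun z : ↥P × ↥V => lam z.1 * th z.2)
    (fun z : ↥P × ↥V => lam' z.1 * th' z.2)]
  exact classInner_prod lam lam' th th'

/-- Sums over `C` are double sums. -/
theorem sum_C_eq [Fintype N] (h : Hyp P V) (F : ↥(P ⊔ V) → ℂ) :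
    ∑ c : ↥(P ⊔ V), F c = ∑ x : ↥P, ∑ v : ↥V, F (iota h (x, v)) := by
  rw [← Fintype.sum_prod_type']
  exact (Fintype.sum_equiv (iota h).toEquiv _ _ (fun _ => rfl)).symm

theorem card_C [Finite N] (h : Hyp P V) : Nat.card ↥(P ⊔ V) = Nat.card ↥P * Nat.card ↥V := by
  rw [← Nat.card_prod]
  exact (Nat.card_congr (iota h).toEquiv).symm

section cj

variable [hPn : P.Normal] [hVn : V.Normal]

theorem conjFun_pr (h : Hyp P V) (lam : ↥P → ℂ) (th : ↥V → ℂ) (n : N) :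
    conjFun (P ⊔ V) (pr h lam th) n = pr h (conjFun P lam n) (conjFun V th n) := by
  funext c
  obtain ⟨z, rfl⟩ := (iota h).surjective c
  rw [pr_iota]
  unfold conjFun
  have key : (⟨n * ((iota h z : ↥(P ⊔ V)) : N) * n⁻¹,
      (inferInstance : (P ⊔ V).Normal).conj_mem _ (iota h z).2 n⟩ : ↥(P ⊔ V))
      = iota h (⟨n * z.1 * n⁻¹, hPn.conj_mem _ z.1.2 n⟩, ⟨n * z.2 * n⁻¹, hVn.conj_mem _ z.2.2 n⟩) := by
    apply Subtype.ext
    show n * ((iota h z : ↥(P ⊔ V)) : N) * n⁻¹ = _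
    rw [iota_coe, iota_coe]
    simp only
    group
  rw [key, pr_iota]

end cj

end Cfsg.Agent.H1.BL
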