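import Mathlib
import Cfsg.Agent.H1.BLA

/-!
# Brauer–Leonard: the level of `N` — the characters `ξ = (λ × θ)^N`
-/

set_option autoImplicit false
set_option linter.style.haveILetI false
set_option linter.unusedSectionVars false
set_option linter.unusedVariables false

namespace Cfsg.Agent.H1.BL

open Cfsg Cfsg.Agent.Lib.helper3.Irr Cfsg.Agent.Lib.helper3.IndFun
open Cfsg.Agent.Lib.helper3.CharBasic Cfsg.Agent.Lib.helper3.Lin
open scoped ComplexConjugate
open Classical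

variable {N : Type*} [Group N] [Fintype N] {P V : Subgroup N} [hPn : P.Normal] [hVn : V.Normal]

theorem lin_one (h : Hyp P V) {lam : ↥P → ℂ} (hl : IsIrrCharacter ↥P lam) : lam 1 = 1 :=
  apply_one_eq_one_of_comm (fun a b => Subtype.ext (h.abel a a.2 b b.2)) hl

theorem lin_mul (h : Hyp P V) {lam : ↥P → ℂ} (hl : IsIrrCharacter ↥P lam) (a b : ↥P) :
    lam (a * b) = lam a * lam b :=
  map_mul_of_apply_one_eq_one (isCharacter_of_isIrrCharacter hl) (lin_one h hl) a b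

theorem conjFun_apply_one {H : Subgroup N} [hH : H.Normal] (θ : ↥H → ℂ) (n : N) :
    conjFun H θ n 1 = θ 1 := by
  unfold conjFun
  congr 1
  apply Subtype.ext
  simp

/-- The action of `N` on the nonprincipal irreducible characters of `P` is semiregular. -/
theorem mem_C_of_conjFun_eq (h : Hyp P V) {lam : ↥P → ℂ} (hl : IsIrrCharacter ↥P lam)
    (hne : lam ≠ fun _ => 1) {n : N} (hn : conjFun P lam n = lam) : n ∈ P ⊔ V := by
  by_contra hnC
  apply hne
  let f : ↥P → ↥P := fun x => x⁻¹ * ⟨n * x * n⁻¹, hPn.conj_mem _ x.2 n⟩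
  have hinj : Function.Injective f := by
    intro x y hxy
    have h1 : ((x : N))⁻¹ * (n * x * n⁻¹) = ((y : N))⁻¹ * (n * y * n⁻¹) :=
      congrArg Subtype.val hxy
    have hw : n * (y : N) * n⁻¹ = y * ((x : N)⁻¹ * (n * x * n⁻¹)) := by rw [h1]; group
    have hfix : n * ((y : N) * (x : N)⁻¹) * n⁻¹ = (y : N) * (x : N)⁻¹ := by
      calc n * ((y : N) * (x : N)⁻¹) * n⁻¹ = (n * y * n⁻¹) * (n * x * n⁻¹)⁻¹ := by group
        _ = y * ((x : N)⁻¹ * (n * x * n⁻¹)) * (n * x * n⁻¹)⁻¹ := by rw [hw]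
        _ = _ := by group
    have h2 := h.semireg n hnC _ (P.mul_mem y.2 (P.inv_mem x.2)) hfix
    apply Subtype.ext
    have := mul_inv_eq_one.mp h2
    exact this.symm
  have hsurj : Function.Surjective f := Finite.surjective_of_injective hinj
  funext y
  obtain ⟨x, rfl⟩ := hsurj y
  have h2 : lam ⟨n * x * n⁻¹, hPn.conj_mem _ x.2 n⟩ = lam x := congrFun hn x
  show lam (x⁻¹ * ⟨n * x * n⁻¹, hPn.conj_mem _ x.2 n⟩) = 1
  rw [lin_mul h hl, h2, ← lin_mul h hl, inv_mul_cancel, lin_one h hl]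

/-- `λ × θ` determines `λ` and `θ`. -/
theorem pr_inj (h : Hyp P V) {lam lam' : ↥P → ℂ} {th th' : ↥V → ℂ} (hl : lam 1 = 1)
    (hl' : lam' 1 = 1) (ht : th 1 ≠ 0) (heq : pr h lam th = pr h lam' th') :
    lam = lam' ∧ th = th' := by
  have hV : ∀ v : ↥V, th v = th' v := by
    intro v
    have := congrFun heq (iota h (1, v))
    rw [pr_iota, pr_iota] at this
    simpa [hl, hl'] using this
  have hth : th = th' := funext hV
  refine ⟨?_, hth⟩
  funext x
  have := congrFun heq (iota h (x, 1))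
  rw [pr_iota, pr_iota, ← hth] at this
  exact mul_right_cancel₀ ht this

theorem irr_one_ne_zero {H : Type*} [Group H] [Finite H] {θ : H → ℂ} (hθ : IsIrrCharacter H θ) :
    θ 1 ≠ 0 := by
  letI : Fintype H := Fintype.ofFinite H
  exact apply_one_ne_zero hθ

/-- The characters `ξ_{λ,θ}` of `N`. -/
noncomputable def xi (h : Hyp P V) (lam : ↥P → ℂ) (th : ↥V → ℂ) : N → ℂ :=
  indFun (P ⊔ V) (pr h lam th)

theorem stab_iff (h : Hyp P V) {lam : ↥P → ℂ} {th : ↥V → ℂ} (hl : IsIrrCharacter ↥P lam)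
    (ht : IsIrrCharacter ↥V th) (hne : lam ≠ fun _ => 1) (g : N) :
    (∀ c : ↥(P ⊔ V), pr h lam th ⟨g * c * g⁻¹,
      (inferInstance : (P ⊔ V).Normal).conj_mem c c.2 g⟩ = pr h lam th c) ↔ g ∈ P ⊔ V := by
  constructor
  · intro hg
    have h1 : conjFun (P ⊔ V) (pr h lam th) g = pr h lam th := funext hg
    rw [conjFun_pr] at h1
    have h2 := pr_inj h (by rw [conjFun_apply_one]; exact lin_one h hl) (lin_one h hl)
      (by rw [conjFun_apply_one]; exact irr_one_ne_zero ht) h1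
    exact mem_C_of_conjFun_eq h hl hne h2.1
  · intro hg c
    have hcf := isClassFunction_of_isCharacter
      (isCharacter_of_isIrrCharacter (isIrrCharacter_pr h hl ht))
    have := hcf c ⟨g, hg⟩
    rw [← this]
    congr 1

theorem isCharacter_xi (h : Hyp P V) {lam : ↥P → ℂ} {th : ↥V → ℂ} (hl : IsIrrCharacter ↥P lam)
    (ht : IsIrrCharacter ↥V th) : IsCharacter N (xi h lam th) :=
  isCharacter_indFun _ _ (isCharacter_of_isIrrCharacter (isIrrCharacter_pr h hl ht))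

theorem isIrrCharacter_xi (h : Hyp P V) {lam : ↥P → ℂ} {th : ↥V → ℂ}
    (hl : IsIrrCharacter ↥P lam) (ht : IsIrrCharacter ↥V th) (hne : lam ≠ fun _ => 1) :
    IsIrrCharacter N (xi h lam th) := by
  apply isIrrCharacter_of_classInner_self_eq_one (isCharacter_xi h hl ht)
  have h1 := card_mul_classInner_indFun_normal (P ⊔ V) (pr h lam th) (isIrrCharacter_pr h hl ht)
  have h2 : Nat.card {g : N // ∀ c : ↥(P ⊔ V), pr h lam th ⟨g * c * g⁻¹,
      (inferInstance : (P ⊔ V).Normal).conj_mem c c.2 g⟩ = pr h lam th c}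
      = Nat.card ↥(P ⊔ V) :=
    Nat.card_congr (Equiv.subtypeEquivRight (stab_iff h hl ht hne))
  rw [h2] at h1
  have hC : (Nat.card ↥(P ⊔ V) : ℂ) ≠ 0 := card_ne_zero_complex _
  exact mul_left_cancel₀ hC (h1.trans (mul_one _).symm)

theorem xi_one (h : Hyp P V) {lam : ↥P → ℂ} (th : ↥V → ℂ) (hl : lam 1 = 1) :
    xi h lam th 1 = ((P ⊔ V).index : ℂ) * th 1 := by
  unfold xi
  rw [indFun_apply_one]
  have : pr h lam th 1 = th 1 := by
    have := pr_iota h lam th 1
    rw [map_one] at this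
    rw [this]
    simp [hl]
  rw [this]

theorem xi_not_mem (h : Hyp P V) (lam : ↥P → ℂ) (th : ↥V → ℂ) {n : N} (hn : n ∉ P ⊔ V) :
    xi h lam th n = 0 :=
  indFun_normal_apply_of_not_mem _ _ hn

theorem xi_apply_C (h : Hyp P V) (lam : ↥P → ℂ) (th : ↥V → ℂ) (c : ↥(P ⊔ V)) :
    xi h lam th c = (Nat.card ↥(P ⊔ V) : ℂ)⁻¹ *
      ∑ n : N, pr h (conjFun P lam n) (conjFun V th n) c := by
  unfold xi
  rw [indFun_normal_apply]
  congr 1
  apply Finset.sum_congr rfl
  intro n _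
  rw [conjFun_pr]

theorem xi_conj (h : Hyp P V) (lam : ↥P → ℂ) (th : ↥V → ℂ) (n : N) :
    xi h (conjFun P lam n) (conjFun V th n) = xi h lam th := by
  unfold xi
  rw [← conjFun_pr, indFun_conjFun]

/-- `ξ_{λ,θ}` and `ξ_{λ',θ}` agree off `A = C ∖ V`. -/
theorem xi_eq_off_A (h : Hyp P V) {lam lam' : ↥P → ℂ} (th : ↥V → ℂ) (hl : lam 1 = 1)
    (hl' : lam' 1 = 1) {n : N} (hn : ¬ (n ∈ P ⊔ V ∧ n ∉ V)) :
    xi h lam th n = xi h lam' th n := by
  by_cases hC : n ∈ P ⊔ V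
  · have hV : n ∈ V := by
      by_contra hV
      exact hn ⟨hC, hV⟩
    have e1 := xi_apply_C h lam th ⟨n, hC⟩
    have e2 := xi_apply_C h lam' th ⟨n, hC⟩
    simp only at e1 e2
    rw [e1, e2]
    congr 1
    apply Finset.sum_congr rfl
    intro x _
    rw [pr_of_mem_V h _ _ ⟨n, hC⟩ hV, pr_of_mem_V h _ _ ⟨n, hC⟩ hV, conjFun_apply_one,
      conjFun_apply_one, hl, hl']
  · rw [xi_not_mem h _ _ hC, xi_not_mem h _ _ hC]

/-- Frobenius reciprocity for `ξ`. -/
theorem classInner_xi (h : Hyp P V) (lam : ↥P → ℂ) (th : ↥V → ℂ) (f : N → ℂ)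
    (hf : IsClassFunction N f) :
    classInner f (xi h lam th) = classInner (fun c : ↥(P ⊔ V) => f c) (pr h lam th) := by
  have h1 := frobenius_reciprocity (P ⊔ V) (pr h lam th) f hf
  have h2 := classInner_conj_symm (xi h lam th) f
  have h3 := classInner_conj_symm (pr h lam th) (fun c : ↥(P ⊔ V) => f c)
  unfold xi at h2 ⊢
  rw [← h2, h1, h3]

/-- The multiplicity of `λ × θ` in the restriction of `f` to `C`. -/
noncomputable def mm (h : Hyp P V) (f : N → ℂ) (lam : ↥P → ℂ) (th : ↥V → ℂ) : ℂ :=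
  classInner (fun c : ↥(P ⊔ V) => f c) (pr h lam th)

/-- The bijection between pairs and irreducible characters of `C`. -/
noncomputable def pairEquiv (h : Hyp P V) :
    IrrCharacter ↥P × IrrCharacter ↥V ≃ IrrCharacter ↥(P ⊔ V) :=
  Equiv.ofBijective (fun z => ⟨pr h z.1.1 z.2.1, isIrrCharacter_pr h z.1.2 z.2.2⟩) (by
    constructor
    · intro a b hab
      have h1 : pr h a.1.1 a.2.1 = pr h b.1.1 b.2.1 := congrArg Subtype.val hab
      have h2 := pr_inj h (lin_one h a.1.2) (lin_one h b.1.2) (irr_one_ne_zero a.2.2) h1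
      exact Prod.ext (Subtype.ext h2.1) (Subtype.ext h2.2)
    · intro φ
      obtain ⟨lam, th, hl, ht, heq⟩ := exists_pr_of_irr h φ.2
      exact ⟨(⟨lam, hl⟩, ⟨th, ht⟩), Subtype.ext heq.symm⟩)

theorem pairEquiv_coe (h : Hyp P V) (z : IrrCharacter ↥P × IrrCharacter ↥V) :
    ((pairEquiv h z : IrrCharacter ↥(P ⊔ V)) : ↥(P ⊔ V) → ℂ) = pr h z.1.1 z.2.1 := rfl

/-- The decomposition of a character of `C` along the pairs. -/
theorem decomp_C (h : Hyp P V) {g : ↥(P ⊔ V) → ℂ} (hg : IsCharacter ↥(P ⊔ V) g) :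
    g = ∑ z : IrrCharacter ↥P × IrrCharacter ↥V,
      classInner g (pr h z.1.1 z.2.1) • pr h z.1.1 z.2.1 := by
  have h1 := isCharacter_eq_sum_classInner hg
  rw [← Equiv.sum_comp (pairEquiv h)] at h1
  exact h1

end Cfsg.Agent.H1.BL
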