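import Mathlib
import Cfsg.Agent.H1.BLB

/-!
# Brauer–Leonard: the level of `N` — restrictions and the counting identity
-/

set_option autoImplicit false
set_option linter.style.haveILetI false
set_option linter.unusedSectionVars false
set_option linter.unusedVariables false

namespace Cfsg.Agent.H1.BL

open Cfsg Cfsg.Agent.Lib.helper3.Irr Cfsg.Agent.Lib.helper3.IndFun
open Cfsg.Agent.Lib.helper3.CharBasic Cfsg.Agent.Lib.helper3.Lin
open scoped ComplexConjugate
open Classical

variable {N : Type*} [Group N] [Fintype N] {P V : Subgroup N} [hPn : P.Normal] [hVn : V.Normal]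

/-- A sum over a subgroup as a sum over the group. -/
theorem sum_subgroup (H : Subgroup N) (F : N → ℂ) :
    ∑ x : ↥H, F x = ∑ n : N, if n ∈ H then F n else 0 := by
  rw [← Finset.sum_filter]
  symm
  apply Finset.sum_subtype
  intro x
  simp

/-- The elementary form of the counting identity. -/
theorem CI0 (h : Hyp P V) (f : N → ℂ) :
    (Nat.card ↥V : ℂ)⁻¹ * ∑ n : N, (if (n ∈ P ⊔ V ∧ n ∉ V) then f n * conj (f n) else 0)
      = (Nat.card ↥P : ℂ) * classInner (fun c : ↥(P ⊔ V) => f c) (fun c : ↥(P ⊔ V) => f c)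
        - classInner (fun v : ↥V => f v) (fun v : ↥V => f v) := by
  rw [classInner_apply, classInner_apply]
  rw [sum_subgroup (P ⊔ V) (fun n => f n * conj (f n)), sum_subgroup V (fun n => f n * conj (f n))]
  have hVC : V ≤ P ⊔ V := le_sup_right
  have hsplit : ∑ n : N, (if (n ∈ P ⊔ V ∧ n ∉ V) then f n * conj (f n) else 0)
      = ∑ n : N, (if n ∈ P ⊔ V then f n * conj (f n) else 0)
        - ∑ n : N, (if n ∈ V then f n * conj (f n) else 0) := by
    rw [← Finset.sum_sub_distrib]
    apply Finset.sum_congr rfl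
    intro n _
    by_cases hV : n ∈ V
    · have hC : n ∈ P ⊔ V := hVC hV
      simp [hV, hC]
    · by_cases hC : n ∈ P ⊔ V
      · simp [hV, hC]
      · simp [hV, hC]
  rw [hsplit, card_C h]
  have hP : (Nat.card ↥P : ℂ) ≠ 0 := card_ne_zero_complex _
  have hV : (Nat.card ↥V : ℂ) ≠ 0 := card_ne_zero_complex _
  push_cast
  field_simp

theorem mm_nat (h : Hyp P V) {f : N → ℂ} (hf : IsCharacter N f) (lam : IrrCharacter ↥P)
    (th : IrrCharacter ↥V) : ∃ k : ℕ, mm h f lam.1 th.1 = k := by
  unfold mm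
  exact exists_nat_classInner_of_isCharacter (isCharacter_restrict hf (P ⊔ V))
    (pairEquiv h (lam, th))

theorem mm_conj (h : Hyp P V) {f : N → ℂ} (hf : IsCharacter N f) (lam : IrrCharacter ↥P)
    (th : IrrCharacter ↥V) : conj (mm h f lam.1 th.1) = mm h f lam.1 th.1 := by
  obtain ⟨k, hk⟩ := mm_nat h hf lam th
  rw [hk, Complex.conj_natCast]

/-- Parseval on `C` along the pairs. -/
theorem classInner_resC_self (h : Hyp P V) {f : N → ℂ} (hf : IsCharacter N f) :
    classInner (fun c : ↥(P ⊔ V) => f c) (fun c : ↥(P ⊔ V) => f c)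
      = ∑ z : IrrCharacter ↥P × IrrCharacter ↥V, mm h f z.1.1 z.2.1 ^ 2 := by
  have hg := isCharacter_restrict hf (P ⊔ V)
  obtain ⟨m, hm⟩ := exists_decomposition_of_isCharacter hg
  have key : ∀ z : IrrCharacter ↥P × IrrCharacter ↥V, mm h f z.1.1 z.2.1 = m (pairEquiv h z) := by
    intro z
    unfold mm
    rw [hm]
    exact classInner_decomposition_left _ (pairEquiv h z)
  rw [hm, classInner_self_decomposition]
  simp_rw [key]
  rw [Equiv.sum_comp (pairEquiv h) (fun φ => (m φ : ℂ) ^ 2)]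
  push_cast
  rfl

/-- The restriction to `V` along the pairs. -/
theorem resV_eq (h : Hyp P V) {f : N → ℂ} (hf : IsCharacter N f) :
    (fun v : ↥V => f v) = ∑ th : IrrCharacter ↥V,
      (∑ lam : IrrCharacter ↥P, mm h f lam.1 th.1) • (th : ↥V → ℂ) := by
  have hg := isCharacter_restrict hf (P ⊔ V)
  have hd := decomp_C h hg
  funext v
  have hvC : (v : N) ∈ P ⊔ V := (le_sup_right : V ≤ P ⊔ V) v.2
  have h1 := congrFun hd ⟨v, hvC⟩
  simp only at h1
  rw [h1]
  simp only [Finset.sum_apply, Pi.smul_apply, smul_eq_mul]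
  rw [Fintype.sum_prod_type, Finset.sum_comm]
  apply Finset.sum_congr rfl
  intro th _
  rw [Finset.sum_mul]
  apply Finset.sum_congr rfl
  intro lam _
  rw [pr_of_mem_V h _ _ ⟨v, hvC⟩ v.2, lin_one h lam.2, one_mul]
  rfl

theorem classInner_resV (h : Hyp P V) {f : N → ℂ} (hf : IsCharacter N f) (th : IrrCharacter ↥V) :
    classInner (fun v : ↥V => f v) (th : ↥V → ℂ) = ∑ lam : IrrCharacter ↥P, mm h f lam.1 th.1 := by
  have := resV_eq h hf
  rw [this]
  exact classInner_decomposition_left _ th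

theorem classInner_resV_self (h : Hyp P V) {f : N → ℂ} (hf : IsCharacter N f) :
    classInner (fun v : ↥V => f v) (fun v : ↥V => f v)
      = ∑ th : IrrCharacter ↥V, (∑ lam : IrrCharacter ↥P, mm h f lam.1 th.1) ^ 2 := by
  have := resV_eq h hf
  rw [this, classInner_decomposition]
  apply Finset.sum_congr rfl
  intro th _
  rw [map_sum]
  simp_rw [mm_conj h hf]
  ring

/-- The counting identity along the pairs. -/
theorem CI_N (h : Hyp P V) {f : N → ℂ} (hf : IsCharacter N f) :
    (Nat.card ↥V : ℂ)⁻¹ * ∑ n : N, (if (n ∈ P ⊔ V ∧ n ∉ V) then f n * conj (f n) else 0)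
      = (Nat.card ↥P : ℂ) * ∑ z : IrrCharacter ↥P × IrrCharacter ↥V, mm h f z.1.1 z.2.1 ^ 2
        - ∑ th : IrrCharacter ↥V, (∑ lam : IrrCharacter ↥P, mm h f lam.1 th.1) ^ 2 := by
  rw [CI0 h f, classInner_resC_self h hf, classInner_resV_self h hf]

/-- The restriction to `P` along the pairs. -/
theorem resP_eq (h : Hyp P V) {f : N → ℂ} (hf : IsCharacter N f) :
    (fun x : ↥P => f x) = ∑ lam : IrrCharacter ↥P,
      (∑ th : IrrCharacter ↥V, mm h f lam.1 th.1 * (th : ↥V → ℂ) 1) • (lam : ↥P → ℂ) := by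
  have hg := isCharacter_restrict hf (P ⊔ V)
  have hd := decomp_C h hg
  funext x
  have hxC : (x : N) ∈ P ⊔ V := (le_sup_left : P ≤ P ⊔ V) x.2
  have h1 := congrFun hd ⟨x, hxC⟩
  simp only at h1
  rw [h1]
  simp only [Finset.sum_apply, Pi.smul_apply, smul_eq_mul]
  rw [Fintype.sum_prod_type]
  apply Finset.sum_congr rfl
  intro lam _
  rw [Finset.sum_mul]
  apply Finset.sum_congr rfl
  intro th _
  rw [pr_of_mem_P h _ _ ⟨x, hxC⟩ x.2]
  unfold mm
  ring

theorem classInner_resP (h : Hyp P V) {f : N → ℂ} (hf : IsCharacter N f) (lam : IrrCharacter ↥P) :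
    classInner (fun x : ↥P => f x) (lam : ↥P → ℂ)
      = ∑ th : IrrCharacter ↥V, mm h f lam.1 th.1 * (th : ↥V → ℂ) 1 := by
  have := resP_eq h hf
  rw [this]
  exact classInner_decomposition_left _ lam

/-- The principal character of `P`. -/
noncomputable def oneP (P : Subgroup N) : IrrCharacter ↥P := ⟨fun _ => 1, isIrrCharacter_one⟩

theorem card_irrP (h : Hyp P V) : Fintype.card (IrrCharacter ↥P) = Nat.card ↥P := by
  rw [← Nat.card_eq_fintype_card, card_irr_eq_card_conjClasses]
  symm
  apply Nat.card_congr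
  refine Equiv.ofBijective ConjClasses.mk ⟨?_, ConjClasses.mk_surjective⟩
  intro a b hab
  rw [ConjClasses.mk_eq_mk_iff_isConj, isConj_iff] at hab
  obtain ⟨c, hc⟩ := hab
  rw [← hc]
  apply Subtype.ext
  have := h.abel c c.2 a a.2
  show (a : N) = c * a * (c : N)⁻¹
  rw [this]; group

/-- The degree as the sum of the multiplicities on `P`. -/
theorem apply_one_eq_sum (h : Hyp P V) {f : N → ℂ} (hf : IsCharacter N f) :
    f 1 = ∑ lam : IrrCharacter ↥P, classInner (fun x : ↥P => f x) (lam : ↥P → ℂ) := by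
  have hP := isCharacter_restrict hf P
  have h1 := congrFun (isCharacter_eq_sum_classInner hP) 1
  simp only [Finset.sum_apply, Pi.smul_apply, smul_eq_mul, OneMemClass.coe_one] at h1
  rw [h1]
  apply Finset.sum_congr rfl
  intro lam _
  rw [lin_one h lam.2, mul_one]

/-- A character of `N` of degree less than `q - 1` misses a nonprincipal character of `P`. -/
theorem exists_lam_zero (h : Hyp P V) {f : N → ℂ} (hf : IsCharacter N f) {k : ℕ}
    (hk : f 1 = k) (hkq : k + 1 < Nat.card ↥P) :
    ∃ ν : IrrCharacter ↥P, (ν : ↥P → ℂ) ≠ (fun _ => 1) ∧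
      classInner (fun x : ↥P => f x) (ν : ↥P → ℂ) = 0 := by
  by_contra hcon
  push Not at hcon
  have hP := isCharacter_restrict hf P
  have hnat : ∀ ν : IrrCharacter ↥P, ∃ c : ℕ,
      classInner (fun x : ↥P => f x) (ν : ↥P → ℂ) = c := fun ν =>
    exists_nat_classInner_of_isCharacter hP ν
  choose c hc using hnat
  have hsum : ∑ ν : IrrCharacter ↥P, c ν = k := by
    have h1 := apply_one_eq_sum h hf
    rw [hk] at h1
    simp_rw [hc] at h1
    exact_mod_cast h1.symm
  have hge : ∀ ν : IrrCharacter ↥P, ν ≠ oneP P → 1 ≤ c ν := by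
    intro ν hν
    have hne : (ν : ↥P → ℂ) ≠ fun _ => 1 := fun hh => hν (Subtype.ext hh)
    have := hcon ν hne
    rw [hc] at this
    have : c ν ≠ 0 := by exact_mod_cast this
    omega
  have h2 : (Finset.univ.erase (oneP P)).card ≤ ∑ ν ∈ Finset.univ.erase (oneP P), c ν := by
    rw [Finset.card_eq_sum_ones]
    apply Finset.sum_le_sum
    intro ν hν
    exact hge ν (Finset.ne_of_mem_erase hν)
  have h3 : ∑ ν ∈ Finset.univ.erase (oneP P), c ν ≤ ∑ ν : IrrCharacter ↥P, c ν :=
    Finset.sum_le_sum_of_subset (Finset.erase_subset _ _)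
  rw [Finset.card_erase_of_mem (Finset.mem_univ _), Finset.card_univ, card_irrP h] at h2
  omega

/-- A character of `N` which is not constant on `P` has a constituent `λ × θ` with `λ ≠ 1`. -/
theorem exists_mm_ne_zero (h : Hyp P V) {f : N → ℂ} (hf : IsCharacter N f)
    (hx : ∃ x : ↥P, f x ≠ f 1) :
    ∃ (lam : IrrCharacter ↥P) (th : IrrCharacter ↥V), (lam : ↥P → ℂ) ≠ (fun _ => 1) ∧
      mm h f lam.1 th.1 ≠ 0 := by
  by_contra hcon
  push Not at hcon
  obtain ⟨x, hx⟩ := hx
  apply hx
  have hP := isCharacter_restrict hf P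
  have hzero : ∀ lam : IrrCharacter ↥P, lam ≠ oneP P →
      classInner (fun x : ↥P => f x) (lam : ↥P → ℂ) = 0 := by
    intro lam hl
    have hne : (lam : ↥P → ℂ) ≠ fun _ => 1 := fun hh => hl (Subtype.ext hh)
    rw [classInner_resP h hf]
    apply Finset.sum_eq_zero
    intro th _
    rw [hcon lam th hne, zero_mul]
  have hd := isCharacter_eq_sum_classInner hP
  have hval : ∀ y : ↥P, f y = classInner (fun x : ↥P => f x) ((oneP P : IrrCharacter ↥P) : ↥P → ℂ) := by
    intro y
    have h1 := congrFun hd y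
    simp only [Finset.sum_apply, Pi.smul_apply, smul_eq_mul] at h1
    rw [Finset.sum_eq_single (oneP P)] at h1
    · rw [h1]
      show _ * (1 : ℂ) = _
      rw [mul_one]
    · intro b _ hb
      rw [hzero b hb, zero_mul]
    · intro hh
      exact absurd (Finset.mem_univ _) hh
  rw [hval x]
  have := hval 1
  simpa using this.symm

end Cfsg.Agent.H1.BL
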