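import Mathlib
import Cfsg.Agent.H1.BLC

/-!
# Brauer–Leonard: the level of `N` — the restriction of `ξ` and the families
-/

set_option autoImplicit false
set_option linter.style.haveILetI false
set_option linter.unusedSectionVars false
set_option linter.unusedVariables false

namespace Cfsg.Agent.H1.BL

open Cfsg Cfsg.Agent.Lib.helper3.Irr Cfsg.Agent.Lib.helper3.IndFun
open Cfsg.Agent.Lib.helper3.CharBasic Cfsg.Agent.Lib.helper3.Lin
open scoped ComplexConjugate
open Classical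

variable {N : Type*} [Group N] [Fintype N] {P V : Subgroup N} [hPn : P.Normal] [hVn : V.Normal]

theorem char_eq_zero_of_apply_one {H : Type*} [Group H] [Finite H] {ρ : H → ℂ}
    (hρ : IsCharacter H ρ) (h1 : ρ 1 = 0) : ρ = 0 := by
  obtain ⟨n, hn, hb⟩ := exists_nat_bound hρ
  rw [h1] at hn
  have hn0 : n = 0 := by exact_mod_cast hn.symm
  funext g
  have := hb g
  rw [hn0] at this
  simpa using this

theorem conjFun_const {H : Subgroup N} [hH : H.Normal] (c : ℂ) (n : N) :
    conjFun H (fun _ => c) n = fun _ => c := rfl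

theorem conjFun_ne_one {H : Subgroup N} [hH : H.Normal] {θ : ↥H → ℂ} (hne : θ ≠ fun _ => 1)
    (n : N) : conjFun H θ n ≠ fun _ => 1 := by
  intro hh
  apply hne
  have := congrArg (fun φ => conjFun H φ n⁻¹) hh
  simp only [conjFun_mul, mul_inv_cancel, conjFun_one, conjFun_const] at this
  exact this

/-- The norm of the restriction of `ξ` to `C`. -/
theorem classInner_resC_xi_self (h : Hyp P V) {lam : ↥P → ℂ} {th : ↥V → ℂ}
    (hl : IsIrrCharacter ↥P lam) (ht : IsIrrCharacter ↥V th) (hne : lam ≠ fun _ => 1) :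
    classInner (fun c : ↥(P ⊔ V) => xi h lam th c) (fun c : ↥(P ⊔ V) => xi h lam th c)
      = ((P ⊔ V).index : ℂ) := by
  have hirr := isIrrCharacter_xi h hl ht hne
  have h1 := irr_classInner_self hirr
  rw [classInner_apply] at h1 ⊢
  rw [sum_subgroup (P ⊔ V) (fun n => xi h lam th n * conj (xi h lam th n))]
  have hsum : ∑ n : N, (if n ∈ P ⊔ V then xi h lam th n * conj (xi h lam th n) else 0)
      = ∑ n : N, xi h lam th n * conj (xi h lam th n) := by
    apply Finset.sum_congr rfl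
    intro n _
    by_cases hn : n ∈ P ⊔ V
    · rw [if_pos hn]
    · rw [if_neg hn, xi_not_mem h _ _ hn, zero_mul]
  rw [hsum]
  have hN : (Nat.card N : ℂ) ≠ 0 := card_ne_zero_complex _
  have hC : (Nat.card ↥(P ⊔ V) : ℂ) ≠ 0 := card_ne_zero_complex _
  have h2 : ∑ n : N, xi h lam th n * conj (xi h lam th n) = (Nat.card N : ℂ) := by
    field_simp at h1
    exact h1
  rw [h2, ← (P ⊔ V).card_mul_index]
  push_cast
  field_simp

/-- **Lemma A**, the part at the level of `N`. -/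
theorem eq_xi_of_le (h : Hyp P V) {f : N → ℂ} (hf : IsCharacter N f) {lam : ↥P → ℂ}
    {th : ↥V → ℂ} (hl : IsIrrCharacter ↥P lam) (ht : IsIrrCharacter ↥V th)
    (hne : lam ≠ fun _ => 1) (hm : mm h f lam th ≠ 0) {s : ℕ}
    (hs : classInner (fun c : ↥(P ⊔ V) => f c) (fun c : ↥(P ⊔ V) => f c) = s)
    (hle : s ≤ (P ⊔ V).index) : f = xi h lam th := by
  have hirr := isIrrCharacter_xi h hl ht hne
  have hcf := isClassFunction_of_isCharacter hf
  have h1 : classInner f (xi h lam th) ≠ 0 := by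
    rw [classInner_xi h lam th f hcf]
    exact hm
  have hρ : IsCharacter N (f - xi h lam th) :=
    isCharacter_sub_of_classInner_ne_zero hf ⟨xi h lam th, hirr⟩ h1
  set ρ := f - xi h lam th with hρdef
  have hfe : f = xi h lam th + ρ := by rw [hρdef]; ring
  have hξC := isCharacter_restrict (isCharacter_of_isIrrCharacter hirr) (P ⊔ V)
  have hρC := isCharacter_restrict hρ (P ⊔ V)
  obtain ⟨n1, hn1⟩ := exists_nat_classInner_of_isCharacter_of_isCharacter hξC hρC
  obtain ⟨n2, hn2⟩ := exists_nat_classInner_of_isCharacter_of_isCharacter hρC hξC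
  obtain ⟨n3, hn3⟩ := exists_nat_classInner_of_isCharacter_of_isCharacter hρC hρC
  have hres : (fun c : ↥(P ⊔ V) => f c)
      = (fun c : ↥(P ⊔ V) => xi h lam th c) + (fun c : ↥(P ⊔ V) => ρ c) := by
    funext c
    show f c = xi h lam th c + ρ c
    rw [hfe]
    simp
  rw [hres, classInner_add_left, classInner_add_right, classInner_add_right,
    classInner_resC_xi_self h hl ht hne, hn1, hn2, hn3] at hs
  have hs' : (P ⊔ V).index + n1 + (n2 + n3) = s := by exact_mod_cast hs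
  have hn30 : n3 = 0 := by omega
  rw [hn30] at hn3
  have hz : (fun c : ↥(P ⊔ V) => ρ c) = 0 := by
    apply eq_zero_of_classInner_self_eq_zero
    simpa using hn3
  have hρ1 : ρ 1 = 0 := by
    have := congrFun hz 1
    simpa using this
  have hρ0 := char_eq_zero_of_apply_one hρ hρ1
  rw [hfe, hρ0, add_zero]

/-- The restriction of `ξ` to `C`. -/
theorem resC_xi (h : Hyp P V) (lam : ↥P → ℂ) (th : ↥V → ℂ) :
    (fun c : ↥(P ⊔ V) => xi h lam th c)
      = (Nat.card ↥(P ⊔ V) : ℂ)⁻¹ • ∑ n : N, pr h (conjFun P lam n) (conjFun V th n) := by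
  funext c
  rw [xi_apply_C]
  simp

theorem mm_xi (h : Hyp P V) (lam0 : ↥P → ℂ) (th0 : ↥V → ℂ) (lam : ↥P → ℂ) (th : ↥V → ℂ) :
    mm h (xi h lam0 th0) lam th = (Nat.card ↥(P ⊔ V) : ℂ)⁻¹ *
      ∑ n : N, classInner (conjFun P lam0 n) lam * classInner (conjFun V th0 n) th := by
  unfold mm
  rw [resC_xi, classInner_smul_left, classInner_sum_left]
  congr 1
  apply Finset.sum_congr rfl
  intro n _
  rw [classInner_pr]

theorem mm_xi_one (h : Hyp P V) {lam0 : ↥P → ℂ} (th0 : ↥V → ℂ) (hl0 : IsIrrCharacter ↥P lam0)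
    (hne : lam0 ≠ fun _ => 1) (th : ↥V → ℂ) :
    mm h (xi h lam0 th0) (fun _ => 1) th = 0 := by
  rw [mm_xi]
  have : ∀ n : N, classInner (conjFun P lam0 n) (fun _ : ↥P => (1 : ℂ)) = 0 := by
    intro n
    apply irr_classInner_eq_zero (isIrrCharacter_conjFun P hl0 n) isIrrCharacter_one
    exact conjFun_ne_one hne n
  simp [this]

theorem mm_xi_eq (h : Hyp P V) {lam0 lam : ↥P → ℂ} {th0 th : ↥V → ℂ}
    (hl0 : IsIrrCharacter ↥P lam0) (ht0 : IsIrrCharacter ↥V th0) (hne0 : lam0 ≠ fun _ => 1)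
    (hl : IsIrrCharacter ↥P lam) (ht : IsIrrCharacter ↥V th) (hne : lam ≠ fun _ => 1) :
    mm h (xi h lam0 th0) lam th = if xi h lam th = xi h lam0 th0 then 1 else 0 := by
  have hirr0 := isIrrCharacter_xi h hl0 ht0 hne0
  have hirr := isIrrCharacter_xi h hl ht hne
  have h1 := classInner_xi h lam th (xi h lam0 th0)
    (isClassFunction_of_isCharacter (isCharacter_of_isIrrCharacter hirr0))
  unfold mm
  rw [← h1, irr_classInner_eq hirr0 hirr]
  by_cases hh : xi h lam th = xi h lam0 th0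
  · rw [if_pos hh, if_pos hh.symm]
  · rw [if_neg hh, if_neg (fun e => hh e.symm)]

/-- The number of pairs giving a fixed `ξ`. -/
theorem card_Z (h : Hyp P V) {lam0 : ↥P → ℂ} {th0 : ↥V → ℂ}
    (hl0 : IsIrrCharacter ↥P lam0) (ht0 : IsIrrCharacter ↥V th0) (hne0 : lam0 ≠ fun _ => 1) :
    (Finset.univ.filter (fun z : IrrCharacter ↥P × IrrCharacter ↥V =>
      (z.1 : ↥P → ℂ) ≠ (fun _ => 1) ∧ xi h z.1.1 z.2.1 = xi h lam0 th0)).card
      = (P ⊔ V).index := by
  have hirr0 := isIrrCharacter_xi h hl0 ht0 hne0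
  have h1 := classInner_resC_self h (isCharacter_of_isIrrCharacter hirr0)
  rw [classInner_resC_xi_self h hl0 ht0 hne0] at h1
  have h2 : ∀ z : IrrCharacter ↥P × IrrCharacter ↥V, mm h (xi h lam0 th0) z.1.1 z.2.1 ^ 2
      = if ((z.1 : ↥P → ℂ) ≠ (fun _ => 1) ∧ xi h z.1.1 z.2.1 = xi h lam0 th0) then 1 else 0 := by
    intro z
    by_cases hz : (z.1 : ↥P → ℂ) = fun _ => 1
    · rw [hz, mm_xi_one h th0 hl0 hne0]
      simp
    · rw [mm_xi_eq h hl0 ht0 hne0 z.1.2 z.2.2 hz]
      by_cases hh : xi h z.1.1 z.2.1 = xi h lam0 th0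
      · simp [hh, hz]
      · simp [hh]
  simp_rw [h2] at h1
  rw [Finset.sum_boole] at h1
  exact_mod_cast h1.symm

/-- The restriction of `ξ` to `P`. -/
theorem resP_xi (h : Hyp P V) (lam : ↥P → ℂ) (th : ↥V → ℂ) :
    (fun x : ↥P => xi h lam th x)
      = ((Nat.card ↥(P ⊔ V) : ℂ)⁻¹ * th 1) • ∑ n : N, conjFun P lam n := by
  funext x
  have hxC : (x : N) ∈ P ⊔ V := (le_sup_left : P ≤ P ⊔ V) x.2
  have := xi_apply_C h lam th ⟨x, hxC⟩
  simp only at this
  rw [this]
  simp only [Pi.smul_apply, Finset.sum_apply, smul_eq_mul]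
  rw [mul_assoc, Finset.mul_sum (a := th 1)]
  congr 1
  apply Finset.sum_congr rfl
  intro n _
  rw [pr_of_mem_P h _ _ ⟨x, hxC⟩ x.2, conjFun_apply_one, mul_comm]

theorem conjFun_ne_of_classInner_eq_zero (h : Hyp P V) {lam : ↥P → ℂ} {th : ↥V → ℂ}
    (hl : IsIrrCharacter ↥P lam) (ht : IsIrrCharacter ↥V th) {ν : ↥P → ℂ}
    (hν : IsIrrCharacter ↥P ν)
    (hz : classInner (fun x : ↥P => xi h lam th x) ν = 0) (n : N) : conjFun P lam n ≠ ν := by
  intro hn
  rw [resP_xi, classInner_smul_left, classInner_sum_left] at hz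
  have hC : (Nat.card ↥(P ⊔ V) : ℂ) ≠ 0 := card_ne_zero_complex _
  have ht1 : th 1 ≠ 0 := irr_one_ne_zero ht
  have h1 : ∀ m : N, classInner (conjFun P lam m) ν = if conjFun P lam m = ν then 1 else 0 :=
    fun m => irr_classInner_eq (isIrrCharacter_conjFun P hl m) hν
  simp_rw [h1] at hz
  rw [Finset.sum_boole] at hz
  have h2 : (Finset.univ.filter (fun m : N => conjFun P lam m = ν)).card ≠ 0 := by
    apply Finset.card_ne_zero_of_mem (a := n)
    simp [hn]
  have h3 : ((Finset.univ.filter (fun m : N => conjFun P lam m = ν)).card : ℂ) ≠ 0 := by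
    exact_mod_cast h2
  rcases mul_eq_zero.mp hz with h4 | h4
  · rcases mul_eq_zero.mp h4 with h5 | h5
    · exact (inv_ne_zero hC) h5
    · exact ht1 h5
  · exact h3 h4

theorem classInner_resP_xi_xi (h : Hyp P V) {lam ν : ↥P → ℂ} (th th' : ↥V → ℂ)
    (hl : IsIrrCharacter ↥P lam) (hν : IsIrrCharacter ↥P ν)
    (hne : ∀ n : N, conjFun P lam n ≠ ν) :
    classInner (fun x : ↥P => xi h lam th x) (fun x : ↥P => xi h ν th' x) = 0 := by
  rw [resP_xi, resP_xi, classInner_smul_left, classInner_smul_right, classInner_sum_left]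
  have : ∀ n : N, classInner (conjFun P lam n) (∑ n' : N, conjFun P ν n') = 0 := by
    intro n
    rw [classInner_sum_right]
    apply Finset.sum_eq_zero
    intro n' _
    apply irr_classInner_eq_zero (isIrrCharacter_conjFun P hl n) (isIrrCharacter_conjFun P hν n')
    intro heq
    apply hne (n * n'⁻¹)
    have := congrArg (fun φ => conjFun P φ n'⁻¹) heq
    simp only [conjFun_mul, mul_inv_cancel, conjFun_one] at this
    exact this
  simp [this]

/-- The family of `θ`. -/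
def fam (h : Hyp P V) (th : ↥V → ℂ) : Set (N → ℂ) :=
  {ξ | ∃ lam : IrrCharacter ↥P, (lam : ↥P → ℂ) ≠ (fun _ => 1) ∧ ξ = xi h lam.1 th}

theorem fam_conj (h : Hyp P V) (th : ↥V → ℂ) (n : N) : fam h (conjFun V th n) = fam h th := by
  ext ξ
  constructor
  · rintro ⟨lam, hne, rfl⟩
    refine ⟨⟨conjFun P lam.1 n⁻¹, isIrrCharacter_conjFun P lam.2 _⟩, conjFun_ne_one hne _, ?_⟩
    have := xi_conj h (conjFun P lam.1 n⁻¹) th n
    rw [conjFun_mul, inv_mul_cancel, conjFun_one] at this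
    exact this
  · rintro ⟨lam, hne, rfl⟩
    refine ⟨⟨conjFun P lam.1 n, isIrrCharacter_conjFun P lam.2 _⟩, conjFun_ne_one hne _, ?_⟩
    exact (xi_conj h lam.1 th n).symm

theorem xi_eq_imp (h : Hyp P V) {lam lam' : ↥P → ℂ} {th th' : ↥V → ℂ}
    (hl : IsIrrCharacter ↥P lam) (ht : IsIrrCharacter ↥V th) (hne : lam ≠ fun _ => 1)
    (hl' : IsIrrCharacter ↥P lam') (ht' : IsIrrCharacter ↥V th') (hne' : lam' ≠ fun _ => 1)
    (heq : xi h lam th = xi h lam' th') :
    ∃ n : N, lam' = conjFun P lam n ∧ th' = conjFun V th n := by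
  by_contra hcon
  push Not at hcon
  have hirr := isIrrCharacter_xi h hl ht hne
  have h1 : classInner (xi h lam' th') (xi h lam th) = 1 := by
    rw [← heq]; exact irr_classInner_self hirr
  have h2 : classInner (xi h lam' th') (xi h lam th) = 0 := by
    unfold xi
    apply classInner_indFun_of_not_conj (P ⊔ V) _ _ (isIrrCharacter_pr h hl ht)
      (isIrrCharacter_pr h hl' ht')
    intro g hg
    rw [conjFun_pr] at hg
    have h3 := pr_inj h (lin_one h hl') (by rw [conjFun_apply_one]; exact lin_one h hl)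
      (irr_one_ne_zero ht') hg
    exact hcon g h3.1 h3.2
  rw [h2] at h1
  exact zero_ne_one h1

theorem fam_eq_of_xi_eq (h : Hyp P V) {lam lam' : ↥P → ℂ} {th th' : ↥V → ℂ}
    (hl : IsIrrCharacter ↥P lam) (ht : IsIrrCharacter ↥V th) (hne : lam ≠ fun _ => 1)
    (hl' : IsIrrCharacter ↥P lam') (ht' : IsIrrCharacter ↥V th') (hne' : lam' ≠ fun _ => 1)
    (heq : xi h lam th = xi h lam' th') : fam h th' = fam h th := by
  obtain ⟨n, -, hn⟩ := xi_eq_imp h hl ht hne hl' ht' hne' heq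
  rw [hn, fam_conj]

end Cfsg.Agent.H1.BL
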