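import Mathlib
import Cfsg.Agent.H1.BLD
import Cfsg.Agent.Lib.helper3.BLPartG

/-!
# Brauer–Leonard: the level of `G` — the counting bound and Lemma A
-/

set_option autoImplicit false
set_option linter.style.haveILetI false
set_option linter.unusedSectionVars false
set_option linter.unusedVariables false

namespace Cfsg.Agent.H1.BL

open Cfsg Cfsg.Agent.Lib.helper3.Irr Cfsg.Agent.Lib.helper3.IndFun
open Cfsg.Agent.Lib.helper3.CharBasic Cfsg.Agent.Lib.helper3.Lin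
open Cfsg.Agent.Lib.helper3
open scoped ComplexConjugate
open Classical

variable {G : Type*} [Group G] [Fintype G] {N₀ : Subgroup G} {P V : Subgroup ↥N₀}
  [hPn : P.Normal] [hVn : V.Normal]

/-- The set `A = C ∖ V`. -/
def AA (P V : Subgroup ↥N₀) : Set ↥N₀ := {n | n ∈ P ⊔ V ∧ n ∉ V}

theorem AA_inv (a : ↥N₀) (ha : a ∈ AA P V) (n : ↥N₀) : n * a * n⁻¹ ∈ AA P V := by
  refine ⟨(inferInstance : (P ⊔ V).Normal).conj_mem a ha.1 n, ?_⟩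
  intro hv
  apply ha.2
  have := hVn.conj_mem _ hv n⁻¹
  simpa [mul_assoc] using this

theorem one_not_mem_AA : (1 : ↥N₀) ∉ AA P V := fun h => h.2 V.one_mem

/-- The trivial-intersection hypothesis. -/
def TIHyp (P V : Subgroup ↥N₀) : Prop :=
  ∀ a : ↥N₀, a ∈ P ⊔ V → a ∉ V → ∀ y : G, y * (a : G) * y⁻¹ ∈ N₀ → y ∈ N₀

theorem TIHyp.toAA (hTI : TIHyp P V) :
    ∀ a ∈ AA P V, ∀ y : G, y * (a : G) * y⁻¹ ∈ N₀ → y ∈ N₀ := fun a ha => hTI a ha.1 ha.2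

/-- The integer multiplicities. -/
noncomputable def mZ (h : Hyp P V) (ψ : G → ℂ) (lam : ↥P → ℂ) (th : ↥V → ℂ) : ℤ :=
  ⌊(mm h (fun n : ↥N₀ => ψ n) lam th).re⌋

theorem mZ_spec (h : Hyp P V) {ψ : G → ℂ} (hψ : IsCharacter G ψ) (lam : IrrCharacter ↥P)
    (th : IrrCharacter ↥V) :
    ((mZ h ψ lam.1 th.1 : ℤ) : ℂ) = mm h (fun n : ↥N₀ => ψ n) lam.1 th.1 ∧ 0 ≤ mZ h ψ lam.1 th.1 := by
  obtain ⟨k, hk⟩ := mm_nat h (isCharacter_restrict hψ N₀) lam th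
  unfold mZ
  rw [hk]
  simp

theorem mZ_cast (h : Hyp P V) {ψ : G → ℂ} (hψ : IsCharacter G ψ) (lam : IrrCharacter ↥P)
    (th : IrrCharacter ↥V) :
    ((mZ h ψ lam.1 th.1 : ℤ) : ℂ) = mm h (fun n : ↥N₀ => ψ n) lam.1 th.1 := (mZ_spec h hψ lam th).1

theorem mZ_nonneg (h : Hyp P V) {ψ : G → ℂ} (hψ : IsCharacter G ψ) (lam : IrrCharacter ↥P)
    (th : IrrCharacter ↥V) : 0 ≤ mZ h ψ lam.1 th.1 := (mZ_spec h hψ lam th).2

/-- The quantity `Q_θ(ψ)`. -/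
noncomputable def Qz (h : Hyp P V) (ψ : G → ℂ) (th : ↥V → ℂ) : ℤ :=
  (Nat.card ↥P : ℤ) * ∑ lam : IrrCharacter ↥P, mZ h ψ lam.1 th ^ 2
    - (∑ lam : IrrCharacter ↥P, mZ h ψ lam.1 th) ^ 2

theorem Qz_nonneg (h : Hyp P V) (ψ : G → ℂ) (th : ↥V → ℂ) : 0 ≤ Qz h ψ th := by
  unfold Qz
  have := sq_sum_le_card_mul_sum_sq (s := (Finset.univ : Finset (IrrCharacter ↥P)))
    (f := fun lam => mZ h ψ lam.1 th)
  rw [Finset.card_univ, card_irrP h] at this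
  linarith

theorem card_N₀ (h : Hyp P V) :
    Nat.card ↥N₀ = Nat.card ↥P * Nat.card ↥V * (P ⊔ V).index := by
  rw [← (P ⊔ V).card_mul_index, card_C h]

/-- The counting bound `Σ_θ Q_θ(ψ) < e q`. -/
theorem sum_Qz_lt (h : Hyp P V) (hTI : TIHyp P V) {ψ : G → ℂ} (hψ : IsIrrCharacter G ψ) :
    ∑ th : IrrCharacter ↥V, Qz h ψ th.1 < ((P ⊔ V).index : ℤ) * (Nat.card ↥P : ℤ) := by
  have hψc := isCharacter_of_isIrrCharacter hψ
  have hf := isCharacter_restrict hψc N₀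
  obtain ⟨r, hr, hsum⟩ := BLPartG.sum_A_lt N₀ (AA P V) hTI.toAA AA_inv one_not_mem_AA ψ hψ
  have hCI := CI_N h hf
  have hsum' : ∑ n : ↥N₀, (if (n ∈ P ⊔ V ∧ n ∉ V) then ψ n * conj (ψ n) else 0) = (r : ℂ) := by
    rw [← hsum]
    apply Finset.sum_congr rfl
    intro n _
    by_cases hn : n ∈ AA P V
    · rw [if_pos hn, if_pos (show n ∈ P ⊔ V ∧ n ∉ V from hn)]
    · rw [if_neg hn, if_neg (show ¬ (n ∈ P ⊔ V ∧ n ∉ V) from hn)]
  rw [hsum'] at hCI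
  -- the right side is the integer Σ Qz
  have hZ : ((∑ th : IrrCharacter ↥V, Qz h ψ th.1 : ℤ) : ℂ)
      = (Nat.card ↥P : ℂ) * ∑ z : IrrCharacter ↥P × IrrCharacter ↥V,
          mm h (fun n : ↥N₀ => ψ n) z.1.1 z.2.1 ^ 2
        - ∑ th : IrrCharacter ↥V, (∑ lam : IrrCharacter ↥P,
          mm h (fun n : ↥N₀ => ψ n) lam.1 th.1) ^ 2 := by
    unfold Qz
    push_cast
    rw [Finset.sum_sub_distrib, ← Finset.mul_sum, Fintype.sum_prod_type, Finset.sum_comm]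
    simp_rw [mZ_cast h hψc]
  rw [← hZ] at hCI
  have hV : (0 : ℝ) < (Nat.card ↥V : ℝ) := by exact_mod_cast Nat.card_pos
  have hreal : ((∑ th : IrrCharacter ↥V, Qz h ψ th.1 : ℤ) : ℝ) = (Nat.card ↥V : ℝ)⁻¹ * r := by
    have : (((∑ th : IrrCharacter ↥V, Qz h ψ th.1 : ℤ) : ℝ) : ℂ)
        = (((Nat.card ↥V : ℝ)⁻¹ * r : ℝ) : ℂ) := by
      push_cast
      rw [hCI]
      push_cast
      rfl
    exact_mod_cast this
  have hN : (Nat.card ↥N₀ : ℝ) = (Nat.card ↥P : ℝ) * (Nat.card ↥V : ℝ) * ((P ⊔ V).index : ℝ) := by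
    exact_mod_cast card_N₀ h
  have hlt : ((∑ th : IrrCharacter ↥V, Qz h ψ th.1 : ℤ) : ℝ)
      < ((P ⊔ V).index : ℝ) * (Nat.card ↥P : ℝ) := by
    rw [hreal, inv_mul_lt_iff₀ hV]
    rw [hN] at hr
    linarith
  exact_mod_cast hlt

/-- **Lemma A.** -/
theorem lemmaA (h : Hyp P V) (hTI : TIHyp P V) {χ : G → ℂ} (hχ : IsIrrCharacter G χ)
    (hx : ∃ x : ↥N₀, x ∈ P ∧ χ x ≠ χ 1) {d : ℕ} (hd : χ 1 = d)
    (hdq : d ^ 2 + 1 < Nat.card ↥P) :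
    ∃ (lam0 : IrrCharacter ↥P) (th0 : IrrCharacter ↥V), (lam0 : ↥P → ℂ) ≠ (fun _ => 1) ∧
      (fun n : ↥N₀ => χ n) = xi h lam0.1 th0.1 := by
  have hχc := isCharacter_of_isIrrCharacter hχ
  have hf := isCharacter_restrict hχc N₀
  have hfC := isCharacter_restrict hf (P ⊔ V)
  have hfV := isCharacter_restrict hf V
  obtain ⟨s, hs⟩ := exists_nat_classInner_of_isCharacter_of_isCharacter hfC hfC
  obtain ⟨t, ht⟩ := exists_nat_classInner_of_isCharacter_of_isCharacter hfV hfV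
  obtain ⟨r, hr, hsum⟩ := BLPartG.sum_A_lt N₀ (AA P V) hTI.toAA AA_inv one_not_mem_AA χ hχ
  have hCI := CI0 h (fun n : ↥N₀ => χ n)
  have hsum' : ∑ n : ↥N₀, (if (n ∈ P ⊔ V ∧ n ∉ V) then χ n * conj (χ n) else 0) = (r : ℂ) := by
    rw [← hsum]
    apply Finset.sum_congr rfl
    intro n _
    by_cases hn : n ∈ AA P V
    · rw [if_pos hn, if_pos (show n ∈ P ⊔ V ∧ n ∉ V from hn)]
    · rw [if_neg hn, if_neg (show ¬ (n ∈ P ⊔ V ∧ n ∉ V) from hn)]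
  rw [hsum', hs, ht] at hCI
  have hV : (0 : ℝ) < (Nat.card ↥V : ℝ) := by exact_mod_cast Nat.card_pos
  have hreal : (Nat.card ↥V : ℝ)⁻¹ * r = (Nat.card ↥P : ℝ) * s - t := by
    have : (((Nat.card ↥V : ℝ)⁻¹ * r : ℝ) : ℂ) = (((Nat.card ↥P : ℝ) * s - t : ℝ) : ℂ) := by
      push_cast
      exact hCI
    exact_mod_cast this
  -- t ≤ d²
  have htd : (t : ℝ) ≤ (d : ℝ) ^ 2 := by
    obtain ⟨n, hn1, hnb⟩ := exists_nat_bound hχc
    have hnd : n = d := by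
      rw [hd] at hn1
      exact_mod_cast hn1.symm
    have h1 : (t : ℂ) = (((Nat.card ↥V : ℝ)⁻¹ * ∑ v : ↥V, ‖χ ((v : ↥N₀) : G)‖ ^ 2 : ℝ) : ℂ) := by
      rw [← ht, classInner_apply]
      push_cast
      congr 1
      apply Finset.sum_congr rfl
      intro v _
      rw [Complex.mul_conj, Complex.normSq_eq_norm_sq]
      push_cast
      rfl
    have h2 : (t : ℝ) = (Nat.card ↥V : ℝ)⁻¹ * ∑ v : ↥V, ‖χ ((v : ↥N₀) : G)‖ ^ 2 := by
      exact_mod_cast h1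
    rw [h2, inv_mul_le_iff₀ hV]
    have h3 : ∑ v : ↥V, ‖χ ((v : ↥N₀) : G)‖ ^ 2 ≤ ∑ v : ↥V, (d : ℝ) ^ 2 := by
      apply Finset.sum_le_sum
      intro v _
      have := hnb ((v : ↥N₀) : G)
      rw [hnd] at this
      exact pow_le_pow_left₀ (norm_nonneg _) this 2
    rw [Finset.sum_const, Finset.card_univ, nsmul_eq_mul, ← Nat.card_eq_fintype_card] at h3
    exact h3
  have hN : (Nat.card ↥N₀ : ℝ) = (Nat.card ↥P : ℝ) * (Nat.card ↥V : ℝ) * ((P ⊔ V).index : ℝ) := by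
    exact_mod_cast card_N₀ h
  -- q s - t < e q
  have hlt : (Nat.card ↥P : ℝ) * s - t < ((P ⊔ V).index : ℝ) * (Nat.card ↥P : ℝ) := by
    rw [← hreal, inv_mul_lt_iff₀ hV]
    rw [hN] at hr
    linarith
  have hq : ((d : ℝ) ^ 2 + 1) < (Nat.card ↥P : ℝ) := by exact_mod_cast hdq
  have hqpos : (0 : ℝ) < (Nat.card ↥P : ℝ) := by exact_mod_cast Nat.card_pos
  have hse : s ≤ (P ⊔ V).index := by
    by_contra hcon
    push Not at hcon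
    have h4 : ((P ⊔ V).index : ℝ) + 1 ≤ (s : ℝ) := by exact_mod_cast hcon
    have h5 : (Nat.card ↥P : ℝ) * (((P ⊔ V).index : ℝ) + 1) ≤ (Nat.card ↥P : ℝ) * s :=
      mul_le_mul_of_nonneg_left h4 hqpos.le
    nlinarith
  obtain ⟨x, hxP, hxne⟩ := hx
  obtain ⟨lam1, th1, hne1, hm1⟩ := exists_mm_ne_zero h hf ⟨⟨x, hxP⟩, hxne⟩
  refine ⟨lam1, th1, hne1, ?_⟩
  exact eq_xi_of_le h hf lam1.2 th1.2 hne1 hm1 hs hse

end Cfsg.Agent.H1.BL
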