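import Mathlib
import Cfsg.Agent.H1.BLE

/-!
# Brauer–Leonard: the level of `G` — families and their coherence structure
-/

set_option autoImplicit false
set_option linter.style.haveILetI false
set_option linter.unusedSectionVars false
set_option linter.unusedVariables false

namespace Cfsg.Agent.H1.BL

open Cfsg Cfsg.Agent.Lib.helper3.Irr Cfsg.Agent.Lib.helper3.IndFun
open Cfsg.Agent.Lib.helper3.CharBasic Cfsg.Agent.Lib.helper3.Lin
open Cfsg.Agent.Lib.helper3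
open scoped ComplexConjugate
open Classical

section arith

/-- The arithmetic lower bound for `Q`. -/
theorem Q_lower' {ι : Type*} [Fintype ι] [DecidableEq ι] (o : ι) (Sp : Finset ι) (ho : o ∉ Sp)
    (m : ι → ℤ) (c a : ℤ) (ha : a = 1 ∨ a = -1)
    (hm : ∀ i, i ≠ o → m i = c + if i ∈ Sp then a else 0)
    (h2 : 2 * Sp.card + 1 ≤ Fintype.card ι) :
    (Sp.card : ℤ) * ((Fintype.card ι : ℤ) - Sp.card)
      ≤ (Fintype.card ι : ℤ) * ∑ i, m i ^ 2 - (∑ i, m i) ^ 2 := by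
  have hsub : Sp ⊆ Finset.univ.erase o := by
    intro i hi
    exact Finset.mem_erase.mpr ⟨fun h => ho (h ▸ hi), Finset.mem_univ _⟩
  have hcard : (Finset.univ.erase o).card = Fintype.card ι - 1 := by
    rw [Finset.card_erase_of_mem (Finset.mem_univ _), Finset.card_univ]
  have hq1 : 1 ≤ Fintype.card ι := by omega
  have hinter : (Finset.univ.erase o).filter (· ∈ Sp) = Sp := by
    ext i
    simp only [Finset.mem_filter, Finset.mem_erase, Finset.mem_univ, and_true]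
    constructor
    · exact fun h => h.2
    · intro h
      exact ⟨fun e => ho (e ▸ h), h⟩
  have hS1 : ∑ i, m i = m o + ((Fintype.card ι : ℤ) - 1) * c + Sp.card * a := by
    rw [← Finset.add_sum_erase Finset.univ m (Finset.mem_univ o)]
    have : ∑ i ∈ Finset.univ.erase o, m i
        = ∑ i ∈ Finset.univ.erase o, (c + if i ∈ Sp then a else 0) := by
      apply Finset.sum_congr rfl
      intro i hi
      exact hm i (Finset.ne_of_mem_erase hi)
    rw [this, Finset.sum_add_distrib, Finset.sum_const, ← Finset.sum_filter, hinter,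
      Finset.sum_const, hcard]
    simp only [nsmul_eq_mul]
    push_cast [hq1]
    ring
  have hS2 : ∑ i, m i ^ 2 = m o ^ 2 + ((Fintype.card ι : ℤ) - 1) * c ^ 2
      + Sp.card * (2 * a * c + a ^ 2) := by
    rw [← Finset.add_sum_erase Finset.univ (fun i => m i ^ 2) (Finset.mem_univ o)]
    have : ∑ i ∈ Finset.univ.erase o, m i ^ 2
        = ∑ i ∈ Finset.univ.erase o, (c ^ 2 + if i ∈ Sp then (2 * a * c + a ^ 2) else 0) := by
      apply Finset.sum_congr rfl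
      intro i hi
      rw [hm i (Finset.ne_of_mem_erase hi)]
      split_ifs <;> ring
    rw [this, Finset.sum_add_distrib, Finset.sum_const, ← Finset.sum_filter, hinter,
      Finset.sum_const, hcard]
    simp only [nsmul_eq_mul]
    push_cast [hq1]
    ring
  rw [hS1, hS2]
  have hq : (2 : ℤ) * Sp.card + 1 ≤ (Fintype.card ι : ℤ) := by exact_mod_cast h2
  have hs0 : (0 : ℤ) ≤ Sp.card := Int.natCast_nonneg _
  set q : ℤ := (Fintype.card ι : ℤ)
  set s : ℤ := (Sp.card : ℤ)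
  set y : ℤ := m o - c with hy
  have hmo : m o = y + c := by rw [hy]; ring
  rw [hmo]
  have hy1 : 0 ≤ y * (y - 1) := by
    rcases le_or_gt y 0 with h | h
    · nlinarith
    · nlinarith
  have hy2 : 0 ≤ y * (y + 1) := by
    rcases le_or_gt y (-1) with h | h
    · nlinarith
    · nlinarith
  rcases ha with rfl | rfl
  · have key : q * ((y + c) ^ 2 + (q - 1) * c ^ 2 + s * (2 * 1 * c + 1 ^ 2))
        - ((y + c) + (q - 1) * c + s * 1) ^ 2 - s * (q - s) = (q - 1) * y ^ 2 - 2 * s * y := by ring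
    have : 0 ≤ (q - 1) * y ^ 2 - 2 * s * y := by
      rcases le_or_gt y 0 with h | h
      · have h1 : 0 ≤ (q - 1) * y ^ 2 := mul_nonneg (by linarith) (sq_nonneg y)
        nlinarith
      · nlinarith
    linarith
  · have key : q * ((y + c) ^ 2 + (q - 1) * c ^ 2 + s * (2 * (-1) * c + (-1) ^ 2))
        - ((y + c) + (q - 1) * c + s * (-1)) ^ 2 - s * (q - s) = (q - 1) * y ^ 2 + 2 * s * y := by ring
    have : 0 ≤ (q - 1) * y ^ 2 + 2 * s * y := by
      rcases le_or_gt 0 y with h | h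
      · nlinarith
      · nlinarith
    linarith

end arith

variable {G : Type*} [Group G] [Fintype G] {N₀ : Subgroup G} {P V : Subgroup ↥N₀}
  [hPn : P.Normal] [hVn : V.Normal]

/-- `ψ` belongs to the family attached to `S`: its multiplicities are not constant on `S`. -/
def NonConst (ψ : G → ℂ) (S : Set (↥N₀ → ℂ)) : Prop :=
  ∃ ξ ∈ S, ∃ ξ' ∈ S,
    classInner ξ (fun n : ↥N₀ => ψ n) ≠ classInner ξ' (fun n : ↥N₀ => ψ n)

theorem mm_sub (h : Hyp P V) (f g : ↥N₀ → ℂ) (lam : ↥P → ℂ) (th : ↥V → ℂ) :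
    mm h (f - g) lam th = mm h f lam th - mm h g lam th := by
  unfold mm
  exact classInner_sub_left _ _ _

theorem mm_smul (h : Hyp P V) (c : ℂ) (f : ↥N₀ → ℂ) (lam : ↥P → ℂ) (th : ↥V → ℂ) :
    mm h (c • f) lam th = c * mm h f lam th := by
  unfold mm
  exact classInner_smul_left _ _ _

/-- `[ξ, f] = m_f(λ,θ)` for a character `f` of `N₀`. -/
theorem classInner_xi' (h : Hyp P V) {f : ↥N₀ → ℂ} (hf : IsCharacter ↥N₀ f)
    (lam : IrrCharacter ↥P) (th : IrrCharacter ↥V) :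
    classInner (xi h lam.1 th.1) f = mm h f lam.1 th.1 := by
  rw [← classInner_conj_symm, classInner_xi h lam.1 th.1 f (isClassFunction_of_isCharacter hf)]
  exact mm_conj h hf lam th

theorem fam_irr (h : Hyp P V) (th : IrrCharacter ↥V) :
    ∀ ξ ∈ fam h th.1, IsIrrCharacter ↥N₀ ξ := by
  rintro ξ ⟨lam, hne, rfl⟩
  exact isIrrCharacter_xi h lam.2 th.2 hne

theorem fam_off_A (h : Hyp P V) (th : IrrCharacter ↥V) :
    ∀ ξ ∈ fam h th.1, ∀ ξ' ∈ fam h th.1, ∀ n, n ∉ AA P V → ξ n = ξ' n := by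
  rintro ξ ⟨lam, hne, rfl⟩ ξ' ⟨lam', hne', rfl⟩ n hn
  exact xi_eq_off_A h th.1 (lin_one h lam.2) (lin_one h lam'.2) hn

/-- The coherence data for a family with at least two members. -/
theorem exists_T (h : Hyp P V) (hTI : TIHyp P V) (th : IrrCharacter ↥V)
    (htwo : ∃ ξ ∈ fam h th.1, ∃ ξ' ∈ fam h th.1, ξ ≠ ξ') :
    ∃ T : (↥N₀ → ℂ) → (G → ℂ),
      (∀ ξ ∈ fam h th.1, IsIrrCharacter G (T ξ) ∨ IsIrrCharacter G (-(T ξ))) ∧
      (∀ ξ ∈ fam h th.1, ∀ ξ' ∈ fam h th.1, T ξ - T ξ' = indFun N₀ (ξ - ξ')) ∧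
      (∀ ξ ∈ fam h th.1, ∀ ξ' ∈ fam h th.1, ξ ≠ ξ' → classInner (T ξ) (T ξ') = 0) :=
  BLPartG.exists_coherent_data N₀ (AA P V) hTI.toAA AA_inv one_not_mem_AA (fam h th.1)
    (fam_irr h th) htwo (fam_off_A h th)

theorem htwo_of_nonConst {ψ : G → ℂ} {S : Set (↥N₀ → ℂ)} (hnc : NonConst ψ S) :
    ∃ ξ ∈ S, ∃ ξ' ∈ S, ξ ≠ ξ' := by
  obtain ⟨ξ, hξ, ξ', hξ', hne⟩ := hnc
  exact ⟨ξ, hξ, ξ', hξ', fun e => hne (by rw [e])⟩

/-- The structure of the multiplicities of a member of the family. -/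
theorem nonconst_struct {S : Set (↥N₀ → ℂ)} {T : (↥N₀ → ℂ) → (G → ℂ)}
    (hT1 : ∀ ξ ∈ S, IsIrrCharacter G (T ξ) ∨ IsIrrCharacter G (-(T ξ)))
    (hT2 : ∀ ξ ∈ S, ∀ ξ' ∈ S, T ξ - T ξ' = indFun N₀ (ξ - ξ'))
    (hT3 : ∀ ξ ∈ S, ∀ ξ' ∈ S, ξ ≠ ξ' → classInner (T ξ) (T ξ') = 0)
    {ψ : G → ℂ} (hψ : IsIrrCharacter G ψ) (hnc : NonConst ψ S) :
    ∃ ξs ∈ S, ∃ ε : ℤ, (ε = 1 ∨ ε = -1) ∧ T ξs = (ε : ℂ) • ψ ∧
      ∀ ξ ∈ S, classInner ξ (fun n : ↥N₀ => ψ n)
        = (classInner ξs (fun n : ↥N₀ => ψ n) - (ε : ℂ)) + if ξ = ξs then (ε : ℂ) else 0 := by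
  have hcf := isClassFunction_of_isCharacter (isCharacter_of_isIrrCharacter hψ)
  -- (1) differences
  have hdiff : ∀ ξ ∈ S, ∀ ξ' ∈ S, classInner ξ (fun n : ↥N₀ => ψ n)
      - classInner ξ' (fun n : ↥N₀ => ψ n) = classInner (T ξ) ψ - classInner (T ξ') ψ := by
    intro ξ hξ ξ' hξ'
    have h1 := frobenius_reciprocity N₀ (ξ - ξ') ψ hcf
    rw [← hT2 ξ hξ ξ' hξ', classInner_sub_left, classInner_sub_left] at h1
    exact h1.symm
  -- (2) values of a
  have hval : ∀ ξ ∈ S, classInner (T ξ) ψ ≠ 0 →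
      ∃ ε : ℤ, (ε = 1 ∨ ε = -1) ∧ T ξ = (ε : ℂ) • ψ := by
    intro ξ hξ hne
    rcases hT1 ξ hξ with hirr | hirr
    · refine ⟨1, Or.inl rfl, ?_⟩
      rw [irr_classInner_eq hirr hψ] at hne
      by_cases he : T ξ = ψ
      · rw [he]; simp
      · rw [if_neg he] at hne
        exact absurd rfl hne
    · refine ⟨-1, Or.inr rfl, ?_⟩
      have h1 : classInner (T ξ) ψ = - classInner (-(T ξ)) ψ := by
        rw [classInner_neg_left, neg_neg]
      rw [h1, irr_classInner_eq hirr hψ] at hne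
      by_cases he : -(T ξ) = ψ
      · rw [← he]; simp
      · rw [if_neg he] at hne
        simp at hne
  -- (4) some ξs has a ≠ 0
  have hex : ∃ ξs ∈ S, classInner (T ξs) ψ ≠ 0 := by
    by_contra hcon
    push Not at hcon
    obtain ⟨ξ, hξ, ξ', hξ', hne⟩ := hnc
    apply hne
    have := hdiff ξ hξ ξ' hξ'
    rw [hcon ξ hξ, hcon ξ' hξ', sub_zero] at this
    exact sub_eq_zero.mp this
  obtain ⟨ξs, hξs, hane⟩ := hex
  obtain ⟨ε, hε, hTε⟩ := hval ξs hξs hane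
  have hεne : (ε : ℂ) ≠ 0 := by
    rcases hε with rfl | rfl <;> norm_num
  have haε : classInner (T ξs) ψ = (ε : ℂ) := by
    rw [hTε, classInner_smul_left, irr_classInner_self hψ, mul_one]
  refine ⟨ξs, hξs, ε, hε, hTε, ?_⟩
  intro ξ hξ
  by_cases he : ξ = ξs
  · rw [if_pos he, he]; ring
  · rw [if_neg he, add_zero]
    -- a ξ = 0
    have ha0 : classInner (T ξ) ψ = 0 := by
      by_contra hne
      obtain ⟨ε', hε', hTε'⟩ := hval ξ hξ hne
      have h0 := hT3 ξ hξ ξs hξs he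
      rw [hTε, hTε', classInner_smul_left, classInner_smul_right, irr_classInner_self hψ] at h0
      have hε'ne : (ε' : ℂ) ≠ 0 := by
        rcases hε' with rfl | rfl <;> norm_num
      have hcε : conj (ε : ℂ) ≠ 0 := by
        rw [Ne, map_eq_zero]; exact hεne
      have := mul_ne_zero hε'ne (mul_ne_zero hcε one_ne_zero)
      exact this h0
    have := hdiff ξ hξ ξs hξs
    rw [ha0, haε] at this
    linear_combination this

/-- Two members of the same family have the same `P`-trivial part. -/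
theorem same_family (h : Hyp P V) (hTI : TIHyp P V) {ψ ψ' : G → ℂ} (hψ : IsIrrCharacter G ψ)
    (hψ' : IsIrrCharacter G ψ') (th0 : IrrCharacter ↥V) (hnc : NonConst ψ (fam h th0.1))
    (hnc' : NonConst ψ' (fam h th0.1)) (th : IrrCharacter ↥V)
    (hne : mm h (fun n : ↥N₀ => ψ n) (fun _ => 1) th.1 ≠ 0) :
    mm h (fun n : ↥N₀ => ψ' n) (fun _ => 1) th.1 ≠ 0 := by
  obtain ⟨T, hT1, hT2, hT3⟩ := exists_T h hTI th0 (htwo_of_nonConst hnc)
  obtain ⟨ξ, hξ, ε, hε, hTε, -⟩ := nonconst_struct hT1 hT2 hT3 hψ hnc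
  obtain ⟨ξ', hξ', ε', hε', hTε', -⟩ := nonconst_struct hT1 hT2 hT3 hψ' hnc'
  have hd := hT2 ξ hξ ξ' hξ'
  rw [hTε, hTε'] at hd
  -- restrict to N₀
  have hcfξ : IsClassFunction ↥N₀ (ξ - ξ') := by
    have h1 := isClassFunction_of_isCharacter (isCharacter_of_isIrrCharacter (fam_irr h th0 ξ hξ))
    have h2 := isClassFunction_of_isCharacter (isCharacter_of_isIrrCharacter (fam_irr h th0 ξ' hξ'))
    intro g x
    simp only [Pi.sub_apply]
    rw [h1 g x, h2 g x]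
  have hvan : ∀ n, n ∉ AA P V → (ξ - ξ') n = 0 := by
    intro n hn
    simp only [Pi.sub_apply]
    rw [fam_off_A h th0 ξ hξ ξ' hξ' n hn, sub_self]
  have hres : ∀ n : ↥N₀, (ε : ℂ) * ψ n - (ε' : ℂ) * ψ' n = ξ n - ξ' n := by
    intro n
    have h1 := BLPartG.indFun_restrict_of_TI N₀ (AA P V) hTI.toAA AA_inv (ξ - ξ') hcfξ hvan n
    rw [← hd] at h1
    simpa using h1
  have hfun : (ε : ℂ) • (fun n : ↥N₀ => ψ n) - (ε' : ℂ) • (fun n : ↥N₀ => ψ' n) = ξ - ξ' := by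
    funext n
    simpa using hres n
  have hmm := congrArg (fun F => mm h F (fun _ => 1) th.1) hfun
  simp only [mm_sub, mm_smul] at hmm
  obtain ⟨lam, hlne, rfl⟩ := hξ
  obtain ⟨lam', hlne', rfl⟩ := hξ'
  rw [mm_xi_one h th0.1 lam.2 hlne, mm_xi_one h th0.1 lam'.2 hlne', sub_zero] at hmm
  intro h0
  rw [h0, mul_zero, sub_zero] at hmm
  have hεne : (ε : ℂ) ≠ 0 := by
    rcases hε with rfl | rfl <;> norm_num
  rcases mul_eq_zero.mp hmm with h1 | h1
  · exact hεne h1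
  · exact hne h1

end Cfsg.Agent.H1.BL
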