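import Mathlib
import Cfsg.Agent.H1.BLF

/-!
# Brauer–Leonard: the level of `G` — Lemma C
-/

set_option autoImplicit false
set_option linter.style.haveILetI false
set_option linter.unusedSectionVars false
set_option linter.unusedVariables false

namespace Cfsg.Agent.H1.BL

open Cfsg Cfsg.Agent.Lib.helper3.Irr Cfsg.Agent.Lib.helper3.IndFun
open Cfsg.Agent.Lib.helper3.CharBasic Cfsg.Agent.Lib.helper3.Lin
open Cfsg.Agent.Lib.helper3
open scoped ComplexConjugate
open Classical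

variable {G : Type*} [Group G] [Fintype G] {N₀ : Subgroup G} {P V : Subgroup ↥N₀}
  [hPn : P.Normal] [hVn : V.Normal]

theorem ne_oneP_iff (lam : IrrCharacter ↥P) : lam ≠ oneP P ↔ (lam : ↥P → ℂ) ≠ fun _ => 1 := by
  constructor
  · intro hl e
    exact hl (Subtype.ext e)
  · intro hl e
    exact hl (congrArg Subtype.val e)

/-- The lower bound for the `Q`-sum over the family of `ψ`. -/
theorem family_bound (h : Hyp P V) (hTI : TIHyp P V)
    (he : (P ⊔ V).index ^ 2 + 1 < Nat.card ↥P)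
    {ψ : G → ℂ} (hψ : IsIrrCharacter G ψ) (th1 : IrrCharacter ↥V)
    (hnc : NonConst ψ (fam h th1.1)) :
    ((P ⊔ V).index : ℤ) * ((Nat.card ↥P : ℤ) - (P ⊔ V).index)
      ≤ ∑ th ∈ Finset.univ.filter (fun th : IrrCharacter ↥V => fam h th.1 = fam h th1.1),
          Qz h ψ th.1 := by
  have hψc := isCharacter_of_isIrrCharacter hψ
  have hf := isCharacter_restrict hψc N₀
  obtain ⟨T, hT1, hT2, hT3⟩ := exists_T h hTI th1 (htwo_of_nonConst hnc)
  obtain ⟨ξs, hξs, ε, hε, -, hform⟩ := nonconst_struct hT1 hT2 hT3 hψ hnc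
  obtain ⟨lams, hlsne, rfl⟩ := hξs
  have hepos : 0 < (P ⊔ V).index := Nat.pos_of_ne_zero (Subgroup.index_ne_zero_of_finite)
  have h2e : 2 * (P ⊔ V).index + 1 ≤ Nat.card ↥P := by nlinarith [sq_nonneg ((P ⊔ V).index - 1 : ℤ)]
  -- the formula in ℤ
  have hmZ : ∀ th : IrrCharacter ↥V, fam h th.1 = fam h th1.1 → ∀ lam : IrrCharacter ↥P,
      lam ≠ oneP P → mZ h ψ lam.1 th.1 = (mZ h ψ lams.1 th1.1 - ε)
        + if xi h lam.1 th.1 = xi h lams.1 th1.1 then ε else 0 := by
    intro th hth lam hlam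
    have hlne : (lam : ↥P → ℂ) ≠ fun _ => 1 := (ne_oneP_iff lam).mp hlam
    have hmem : xi h lam.1 th.1 ∈ fam h th1.1 := by
      rw [← hth]; exact ⟨lam, hlne, rfl⟩
    have h1 := hform _ hmem
    rw [classInner_xi' h hf lam th, classInner_xi' h hf lams th1, ← mZ_cast h hψc,
      ← mZ_cast h hψc] at h1
    have : ((mZ h ψ lam.1 th.1 : ℤ) : ℂ) = (((mZ h ψ lams.1 th1.1 - ε)
        + if xi h lam.1 th.1 = xi h lams.1 th1.1 then ε else 0 : ℤ) : ℂ) := by
      rw [h1]
      push_cast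
      split_ifs <;> simp
    exact_mod_cast this
  -- the sets
  set Z := Finset.univ.filter (fun z : IrrCharacter ↥P × IrrCharacter ↥V =>
      (z.1 : ↥P → ℂ) ≠ (fun _ => 1) ∧ xi h z.1.1 z.2.1 = xi h lams.1 th1.1) with hZdef
  have hZ : Z.card = (P ⊔ V).index := card_Z h lams.2 th1.2 hlsne
  let Sp : IrrCharacter ↥V → Finset (IrrCharacter ↥P) := fun th =>
    Finset.univ.filter (fun lam : IrrCharacter ↥P =>
      (lam : ↥P → ℂ) ≠ (fun _ => 1) ∧ xi h lam.1 th.1 = xi h lams.1 th1.1)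
  have hSp_le : ∀ th, (Sp th).card ≤ (P ⊔ V).index := by
    intro th
    rw [← hZ]
    apply Finset.card_le_card_of_injOn (fun lam => (lam, th))
    · intro lam hlam
      have := Finset.mem_filter.mp hlam
      exact Finset.mem_filter.mpr ⟨Finset.mem_univ _, this.2⟩
    · intro a _ b _ hab
      exact (Prod.ext_iff.mp hab).1
  have hSp_zero : ∀ th : IrrCharacter ↥V, fam h th.1 ≠ fam h th1.1 → (Sp th).card = 0 := by
    intro th hth
    rw [Finset.card_eq_zero, Finset.eq_empty_iff_forall_notMem]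
    intro lam hlam
    have := (Finset.mem_filter.mp hlam).2
    apply hth
    exact (fam_eq_of_xi_eq h lam.2 th.2 this.1 lams.2 th1.2 hlsne this.2).symm
  have hsumSp : ∑ th : IrrCharacter ↥V, (Sp th).card = (P ⊔ V).index := by
    rw [← hZ, hZdef, Finset.card_filter, Fintype.sum_prod_type, Finset.sum_comm]
    apply Finset.sum_congr rfl
    intro th _
    rw [Finset.card_filter]
  have hsumΘ : ∑ th ∈ Finset.univ.filter (fun th : IrrCharacter ↥V => fam h th.1 = fam h th1.1),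
      (Sp th).card = (P ⊔ V).index := by
    rw [← hsumSp, Finset.sum_filter]
    apply Finset.sum_congr rfl
    intro th _
    by_cases hth : fam h th.1 = fam h th1.1
    · rw [if_pos hth]
    · rw [if_neg hth, hSp_zero th hth]
  -- the bound for each θ of the family
  have hQ : ∀ th : IrrCharacter ↥V, fam h th.1 = fam h th1.1 →
      ((Sp th).card : ℤ) * ((Nat.card ↥P : ℤ) - (P ⊔ V).index) ≤ Qz h ψ th.1 := by
    intro th hth
    have hoSp : oneP P ∉ Sp th := by
      intro hmem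
      exact (Finset.mem_filter.mp hmem).2.1 rfl
    have hm : ∀ lam : IrrCharacter ↥P, lam ≠ oneP P →
        (fun lam : IrrCharacter ↥P => mZ h ψ lam.1 th.1) lam
          = (mZ h ψ lams.1 th1.1 - ε) + if lam ∈ Sp th then ε else 0 := by
      intro lam hlam
      have hlne : (lam : ↥P → ℂ) ≠ fun _ => 1 := (ne_oneP_iff lam).mp hlam
      show mZ h ψ lam.1 th.1 = _
      rw [hmZ th hth lam hlam]
      by_cases hx : xi h lam.1 th.1 = xi h lams.1 th1.1
      · have : lam ∈ Sp th := Finset.mem_filter.mpr ⟨Finset.mem_univ _, hlne, hx⟩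
        rw [if_pos hx, if_pos this]
      · have : lam ∉ Sp th := fun hmem => hx (Finset.mem_filter.mp hmem).2.2
        rw [if_neg hx, if_neg this]
    have hcard2 : 2 * (Sp th).card + 1 ≤ Fintype.card (IrrCharacter ↥P) := by
      rw [card_irrP h]
      have := hSp_le th
      omega
    have hlow := Q_lower' (oneP P) (Sp th) hoSp (fun lam : IrrCharacter ↥P => mZ h ψ lam.1 th.1)
      (mZ h ψ lams.1 th1.1 - ε) ε hε hm hcard2
    rw [card_irrP h] at hlow
    have hQz : Qz h ψ th.1 = (Nat.card ↥P : ℤ) * ∑ lam : IrrCharacter ↥P, mZ h ψ lam.1 th.1 ^ 2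
        - (∑ lam : IrrCharacter ↥P, mZ h ψ lam.1 th.1) ^ 2 := rfl
    rw [hQz]
    have hle : ((Sp th).card : ℤ) ≤ ((P ⊔ V).index : ℤ) := by exact_mod_cast hSp_le th
    have h0 : (0 : ℤ) ≤ ((Sp th).card : ℤ) := Int.natCast_nonneg _
    have hstep : ((Sp th).card : ℤ) * ((Nat.card ↥P : ℤ) - (P ⊔ V).index)
        ≤ ((Sp th).card : ℤ) * ((Nat.card ↥P : ℤ) - (Sp th).card) :=
      mul_le_mul_of_nonneg_left (by linarith) h0
    exact le_trans hstep hlow
  calc ((P ⊔ V).index : ℤ) * ((Nat.card ↥P : ℤ) - (P ⊔ V).index)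
      = ∑ th ∈ Finset.univ.filter (fun th : IrrCharacter ↥V => fam h th.1 = fam h th1.1),
          ((Sp th).card : ℤ) * ((Nat.card ↥P : ℤ) - (P ⊔ V).index) := by
        rw [← Finset.sum_mul, ← hsumΘ]
        push_cast
        rfl
    _ ≤ _ := by
        apply Finset.sum_le_sum
        intro th hth
        exact hQ th (Finset.mem_filter.mp hth).2

/-- **Lemma C.** -/
theorem lemmaC (h : Hyp P V) (hTI : TIHyp P V) (he : (P ⊔ V).index ^ 2 + 1 < Nat.card ↥P)
    {ψ : G → ℂ} (hψ : IsIrrCharacter G ψ) {k : ℕ} (hk : ψ 1 = k) (hkq : k + 1 < Nat.card ↥P)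
    (hx : ∃ x : ↥N₀, x ∈ P ∧ ψ x ≠ ψ 1) :
    ∃ th1 : IrrCharacter ↥V, NonConst ψ (fam h th1.1) ∧
      ∀ th : IrrCharacter ↥V, fam h th.1 ≠ fam h th1.1 → ∀ lam : IrrCharacter ↥P,
        mm h (fun n : ↥N₀ => ψ n) lam.1 th.1 = 0 := by
  have hψc := isCharacter_of_isIrrCharacter hψ
  have hf := isCharacter_restrict hψc N₀
  have hepos : 0 < (P ⊔ V).index := Nat.pos_of_ne_zero (Subgroup.index_ne_zero_of_finite)
  have h2e : 2 * (P ⊔ V).index + 1 ≤ Nat.card ↥P := by nlinarith [sq_nonneg ((P ⊔ V).index - 1 : ℤ)]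
  -- (N1)
  have hk' : (fun n : ↥N₀ => ψ n) 1 = k := by
    show ψ ((1 : ↥N₀) : G) = k
    rw [OneMemClass.coe_one, hk]
  obtain ⟨νs, hνne, hν0⟩ := exists_lam_zero h hf hk' hkq
  have hνzero : ∀ th : IrrCharacter ↥V, mm h (fun n : ↥N₀ => ψ n) νs.1 th.1 = 0 := by
    have h1 := classInner_resP h hf νs
    rw [hν0] at h1
    have hnat : ∀ th : IrrCharacter ↥V, ∃ j : ℕ,
        mm h (fun n : ↥N₀ => ψ n) νs.1 th.1 * (th : ↥V → ℂ) 1 = j := by
      intro th
      obtain ⟨a, ha⟩ := mm_nat h hf νs th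
      obtain ⟨b, -, hb⟩ := exists_pos_nat_apply_one th.2
      exact ⟨a * b, by rw [ha, hb]; push_cast; ring⟩
    choose j hj using hnat
    simp_rw [hj] at h1
    have h2 : ∑ th : IrrCharacter ↥V, j th = 0 := by exact_mod_cast h1.symm
    intro th
    have h3 : j th = 0 := (Finset.sum_eq_zero_iff.mp h2) th (Finset.mem_univ _)
    have h4 := hj th
    rw [h3] at h4
    obtain ⟨b, hbpos, hb⟩ := exists_pos_nat_apply_one th.2
    rw [hb] at h4
    have hbne : (b : ℂ) ≠ 0 := by exact_mod_cast hbpos.ne'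
    have h4' : mm h (fun n : ↥N₀ => ψ n) νs.1 th.1 * (b : ℂ) = 0 := by
      rw [h4]; simp
    rcases mul_eq_zero.mp h4' with h5 | h5
    · exact h5
    · exact absurd h5 hbne
  -- (N1'')
  obtain ⟨x, hxP, hxne⟩ := hx
  have hxne' : (fun n : ↥N₀ => ψ n) x ≠ (fun n : ↥N₀ => ψ n) 1 := by
    show ψ (x : G) ≠ ψ ((1 : ↥N₀) : G)
    rw [OneMemClass.coe_one]
    exact hxne
  obtain ⟨lam1, th1, hne1, hm1⟩ := exists_mm_ne_zero h hf ⟨⟨x, hxP⟩, hxne'⟩
  have hnc1 : NonConst ψ (fam h th1.1) := by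
    refine ⟨xi h lam1.1 th1.1, ⟨lam1, hne1, rfl⟩, xi h νs.1 th1.1, ⟨νs, hνne, rfl⟩, ?_⟩
    rw [classInner_xi' h hf lam1 th1, classInner_xi' h hf νs th1, hνzero th1]
    exact hm1
  refine ⟨th1, hnc1, ?_⟩
  have hB1 := family_bound h hTI he hψ th1 hnc1
  have hlt := sum_Qz_lt h hTI hψ
  intro th2 hth2
  -- ψ is not in the family of th2
  have hnot : ¬ NonConst ψ (fam h th2.1) := by
    intro hnc2
    have hB2 := family_bound h hTI he hψ th2 hnc2
    have hdisj : Disjoint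
        (Finset.univ.filter (fun th : IrrCharacter ↥V => fam h th.1 = fam h th1.1))
        (Finset.univ.filter (fun th : IrrCharacter ↥V => fam h th.1 = fam h th2.1)) := by
      rw [Finset.disjoint_filter]
      intro th _ h1 h2
      exact hth2 (h2.symm.trans h1)
    have hsub : ∑ th ∈ (Finset.univ.filter (fun th : IrrCharacter ↥V => fam h th.1 = fam h th1.1))
          ∪ (Finset.univ.filter (fun th : IrrCharacter ↥V => fam h th.1 = fam h th2.1)),
          Qz h ψ th.1 ≤ ∑ th : IrrCharacter ↥V, Qz h ψ th.1 :=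
      Finset.sum_le_sum_of_subset_of_nonneg (Finset.subset_univ _)
        (fun th _ _ => Qz_nonneg h ψ th.1)
    rw [Finset.sum_union hdisj] at hsub
    have hq : (2 : ℤ) * (P ⊔ V).index + 1 ≤ (Nat.card ↥P : ℤ) := by exact_mod_cast h2e
    have hep : (0 : ℤ) < ((P ⊔ V).index : ℤ) := by exact_mod_cast hepos
    nlinarith
  -- hence the multiplicities vanish for λ ≠ 1
  have hzero : ∀ lam : IrrCharacter ↥P, lam ≠ oneP P →
      mm h (fun n : ↥N₀ => ψ n) lam.1 th2.1 = 0 := by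
    intro lam hlam
    have hlne := (ne_oneP_iff lam).mp hlam
    by_contra hne
    apply hnot
    refine ⟨xi h lam.1 th2.1, ⟨lam, hlne, rfl⟩, xi h νs.1 th2.1, ⟨νs, hνne, rfl⟩, ?_⟩
    rw [classInner_xi' h hf lam th2, classInner_xi' h hf νs th2, hνzero th2]
    exact hne
  have hzeroZ : ∀ lam : IrrCharacter ↥P, lam ≠ oneP P → mZ h ψ lam.1 th2.1 = 0 := by
    intro lam hlam
    have := mZ_cast h hψc lam th2
    rw [hzero lam hlam] at this
    exact_mod_cast this
  -- Q for th2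
  have hQ2 : Qz h ψ th2.1 = ((Nat.card ↥P : ℤ) - 1) * mZ h ψ (oneP P).1 th2.1 ^ 2 := by
    have hQz : Qz h ψ th2.1 = (Nat.card ↥P : ℤ) * ∑ lam : IrrCharacter ↥P, mZ h ψ lam.1 th2.1 ^ 2
        - (∑ lam : IrrCharacter ↥P, mZ h ψ lam.1 th2.1) ^ 2 := rfl
    rw [hQz, Finset.sum_eq_single (oneP P), Finset.sum_eq_single (oneP P)]
    · ring
    · intro b _ hb
      exact hzeroZ b hb
    · intro hh; exact absurd (Finset.mem_univ _) hh
    · intro b _ hb
      rw [hzeroZ b hb]; ring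
    · intro hh; exact absurd (Finset.mem_univ _) hh
  have hth2notin : th2 ∉ Finset.univ.filter
      (fun th : IrrCharacter ↥V => fam h th.1 = fam h th1.1) := by
    intro hmem
    exact hth2 (Finset.mem_filter.mp hmem).2
  have hsub : ∑ th ∈ insert th2 (Finset.univ.filter
        (fun th : IrrCharacter ↥V => fam h th.1 = fam h th1.1)), Qz h ψ th.1
      ≤ ∑ th : IrrCharacter ↥V, Qz h ψ th.1 :=
    Finset.sum_le_sum_of_subset_of_nonneg (Finset.subset_univ _)
      (fun th _ _ => Qz_nonneg h ψ th.1)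
  rw [Finset.sum_insert hth2notin, hQ2] at hsub
  have hq : ((P ⊔ V).index : ℤ) ^ 2 + 1 < (Nat.card ↥P : ℤ) := by exact_mod_cast he
  have hm0 : mZ h ψ (oneP P).1 th2.1 = 0 := by
    by_contra hne
    have h1 : 1 ≤ mZ h ψ (oneP P).1 th2.1 ^ 2 := by
      have := sq_nonneg (mZ h ψ (oneP P).1 th2.1)
      have h2 : mZ h ψ (oneP P).1 th2.1 ^ 2 ≠ 0 := pow_ne_zero 2 hne
      omega
    nlinarith
  intro lam
  by_cases hlam : lam = oneP P
  · rw [hlam, ← mZ_cast h hψc, hm0]
    simp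
  · exact hzero lam hlam

end Cfsg.Agent.H1.BL
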