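import Mathlib
import Cfsg.Agent.H1.BLG
import Cfsg.Agent.Lib.helper3.NormTwo
import Cfsg.Agent.Lib.helper3.GenChar
import Cfsg.Agent.Lib.helper3.IndLin

/-!
# Brauer–Leonard: the core theorem
-/

set_option autoImplicit false
set_option linter.style.haveILetI false
set_option linter.unusedSectionVars false
set_option linter.unusedVariables false

namespace Cfsg.Agent.H1.BL

open Cfsg Cfsg.Agent.Lib.helper3.Irr Cfsg.Agent.Lib.helper3.IndFun
open Cfsg.Agent.Lib.helper3.CharBasic Cfsg.Agent.Lib.helper3.Lin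
open Cfsg.Agent.Lib.helper3
open scoped ComplexConjugate
open Classical

section aux

theorem sum_natCast_ne_zero {ι : Type*} [Fintype ι] (f : ι → ℂ) (hf : ∀ i, ∃ k : ℕ, f i = k)
    (i0 : ι) (h0 : f i0 ≠ 0) : ∑ i, f i ≠ 0 := by
  choose k hk using hf
  simp_rw [hk]
  have h1 : k i0 ≠ 0 := by
    intro e
    apply h0
    rw [hk, e]
    simp
  have h2 : ∑ i, k i ≠ 0 := by
    intro e
    have := (Finset.sum_eq_zero_iff.mp e) i0 (Finset.mem_univ _)
    exact h1 this
  exact_mod_cast h2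

/-- Inner products of a pulled-back decomposition. -/
theorem classInner_pull {G X : Type*} [Group G] [Fintype G] [Group X] [Fintype X] (j : X → G)
    (a : IrrCharacter G → ℕ) (φ : X → ℂ) :
    classInner (fun x : X => (∑ ψ : IrrCharacter G, (a ψ : ℂ) • (ψ : G → ℂ)) (j x)) φ
      = ∑ ψ : IrrCharacter G, (a ψ : ℂ) * classInner (fun x : X => (ψ : G → ℂ) (j x)) φ := by
  have : (fun x : X => (∑ ψ : IrrCharacter G, (a ψ : ℂ) • (ψ : G → ℂ)) (j x))
      = ∑ ψ : IrrCharacter G, (a ψ : ℂ) • (fun x : X => (ψ : G → ℂ) (j x)) := by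
    funext x
    simp only [Finset.sum_apply, Pi.smul_apply, smul_eq_mul]
  rw [this, classInner_sum_left]
  apply Finset.sum_congr rfl
  intro ψ _
  rw [classInner_smul_left]

end aux

variable {G : Type*} [Group G] [Fintype G] {N₀ : Subgroup G} {P V : Subgroup ↥N₀}
  [hPn : P.Normal] [hVn : V.Normal]

theorem fam_diff_class (h : Hyp P V) (th0 : IrrCharacter ↥V) {ξ ξ' : ↥N₀ → ℂ}
    (hξ : ξ ∈ fam h th0.1) (hξ' : ξ' ∈ fam h th0.1) :
    IsClassFunction ↥N₀ (ξ - ξ') ∧ ∀ n, n ∉ AA P V → (ξ - ξ') n = 0 := by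
  constructor
  · have h1 := isClassFunction_of_isCharacter (isCharacter_of_isIrrCharacter (fam_irr h th0 ξ hξ))
    have h2 := isClassFunction_of_isCharacter (isCharacter_of_isIrrCharacter (fam_irr h th0 ξ' hξ'))
    intro g x
    simp only [Pi.sub_apply]
    rw [h1 g x, h2 g x]
  · intro n hn
    simp only [Pi.sub_apply]
    rw [fam_off_A h th0 ξ hξ ξ' hξ' n hn, sub_self]

/-- Step (a): the second exceptional character. -/
theorem exists_chi_nu (h : Hyp P V) (hTI : TIHyp P V) {χ : G → ℂ} (hχ : IsIrrCharacter G χ)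
    {lam0 ν : IrrCharacter ↥P} {th0 : IrrCharacter ↥V} (hl0 : (lam0 : ↥P → ℂ) ≠ fun _ => 1)
    (hν : (ν : ↥P → ℂ) ≠ fun _ => 1)
    (hres : (fun n : ↥N₀ => χ n) = xi h lam0.1 th0.1)
    (hconj : ∀ n : ↥N₀, Irr.conjFun P lam0.1 n ≠ ν.1) :
    ∃ Y : G → ℂ, IsIrrCharacter G Y ∧ Y ≠ χ ∧ (fun n : ↥N₀ => Y n) = xi h ν.1 th0.1 := by
  have hχc := isCharacter_of_isIrrCharacter hχ
  have hcf := isClassFunction_of_isCharacter hχc
  have hm0 : xi h lam0.1 th0.1 ∈ fam h th0.1 := ⟨lam0, hl0, rfl⟩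
  have hmν : xi h ν.1 th0.1 ∈ fam h th0.1 := ⟨ν, hν, rfl⟩
  have hirr0 := fam_irr h th0 _ hm0
  have hirrν := fam_irr h th0 _ hmν
  have hne : xi h lam0.1 th0.1 ≠ xi h ν.1 th0.1 := by
    intro e
    obtain ⟨n, hn, -⟩ := xi_eq_imp h lam0.2 th0.2 hl0 ν.2 th0.2 hν e
    exact hconj n hn.symm
  obtain ⟨hcl, hvan⟩ := fam_diff_class h th0 hm0 hmν
  set Δ := xi h lam0.1 th0.1 - xi h ν.1 th0.1 with hΔ
  -- norm
  have hnorm : classInner (indFun N₀ Δ) (indFun N₀ Δ) = 2 := by
    rw [BLPartG.classInner_indFun_of_TI N₀ (AA P V) hTI.toAA AA_inv Δ Δ hcl hvan, hΔ,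
      classInner_sub_left, classInner_sub_right, classInner_sub_right,
      irr_classInner_self hirr0, irr_classInner_self hirrν,
      irr_classInner_eq_zero hirr0 hirrν hne, irr_classInner_eq_zero hirrν hirr0 (Ne.symm hne)]
    norm_num
  -- value at one
  have hone : indFun N₀ Δ 1 = 0 := by
    have h1 := BLPartG.indFun_restrict_of_TI N₀ (AA P V) hTI.toAA AA_inv Δ hcl hvan 1
    rw [OneMemClass.coe_one] at h1
    rw [h1, hΔ]
    simp only [Pi.sub_apply]
    rw [xi_one h th0.1 (lin_one h lam0.2), xi_one h th0.1 (lin_one h ν.2), sub_self]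
  -- generalized character
  have hgen : IsGeneralizedCharacter G (indFun N₀ Δ) := by
    have e : Δ = xi h lam0.1 th0.1 + (-1 : ℂ) • xi h ν.1 th0.1 := by
      rw [hΔ]; funext n; simp [sub_eq_add_neg]
    rw [e, indFun_add, indFun_smul]
    have g1 := GenChar.of_isCharacter (isCharacter_indFun N₀ _ (isCharacter_of_isIrrCharacter hirr0))
    have g2 := GenChar.of_isCharacter (isCharacter_indFun N₀ _ (isCharacter_of_isIrrCharacter hirrν))
    have g3 := GenChar.neg g2
    have e2 : (-1 : ℂ) • indFun N₀ (xi h ν.1 th0.1) = -(indFun N₀ (xi h ν.1 th0.1)) := by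
      funext g; simp
    rw [e2]
    exact GenChar.add g1 g3
  obtain ⟨X, Y, hXY, hΦ⟩ := exists_sub_of_norm_two hgen hnorm hone
  -- X = χ
  have hfrob := frobenius_reciprocity N₀ Δ χ hcf
  rw [hΦ, classInner_sub_left, irr_classInner_eq X.2 hχ, irr_classInner_eq Y.2 hχ, hres, hΔ,
    classInner_sub_left, irr_classInner_self hirr0,
    irr_classInner_eq_zero hirrν hirr0 (Ne.symm hne)] at hfrob
  have hX : (X : G → ℂ) = χ := by
    by_contra hX
    rw [if_neg hX] at hfrob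
    by_cases hY : (Y : G → ℂ) = χ
    · rw [if_pos hY] at hfrob
      norm_num at hfrob
    · rw [if_neg hY] at hfrob
      norm_num at hfrob
  refine ⟨Y, Y.2, ?_, ?_⟩
  · intro e
    apply hXY
    apply Subtype.ext
    rw [hX, e]
  · funext n
    have h1 := BLPartG.indFun_restrict_of_TI N₀ (AA P V) hTI.toAA AA_inv Δ hcl hvan n
    rw [hΦ, hΔ] at h1
    simp only [Pi.sub_apply] at h1
    rw [hX] at h1
    have h2 : χ (n : G) = xi h lam0.1 th0.1 n := congrFun hres n
    rw [h2] at h1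
    linear_combination (-1 : ℂ) * h1

end Cfsg.Agent.H1.BL
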