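import Mathlib
import Cfsg.Agent.H1.BLG
import Cfsg.Agent.Lib.helper3.BLConst
import Cfsg.Agent.Lib.helper3.NormTwo

/-!
# Brauer–Leonard: the core theorem
-/

set_option autoImplicit false
set_option linter.style.haveILetI false
set_option linter.unusedSectionVars false
set_option linter.unusedVariables false

namespace Cfsg.Agent.H1.BL

open Cfsg Cfsg.Agent.Lib.helper3.Irr Cfsg.Agent.Lib.helper3.IndFun
open Cfsg.Agent.Lib.helper3.CharBasic Cfsg.Agent.Lib.helper3.Lin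
open Cfsg.Agent.Lib.helper3 Cfsg.Agent.Lib.helper3.BLConst Cfsg.Agent.Lib.helper3.IndFunTI
open scoped ComplexConjugate
open Classical

variable {G : Type*} [Group G] [Fintype G] {N₀ : Subgroup G} {P V : Subgroup ↥N₀}
  [hPn : P.Normal] [hVn : V.Normal]

/-- Step (a): the companion character `χ_ν`. -/
theorem exists_chi_nu (h : Hyp P V) (hTI : TIHyp P V) {χ : G → ℂ} (hχ : IsIrrCharacter G χ)
    {lam0 ν : IrrCharacter ↥P} {th0 : IrrCharacter ↥V} (hne0 : lam0.1 ≠ fun _ => 1)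
    (hneν : ν.1 ≠ fun _ => 1)
    (hres : (fun n : ↥N₀ => χ n) = xi h lam0.1 th0.1)
    (hconj : ∀ n : ↥N₀, Cfsg.Agent.Lib.helper3.Irr.conjFun P lam0.1 n ≠ ν.1) :
    ∃ Y : G → ℂ, IsIrrCharacter G Y ∧ Y ≠ χ ∧ (fun n : ↥N₀ => Y n) = xi h ν.1 th0.1 := by
  have hirr0 := isIrrCharacter_xi h lam0.2 th0.2 hne0
  have hirrν := isIrrCharacter_xi h ν.2 th0.2 hneν
  have hne : xi h lam0.1 th0.1 ≠ xi h ν.1 th0.1 := by
    intro heq
    obtain ⟨n, hn, -⟩ := xi_eq_imp h lam0.2 th0.2 hne0 ν.2 th0.2 hneν heq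
    exact hconj n hn.symm
  have hvan : ∀ n, n ∉ AA P V → (xi h lam0.1 th0.1 - xi h ν.1 th0.1) n = 0 := by
    intro n hn
    rw [Pi.sub_apply, xi_eq_off_A h th0.1 (lin_one h lam0.2) (lin_one h ν.2) hn, sub_self]
  have hcf0 := isClassFunction_of_isCharacter (isCharacter_of_isIrrCharacter hirr0)
  have hcfν := isClassFunction_of_isCharacter (isCharacter_of_isIrrCharacter hirrν)
  have hcf : IsClassFunction ↥N₀ (xi h lam0.1 th0.1 - xi h ν.1 th0.1) := by
    intro g k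
    rw [Pi.sub_apply, Pi.sub_apply, hcf0 g k, hcfν g k]
  have hχcf := isClassFunction_of_isCharacter (isCharacter_of_isIrrCharacter hχ)
  have hgen : IsGeneralizedCharacter G (indFun N₀ (xi h lam0.1 th0.1 - xi h ν.1 th0.1)) :=
    FP.isGeneralizedCharacter_indFun N₀
      (GenChar.sub (GenChar.of_isIrrCharacter hirr0) (GenChar.of_isIrrCharacter hirrν))
  have hnorm : classInner (indFun N₀ (xi h lam0.1 th0.1 - xi h ν.1 th0.1))
      (indFun N₀ (xi h lam0.1 th0.1 - xi h ν.1 th0.1)) = 2 := by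
    rw [BLPartG.classInner_indFun_of_TI N₀ (AA P V) hTI.toAA AA_inv _ _ hcf hvan,
      classInner_sub_left, classInner_sub_right, classInner_sub_right,
      irr_classInner_self hirr0, irr_classInner_self hirrν,
      irr_classInner_eq_zero hirr0 hirrν hne, irr_classInner_eq_zero hirrν hirr0 hne.symm]
    norm_num
  have h1 : indFun N₀ (xi h lam0.1 th0.1 - xi h ν.1 th0.1) 1 = 0 :=
    indFun_one_of_apply_one_eq_zero N₀ _ (hvan 1 one_not_mem_AA)
  obtain ⟨X, Y, hXY, hΦ⟩ := exists_sub_of_norm_two hgen hnorm h1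
  have hfrob : classInner (indFun N₀ (xi h lam0.1 th0.1 - xi h ν.1 th0.1)) χ = 1 := by
    rw [frobenius_reciprocity N₀ _ χ hχcf, hres, classInner_sub_left,
      irr_classInner_self hirr0, irr_classInner_eq_zero hirrν hirr0 hne.symm, sub_zero]
  rw [hΦ, classInner_sub_left, irr_classInner_eq X.2 hχ, irr_classInner_eq Y.2 hχ] at hfrob
  have hX : (X : G → ℂ) = χ := by
    by_contra hX
    rw [if_neg hX] at hfrob
    by_cases hY : (Y : G → ℂ) = χ
    · rw [if_pos hY] at hfrob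
      norm_num at hfrob
    · rw [if_neg hY] at hfrob
      norm_num at hfrob
  have hY : (Y : G → ℂ) ≠ χ := by
    intro hY
    rw [if_pos hX, if_pos hY] at hfrob
    norm_num at hfrob
  refine ⟨Y, Y.2, hY, ?_⟩
  funext n
  have h2 := BLPartG.indFun_restrict_of_TI N₀ (AA P V) hTI.toAA AA_inv _ hcf hvan n
  rw [hΦ, hX] at h2
  have h3 : χ n = xi h lam0.1 th0.1 n := congrFun hres n
  simp only [Pi.sub_apply] at h2
  rw [h3] at h2
  have h4 : (Y : G → ℂ) n = xi h ν.1 th0.1 n := by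
    linear_combination -h2
  exact h4

/-- The norm of the restriction to `P` is at least the degree. -/
theorem le_norm_resP (h : Hyp P V) {f : ↥N₀ → ℂ} (hf : IsCharacter ↥N₀ f) {d : ℕ}
    (hd : f 1 = d) :
    ∃ r : ℕ, classInner (fun x : ↥P => f x) (fun x : ↥P => f x) = r ∧ d ≤ r := by
  have hP := isCharacter_restrict hf P
  obtain ⟨m, hm⟩ := exists_decomposition_of_isCharacter hP
  refine ⟨∑ lam : IrrCharacter ↥P, m lam ^ 2, ?_, ?_⟩
  · rw [hm, classInner_self_decomposition]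
  · have h1 := congrFun hm 1
    simp only [Finset.sum_apply, Pi.smul_apply, smul_eq_mul, OneMemClass.coe_one] at h1
    rw [hd] at h1
    have h2 : (d : ℂ) = ((∑ lam : IrrCharacter ↥P, m lam : ℕ) : ℂ) := by
      rw [h1]
      push_cast
      apply Finset.sum_congr rfl
      intro lam _
      rw [lin_one h lam.2, mul_one]
    have h3 : d = ∑ lam : IrrCharacter ↥P, m lam := by exact_mod_cast h2
    rw [h3]
    apply Finset.sum_le_sum
    intro lam _
    nlinarith [Nat.zero_le (m lam)]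

theorem sum_mm_ne_zero (h : Hyp P V) {f : ↥N₀ → ℂ} (hf : IsCharacter ↥N₀ f)
    (lam : IrrCharacter ↥P) (th : IrrCharacter ↥V) (hne : mm h f lam.1 th.1 ≠ 0) :
    ∑ lam' : IrrCharacter ↥P, mm h f lam'.1 th.1 ≠ 0 := by
  choose n hn using fun lam' : IrrCharacter ↥P => mm_nat h hf lam' th
  have h1 : ∑ lam' : IrrCharacter ↥P, mm h f lam'.1 th.1
      = ((∑ lam' : IrrCharacter ↥P, n lam' : ℕ) : ℂ) := by
    push_cast
    exact Finset.sum_congr rfl (fun lam' _ => hn lam')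
  rw [h1]
  have hn0 : n lam ≠ 0 := by
    intro h0
    apply hne
    rw [hn lam, h0]
    simp
  have h2 : n lam ≤ ∑ lam' : IrrCharacter ↥P, n lam' :=
    Finset.single_le_sum (f := fun lam' : IrrCharacter ↥P => n lam') (fun _ _ => Nat.zero_le _)
      (Finset.mem_univ lam)
  have h3 : (∑ lam' : IrrCharacter ↥P, n lam') ≠ 0 := by omega
  exact_mod_cast h3

theorem sum_mm_mul_ne_zero (h : Hyp P V) {f : ↥N₀ → ℂ} (hf : IsCharacter ↥N₀ f)
    (lam : IrrCharacter ↥P) (th : IrrCharacter ↥V) (hne : mm h f lam.1 th.1 ≠ 0) :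
    ∑ th' : IrrCharacter ↥V, mm h f lam.1 th'.1 * (th' : ↥V → ℂ) 1 ≠ 0 := by
  choose n hn using fun th' : IrrCharacter ↥V => mm_nat h hf lam th'
  choose dg hdg0 hdg using fun th' : IrrCharacter ↥V => exists_pos_nat_apply_one th'.2
  have h1 : ∑ th' : IrrCharacter ↥V, mm h f lam.1 th'.1 * (th' : ↥V → ℂ) 1
      = ((∑ th' : IrrCharacter ↥V, n th' * dg th' : ℕ) : ℂ) := by
    push_cast
    apply Finset.sum_congr rfl
    intro th' _
    rw [hn th', hdg th']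
  rw [h1]
  have hn0 : n th ≠ 0 := by
    intro h0
    apply hne
    rw [hn th, h0]
    simp
  have h2 : n th * dg th ≤ ∑ th' : IrrCharacter ↥V, n th' * dg th' :=
    Finset.single_le_sum (f := fun th' : IrrCharacter ↥V => n th' * dg th')
      (fun _ _ => Nat.zero_le _) (Finset.mem_univ th)
  have h3 : 0 < n th * dg th := Nat.mul_pos (Nat.pos_of_ne_zero hn0) (hdg0 th)
  have h4 : (∑ th' : IrrCharacter ↥V, n th' * dg th') ≠ 0 := by omega
  exact_mod_cast h4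

/-- Inner product of a product `a · conj b` with the principal character, along a homomorphism. -/
theorem classInner_mul_conj_one {H : Type*} [Group H] [Fintype H] (f : H →* G) (a b : G → ℂ) :
    classInner (fun x => (a * fun g => conj (b g)) (f x)) (fun _ : H => (1 : ℂ))
      = classInner (fun x => a (f x)) (fun x => b (f x)) := by
  rw [classInner_apply, classInner_apply]
  congr 1
  apply Finset.sum_congr rfl
  intro x _
  simp

/-- **The core theorem.** -/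
theorem core {G : Type*} [Group G] [Fintype G] (N₀ : Subgroup G) (P V : Subgroup ↥N₀) [P.Normal] [V.Normal] (h : Hyp P V) (hTI : ∀ a : ↥N₀, a ∈ P ⊔ V → a ∉ V → ∀ y : G, y * (a : G) * y⁻¹ ∈ N₀ → y ∈ N₀) (hH : ∀ ψ : G → ℂ, IsIrrCharacter G ψ → ψ ≠ (fun _ => 1) → ∃ x : ↥N₀, x ∈ P ∧ ψ x ≠ ψ 1) (χ : G → ℂ) (hχ : IsIrrCharacter G χ) (hχ1 : χ ≠ fun _ => 1) (d : ℕ) (hd : χ 1 = d) (hdq : d ^ 2 + 1 < Nat.card ↥P) : d = 1 ∧ P ⊔ V = ⊤ := by
  have hTI' : TIHyp P V := hTI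
  have hχc := isCharacter_of_isIrrCharacter hχ
  obtain ⟨lam0, th0, hne0, hres⟩ := lemmaA h hTI' hχ (hH χ hχ hχ1) hd hdq
  obtain ⟨k0, hk0, hth0⟩ := exists_pos_nat_apply_one th0.2
  have hde : d = (P ⊔ V).index * k0 := by
    have h1 := congrFun hres 1
    simp only [OneMemClass.coe_one] at h1
    rw [hd, xi_one h th0.1 (lin_one h lam0.2), hth0] at h1
    exact_mod_cast h1
  by_cases hd1 : d = 1
  · refine ⟨hd1, ?_⟩
    rw [hd1] at hde
    have : (P ⊔ V).index = 1 := Nat.eq_one_of_mul_eq_one_right hde.symm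
    exact Subgroup.index_eq_one.mp this
  exfalso
  have he0 : (P ⊔ V).index ≠ 0 := Subgroup.index_ne_zero_of_finite
  have hd0 : d ≠ 0 := by
    rw [hde]
    exact Nat.mul_ne_zero he0 hk0.ne'
  have hd2 : 2 ≤ d := by omega
  have hed : (P ⊔ V).index ≤ d := by
    rw [hde]
    exact Nat.le_mul_of_pos_right _ hk0
  have hdd : d ≤ d ^ 2 := by nlinarith
  have he : (P ⊔ V).index ^ 2 + 1 < Nat.card ↥P := by
    have : (P ⊔ V).index ^ 2 ≤ d ^ 2 := Nat.pow_le_pow_left hed 2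
    omega
  have hf : IsCharacter ↥N₀ (fun n : ↥N₀ => χ n) := isCharacter_restrict hχc N₀
  have hf1' : (fun n : ↥N₀ => χ n) 1 = d := by
    show χ ((1 : ↥N₀) : G) = d
    rw [OneMemClass.coe_one]
    exact hd
  obtain ⟨ν, hνne, hνz⟩ := exists_lam_zero h hf hf1' (by omega)
  have hνz' : classInner (fun x : ↥P => xi h lam0.1 th0.1 x) (ν : ↥P → ℂ) = 0 := by
    rw [← hres]
    exact hνz
  have hconj : ∀ n : ↥N₀, Cfsg.Agent.Lib.helper3.Irr.conjFun P lam0.1 n ≠ ν.1 :=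
    fun n => conjFun_ne_of_classInner_eq_zero h lam0.2 th0.2 ν.2 hνz' n
  obtain ⟨Y, hYirr, hYne, hYres⟩ := exists_chi_nu h hTI' hχ hne0 hνne hres hconj
  have hYc := isCharacter_of_isIrrCharacter hYirr
  -- the two homomorphisms
  obtain ⟨fP, hfP⟩ : ∃ fP : ↥P →* G, fP = N₀.subtype.comp P.subtype := ⟨_, rfl⟩
  obtain ⟨fV, hfV⟩ : ∃ fV : ↥V →* G, fV = N₀.subtype.comp V.subtype := ⟨_, rfl⟩
  have hfPa : ∀ x : ↥P, fP x = ((x : ↥N₀) : G) := by
    intro x
    rw [hfP]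
    rfl
  have hfVa : ∀ v : ↥V, fV v = ((v : ↥N₀) : G) := by
    intro v
    rw [hfV]
    rfl
  -- (b)
  obtain ⟨Ψ, hΨdef⟩ : ∃ Ψ : G → ℂ, Ψ = χ * fun g => conj (χ g) := ⟨_, rfl⟩
  have hΨ : IsCharacter G Ψ := by
    rw [hΨdef]
    exact isCharacter_mul hχc (isCharacter_conj hχc)
  have hΨ1 : classInner Ψ (fun _ => (1 : ℂ)) = 1 := by
    have := classInner_mul_conj_one (MonoidHom.id G) χ χ
    simp only [MonoidHom.id_apply] at this
    rw [hΨdef]
    rw [show (fun x => (χ * fun g => conj (χ g)) x) = (χ * fun g => conj (χ g)) from rfl] at this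
    rw [this]
    exact irr_classInner_self hχ
  obtain ⟨r, hr, hdr⟩ := le_norm_resP h hf hf1'
  have hΨP : classInner (fun x : ↥P => Ψ (fP x)) (fun _ : ↥P => (1 : ℂ)) = r := by
    rw [hΨdef, classInner_mul_conj_one fP χ χ, ← hr]
    congr 1 <;> funext x <;> rw [hfPa]
  obtain ⟨ψ1, hψ1ne, hψ1a, hψ1P⟩ := exists_nonprincipal_constituent fP hΨ hΨ1 hΨP (by omega)
  obtain ⟨k1, hk1pos, hk1⟩ := exists_pos_nat_apply_one ψ1.2
  have hΨdeg : Ψ 1 = ((d * d : ℕ) : ℂ) := by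
    rw [hΨdef, Pi.mul_apply, hd, Complex.conj_natCast]
    push_cast
    ring
  have hk1le : k1 + 1 ≤ d * d :=
    degree_succ_le_of_constituent hΨ (by rw [hΨ1]; exact one_ne_zero) ψ1 hψ1ne hψ1a hΨdeg hk1
  have hk1q : k1 + 1 < Nat.card ↥P := by nlinarith
  obtain ⟨th1, hnc1, hvan1⟩ := lemmaC h hTI' he ψ1.2 hk1 hk1q (hH ψ1.1 ψ1.2 hψ1ne)
  have hg1 : IsCharacter ↥N₀ (fun n : ↥N₀ => (ψ1 : G → ℂ) n) :=
    isCharacter_restrict (isCharacter_of_isIrrCharacter ψ1.2) N₀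
  have hresP1 := classInner_resP h hg1 (oneP P)
  have hψ1P' : classInner (fun x : ↥P => (fun n : ↥N₀ => (ψ1 : G → ℂ) n) x) ((oneP P : IrrCharacter ↥P) : ↥P → ℂ)
      ≠ 0 := by
    intro h0
    apply hψ1P
    rw [← h0]
    congr 1
    funext x
    rw [hfPa]
  rw [hresP1] at hψ1P'
  obtain ⟨th2, -, hth2⟩ := Finset.exists_ne_zero_of_sum_ne_zero hψ1P'
  have hm1 : mm h (fun n : ↥N₀ => (ψ1 : G → ℂ) n) (fun _ => 1) th2.1 ≠ 0 := left_ne_zero_of_mul hth2
  have hfam1 : fam h th2.1 = fam h th1.1 := by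
    by_contra hne
    exact hm1 (hvan1 th2 hne (oneP P))
  have hnc1' : NonConst (ψ1 : G → ℂ) (fam h th2.1) := by
    rw [hfam1]
    exact hnc1
  -- (c)
  obtain ⟨Ψν, hΨνdef⟩ : ∃ Ψν : G → ℂ, Ψν = χ * fun g => conj (Y g) := ⟨_, rfl⟩
  have hΨν : IsCharacter G Ψν := by
    rw [hΨνdef]
    exact isCharacter_mul hχc (isCharacter_conj hYc)
  have hYV : ∀ v : ↥V, Y ((v : ↥N₀) : G) = χ ((v : ↥N₀) : G) := by
    intro v
    have h1 : Y ((v : ↥N₀) : G) = xi h ν.1 th0.1 (v : ↥N₀) := congrFun hYres (v : ↥N₀)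
    have h2 : χ ((v : ↥N₀) : G) = xi h lam0.1 th0.1 (v : ↥N₀) := congrFun hres (v : ↥N₀)
    rw [h1, h2]
    exact xi_eq_off_A h th0.1 (lin_one h ν.2) (lin_one h lam0.2) (fun hh => hh.2 v.2)
  have hVeq : (fun v : ↥V => Ψν (fV v)) = fun v : ↥V => Ψ (fV v) := by
    funext v
    rw [hΨνdef, hΨdef, Pi.mul_apply, Pi.mul_apply, hfVa, hYV]
  have hresV1 := classInner_resV h hg1 th2
  have hψ1V : classInner (fun v : ↥V => (ψ1 : G → ℂ) (fV v)) (th2 : ↥V → ℂ) ≠ 0 := by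
    have h1 := sum_mm_ne_zero h hg1 (oneP P) th2 hm1
    rw [← hresV1] at h1
    intro h0
    apply h1
    rw [← h0]
    congr 1
    funext v
    rw [hfVa]
  have hΨV : classInner (fun v : ↥V => Ψ (fV v)) (th2 : ↥V → ℂ) ≠ 0 :=
    comp_ne_zero_of_constituent fV hΨ th2 ψ1 hψ1a hψ1V
  rw [← hVeq] at hΨV
  obtain ⟨ψ2, hψ2a, hψ2V⟩ := exists_constituent_of_comp_ne_zero fV hΨν (th2 : ↥V → ℂ) hΨV
  have hg2 : IsCharacter ↥N₀ (fun n : ↥N₀ => (ψ2 : G → ℂ) n) :=
    isCharacter_restrict (isCharacter_of_isIrrCharacter ψ2.2) N₀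
  have hresV2 := classInner_resV h hg2 th2
  have hψ2V' : classInner (fun v : ↥V => (fun n : ↥N₀ => (ψ2 : G → ℂ) n) v) (th2 : ↥V → ℂ) ≠ 0 := by
    intro h0
    apply hψ2V
    rw [← h0]
    congr 1
    funext v
    rw [hfVa]
  rw [hresV2] at hψ2V'
  obtain ⟨μ, -, hμ⟩ := Finset.exists_ne_zero_of_sum_ne_zero hψ2V'
  have hχY : classInner χ Y = 0 := irr_classInner_eq_zero hχ hYirr (fun hh => hYne hh.symm)
  have hΨν1 : classInner Ψν (fun _ => (1 : ℂ)) = 0 := by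
    have := classInner_mul_conj_one (MonoidHom.id G) χ Y
    simp only [MonoidHom.id_apply] at this
    rw [hΨνdef]
    rw [show (fun x => (χ * fun g => conj (Y g)) x) = (χ * fun g => conj (Y g)) from rfl] at this
    rw [this]
    exact hχY
  have hψ2ne : (ψ2 : G → ℂ) ≠ fun _ => 1 := by
    intro hh
    rw [hh] at hψ2a
    exact hψ2a hΨν1
  obtain ⟨k2, hk2pos, hk2⟩ := exists_pos_nat_apply_one ψ2.2
  have hY1 : Y 1 = d := by
    have h1 := congrFun hYres 1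
    simp only [OneMemClass.coe_one] at h1
    rw [h1, xi_one h th0.1 (lin_one h ν.2), hth0, hde]
    push_cast
    ring
  have hΨνdeg : Ψν 1 = ((d * d : ℕ) : ℂ) := by
    rw [hΨνdef, Pi.mul_apply, hd, hY1, Complex.conj_natCast]
    push_cast
    ring
  have hk2le : k2 ≤ d * d := degree_le_of_constituent hΨν ψ2 hψ2a hΨνdeg hk2
  have hk2q : k2 + 1 < Nat.card ↥P := by nlinarith
  obtain ⟨th3, hnc2, hvan2⟩ := lemmaC h hTI' he ψ2.2 hk2 hk2q (hH ψ2.1 ψ2.2 hψ2ne)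
  have hfam2 : fam h th2.1 = fam h th3.1 := by
    by_contra hne
    exact hμ (hvan2 th2 hne μ)
  have hnc2' : NonConst (ψ2 : G → ℂ) (fam h th2.1) := by
    rw [hfam2]
    exact hnc2
  -- (d)
  have hm2 : mm h (fun n : ↥N₀ => (ψ2 : G → ℂ) n) (fun _ => 1) th2.1 ≠ 0 :=
    same_family h hTI' ψ1.2 ψ2.2 th2 hnc1' hnc2' th2 hm1
  have hresP2 := classInner_resP h hg2 (oneP P)
  have hψ2P : classInner (fun x : ↥P => (ψ2 : G → ℂ) (fP x)) ((oneP P : IrrCharacter ↥P) : ↥P → ℂ)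
      ≠ 0 := by
    have h1 := sum_mm_mul_ne_zero h hg2 (oneP P) th2 hm2
    rw [← hresP2] at h1
    intro h0
    apply h1
    rw [← h0]
    congr 1
    funext x
    rw [hfPa]
  have hΨνP : classInner (fun x : ↥P => Ψν (fP x)) ((oneP P : IrrCharacter ↥P) : ↥P → ℂ) ≠ 0 :=
    comp_ne_zero_of_constituent fP hΨν (oneP P) ψ2 hψ2a hψ2P
  apply hΨνP
  have h5 : classInner (fun x : ↥P => Ψν (fP x)) (fun _ : ↥P => (1 : ℂ))
      = classInner (fun x : ↥P => χ (fP x)) (fun x : ↥P => Y (fP x)) := by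
    rw [hΨνdef]
    exact classInner_mul_conj_one fP χ Y
  have h6 : (fun x : ↥P => χ (fP x)) = fun x : ↥P => xi h lam0.1 th0.1 x := by
    funext x
    rw [hfPa]
    exact congrFun hres (x : ↥N₀)
  have h7 : (fun x : ↥P => Y (fP x)) = fun x : ↥P => xi h ν.1 th0.1 x := by
    funext x
    rw [hfPa]
    exact congrFun hYres (x : ↥N₀)
  show classInner (fun x : ↥P => Ψν (fP x)) (fun _ : ↥P => (1 : ℂ)) = 0
  rw [h5, h6, h7]
  exact classInner_resP_xi_xi h th0.1 th0.1 lam0.2 ν.2 hconj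

end Cfsg.Agent.H1.BL
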