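import Mathlib

set_option autoImplicit false
set_option linter.style.haveILetI false
set_option linter.unusedSectionVars false
set_option linter.unusedVariables false

/-!
# Group theory of CA-groups of odd order (Suzuki), for S0182

In a finite non-solvable group all of whose proper subgroups are solvable and in which the
centralizer of every non-identity element is abelian, the centralizers `C(x)`, `x ≠ 1`, are
abelian TI Hall subgroups, each strictly smaller than its normalizer, any two of them conjugate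
or of coprime orders.
-/

namespace Cfsg.Agent.H1.CA

open Subgroup

universe u

section basic

variable {G : Type u} [Group G]

/-- The centralizer of a single element. -/
abbrev cent (x : G) : Subgroup G := Subgroup.centralizer ({x} : Set G)

theorem mem_cent {x y : G} : y ∈ cent x ↔ y * x = x * y :=
  Subgroup.mem_centralizer_singleton_iff

theorem self_mem_cent (x : G) : x ∈ cent x := mem_cent.mpr rfl

/-- In a CA-group, `C(a) = C(x)` for every non-identity `a ∈ C(x)`. -/
theorem cent_eq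
    (hCA : ∀ x : G, x ≠ 1 → ∀ a ∈ cent x, ∀ b ∈ cent x, a * b = b * a)
    {x a : G} (hx : x ≠ 1) (ha : a ∈ cent x) (ha1 : a ≠ 1) : cent a = cent x := by
  ext b
  constructor
  · intro hb
    rw [mem_cent]
    have hxa : x ∈ cent a := by
      rw [mem_cent]
      exact (mem_cent.mp ha).symm
    exact hCA a ha1 b hb x hxa
  · intro hb
    rw [mem_cent]
    exact hCA x hx b hb a ha

/-- Conjugation of centralizers, elementwise. -/
theorem mem_cent_conj (g x y : G) : y ∈ cent (g * x * g⁻¹) ↔ g⁻¹ * y * g ∈ cent x := by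
  rw [mem_cent, mem_cent]
  constructor
  · intro h
    calc g⁻¹ * y * g * x = g⁻¹ * (y * (g * x * g⁻¹)) * g := by group
      _ = g⁻¹ * ((g * x * g⁻¹) * y) * g := by rw [h]
      _ = x * (g⁻¹ * y * g) := by group
  · intro h
    calc y * (g * x * g⁻¹) = g * ((g⁻¹ * y * g) * x) * g⁻¹ := by group
      _ = g * (x * (g⁻¹ * y * g)) * g⁻¹ := by rw [h]
      _ = g * x * g⁻¹ * y := by group

theorem conj_ne_one {g x : G} (hx : x ≠ 1) : g * x * g⁻¹ ≠ 1 := by
  intro h
  apply hx
  have : x = g⁻¹ * (g * x * g⁻¹) * g := by group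
  rw [this, h]
  group

/-- The TI property of `C(x)`. -/
theorem cent_TI
    (hCA : ∀ x : G, x ≠ 1 → ∀ a ∈ cent x, ∀ b ∈ cent x, a * b = b * a)
    {x : G} (hx : x ≠ 1) (g : G) (hg : g ∉ Subgroup.normalizer ((cent x : Subgroup G) : Set G))
    (k : G) (hk : k ∈ cent x) (hgk : g * k * g⁻¹ ∈ cent x) : k = 1 := by
  by_contra hk1
  apply hg
  have h1 : cent k = cent x := cent_eq hCA hx hk hk1
  have h2 : cent (g * k * g⁻¹) = cent x := cent_eq hCA hx hgk (conj_ne_one hk1)
  rw [Subgroup.mem_normalizer_iff]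
  intro n
  have e1 : n ∈ cent x ↔ n ∈ cent k := by rw [h1]
  have e2 : g * n * g⁻¹ ∈ cent x ↔ g * n * g⁻¹ ∈ cent (g * k * g⁻¹) := by rw [h2]
  rw [e1, e2, mem_cent_conj]
  have : g⁻¹ * (g * n * g⁻¹) * g = n := by group
  rw [this]

/-- If `g` conjugates a non-identity element of `C(x)` into `C(x)`, then `g` normalizes `C(x)`. -/
theorem mem_normalizer_of_conj_mem
    (hCA : ∀ x : G, x ≠ 1 → ∀ a ∈ cent x, ∀ b ∈ cent x, a * b = b * a)
    {x : G} (hx : x ≠ 1) (g : G) (k : G) (hk : k ∈ cent x) (hk1 : k ≠ 1)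
    (hgk : g * k * g⁻¹ ∈ cent x) : g ∈ Subgroup.normalizer ((cent x : Subgroup G) : Set G) := by
  by_contra hg
  exact hk1 (cent_TI hCA hx g hg k hk hgk)

end basic

section finite

variable {G : Type u} [Group G] [Finite G]

/-- `C(x)` contains a full Sylow `p`-subgroup of `G` for every prime `p` dividing its order. -/
theorem exists_sylow_le
    (hCA : ∀ x : G, x ≠ 1 → ∀ a ∈ cent x, ∀ b ∈ cent x, a * b = b * a)
    {x : G} (hx : x ≠ 1) (p : ℕ) [hp : Fact p.Prime] (hdvd : p ∣ Nat.card (cent x)) :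
    ∃ P : Sylow p G, (P : Subgroup G) ≤ cent x ∧ ∃ a ∈ (P : Subgroup G), a ≠ 1 := by
  obtain ⟨a, ha⟩ := exists_prime_orderOf_dvd_card' p hdvd
  have ha1 : (a : G) ≠ 1 := by
    intro h
    have h' : a = 1 := Subtype.ext h
    rw [h', orderOf_one] at ha
    exact hp.out.one_lt.ne ha
  have hord : orderOf (a : G) = p := by
    rw [← ha]
    exact Subgroup.orderOf_coe a
  have hpg : IsPGroup p (Subgroup.zpowers (a : G)) := by
    apply IsPGroup.of_card (n := 1)
    rw [Nat.card_zpowers, hord, pow_one]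
  obtain ⟨P, hP⟩ := hpg.exists_le_sylow
  have haP : (a : G) ∈ (P : Subgroup G) := hP (Subgroup.mem_zpowers _)
  haveI : Nontrivial (P : Subgroup G) := by
    refine ⟨⟨⟨(a : G), haP⟩, 1, ?_⟩⟩
    intro h
    exact ha1 (congrArg Subtype.val h)
  haveI : Nontrivial (Subgroup.center (P : Subgroup G)) := P.2.center_nontrivial
  obtain ⟨z, hz1⟩ := exists_ne (1 : Subgroup.center (P : Subgroup G))
  have hzc : ∀ y : (P : Subgroup G), y * (z : (P : Subgroup G)) = (z : (P : Subgroup G)) * y := by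
    intro y
    exact (Subgroup.mem_center_iff.mp z.2 y)
  have hzG1 : (((z : (P : Subgroup G)) : G)) ≠ 1 := by
    intro h
    apply hz1
    apply Subtype.ext
    apply Subtype.ext
    exact h
  have hca : cent (a : G) = cent x := cent_eq hCA hx a.2 ha1
  have hza : (((z : (P : Subgroup G)) : G)) ∈ cent (a : G) := by
    rw [mem_cent]
    have := hzc ⟨(a : G), haP⟩
    exact (congrArg Subtype.val this).symm
  have hzx : (((z : (P : Subgroup G)) : G)) ∈ cent x := hca ▸ hza
  have hcz : cent (((z : (P : Subgroup G)) : G)) = cent x := cent_eq hCA hx hzx hzG1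
  refine ⟨P, ?_, (a : G), haP, ha1⟩
  intro y hy
  rw [← hcz, mem_cent]
  exact congrArg Subtype.val (hzc ⟨y, hy⟩)

/-- Two centralizers of non-identity elements are conjugate or have coprime orders. -/
theorem conj_or_coprime
    (hCA : ∀ x : G, x ≠ 1 → ∀ a ∈ cent x, ∀ b ∈ cent x, a * b = b * a)
    {x y : G} (hx : x ≠ 1) (hy : y ≠ 1) :
    (∃ g : G, ∀ b, b ∈ cent y ↔ g⁻¹ * b * g ∈ cent x) ∨
      Nat.Coprime (Nat.card (cent x)) (Nat.card (cent y)) := by
  by_cases hcop : Nat.Coprime (Nat.card (cent x)) (Nat.card (cent y))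
  · exact Or.inr hcop
  · left
    obtain ⟨p, hp, hpx, hpy⟩ := Nat.Prime.not_coprime_iff_dvd.mp hcop
    haveI : Fact p.Prime := ⟨hp⟩
    obtain ⟨P, hPx, a, haP, ha1⟩ := exists_sylow_le hCA hx p hpx
    obtain ⟨Q, hQy, -⟩ := exists_sylow_le hCA hy p hpy
    obtain ⟨g, hg⟩ := MulAction.exists_smul_eq G P Q
    refine ⟨g, ?_⟩
    have hgaQ : g * a * g⁻¹ ∈ (Q : Subgroup G) := by
      rw [← hg, Sylow.coe_subgroup_smul]
      have := Subgroup.smul_mem_pointwise_smul a (MulAut.conj g) (P : Subgroup G) haP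
      simpa [MulAut.smul_def] using this
    have h1 : cent a = cent x := cent_eq hCA hx (hPx haP) ha1
    have h2 : cent (g * a * g⁻¹) = cent y := cent_eq hCA hy (hQy hgaQ) (conj_ne_one ha1)
    intro b
    rw [← h2, ← h1]
    exact mem_cent_conj g a b

/-- `C(x)` is strictly smaller than its normalizer when `G` is a minimal non-solvable group. -/
theorem normalizer_cent_ne
    (hCA : ∀ x : G, x ≠ 1 → ∀ a ∈ cent x, ∀ b ∈ cent x, a * b = b * a)
    (hmin : ∀ K : Subgroup G, K ≠ ⊤ → Group.IsSolvable K) (hns : ¬ Group.IsSolvable G)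
    {x : G} (hx : x ≠ 1) :
    Subgroup.normalizer ((cent x : Subgroup G) : Set G) ≠ cent x := by
  intro hN
  have hcard : Nat.card (cent x) ≠ 1 := by
    intro h
    have hsub : Subsingleton (cent x) := (Nat.card_eq_one_iff_unique.mp h).1
    have : (⟨x, self_mem_cent x⟩ : cent x) = 1 := Subsingleton.elim _ _
    exact hx (congrArg Subtype.val this)
  obtain ⟨p, hp, hpx⟩ := Nat.exists_prime_and_dvd hcard
  haveI : Fact p.Prime := ⟨hp⟩
  obtain ⟨P, hPx, a, haP, ha1⟩ := exists_sylow_le hCA hx p hpx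
  have hNC : Subgroup.normalizer ((P : Subgroup G) : Set G) ≤
      Subgroup.centralizer ((P : Subgroup G) : Set G) := by
    intro g hg
    have hga : g * a * g⁻¹ ∈ (P : Subgroup G) := (Subgroup.mem_normalizer_iff.mp hg a).mp haP
    have hgN : g ∈ Subgroup.normalizer ((cent x : Subgroup G) : Set G) :=
      mem_normalizer_of_conj_mem hCA hx g a (hPx haP) ha1 (hPx hga)
    rw [hN] at hgN
    rw [Subgroup.mem_centralizer_iff]
    intro y hy
    exact hCA x hx y (hPx hy) g hgN
  have hcompl := MonoidHom.ker_transferSylow_isComplement' P hNC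
  set f := MonoidHom.transferSylow P hNC with hf
  have hKne : f.ker ≠ ⊤ := by
    intro htop
    have hdisj := hcompl.disjoint
    rw [htop] at hdisj
    have hPbot : (P : Subgroup G) = ⊥ := by
      rw [eq_bot_iff]
      exact hdisj le_top le_rfl
    rw [hPbot] at haP
    exact ha1 (Subgroup.mem_bot.mp haP)
  haveI : Group.IsSolvable f.ker := hmin _ hKne
  haveI : Group.IsNilpotent (P : Subgroup G) := P.2.isNilpotent
  haveI : Group.IsSolvable (P : Subgroup G) := inferInstance
  apply hns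
  apply Group.isSolvable_of_ker_le_range f.ker.subtype f
  rw [Subgroup.range_subtype]

end finite

section reps

variable {G : Type u} [Group G]

/-- Conjugacy of subgroups, elementwise. -/
def conjSetoid (G : Type u) [Group G] : Setoid (Subgroup G) where
  r A B := ∃ g : G, ∀ y, y ∈ B ↔ g⁻¹ * y * g ∈ A
  iseqv := by
    refine ⟨?_, ?_, ?_⟩
    · intro A
      exact ⟨1, fun y => by simp⟩
    · rintro A B ⟨g, hg⟩
      refine ⟨g⁻¹, fun y => ?_⟩
      rw [hg]
      have : g⁻¹ * (g⁻¹⁻¹ * y * g⁻¹) * g = y := by group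
      rw [this]
    · rintro A B C ⟨g, hg⟩ ⟨h, hh⟩
      refine ⟨h * g, fun y => ?_⟩
      rw [hh, hg]
      have : g⁻¹ * (h⁻¹ * y * h) * g = (h * g)⁻¹ * y * (h * g) := by group
      rw [this]

/-- A chosen representative of the conjugacy class of a subgroup. -/
noncomputable def rep (A : Subgroup G) : Subgroup G :=
  (Quotient.mk (conjSetoid G) A).out

theorem rep_rel (A : Subgroup G) : (conjSetoid G).r (rep A) A :=
  Quotient.mk_out (s := conjSetoid G) A

theorem rep_eq_of_rel {A B : Subgroup G} (h : (conjSetoid G).r A B) : rep A = rep B := by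
  unfold rep
  rw [Quotient.sound (s := conjSetoid G) h]

theorem rep_rep (A : Subgroup G) : rep (rep A) = rep A := rep_eq_of_rel (rep_rel A)

/-- A conjugate of `C(x)` is `C(x')` for a conjugate `x'` of `x`. -/
theorem eq_cent_of_rel {x : G} {B : Subgroup G} (h : (conjSetoid G).r (cent x) B) :
    ∃ g : G, B = cent (g * x * g⁻¹) := by
  obtain ⟨g, hg⟩ := h
  refine ⟨g, ?_⟩
  ext y
  rw [hg, mem_cent_conj]

theorem rep_cent (x : G) : ∃ g : G, rep (cent x) = cent (g * x * g⁻¹) :=
  eq_cent_of_rel ((conjSetoid G).symm (rep_rel (cent x)))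

end reps

/-- **Structure of a minimal non-solvable CA-group**: a set of representatives of the
conjugacy classes of the centralizers of non-identity elements consists of abelian TI-subgroups,
strictly smaller than their normalizers, containing the centralizers of their non-identity
elements, of pairwise coprime orders, and covering `G` up to conjugacy. -/
theorem ca_structure {G : Type*} [Group G] [Finite G] (hodd : Odd (Nat.card G))
    (hCA : ∀ x : G, x ≠ 1 → ∀ a ∈ Subgroup.centralizer ({x} : Set G),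
      ∀ b ∈ Subgroup.centralizer ({x} : Set G), a * b = b * a)
    (hmin : ∀ K : Subgroup G, K ≠ ⊤ → Group.IsSolvable K) (hns : ¬ Group.IsSolvable G) :
    ∃ S : Finset (Subgroup G), S.Nonempty ∧
      (∀ A ∈ S, A ≠ ⊥ ∧ (∀ a ∈ A, ∀ b ∈ A, a * b = b * a) ∧
        Subgroup.normalizer (A : Set G) ≠ A ∧
        (∀ g : G, g ∉ Subgroup.normalizer (A : Set G) → ∀ k ∈ A, g * k * g⁻¹ ∈ A → k = 1) ∧
        (∀ k ∈ A, k ≠ 1 → Subgroup.centralizer ({k} : Set G) ≤ A)) ∧
      (∀ A ∈ S, ∀ B ∈ S, A ≠ B → Nat.Coprime (Nat.card A) (Nat.card B)) ∧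
      (∀ g : G, g ≠ 1 → ∃ A ∈ S, ∃ x : G, x * g * x⁻¹ ∈ A) := by
  classical
  letI : Fintype G := Fintype.ofFinite G
  letI : DecidableEq (Subgroup G) := Classical.decEq _
  have hCA' : ∀ x : G, x ≠ 1 → ∀ a ∈ cent x, ∀ b ∈ cent x, a * b = b * a := hCA
  set S : Finset (Subgroup G) :=
    (Finset.univ.filter (fun x : G => x ≠ 1)).image (fun x => rep (cent x)) with hS
  have hmemS : ∀ A, A ∈ S ↔ ∃ x : G, x ≠ 1 ∧ rep (cent x) = A := by
    intro A
    rw [hS, Finset.mem_image]
    constructor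
    · rintro ⟨x, hx, rfl⟩
      exact ⟨x, (Finset.mem_filter.mp hx).2, rfl⟩
    · rintro ⟨x, hx, rfl⟩
      exact ⟨x, Finset.mem_filter.mpr ⟨Finset.mem_univ _, hx⟩, rfl⟩
  -- every member is the centralizer of a non-identity element, and is its own representative
  have hform : ∀ A ∈ S, ∃ x : G, x ≠ 1 ∧ A = cent x ∧ rep A = A := by
    intro A hA
    obtain ⟨x, hx, rfl⟩ := (hmemS A).mp hA
    obtain ⟨g, hg⟩ := rep_cent x
    exact ⟨g * x * g⁻¹, conj_ne_one hx, hg, rep_rep _⟩
  refine ⟨S, ?_, ?_, ?_, ?_⟩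
  · -- nonempty
    have hnt : ∃ x : G, x ≠ 1 := by
      by_contra hcon
      push Not at hcon
      apply hns
      haveI : Subsingleton G := ⟨fun a b => by rw [hcon a, hcon b]⟩
      infer_instance
    obtain ⟨x, hx⟩ := hnt
    exact ⟨rep (cent x), (hmemS _).mpr ⟨x, hx, rfl⟩⟩
  · intro A hA
    obtain ⟨x, hx, rfl, -⟩ := hform A hA
    refine ⟨?_, ?_, ?_, ?_, ?_⟩
    · intro hbot
      have hxm : x ∈ cent x := self_mem_cent x
      rw [hbot] at hxm
      exact hx (Subgroup.mem_bot.mp hxm)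
    · intro a ha b hb
      exact hCA' x hx a ha b hb
    · exact normalizer_cent_ne hCA' hmin hns hx
    · intro g hg k hk hgk
      exact cent_TI hCA' hx g hg k hk hgk
    · intro k hk hk1
      exact (cent_eq hCA' hx hk hk1).le
  · intro A hA B hB hAB
    obtain ⟨x, hx, hAx, hrA⟩ := hform A hA
    obtain ⟨y, hy, hBy, hrB⟩ := hform B hB
    rcases conj_or_coprime hCA' hx hy with ⟨g, hg⟩ | hcop
    · exfalso
      apply hAB
      have hrel : (conjSetoid G).r A B := by
        rw [hAx, hBy]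
        exact ⟨g, hg⟩
      rw [← hrA, ← hrB]
      exact rep_eq_of_rel hrel
    · rw [hAx, hBy]
      exact hcop
  · intro g hg
    refine ⟨rep (cent g), (hmemS _).mpr ⟨g, hg, rfl⟩, ?_⟩
    obtain ⟨h, hh⟩ := (conjSetoid G).symm (rep_rel (cent g))
    refine ⟨h, ?_⟩
    rw [hh]
    have : h⁻¹ * (h * g * h⁻¹) * h = g := by group
    rw [this]
    exact self_mem_cent g

/-- **S0182 from the character-theoretic theorem**: if no finite group of odd order admits a
nonempty family of abelian TI-subgroups as in `ca_structure`, then every CA-group of odd order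
is solvable. -/
theorem s0182_of
    (hT : ∀ (G : Type u) [Group G] [Finite G], Odd (Nat.card G) →
      ∀ S : Finset (Subgroup G), S.Nonempty →
      (∀ A ∈ S, A ≠ ⊥ ∧ (∀ a ∈ A, ∀ b ∈ A, a * b = b * a) ∧
        Subgroup.normalizer (A : Set G) ≠ A ∧
        (∀ g : G, g ∉ Subgroup.normalizer (A : Set G) → ∀ k ∈ A, g * k * g⁻¹ ∈ A → k = 1) ∧
        (∀ k ∈ A, k ≠ 1 → Subgroup.centralizer ({k} : Set G) ≤ A)) →
      (∀ A ∈ S, ∀ B ∈ S, A ≠ B → Nat.Coprime (Nat.card A) (Nat.card B)) →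
      (∀ g : G, g ≠ 1 → ∃ A ∈ S, ∃ x : G, x * g * x⁻¹ ∈ A) → False)
    (G : Type u) [Group G] [Finite G] (hodd : Odd (Nat.card G))
    (hCA : ∀ x : G, x ≠ 1 → ∀ a ∈ Subgroup.centralizer ({x} : Set G),
      ∀ b ∈ Subgroup.centralizer ({x} : Set G), a * b = b * a) : Group.IsSolvable G := by
  induction hn : Nat.card G using Nat.strong_induction_on generalizing G with
  | _ n ih =>
    by_contra hns
    have hmin : ∀ K : Subgroup G, K ≠ ⊤ → Group.IsSolvable K := by
      intro K hK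
      have hlt : Nat.card K < n := by
        rw [← hn]
        exact lt_of_le_of_ne (Subgroup.card_le_card_group K) (fun h => hK (Subgroup.eq_top_of_card_eq K h))
      apply ih (Nat.card K) hlt K
      · exact Odd.of_dvd_nat hodd (Subgroup.card_subgroup_dvd_card K)
      · intro x hx a ha b hb
        have hx' : (x : G) ≠ 1 := fun h => hx (Subtype.ext h)
        have ha' : (a : G) ∈ Subgroup.centralizer ({(x : G)} : Set G) := by
          rw [Subgroup.mem_centralizer_singleton_iff] at ha ⊢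
          exact congrArg Subtype.val ha
        have hb' : (b : G) ∈ Subgroup.centralizer ({(x : G)} : Set G) := by
          rw [Subgroup.mem_centralizer_singleton_iff] at hb ⊢
          exact congrArg Subtype.val hb
        exact Subtype.ext (hCA x hx' a ha' b hb')
      · rfl
    obtain ⟨S, hS1, hS2, hS3, hS4⟩ := ca_structure hodd hCA hmin hns
    exact hT G hodd S hS1 hS2 hS3 hS4

/-- The same structure theorem with the family indexed by a finite type. -/
theorem ca_structure_indexed {G : Type u} [Group G] [Finite G] (hodd : Odd (Nat.card G))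
    (hCA : ∀ x : G, x ≠ 1 → ∀ a ∈ Subgroup.centralizer ({x} : Set G),
      ∀ b ∈ Subgroup.centralizer ({x} : Set G), a * b = b * a)
    (hmin : ∀ K : Subgroup G, K ≠ ⊤ → Group.IsSolvable K) (hns : ¬ Group.IsSolvable G) :
    ∃ (ι : Type u) (_ : Fintype ι) (_ : Nonempty ι) (H : ι → Subgroup G),
      (∀ i, H i ≠ ⊥) ∧ (∀ i, ∀ a ∈ H i, ∀ b ∈ H i, a * b = b * a) ∧
      (∀ i, Subgroup.normalizer (H i : Set G) ≠ H i) ∧
      (∀ i, ∀ g : G, g ∉ Subgroup.normalizer (H i : Set G) →
        ∀ k ∈ H i, g * k * g⁻¹ ∈ H i → k = 1) ∧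
      (∀ i, ∀ k ∈ H i, k ≠ 1 → Subgroup.centralizer ({k} : Set G) ≤ H i) ∧
      (∀ i j, i ≠ j → Nat.Coprime (Nat.card (H i)) (Nat.card (H j))) ∧
      (∀ g : G, g ≠ 1 → ∃ i, ∃ x : G, x * g * x⁻¹ ∈ H i) := by
  classical
  obtain ⟨S, hS1, hS2, hS3, hS4⟩ := ca_structure hodd hCA hmin hns
  obtain ⟨A₀, hA₀⟩ := hS1
  refine ⟨{A // A ∈ S}, inferInstance, ⟨⟨A₀, hA₀⟩⟩, Subtype.val, ?_, ?_, ?_, ?_, ?_, ?_, ?_⟩
  · exact fun i => (hS2 i.1 i.2).1
  · exact fun i => (hS2 i.1 i.2).2.1
  · exact fun i => (hS2 i.1 i.2).2.2.1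
  · exact fun i => (hS2 i.1 i.2).2.2.2.1
  · exact fun i => (hS2 i.1 i.2).2.2.2.2
  · intro i j hij
    exact hS3 i.1 i.2 j.1 j.2 (fun h => hij (Subtype.ext h))
  · intro g hg
    obtain ⟨A, hA, x, hx⟩ := hS4 g hg
    exact ⟨⟨A, hA⟩, x, hx⟩

/-- **S0182 from the character-theoretic theorem**, indexed form. -/
theorem s0182_of_indexed
    (hT : ∀ (G : Type u) [Group G] [Finite G], Odd (Nat.card G) →
      ∀ (ι : Type u) [Fintype ι] [Nonempty ι] (H : ι → Subgroup G),
      (∀ i, H i ≠ ⊥) → (∀ i, ∀ a ∈ H i, ∀ b ∈ H i, a * b = b * a) →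
      (∀ i, Subgroup.normalizer (H i : Set G) ≠ H i) →
      (∀ i, ∀ g : G, g ∉ Subgroup.normalizer (H i : Set G) →
        ∀ k ∈ H i, g * k * g⁻¹ ∈ H i → k = 1) →
      (∀ i, ∀ k ∈ H i, k ≠ 1 → Subgroup.centralizer ({k} : Set G) ≤ H i) →
      (∀ i j, i ≠ j → Nat.Coprime (Nat.card (H i)) (Nat.card (H j))) →
      (∀ g : G, g ≠ 1 → ∃ i, ∃ x : G, x * g * x⁻¹ ∈ H i) → False)
    (G : Type u) [Group G] [Finite G] (hodd : Odd (Nat.card G))
    (hCA : ∀ x : G, x ≠ 1 → ∀ a ∈ Subgroup.centralizer ({x} : Set G),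
      ∀ b ∈ Subgroup.centralizer ({x} : Set G), a * b = b * a) : Group.IsSolvable G := by
  apply s0182_of _ G hodd hCA
  intro G _ _ hodd S hS1 hS2 hS3 hS4
  classical
  obtain ⟨A₀, hA₀⟩ := hS1
  haveI : Nonempty {A // A ∈ S} := ⟨⟨A₀, hA₀⟩⟩
  refine hT G hodd {A // A ∈ S} Subtype.val ?_ ?_ ?_ ?_ ?_ ?_ ?_
  · exact fun i => (hS2 i.1 i.2).1
  · exact fun i => (hS2 i.1 i.2).2.1
  · exact fun i => (hS2 i.1 i.2).2.2.1
  · exact fun i => (hS2 i.1 i.2).2.2.2.1
  · exact fun i => (hS2 i.1 i.2).2.2.2.2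
  · intro i j hij
    exact hS3 i.1 i.2 j.1 j.2 (fun h => hij (Subtype.ext h))
  · intro g hg
    obtain ⟨A, hA, x, hx⟩ := hS4 g hg
    exact ⟨⟨A, hA⟩, x, hx⟩

end Cfsg.Agent.H1.CA
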