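import Mathlib
import Cfsg.Prelude.Def_SolvableStructure
import Cfsg.Agent.H1.Basic

/-! Groups satisfying the converse of Lagrange's theorem (helper1). -/

set_option autoImplicit false
open scoped Pointwise commutatorElement

namespace Cfsg.Agent.H1

lemma hasSubgroupOfEveryOrder_of_equiv {G G' : Type*} [Group G] [Group G'] (e : G ≃* G')
    (h : Cfsg.HasSubgroupOfEveryOrder G) : Cfsg.HasSubgroupOfEveryOrder G' := by
  intro d hd
  rw [← Nat.card_congr e.toEquiv] at hd
  obtain ⟨H, hH⟩ := h d hd
  exact ⟨H.map e.toMonoidHom, by rw [Subgroup.card_map_of_injective e.injective, hH]⟩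

theorem clt_sylow_aux.{u} : ∀ n : ℕ, ∀ (G : Type u) [Group G] [Finite G], Nat.card G = n →
    (∀ H : Subgroup G, Cfsg.HasSubgroupOfEveryOrder H) → ∀ p : ℕ, p.Prime → p ∣ Nat.card G →
    (∀ q : ℕ, q.Prime → q ∣ Nat.card G → q ≤ p) →
    ∃ P : Subgroup G, P.Normal ∧ Nat.card P = p ^ (Nat.card G).factorization p := by
  intro n
  induction n using Nat.strong_induction_on with
  | _ n ih =>
    intro G _ _ hn h p hp hdvd hmax
    have hc0 : Nat.card G ≠ 0 := Nat.card_pos.ne'
    have hc1 : Nat.card G ≠ 1 := by
      intro h1; rw [h1] at hdvd; exact hp.one_lt.ne' (Nat.dvd_one.mp hdvd)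
    obtain ⟨r, hr⟩ : ∃ r, r = (Nat.card G).minFac := ⟨_, rfl⟩
    have hrp : r.Prime := by rw [hr]; exact Nat.minFac_prime hc1
    have hrdvd : r ∣ Nat.card G := by rw [hr]; exact Nat.minFac_dvd _
    by_cases hrp' : r = p
    · refine ⟨⊤, inferInstance, ?_⟩
      rw [Subgroup.card_top]
      have h1 : Nat.card G / p ^ (Nat.card G).factorization p = 1 := by
        by_contra hne
        obtain ⟨q, hq, hqd⟩ := Nat.exists_prime_and_dvd hne
        have hqG : q ∣ Nat.card G := hqd.trans (Nat.ordCompl_dvd _ _)
        have hqp : q ≤ p := hmax q hq hqG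
        have hpq : p ≤ q := by rw [← hrp', hr]; exact Nat.minFac_le_of_dvd hq.two_le hqG
        have : q = p := le_antisymm hqp hpq
        rw [this] at hqd
        exact Nat.not_dvd_ordCompl hp hc0 hqd
      have h2 := Nat.ordProj_mul_ordCompl_eq_self (Nat.card G) p
      rw [h1, mul_one] at h2
      exact h2.symm
    · -- a normal subgroup of index r
      obtain ⟨c, hc⟩ := hrdvd
      have hcpos : 0 < c := Nat.pos_of_ne_zero (by rintro rfl; rw [mul_zero] at hc; exact hc0 hc)
      have htop : Cfsg.HasSubgroupOfEveryOrder G :=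
        hasSubgroupOfEveryOrder_of_equiv Subgroup.topEquiv (h ⊤)
      obtain ⟨M, hM⟩ := htop c (Dvd.intro_left _ hc.symm)
      have hMidx : M.index = r := by
        have := M.card_mul_index
        rw [hM, hc, mul_comm r c] at this
        exact Nat.eq_of_mul_eq_mul_left hcpos this
      have hMn : M.Normal := Subgroup.normal_of_index_eq_minFac_card (hMidx.trans hr)
      have hlt : Nat.card M < n := by
        rw [← hn, hM, hc]
        have := hrp.two_le
        nlinarith
      have hM' : ∀ H : Subgroup M, Cfsg.HasSubgroupOfEveryOrder H := fun H =>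
        hasSubgroupOfEveryOrder_of_equiv (H.equivMapOfInjective M.subtype M.subtype_injective).symm
          (h (H.map M.subtype))
      have hpM : p ∣ Nat.card M := by
        rw [hM]
        rw [hc] at hdvd
        rcases (Nat.Prime.dvd_mul hp).mp hdvd with h1 | h1
        · exact absurd ((Nat.prime_dvd_prime_iff_eq hp hrp).mp h1).symm hrp'
        · exact h1
      have hmaxM : ∀ q : ℕ, q.Prime → q ∣ Nat.card M → q ≤ p := fun q hq hqd =>
        hmax q hq (hqd.trans (Subgroup.card_subgroup_dvd_card M))
      obtain ⟨P', hP'n, hP'c⟩ := ih _ hlt M rfl hM' p hp hpM hmaxM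
      have hfac : (Nat.card M).factorization p = (Nat.card G).factorization p := by
        rw [hc, hM, Nat.factorization_mul hrp.ne_zero hcpos.ne', Finsupp.add_apply,
          Nat.Prime.factorization hrp, Finsupp.single_apply, if_neg hrp', zero_add]
      have : Fact p.Prime := ⟨hp⟩
      have hchar : P'.Characteristic := by
        have := Sylow.characteristic_of_normal (Sylow.ofCard P' hP'c) hP'n
        exact this
      refine ⟨P'.map M.subtype, inferInstance, ?_⟩
      rw [Subgroup.card_map_of_injective M.subtype_injective, hP'c, hfac]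

end Cfsg.Agent.H1
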