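import Mathlib

set_option autoImplicit false

namespace Cfsg.Agent.H1.CaminaHerzog

section abstract

variable {A : Type*} [CommGroup A]

/-- `ψ` is congruent to the identity modulo `n`-th powers. -/
def PowCong (n : ℕ) (ψ : MulAut A) : Prop := ∀ v : A, ∃ c : A, ψ v = v * c ^ n

lemma powCong_sq {n : ℕ} (hn : Even n) {ψ : MulAut A} (h : PowCong n ψ) :
    PowCong (2 * n) (ψ ^ 2) := by
  intro v
  obtain ⟨c, hc⟩ := h v
  obtain ⟨c', hc'⟩ := h c
  obtain ⟨n', rfl⟩ := hn
  refine ⟨c * c' ^ n', ?_⟩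
  have : (ψ ^ 2) v = ψ (ψ v) := by
    rw [pow_two]; rfl
  rw [this, hc, map_mul, map_pow, hc, hc']
  simp only [mul_pow, ← pow_mul, mul_assoc]
  congr 1
  rw [← mul_assoc, ← pow_add]
  congr 2 <;> ring

lemma powCong_two_pow {φ : MulAut A} (h : PowCong 2 φ) (j : ℕ) :
    PowCong (2 ^ (j + 1)) (φ ^ (2 ^ j)) := by
  induction j with
  | zero => simpa using h
  | succ j ih =>
    have := powCong_sq (Even.pow_of_ne_zero even_two (Nat.succ_ne_zero j)) ih
    rw [← pow_mul, ← pow_succ, ← pow_succ'] at this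
    exact this

lemma powCong_two_pow_eq_one [Finite A] (hA : IsPGroup 2 A) {φ : MulAut A}
    (h : PowCong 2 φ) : ∃ j : ℕ, φ ^ (2 ^ j) = 1 := by
  obtain ⟨e, he⟩ := hA.exists_card_eq
  refine ⟨e, ?_⟩
  ext v
  obtain ⟨c, hc⟩ := powCong_two_pow h e v
  rw [hc, pow_succ, pow_mul, ← he, pow_card_eq_one']
  simp

lemma powCong_mul {n : ℕ} {φ ψ : MulAut A} (hφ : PowCong n φ) (hψ : PowCong n ψ) :
    PowCong n (φ * ψ) := by
  intro v
  obtain ⟨c, hc⟩ := hψ v
  obtain ⟨c', hc'⟩ := hφ v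
  refine ⟨c' * φ c, ?_⟩
  rw [MulAut.mul_apply, hc, map_mul, map_pow, hc', mul_pow, mul_assoc]

lemma powCong_conj {n : ℕ} {φ : MulAut A} (ψ : MulAut A) (hφ : PowCong n φ) :
    PowCong n (ψ * φ * ψ⁻¹) := by
  intro v
  obtain ⟨c, hc⟩ := hφ (ψ⁻¹ v)
  refine ⟨ψ c, ?_⟩
  rw [MulAut.mul_apply, MulAut.mul_apply, hc, map_mul, map_pow]
  simp

/-- Key abstract lemma: two involutory automorphisms of a finite abelian `2`-group whose
product does not have `2`-power order: some `u * τ₁ u` is a non-square. -/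
theorem exists_not_square [Finite A] (hA : IsPGroup 2 A) (τ₁ τ₂ : MulAut A)
    (h₂ : τ₂ ^ 2 = 1) (hπ : ¬ ∃ j : ℕ, (τ₁ * τ₂) ^ (2 ^ j) = 1) :
    ∃ u : A, ∀ c : A, c ^ 2 ≠ u * τ₁ u := by
  by_contra hne
  push Not at hne
  have h1 : PowCong 2 τ₁ := by
    intro u
    obtain ⟨c, hc⟩ := hne u
    refine ⟨u⁻¹ * c, ?_⟩
    rw [mul_pow, hc]
    simp [pow_two, mul_assoc]
  have hinv : τ₂⁻¹ = τ₂ := by
    rw [inv_eq_iff_mul_eq_one, ← pow_two, h₂]
  have h3 : PowCong 2 (τ₁ * (τ₂ * τ₁ * τ₂⁻¹)) := powCong_mul h1 (powCong_conj τ₂ h1)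
  have h4 : (τ₁ * τ₂) ^ 2 = τ₁ * (τ₂ * τ₁ * τ₂⁻¹) := by
    rw [hinv, pow_two]; simp only [mul_assoc]
  rw [← h4] at h3
  obtain ⟨j, hj⟩ := powCong_two_pow_eq_one hA h3
  apply hπ
  refine ⟨j + 1, ?_⟩
  rw [pow_succ', pow_mul]
  exact hj

end abstract

section dihedral

variable {M : Type*} [Group M]

theorem isPGroup_closure_pair (a b : M) (ha : a ^ 2 = 1) (hb : b ^ 2 = 1) (j : ℕ)
    (hab : (a * b) ^ (2 ^ j) = 1) : IsPGroup 2 (Subgroup.closure ({a, b} : Set M)) := by
  have hainv : a⁻¹ = a := by rw [inv_eq_iff_mul_eq_one, ← pow_two, ha]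
  have hbinv : b⁻¹ = b := by rw [inv_eq_iff_mul_eq_one, ← pow_two, hb]
  -- conjugation by `a` inverts `C`
  have hinvC : ∀ c ∈ Subgroup.zpowers (a * b), a * c * a⁻¹ = c⁻¹ := by
    intro c hc
    obtain ⟨k, rfl⟩ := Subgroup.mem_zpowers_iff.mp hc
    rw [← conj_zpow, ← inv_zpow]
    congr 1
    have : a * a = 1 := by rw [← pow_two, ha]
    rw [mul_inv_rev, hainv, hbinv, mul_assoc, mul_assoc]
    rw [← mul_assoc a a, this, one_mul]
  have key : ∀ d ∈ Subgroup.closure ({a, b} : Set M),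
      d ∈ Subgroup.zpowers (a * b) ∨ d * a ∈ Subgroup.zpowers (a * b) := by
    have stepa : ∀ y : M, (y ∈ Subgroup.zpowers (a * b) ∨ y * a ∈ Subgroup.zpowers (a * b)) →
        (a * y ∈ Subgroup.zpowers (a * b) ∨ a * y * a ∈ Subgroup.zpowers (a * b)) := by
      rintro y (hy | hy)
      · right
        have := hinvC y hy
        rw [hainv] at this
        rw [this]
        exact inv_mem hy
      · left
        have := hinvC (y * a) hy
        rw [hainv] at this
        have h2 : a * y = a * (y * a) * a := by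
          rw [mul_assoc, mul_assoc y a a, ← pow_two, ha, mul_one]
        rw [h2, this]
        exact inv_mem hy
    have stepC : ∀ c ∈ Subgroup.zpowers (a * b), ∀ y : M,
        (y ∈ Subgroup.zpowers (a * b) ∨ y * a ∈ Subgroup.zpowers (a * b)) →
        (c * y ∈ Subgroup.zpowers (a * b) ∨ c * y * a ∈ Subgroup.zpowers (a * b)) := by
      rintro c hc y (hy | hy)
      · left; exact mul_mem hc hy
      · right; rw [mul_assoc]; exact mul_mem hc hy
    have hb_eq : b = a * (a * b) := by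
      rw [← mul_assoc, ← pow_two, ha, one_mul]
    have stepb : ∀ y : M, (y ∈ Subgroup.zpowers (a * b) ∨ y * a ∈ Subgroup.zpowers (a * b)) →
        (b * y ∈ Subgroup.zpowers (a * b) ∨ b * y * a ∈ Subgroup.zpowers (a * b)) := by
      intro y hy
      have := stepa _ (stepC (a * b) (Subgroup.mem_zpowers _) y hy)
      rw [← mul_assoc a, ← hb_eq] at this
      exact this
    intro d hd
    induction hd using Subgroup.closure_induction_left with
    | one => left; exact one_mem _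
    | mul_left x hx y _ ih =>
      rcases hx with rfl | hx
      · exact stepa y ih
      · rw [Set.mem_singleton_iff] at hx
        subst hx
        exact stepb y ih
    | inv_mul_cancel x hx y _ ih =>
      rcases hx with rfl | hx
      · rw [hainv]; exact stepa y ih
      · rw [Set.mem_singleton_iff] at hx
        subst hx
        rw [hbinv]; exact stepb y ih
  intro d
  rcases key d.1 d.2 with h | h
  · refine ⟨j, ?_⟩
    obtain ⟨k, hk⟩ := Subgroup.mem_zpowers_iff.mp h
    apply Subtype.ext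
    rw [Subgroup.coe_pow, ← hk, ← zpow_natCast, ← zpow_mul, mul_comm, zpow_mul, zpow_natCast, hab]
    simp
  · refine ⟨1, ?_⟩
    apply Subtype.ext
    rw [Subgroup.coe_pow, pow_one, pow_two]
    have h1 := hinvC _ h
    rw [hainv] at h1
    -- a * (d * a) * a = (d * a)⁻¹
    have h2 : a * (d.1 * a) * a = a * d.1 := by
      rw [mul_assoc, mul_assoc d.1 a a, ← pow_two, ha, mul_one]
    rw [h2] at h1
    -- a * d = (d * a)⁻¹ → d * a * (a * d) = 1
    have h3 : d.1 * a * (a * d.1) = 1 := by rw [h1]; exact mul_inv_cancel _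
    rw [mul_assoc d.1 a, ← mul_assoc a a, ← pow_two, ha, one_mul] at h3
    simpa using h3

end dihedral

end Cfsg.Agent.H1.CaminaHerzog
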