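import Mathlib
import Cfsg.Agent.H1.CaminaHerzogA

set_option autoImplicit false

namespace Cfsg.Agent.H1.CaminaHerzog

variable {G : Type*} [Group G]

/-- The centre of a subgroup `H`, as a subgroup of `G`. -/
def zc (H : Subgroup G) : Subgroup G := H ⊓ Subgroup.centralizer (H : Set G)

lemma mem_zc {H : Subgroup G} {z : G} : z ∈ zc H ↔ z ∈ H ∧ ∀ y ∈ H, y * z = z * y := by
  simp [zc, Subgroup.mem_inf, Subgroup.mem_centralizer_iff]

lemma zc_le (H : Subgroup G) : zc H ≤ H := inf_le_left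

lemma mem_smul_sylow {p : ℕ} {t z : G} {S : Sylow p G} :
    z ∈ t • S ↔ t⁻¹ * z * t ∈ S := by
  change z ∈ ((t • S : Sylow p G) : Subgroup G) ↔ _
  rw [Sylow.smul_def, Sylow.pointwise_smul_def,
    Subgroup.mem_pointwise_smul_iff_inv_smul_mem]
  simp only [MulAut.smul_def, ← map_inv, MulAut.conj_apply, inv_inv]
  exact Iff.rfl

lemma conj_mem_zc_smul {p : ℕ} {S : Sylow p G} {t z : G} (hz : z ∈ zc (S : Subgroup G)) :
    t * z * t⁻¹ ∈ zc ((t • S : Sylow p G) : Subgroup G) := by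
  rw [mem_zc] at hz ⊢
  refine ⟨?_, ?_⟩
  · change t * z * t⁻¹ ∈ (t • S : Sylow p G)
    rw [mem_smul_sylow]
    have : t⁻¹ * (t * z * t⁻¹) * t = z := by group
    rw [this]
    exact hz.1
  · intro y hy
    change y ∈ (t • S : Sylow p G) at hy
    rw [mem_smul_sylow] at hy
    have := hz.2 _ hy
    calc y * (t * z * t⁻¹) = t * (t⁻¹ * y * t * z) * t⁻¹ := by group
      _ = t * (z * (t⁻¹ * y * t)) * t⁻¹ := by rw [this]
      _ = t * z * t⁻¹ * y := by group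

lemma card_zc_le [Finite G] (S S₁ : Sylow 2 G) :
    Nat.card (zc (S₁ : Subgroup G)) ≤ Nat.card (zc (S : Subgroup G)) := by
  obtain ⟨t, ht⟩ := MulAction.exists_smul_eq G S₁ S
  refine Nat.card_le_card_of_injective
    (fun z => ⟨t * z.1 * t⁻¹, by rw [← ht]; exact conj_mem_zc_smul z.2⟩) ?_
  intro a b hab
  have := congrArg Subtype.val hab
  simp only [mul_left_inj, mul_right_inj] at this
  exact Subtype.ext this

/-- The Camina–Herzog hypothesis: every `2`-element centralizes a Sylow `2`-subgroup. -/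
def CH (G : Type*) [Group G] : Prop :=
  ∀ x : G, (∃ k : ℕ, orderOf x = 2 ^ k) →
    ∃ Q : Sylow 2 G, (Q : Subgroup G) ≤ Subgroup.centralizer ({x} : Set G)

lemma two_elt_of_mem {Y : Subgroup G} (hY : IsPGroup 2 Y) {y : G} (hy : y ∈ Y) :
    ∃ k : ℕ, orderOf y = 2 ^ k := by
  obtain ⟨k, hk⟩ := IsPGroup.iff_orderOf.mp hY ⟨y, hy⟩
  exact ⟨k, by rw [← hk, Subgroup.orderOf_mk]⟩

lemma l0a [Finite G] (hP : CH G) {a : G} (ha : ∃ k : ℕ, orderOf a = 2 ^ k) (Y : Subgroup G)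
    (hY : IsPGroup 2 Y) (hYa : Y ≤ Subgroup.centralizer ({a} : Set G)) :
    ∃ S₁ : Sylow 2 G, Y ≤ S₁ ∧ (S₁ : Subgroup G) ≤ Subgroup.centralizer ({a} : Set G) := by
  obtain ⟨Q, hQ⟩ := hP a ha
  have hY' : IsPGroup 2 (Y.subgroupOf (Subgroup.centralizer ({a} : Set G))) :=
    hY.comap_subtype
  obtain ⟨R, hR⟩ := hY'.exists_le_sylow
  obtain ⟨c, hc⟩ := MulAction.exists_smul_eq (Subgroup.centralizer ({a} : Set G))
    (Q.subtype hQ) R
  refine ⟨c • Q, ?_, Sylow.smul_le hQ c⟩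
  intro y hy
  have h1 : (⟨y, hYa hy⟩ : Subgroup.centralizer ({a} : Set G)) ∈ R :=
    hR (Subgroup.mem_subgroupOf.mpr hy)
  rw [← hc, Sylow.smul_subtype hQ c] at h1
  change (⟨y, hYa hy⟩ : Subgroup.centralizer ({a} : Set G)) ∈
    (((c • Q).subtype (Sylow.smul_le hQ c) : Sylow 2 _) : Subgroup _) at h1
  rw [Sylow.coe_subtype] at h1
  exact Subgroup.mem_subgroupOf.mp h1

lemma l0b [Finite G] (hP : CH G) (S₂ : Sylow 2 G) {a s : G} (ha : a ∈ zc (S₂ : Subgroup G))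
    (hs : ∃ k : ℕ, orderOf s = 2 ^ k) (hsa : s ^ 2 = a) :
    ∃ c ∈ zc (S₂ : Subgroup G), c ^ 2 = a := by
  obtain ⟨k, hk⟩ := hs
  have hzp : IsPGroup 2 (Subgroup.zpowers s) := by
    apply IsPGroup.of_card (n := k)
    rw [Nat.card_zpowers, hk]
  have hzle : Subgroup.zpowers s ≤ Subgroup.centralizer ({s} : Set G) := by
    rw [Subgroup.zpowers_le]
    exact Subgroup.mem_centralizer_singleton_iff.mpr rfl
  obtain ⟨S₃, hs3, hS3⟩ := l0a hP ⟨k, hk⟩ _ hzp hzle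
  have hsS₃ : s ∈ S₃ := hs3 (Subgroup.mem_zpowers s)
  have hsZ : s ∈ zc (S₃ : Subgroup G) := by
    rw [mem_zc]
    refine ⟨hsS₃, fun y hy => ?_⟩
    exact Subgroup.mem_centralizer_singleton_iff.mp (hS3 hy)
  obtain ⟨t, ht⟩ := MulAction.exists_smul_eq G S₃ S₂
  have hs' : t * s * t⁻¹ ∈ zc (S₂ : Subgroup G) := by
    rw [← ht]; exact conj_mem_zc_smul hsZ
  have ha' : t * a * t⁻¹ ∈ zc (S₂ : Subgroup G) := by
    have : t * a * t⁻¹ = (t * s * t⁻¹) ^ 2 := by rw [conj_pow, hsa]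
    rw [this]; exact pow_mem hs' 2
  have hcen : ∀ z ∈ zc (S₂ : Subgroup G), z ∈ Subgroup.centralizer ((S₂ : Subgroup G) : Set G) :=
    fun z hz => hz.2
  obtain ⟨n, hn, hn2⟩ := Sylow.conj_eq_normalizer_conj_of_mem_centralizer S₂ (t * a * t⁻¹) t
    (hcen _ ha') (by
      have : t⁻¹ * (t * a * t⁻¹) * t = a := by group
      rw [this]; exact hcen _ ha)
  have hn3 : a = n⁻¹ * (t * a * t⁻¹) * n := by
    rw [← hn2]; group
  refine ⟨n⁻¹ * (t * s * t⁻¹) * n, ?_, ?_⟩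
  · rw [mem_zc] at hs' ⊢
    have hnn := Subgroup.mem_normalizer_iff''.mp hn
    have hnn' := Subgroup.mem_normalizer_iff.mp hn
    refine ⟨(hnn _).mp hs'.1, fun y hy => ?_⟩
    have h1 := hs'.2 _ ((hnn' y).mp hy)
    calc y * (n⁻¹ * (t * s * t⁻¹) * n) = n⁻¹ * (n * y * n⁻¹ * (t * s * t⁻¹)) * n := by group
      _ = n⁻¹ * ((t * s * t⁻¹) * (n * y * n⁻¹)) * n := by rw [h1]
      _ = n⁻¹ * (t * s * t⁻¹) * n * y := by group
  · have : (n⁻¹ * (t * s * t⁻¹) * n) ^ 2 = n⁻¹ * (t * s * t⁻¹) ^ 2 * n := by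
      have := conj_pow (a := n⁻¹) (b := t * s * t⁻¹) (i := 2)
      simpa using this
    rw [this, conj_pow, hsa, ← hn3]

lemma conj_mem_zc_of_normalizer {Q : Subgroup G} {g v : G}
    (hg : g ∈ Subgroup.normalizer (Q : Set G)) (hv : v ∈ zc Q) : g * v * g⁻¹ ∈ zc Q := by
  rw [mem_zc] at hv ⊢
  have hnn := Subgroup.mem_normalizer_iff''.mp hg
  have hnn' := Subgroup.mem_normalizer_iff.mp hg
  refine ⟨(hnn' _).mp hv.1, fun y hy => ?_⟩
  have h1 := hv.2 _ ((hnn y).mp hy)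
  calc y * (g * v * g⁻¹) = g * (g⁻¹ * y * g * v) * g⁻¹ := by group
    _ = g * (v * (g⁻¹ * y * g)) * g⁻¹ := by rw [h1]
    _ = g * v * g⁻¹ * y := by group

lemma normalizer_le_normalizer_zc (Q : Subgroup G) :
    Subgroup.normalizer (Q : Set G) ≤ Subgroup.normalizer ((zc Q : Subgroup G) : Set G) := by
  intro g hg
  rw [Subgroup.mem_normalizer_iff]
  intro v
  refine ⟨fun hv => conj_mem_zc_of_normalizer hg hv, fun hv => ?_⟩
  have := conj_mem_zc_of_normalizer (inv_mem hg) hv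
  simpa [mul_assoc] using this

lemma exists_normalizing [Finite G] {S₁ : Sylow 2 G} {Q : Subgroup G} (hQS : Q ≤ S₁)
    (hne : Q ≠ S₁) :
    ∃ g ∈ S₁, g ∉ Q ∧ g ∈ Subgroup.normalizer (Q : Set G) ∧ g ^ 2 ∈ Q := by
  have hlt : Q.subgroupOf S₁ < ⊤ := by
    rw [lt_top_iff_ne_top]
    intro h
    rw [Subgroup.subgroupOf_eq_top] at h
    exact hne (le_antisymm hQS h)
  haveI : Group.IsNilpotent ↥(S₁ : Subgroup G) := S₁.2.isNilpotent
  have hnc := Group.normalizerCondition_of_isNilpotent (G := ↥(S₁ : Subgroup G))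
    (Q.subgroupOf S₁) hlt
  obtain ⟨y, hyN, hyQ⟩ := SetLike.exists_of_lt hnc
  have hy0N : (y : G) ∈ Subgroup.normalizer (Q : Set G) := by
    rw [Subgroup.mem_normalizer_iff]
    have key : ∀ (z : ↥(S₁ : Subgroup G)), z ∈ Subgroup.normalizer ((Q.subgroupOf S₁ : Subgroup _) : Set _) →
        ∀ q ∈ Q, (z : G) * q * (z : G)⁻¹ ∈ Q := by
      intro z hz q hq
      have h2 := (Subgroup.mem_normalizer_iff.mp hz ⟨q, hQS hq⟩).mp (Subgroup.mem_subgroupOf.mpr hq)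
      rw [Subgroup.mem_subgroupOf] at h2
      simpa using h2
    intro q
    refine ⟨key y hyN q, fun hq => ?_⟩
    have := key y⁻¹ (inv_mem hyN) _ hq
    simpa [mul_assoc] using this
  have hy0Q : (y : G) ∉ Q := fun h => hyQ (Subgroup.mem_subgroupOf.mpr h)
  obtain ⟨k, hk⟩ := two_elt_of_mem S₁.2 y.2
  have hex : ∃ j : ℕ, (y : G) ^ (2 ^ j) ∈ Q := ⟨k, by rw [← hk, pow_orderOf_eq_one]; exact one_mem _⟩
  classical
  have hj0 : Nat.find hex ≠ 0 := by
    intro h0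
    have := Nat.find_spec hex
    rw [h0] at this
    simp at this
    exact hy0Q this
  obtain ⟨j, hj⟩ := Nat.exists_eq_succ_of_ne_zero hj0
  refine ⟨(y : G) ^ (2 ^ j), pow_mem y.2 _, ?_, pow_mem hy0N _, ?_⟩
  · exact Nat.find_min hex (by omega)
  · have := Nat.find_spec hex
    rw [hj, pow_succ, pow_mul] at this
    exact this

end Cfsg.Agent.H1.CaminaHerzog
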