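import Mathlib
import Cfsg.Agent.H1.CaminaHerzogB

set_option autoImplicit false
set_option maxHeartbeats 1000000

namespace Cfsg.Agent.H1.CaminaHerzog

variable {G : Type*} [Group G]

theorem main [Finite G] (hP : CH G) (P : Sylow 2 G) :
    ∀ a ∈ P, ∀ b ∈ P, a * b = b * a := by
  by_contra hcon
  push Not at hcon
  obtain ⟨a₀, ha₀, b₀, hb₀, hab₀⟩ := hcon
  -- Step 1: a maximal pair
  let α := {p : Sylow 2 G × G // p.2 ∈ p.1 ∧ p.2 ∉ zc (p.1 : Subgroup G)}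
  haveI : Nonempty α :=
    ⟨⟨(P, a₀), ha₀, fun h => hab₀ ((mem_zc.mp h).2 b₀ hb₀).symm⟩⟩
  obtain ⟨⟨⟨S, x⟩, hxS, hxZ⟩, hmax⟩ := Finite.exists_max
    (fun p : α => Nat.card ↥((p.1.1 : Subgroup G) ⊓ Subgroup.centralizer ({p.1.2} : Set G)))
  simp only at hxS hxZ
  set Q : Subgroup G := (S : Subgroup G) ⊓ Subgroup.centralizer ({x} : Set G) with hQdef
  set V : Subgroup G := zc Q with hVdef
  have hM : ∀ (S₁ : Sylow 2 G) (y : G), y ∈ S₁ → y ∉ zc (S₁ : Subgroup G) →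
      Nat.card ↥((S₁ : Subgroup G) ⊓ Subgroup.centralizer ({y} : Set G)) ≤ Nat.card ↥Q :=
    fun S₁ y h1 h2 => hmax ⟨(S₁, y), h1, h2⟩
  have hQS : Q ≤ S := inf_le_left
  have hQ2 : IsPGroup 2 Q := S.2.to_le hQS
  have hxQ : x ∈ Q := ⟨hxS, Subgroup.mem_centralizer_singleton_iff.mpr rfl⟩
  have hQx : ∀ q ∈ Q, q * x = x * q := fun q hq =>
    Subgroup.mem_centralizer_singleton_iff.mp hq.2
  have hxV : x ∈ V := mem_zc.mpr ⟨hxQ, hQx⟩
  have hVQ : V ≤ Q := zc_le Q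
  have hVcomm : ∀ v ∈ V, ∀ q ∈ Q, q * v = v * q := fun v hv => (mem_zc.mp hv).2
  have hZSV : zc (S : Subgroup G) ≤ V := by
    intro z hz
    rw [mem_zc] at hz
    refine mem_zc.mpr ⟨⟨hz.1, Subgroup.mem_centralizer_singleton_iff.mpr (hz.2 x hxS).symm⟩,
      fun q hq => hz.2 q (hQS hq)⟩
  have hcard : ∀ S₁ : Sylow 2 G, ∃ v ∈ V, v ∉ zc (S₁ : Subgroup G) := by
    intro S₁
    by_contra hall
    push Not at hall
    have h1 : Nat.card V ≤ Nat.card (zc (S₁ : Subgroup G)) := Subgroup.card_le_of_le hall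
    have h2 := card_zc_le S S₁
    have h3 : zc (S : Subgroup G) = V := Subgroup.eq_of_le_of_card_ge hZSV (by omega)
    exact hxZ (h3 ▸ hxV)
  have h2a : ∀ S₁ : Sylow 2 G, Q ≤ S₁ → ∀ v ∈ V, v ∉ zc (S₁ : Subgroup G) →
      (S₁ : Subgroup G) ⊓ Subgroup.centralizer ({v} : Set G) = Q := by
    intro S₁ hQS₁ v hv hvZ
    have hle : Q ≤ (S₁ : Subgroup G) ⊓ Subgroup.centralizer ({v} : Set G) :=
      le_inf hQS₁ (fun q hq => Subgroup.mem_centralizer_singleton_iff.mpr (hVcomm v hv q hq))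
    exact (Subgroup.eq_of_le_of_card_ge hle (hM S₁ v (hQS₁ (hVQ hv)) hvZ)).symm
  have h2b : ∀ S₁ : Sylow 2 G, Q ≤ S₁ → zc (S₁ : Subgroup G) ≤ V := by
    intro S₁ hQS₁ z hz
    obtain ⟨v, hv, hvZ⟩ := hcard S₁
    have h := h2a S₁ hQS₁ v hv hvZ
    have hzQ : z ∈ Q := by
      rw [← h]
      exact ⟨(mem_zc.mp hz).1, Subgroup.mem_centralizer_singleton_iff.mpr
        ((mem_zc.mp hz).2 v (hQS₁ (hVQ hv))).symm⟩
    exact mem_zc.mpr ⟨hzQ, fun q hq => (mem_zc.mp hz).2 q (hQS₁ hq)⟩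
  have h2c : ∀ S₁ : Sylow 2 G, Q ≤ S₁ → ∀ r ∈ S₁, r ∉ Q → ∀ v ∈ V, r * v = v * r →
      v ∈ zc (S₁ : Subgroup G) := by
    intro S₁ hQS₁ r hr hrQ v hv hrv
    by_contra hvZ
    apply hrQ
    rw [← h2a S₁ hQS₁ v hv hvZ]
    exact ⟨hr, Subgroup.mem_centralizer_singleton_iff.mpr hrv⟩
  -- Step 3
  have hx2 : ∃ k : ℕ, orderOf x = 2 ^ k := two_elt_of_mem S.2 hxS
  obtain ⟨T, hQT, hTx⟩ := l0a hP hx2 Q hQ2 inf_le_right
  have hxZT : x ∈ zc (T : Subgroup G) :=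
    mem_zc.mpr ⟨hQT hxQ, fun y hy => Subgroup.mem_centralizer_singleton_iff.mp (hTx hy)⟩
  -- Step 4
  have hQneS : Q ≠ S := by
    intro h
    apply hxZ
    refine mem_zc.mpr ⟨hxS, fun y hy => ?_⟩
    have : y ∈ Q := by rw [h]; exact hy
    exact hQx y this
  have hQneT : Q ≠ T := by
    intro h
    have hTS : (T : Subgroup G) ≤ S := h ▸ hQS
    have := T.is_maximal' S.2 hTS
    exact hQneS (h.trans this.symm)
  obtain ⟨g, hgS, hgQ, hgN, hg2⟩ := exists_normalizing hQS hQneS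
  obtain ⟨h, hhT, hhQ, hhN, hh2⟩ := exists_normalizing hQT hQneT
  -- the action on V
  have hNV := normalizer_le_normalizer_zc Q
  have hgNV : g ∈ Subgroup.normalizer ((V : Subgroup G) : Set G) := hNV hgN
  have hhNV : h ∈ Subgroup.normalizer ((V : Subgroup G) : Set G) := hNV hhN
  have hρ : ∀ (n : Subgroup.normalizer ((V : Subgroup G) : Set G)) (v : V),
      ((V.normalizerMonoidHom n v : V) : G) = n * v * (n : G)⁻¹ := fun _ _ => rfl
  have hker : ∀ n : Subgroup.normalizer ((V : Subgroup G) : Set G),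
      (∀ v ∈ V, (n : G) * v = v * n) → V.normalizerMonoidHom n = 1 := by
    intro n hn
    ext v
    rw [hρ, hn v v.2]
    simp
  have hker' : ∀ n : Subgroup.normalizer ((V : Subgroup G) : Set G),
      V.normalizerMonoidHom n = 1 → ∀ v ∈ V, (n : G) * v = v * n := by
    intro n hn v hv
    have := hρ n ⟨v, hv⟩
    rw [hn] at this
    simp only [MulAut.one_apply] at this
    calc (n : G) * v = (n : G) * v * (n : G)⁻¹ * n := by group
      _ = v * n := by rw [← this]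
  have hQcV : ∀ q ∈ Q, ∀ v ∈ V, q * v = v * q := fun q hq v hv => hVcomm v hv q hq
  have hQN : Q ≤ Subgroup.normalizer ((V : Subgroup G) : Set G) :=
    fun q hq => hNV (Subgroup.le_normalizer hq)
  have hτg2 : (V.normalizerMonoidHom ⟨g, hgNV⟩) ^ 2 = 1 := by
    rw [← map_pow]
    apply hker
    intro v hv
    exact hQcV _ hg2 v hv
  have hτh2 : (V.normalizerMonoidHom ⟨h, hhNV⟩) ^ 2 = 1 := by
    rw [← map_pow]
    apply hker
    intro v hv
    exact hQcV _ hh2 v hv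
  -- Step 5
  have hπ : ¬ ∃ j : ℕ, (V.normalizerMonoidHom ⟨g, hgNV⟩ * V.normalizerMonoidHom ⟨h, hhNV⟩) ^ (2 ^ j)
      = 1 := by
    rintro ⟨j, hj⟩
    have hD := isPGroup_closure_pair _ _ hτg2 hτh2 j hj
    set D := Subgroup.closure ({V.normalizerMonoidHom ⟨g, hgNV⟩, V.normalizerMonoidHom ⟨h, hhNV⟩} :
      Set (MulAut V)) with hDdef
    set K : Subgroup G := (D.comap V.normalizerMonoidHom).map (Subgroup.subtype _) with hKdef
    have hKN : K ≤ Subgroup.normalizer ((V : Subgroup G) : Set G) := by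
      rintro _ ⟨n, _, rfl⟩
      exact n.2
    have memK : ∀ k (hk : k ∈ K), V.normalizerMonoidHom ⟨k, hKN hk⟩ ∈ D := by
      intro k hk
      obtain ⟨n, hn, rfl⟩ := hk
      exact hn
    have memK' : ∀ n : Subgroup.normalizer ((V : Subgroup G) : Set G),
        V.normalizerMonoidHom n ∈ D → (n : G) ∈ K := fun n hn => ⟨n, hn, rfl⟩
    have hgK : g ∈ K := memK' ⟨g, hgNV⟩ (Subgroup.subset_closure (by simp))
    have hhK : h ∈ K := memK' ⟨h, hhNV⟩ (Subgroup.subset_closure (by simp))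
    have hQK : Q ≤ K := by
      intro q hq
      refine memK' ⟨q, hQN hq⟩ ?_
      rw [hker ⟨q, hQN hq⟩ (fun v hv => hQcV q hq v hv)]
      exact one_mem _
    set ρK : ↥K →* MulAut V := V.normalizerMonoidHom.comp (Subgroup.inclusion hKN) with hρK
    have hrange : ρK.range ≤ D := by
      rintro _ ⟨k, rfl⟩
      exact memK k.1 k.2
    obtain ⟨a, ha⟩ := hD.exists_card_eq
    have hkeridx : ρK.ker.index ∣ 2 ^ a := by
      rw [Subgroup.index_ker, ← ha]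
      exact Subgroup.card_dvd_of_le hrange
    have hSK2 : IsPGroup 2 ((S : Subgroup G).subgroupOf K) := S.2.comap_subtype
    obtain ⟨R, hR⟩ := hSK2.exists_le_sylow
    have hRidx : ¬ 2 ∣ (R : Subgroup K).index := R.not_dvd_index
    have hJ1 : ((R : Subgroup K) ⊔ ρK.ker).index ∣ (R : Subgroup K).index :=
      Subgroup.index_dvd_of_le le_sup_left
    have hJ2 : ((R : Subgroup K) ⊔ ρK.ker).index ∣ 2 ^ a :=
      (Subgroup.index_dvd_of_le le_sup_right).trans hkeridx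
    have hJ : (R : Subgroup K) ⊔ ρK.ker = ⊤ := by
      rw [← Subgroup.index_eq_one]
      obtain ⟨b, _, hb⟩ := (Nat.dvd_prime_pow Nat.prime_two).mp hJ2
      rcases Nat.eq_zero_or_pos b with h0 | h0
      · rw [hb, h0, pow_zero]
      · exfalso
        apply hRidx
        refine dvd_trans ?_ hJ1
        rw [hb]
        exact dvd_pow_self 2 (by omega)
    have hhJ : (⟨h, hhK⟩ : K) ∈ (R : Subgroup K) ⊔ ρK.ker := by rw [hJ]; trivial
    obtain ⟨r', hr', k', hk', hrk⟩ := Subgroup.mem_sup_of_normal_right.mp hhJ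
    have hRp : IsPGroup 2 ((R : Subgroup K).map K.subtype) := R.2.map _
    obtain ⟨S₁, hS₁⟩ := hRp.exists_le_sylow
    have hgS₁ : g ∈ S₁ := hS₁ ⟨⟨g, hgK⟩, hR (Subgroup.mem_subgroupOf.mpr hgS), rfl⟩
    have hQS₁ : Q ≤ S₁ := fun q hq =>
      hS₁ ⟨⟨q, hQK hq⟩, hR (Subgroup.mem_subgroupOf.mpr (hQS hq)), rfl⟩
    have hrS₁ : (r' : G) ∈ S₁ := hS₁ ⟨r', hr', rfl⟩
    have hk'V : ∀ v ∈ V, (k' : G) * v = v * k' := by
      have : V.normalizerMonoidHom ⟨k', hKN k'.2⟩ = 1 := MonoidHom.mem_ker.mp hk'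
      exact hker' _ this
    have hrk' : (r' : G) * k' = h := congrArg Subtype.val hrk
    have hrx : (r' : G) * x = x * r' := by
      have h1 : h * x = x * h := (mem_zc.mp hxZT).2 h hhT
      have h2 := hk'V x hxV
      have h3 : (r' : G) = h * (k' : G)⁻¹ := by rw [← hrk']; group
      have h2' : (k' : G)⁻¹ * x = x * (k' : G)⁻¹ := by
        calc (k' : G)⁻¹ * x = (k' : G)⁻¹ * (x * k') * (k' : G)⁻¹ := by group
          _ = (k' : G)⁻¹ * (k' * x) * (k' : G)⁻¹ := by rw [h2]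
          _ = x * (k' : G)⁻¹ := by group
      rw [h3, mul_assoc, h2', ← mul_assoc, h1, mul_assoc]
    have hrQ : (r' : G) ∉ Q := by
      intro hrQ
      obtain ⟨v, hv, hvZ⟩ := hcard T
      apply hvZ
      apply h2c T hQT h hhT hhQ v hv
      have h1 := hQcV _ hrQ v hv
      have h2 := hk'V v hv
      rw [← hrk', mul_assoc, h2, ← mul_assoc, h1, mul_assoc]
    have hxZ₁ := h2c S₁ hQS₁ r' hrS₁ hrQ x hxV hrx
    have hgx : g * x = x * g := (mem_zc.mp hxZ₁).2 g hgS₁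
    exact hgQ ⟨hgS, Subgroup.mem_centralizer_singleton_iff.mpr hgx⟩
  -- Step 6
  have hV2 : IsPGroup 2 V := hQ2.to_le hVQ
  have hVc : ∀ a b : V, a * b = b * a := by
    intro a b
    apply Subtype.ext
    exact hVcomm b.1 b.2 a.1 (hVQ a.2)
  letI cg : CommGroup V := { (inferInstance : Group V) with mul_comm := hVc }
  obtain ⟨u₀, hu₀⟩ := exists_not_square (A := V) hV2 (V.normalizerMonoidHom ⟨g, hgNV⟩)
    (V.normalizerMonoidHom ⟨h, hhNV⟩) hτh2 hπ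
  set u := (u₀ : G) with hu
  have huV : u ∈ V := u₀.2
  have hconjV : g * u * g⁻¹ ∈ V := (Subgroup.mem_normalizer_iff.mp hgNV u).mp huV
  set w := u * (g * u * g⁻¹) with hw
  have hwV : w ∈ V := mul_mem huV hconjV
  have hwsq : ∀ c ∈ V, c ^ 2 ≠ w := by
    intro c hc hcw
    apply hu₀ ⟨c, hc⟩
    apply Subtype.ext
    have h1 : (((⟨c, hc⟩ : V) ^ 2 : V) : G) = c ^ 2 := rfl
    have h2 : ((u₀ * V.normalizerMonoidHom ⟨g, hgNV⟩ u₀ : V) : G) = u * (g * u * g⁻¹) := rfl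
    rw [h1, h2, hcw]
  have hg2elt : ∃ k : ℕ, orderOf g = 2 ^ k := two_elt_of_mem S.2 hgS
  have hq2 : ∃ k : ℕ, orderOf (g ^ 2) = 2 ^ k := two_elt_of_mem hQ2 hg2
  set Y : Subgroup G := (S : Subgroup G) ⊓ Subgroup.centralizer ({g ^ 2} : Set G) with hYdef
  have hY2 : IsPGroup 2 Y := S.2.to_le inf_le_left
  have hgY : g ∈ Y := ⟨hgS, Subgroup.mem_centralizer_singleton_iff.mpr (by group)⟩
  have hVY : V ≤ Y := fun v hv =>
    ⟨hQS (hVQ hv), Subgroup.mem_centralizer_singleton_iff.mpr (hVcomm v hv _ hg2).symm⟩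
  have hqY : g ^ 2 ∈ Y := ⟨hQS hg2, Subgroup.mem_centralizer_singleton_iff.mpr rfl⟩
  obtain ⟨Sq, hYSq, hSqq⟩ := l0a hP hq2 Y hY2 inf_le_right
  have hqZ : g ^ 2 ∈ zc (Sq : Subgroup G) :=
    mem_zc.mpr ⟨hYSq hqY, fun y hy => Subgroup.mem_centralizer_singleton_iff.mp (hSqq hy)⟩
  obtain ⟨c, hcZ, hc2⟩ := l0b hP Sq hqZ hg2elt rfl
  have hcg : g * c = c * g := (mem_zc.mp hcZ).2 g (hYSq hgY)
  have hcV : ∀ v ∈ V, v * c = c * v := fun v hv => (mem_zc.mp hcZ).2 v (hYSq (hVY hv))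
  set e := g * c⁻¹ with he
  have he2 : e * e = 1 := by
    have h1 : c⁻¹ * g = g * c⁻¹ := by
      calc c⁻¹ * g = c⁻¹ * (g * c) * c⁻¹ := by group
        _ = c⁻¹ * (c * g) * c⁻¹ := by rw [hcg]
        _ = g * c⁻¹ := by group
    calc e * e = g * (c⁻¹ * g) * c⁻¹ := by rw [he]; group
      _ = g * (g * c⁻¹) * c⁻¹ := by rw [h1]
      _ = g ^ 2 * (c ^ 2)⁻¹ := by rw [pow_two, pow_two, mul_inv_rev]; simp only [mul_assoc]
      _ = 1 := by rw [hc2]; exact mul_inv_cancel _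
  have heinv : e⁻¹ = e := inv_eq_of_mul_eq_one_right he2
  have heV : ∀ v ∈ V, e * v * e⁻¹ = g * v * g⁻¹ := by
    intro v hv
    have h1 : c⁻¹ * v = v * c⁻¹ := by
      calc c⁻¹ * v = c⁻¹ * (v * c) * c⁻¹ := by group
        _ = c⁻¹ * (c * v) * c⁻¹ := by rw [hcV v hv]
        _ = v * c⁻¹ := by group
    calc e * v * e⁻¹ = g * (c⁻¹ * v) * c * g⁻¹ := by rw [he]; group
      _ = g * (v * c⁻¹) * c * g⁻¹ := by rw [h1]
      _ = g * v * g⁻¹ := by group
  set s := e * u with hs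
  have hs2 : s ^ 2 = w := by
    have h1 := heV u huV
    rw [heinv] at h1
    have h2 : (g * u * g⁻¹) * u = u * (g * u * g⁻¹) := hVcomm u huV _ (hVQ hconjV)
    calc s ^ 2 = (e * u * e) * u := by rw [hs, pow_two]; group
      _ = (g * u * g⁻¹) * u := by rw [h1]
      _ = w := by rw [h2]
  have hw2elt := two_elt_of_mem hV2 hwV
  have hs2elt : ∃ k : ℕ, orderOf s = 2 ^ k := by
    obtain ⟨k, hk⟩ := hw2elt
    have : s ^ (2 ^ (k + 1)) = 1 := by
      rw [pow_succ', pow_mul, hs2, ← hk, pow_orderOf_eq_one]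
    obtain ⟨i, _, hi⟩ := (Nat.dvd_prime_pow Nat.prime_two).mp (orderOf_dvd_of_pow_eq_one this)
    exact ⟨i, hi⟩
  have hQw : Q ≤ Subgroup.centralizer ({w} : Set G) := fun q hq =>
    Subgroup.mem_centralizer_singleton_iff.mpr (hVcomm w hwV q hq)
  obtain ⟨S₂, hQS₂, hS₂w⟩ := l0a hP hw2elt Q hQ2 hQw
  have hwZ : w ∈ zc (S₂ : Subgroup G) :=
    mem_zc.mpr ⟨hQS₂ (hVQ hwV), fun y hy => Subgroup.mem_centralizer_singleton_iff.mp (hS₂w hy)⟩
  obtain ⟨c', hc'Z, hc'2⟩ := l0b hP S₂ hwZ hs2elt hs2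
  exact hwsq c' (h2b S₂ hQS₂ hc'Z) hc'2

end Cfsg.Agent.H1.CaminaHerzog
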