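import Mathlib
import Cfsg.Prelude.Def_Solvable
import Cfsg.Agent.Lib.Helper4.FrobThm

set_option autoImplicit false

namespace Cfsg.Agent.H1.CentMax

open scoped Pointwise

universe u
variable {G : Type u} [Group G]

/-- the centralizer of an element -/
abbrev Cn (x : G) : Subgroup G := Subgroup.centralizer ({x} : Set G)

lemma mem_Cn {x g : G} : g ∈ Cn x ↔ g * x = x * g := Subgroup.mem_centralizer_singleton_iff

lemma self_mem_Cn (x : G) : x ∈ Cn x := mem_Cn.mpr rfl

lemma Cn_ne_top (hZ : Subgroup.center G = ⊥) {y : G} (hy : y ≠ 1) : Cn y ≠ ⊤ := by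
  intro h
  apply hy
  have h1 : y ∈ Subgroup.center G := by
    rw [Subgroup.mem_center_iff]
    intro g
    have : g ∈ Cn y := h ▸ Subgroup.mem_top g
    exact mem_Cn.mp this
  rw [hZ, Subgroup.mem_bot] at h1
  exact h1

/-- centralizers of nonidentity elements are incomparable -/
lemma Cn_eq_of_le (hZ : Subgroup.center G = ⊥)
    (h : ∀ x : G, x ≠ 1 → IsCoatom (Cn x)) {x y : G} (hx : x ≠ 1) (hy : y ≠ 1)
    (hle : Cn x ≤ Cn y) : Cn x = Cn y := by
  by_contra hne
  exact Cn_ne_top hZ hy ((h x hx).2 _ (lt_of_le_of_ne hle hne))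

lemma Cn_le_of_mem_zpowers {x y : G} (hy : y ∈ Subgroup.zpowers x) : Cn x ≤ Cn y := by
  obtain ⟨k, rfl⟩ := hy
  intro g hg
  rw [mem_Cn] at hg ⊢
  have : Commute g x := hg
  exact (this.zpow_right k).eq

lemma mem_zpowers_mul_of_coprime {c b : G} (hcb : Commute c b)
    (hcop : Nat.Coprime (orderOf c) (orderOf b)) : c ∈ Subgroup.zpowers (c * b) := by
  obtain ⟨u, v, huv⟩ := Nat.isCoprime_iff_coprime.mpr hcop
  refine ⟨v * orderOf b, ?_⟩
  show (c * b) ^ (v * (orderOf b : ℤ)) = c
  rw [hcb.mul_zpow]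
  have h1 : b ^ (v * (orderOf b : ℤ)) = 1 := by
    rw [zpow_mul', zpow_natCast, pow_orderOf_eq_one, one_zpow]
  have h2 : c ^ (v * (orderOf b : ℤ)) = c := by
    have : v * (orderOf b : ℤ) = 1 - u * (orderOf c : ℤ) := by linarith
    rw [this, zpow_sub, zpow_one, zpow_mul', zpow_natCast, pow_orderOf_eq_one, one_zpow, inv_one,
      mul_one]
  rw [h1, h2, mul_one]

/-- commuting elements of coprime orders have the same centralizer -/
lemma Cn_eq_of_commute_coprime (hZ : Subgroup.center G = ⊥)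
    (h : ∀ x : G, x ≠ 1 → IsCoatom (Cn x)) {x y : G} (hx : x ≠ 1) (hy : y ≠ 1)
    (hc : Commute x y) (hcop : Nat.Coprime (orderOf x) (orderOf y)) : Cn x = Cn y := by
  have hxy : x * y ≠ 1 := by
    intro h1
    have h2 : y = x⁻¹ := (eq_inv_of_mul_eq_one_right h1)
    rw [h2, orderOf_inv, Nat.coprime_self] at hcop
    exact hx (orderOf_eq_one_iff.mp hcop)
  have h1 : Cn (x * y) = Cn x :=
    Cn_eq_of_le hZ h hxy hx (Cn_le_of_mem_zpowers (mem_zpowers_mul_of_coprime hc hcop))
  have h2 : Cn (x * y) = Cn y := by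
    have : y ∈ Subgroup.zpowers (x * y) := by
      rw [hc.eq]; exact mem_zpowers_mul_of_coprime hc.symm hcop.symm
    exact Cn_eq_of_le hZ h hxy hy (Cn_le_of_mem_zpowers this)
  rw [← h1, h2]

/-- a prime-order power of a nonidentity element -/
lemma exists_prime_order_pow [Finite G] {m : G} {r : ℕ} (_hr : r.Prime) (hrm : r ∣ orderOf m) :
    ∃ m' ∈ Subgroup.zpowers m, orderOf m' = r := by
  refine ⟨m ^ (orderOf m / r), Subgroup.npow_mem_zpowers m _, ?_⟩
  exact orderOf_pow_orderOf_div (orderOf_pos m).ne' hrm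

/-- a nonabelian centralizer is a `p`-group -/
lemma isPGroup_of_not_comm [Finite G] (hZ : Subgroup.center G = ⊥)
    (h : ∀ x : G, x ≠ 1 → IsCoatom (Cn x)) {x : G} (hx : x ≠ 1)
    (hnc : ∃ m₁ ∈ Cn x, ∃ m₂ ∈ Cn x, m₁ * m₂ ≠ m₂ * m₁) :
    ∃ p : ℕ, p.Prime ∧ ∀ m ∈ Cn x, ∃ k : ℕ, orderOf m = p ^ k := by
  have hox : orderOf x ≠ 1 := fun h1 => hx (orderOf_eq_one_iff.mp h1)
  obtain ⟨p, hp, hpx⟩ := Nat.exists_prime_and_dvd hox
  obtain ⟨x', hx'z, hx'o⟩ := exists_prime_order_pow hp hpx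
  have hx'1 : x' ≠ 1 := by
    intro h1; rw [h1, orderOf_one] at hx'o; exact hp.one_lt.ne hx'o
  have hCx' : Cn x = Cn x' := Cn_eq_of_le hZ h hx hx'1 (Cn_le_of_mem_zpowers hx'z)
  -- elements whose order is not a power of `p` are central in `Cn x`
  have key : ∀ u ∈ Cn x, (¬ ∃ k : ℕ, orderOf u = p ^ k) → Cn u = Cn x := by
    intro u hu hnk
    have hu1 : u ≠ 1 := by
      rintro rfl; exact hnk ⟨0, by simp⟩
    have hex : ∃ r : ℕ, r.Prime ∧ r ∣ orderOf u ∧ r ≠ p := by
      by_contra hcon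
      push_neg at hcon
      exact hnk ⟨_, Nat.eq_prime_pow_of_unique_prime_dvd (orderOf_pos u).ne'
        (fun {d} hd hdu => hcon d hd hdu)⟩
    obtain ⟨r, hr, hru, hrp⟩ := hex
    obtain ⟨u', hu'z, hu'o⟩ := exists_prime_order_pow hr hru
    have hu'1 : u' ≠ 1 := by
      intro h1; rw [h1, orderOf_one] at hu'o; exact hr.one_lt.ne hu'o
    have hu'C : u' ∈ Cn x' := by
      rw [← hCx']
      exact (Subgroup.zpowers_le.mpr hu) hu'z
    have hcomm : Commute x' u' := (mem_Cn.mp hu'C).symm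
    have hcop : Nat.Coprime (orderOf x') (orderOf u') := by
      rw [hx'o, hu'o]; exact (Nat.coprime_primes hp hr).mpr hrp.symm
    have h1 : Cn x' = Cn u' := Cn_eq_of_commute_coprime hZ h hx'1 hu'1 hcomm hcop
    have h2 : Cn u ≤ Cn u' := Cn_le_of_mem_zpowers hu'z
    have h3 : Cn u = Cn u' := Cn_eq_of_le hZ h hu1 hu'1 h2
    rw [h3, ← h1, hCx']
  refine ⟨p, hp, ?_⟩
  intro m hm
  by_contra hnk
  have hCm : Cn m = Cn x := key m hm hnk
  obtain ⟨m₁, hm₁, m₂, hm₂, hne⟩ := hnc
  -- `m₁` must be a `p`-element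
  have hm₁p : ∃ k : ℕ, orderOf m₁ = p ^ k := by
    by_contra hcon
    have := key m₁ hm₁ hcon
    apply hne
    have h2 : m₂ ∈ Cn m₁ := this ▸ hm₂
    exact (mem_Cn.mp h2).symm
  have hm₁1 : m₁ ≠ 1 := by
    rintro rfl; exact hne (by simp)
  have hm1 : m ≠ 1 := by
    rintro rfl; exact hnk ⟨0, by simp⟩
  -- a prime `r ≠ p` dividing the order of `m`
  have hex : ∃ r : ℕ, r.Prime ∧ r ∣ orderOf m ∧ r ≠ p := by
    by_contra hcon
    push_neg at hcon
    exact hnk ⟨_, Nat.eq_prime_pow_of_unique_prime_dvd (orderOf_pos m).ne'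
      (fun {d} hd hdu => hcon d hd hdu)⟩
  obtain ⟨r, hr, hrm, hrp⟩ := hex
  obtain ⟨m', hm'z, hm'o⟩ := exists_prime_order_pow hr hrm
  have hm'1 : m' ≠ 1 := by
    intro h1; rw [h1, orderOf_one] at hm'o; exact hr.one_lt.ne hm'o
  have hm'C : m' ∈ Cn x := (Subgroup.zpowers_le.mpr hm) hm'z
  have hCm' : Cn m' = Cn x := by
    apply key m' hm'C
    rintro ⟨k, hk⟩
    rw [hm'o] at hk
    have : r ∣ p ^ k := hk ▸ dvd_refl r
    exact hrp ((Nat.prime_dvd_prime_iff_eq hr hp).mp (hr.dvd_of_dvd_pow this))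
  have hcomm : Commute m₁ m' := by
    have : m₁ ∈ Cn m' := hCm' ▸ hm₁
    exact mem_Cn.mp this
  obtain ⟨k, hk⟩ := hm₁p
  have hcop : Nat.Coprime (orderOf m₁) (orderOf m') := by
    rw [hk, hm'o]
    exact Nat.Coprime.pow_left _ ((Nat.coprime_primes hp hr).mpr hrp.symm)
  have h5 : Cn m₁ = Cn m' := Cn_eq_of_commute_coprime hZ h hm₁1 hm'1 hcomm hcop
  apply hne
  have h6 : m₂ ∈ Cn m₁ := by rw [h5, hCm']; exact hm₂
  exact (mem_Cn.mp h6).symm

/-- a maximal subgroup which is a `p`-group is a Sylow `p`-subgroup -/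
lemma exists_sylow_eq [Finite G] [Nontrivial G] (hZ : Subgroup.center G = ⊥) {p : ℕ}
    [Fact p.Prime] {M : Subgroup G} (hM : IsCoatom M) (hp : ∀ m ∈ M, ∃ k : ℕ, orderOf m = p ^ k) :
    ∃ P : Sylow p G, (P : Subgroup G) = M := by
  have hMp : IsPGroup p M := by
    intro m
    obtain ⟨k, hk⟩ := hp m m.2
    refine ⟨k, ?_⟩
    apply Subtype.ext
    rw [Subgroup.coe_pow, ← hk, pow_orderOf_eq_one]; rfl
  obtain ⟨P, hP⟩ := hMp.exists_le_sylow
  refine ⟨P, ?_⟩
  by_contra hne
  have hlt : M < (P : Subgroup G) := lt_of_le_of_ne hP (Ne.symm hne)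
  have htop : (P : Subgroup G) = ⊤ := hM.2 _ hlt
  have hG : IsPGroup p G := by
    intro g
    obtain ⟨k, hk⟩ := P.isPGroup' ⟨g, htop ▸ Subgroup.mem_top g⟩
    exact ⟨k, congrArg Subtype.val hk⟩
  have := hG.center_nontrivial
  rw [hZ] at this
  exact not_nontrivial _ this

/-- a normal centralizer makes the group solvable -/
lemma solvable_of_normal [Finite G] (hZ : Subgroup.center G = ⊥)
    (h : ∀ x : G, x ≠ 1 → IsCoatom (Cn x)) {x : G} (hx : x ≠ 1) (hn : (Cn x).Normal) :
    Group.IsSolvable G := by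
  haveI : Nontrivial G := ⟨⟨x, 1, hx⟩⟩
  haveI := hn
  -- the centralizer is solvable
  haveI hM : Group.IsSolvable (Cn x) := by
    by_cases hc : ∀ m₁ ∈ Cn x, ∀ m₂ ∈ Cn x, m₁ * m₂ = m₂ * m₁
    · exact Group.isSolvable_of_comm (fun a b => Subtype.ext (hc a a.2 b b.2))
    · push_neg at hc
      obtain ⟨p, hp, hpM⟩ := isPGroup_of_not_comm hZ h hx hc
      haveI : Fact p.Prime := ⟨hp⟩
      have hMp : IsPGroup p (Cn x) := by
        intro m
        obtain ⟨k, hk⟩ := hpM m m.2
        refine ⟨k, ?_⟩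
        apply Subtype.ext
        rw [Subgroup.coe_pow, ← hk, pow_orderOf_eq_one]; rfl
      haveI := hMp.isNilpotent
      infer_instance
  -- the quotient is cyclic
  haveI hQ : Group.IsSolvable (G ⧸ Cn x) := by
    have hsub : ∀ H : Subgroup (G ⧸ Cn x), H = ⊥ ∨ H = ⊤ := by
      intro H
      have h1 : Cn x ≤ H.comap (QuotientGroup.mk' (Cn x)) := by
        intro g hg
        rw [Subgroup.mem_comap]
        have : (QuotientGroup.mk' (Cn x)) g = 1 := (QuotientGroup.eq_one_iff g).mpr hg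
        rw [this]; exact H.one_mem
      rcases eq_or_lt_of_le h1 with h2 | h2
      · left
        rw [eq_bot_iff]
        intro q hq
        obtain ⟨g, rfl⟩ := QuotientGroup.mk'_surjective (Cn x) q
        have : g ∈ H.comap (QuotientGroup.mk' (Cn x)) := hq
        rw [← h2] at this
        rw [Subgroup.mem_bot]
        exact (QuotientGroup.eq_one_iff g).mpr this
      · right
        have h3 := (h x hx).2 _ h2
        rw [eq_top_iff]
        intro q _
        obtain ⟨g, rfl⟩ := QuotientGroup.mk'_surjective (Cn x) q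
        have : g ∈ H.comap (QuotientGroup.mk' (Cn x)) := h3 ▸ Subgroup.mem_top g
        exact this
    apply Group.isSolvable_of_comm
    intro a b
    by_cases ha : a = 1
    · rw [ha]; simp
    · have h1 : Subgroup.zpowers a = ⊤ := by
        rcases hsub (Subgroup.zpowers a) with h2 | h2
        · exact absurd (Subgroup.zpowers_eq_bot.mp h2) ha
        · exact h2
      have hb : b ∈ Subgroup.zpowers a := h1 ▸ Subgroup.mem_top b
      obtain ⟨k, rfl⟩ := hb
      exact ((Commute.refl a).zpow_right k).eq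
  exact Group.isSolvable_of_ker_le_range (Cn x).subtype (QuotientGroup.mk' (Cn x))
    (by rw [QuotientGroup.ker_mk', Subgroup.range_subtype])

lemma Cn_conj (g x : G) (m : G) : m ∈ Cn (g * x * g⁻¹) ↔ g⁻¹ * m * g ∈ Cn x := by
  rw [mem_Cn, mem_Cn]
  constructor
  · intro h1
    calc g⁻¹ * m * g * x = g⁻¹ * (m * (g * x * g⁻¹)) * g := by group
      _ = g⁻¹ * ((g * x * g⁻¹) * m) * g := by rw [h1]
      _ = x * (g⁻¹ * m * g) := by group
  · intro h1
    calc m * (g * x * g⁻¹) = g * (g⁻¹ * m * g * x) * g⁻¹ := by group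
      _ = g * (x * (g⁻¹ * m * g)) * g⁻¹ := by rw [h1]
      _ = g * x * g⁻¹ * m := by group

/-- an abelian centralizer equals the centralizer of each of its nonidentity elements -/
lemma Cn_eq_of_mem_comm (hZ : Subgroup.center G = ⊥)
    (h : ∀ x : G, x ≠ 1 → IsCoatom (Cn x)) {x y : G} (hx : x ≠ 1) (hy : y ≠ 1)
    (hab : ∀ m₁ ∈ Cn x, ∀ m₂ ∈ Cn x, m₁ * m₂ = m₂ * m₁) (hyx : y ∈ Cn x) : Cn y = Cn x := by
  have hle : Cn x ≤ Cn y := by
    intro m hm
    exact mem_Cn.mpr (hab m hm y hyx)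
  exact (Cn_eq_of_le hZ h hx hy hle).symm

/-- case (i): an abelian non-normal centralizer is impossible when no centralizer is normal -/
lemma false_of_comm [Finite G] (hZ : Subgroup.center G = ⊥)
    (h : ∀ x : G, x ≠ 1 → IsCoatom (Cn x)) (hnn : ∀ x : G, x ≠ 1 → ¬ (Cn x).Normal)
    {x : G} (hx : x ≠ 1) (hab : ∀ m₁ ∈ Cn x, ∀ m₂ ∈ Cn x, m₁ * m₂ = m₂ * m₁) : False := by
  set A := Cn x with hA
  have hcoat : IsCoatom A := h x hx
  have hnorm : Subgroup.normalizer (A : Set G) = A := by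
    by_contra hne
    have hlt : A < Subgroup.normalizer (A : Set G) :=
      lt_of_le_of_ne Subgroup.le_normalizer (Ne.symm hne)
    have htop := hcoat.2 _ hlt
    exact hnn x hx (Subgroup.normalizer_eq_top_iff.mp htop)
  have hFC : Cfsg.IsFrobeniusComplement A := by
    refine ⟨?_, hcoat.1, ?_⟩
    · intro hbot
      have : x ∈ A := self_mem_Cn x
      rw [hbot, Subgroup.mem_bot] at this
      exact hx this
    · intro g hg
      rw [eq_bot_iff]
      intro y hy
      rw [Subgroup.mem_bot]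
      by_contra hy1
      obtain ⟨hyA, hyg⟩ := Subgroup.mem_inf.mp hy
      rw [Cfsg.Agent.H1.mem_conj_smul_iff'] at hyg
      have h1 : Cn y = A := Cn_eq_of_mem_comm hZ h hx hy1 hab hyA
      have hy'1 : g⁻¹ * y * g ≠ 1 := by
        intro h2
        apply hy1
        have : y = g * (g⁻¹ * y * g) * g⁻¹ := by group
        rw [this, h2]; group
      have h2 : Cn (g⁻¹ * y * g) = A := Cn_eq_of_mem_comm hZ h hx hy'1 hab hyg
      apply hg
      rw [← hnorm, Subgroup.mem_normalizer_iff]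
      intro m
      have e1 : m ∈ A ↔ m ∈ Cn (g⁻¹ * y * g) := by rw [h2]
      have e2 : g * m * g⁻¹ ∈ A ↔ g * m * g⁻¹ ∈ Cn y := by rw [h1]
      rw [e1, e2]
      have e3 : y = g * (g⁻¹ * y * g) * g⁻¹ := by group
      conv_rhs => rw [e3, Cn_conj]
      have e4 : g⁻¹ * (g * m * g⁻¹) * g = m := by group
      rw [e4]
  obtain ⟨K, hKset, hKn, hKc⟩ := Cfsg.Agent.Lib.Helper4.FrobThm.frobenius_theorem A hFC
  have hmemK : ∀ w : G, w ∈ K ↔ (w = 1 ∨ ∀ g : G, w ∉ MulAut.conj g • A) := by
    intro w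
    rw [← SetLike.mem_coe, hKset]; rfl
  have hKtop : K ≠ ⊤ := by
    intro htop
    have hxK : x ∈ K := htop ▸ Subgroup.mem_top x
    rcases (hmemK x).mp hxK with h1 | h1
    · exact hx h1
    · apply h1 1
      rw [Cfsg.Agent.H1.mem_conj_smul_iff']
      simpa using self_mem_Cn x
  have hKbot : K ≠ ⊥ := by
    intro hbot
    have h1 := hKc.card_mul_card
    rw [hbot, Subgroup.card_bot, one_mul] at h1
    exact hcoat.1 ((Subgroup.card_eq_iff_eq_top A).mp h1)
  obtain ⟨y, hy1⟩ := (Subgroup.ne_bot_iff_exists_ne_one.mp hKbot)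
  have hy1' : (y : G) ≠ 1 := fun h1 => hy1 (Subtype.ext h1)
  have hynot : ∀ g : G, (y : G) ∉ MulAut.conj g • A := by
    rcases (hmemK y).mp y.2 with h1 | h1
    · exact absurd h1 hy1'
    · exact h1
  have hle : Cn (y : G) ≤ K := by
    intro w hw
    rw [hmemK]
    by_cases hw1 : w = 1
    · left; exact hw1
    · right
      intro g hwg
      rw [Cfsg.Agent.H1.mem_conj_smul_iff'] at hwg
      have hw'1 : g⁻¹ * w * g ≠ 1 := by
        intro h2
        apply hw1
        have : w = g * (g⁻¹ * w * g) * g⁻¹ := by group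
        rw [this, h2]; group
      have h2 : Cn (g⁻¹ * w * g) = A := Cn_eq_of_mem_comm hZ h hx hw'1 hab hwg
      apply hynot g
      rw [Cfsg.Agent.H1.mem_conj_smul_iff', ← h2, mem_Cn]
      have hwy : w * (y : G) = (y : G) * w := mem_Cn.mp hw
      calc g⁻¹ * (y : G) * g * (g⁻¹ * w * g) = g⁻¹ * ((y : G) * w) * g := by group
        _ = g⁻¹ * (w * (y : G)) * g := by rw [hwy]
        _ = g⁻¹ * w * g * (g⁻¹ * (y : G) * g) := by group
  have hcy : IsCoatom (Cn (y : G)) := h y hy1'
  have heq : Cn (y : G) = K := by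
    by_contra hne
    exact hKtop (hcy.2 _ (lt_of_le_of_ne hle hne))
  exact hnn y hy1' (by rw [heq]; exact hKn)

/-- the centre of a nonabelian `p`-group has index at least `p²` -/
lemma card_center_mul_sq_le {Q : Type*} [Group Q] [Finite Q] {p : ℕ} [Fact p.Prime]
    (hQ : IsPGroup p Q) (hnc : ∃ a b : Q, a * b ≠ b * a) :
    Nat.card (Subgroup.center Q) * p ^ 2 ≤ Nat.card Q := by
  have hp : p.Prime := Fact.out
  obtain ⟨j, hj⟩ := hQ.index (Subgroup.center Q)
  have hcard := (Subgroup.center Q).card_mul_index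
  have hj2 : 2 ≤ j := by
    by_contra hlt
    push_neg at hlt
    obtain ⟨a, b, hab⟩ := hnc
    interval_cases j
    · rw [pow_zero, Subgroup.index_eq_one] at hj
      apply hab
      have : a ∈ Subgroup.center Q := hj ▸ Subgroup.mem_top a
      exact ((Subgroup.mem_center_iff.mp this) b).symm
    · rw [pow_one] at hj
      have hc : Nat.card (Q ⧸ Subgroup.center Q) = p := by
        rw [← Subgroup.index_eq_card]; exact hj
      haveI : IsCyclic (Q ⧸ Subgroup.center Q) := isCyclic_of_prime_card hc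
      have hker : (QuotientGroup.mk' (Subgroup.center Q)).ker ≤ Subgroup.center Q := by
        rw [QuotientGroup.ker_mk']
      exact hab (((QuotientGroup.mk' (Subgroup.center Q)).isMulCommutative_of_isCyclic_of_ker_le_center
        hker).is_comm.comm a b)
  rw [← hcard, hj]
  exact Nat.mul_le_mul_left _ (Nat.pow_le_pow_right hp.pos hj2)

lemma sum_Ioc_inv_sq_le (N : ℕ) (hN : 2 ≤ N) :
    ∑ n ∈ Finset.Ioc 1 N, (1 : ℚ) / (n : ℚ) ^ 2 ≤ 3 / 4 - 1 / N := by
  induction N, hN using Nat.le_induction with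
  | base =>
    have : Finset.Ioc 1 2 = {2} := by decide
    rw [this, Finset.sum_singleton]; norm_num
  | succ N hN ih =>
    rw [Finset.sum_Ioc_succ_top (by omega)]
    have hNpos : (0 : ℚ) < N := by exact_mod_cast (by omega : 0 < N)
    have h1 : (1 : ℚ) / ((N + 1 : ℕ) : ℚ) ^ 2 ≤ 1 / N - 1 / ((N + 1 : ℕ) : ℚ) := by
      push_cast
      rw [div_sub_div _ _ hNpos.ne' (by positivity), div_le_div_iff₀ (by positivity) (by positivity)]
      nlinarith
    linarith

lemma sum_inv_sq_le (S : Finset ℕ) (hS : ∀ p ∈ S, p.Prime) :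
    ∑ p ∈ S, (1 : ℚ) / (p : ℚ) ^ 2 ≤ 3 / 4 := by
  set N := max 2 (S.sup id) with hN
  have hsub : S ⊆ Finset.Ioc 1 N := by
    intro p hp
    rw [Finset.mem_Ioc]
    refine ⟨(hS p hp).one_lt, ?_⟩
    have : p ≤ S.sup id := Finset.le_sup (f := id) hp
    exact le_trans this (le_max_right _ _)
  have h1 := Finset.sum_le_sum_of_subset_of_nonneg hsub
    (f := fun n : ℕ => (1 : ℚ) / (n : ℚ) ^ 2) (fun i _ _ => by positivity)
  have h2 := sum_Ioc_inv_sq_le N (le_max_left _ _)
  have h3 : (0 : ℚ) ≤ 1 / N := by positivity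
  linarith

/-- the nonidentity `p`-elements -/
abbrev PEl (p : ℕ) (G : Type u) [Group G] := {x : G // x ≠ 1 ∧ ∃ k : ℕ, orderOf x = p ^ k}

/-- when all centralizers are nonabelian, nonidentity `p`-elements are scarce -/
lemma pElements_bound [Finite G] [Nontrivial G] (hZ : Subgroup.center G = ⊥)
    (h : ∀ x : G, x ≠ 1 → IsCoatom (Cn x))
    (hall : ∀ x : G, x ≠ 1 → ∃ m₁ ∈ Cn x, ∃ m₂ ∈ Cn x, m₁ * m₂ ≠ m₂ * m₁)
    (p : ℕ) [hp : Fact p.Prime] (hpG : p ∣ Nat.card G) :
    (Nat.card (PEl p G) + 1) * p ^ 2 ≤ Nat.card G := by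
  classical
  have hpp : p.Prime := hp.out
  -- each nonidentity `p`-element has a Sylow `p`-subgroup as centralizer
  have hS : ∀ e : PEl p G, ∃ P : Sylow p G, (P : Subgroup G) = Cn e.1 := by
    rintro ⟨x, hx1, k, hk⟩
    obtain ⟨r, hr, hrM⟩ := isPGroup_of_not_comm hZ h hx1 (hall x hx1)
    obtain ⟨j, hj⟩ := hrM x (self_mem_Cn x)
    have hk0 : k ≠ 0 := by
      rintro rfl
      rw [pow_zero, orderOf_eq_one_iff] at hk
      exact hx1 hk
    have hpr : p = r := by
      have h1 : p ∣ r ^ j := by rw [← hj, hk]; exact dvd_pow_self p hk0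
      exact (Nat.prime_dvd_prime_iff_eq hpp hr).mp (hpp.dvd_of_dvd_pow h1)
    subst hpr
    exact exists_sylow_eq hZ (h x hx1) hrM
  choose φ hφ using hS
  obtain ⟨P₀⟩ : Nonempty (Sylow p G) := inferInstance
  have hcardQ : ∀ Q : Sylow p G, Nat.card (Q : Subgroup G) = Nat.card (P₀ : Subgroup G) := by
    intro Q; rw [Sylow.card_eq_multiplicity, Sylow.card_eq_multiplicity]
  set d := Nat.card (P₀ : Subgroup G) / p ^ 2 with hd
  have hp2pos : 0 < p ^ 2 := pow_pos hpp.pos 2
  -- fibres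
  have hfib : ∀ Q : Sylow p G, Nat.card {e : PEl p G // φ e = Q} + 1 ≤ d ∨
      IsEmpty {e : PEl p G // φ e = Q} := by
    intro Q
    by_cases hemp : IsEmpty {e : PEl p G // φ e = Q}
    · right; exact hemp
    · left
      rw [not_isEmpty_iff] at hemp
      obtain ⟨⟨e₀, he₀⟩⟩ := hemp
      have hQC : (Q : Subgroup G) = Cn e₀.1 := by rw [← he₀]; exact hφ e₀
      have hnc : ∃ a b : (Q : Subgroup G), a * b ≠ b * a := by
        obtain ⟨m₁, hm₁, m₂, hm₂, hne⟩ := hall e₀.1 e₀.2.1
        rw [← hQC] at hm₁ hm₂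
        exact ⟨⟨m₁, hm₁⟩, ⟨m₂, hm₂⟩, fun h1 => hne (congrArg Subtype.val h1)⟩
      have h1 := card_center_mul_sq_le Q.isPGroup' hnc
      rw [hcardQ Q] at h1
      have h2 : Nat.card (Subgroup.center (Q : Subgroup G)) ≤ d :=
        (Nat.le_div_iff_mul_le hp2pos).mpr h1
      refine le_trans ?_ h2
      rw [← Finite.card_option]
      refine Nat.card_le_card_of_injective (fun o : Option {e : PEl p G // φ e = Q} =>
        match o with
        | none => (1 : Subgroup.center (Q : Subgroup G))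
        | some e => (⟨⟨e.1.1, by
            have := hφ e.1
            rw [e.2] at this
            rw [this]; exact self_mem_Cn _⟩, by
            rw [Subgroup.mem_center_iff]
            intro g
            apply Subtype.ext
            have h3 := hφ e.1
            rw [e.2] at h3
            have h4 : (g : G) ∈ Cn e.1.1 := h3 ▸ g.2
            exact mem_Cn.mp h4⟩ : Subgroup.center (Q : Subgroup G))) ?_
      intro o₁ o₂ h12
      match o₁, o₂ with
      | none, none => rfl
      | none, some e =>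
        exfalso
        have h3 : (1 : G) = e.1.1 := congrArg (fun z : Subgroup.center (Q : Subgroup G) =>
          ((z : (Q : Subgroup G)) : G)) h12
        exact e.1.2.1 h3.symm
      | some e, none =>
        exfalso
        have h3 : e.1.1 = (1 : G) := congrArg (fun z : Subgroup.center (Q : Subgroup G) =>
          ((z : (Q : Subgroup G)) : G)) h12
        exact e.1.2.1 h3
      | some e, some e' =>
        have h3 : e.1.1 = e'.1.1 := congrArg (fun z : Subgroup.center (Q : Subgroup G) =>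
          ((z : (Q : Subgroup G)) : G)) h12
        congr 1
        exact Subtype.ext (Subtype.ext h3)
  -- the set of `p`-elements is nonempty, so `d ≥ 1`
  obtain ⟨x₀, hx₀⟩ := exists_prime_orderOf_dvd_card' p hpG
  have hx₀1 : x₀ ≠ 1 := by
    intro h1; rw [h1, orderOf_one] at hx₀; exact hpp.one_lt.ne hx₀
  let e₀ : PEl p G := ⟨x₀, hx₀1, 1, by rw [hx₀, pow_one]⟩
  have hd1 : 1 ≤ d := by
    rcases hfib (φ e₀) with h1 | h1
    · omega
    · exact absurd ⟨⟨e₀, rfl⟩⟩ (not_nonempty_iff.mpr h1)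
  have hfib' : ∀ Q : Sylow p G, Nat.card {e : PEl p G // φ e = Q} ≤ d - 1 := by
    intro Q
    rcases hfib Q with h1 | h1
    · omega
    · haveI := h1
      rw [Nat.card_of_isEmpty]; omega
  haveI : Fintype (Sylow p G) := Fintype.ofFinite _
  have hE : Nat.card (PEl p G) ≤ Nat.card (Sylow p G) * (d - 1) := by
    have e : Nat.card (PEl p G) = Nat.card (Σ Q, {e : PEl p G // φ e = Q}) :=
      Nat.card_congr (Equiv.sigmaFiberEquiv φ).symm
    rw [e, Nat.card_sigma]
    calc ∑ Q, Nat.card {e : PEl p G // φ e = Q} ≤ ∑ _Q : Sylow p G, (d - 1) :=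
          Finset.sum_le_sum (fun Q _ => hfib' Q)
      _ = _ := by rw [Finset.sum_const, Finset.card_univ, smul_eq_mul, ← Nat.card_eq_fintype_card]
  have hnp : Nat.card (Sylow p G) * Nat.card (P₀ : Subgroup G) ≤ Nat.card G := by
    rw [Sylow.card_eq_index_normalizer P₀]
    have h1 : (Subgroup.normalizer ((P₀ : Subgroup G) : Set G)).index ∣ (P₀ : Subgroup G).index :=
      Subgroup.index_dvd_of_le Subgroup.le_normalizer
    have h2 := Nat.le_of_dvd (Nat.pos_of_ne_zero Subgroup.index_ne_zero_of_finite) h1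
    calc _ ≤ (P₀ : Subgroup G).index * Nat.card (P₀ : Subgroup G) := Nat.mul_le_mul_right _ h2
      _ = Nat.card G := by rw [mul_comm]; exact (P₀ : Subgroup G).card_mul_index
  have hnp1 : 1 ≤ Nat.card (Sylow p G) := Nat.card_pos
  have hdp : d * p ^ 2 ≤ Nat.card (P₀ : Subgroup G) := Nat.div_mul_le_self _ _
  set n := Nat.card (Sylow p G) with hn
  calc (Nat.card (PEl p G) + 1) * p ^ 2 ≤ (n * (d - 1) + 1) * p ^ 2 :=
        Nat.mul_le_mul_right _ (by omega)
    _ ≤ (n * d) * p ^ 2 := by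
        apply Nat.mul_le_mul_right
        obtain ⟨d', hd'⟩ : ∃ d', d = d' + 1 := ⟨d - 1, by omega⟩
        rw [hd', Nat.add_sub_cancel]
        nlinarith
    _ = n * (d * p ^ 2) := by ring
    _ ≤ n * Nat.card (P₀ : Subgroup G) := Nat.mul_le_mul_left _ hdp
    _ ≤ Nat.card G := hnp

/-- case (ii): not all centralizers can be nonabelian -/
lemma false_of_all_noncomm [Finite G] [Nontrivial G] (hZ : Subgroup.center G = ⊥)
    (h : ∀ x : G, x ≠ 1 → IsCoatom (Cn x))
    (hall : ∀ x : G, x ≠ 1 → ∃ m₁ ∈ Cn x, ∃ m₂ ∈ Cn x, m₁ * m₂ ≠ m₂ * m₁) : False := by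
  classical
  haveI : Fintype G := Fintype.ofFinite G
  set S := (Nat.card G).primeFactors with hS
  let F : ℕ → Finset G := fun p => Finset.univ.filter (fun x => x ≠ 1 ∧ ∃ k : ℕ, orderOf x = p ^ k)
  have hFcard : ∀ p, (F p).card = Nat.card (PEl p G) := by
    intro p
    rw [Nat.card_eq_fintype_card, Fintype.card_subtype]
  -- every nonidentity element is a `p`-element for some `p ∈ S`
  have hcover : Finset.univ.filter (fun x : G => x ≠ 1) ⊆ S.biUnion F := by
    intro x hx
    rw [Finset.mem_filter] at hx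
    have hx1 := hx.2
    obtain ⟨r, hr, hrM⟩ := isPGroup_of_not_comm hZ h hx1 (hall x hx1)
    obtain ⟨j, hj⟩ := hrM x (self_mem_Cn x)
    have hj0 : j ≠ 0 := by
      rintro rfl
      rw [pow_zero, orderOf_eq_one_iff] at hj
      exact hx1 hj
    rw [Finset.mem_biUnion]
    refine ⟨r, ?_, ?_⟩
    · rw [hS, Nat.mem_primeFactors]
      refine ⟨hr, ?_, Nat.card_pos.ne'⟩
      have h1 : r ∣ orderOf x := by rw [hj]; exact dvd_pow_self r hj0
      exact h1.trans (orderOf_dvd_natCard x)
    · simp only [F, Finset.mem_filter, Finset.mem_univ, true_and]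
      exact ⟨hx1, j, hj⟩
  have hcount : Fintype.card G - 1 ≤ ∑ p ∈ S, (F p).card := by
    have h1 : (Finset.univ.filter (fun x : G => x ≠ 1)).card = Fintype.card G - 1 := by
      rw [Finset.filter_ne', Finset.card_erase_of_mem (Finset.mem_univ _), Finset.card_univ]
    rw [← h1]
    exact (Finset.card_le_card hcover).trans Finset.card_biUnion_le
  have hbound : ∀ p ∈ S, (((F p).card : ℚ)) ≤ (Fintype.card G : ℚ) * (1 / (p : ℚ) ^ 2) - 1 := by
    intro p hp
    rw [hS, Nat.mem_primeFactors] at hp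
    haveI : Fact p.Prime := ⟨hp.1⟩
    have h1 := pElements_bound hZ h hall p hp.2.1
    rw [← hFcard p, Nat.card_eq_fintype_card] at h1
    have hppos : (0 : ℚ) < (p : ℚ) ^ 2 := by
      have : (0 : ℚ) < p := by exact_mod_cast hp.1.pos
      positivity
    have h2 : (((F p).card : ℚ) + 1) * (p : ℚ) ^ 2 ≤ (Fintype.card G : ℚ) := by
      exact_mod_cast h1
    have h3 : ((F p).card : ℚ) + 1 ≤ (Fintype.card G : ℚ) / (p : ℚ) ^ 2 :=
      (le_div_iff₀ hppos).mpr h2
    rw [mul_one_div]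
    linarith
  have hSne : 1 ≤ S.card := by
    have h2 : 2 ≤ Nat.card G := Finite.one_lt_card
    obtain ⟨q, hq, hqd⟩ := Nat.exists_prime_and_dvd (by omega : Nat.card G ≠ 1)
    exact Finset.card_pos.mpr ⟨q, by rw [hS, Nat.mem_primeFactors]; exact ⟨hq, hqd, by omega⟩⟩
  have hsum : ((∑ p ∈ S, (F p).card : ℕ) : ℚ) ≤ (Fintype.card G : ℚ) * (3 / 4) - 1 := by
    push_cast
    calc ∑ p ∈ S, ((F p).card : ℚ)
        ≤ ∑ p ∈ S, ((Fintype.card G : ℚ) * (1 / (p : ℚ) ^ 2) - 1) := Finset.sum_le_sum hbound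
      _ = (Fintype.card G : ℚ) * ∑ p ∈ S, (1 / (p : ℚ) ^ 2) - S.card := by
          rw [Finset.sum_sub_distrib, Finset.mul_sum, Finset.sum_const, nsmul_eq_mul, mul_one]
      _ ≤ (Fintype.card G : ℚ) * (3 / 4) - 1 := by
          have h1 := sum_inv_sq_le S (fun p hp => (Nat.mem_primeFactors.mp hp).1)
          have h2 : (0 : ℚ) ≤ (Fintype.card G : ℚ) := by positivity
          have h3 : (1 : ℚ) ≤ S.card := by exact_mod_cast hSne
          have := mul_le_mul_of_nonneg_left h1 h2
          linarith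
  have hpos : 0 < Fintype.card G := Fintype.card_pos
  have hc2 : ((Fintype.card G - 1 : ℕ) : ℚ) ≤ ((∑ p ∈ S, (F p).card : ℕ) : ℚ) := by
    exact_mod_cast hcount
  rw [Nat.cast_sub hpos] at hc2
  have hG : (0 : ℚ) < (Fintype.card G : ℚ) := by exact_mod_cast hpos
  push_cast at hc2 hsum
  linarith

/-- the case of trivial centre -/
theorem solvable_of_center_eq_bot [Finite G] (hZ : Subgroup.center G = ⊥)
    (h : ∀ x : G, x ≠ 1 → IsCoatom (Cn x)) : Group.IsSolvable G := by
  by_cases htriv : Subsingleton G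
  · exact Group.isSolvable_of_comm (fun a b => by rw [Subsingleton.elim a b])
  · haveI : Nontrivial G := not_subsingleton_iff_nontrivial.mp htriv
    by_cases hn : ∃ x : G, x ≠ 1 ∧ (Cn x).Normal
    · obtain ⟨x, hx, hxn⟩ := hn
      exact solvable_of_normal hZ h hx hxn
    · push_neg at hn
      exfalso
      by_cases hab : ∃ x : G, x ≠ 1 ∧ ∀ m₁ ∈ Cn x, ∀ m₂ ∈ Cn x, m₁ * m₂ = m₂ * m₁
      · obtain ⟨x, hx, hxab⟩ := hab
        exact false_of_comm hZ h hn hx hxab
      · push_neg at hab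
        exact false_of_all_noncomm hZ h hab

/-- images of coatoms containing the kernel -/
lemma isCoatom_map_mk (N : Subgroup G) [N.Normal] {H : Subgroup G} (hNH : N ≤ H)
    (hH : IsCoatom H) : IsCoatom (H.map (QuotientGroup.mk' N)) := by
  have hcm : (H.map (QuotientGroup.mk' N)).comap (QuotientGroup.mk' N) = H := by
    rw [Subgroup.comap_map_eq, QuotientGroup.ker_mk', sup_eq_left.mpr hNH]
  have hsurj := QuotientGroup.mk'_surjective N
  constructor
  · intro htop
    rw [htop, Subgroup.comap_top] at hcm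
    exact hH.1 hcm.symm
  · intro K hK
    have h1 : H < K.comap (QuotientGroup.mk' N) := by
      rw [← hcm]
      refine lt_of_le_of_ne (Subgroup.comap_mono hK.le) (fun heq => hK.ne ?_)
      have := congrArg (Subgroup.map (QuotientGroup.mk' N)) heq
      rwa [Subgroup.map_comap_eq_self_of_surjective hsurj,
        Subgroup.map_comap_eq_self_of_surjective hsurj] at this
    have h2 := hH.2 _ h1
    rw [eq_top_iff]
    intro q _
    obtain ⟨g, rfl⟩ := hsurj q
    have : g ∈ K.comap (QuotientGroup.mk' N) := h2 ▸ Subgroup.mem_top g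
    exact this

/-- all noncentral centralizers maximal implies solvable -/
theorem solvable_aux : ∀ (n : ℕ) (G : Type u) [Group G] [Finite G], Nat.card G = n →
    (∀ g : G, g ∉ Subgroup.center G → IsCoatom (Subgroup.centralizer ({g} : Set G))) →
    Group.IsSolvable G := by
  intro n
  induction n using Nat.strong_induction_on with
  | _ n ih =>
  intro G _ _ hn h
  by_cases hZ : Subgroup.center G = ⊥
  · apply solvable_of_center_eq_bot hZ
    intro x hx
    apply h
    rw [hZ, Subgroup.mem_bot]; exact hx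
  · set Z := Subgroup.center G with hZdef
    have hcard : Nat.card (G ⧸ Z) < n := by
      have h1 := Subgroup.card_eq_card_quotient_mul_card_subgroup Z
      have h2 : 1 < Nat.card Z := (Subgroup.one_lt_card_iff_ne_bot (H := Z)).mpr hZ
      have h3 : 0 < Nat.card (G ⧸ Z) := Nat.card_pos
      rw [← hn, h1]; nlinarith
    have hq : ∀ q : G ⧸ Z, q ∉ Subgroup.center (G ⧸ Z) →
        IsCoatom (Subgroup.centralizer ({q} : Set (G ⧸ Z))) := by
      intro q hq
      obtain ⟨g, rfl⟩ := QuotientGroup.mk'_surjective Z q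
      have hg : g ∉ Z := by
        intro hgZ
        apply hq
        have : (QuotientGroup.mk' Z) g = 1 := (QuotientGroup.eq_one_iff g).mpr hgZ
        rw [this]; exact Subgroup.one_mem _
      have hco := h g hg
      have hZle : Z ≤ Cn g := Subgroup.center_le_centralizer _
      have hD := isCoatom_map_mk Z hZle hco
      have hle : (Cn g).map (QuotientGroup.mk' Z) ≤
          Subgroup.centralizer ({(QuotientGroup.mk' Z) g} : Set (G ⧸ Z)) := by
        rintro _ ⟨m, hm, rfl⟩
        rw [Subgroup.mem_centralizer_singleton_iff, ← map_mul, ← map_mul, mem_Cn.mp hm]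
      have hne : Subgroup.centralizer ({(QuotientGroup.mk' Z) g} : Set (G ⧸ Z)) ≠ ⊤ := by
        intro htop
        apply hq
        rw [Subgroup.mem_center_iff]
        intro a
        have : a ∈ Subgroup.centralizer ({(QuotientGroup.mk' Z) g} : Set (G ⧸ Z)) :=
          htop ▸ Subgroup.mem_top a
        exact Subgroup.mem_centralizer_singleton_iff.mp this
      have heq : Subgroup.centralizer ({(QuotientGroup.mk' Z) g} : Set (G ⧸ Z)) =
          (Cn g).map (QuotientGroup.mk' Z) := by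
        by_contra hne2
        exact hne (hD.2 _ (lt_of_le_of_ne hle (Ne.symm hne2)))
      rw [heq]; exact hD
    haveI := ih _ hcard (G ⧸ Z) rfl hq
    haveI : Group.IsSolvable Z := Group.isSolvable_of_comm (fun a b => by
      apply Subtype.ext
      exact ((Subgroup.mem_center_iff.mp b.2) a))
    exact Group.isSolvable_of_ker_le_range Z.subtype (QuotientGroup.mk' Z)
      (by rw [QuotientGroup.ker_mk', Subgroup.range_subtype])

end Cfsg.Agent.H1.CentMax
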