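import Mathlib
import Cfsg.Prelude.Def_Solvable
import Cfsg.Prelude.Def_Transfer
import Cfsg.Agent.H1.CentMax

set_option autoImplicit false

namespace Cfsg.Agent.H1.CentMaxTwo

open scoped Pointwise
open CentMax

universe u
variable {X : Type u} [Group X]

/-- with trivial centre, some centralizer is normal -/
lemma exists_normal_Cn [Finite X] [Nontrivial X] (hZ : Subgroup.center X = ⊥)
    (h : ∀ x : X, x ≠ 1 → IsCoatom (Cn x)) : ∃ x : X, x ≠ 1 ∧ (Cn x).Normal := by
  by_contra hn
  push_neg at hn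
  by_cases hab : ∃ x : X, x ≠ 1 ∧ ∀ m₁ ∈ Cn x, ∀ m₂ ∈ Cn x, m₁ * m₂ = m₂ * m₁
  · obtain ⟨x, hx, hxab⟩ := hab
    exact false_of_comm hZ h hn hx hxab
  · push_neg at hab
    exact false_of_all_noncomm hZ h hab

/-- a normal centralizer is abelian (trivial centre) -/
lemma comm_of_normal_Cn [Finite X] [Nontrivial X] (hZ : Subgroup.center X = ⊥)
    (h : ∀ x : X, x ≠ 1 → IsCoatom (Cn x)) {x : X} (hx : x ≠ 1) (hn : (Cn x).Normal) :
    ∀ m₁ ∈ Cn x, ∀ m₂ ∈ Cn x, m₁ * m₂ = m₂ * m₁ := by
  by_contra hcon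
  push_neg at hcon
  obtain ⟨m₁, hm₁, m₂, hm₂, hne⟩ := hcon
  obtain ⟨p, hp, hpM⟩ := isPGroup_of_not_comm hZ h hx ⟨m₁, hm₁, m₂, hm₂, hne⟩
  haveI : Fact p.Prime := ⟨hp⟩
  obtain ⟨P, hP⟩ := exists_sylow_eq hZ (h x hx) hpM
  have hb1 : m₁ ≠ 1 := by rintro rfl; exact hne (by simp)
  have hxb : x ∈ Cn m₁ := mem_Cn.mpr (mem_Cn.mp hm₁).symm
  -- `Cn m₁` is nonabelian
  have hbnc : ∃ u ∈ Cn m₁, ∃ v ∈ Cn m₁, u * v ≠ v * u := by
    by_contra hcon
    push_neg at hcon
    have h1 : Cn x = Cn m₁ := Cn_eq_of_mem_comm hZ h hb1 hx hcon hxb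
    apply hne
    have : m₂ ∈ Cn m₁ := h1 ▸ hm₂
    exact (mem_Cn.mp this).symm
  obtain ⟨r, hr, hrM⟩ := isPGroup_of_not_comm hZ h hb1 hbnc
  obtain ⟨j, hj⟩ := hrM m₁ (self_mem_Cn m₁)
  obtain ⟨k, hk⟩ := hpM m₁ hm₁
  have hj0 : j ≠ 0 := by
    rintro rfl
    rw [pow_zero, orderOf_eq_one_iff] at hj
    exact hb1 hj
  have hrp : r = p := by
    have h1 : r ∣ p ^ k := by rw [← hk, hj]; exact dvd_pow_self r hj0
    exact (Nat.prime_dvd_prime_iff_eq hr hp).mp (hr.dvd_of_dvd_pow h1)
  subst hrp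
  obtain ⟨Q, hQ⟩ := exists_sylow_eq hZ (h m₁ hb1) hrM
  haveI : (P : Subgroup X).Normal := by rw [hP]; exact hn
  obtain ⟨g, hg⟩ := MulAction.exists_smul_eq X P Q
  rw [Sylow.smul_eq_of_normal] at hg
  have h2 : Cn m₁ = Cn x := by rw [← hQ, ← hg, hP]
  apply hne
  have : m₂ ∈ Cn m₁ := h2 ▸ hm₂
  exact (mem_Cn.mp this).symm

/-- the structure theorem for trivial centre -/
theorem structure_of_center_eq_bot [Finite X] [Nontrivial X] (hZ : Subgroup.center X = ⊥)
    (h : ∀ x : X, x ≠ 1 → IsCoatom (Cn x)) :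
    (¬ IsMulCommutative X) ∧ (∀ H : Subgroup X, H ≠ ⊤ → IsMulCommutative ↥H) ∧
      ∃ p q a : ℕ, p.Prime ∧ q.Prime ∧ p ≠ q ∧ Nat.card X = p ^ a * q ∧
        ∀ P : Subgroup X, Nat.card ↥P = p ^ a → P.Normal := by
  obtain ⟨x, hx, hMn⟩ := exists_normal_Cn hZ h
  have hMab := comm_of_normal_Cn hZ h hx hMn
  set M := Cn x with hM
  have hMco : IsCoatom M := h x hx
  haveI := hMn
  -- an element outside `M`
  obtain ⟨y, hyM⟩ : ∃ y : X, y ∉ M := by
    by_contra hcon
    push_neg at hcon
    exact hMco.1 (eq_top_iff.mpr (fun g _ => hcon g))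
  have hy1 : y ≠ 1 := by rintro rfl; exact hyM M.one_mem
  have hCy : IsCoatom (Cn y) := h y hy1
  -- `M ∩ C(y) = 1`
  have hdisj : ∀ a ∈ M, a ∈ Cn y → a = 1 := by
    intro a haM hay
    by_contra ha1
    have h1 : Cn a = M := Cn_eq_of_mem_comm hZ h hx ha1 hMab haM
    apply hyM
    rw [← h1]
    exact mem_Cn.mpr (mem_Cn.mp hay).symm
  have hinf : M ⊓ Cn y = ⊥ := by
    rw [eq_bot_iff]
    intro a ha
    rw [Subgroup.mem_bot]
    exact hdisj a ha.1 ha.2
  -- normal subgroups inside `M` are trivial or all of `M`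
  have hcompl : ∀ L : Subgroup X, L.Normal → L ≤ M → L ≠ ⊥ → L.IsComplement' (Cn y) := by
    intro L hLn hLM hL1
    haveI := hLn
    apply Subgroup.isComplement'_of_disjoint_and_mul_eq_univ
    · rw [disjoint_iff, eq_bot_iff]
      intro a ha
      rw [Subgroup.mem_bot]
      exact hdisj a (hLM ha.1) ha.2
    · rw [← Subgroup.normal_mul]
      have hne : L ⊔ Cn y ≠ Cn y := by
        intro h1
        have h2 : L ≤ Cn y := by rw [← h1]; exact le_sup_left
        apply hL1
        rw [eq_bot_iff]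
        intro a ha
        rw [Subgroup.mem_bot]
        exact hdisj a (hLM ha) (h2 ha)
      have h3 := hCy.2 (L ⊔ Cn y) (lt_of_le_of_ne le_sup_right (Ne.symm hne))
      rw [h3]; rfl
  have hMbot : M ≠ ⊥ := by
    intro h1
    have : x ∈ M := self_mem_Cn x
    rw [h1, Subgroup.mem_bot] at this
    exact hx this
  have hMc := (hcompl M hMn le_rfl hMbot).card_mul_card
  have hnormal_sub : ∀ L : Subgroup X, L.Normal → L ≤ M → L ≠ ⊥ → L = M := by
    intro L hLn hLM hL1
    have h1 := (hcompl L hLn hLM hL1).card_mul_card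
    have h2 : Nat.card L = Nat.card M := by
      have hpos : 0 < Nat.card (Cn y) := Nat.card_pos
      exact Nat.eq_of_mul_eq_mul_right hpos (h1.trans hMc.symm)
    exact Subgroup.eq_of_le_of_card_ge hLM h2.ge
  -- the quotient `X ⧸ M` has only trivial subgroups
  have hsub : ∀ H : Subgroup (X ⧸ M), H = ⊥ ∨ H = ⊤ := by
    intro H
    have h1 : M ≤ H.comap (QuotientGroup.mk' M) := by
      intro g hg
      rw [Subgroup.mem_comap]
      have : (QuotientGroup.mk' M) g = 1 := (QuotientGroup.eq_one_iff g).mpr hg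
      rw [this]; exact H.one_mem
    rcases eq_or_lt_of_le h1 with h2 | h2
    · left
      rw [eq_bot_iff]
      intro q hq
      obtain ⟨g, rfl⟩ := QuotientGroup.mk'_surjective M q
      have : g ∈ H.comap (QuotientGroup.mk' M) := hq
      rw [← h2] at this
      rw [Subgroup.mem_bot]
      exact (QuotientGroup.eq_one_iff g).mpr this
    · right
      have h3 := hMco.2 _ h2
      rw [eq_top_iff]
      intro q _
      obtain ⟨g, rfl⟩ := QuotientGroup.mk'_surjective M q
      have : g ∈ H.comap (QuotientGroup.mk' M) := h3 ▸ Subgroup.mem_top g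
      exact this
  -- the index is a prime `q`
  set q := M.index with hq
  have hq1 : q ≠ 1 := by
    rw [hq, Ne, Subgroup.index_eq_one]; exact hMco.1
  have hqcard : Nat.card (X ⧸ M) = q := (Subgroup.index_eq_card M).symm
  have hqprime : q.Prime := by
    obtain ⟨r, hr, hrq⟩ := Nat.exists_prime_and_dvd hq1
    haveI : Fact r.Prime := ⟨hr⟩
    rw [← hqcard] at hrq
    obtain ⟨w, hw⟩ := exists_prime_orderOf_dvd_card' r hrq
    have hw1 : w ≠ 1 := by
      intro h1; rw [h1, orderOf_one] at hw; exact hr.one_lt.ne hw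
    have h1 : Subgroup.zpowers w = ⊤ := by
      rcases hsub (Subgroup.zpowers w) with h2 | h2
      · exact absurd (Subgroup.zpowers_eq_bot.mp h2) hw1
      · exact h2
    have h2 : Nat.card (Subgroup.zpowers w) = r := by rw [Nat.card_zpowers, hw]
    rw [h1, Subgroup.card_top, hqcard] at h2
    rw [h2]; exact hr
  -- commutators lie in `M`
  have hcommM : ∀ u v : X, u * v * u⁻¹ * v⁻¹ ∈ M := by
    intro u v
    have hcyc : ∀ a b : X ⧸ M, a * b = b * a := by
      intro a b
      by_cases ha : a = 1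
      · rw [ha]; simp
      · have h1 : Subgroup.zpowers a = ⊤ := by
          rcases hsub (Subgroup.zpowers a) with h2 | h2
          · exact absurd (Subgroup.zpowers_eq_bot.mp h2) ha
          · exact h2
        have hb : b ∈ Subgroup.zpowers a := h1 ▸ Subgroup.mem_top b
        obtain ⟨k, rfl⟩ := hb
        exact ((Commute.refl a).zpow_right k).eq
    rw [← QuotientGroup.eq_one_iff]
    have h1 := hcyc (u : X ⧸ M) (v : X ⧸ M)
    calc ((u * v * u⁻¹ * v⁻¹ : X) : X ⧸ M)
        = (u : X ⧸ M) * (v : X ⧸ M) * (u : X ⧸ M)⁻¹ * (v : X ⧸ M)⁻¹ := by simp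
      _ = 1 := by rw [h1]; group
  -- `M` is a `p`-group
  have hMcard1 : Nat.card M ≠ 1 := by
    intro h1; exact hMbot (Subgroup.card_eq_one.mp h1)
  obtain ⟨p, hp, hpM⟩ := Nat.exists_prime_and_dvd hMcard1
  haveI : Fact p.Prime := ⟨hp⟩
  obtain ⟨a₀, ha₀⟩ := exists_prime_orderOf_dvd_card' p hpM
  let Ω : Subgroup X :=
    { carrier := {m | m ∈ M ∧ m ^ p = 1}
      one_mem' := ⟨M.one_mem, one_pow p⟩
      mul_mem' := by
        rintro u v ⟨hu, hu1⟩ ⟨hv, hv1⟩
        refine ⟨M.mul_mem hu hv, ?_⟩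
        have hc : Commute u v := hMab u hu v hv
        rw [hc.mul_pow, hu1, hv1, one_mul]
      inv_mem' := by
        rintro u ⟨hu, hu1⟩
        exact ⟨M.inv_mem hu, by rw [inv_pow, hu1, inv_one]⟩ }
  have hΩn : Ω.Normal := by
    constructor
    rintro u ⟨hu, hu1⟩ g
    refine ⟨hMn.conj_mem u hu g, ?_⟩
    rw [conj_pow, hu1]; simp
  have hΩM : Ω ≤ M := fun u hu => hu.1
  have hΩ1 : Ω ≠ ⊥ := by
    intro h1
    have h2 : (a₀ : X) ∈ Ω := ⟨a₀.2, by
      have : (a₀ : X) ^ p = ((a₀ ^ p : M) : X) := by simp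
      rw [this, ← ha₀, pow_orderOf_eq_one]; rfl⟩
    rw [h1, Subgroup.mem_bot] at h2
    have h3 : a₀ = 1 := Subtype.ext h2
    rw [h3, orderOf_one] at ha₀
    exact hp.one_lt.ne ha₀
  have hΩeq : Ω = M := hnormal_sub Ω hΩn hΩM hΩ1
  have hMp : IsPGroup p M := by
    intro m
    refine ⟨1, ?_⟩
    have : (m : X) ∈ Ω := by rw [hΩeq]; exact m.2
    apply Subtype.ext
    rw [pow_one, Subgroup.coe_pow]
    exact this.2
  obtain ⟨a, ha⟩ := IsPGroup.iff_card.mp hMp
  have hXcard : Nat.card X = p ^ a * q := by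
    rw [← ha, hq, mul_comm]; exact (M.index_mul_card).symm
  have hpq : p ≠ q := by
    intro hpq
    have hX : IsPGroup p X := IsPGroup.of_card (n := a + 1) (by rw [hXcard, ← hpq, pow_succ])
    have := hX.center_nontrivial
    rw [hZ] at this
    exact not_nontrivial _ this
  refine ⟨?_, ?_, p, q, a, hp, hqprime, hpq, hXcard, ?_⟩
  · intro hcomm
    have : y ∈ Subgroup.center X := by
      rw [Subgroup.mem_center_iff]
      intro g
      exact hcomm.is_comm.comm g y
    rw [hZ, Subgroup.mem_bot] at this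
    exact hy1 this
  · intro H hH
    by_cases hHM : H ≤ M
    · constructor; constructor
      intro u v
      exact Subtype.ext (hMab u (hHM u.2) v (hHM v.2))
    · obtain ⟨w, hwH, hwM⟩ := SetLike.not_le_iff_exists.mp hHM
      -- `H ⊓ M` is normal in `X`
      have hLn : (H ⊓ M).Normal := by
        rw [← Subgroup.normalizer_eq_top_iff, eq_top_iff]
        have hsup : H ⊔ M = ⊤ := by
          by_contra hne
          have h1 : M < H ⊔ M := lt_of_le_of_ne le_sup_right (fun h2 => hHM (h2 ▸ le_sup_left))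
          exact hne (hMco.2 _ h1)
        rw [← hsup]
        apply sup_le
        · intro g hg
          rw [Subgroup.mem_normalizer_iff]
          intro u
          constructor
          · rintro ⟨hu1, hu2⟩
            exact ⟨H.mul_mem (H.mul_mem hg hu1) (H.inv_mem hg), hMn.conj_mem u hu2 g⟩
          · rintro ⟨hu1, hu2⟩
            refine ⟨?_, ?_⟩
            · have : u = g⁻¹ * (g * u * g⁻¹) * g := by group
              rw [this]; exact H.mul_mem (H.mul_mem (H.inv_mem hg) hu1) hg
            · have : u = g⁻¹ * (g * u * g⁻¹) * g⁻¹⁻¹ := by group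
              rw [this]; exact hMn.conj_mem _ hu2 g⁻¹
        · intro g hg
          rw [Subgroup.mem_normalizer_iff]
          intro u
          constructor
          · rintro ⟨hu1, hu2⟩
            have : g * u * g⁻¹ = u := by
              rw [hMab g hg u hu2]; group
            rw [this]; exact ⟨hu1, hu2⟩
          · rintro ⟨hu1, hu2⟩
            have hu' : u ∈ M := by
              have : u = g⁻¹ * (g * u * g⁻¹) * g⁻¹⁻¹ := by group
              rw [this]; exact hMn.conj_mem _ hu2 g⁻¹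
            have : g * u * g⁻¹ = u := by
              rw [hMab g hg u hu']; group
            rw [this] at hu1
            exact ⟨hu1, hu'⟩
      have hLbot : H ⊓ M = ⊥ := by
        by_contra hne
        have h1 := hnormal_sub (H ⊓ M) hLn inf_le_right hne
        have h2 : M ≤ H := by rw [← h1]; exact inf_le_left
        have h3 : M < H := lt_of_le_of_ne h2 (fun h4 => hwM (h4 ▸ hwH))
        exact hH (hMco.2 _ h3)
      constructor; constructor
      intro u v
      have h1 : (u : X) * v * (u : X)⁻¹ * (v : X)⁻¹ ∈ H ⊓ M :=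
        ⟨H.mul_mem (H.mul_mem (H.mul_mem u.2 v.2) (H.inv_mem u.2)) (H.inv_mem v.2),
          hcommM u v⟩
      rw [hLbot, Subgroup.mem_bot] at h1
      apply Subtype.ext
      show (u : X) * v = v * u
      have h4 : (u : X) * (v : X) =
          ((u : X) * (v : X) * (u : X)⁻¹ * (v : X)⁻¹) * ((v : X) * (u : X)) := by group
      rw [h4, h1, one_mul]
  · intro P hP
    have hPM : P ≤ M := by
      intro u hu
      rw [← QuotientGroup.eq_one_iff, ← orderOf_eq_one_iff]
      have h1 : orderOf ((QuotientGroup.mk' M) u) ∣ orderOf u := orderOf_map_dvd _ u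
      have h2 : orderOf ((QuotientGroup.mk' M) u) ∣ q := by
        rw [← hqcard]; exact orderOf_dvd_natCard _
      have h3 : orderOf u ∣ p ^ a := by
        rw [← hP, ← Subgroup.orderOf_mk u hu]; exact orderOf_dvd_natCard _
      have hcop : Nat.Coprime (p ^ a) q :=
        Nat.Coprime.pow_left _ ((Nat.coprime_primes hp hqprime).mpr hpq)
      exact Nat.eq_one_of_dvd_coprimes hcop (h1.trans h3) h2
    have : P = M := Subgroup.eq_of_le_of_card_ge hPM (by rw [hP, ha])
    rw [this]; exact hMn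

/-- the hypothesis passes to the central quotient -/
lemma hyp_quotient {G : Type u} [Group G]
    (h : ∀ x : G, x ∉ Subgroup.center G → IsCoatom (Cn x)) :
    ∀ q : G ⧸ Subgroup.center G, q ∉ Subgroup.center (G ⧸ Subgroup.center G) →
      IsCoatom (Cn q) := by
  set Z := Subgroup.center G with hZdef
  intro q hq
  obtain ⟨g, rfl⟩ := QuotientGroup.mk'_surjective Z q
  have hg : g ∉ Z := by
    intro hgZ
    apply hq
    have : (QuotientGroup.mk' Z) g = 1 := (QuotientGroup.eq_one_iff g).mpr hgZ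
    rw [this]; exact Subgroup.one_mem _
  have hco := h g hg
  have hZle : Z ≤ Cn g := Subgroup.center_le_centralizer _
  have hD := isCoatom_map_mk Z hZle hco
  have hle : (Cn g).map (QuotientGroup.mk' Z) ≤
      Subgroup.centralizer ({(QuotientGroup.mk' Z) g} : Set (G ⧸ Z)) := by
    rintro _ ⟨m, hm, rfl⟩
    rw [Subgroup.mem_centralizer_singleton_iff, ← map_mul, ← map_mul, mem_Cn.mp hm]
  have hne : Subgroup.centralizer ({(QuotientGroup.mk' Z) g} : Set (G ⧸ Z)) ≠ ⊤ := by
    intro htop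
    apply hq
    rw [Subgroup.mem_center_iff]
    intro a
    have : a ∈ Subgroup.centralizer ({(QuotientGroup.mk' Z) g} : Set (G ⧸ Z)) :=
      htop ▸ Subgroup.mem_top a
    exact Subgroup.mem_centralizer_singleton_iff.mp this
  have heq : Subgroup.centralizer ({(QuotientGroup.mk' Z) g} : Set (G ⧸ Z)) =
      (Cn g).map (QuotientGroup.mk' Z) := by
    by_contra hne2
    exact hne (hD.2 _ (lt_of_le_of_ne hle (Ne.symm hne2)))
  show IsCoatom (Subgroup.centralizer ({(QuotientGroup.mk' Z) g} : Set (G ⧸ Z)))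
  rw [heq]; exact hD

/-- a normal coatom has prime index and contains all commutators -/
lemma normal_coatom [Finite X] {M : Subgroup X} (hMn : M.Normal) (hMco : IsCoatom M) :
    M.index.Prime ∧ ∀ u v : X, u * v * u⁻¹ * v⁻¹ ∈ M := by
  haveI := hMn
  have hsub : ∀ H : Subgroup (X ⧸ M), H = ⊥ ∨ H = ⊤ := by
    intro H
    have h1 : M ≤ H.comap (QuotientGroup.mk' M) := by
      intro g hg
      rw [Subgroup.mem_comap]
      have : (QuotientGroup.mk' M) g = 1 := (QuotientGroup.eq_one_iff g).mpr hg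
      rw [this]; exact H.one_mem
    rcases eq_or_lt_of_le h1 with h2 | h2
    · left
      rw [eq_bot_iff]
      intro q hq
      obtain ⟨g, rfl⟩ := QuotientGroup.mk'_surjective M q
      have : g ∈ H.comap (QuotientGroup.mk' M) := hq
      rw [← h2] at this
      rw [Subgroup.mem_bot]
      exact (QuotientGroup.eq_one_iff g).mpr this
    · right
      have h3 := hMco.2 _ h2
      rw [eq_top_iff]
      intro q _
      obtain ⟨g, rfl⟩ := QuotientGroup.mk'_surjective M q
      have : g ∈ H.comap (QuotientGroup.mk' M) := h3 ▸ Subgroup.mem_top g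
      exact this
  set q := M.index with hq
  have hq1 : q ≠ 1 := by
    rw [hq, Ne, Subgroup.index_eq_one]; exact hMco.1
  have hqcard : Nat.card (X ⧸ M) = q := (Subgroup.index_eq_card M).symm
  refine ⟨?_, ?_⟩
  · obtain ⟨r, hr, hrq⟩ := Nat.exists_prime_and_dvd hq1
    haveI : Fact r.Prime := ⟨hr⟩
    rw [← hqcard] at hrq
    obtain ⟨w, hw⟩ := exists_prime_orderOf_dvd_card' r hrq
    have hw1 : w ≠ 1 := by
      intro h1; rw [h1, orderOf_one] at hw; exact hr.one_lt.ne hw
    have h1 : Subgroup.zpowers w = ⊤ := by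
      rcases hsub (Subgroup.zpowers w) with h2 | h2
      · exact absurd (Subgroup.zpowers_eq_bot.mp h2) hw1
      · exact h2
    have h2 : Nat.card (Subgroup.zpowers w) = r := by rw [Nat.card_zpowers, hw]
    rw [h1, Subgroup.card_top, hqcard] at h2
    rw [h2]; exact hr
  · intro u v
    have hcyc : ∀ a b : X ⧸ M, a * b = b * a := by
      intro a b
      by_cases ha : a = 1
      · rw [ha]; simp
      · have h1 : Subgroup.zpowers a = ⊤ := by
          rcases hsub (Subgroup.zpowers a) with h2 | h2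
          · exact absurd (Subgroup.zpowers_eq_bot.mp h2) ha
          · exact h2
        have hb : b ∈ Subgroup.zpowers a := h1 ▸ Subgroup.mem_top b
        obtain ⟨k, rfl⟩ := hb
        exact ((Commute.refl a).zpow_right k).eq
    rw [← QuotientGroup.eq_one_iff]
    have h1 := hcyc (u : X ⧸ M) (v : X ⧸ M)
    calc ((u * v * u⁻¹ * v⁻¹ : X) : X ⧸ M)
        = (u : X ⧸ M) * (v : X ⧸ M) * (u : X ⧸ M)⁻¹ * (v : X ⧸ M)⁻¹ := by simp
      _ = 1 := by rw [h1]; group

/-- multiplying by a central element does not change the centralizer -/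
lemma Cn_central_mul {c w : X} (hcc : ∀ g : X, g * c = c * g) : Cn (c * w) = Cn w := by
  ext n
  rw [mem_Cn, mem_Cn]
  constructor
  · intro h2
    have h3 : c * (n * w) = c * (w * n) := by
      calc c * (n * w) = n * (c * w) := by rw [← mul_assoc, ← hcc n, mul_assoc]
        _ = c * w * n := h2
        _ = c * (w * n) := mul_assoc _ _ _
    exact mul_left_cancel h3
  · intro h2
    calc n * (c * w) = c * (n * w) := by rw [← mul_assoc, hcc n, mul_assoc]
      _ = c * (w * n) := by rw [h2]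
      _ = c * w * n := (mul_assoc _ _ _).symm

/-- Step 1: if the second centre is bigger than the centre then the class is at most 2 -/
lemma comm_mem_center [Finite X]
    (h : ∀ x : X, x ∉ Subgroup.center X → IsCoatom (Cn x))
    {x₀ : X} (hx₀ : x₀ ∉ Subgroup.center X)
    (hx₀c : ∀ g : X, x₀ * g * x₀⁻¹ * g⁻¹ ∈ Subgroup.center X) :
    ∀ u v : X, u * v * u⁻¹ * v⁻¹ ∈ Subgroup.center X := by
  set Z := Subgroup.center X with hZdef
  set T : Subgroup X := Subgroup.centralizer {x | ∀ g : X, x * g * x⁻¹ * g⁻¹ ∈ Z} with hT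
  -- an element outside `T`
  obtain ⟨w₀, hw₀⟩ : ∃ w₀ : X, w₀ ∉ T := by
    by_contra hcon
    push_neg at hcon
    apply hx₀
    rw [hZdef, Subgroup.mem_center_iff]
    intro g
    have h1 := hcon g
    rw [hT, Subgroup.mem_centralizer_iff] at h1
    exact (h1 x₀ hx₀c).symm
  -- for `w ∉ T`, all commutators centralize `w`
  have key : ∀ w : X, w ∉ T → ∀ u v : X, (u * v * u⁻¹ * v⁻¹) * w = w * (u * v * u⁻¹ * v⁻¹) := by
    intro w hw u v
    rw [hT, Subgroup.mem_centralizer_iff] at hw
    push_neg at hw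
    obtain ⟨t, ht, htw⟩ := hw
    have hwZ : w ∉ Z := by
      intro hwZ
      rw [hZdef, Subgroup.mem_center_iff] at hwZ
      exact htw (hwZ t)
    have hco := h w hwZ
    set c := t * w * t⁻¹ * w⁻¹ with hc
    have hcZ : c ∈ Z := ht w
    have hcc : ∀ g : X, g * c = c * g := Subgroup.mem_center_iff.mp hcZ
    have h1 : t * w * t⁻¹ = c * w := by rw [hc]; group
    -- `t` normalizes `Cn w`
    have htn : t ∈ Subgroup.normalizer ((Cn w : Subgroup X) : Set X) := by
      rw [Subgroup.mem_normalizer_iff]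
      intro m
      have hiff : t * m * t⁻¹ ∈ Cn w ↔ t⁻¹ * (t * m * t⁻¹) * t ∈ Cn w := by
        rw [← Cn_conj t w (t * m * t⁻¹), h1, Cn_central_mul hcc]
      rw [hiff]
      have : t⁻¹ * (t * m * t⁻¹) * t = m := by group
      rw [this]
    have htC : t ∉ Cn w := by
      rw [mem_Cn]; exact htw
    have hlt : Cn w < Subgroup.normalizer ((Cn w : Subgroup X) : Set X) :=
      lt_of_le_of_ne Subgroup.le_normalizer (fun h2 => htC (h2 ▸ htn))
    have hnorm : (Cn w).Normal := Subgroup.normalizer_eq_top_iff.mp (hco.2 _ hlt)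
    have h2 := (normal_coatom hnorm hco).2 u v
    exact mem_Cn.mp h2
  intro u v
  rw [hZdef, Subgroup.mem_center_iff]
  intro g
  by_cases hg : g ∈ T
  · have hgw : g * w₀ ∉ T := by
      intro h1
      apply hw₀
      have : w₀ = g⁻¹ * (g * w₀) := by group
      rw [this]; exact T.mul_mem (T.inv_mem hg) h1
    have h1 := key (g * w₀) hgw u v
    have h2 := key w₀ hw₀ u v
    have h3 : g * (u * v * u⁻¹ * v⁻¹) * w₀ = u * v * u⁻¹ * v⁻¹ * g * w₀ := by
      rw [mul_assoc g, h2, ← mul_assoc, ← h1]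
      simp only [mul_assoc]
    exact mul_right_cancel h3
  · exact (key g hg u v).symm

/-- Step 2: in class 2, a prime power of each noncentral element is central -/
lemma exists_prime_pow_mem_center [Finite X]
    (h : ∀ x : X, x ∉ Subgroup.center X → IsCoatom (Cn x))
    (h2 : ∀ u v : X, u * v * u⁻¹ * v⁻¹ ∈ Subgroup.center X)
    {x : X} (hx : x ∉ Subgroup.center X) : ∃ p : ℕ, p.Prime ∧ x ^ p ∈ Subgroup.center X := by
  have hco := h x hx
  have hZle : Subgroup.center X ≤ Cn x := Subgroup.center_le_centralizer _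
  have hn : (Cn x).Normal := by
    constructor
    intro m hm g
    have : g * m * g⁻¹ = (g * m * g⁻¹ * m⁻¹) * m := by group
    rw [this]
    exact (Cn x).mul_mem (hZle (h2 g m)) hm
  haveI := hn
  refine ⟨(Cn x).index, (normal_coatom hn hco).1, ?_⟩
  set p := (Cn x).index with hp
  rw [Subgroup.mem_center_iff]
  intro g
  set c := x * g * x⁻¹ * g⁻¹ with hc
  have hcZ : c ∈ Subgroup.center X := h2 x g
  have hcc : ∀ g : X, g * c = c * g := Subgroup.mem_center_iff.mp hcZ
  have h1 : x * g * x⁻¹ = c * g := by rw [hc]; group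
  have hgp : g ^ p ∈ Cn x := Subgroup.pow_index_mem (Cn x) g
  have h3 : x * g ^ p * x⁻¹ = c ^ p * g ^ p := by
    rw [← conj_pow, h1]
    exact (show Commute c g from (hcc g).symm).mul_pow p
  have h4 : x * g ^ p * x⁻¹ = g ^ p := by
    rw [← mem_Cn.mp hgp]; group
  have hcp : c ^ p = 1 := by
    have : c ^ p * g ^ p = 1 * g ^ p := by rw [← h3, h4, one_mul]
    exact mul_right_cancel this
  have h5 : g⁻¹ * x * g⁻¹⁻¹ = c * x := by
    have h6 : x * g = c * g * x := by
      rw [← h1]; group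
    rw [inv_inv, mul_assoc, h6, mul_assoc c, ← mul_assoc g⁻¹, hcc g⁻¹, mul_assoc,
      inv_mul_cancel_left]
  have h7 : g⁻¹ * x ^ p * g⁻¹⁻¹ = x ^ p := by
    rw [← conj_pow, h5, (show Commute c x from (hcc x).symm).mul_pow p, hcp, one_mul]
  rw [inv_inv] at h7
  calc g * x ^ p = g * (g⁻¹ * x ^ p * g) := by rw [h7]
    _ = x ^ p * g := by group

/-- the main theorem -/
theorem main {G : Type u} [Group G] [Finite G] (hna : ¬ IsMulCommutative G)
    (h : ∀ x : G, x ∉ Subgroup.center G → IsCoatom (Subgroup.centralizer ({x} : Set G))) :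
    (∃ p : ℕ, p.Prime ∧
      Cfsg.IsElementaryAbelian p (⊤ : Subgroup (G ⧸ Subgroup.center G))) ∨
    (¬ IsMulCommutative (G ⧸ Subgroup.center G) ∧
      (∀ H : Subgroup (G ⧸ Subgroup.center G), H ≠ ⊤ → IsMulCommutative ↥H) ∧
      ∃ p q a : ℕ, p.Prime ∧ q.Prime ∧ p ≠ q ∧
        Nat.card (G ⧸ Subgroup.center G) = p ^ a * q ∧
        ∀ P : Subgroup (G ⧸ Subgroup.center G), Nat.card ↥P = p ^ a → P.Normal) := by
  set Z := Subgroup.center G with hZdef
  have hq := hyp_quotient h
  -- the quotient is nontrivial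
  obtain ⟨y₀, hy₀⟩ : ∃ y₀ : G, y₀ ∉ Z := by
    by_contra hcon
    push_neg at hcon
    apply hna
    constructor; constructor
    intro a b
    exact ((Subgroup.mem_center_iff.mp (hcon b)) a)
  haveI : Nontrivial (G ⧸ Z) := by
    refine ⟨⟨(QuotientGroup.mk' Z) y₀, 1, ?_⟩⟩
    intro h1
    exact hy₀ ((QuotientGroup.eq_one_iff y₀).mp h1)
  by_cases hZ2 : Subgroup.center (G ⧸ Z) = ⊥
  · right
    apply structure_of_center_eq_bot hZ2
    intro q hq1
    apply hq
    rw [hZ2, Subgroup.mem_bot]; exact hq1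
  · left
    obtain ⟨q₀, hq₀Z, hq₀1⟩ : ∃ q₀ : G ⧸ Z, q₀ ∈ Subgroup.center (G ⧸ Z) ∧ q₀ ≠ 1 := by
      by_contra hcon
      push_neg at hcon
      apply hZ2
      rw [eq_bot_iff]
      intro q hq
      rw [Subgroup.mem_bot]
      exact hcon q hq
    obtain ⟨x₀, rfl⟩ := QuotientGroup.mk'_surjective Z q₀
    have hx₀ : x₀ ∉ Z := by
      intro h1
      exact hq₀1 ((QuotientGroup.eq_one_iff x₀).mpr h1)
    have hx₀c : ∀ g : G, x₀ * g * x₀⁻¹ * g⁻¹ ∈ Z := by
      intro g
      rw [← QuotientGroup.eq_one_iff]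
      have h1 := (Subgroup.mem_center_iff.mp hq₀Z) ((QuotientGroup.mk' Z) g)
      calc ((x₀ * g * x₀⁻¹ * g⁻¹ : G) : G ⧸ Z)
          = (QuotientGroup.mk' Z) x₀ * (QuotientGroup.mk' Z) g * ((QuotientGroup.mk' Z) x₀)⁻¹ *
              ((QuotientGroup.mk' Z) g)⁻¹ := by simp
        _ = 1 := by rw [← h1]; group
    have hcl2 := comm_mem_center h hx₀ hx₀c
    have hcomm : ∀ a b : G ⧸ Z, a * b = b * a := by
      intro a b
      obtain ⟨u, rfl⟩ := QuotientGroup.mk'_surjective Z a
      obtain ⟨v, rfl⟩ := QuotientGroup.mk'_surjective Z b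
      have h1 := (QuotientGroup.eq_one_iff (N := Z) _).mpr (hcl2 u v)
      have h2 : (QuotientGroup.mk' Z) u * (QuotientGroup.mk' Z) v * ((QuotientGroup.mk' Z) u)⁻¹ *
              ((QuotientGroup.mk' Z) v)⁻¹ = 1 := by
        rw [← h1]; simp
      calc (QuotientGroup.mk' Z) u * (QuotientGroup.mk' Z) v
          = ((QuotientGroup.mk' Z) u * (QuotientGroup.mk' Z) v * ((QuotientGroup.mk' Z) u)⁻¹ *
              ((QuotientGroup.mk' Z) v)⁻¹) * ((QuotientGroup.mk' Z) v * (QuotientGroup.mk' Z) u) := by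
            group
        _ = (QuotientGroup.mk' Z) v * (QuotientGroup.mk' Z) u := by rw [h2, one_mul]
    have hprime : ∀ b : G ⧸ Z, b ≠ 1 → (orderOf b).Prime := by
      intro b hb
      obtain ⟨v, rfl⟩ := QuotientGroup.mk'_surjective Z b
      have hv : v ∉ Z := fun h1 => hb ((QuotientGroup.eq_one_iff v).mpr h1)
      obtain ⟨r, hr, hvr⟩ := exists_prime_pow_mem_center h hcl2 hv
      have h1 : ((QuotientGroup.mk' Z) v) ^ r = 1 := by
        rw [← map_pow]; exact (QuotientGroup.eq_one_iff _).mpr hvr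
      have h2 := orderOf_dvd_of_pow_eq_one h1
      rcases (Nat.dvd_prime hr).mp h2 with h3 | h3
      · exact absurd (orderOf_eq_one_iff.mp h3) hb
      · rw [h3]; exact hr
    have hcard1 : Nat.card (G ⧸ Z) ≠ 1 := by
      intro h1
      have := (Nat.card_eq_one_iff_unique.mp h1).1
      exact hq₀1 (Subsingleton.elim _ _)
    obtain ⟨p, hp, hpd⟩ := Nat.exists_prime_and_dvd hcard1
    haveI : Fact p.Prime := ⟨hp⟩
    obtain ⟨a, ha⟩ := exists_prime_orderOf_dvd_card' p hpd
    refine ⟨p, hp, ⟨⟨fun u v => Subtype.ext (hcomm u v)⟩⟩, ?_⟩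
    intro b _
    by_contra hb
    have hb1 : b ≠ 1 := by rintro rfl; exact hb (one_pow p)
    have hbr := hprime b hb1
    have hne : orderOf b ≠ p := by
      intro h1; apply hb; rw [← h1]; exact pow_orderOf_eq_one b
    have hcop : Nat.Coprime (orderOf a) (orderOf b) := by
      rw [ha]; exact (Nat.coprime_primes hp hbr).mpr (Ne.symm hne)
    have h1 := (show Commute a b from hcomm a b).orderOf_mul_eq_mul_orderOf_of_coprime hcop
    have hab1 : a * b ≠ 1 := by
      intro h2
      rw [h2, orderOf_one, ha] at h1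
      have := hp.two_le
      have := hbr.two_le
      nlinarith
    have h2 := hprime (a * b) hab1
    rw [h1, ha] at h2
    exact Nat.not_prime_mul hp.one_lt.ne' hbr.one_lt.ne' h2

end Cfsg.Agent.H1.CentMaxTwo
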