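import Mathlib
import Cfsg.Agent.S0035
import Cfsg.Agent.S0042

set_option autoImplicit false

open scoped Pointwise

namespace Cfsg.Agent.H1.CentralSolv

universe u

variable {G : Type u} [Group G]

theorem isSolvable_sup (H N : Subgroup G) [N.Normal] [Group.IsSolvable H] [Group.IsSolvable N] :
    Group.IsSolvable ↥(H ⊔ N) := by
  have e := QuotientGroup.quotientInfEquivProdNormalQuotient H N
  haveI : Group.IsSolvable (↥(H ⊔ N) ⧸ N.subgroupOf (H ⊔ N)) :=
    Group.isSolvable_of_isSolvable_injective (f := e.symm.toMonoidHom) e.symm.injective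
  haveI : Group.IsSolvable ↥(N.subgroupOf (H ⊔ N)) :=
    Group.isSolvable_of_isSolvable_injective
      (f := (Subgroup.subgroupOfEquivOfLe (le_sup_right : N ≤ H ⊔ N)).toMonoidHom)
      (Subgroup.subgroupOfEquivOfLe (le_sup_right : N ≤ H ⊔ N)).injective
  exact Group.isSolvable_of_ker_le_range (N.subgroupOf (H ⊔ N)).subtype
    (QuotientGroup.mk' (N.subgroupOf (H ⊔ N))) (by simp)

theorem conj_smul_card [Finite G] (g : G) (H : Subgroup G) :
    Nat.card ↥(MulAut.conj g • H) = Nat.card H :=
  Nat.card_congr (Subgroup.equivSMul (MulAut.conj g) H).toEquiv.symm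

theorem card_lt_of_ne_top [Finite G] {K : Subgroup G} (hK : K ≠ ⊤) : Nat.card K < Nat.card G := by
  rw [← Subgroup.card_top (G := G)]
  rcases (Subgroup.card_le_of_le (le_top : K ≤ ⊤)).lt_or_eq with h1 | h1
  · exact h1
  · exact absurd (Subgroup.eq_of_le_of_card_ge le_top h1.ge) hK

theorem mem_conj_smul_iff (g x : G) (H : Subgroup G) :
    x ∈ MulAut.conj g • H ↔ g⁻¹ * x * g ∈ H := by
  rw [Subgroup.mem_pointwise_smul_iff_inv_smul_mem]
  simp [MulAut.smul_def, mul_assoc]

theorem main_aux : ∀ (n : ℕ) (G : Type u) [Group G] [Finite G], Nat.card G = n →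
    ∀ (A : Subgroup G), Group.IsSolvable A →
    (∀ S : Subgroup G, A ≤ S → Group.IsSolvable S → ∀ a ∈ A, ∀ s ∈ S, a * s = s * a) →
    A ≤ Subgroup.center G := by
  intro n
  induction n using Nat.strong_induction_on with
  | _ n ih =>
  intro G _ _ hn A hA hc
  classical
  by_contra hAZ
  -- G is not solvable
  have hGns : ¬ Group.IsSolvable G := by
    intro hG
    apply hAZ
    intro a ha
    rw [Subgroup.mem_center_iff]
    intro g
    have : Group.IsSolvable (⊤ : Subgroup G) := inferInstance
    exact (hc ⊤ le_top this a ha g (Subgroup.mem_top g)).symm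
  -- proper overgroups centralize
  have hprop : ∀ K : Subgroup G, K ≠ ⊤ → A ≤ K → ∀ a ∈ A, ∀ k ∈ K, a * k = k * a := by
    intro K hK hAK a ha k hk
    have hcard : Nat.card K < n := by
      rw [← hn]; exact card_lt_of_ne_top hK
    have hA' : Group.IsSolvable ↥(A.subgroupOf K) :=
      Group.isSolvable_of_isSolvable_injective
        (f := (Subgroup.subgroupOfEquivOfLe hAK).toMonoidHom)
        (Subgroup.subgroupOfEquivOfLe hAK).injective
    have key := ih (Nat.card K) hcard K rfl (A.subgroupOf K) hA' ?_
    · have h1 := key (show (⟨a, hAK ha⟩ : K) ∈ A.subgroupOf K from ha)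
      rw [Subgroup.mem_center_iff] at h1
      have h2 := h1 ⟨k, hk⟩
      exact (congrArg Subtype.val h2).symm
    · intro S hAS hS a' ha' s hs
      have hS' : Group.IsSolvable ↥(S.map K.subtype) :=
        Group.isSolvable_of_isSolvable_injective
          (f := (S.equivMapOfInjective K.subtype K.subtype_injective).symm.toMonoidHom)
          (MulEquiv.injective _)
      have hAS' : A ≤ S.map K.subtype := by
        intro x hx
        exact ⟨⟨x, hAK hx⟩, hAS (show (⟨x, hAK hx⟩ : K) ∈ A.subgroupOf K from hx), rfl⟩
      have := hc _ hAS' hS' a' ha' s ⟨s, hs, rfl⟩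
      exact Subtype.ext this
  -- the centralizer
  set C : Subgroup G := Subgroup.centralizer (A : Set G) with hCdef
  have hCle : ∀ K : Subgroup G, K ≠ ⊤ → A ≤ K → K ≤ C := by
    intro K hK hAK k hk
    rw [hCdef, Subgroup.mem_centralizer_iff]
    intro a ha
    exact hprop K hK hAK a ha k hk
  have hAab : ∀ a ∈ A, ∀ b ∈ A, a * b = b * a := fun a ha b hb => hc A le_rfl hA a ha b hb
  have hAC : A ≤ C := by
    intro b hb
    rw [hCdef, Subgroup.mem_centralizer_iff]
    intro a ha
    exact hAab a ha b hb
  have hCtop : C ≠ ⊤ := by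
    intro h
    apply hAZ
    intro a ha
    rw [Subgroup.mem_center_iff]
    intro g
    have hg : g ∈ C := h ▸ Subgroup.mem_top g
    rw [hCdef, Subgroup.mem_centralizer_iff] at hg
    exact (hg a ha).symm
  have hZC : Subgroup.center G ≤ C := Subgroup.center_le_centralizer _
  by_cases hN : Subgroup.normalizer (C : Set G) = ⊤
  · -- `C` is normal
    haveI hCn : C.Normal := Subgroup.normalizer_eq_top_iff.mp hN
    set N := Subgroup.normalClosure (A : Set G) with hNdef
    have hNC : N ≤ C := Subgroup.normalClosure_le_normal hAC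
    have hNN : N ≤ Subgroup.centralizer (N : Set G) := by
      apply Subgroup.normalClosure_le_normal
      intro a ha
      rw [SetLike.mem_coe, Subgroup.mem_centralizer_iff]
      intro x hx
      have := hNC hx
      rw [hCdef, Subgroup.mem_centralizer_iff] at this
      exact (this a ha).symm
    apply hAZ
    intro a ha
    rw [Subgroup.mem_center_iff]
    intro g
    haveI : Group.IsSolvable N := by
      apply Group.isSolvable_of_comm
      rintro ⟨x, hx⟩ ⟨y, hy⟩
      apply Subtype.ext
      have := hNN hy
      rw [Subgroup.mem_centralizer_iff] at this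
      exact this x hx
    haveI : Group.IsSolvable (Subgroup.zpowers g) := by
      apply Group.isSolvable_of_comm
      rintro ⟨_, ⟨i, rfl⟩⟩ ⟨_, ⟨j, rfl⟩⟩
      apply Subtype.ext
      show g ^ i * g ^ j = g ^ j * g ^ i
      rw [← zpow_add, ← zpow_add, add_comm]
    have hsol := isSolvable_sup (Subgroup.zpowers g) N
    have hAle : A ≤ Subgroup.zpowers g ⊔ N :=
      le_trans Subgroup.subset_normalClosure le_sup_right
    exact (hc _ hAle hsol a ha g
      ((le_sup_left : Subgroup.zpowers g ≤ Subgroup.zpowers g ⊔ N) (Subgroup.mem_zpowers g))).symm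
  · -- `C` is self-normalizing
    have hNC : Subgroup.normalizer (C : Set G) ≤ C :=
      hCle _ hN (hAC.trans Subgroup.le_normalizer)
    have hgen : ∀ x : G, x ∉ C → A ⊔ MulAut.conj x • A = ⊤ := by
      intro x hx
      by_contra hK
      have h1 : MulAut.conj x • A ≤ C := le_trans le_sup_right (hCle _ hK le_sup_left)
      have h2 : A ≤ MulAut.conj x⁻¹ • C := by
        intro a ha
        rw [mem_conj_smul_iff, inv_inv]
        apply h1
        rw [mem_conj_smul_iff]
        simpa [mul_assoc] using ha
      have h3 : MulAut.conj x⁻¹ • C ≠ ⊤ := by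
        intro h
        apply hCtop
        have := conj_smul_card x⁻¹ C
        rw [h, Subgroup.card_top] at this
        exact (Subgroup.card_eq_iff_eq_top C).mp this.symm
      have h4 : MulAut.conj x⁻¹ • C ≤ C := hCle _ h3 h2
      have h5 : MulAut.conj x⁻¹ • C = C :=
        Subgroup.eq_of_le_of_card_ge h4 (by rw [conj_smul_card])
      have h6 : x ∈ Subgroup.normalizer (C : Set G) := by
        rw [Subgroup.mem_normalizer_iff]
        intro y
        conv_lhs => rw [← h5]
        rw [mem_conj_smul_iff, inv_inv]
      exact hx (hNC h6)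
    set Z := Subgroup.center G with hZdef
    set π := QuotientGroup.mk' Z with hπ
    set Cb : Subgroup (G ⧸ Z) := C.map π with hCb
    have hcomap : Cb.comap π = C := by
      rw [hCb, Subgroup.comap_map_eq, QuotientGroup.ker_mk', sup_eq_left.mpr hZC]
    have hFrob : Cfsg.IsFrobeniusComplement Cb := by
      refine ⟨?_, ?_, ?_⟩
      · intro h
        apply hAZ
        have : C ≤ π.ker := (Subgroup.map_eq_bot_iff _).mp h
        rw [QuotientGroup.ker_mk'] at this
        exact hAC.trans this
      · intro h
        apply hCtop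
        rw [← hcomap, h, Subgroup.comap_top]
      · intro gb hgb
        obtain ⟨x, rfl⟩ := QuotientGroup.mk'_surjective Z gb
        have hx : x ∉ C := fun hx => hgb ⟨x, hx, rfl⟩
        rw [eq_bot_iff]
        intro yb hyb
        obtain ⟨hy1, hy2⟩ := Subgroup.mem_inf.mp hyb
        rw [mem_conj_smul_iff] at hy2
        obtain ⟨c', hc', hc'eq⟩ := hy2
        have hπx : π c' = (π x)⁻¹ * yb * π x := hc'eq
        have hyb' : yb = π (x * c' * x⁻¹) := by
          rw [map_mul, map_mul, map_inv, hπx]; group
        set y := x * c' * x⁻¹ with hy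
        have hyC : y ∈ C := by
          rw [← hcomap]; show π y ∈ Cb; rw [← hyb']; exact hy1
        have hycen : y ∈ Subgroup.center G := by
          rw [Subgroup.mem_center_iff]
          have hle : (⊤ : Subgroup G) ≤ Subgroup.centralizer {y} := by
            rw [← hgen x hx, sup_le_iff]
            constructor
            · intro a ha
              rw [Subgroup.mem_centralizer_singleton_iff]
              have := hyC
              rw [hCdef, Subgroup.mem_centralizer_iff] at this
              exact this a ha
            · intro b hb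
              rw [mem_conj_smul_iff] at hb
              rw [Subgroup.mem_centralizer_singleton_iff]
              have hc'' : c' ∈ C := hc'
              rw [hCdef, Subgroup.mem_centralizer_iff] at hc''
              have h1 := hc'' _ hb
              calc b * y = x * (c' * (x⁻¹ * b * x)) * x⁻¹ := by rw [← h1, hy]; group
              _ = y * b := by rw [hy]; group
          intro g
          have := hle (Subgroup.mem_top g)
          rw [Subgroup.mem_centralizer_singleton_iff] at this
          exact this
        rw [Subgroup.mem_bot, hyb']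
        exact (QuotientGroup.eq_one_iff y).mpr hycen
    obtain ⟨Nb, hNbk, hNbn, hNbnil⟩ := Cfsg.Agent.S0042.result Cb hFrob
    obtain ⟨Nb', hNb'k, -, hcompl⟩ := Cfsg.Agent.S0035.result Cb hFrob
    have hNN' : Nb' = Nb := SetLike.coe_injective (hNb'k.trans hNbk.symm)
    rw [hNN'] at hcompl
    haveI := hNbn
    set K := Nb.comap π with hK
    haveI : Group.IsSolvable Nb := by
      haveI := hNbnil
      infer_instance
    have hZK : Z ≤ K := by
      intro z hz
      show π z ∈ Nb
      have h1 : π z = 1 := (QuotientGroup.eq_one_iff z).mpr hz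
      rw [h1]
      exact Nb.one_mem
    haveI : Group.IsSolvable Z := by
      apply Group.isSolvable_of_comm
      rintro ⟨x, hx⟩ ⟨y, hy⟩
      apply Subtype.ext
      rw [hZdef, Subgroup.mem_center_iff] at hy
      show x * y = y * x
      exact hy x
    have hKsol : Group.IsSolvable K := by
      have hker : (π.subgroupComap Nb).ker ≤ (Subgroup.inclusion hZK).range := by
        intro k hk
        rw [MonoidHom.mem_ker] at hk
        have h1 : π (k : G) = 1 := congrArg Subtype.val hk
        have h2 : (k : G) ∈ Z := (QuotientGroup.eq_one_iff (k : G)).mp h1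
        exact ⟨⟨k, h2⟩, Subtype.ext rfl⟩
      exact Group.isSolvable_of_ker_le_range (Subgroup.inclusion hZK) (π.subgroupComap Nb) hker
    have hAK : A ⊔ K = ⊤ := by
      by_contra h
      have h1 : K ≤ C := le_trans le_sup_right (hCle _ h le_sup_left)
      have h2 : Nb ≤ Cb := by
        intro yb hyb
        obtain ⟨y, rfl⟩ := QuotientGroup.mk'_surjective Z yb
        exact ⟨y, h1 hyb, rfl⟩
      have h3 : Nb = ⊥ := by
        have := hcompl.disjoint
        rw [disjoint_iff, inf_eq_left.mpr h2] at this
        exact this
      have h4 : Cb = ⊤ := by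
        have := hcompl.sup_eq_top
        rw [h3, bot_sup_eq] at this
        exact this
      exact hFrob.2.1 h4
    apply hGns
    have hsol := isSolvable_sup A K
    have htop : Group.IsSolvable (⊤ : Subgroup G) := hAK ▸ hsol
    exact Group.isSolvable_of_isSolvable_injective
      (f := (Subgroup.topEquiv (G := G)).symm.toMonoidHom) (MulEquiv.injective _)

theorem main {G : Type u} [Group G] [Finite G] (A : Subgroup G) (hA : Group.IsSolvable A)
    (hc : ∀ S : Subgroup G, A ≤ S → Group.IsSolvable S → ∀ a ∈ A, ∀ s ∈ S, a * s = s * a) :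
    A ≤ Subgroup.center G :=
  main_aux _ G rfl A hA hc

end Cfsg.Agent.H1.CentralSolv
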