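import Mathlib
import Cfsg.Agent.H1.Card
import Cfsg.Agent.H1.SylowMore

set_option autoImplicit false

namespace Cfsg.Agent.H1

open scoped commutatorElement

universe u

section
variable {G : Type*} [Group G]

lemma focalSubgroup_mono {X Y : Subgroup G} (h : X ≤ Y) : X.focalSubgroup ≤ Y.focalSubgroup := by
  rw [Subgroup.focalSubgroup_def, Subgroup.closure_le]
  rintro g ⟨hg, x, hx, u, rfl⟩
  rw [Subgroup.focalSubgroup_def]
  exact Subgroup.subset_closure ⟨h hg, x, h hx, u, rfl⟩

lemma focalSubgroup_map_subtype_le (K : Subgroup G) (X : Subgroup K) :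
    X.focalSubgroup.map K.subtype ≤ (X.map K.subtype).focalSubgroup := by
  rw [Subgroup.focalSubgroup_def, MonoidHom.map_closure, Subgroup.closure_le]
  rintro _ ⟨g, ⟨hg, x, hx, u, rfl⟩, rfl⟩
  rw [Subgroup.focalSubgroup_def]
  apply Subgroup.subset_closure
  refine ⟨Subgroup.mem_map_of_mem _ hg, (x : G), Subgroup.mem_map_of_mem K.subtype hx, (u : G), ?_⟩
  simp [commutatorElement_def]

lemma focalSubgroup_iterate_mono (n : ℕ) {X Y : Subgroup G} (h : X ≤ Y) :
    (fun K : Subgroup G => Subgroup.focalSubgroup K)^[n] X ≤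
      (fun K : Subgroup G => Subgroup.focalSubgroup K)^[n] Y := by
  induction n generalizing X Y with
  | zero => exact h
  | succ n ih =>
    rw [Function.iterate_succ_apply, Function.iterate_succ_apply]
    exact ih (focalSubgroup_mono h)

lemma focalSubgroup_iterate_map_subtype_le (K : Subgroup G) (n : ℕ) (X : Subgroup K) :
    ((fun L : Subgroup K => Subgroup.focalSubgroup L)^[n] X).map K.subtype ≤
      (fun L : Subgroup G => Subgroup.focalSubgroup L)^[n] (X.map K.subtype) := by
  induction n generalizing X with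
  | zero => exact le_rfl
  | succ n ih =>
    rw [Function.iterate_succ_apply, Function.iterate_succ_apply]
    exact (ih _).trans (focalSubgroup_iterate_mono n (focalSubgroup_map_subtype_le K X))

/-- a subgroup of order coprime to the index of a normal subgroup lies in it -/
lemma le_of_coprime_index [Finite G] (N M : Subgroup G) [N.Normal]
    (h : (Nat.card M).Coprime N.index) : M ≤ N := by
  intro x hx
  rw [← QuotientGroup.eq_one_iff, ← orderOf_eq_one_iff]
  have h1 : orderOf (x : G ⧸ N) ∣ Nat.card M := by
    have : orderOf (x : G ⧸ N) ∣ orderOf x := orderOf_map_dvd (QuotientGroup.mk' N) x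
    refine this.trans ?_
    have : orderOf (⟨x, hx⟩ : M) = orderOf x := Subgroup.orderOf_mk x hx
    rw [← this]; exact orderOf_dvd_natCard _
  have h2 : orderOf (x : G ⧸ N) ∣ N.index := by
    rw [Subgroup.index_eq_card]; exact orderOf_dvd_natCard _
  exact Nat.eq_one_of_dvd_coprimes h h1 h2

end

section
variable {G : Type*} [Group G] [Finite G]

/-- transfer into `H / H*` for a Hall subgroup: the kernel `K` satisfies `K H = G` and `K ∩ H = H*` -/
lemma hall_transferFocal (H : Subgroup G) (hHall : (Nat.card H).Coprime H.index) :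
    (∀ g : G, ∃ k ∈ (H.transferFocal).ker, ∃ h ∈ H, g = k * h) ∧
      (H.transferFocal).ker ⊓ H = H.focalSubgroup := by
  have hcop : (Nat.card (H ⧸ H.focalSubgroupOf)).Coprime H.index :=
    Nat.Coprime.coprime_dvd_left (Subgroup.card_quotient_dvd_card _) hHall
  have hbij := hcop.pow_left_bijective
  constructor
  · intro g
    obtain ⟨y, hy⟩ := hbij.2 (H.transferFocal g)
    obtain ⟨h, rfl⟩ := QuotientGroup.mk_surjective y
    have h1 : H.transferFocal (h : G) = H.transferFocal g := by
      rw [Subgroup.transferFocal_eq_pow]; exact hy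
    refine ⟨g * (h : G)⁻¹, ?_, (h : G), h.2, by group⟩
    rw [MonoidHom.mem_ker, map_mul, map_inv, h1, mul_inv_cancel]
  · ext x
    constructor
    · rintro ⟨hxK, hxH⟩
      replace hxK : H.transferFocal x = 1 := MonoidHom.mem_ker.1 hxK
      replace hxH : x ∈ H := hxH
      have h1 := Subgroup.transferFocal_eq_pow H ⟨x, hxH⟩
      rw [Subgroup.coe_mk, hxK] at h1
      have h2 : ((⟨x, hxH⟩ : H) : H ⧸ H.focalSubgroupOf) = 1 := by
        apply hbij.1
        show _ ^ H.index = (1 : H ⧸ H.focalSubgroupOf) ^ H.index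
        rw [one_pow]; exact h1.symm
      rw [QuotientGroup.eq_one_iff, Subgroup.focalSubgroupOf_def, Subgroup.mem_subgroupOf] at h2
      exact h2
    · intro hx
      have hxH : x ∈ H := Subgroup.focalSubgroup_le H hx
      refine ⟨?_, hxH⟩
      apply MonoidHom.mem_ker.2
      have h1 := Subgroup.transferFocal_eq_pow H ⟨x, hxH⟩
      rw [Subgroup.coe_mk] at h1
      rw [h1]
      have h2 : ((⟨x, hxH⟩ : H) : H ⧸ H.focalSubgroupOf) = 1 := by
        rw [QuotientGroup.eq_one_iff, Subgroup.focalSubgroupOf_def, Subgroup.mem_subgroupOf]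
        exact hx
      rw [h2, one_pow]

end

theorem hall_focal_complement : ∀ (n : ℕ) (G : Type u) [Group G] [Finite G] (H : Subgroup G),
    (Nat.card H).Coprime H.index →
    (fun K : Subgroup G => Subgroup.focalSubgroup K)^[n] H = ⊥ →
    ∃ N : Subgroup G, N.Normal ∧ Subgroup.IsComplement' N H := by
  intro n
  induction n with
  | zero =>
    intro G _ _ H _ hfoc
    rw [Function.iterate_zero, id] at hfoc
    refine ⟨⊤, inferInstance, ?_⟩
    rw [hfoc]
    exact Subgroup.isComplement'_top_bot
  | succ n ih =>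
    intro G _ _ H hHall hfoc
    rw [Function.iterate_succ_apply] at hfoc
    obtain ⟨hKH, hKinf⟩ := hall_transferFocal H hHall
    obtain ⟨K, hK⟩ : ∃ K, K = (H.transferFocal).ker := ⟨_, rfl⟩
    have hKn : K.Normal := by rw [hK]; infer_instance
    rw [← hK] at hKH hKinf
    obtain ⟨H₁, hH₁⟩ : ∃ H₁, H₁ = H.focalSubgroup := ⟨_, rfl⟩
    rw [← hH₁] at hfoc hKinf
    have hH₁K : H₁ ≤ K := by rw [← hKinf]; exact inf_le_left
    have hH₁H : H₁ ≤ H := by rw [← hKinf]; exact inf_le_right
    have hsup : K ⊔ H = ⊤ := by
      rw [eq_top_iff]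
      intro g _
      obtain ⟨k, hk, h, hh, rfl⟩ := hKH g
      exact Subgroup.mul_mem _ (Subgroup.mem_sup_left hk) (Subgroup.mem_sup_right hh)
    -- X
    obtain ⟨X, hX⟩ : ∃ X : Subgroup K, X = H₁.subgroupOf K := ⟨_, rfl⟩
    have hXmap : X.map K.subtype = H₁ := by
      rw [hX]; exact Subgroup.map_subgroupOf_eq_of_le hH₁K
    have hXcard : Nat.card X = Nat.card H₁ := by
      rw [← hXmap]; exact (Subgroup.card_map_of_injective K.subtype_injective).symm
    have hXidx : X.index = H.index := by
      have h1 : X.index = H₁.relIndex K := by rw [hX]; rfl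
      have hHN : H ≤ Subgroup.normalizer (K : Set G) := by
        rw [Subgroup.normalizer_eq_top]; exact le_top
      have h2 := relIndex_inf_eq_relIndex_sup H K hHN
      rw [inf_comm, hKinf, sup_comm, hsup, Subgroup.relIndex_top_right] at h2
      rw [h1, h2]
    have hXHall : (Nat.card X).Coprime X.index := by
      rw [hXcard, hXidx]
      exact Nat.Coprime.coprime_dvd_left (Subgroup.card_dvd_of_le hH₁H) hHall
    have hXfoc : (fun L : Subgroup K => Subgroup.focalSubgroup L)^[n] X = ⊥ := by
      have := focalSubgroup_iterate_map_subtype_le K n X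
      rw [hXmap, hfoc, le_bot_iff] at this
      exact (Subgroup.map_eq_bot_iff_of_injective _ K.subtype_injective).1 this
    obtain ⟨N₁, hN₁n, hN₁c⟩ := ih K X hXHall hXfoc
    have hN₁card : Nat.card N₁ = H.index := by
      have h1 := hN₁c.card_mul_card
      have h2 := X.card_mul_index
      rw [← h1, hXidx, mul_comm] at h2
      exact (Nat.eq_of_mul_eq_mul_right Nat.card_pos h2).symm
    have hN₁idx : N₁.index = Nat.card X := by
      have h1 := hN₁c.card_mul_card
      have h2 := N₁.card_mul_index
      rw [← h1] at h2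
      exact Nat.eq_of_mul_eq_mul_left Nat.card_pos h2
    obtain ⟨N, hN⟩ : ∃ N, N = N₁.map K.subtype := ⟨_, rfl⟩
    have hNK : N ≤ K := by rw [hN]; exact Subgroup.map_subtype_le N₁
    have hNcard : Nat.card N = H.index := by
      rw [hN, Subgroup.card_map_of_injective K.subtype_injective, hN₁card]
    have hNn : N.Normal := by
      rw [← Subgroup.normalizer_eq_top_iff, eq_top_iff]
      intro g _
      apply mem_normalizer_of_map_conj_le
      -- M := conj g N ≤ K
      obtain ⟨M, hM⟩ : ∃ M, M = N.map (MulAut.conj g).toMonoidHom := ⟨_, rfl⟩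
      rw [← hM]
      have hMK : M ≤ K := by
        rw [hM]
        rintro _ ⟨y, hy, rfl⟩
        exact hKn.conj_mem y (hNK hy) g
      have hMcard : Nat.card M = H.index := by
        rw [hM, Subgroup.card_map_of_injective (MulAut.conj g).injective, hNcard]
      have h1 : M.subgroupOf K ≤ N₁ := by
        apply le_of_coprime_index
        rw [hN₁idx, hXcard]
        have : Nat.card (M.subgroupOf K) = Nat.card M := by
          rw [← Subgroup.card_map_of_injective K.subtype_injective,
            Subgroup.map_subgroupOf_eq_of_le hMK]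
        rw [this, hMcard]
        exact (Nat.Coprime.coprime_dvd_left (Subgroup.card_dvd_of_le hH₁H) hHall).symm
      intro y hy
      rw [hN]
      exact ⟨⟨y, hMK hy⟩, h1 (Subgroup.mem_subgroupOf.2 hy), rfl⟩
    refine ⟨N, hNn, ?_⟩
    apply Subgroup.isComplement'_of_coprime
    · rw [hNcard, mul_comm]; exact H.card_mul_index
    · rw [hNcard]; exact hHall.symm

end Cfsg.Agent.H1
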