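import Mathlib
import Cfsg.Agent.H1.Card
import Cfsg.Agent.H1.HallFocal
import Cfsg.Agent.Lib.Lead.NormalPComplement
import Cfsg.Agent.Lib.Lead.ProdCard

set_option autoImplicit false

namespace Cfsg.Agent.H1

open scoped Pointwise

section
variable {G : Type*} [Group G] [Finite G]

/-- `index (A ⊓ B) = index A * index B` when `A * B = G` as sets -/
lemma index_inf_eq_mul_of_mul_eq_univ (A B : Subgroup G) (h : ∀ g : G, ∃ a ∈ A, ∃ b ∈ B, g = a * b) :
    (A ⊓ B).index = A.index * B.index := by
  have hset : (A : Set G) * (B : Set G) = Set.univ := by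
    rw [Set.eq_univ_iff_forall]
    intro g
    obtain ⟨a, ha, b, hb, rfl⟩ := h g
    exact Set.mul_mem_mul ha hb
  have hprod := Lib.Lead.ProdCard.card_mul_card_eq A B
  rw [hset, Set.ncard_univ] at hprod
  have e1 := A.card_mul_index
  have e2 := B.card_mul_index
  have e3 := (A ⊓ B).card_mul_index
  have hpos : 0 < Nat.card G * Nat.card (A ⊓ B : Subgroup G) := Nat.mul_pos Nat.card_pos Nat.card_pos
  apply Nat.eq_of_mul_eq_mul_left hpos
  calc Nat.card G * Nat.card (A ⊓ B : Subgroup G) * (A ⊓ B).index
      = Nat.card G * (Nat.card (A ⊓ B : Subgroup G) * (A ⊓ B).index) := by ring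
    _ = Nat.card G * Nat.card G := by rw [e3]
    _ = (Nat.card A * A.index) * (Nat.card B * B.index) := by rw [e1, e2]
    _ = (Nat.card A * Nat.card B) * (A.index * B.index) := by ring
    _ = Nat.card G * Nat.card (A ⊓ B : Subgroup G) * (A.index * B.index) := by rw [hprod]

/-- coprime commuting elements: each is a power of the product, so centralizers intersect -/
lemma centralizer_mul_eq_inf_of_coprime (x y : G) (hxy : Commute x y)
    (hcop : (orderOf x).Coprime (orderOf y)) :
    Subgroup.centralizer ({x * y} : Set G) =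
      Subgroup.centralizer ({x} : Set G) ⊓ Subgroup.centralizer ({y} : Set G) := by
  apply le_antisymm
  · intro g hg
    rw [Subgroup.mem_centralizer_singleton_iff] at hg
    have hg' : Commute g (x * y) := hg
    have key : ∀ (u v : G), Commute u v → (orderOf u).Coprime (orderOf v) → Commute g (u * v) →
        Commute g u := by
      intro u v huv hc hguv
      rcases Nat.lt_or_ge 1 (orderOf u) with h1 | h1
      · obtain ⟨c, -, hc'⟩ := Nat.exists_mul_mod_eq_one_of_coprime hc.symm h1
        have h2 : (u * v) ^ (orderOf v * c) = u := by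
          rw [huv.mul_pow, pow_mul v, pow_orderOf_eq_one, one_pow, mul_one, ← pow_mod_orderOf, hc',
            pow_one]
        rw [← h2]
        exact hguv.pow_right _
      · have : orderOf u = 1 := by
          have := orderOf_pos u
          omega
        rw [orderOf_eq_one_iff.1 this]
        exact Commute.one_right g
    refine Subgroup.mem_inf.2 ⟨?_, ?_⟩
    · rw [Subgroup.mem_centralizer_singleton_iff]
      exact key x y hxy hcop hg'
    · rw [Subgroup.mem_centralizer_singleton_iff]
      have : Commute g (y * x) := by rw [← hxy.eq]; exact hg'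
      exact key y x hxy.symm hcop.symm this
  · intro g hg
    obtain ⟨hgx, hgy⟩ := Subgroup.mem_inf.1 hg
    rw [Subgroup.mem_centralizer_singleton_iff] at hgx hgy ⊢
    have h1 : Commute g x := hgx
    have h2 : Commute g y := hgy
    exact h1.mul_right h2

/-- an element all of whose prime-power-order powers lie in a subgroup lies in it -/
lemma mem_of_primary_powers_mem (M : Subgroup G) : ∀ (n : ℕ) (g : G), orderOf g = n →
    (∀ k : ℕ, (∃ q b : ℕ, q.Prime ∧ orderOf (g ^ k) = q ^ b) → g ^ k ∈ M) → g ∈ M := by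
  intro n
  induction n using Nat.strong_induction_on with
  | _ n ih =>
    intro g hgn hall
    rcases Nat.lt_or_ge 1 n with h1 | h1
    · obtain ⟨q, hq, hqn⟩ := Nat.exists_prime_and_dvd (by omega : n ≠ 1)
      have hn0 : n ≠ 0 := by omega
      obtain ⟨e, m, hqm, hnm⟩ := Nat.exists_eq_pow_mul_and_not_dvd hn0 q hq.ne_one
      have he0 : e ≠ 0 := by
        rintro rfl
        rw [pow_zero, one_mul] at hnm
        exact hqm (hnm ▸ hqn)
      have hm0 : m ≠ 0 := by
        rintro rfl
        rw [mul_zero] at hnm; exact hn0 hnm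
      have ho1 : orderOf (g ^ (q ^ e)) = m := by
        rw [orderOf_pow_of_dvd (pow_ne_zero _ hq.ne_zero) (hgn ▸ hnm ▸ Dvd.intro _ rfl), hgn, hnm,
          Nat.mul_div_cancel_left _ (pow_pos hq.pos e)]
      have ho2 : orderOf (g ^ m) = q ^ e := by
        rw [orderOf_pow_of_dvd hm0 (hgn ▸ hnm ▸ Dvd.intro_left _ rfl), hgn, hnm,
          Nat.mul_div_cancel _ (Nat.pos_of_ne_zero hm0)]
      have hmem2 : g ^ m ∈ M := hall m ⟨q, e, hq, ho2⟩
      have hlt : m < n := by
        rw [hnm]
        have : 1 < q ^ e := Nat.one_lt_pow he0 hq.one_lt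
        have hmpos : 0 < m := Nat.pos_of_ne_zero hm0
        nlinarith
      have hmem1 : g ^ (q ^ e) ∈ M := by
        apply ih m hlt _ ho1
        intro k hk
        rw [← pow_mul] at hk ⊢
        exact hall _ hk
      have hcop : Nat.Coprime (q ^ e) m := Nat.Coprime.pow_left _ ((Nat.Prime.coprime_iff_not_dvd hq).2 hqm)
      have hbez := Nat.gcd_eq_gcd_ab (q ^ e) m
      rw [hcop.gcd_eq_one] at hbez
      have hgdecomp : g = (g ^ (q ^ e)) ^ (Nat.gcdA (q ^ e) m) * (g ^ m) ^ (Nat.gcdB (q ^ e) m) := by
        rw [← zpow_natCast, ← zpow_natCast, ← zpow_mul, ← zpow_mul, ← zpow_add, ← hbez]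
        simp
      rw [hgdecomp]
      exact M.mul_mem (M.zpow_mem hmem1 _) (M.zpow_mem hmem2 _)
    · have : orderOf g = 1 := by
        have := orderOf_pos g
        omega
      rw [orderOf_eq_one_iff.1 this]
      exact M.one_mem


theorem sylow_direct_factor_iff_class_sizes (p : ℕ) [Fact p.Prime] :
    (∃ (P : Sylow p G) (K : Subgroup G), (P : Subgroup G).Normal ∧ K.Normal ∧
      (P : Subgroup G) ⊓ K = ⊥ ∧ (P : Subgroup G) ⊔ K = ⊤) ↔
    ∀ x y : G, (∃ a : ℕ, orderOf x = p ^ a) → (∃ q b : ℕ, q.Prime ∧ q ≠ p ∧ orderOf y = q ^ b) →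
      (Subgroup.centralizer ({x * y} : Set G)).index =
        (Subgroup.centralizer ({x} : Set G)).index * (Subgroup.centralizer ({y} : Set G)).index := by
  have hpp : p.Prime := Fact.out
  constructor
  · rintro ⟨P, K, hPn, hKn, hinf, hsup⟩ x y ⟨a, hxa⟩ ⟨q, b, hq, hqp, hyb⟩
    have hcopxy : (orderOf x).Coprime (orderOf y) := by
      rw [hxa, hyb]
      exact Nat.Coprime.pow _ _ ((Nat.coprime_primes hpp hq).2 hqp.symm)
    -- x ∈ P
    have hxP : x ∈ (P : Subgroup G) := by
      have hp1 : IsPGroup p (Subgroup.zpowers x) := by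
        apply IsPGroup.of_card (n := a)
        rw [Nat.card_zpowers, hxa]
      obtain ⟨Q, hQ⟩ := hp1.exists_le_sylow
      obtain ⟨g, hg⟩ := MulAction.exists_smul_eq G P Q
      have : Q = P := by rw [← hg]; exact Sylow.smul_eq_of_normal
      rw [← this]; exact hQ (Subgroup.mem_zpowers x)
    -- |K| index
    have hcompl : Subgroup.IsComplement' (P : Subgroup G) K :=
      Subgroup.isComplement'_of_disjoint_and_mul_eq_univ (disjoint_iff.2 hinf) (by
        rw [← Subgroup.normal_mul, hsup]; rfl)
    have hKidx : K.index = Nat.card (P : Subgroup G) := by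
      have h1 := hcompl.card_mul_card
      have h2 := K.card_mul_index
      rw [← h1, mul_comm] at h2
      exact Nat.eq_of_mul_eq_mul_right Nat.card_pos h2
    have hyK : y ∈ K := by
      have : Subgroup.zpowers y ≤ K := by
        apply le_of_coprime_index
        rw [Nat.card_zpowers, hKidx, hyb]
        obtain ⟨n, hn⟩ := P.2.exists_card_eq
        rw [hn]
        exact Nat.Coprime.pow _ _ ((Nat.coprime_primes hq hpp).2 hqp)
      exact this (Subgroup.mem_zpowers y)
    have hcommPK : ∀ u ∈ (P : Subgroup G), ∀ k ∈ K, Commute u k := fun u hu k hk =>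
      Subgroup.commute_of_normal_of_disjoint _ _ hPn hKn (disjoint_iff.2 hinf) u k hu hk
    have hxy : Commute x y := hcommPK x hxP y hyK
    rw [centralizer_mul_eq_inf_of_coprime x y hxy hcopxy]
    apply index_inf_eq_mul_of_mul_eq_univ
    intro g
    have hg : g ∈ ((K ⊔ (P : Subgroup G) : Subgroup G) : Set G) := by
      rw [sup_comm, hsup]; trivial
    rw [Subgroup.normal_mul] at hg
    obtain ⟨k, hk, u, hu, rfl⟩ := Set.mem_mul.1 hg
    refine ⟨k, ?_, u, ?_, rfl⟩
    · rw [Subgroup.mem_centralizer_singleton_iff]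
      exact ((hcommPK x hxP k hk).eq).symm
    · rw [Subgroup.mem_centralizer_singleton_iff]
      exact (hcommPK u hu y hyK).eq
  · intro hall
    -- p-elements commute with q-elements
    have hcomm : ∀ x y : G, (∃ a : ℕ, orderOf x = p ^ a) →
        (∃ q b : ℕ, q.Prime ∧ q ≠ p ∧ orderOf y = q ^ b) → Commute x y := by
      intro x y hx hy
      have h := hall x y hx hy
      obtain ⟨A, hA⟩ : ∃ A, A = Subgroup.centralizer ({x} : Set G) := ⟨_, rfl⟩
      obtain ⟨B, hB⟩ : ∃ B, B = Subgroup.centralizer ({y} : Set G) := ⟨_, rfl⟩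
      obtain ⟨D, hD⟩ : ∃ D, D = Subgroup.centralizer ({x * y} : Set G) := ⟨_, rfl⟩
      rw [← hA, ← hB, ← hD] at h
      have hle : A ⊓ B ≤ D := by
        intro g hg
        obtain ⟨hgx, hgy⟩ := Subgroup.mem_inf.1 hg
        rw [hA, Subgroup.mem_centralizer_singleton_iff] at hgx
        rw [hB, Subgroup.mem_centralizer_singleton_iff] at hgy
        rw [hD, Subgroup.mem_centralizer_singleton_iff]
        have h1 : Commute g x := hgx
        have h2 : Commute g y := hgy
        exact h1.mul_right h2
      have h1 : (A ⊓ B).index ≤ D.index := by rw [h]; exact Subgroup.index_inf_le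
      have h2 : D.index ∣ (A ⊓ B).index := Subgroup.index_dvd_of_le hle
      have h3 : D.index = (A ⊓ B).index :=
        le_antisymm (Nat.le_of_dvd (Nat.pos_of_ne_zero Subgroup.index_ne_zero_of_finite) h2) h1
      have h4 : A ⊓ B = D := by
        apply Subgroup.eq_of_le_of_card_ge hle
        have e1 := D.card_mul_index
        have e2 := (A ⊓ B).card_mul_index
        rw [h3, ← e2] at e1
        exact (Nat.eq_of_mul_eq_mul_right (Nat.pos_of_ne_zero Subgroup.index_ne_zero_of_finite) e1).le
      have h5 : x * y ∈ D := by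
        rw [hD, Subgroup.mem_centralizer_singleton_iff]
      rw [← h4] at h5
      have h6 := (Subgroup.mem_inf.1 h5).1
      rw [hA, Subgroup.mem_centralizer_singleton_iff] at h6
      -- x * y * x = x * (x * y)
      have : x * y * x = x * (x * y) := h6
      have h7 : y * x = x * y := by
        apply mul_left_cancel (a := x)
        rw [← mul_assoc, this]
      exact h7.symm
    -- M = centralizer of all p-elements
    obtain ⟨M, hM⟩ : ∃ M, M = Subgroup.centralizer {x : G | ∃ a : ℕ, orderOf x = p ^ a} := ⟨_, rfl⟩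
    have hMmem : ∀ g : G, (orderOf g).Coprime p → g ∈ M := by
      intro g hg
      apply mem_of_primary_powers_mem M _ g rfl
      rintro k ⟨q, b, hq, hqb⟩
      by_cases hb : b = 0
      · rw [hb, pow_zero, orderOf_eq_one_iff] at hqb
        rw [hqb]; exact M.one_mem
      have hqp : q ≠ p := by
        rintro rfl
        have h1 : q ∣ orderOf (g ^ k) := by rw [hqb]; exact dvd_pow_self q hb
        have h2 : q ∣ orderOf g := h1.trans (orderOf_pow_dvd k)
        exact hq.one_lt.ne' (Nat.eq_one_of_dvd_coprimes hg h2 dvd_rfl)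
      rw [hM, Subgroup.mem_centralizer_iff]
      intro x hx
      exact (hcomm x (g ^ k) hx ⟨q, b, hq, hqp, hqb⟩).eq
    obtain ⟨P⟩ : Nonempty (Sylow p G) := inferInstance
    have hPpow : ∀ s ∈ (P : Subgroup G), ∃ a : ℕ, orderOf s = p ^ a := by
      intro s hs
      obtain ⟨k, hk⟩ := (IsPGroup.iff_orderOf.1 P.2) ⟨s, hs⟩
      exact ⟨k, by rw [← hk, Subgroup.orderOf_mk]⟩
    have hfrob : Cfsg.HasNormalPComplement p G := by
      apply Lib.Lead.NormalPComplement.hasNormalPComplement_of_p'_centralize P
      intro Q hQP g _ hgp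
      have hgM := hMmem g hgp
      rw [Subgroup.mem_centralizer_iff]
      intro s hs
      rw [hM, Subgroup.mem_centralizer_iff] at hgM
      exact hgM s (hPpow s (hQP hs))
    obtain ⟨N, hNn, hNcop, k, hNidx⟩ :=
      Lib.Lead.NormalPComplement.exists_normal_of_hasNormalPComplement hfrob
    have hNM : N ≤ M := by
      intro g hg
      apply hMmem
      have : orderOf g ∣ Nat.card N := by
        have := orderOf_dvd_natCard (⟨g, hg⟩ : N)
        rwa [Subgroup.orderOf_mk] at this
      exact Nat.Coprime.coprime_dvd_left this hNcop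
    have hinf : (P : Subgroup G) ⊓ N = ⊥ := by
      apply Disjoint.eq_bot
      apply Subgroup.disjoint_of_coprime_natCard
      obtain ⟨n, hn⟩ := P.2.exists_card_eq
      rw [hn]
      exact Nat.Coprime.pow_left _ hNcop.symm
    have hsup : (P : Subgroup G) ⊔ N = ⊤ := by
      rw [← Subgroup.index_eq_one]
      have h1 : ((P : Subgroup G) ⊔ N).index ∣ (P : Subgroup G).index := Subgroup.index_dvd_of_le le_sup_left
      have h2 : ((P : Subgroup G) ⊔ N).index ∣ N.index := Subgroup.index_dvd_of_le le_sup_right
      rw [hNidx] at h2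
      have h3 : ((P : Subgroup G).index).Coprime (p ^ k) :=
        Nat.Coprime.pow_right _ ((Nat.Prime.coprime_iff_not_dvd hpp).2 P.not_dvd_index).symm
      exact Nat.eq_one_of_dvd_coprimes h3 h1 h2
    have hPn : (P : Subgroup G).Normal := by
      rw [← Subgroup.normalizer_eq_top_iff, eq_top_iff, ← hsup]
      apply sup_le Subgroup.le_normalizer
      intro g hg
      have hgM := hNM hg
      rw [hM, Subgroup.mem_centralizer_iff] at hgM
      rw [Subgroup.mem_normalizer_iff]
      intro s
      constructor
      · intro hs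
        have := hgM s (hPpow s hs)
        rw [← this, mul_inv_cancel_right]; exact hs
      · intro hs
        have h1 := hgM _ (hPpow _ hs)
        have h2 : g * s * g⁻¹ * g = g * (g * s * g⁻¹) := h1
        have h3 : s = g * s * g⁻¹ := by
          apply mul_left_cancel (a := g)
          rw [← h2]; group
        rw [h3]; exact hs
    exact ⟨P, N, hPn, hNn, hinf, hsup⟩

end

end Cfsg.Agent.H1
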