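import Mathlib
import Cfsg.Agent.H1.Basic
import Cfsg.Agent.H1.CoreFree
import Cfsg.Agent.H1.CoprimeAction
import Cfsg.Agent.S0549

set_option autoImplicit false

namespace Cfsg.Agent.H1

section twoMin
variable {G : Type*} [Group G]

lemma equiv_of_common_complement (K H₁ H₂ : Subgroup G) [K.Normal] (h₁ : Subgroup.IsComplement' H₁ K)
    (h₂ : Subgroup.IsComplement' H₂ K) : Nonempty (H₁ ≃* H₂) :=
  ⟨h₁.QuotientMulEquiv.symm.trans h₂.QuotientMulEquiv⟩

lemma isComplement'_subgroupOf_of (P H K : Subgroup G) (hH : H ≤ P) (hK : K ≤ P) (hdisj : H ⊓ K = ⊥)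
    (hmul : ∀ x ∈ P, ∃ h ∈ H, ∃ k ∈ K, x = h * k) :
    Subgroup.IsComplement' (H.subgroupOf P) (K.subgroupOf P) := by
  apply Subgroup.isComplement'_of_disjoint_and_mul_eq_univ
  · rw [disjoint_iff, eq_bot_iff]
    intro x hx
    rw [Subgroup.mem_inf, Subgroup.mem_subgroupOf, Subgroup.mem_subgroupOf] at hx
    have : (x : G) ∈ H ⊓ K := Subgroup.mem_inf.2 hx
    rw [hdisj, Subgroup.mem_bot] at this
    rw [Subgroup.mem_bot]
    exact Subtype.ext this
  · rw [Set.eq_univ_iff_forall]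
    intro x
    obtain ⟨h, hh, k, hk, hx⟩ := hmul x x.2
    refine ⟨⟨h, hH hh⟩, ?_, ⟨k, hK hk⟩, ?_, ?_⟩
    · exact Subgroup.mem_subgroupOf.2 hh
    · exact Subgroup.mem_subgroupOf.2 hk
    · apply Subtype.ext
      simp [hx]

end twoMin

end Cfsg.Agent.H1
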