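import Mathlib
import Cfsg.Agent.H1.Card

set_option autoImplicit false

namespace Cfsg.Agent.H1

open scoped commutatorElement

section
variable {G : Type*} [Group G] [Finite G]

/-- number of commuting pairs, counted by the first coordinate -/
lemma card_commuting_pairs (A B : Subgroup G) :
    Nat.card {x : A × B // (x.1 : G) * x.2 = x.2 * x.1} =
      ∑ᶠ a : A, Nat.card (B ⊓ Subgroup.centralizer ({(a : G)} : Set G) : Subgroup G) := by
  classical
  have := Fintype.ofFinite A
  rw [Nat.card_congr (Equiv.subtypeProdEquivSigmaSubtype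
    (fun (a : A) (b : B) => (a : G) * b = b * a)), Nat.card_sigma, finsum_eq_sum_of_fintype]
  apply Finset.sum_congr rfl
  intro a _
  apply Nat.card_congr
  refine ⟨fun b => ⟨(b.1 : G), Subgroup.mem_inf.2 ⟨b.1.2, ?_⟩⟩,
    fun c => ⟨⟨(c : G), (Subgroup.mem_inf.1 c.2).1⟩, ?_⟩, ?_, ?_⟩
  · rw [Subgroup.mem_centralizer_singleton_iff]
    exact b.2.symm
  · have := (Subgroup.mem_inf.1 c.2).2
    rw [Subgroup.mem_centralizer_singleton_iff] at this
    exact this.symm
  · intro b; rfl
  · intro c; rfl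


lemma card_commuting_pairs_symm (A B : Subgroup G) :
    ∑ᶠ a : A, Nat.card (B ⊓ Subgroup.centralizer ({(a : G)} : Set G) : Subgroup G) =
      ∑ᶠ b : B, Nat.card (A ⊓ Subgroup.centralizer ({(b : G)} : Set G) : Subgroup G) := by
  rw [← card_commuting_pairs, ← card_commuting_pairs]
  apply Nat.card_congr
  refine ⟨fun x => ⟨(x.1.2, x.1.1), x.2.symm⟩, fun y => ⟨(y.1.2, y.1.1), y.2.symm⟩, ?_, ?_⟩
  · intro x; rfl
  · intro y; rfl

/-- if all commutators `[b, a]` (`b ∈ B`) lie in a subgroup `Z` of order at most `p` of a `p`-group,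
the centralizer of `a` in `B` has index `1` or `p` -/
lemma relIndex_centralizer_le {p : ℕ} [Fact p.Prime] (hG : IsPGroup p G) (B Z : Subgroup G) (a : G)
    (hZ : ∀ b ∈ B, b * a * b⁻¹ * a⁻¹ ∈ Z) (hcard : Nat.card Z ≤ p) :
    (B ⊓ Subgroup.centralizer ({a} : Set G)).relIndex B = 1 ∨
      (B ⊓ Subgroup.centralizer ({a} : Set G)).relIndex B = p := by
  have hpp : p.Prime := Fact.out
  obtain ⟨C, hC⟩ : ∃ C, C = (B ⊓ Subgroup.centralizer ({a} : Set G)).subgroupOf B := ⟨_, rfl⟩
  have hrel : (B ⊓ Subgroup.centralizer ({a} : Set G)).relIndex B = C.index := by rw [hC]; rfl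
  rw [hrel]
  have hmemC : ∀ b : B, b ∈ C ↔ (b : G) * a = a * b := by
    intro b
    rw [hC, Subgroup.mem_subgroupOf, Subgroup.mem_inf, Subgroup.mem_centralizer_singleton_iff]
    constructor
    · rintro ⟨-, h⟩; exact h
    · intro h; exact ⟨b.2, h⟩
  -- injection B ⧸ C → Z
  let f : B ⧸ C → Z := Quotient.lift (s := QuotientGroup.leftRel C)
    (fun b : B => (⟨(b : G) * a * (b : G)⁻¹ * a⁻¹, hZ b b.2⟩ : Z)) (by
      intro b b' hbb'
      replace hbb' := (hmemC _).1 (QuotientGroup.leftRel_apply.1 hbb')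
      apply Subtype.ext
      simp only
      have h1 : (b : G)⁻¹ * b' * a = a * ((b : G)⁻¹ * b') := by
        simpa using hbb'
      have h2 : (b' : G) * a * (b' : G)⁻¹ = (b : G) * a * (b : G)⁻¹ := by
        have : (b' : G) * a = b * (a * ((b : G)⁻¹ * b')) := by rw [← h1]; group
        rw [this]; group
      rw [h2])
  have hf : Function.Injective f := by
    intro q q'
    induction q using Quotient.inductionOn with
    | _ b =>
    induction q' using Quotient.inductionOn with
    | _ b' =>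
    intro h
    apply Quotient.sound
    apply QuotientGroup.leftRel_apply.2
    rw [hmemC]
    have h1 : (b : G) * a * (b : G)⁻¹ * a⁻¹ = (b' : G) * a * (b' : G)⁻¹ * a⁻¹ := congrArg Subtype.val h
    have h2 : (b : G) * a * (b : G)⁻¹ = (b' : G) * a * (b' : G)⁻¹ := mul_right_cancel h1
    simp only [Subgroup.coe_mul, Subgroup.coe_inv]
    calc (b : G)⁻¹ * b' * a = (b : G)⁻¹ * ((b' : G) * a * (b' : G)⁻¹) * b' := by group
      _ = (b : G)⁻¹ * ((b : G) * a * (b : G)⁻¹) * b' := by rw [h2]
      _ = a * ((b : G)⁻¹ * b') := by group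
  have hle : C.index ≤ p := by
    rw [Subgroup.index_eq_card]
    exact (Nat.card_le_card_of_injective f hf).trans hcard
  have hB : IsPGroup p B := hG.to_subgroup B
  obtain ⟨m, hm⟩ := hB.exists_card_eq
  have hdvd : C.index ∣ p ^ m := hm ▸ Subgroup.index_dvd_card C
  obtain ⟨j, -, hj⟩ := (Nat.dvd_prime_pow hpp).1 hdvd
  rw [hj] at hle ⊢
  rcases Nat.lt_or_ge j 2 with h2 | h2
  · interval_cases j
    · left; simp
    · right; simp
  · exfalso
    have : p ^ 2 ≤ p ^ j := Nat.pow_le_pow_right hpp.pos h2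
    have h3 : p * p ≤ p := by rw [← pow_two]; exact this.trans hle
    have := hpp.one_lt
    nlinarith


lemma sum_card_centralizer_formula {p : ℕ} (A B : Subgroup G)
    (hK : ∀ a ∈ A, (B ⊓ Subgroup.centralizer ({a} : Set G)).relIndex B = 1 ∨
      (B ⊓ Subgroup.centralizer ({a} : Set G)).relIndex B = p) :
    p * ∑ᶠ a : A, Nat.card (B ⊓ Subgroup.centralizer ({(a : G)} : Set G) : Subgroup G) =
      Nat.card (A ⊓ Subgroup.centralizer (B : Set G) : Subgroup G) * (p * Nat.card B) +
        (Nat.card A - Nat.card (A ⊓ Subgroup.centralizer (B : Set G) : Subgroup G)) * Nat.card B := by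
  classical
  have := Fintype.ofFinite A
  rw [finsum_eq_sum_of_fintype, Finset.mul_sum]
  have hterm : ∀ a : A, p * Nat.card (B ⊓ Subgroup.centralizer ({(a : G)} : Set G) : Subgroup G) =
      if (a : G) ∈ Subgroup.centralizer (B : Set G) then p * Nat.card B else Nat.card B := by
    intro a
    have hcard := card_eq_relIndex_mul_card
      (inf_le_left : B ⊓ Subgroup.centralizer ({(a : G)} : Set G) ≤ B)
    have hiff : (B ⊓ Subgroup.centralizer ({(a : G)} : Set G)).relIndex B = 1 ↔
        (a : G) ∈ Subgroup.centralizer (B : Set G) := by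
      rw [Subgroup.relIndex_eq_one]
      constructor
      · intro h
        rw [Subgroup.mem_centralizer_iff]
        intro b hb
        have := (Subgroup.mem_inf.1 (h hb)).2
        rw [Subgroup.mem_centralizer_singleton_iff] at this
        exact this
      · intro h b hb
        rw [Subgroup.mem_centralizer_iff] at h
        refine Subgroup.mem_inf.2 ⟨hb, ?_⟩
        rw [Subgroup.mem_centralizer_singleton_iff]
        exact h b hb
    split_ifs with hmem
    · rw [hcard, hiff.2 hmem, one_mul]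
    · rcases hK a a.2 with h1 | h1
      · exact absurd (hiff.1 h1) hmem
      · rw [hcard, h1]
  rw [Finset.sum_congr rfl (fun a _ => hterm a), Finset.sum_ite, Finset.sum_const, Finset.sum_const,
    smul_eq_mul, smul_eq_mul]
  have hx : (Finset.univ.filter (fun a : A => (a : G) ∈ Subgroup.centralizer (B : Set G))).card =
      Nat.card (A ⊓ Subgroup.centralizer (B : Set G) : Subgroup G) := by
    rw [← Fintype.card_subtype, ← Nat.card_eq_fintype_card]
    apply Nat.card_congr
    refine ⟨fun a => ⟨(a.1 : G), Subgroup.mem_inf.2 ⟨a.1.2, a.2⟩⟩,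
      fun c => ⟨⟨(c : G), (Subgroup.mem_inf.1 c.2).1⟩, (Subgroup.mem_inf.1 c.2).2⟩, ?_, ?_⟩
    · intro a; rfl
    · intro c; rfl
  have hsum := Finset.card_filter_add_card_filter_not (s := (Finset.univ : Finset A))
    (fun a : A => (a : G) ∈ Subgroup.centralizer (B : Set G))
  rw [Finset.card_univ, ← Nat.card_eq_fintype_card, hx] at hsum
  rw [hx]
  have : (Finset.univ.filter (fun a : A => ¬ (a : G) ∈ Subgroup.centralizer (B : Set G))).card =
      Nat.card A - Nat.card (A ⊓ Subgroup.centralizer (B : Set G) : Subgroup G) := by omega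
  rw [this]

theorem relIndex_centralizer_symm {p : ℕ} [Fact p.Prime] (hG : IsPGroup p G) (A B : Subgroup G)
    (hAB : ⁅A, B⁆ ≤ A ⊓ B) (hcard : Nat.card ↥⁅A, B⁆ ≤ p) :
    (A ⊓ Subgroup.centralizer (B : Set G)).relIndex A =
      (B ⊓ Subgroup.centralizer (A : Set G)).relIndex B := by
  have hpp : p.Prime := Fact.out
  have hK1 : ∀ a ∈ A, (B ⊓ Subgroup.centralizer ({a} : Set G)).relIndex B = 1 ∨
      (B ⊓ Subgroup.centralizer ({a} : Set G)).relIndex B = p := by
    intro a ha
    apply relIndex_centralizer_le hG B ⁅A, B⁆ a _ hcard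
    intro b hb
    rw [Subgroup.commutator_comm]
    exact Subgroup.commutator_mem_commutator hb ha
  have hK2 : ∀ b ∈ B, (A ⊓ Subgroup.centralizer ({b} : Set G)).relIndex A = 1 ∨
      (A ⊓ Subgroup.centralizer ({b} : Set G)).relIndex A = p := by
    intro b hb
    apply relIndex_centralizer_le hG A ⁅A, B⁆ b _ hcard
    intro a ha
    exact Subgroup.commutator_mem_commutator ha hb
  have h1 := sum_card_centralizer_formula (p := p) A B hK1
  have h2 := sum_card_centralizer_formula (p := p) B A hK2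
  rw [card_commuting_pairs_symm A B, h2] at h1
  -- notation
  obtain ⟨x, hx⟩ : ∃ x, x = Nat.card (A ⊓ Subgroup.centralizer (B : Set G) : Subgroup G) := ⟨_, rfl⟩
  obtain ⟨y, hy⟩ : ∃ y, y = Nat.card (B ⊓ Subgroup.centralizer (A : Set G) : Subgroup G) := ⟨_, rfl⟩
  obtain ⟨α, hα⟩ : ∃ α, α = Nat.card A := ⟨_, rfl⟩
  obtain ⟨β, hβ⟩ : ∃ β, β = Nat.card B := ⟨_, rfl⟩
  rw [← hx, ← hy, ← hα, ← hβ] at h1
  have hxα : x ≤ α := by rw [hx, hα]; exact Subgroup.card_le_of_le inf_le_left
  have hyβ : y ≤ β := by rw [hy, hβ]; exact Subgroup.card_le_of_le inf_le_left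
  have hxpos : 0 < x := by rw [hx]; exact Nat.card_pos
  have hypos : 0 < y := by rw [hy]; exact Nat.card_pos
  obtain ⟨x', rfl⟩ : ∃ x', α = x + x' := ⟨α - x, by omega⟩
  obtain ⟨y', rfl⟩ : ∃ y', β = y + y' := ⟨β - y, by omega⟩
  rw [Nat.add_sub_cancel_left, Nat.add_sub_cancel_left] at h1
  obtain ⟨q, rfl⟩ : ∃ q, p = q + 1 := ⟨p - 1, by have := hpp.one_lt; omega⟩
  have hq : 0 < q := by have := hpp.one_lt; omega
  have h3 : q * (x * y') = q * (y * x') := by nlinarith
  have h4 : x * y' = y * x' := Nat.eq_of_mul_eq_mul_left hq h3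
  have h5 : x * (y + y') = y * (x + x') := by nlinarith
  -- relIndex
  have e1 := card_eq_relIndex_mul_card
    (inf_le_left : A ⊓ Subgroup.centralizer (B : Set G) ≤ A)
  have e2 := card_eq_relIndex_mul_card
    (inf_le_left : B ⊓ Subgroup.centralizer (A : Set G) ≤ B)
  rw [← hx, ← hα] at e1
  rw [← hy, ← hβ] at e2
  rw [e1, e2] at h5
  have h6 : (x * y) * (B ⊓ Subgroup.centralizer (A : Set G)).relIndex B =
      (x * y) * (A ⊓ Subgroup.centralizer (B : Set G)).relIndex A := by nlinarith
  exact (Nat.eq_of_mul_eq_mul_left (Nat.mul_pos hxpos hypos) h6).symm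

end

end Cfsg.Agent.H1
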