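import Mathlib
import Cfsg.Agent.H1.NormMap
import Cfsg.Agent.H1.Card
import Cfsg.Agent.S0023
import Cfsg.Agent.S0026
import Cfsg.Agent.S0027

set_option autoImplicit false
open scoped Pointwise commutatorElement

namespace Cfsg.Agent.H1

universe u

/-- the `p`-group case: `|P : C_P(A)| = p` forces `|[P,A]| = p` and `[P,A] ∩ C(A) = 1` -/
theorem card_commutator_of_pgroup {G : Type*} [Group G] [Finite G] (A P : Subgroup G)
    (hAP : A ≤ Subgroup.normalizer (P : Set G)) (hcop : (Nat.card A).Coprime (Nat.card P))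
    (p : ℕ) [hp : Fact p.Prime] (hP : IsPGroup p P)
    (hidx : (P ⊓ Subgroup.centralizer (A : Set G)).relIndex P = p) :
    Nat.card (⁅P, A⁆ : Subgroup G) = p ∧ ⁅P, A⁆ ⊓ Subgroup.centralizer (A : Set G) = ⊥ := by
  have hsolvP : Group.IsSolvable P := by
    have := hP.isNilpotent
    exact IsNilpotent.to_isSolvable
  obtain ⟨R, hR⟩ : ∃ R : Subgroup G, R = ⁅P, A⁆ := ⟨_, rfl⟩
  rw [← hR]
  have hRP : R ≤ P := by
    rw [hR]; exact Subgroup.le_normalizer_iff_commutator_le_left.mp hAP |>.trans le_rfl
  have hPR : P ≤ Subgroup.normalizer (R : Set G) := by rw [hR]; exact Subgroup.normalizer_commutator_ge_left P A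
  have hAR : A ≤ Subgroup.normalizer (R : Set G) := by rw [hR]; exact Subgroup.normalizer_commutator_ge_right P A
  have h27 : ⁅R, A⁆ = R := by rw [hR]; exact Cfsg.Agent.S0027.result A P hAP hcop (Or.inr hsolvP)
  have h26 : R ⊔ (P ⊓ Subgroup.centralizer (A : Set G)) = P := by
    rw [hR]; exact Cfsg.Agent.S0026.result A P hAP hcop (Or.inr hsolvP)
  have hRp : IsPGroup p R := hP.to_le hRP
  obtain ⟨M, hM⟩ : ∃ M : Subgroup G, M = R ⊓ Subgroup.centralizer (A : Set G) := ⟨_, rfl⟩
  have hMR : M ≤ R := by rw [hM]; exact inf_le_left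
  have hMidx : M.relIndex R = p := by
    have h1 := card_sup_mul_card_inf (P ⊓ Subgroup.centralizer (A : Set G)) R (inf_le_left.trans hPR)
    rw [sup_comm, h26] at h1
    have h2 : (P ⊓ Subgroup.centralizer (A : Set G)) ⊓ R = M := by
      rw [hM, inf_comm, ← inf_assoc, inf_eq_left.mpr hRP]
    rw [h2] at h1
    have h3 := card_eq_relIndex_mul_card (inf_le_left : P ⊓ Subgroup.centralizer (A : Set G) ≤ P)
    rw [hidx] at h3
    have h4 := card_eq_relIndex_mul_card hMR
    -- card P * card M = card C_P * card R ; card P = p * card C_P ; card R = idx * card M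
    have hCpos : 0 < Nat.card (P ⊓ Subgroup.centralizer (A : Set G) : Subgroup G) := Nat.card_pos
    have hMpos : 0 < Nat.card M := Nat.card_pos
    rw [h3, h4] at h1
    have h5 : Nat.card (P ⊓ Subgroup.centralizer (A : Set G) : Subgroup G) * Nat.card M * p =
        Nat.card (P ⊓ Subgroup.centralizer (A : Set G) : Subgroup G) * Nat.card M * M.relIndex R := by
      calc _ = p * Nat.card (P ⊓ Subgroup.centralizer (A : Set G) : Subgroup G) * Nat.card M := by ring
        _ = _ := by rw [h1]; ring
    exact (Nat.eq_of_mul_eq_mul_left (Nat.mul_pos hCpos hMpos) h5).symm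
  -- M normal in R
  have hRne : Nat.card R ≠ 1 := by
    intro h1
    have : M.relIndex R ∣ Nat.card R := Subgroup.relIndex_dvd_card M R
    rw [hMidx, h1] at this
    exact hp.out.one_lt.ne' (Nat.dvd_one.mp this)
  have hMn : (M.subgroupOf R).Normal := by
    apply Subgroup.normal_of_index_eq_minFac_card
    show M.relIndex R = _
    rw [hMidx]
    obtain ⟨k, hk⟩ := hRp.exists_card_eq
    rw [hk]
    have hk0 : k ≠ 0 := by
      rintro rfl; rw [pow_zero] at hk; exact hRne hk
    exact (Nat.Prime.pow_minFac hp.out hk0).symm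
  have hRM : R ≤ Subgroup.normalizer (M : Set G) := by
    have := Subgroup.normal_subgroupOf_iff_le_normalizer hMR |>.mp hMn
    exact this
  -- [R, M] = 1 via three subgroups
  have hMA : ⁅A, M⁆ = ⊥ := by
    rw [Subgroup.commutator_eq_bot_iff_le_centralizer, hM]
    intro a ha
    rw [Subgroup.mem_centralizer_iff]
    intro m hm
    have := Subgroup.mem_centralizer_iff.mp (Subgroup.mem_inf.mp hm).2 a ha
    exact this.symm
  have h1 : ⁅⁅A, M⁆, R⁆ = ⊥ := by rw [hMA, Subgroup.commutator_bot_left]
  have h2 : ⁅⁅M, R⁆, A⁆ = ⊥ := by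
    have hle : ⁅M, R⁆ ≤ M := by
      rw [Subgroup.commutator_comm]
      exact Subgroup.le_normalizer_iff_commutator_le_right.mp hRM |>.trans le_rfl
    rw [eq_bot_iff, ← hMA, Subgroup.commutator_comm A M]
    exact Subgroup.commutator_mono hle le_rfl
  have h3 : ⁅⁅R, A⁆, M⁆ = ⊥ := Subgroup.commutator_commutator_eq_bot_of_rotate h1 h2
  rw [h27] at h3
  have hMcent : M ≤ Subgroup.centralizer (R : Set G) := by
    rw [← Subgroup.commutator_eq_bot_iff_le_centralizer, Subgroup.commutator_comm]; exact h3
  -- R abelian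
  have hRab : IsMulCommutative R := by
    have hcyc : IsCyclic (R ⧸ M.subgroupOf R) := by
      have : Nat.card (R ⧸ M.subgroupOf R) = p := by
        rw [← Subgroup.index_eq_card]; exact hMidx
      exact isCyclic_of_prime_card this
    have hker : (QuotientGroup.mk' (M.subgroupOf R)).ker ≤ Subgroup.center R := by
      rw [QuotientGroup.ker_mk']
      intro x hx
      rw [Subgroup.mem_center_iff]
      intro y
      apply Subtype.ext
      have := Subgroup.mem_centralizer_iff.mp (hMcent (Subgroup.mem_subgroupOf.mp hx)) y y.2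
      simpa using this
    exact MonoidHom.isMulCommutative_of_isCyclic_of_ker_le_center (QuotientGroup.mk' (M.subgroupOf R)) hker
  have hcopR : (Nat.card A).Coprime (Nat.card R) :=
    Nat.Coprime.coprime_dvd_right (Subgroup.card_dvd_of_le hRP) hcop
  have hF1 := commutator_inf_centralizer_eq_bot_of_abelian R A hRab hAR hcopR
  rw [h27, ← hM] at hF1
  refine ⟨?_, hM ▸ hF1⟩
  have := card_eq_relIndex_mul_card hMR
  rw [hMidx, hF1, Subgroup.card_bot, mul_one] at this
  exact this

end Cfsg.Agent.H1

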