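import Mathlib
import Cfsg.Agent.H1.Basic
import Cfsg.Agent.H1.Cores
import Cfsg.Agent.H1.Abelian
import Cfsg.Agent.H1.CoreFree
import Cfsg.Agent.H1.FrattiniExtra
import Cfsg.Agent.H1.MinNonPClosed
import Cfsg.Agent.H1.NormalRankTwo
import Cfsg.Agent.S0549
import Cfsg.Prelude.Def_PLocal

set_option autoImplicit false

namespace Cfsg.Agent.H1

open Cfsg

section corefreeP
variable {G : Type*} [Group G] [Finite G]

/-- `O_p(G)` is a self-centralizing minimal normal subgroup when `G` has a core-free maximal subgroup -/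
lemma pCore_structure_of_corefree_maximal (p : ℕ) [Fact p.Prime] (hL : Cfsg.pCore p G ≠ ⊥) (M : Subgroup G)
    (hM : IsCoatom M) (hcore : M.normalCore = ⊥) :
    Cfsg.IsElementaryAbelian p (Cfsg.pCore p G) ∧
    (∀ K : Subgroup G, K.Normal → K ≤ Cfsg.pCore p G → K = ⊥ ∨ K = Cfsg.pCore p G) ∧
    Subgroup.centralizer ((Cfsg.pCore p G : Subgroup G) : Set G) = Cfsg.pCore p G ∧
    Cfsg.pCore p G ⊓ M = ⊥ ∧ Cfsg.pCore p G ⊔ M = ⊤ := by
  set L : Subgroup G := Cfsg.pCore p G with hLdef
  have hLn : L.Normal := pCore_normal p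
  have hLp : IsPGroup p L := pCore_isPGroup p
  obtain ⟨A, hAn, hAne, hAL, hAmin⟩ := exists_minimal_normal_le L hL
  have hAp : IsPGroup p A := hLp.to_le hAL
  have hAe : Cfsg.IsElementaryAbelian p A := isElementaryAbelian_of_minimal_normal_pgroup A hAp hAne hAmin
  have hAc : A ≤ Subgroup.centralizer (A : Set G) := by
    have := hAe.1
    exact le_centralizer_of_isMulCommutative A hAe.1
  obtain ⟨hCM, hC⟩ := S0549.result M hM hcore A hAne
  have hCA : Subgroup.centralizer (A : Set G) = A := by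
    rcases hC with hC | ⟨hCne, hCmin⟩
    · exfalso
      apply hAne
      rw [eq_bot_iff, ← hC]; exact hAc
    · rcases hCmin A hAn hAc with h | h
      · exact absurd h hAne
      · exact h.symm
  -- `A ≤ Z(L)`
  have hAsub : (A.subgroupOf L) ≠ ⊥ := by
    intro h
    apply hAne
    rw [eq_bot_iff]
    intro a ha
    have : (⟨a, hAL ha⟩ : L) ∈ A.subgroupOf L := Subgroup.mem_subgroupOf.2 ha
    rw [h, Subgroup.mem_bot] at this
    rw [Subgroup.mem_bot]
    exact congrArg Subtype.val this
  have hAsubn : (A.subgroupOf L).Normal := inferInstance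
  obtain ⟨z, hzA, hzc, hzo⟩ := exists_central_order_p hLp (A.subgroupOf L) hAsub
  have hZn : ((Subgroup.center L).map L.subtype).Normal := ConjAct.normal_of_characteristic_of_normal
  have hKn : (A ⊓ (Subgroup.center L).map L.subtype).Normal := inferInstance
  have hKne : A ⊓ (Subgroup.center L).map L.subtype ≠ ⊥ := by
    intro h
    have h1 : (z : G) ∈ A ⊓ (Subgroup.center L).map L.subtype :=
      Subgroup.mem_inf.2 ⟨Subgroup.mem_subgroupOf.1 hzA, ⟨z, hzc, rfl⟩⟩
    rw [h, Subgroup.mem_bot] at h1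
    have hz1 : z = 1 := Subtype.ext h1
    rw [hz1, orderOf_one] at hzo
    exact (Fact.out : p.Prime).one_lt.ne hzo
  have hKA : A ⊓ (Subgroup.center L).map L.subtype = A :=
    (hAmin _ hKn inf_le_left).resolve_left hKne
  have hLA : L ≤ A := by
    rw [← hCA]
    intro x hx
    rw [Subgroup.mem_centralizer_iff]
    intro a ha
    have ha' : a ∈ (Subgroup.center L).map L.subtype := by
      have : a ∈ A ⊓ (Subgroup.center L).map L.subtype := by rw [hKA]; exact ha
      exact (Subgroup.mem_inf.1 this).2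
    obtain ⟨a', ha'c, rfl⟩ := ha'
    have := Subgroup.mem_center_iff.1 ha'c ⟨x, hx⟩
    exact (congrArg Subtype.val this).symm
  have hLeqA : L = A := le_antisymm hLA hAL
  refine ⟨by rw [hLeqA]; exact hAe, ?_, by rw [hLeqA]; exact hCA, ?_, ?_⟩
  · intro K hK hKL
    rw [hLeqA] at hKL ⊢
    exact hAmin K hK hKL
  · rw [hLeqA, eq_bot_iff, ← hCM, hCA]
  · exact sup_eq_top_of_normal_corefree M hM hcore L hLn hL

end corefreeP

end Cfsg.Agent.H1
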