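import Mathlib
import Cfsg.Agent.H1.PGroup
import Cfsg.Agent.H1.Card
import Cfsg.Agent.H1.PComplement
import Cfsg.Agent.H2.AutFrattini
import Cfsg.Agent.Lib.Lead.NormalPComplement
import Cfsg.Agent.Lib.Helper4.Sylow

set_option autoImplicit false
open scoped Pointwise commutatorElement

namespace Cfsg.Agent.H1

/-- An automorphism of order coprime to `6` of a finite `2`-group with a cyclic subgroup of index `≤ 2`
is trivial. -/
theorem aut_eq_one_of_cyclic_index_le_two {Q : Type*} [Group Q] [Finite Q] (hQ : IsPGroup 2 Q)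
    (C : Subgroup Q) (hC : IsCyclic C) (hCi : C.index ≤ 2) (α : MulAut Q)
    (hα : (orderOf α).Coprime 6) : α = 1 := by
  classical
  haveI : Fact (Nat.Prime 2) := ⟨Nat.prime_two⟩
  obtain ⟨c', hc'⟩ := hC.exists_generator
  set c : Q := (c' : Q) with hc
  have hCz : C = Subgroup.zpowers c := by
    ext x
    constructor
    · intro hx
      obtain ⟨k, hk⟩ := Subgroup.mem_zpowers_iff.1 (hc' ⟨x, hx⟩)
      refine Subgroup.mem_zpowers_iff.2 ⟨k, ?_⟩
      have := congrArg Subtype.val hk
      simpa using this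
    · intro hx
      exact (Subgroup.zpowers_le.2 c'.2) hx
  set Φ : Subgroup Q := frattini Q with hΦ
  -- index of Φ is ≤ 4
  have hD : Subgroup.zpowers (c ^ 2) ≤ Φ := by
    rw [Subgroup.zpowers_le]
    exact pow_p_mem_frattini hQ c
  have hDC : Subgroup.zpowers (c ^ 2) ≤ C := by
    rw [Subgroup.zpowers_le, hCz]
    exact Subgroup.pow_mem _ (Subgroup.mem_zpowers c) 2
  have hDi : (Subgroup.zpowers (c ^ 2)).index ≤ 4 := by
    have h1 := Subgroup.relIndex_mul_index hDC
    have h2 : (Subgroup.zpowers (c ^ 2)).relIndex C ≤ 2 := by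
      rw [hCz]
      have h3 : (Subgroup.zpowers (c ^ 2)).relIndex (Subgroup.zpowers c) * Nat.card (Subgroup.zpowers (c ^ 2)) =
          Nat.card (Subgroup.zpowers c) := by
        rw [mul_comm]
        have := Subgroup.card_mul_index ((Subgroup.zpowers (c ^ 2)).subgroupOf (Subgroup.zpowers c))
        rw [Nat.card_congr (Subgroup.subgroupOfEquivOfLe (hCz ▸ hDC)).toEquiv] at this
        exact this
      rw [Nat.card_zpowers, Nat.card_zpowers, orderOf_pow] at h3
      have hpos : 0 < orderOf c := orderOf_pos c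
      have hg : 0 < (orderOf c).gcd 2 := Nat.gcd_pos_of_pos_left _ hpos
      have hg2 : (orderOf c).gcd 2 ≤ 2 := Nat.gcd_le_right _ (by norm_num)
      obtain ⟨k, hk⟩ := Nat.gcd_dvd_left (orderOf c) 2
      have h4 : orderOf c / (orderOf c).gcd 2 = k := Nat.div_eq_of_eq_mul_right hg hk
      rw [h4] at h3
      have hk0 : 0 < k := by
        rcases Nat.eq_zero_or_pos k with h | h
        · rw [h, mul_zero] at hk; omega
        · exact h
      have h5 : (Subgroup.zpowers (c ^ 2)).relIndex (Subgroup.zpowers c) * k = (orderOf c).gcd 2 * k := by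
        rw [h3]; exact hk
      have h6 := Nat.eq_of_mul_eq_mul_right hk0 h5
      omega
    calc (Subgroup.zpowers (c ^ 2)).index = (Subgroup.zpowers (c ^ 2)).relIndex C * C.index := h1.symm
      _ ≤ 2 * 2 := Nat.mul_le_mul h2 hCi
  have hΦi : Φ.index ≤ 4 := by
    have := Subgroup.index_dvd_of_le hD
    have hpos : 0 < (Subgroup.zpowers (c ^ 2)).index := Nat.pos_of_ne_zero Subgroup.index_ne_zero_of_finite
    exact (Nat.le_of_dvd hpos this).trans hDi
  -- induced automorphism
  have hchar : Φ.map (α : Q →* Q) = Φ := by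
    have : Φ.Characteristic := frattini_characteristic
    exact Subgroup.characteristic_iff_map_eq.mp this α
  set β : MulAut (Q ⧸ Φ) := QuotientGroup.congr Φ Φ α hchar with hβ
  have hβpow : ∀ (k : ℕ) (x : Q), (β ^ k) (QuotientGroup.mk x) = QuotientGroup.mk ((α ^ k) x) := by
    intro k
    induction k with
    | zero => intro x; simp
    | succ k ih =>
      intro x
      rw [pow_succ', pow_succ', MulAut.mul_apply, ih, MulAut.mul_apply]
      rw [hβ, QuotientGroup.congr_mk]
  have hβord : orderOf β ∣ orderOf α := by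
    apply orderOf_dvd_of_pow_eq_one
    ext y
    induction y using QuotientGroup.induction_on with
    | H x =>
      rw [hβpow, pow_orderOf_eq_one]
      rfl
  have hβ1 : β = 1 := by
    have h1 : orderOf β ∣ Nat.card (MulAut (Q ⧸ Φ)) := orderOf_dvd_natCard β
    have h2 := card_mulAut_dvd_factorial (Q ⧸ Φ)
    have h3 : Nat.card (Q ⧸ Φ) ≤ 4 := by rw [← Subgroup.index_eq_card]; exact hΦi
    have h4 : (Nat.card (Q ⧸ Φ)).factorial ∣ Nat.factorial 4 := Nat.factorial_dvd_factorial h3
    have h5 : orderOf β ∣ 24 := by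
      have : Nat.factorial 4 = 24 := by decide
      rw [← this]
      exact h1.trans (h2.trans h4)
    have h6 : (orderOf β).Coprime 6 := Nat.Coprime.coprime_dvd_left hβord hα
    have h7 : (orderOf β).Coprime 24 := by
      have : (24 : ℕ) = 2 * 2 * 6 := by norm_num
      rw [this]
      have h2c : (orderOf β).Coprime 2 := Nat.Coprime.coprime_dvd_right (by norm_num) h6
      exact Nat.Coprime.mul_right (Nat.Coprime.mul_right h2c h2c) h6
    have h8 : orderOf β = 1 := Nat.Coprime.eq_one_of_dvd h7 h5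
    exact orderOf_eq_one_iff.mp h8
  -- α acts trivially on Q/Φ
  have htriv : ∀ x : Q, α x * x⁻¹ ∈ Φ := by
    intro x
    have h1 : β (QuotientGroup.mk x) = QuotientGroup.mk x := by rw [hβ1]; rfl
    rw [hβ, QuotientGroup.congr_mk] at h1
    have h2 : (QuotientGroup.mk (α x * x⁻¹) : Q ⧸ Φ) = 1 := by
      rw [QuotientGroup.mk_mul, QuotientGroup.mk_inv]
      have : (QuotientGroup.mk (α x) : Q ⧸ Φ) = QuotientGroup.mk x := h1
      rw [this, mul_inv_cancel]
    exact (QuotientGroup.eq_one_iff _).mp h2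
  have htrivpow : ∀ (k : ℕ) (x : Q), (α ^ k) x * x⁻¹ ∈ Φ := by
    intro k
    induction k with
    | zero => intro x; simp
    | succ k ih =>
      intro x
      rw [pow_succ', MulAut.mul_apply]
      have h1 := htriv ((α ^ k) x)
      have h2 := ih x
      have : α ((α ^ k) x) * x⁻¹ = (α ((α ^ k) x) * ((α ^ k) x)⁻¹) * ((α ^ k) x * x⁻¹) := by group
      rw [this]
      exact Φ.mul_mem h1 h2
  obtain ⟨n, hn⟩ := IsPGroup.iff_card.mp hQ
  obtain ⟨r, hr⟩ : ∃ r, Φ.index = 2 ^ r := hQ.index Φ
  have hA := H2.AutFrat.card_dvd_of_trivial_on_frattini_quotient (p := 2) hn hr (Subgroup.zpowers α) (by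
    intro γ hγ x
    rw [← mem_powers_iff_mem_zpowers] at hγ
    obtain ⟨k, rfl⟩ := hγ
    exact htrivpow k x)
  rw [Nat.card_zpowers] at hA
  have h2c : (orderOf α).Coprime 2 := Nat.Coprime.coprime_dvd_right (by norm_num) hα
  have h1 : orderOf α = 1 := Nat.Coprime.eq_one_of_dvd (h2c.pow_right _) hA
  exact orderOf_eq_one_iff.mp h1

end Cfsg.Agent.H1
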