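import Mathlib
import Cfsg.Prelude.Def_Characters
import Cfsg.Agent.Lib.helper3.Irr17
import Cfsg.Agent.Lib.helper3.IndFunTrans
import Cfsg.Agent.Lib.helper3.IndLin
import Cfsg.Agent.Lib.helper3.Lin

set_option autoImplicit false
set_option linter.style.haveILetI false
set_option linter.unusedSectionVars false
set_option linter.unusedVariables false

/-!
# Dade's embedding theorem, part A: characters of finite direct powers

External tensor products of characters on `Q → D`, induction from product subgroups, transport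
of induced functions along a group isomorphism.
-/

namespace Cfsg.Agent.H1.Dade

open Cfsg Cfsg.Agent.Lib.helper3.Irr Cfsg.Agent.Lib.helper3.IndFun
open scoped ComplexConjugate

section prodchar

variable {G : Type*} [Group G]

/-- A finite product of characters is a character. -/
theorem isCharacter_finset_prod {ι : Type*} (s : Finset ι) (f : ι → G → ℂ)
    (h : ∀ i ∈ s, IsCharacter G (f i)) : IsCharacter G (fun g => ∏ i ∈ s, f i g) := by
  classical
  induction s using Finset.induction_on with
  | empty =>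
    have := isCharacter_one (G := G)
    simpa using this
  | insert a s ha ih =>
    have h1 : IsCharacter G (f a) := h a (Finset.mem_insert_self a s)
    have h2 := ih (fun i hi => h i (Finset.mem_insert_of_mem hi))
    have h3 := isCharacter_mul h1 h2
    have : (fun g => ∏ i ∈ insert a s, f i g) = f a * fun g => ∏ i ∈ s, f i g := by
      funext g
      rw [Finset.prod_insert ha]
      rfl
    rw [this]
    exact h3

/-- A character and an irreducible constituent of the same degree are equal. -/
theorem eq_of_constituent_of_degree_le [Fintype G] {Θ χ : G → ℂ} (hΘ : IsCharacter G Θ)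
    (hχ : IsIrrCharacter G χ) (hne : classInner Θ χ ≠ 0) (a b : ℕ) (ha : Θ 1 = a) (hb : χ 1 = b)
    (hab : a ≤ b) : Θ = χ := by
  have hsub : IsCharacter G (Θ - χ) :=
    isCharacter_sub_of_classInner_ne_zero hΘ ⟨χ, hχ⟩ hne
  obtain ⟨c, hc⟩ := exists_nat_apply_one hsub
  simp only [Pi.sub_apply] at hc
  rw [ha, hb] at hc
  have h1 : (a : ℂ) = b + c := by rw [← hc]; ring
  have h2 : a = b + c := by exact_mod_cast h1
  have hc0 : c = 0 := by omega
  -- a character of degree zero vanishes
  obtain ⟨m, hm⟩ := exists_decomposition_of_isCharacter hsub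
  have hdeg : (Θ - χ) 1 = 0 := by
    simp only [Pi.sub_apply]
    rw [ha, hb, h2, hc0]
    simp
  have hm0 : ∀ φ : IrrCharacter G, m φ = 0 := by
    intro φ
    by_contra hφ
    rw [hm] at hdeg
    simp only [Finset.sum_apply, Pi.smul_apply, smul_eq_mul] at hdeg
    have hnn : ∀ ψ : IrrCharacter G, ∃ k : ℕ, (m ψ : ℂ) * (ψ : G → ℂ) 1 = k ∧ (m ψ ≠ 0 → 0 < k) := by
      intro ψ
      obtain ⟨k, hk, hk1⟩ := exists_pos_nat_apply_one ψ.2
      refine ⟨m ψ * k, ?_, ?_⟩
      · rw [hk1]; push_cast; ring
      · intro h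
        exact Nat.mul_pos (Nat.pos_of_ne_zero h) hk
    choose k hk hkpos using hnn
    have hsum : ((∑ ψ : IrrCharacter G, k ψ : ℕ) : ℂ) = 0 := by
      rw [← hdeg]
      push_cast
      apply Finset.sum_congr rfl
      intro ψ _
      exact (hk ψ).symm
    have hsum' : ∑ ψ : IrrCharacter G, k ψ = 0 := by exact_mod_cast hsum
    have := (Finset.sum_eq_zero_iff.mp hsum') φ (Finset.mem_univ _)
    have := hkpos φ hφ
    omega
  have hzero : Θ - χ = 0 := by
    rw [hm]
    apply Finset.sum_eq_zero
    intro φ _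
    rw [hm0 φ]
    simp
  exact sub_eq_zero.mp hzero

end prodchar

section pi

variable {Q : Type*} [Fintype Q] [DecidableEq Q] {D : Type*} [Group D] [Fintype D]

/-- The external tensor product of a family of functions. -/
def tens (ψ : Q → D → ℂ) : (Q → D) → ℂ := fun f => ∏ q, ψ q (f q)

theorem tens_apply (ψ : Q → D → ℂ) (f : Q → D) : tens ψ f = ∏ q, ψ q (f q) := rfl

theorem classInner_tens (ψ ψ' : Q → D → ℂ) :
    classInner (tens ψ) (tens ψ') = ∏ q, classInner (ψ q) (ψ' q) := by
  unfold classInner
  have h1 : ∀ f : Q → D, tens ψ f * conj (tens ψ' f)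
      = ∏ q, (ψ q (f q) * conj (ψ' q (f q))) := by
    intro f
    rw [tens_apply, tens_apply, map_prod, Finset.prod_mul_distrib]
  simp_rw [h1]
  rw [← Fintype.prod_sum (fun q (d : D) => ψ q d * conj (ψ' q d))]
  rw [Finset.prod_mul_distrib, Finset.prod_const, Finset.card_univ, Nat.card_fun,
    Nat.card_eq_fintype_card (α := Q)]
  push_cast
  rw [inv_pow]

theorem isCharacter_tens {ψ : Q → D → ℂ} (h : ∀ q, IsCharacter D (ψ q)) :
    IsCharacter (Q → D) (tens ψ) := by
  apply isCharacter_finset_prod Finset.univ (fun q (f : Q → D) => ψ q (f q))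
  intro q _
  exact isCharacter_comp (h q) (Pi.evalMonoidHom (fun _ : Q => D) q)

theorem isIrrCharacter_tens {ψ : Q → D → ℂ} (h : ∀ q, IsIrrCharacter D (ψ q)) :
    IsIrrCharacter (Q → D) (tens ψ) := by
  apply isIrrCharacter_of_classInner_self_eq_one
    (isCharacter_tens (fun q => isCharacter_of_isIrrCharacter (h q)))
  rw [classInner_tens]
  apply Finset.prod_eq_one
  intro q _
  exact irr_classInner_self (h q)

/-- Tensor products of distinct families of irreducible characters are distinct. -/
theorem tens_injective {ψ ψ' : Q → D → ℂ} (h : ∀ q, IsIrrCharacter D (ψ q))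
    (h' : ∀ q, IsIrrCharacter D (ψ' q)) (heq : tens ψ = tens ψ') : ψ = ψ' := by
  funext q
  by_contra hne
  have h1 : classInner (tens ψ) (tens ψ') = 1 := by
    rw [← heq]
    exact irr_classInner_self (isIrrCharacter_tens h)
  rw [classInner_tens] at h1
  have h2 : ∏ q, classInner (ψ q) (ψ' q) = 0 := by
    apply Finset.prod_eq_zero (Finset.mem_univ q)
    exact irr_classInner_eq_zero (h q) (h' q) hne
  rw [h2] at h1
  exact zero_ne_one h1

theorem tens_apply_one (ψ : Q → D → ℂ) : tens ψ 1 = ∏ q, ψ q 1 := rfl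

/-- Every irreducible character of `Q → D` is an external tensor product. -/
theorem exists_tens_of_isIrrCharacter {θ : (Q → D) → ℂ} (hθ : IsIrrCharacter (Q → D) θ) :
    ∃ ψ : Q → D → ℂ, (∀ q, IsIrrCharacter D (ψ q)) ∧ θ = tens ψ := by
  classical
  by_contra hcon
  push Not at hcon
  -- the map from families to irreducible characters
  let F : (Q → IrrCharacter D) → IrrCharacter (Q → D) :=
    fun t => ⟨tens (fun q => (t q : D → ℂ)), isIrrCharacter_tens (fun q => (t q).2)⟩
  have hF : Function.Injective F := by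
    intro t t' htt
    have h1 : tens (fun q => (t q : D → ℂ)) = tens (fun q => (t' q : D → ℂ)) :=
      congrArg Subtype.val htt
    have h2 := tens_injective (fun q => (t q).2) (fun q => (t' q).2) h1
    funext q
    exact Subtype.ext (congrFun h2 q)
  have hnot : (⟨θ, hθ⟩ : IrrCharacter (Q → D)) ∉ Finset.univ.image F := by
    intro hmem
    obtain ⟨t, -, ht⟩ := Finset.mem_image.mp hmem
    exact hcon (fun q => (t q : D → ℂ)) (fun q => (t q).2) (congrArg Subtype.val ht).symm
  -- degree sums
  have hsumF : ∑ χ ∈ Finset.univ.image F, ((χ : (Q → D) → ℂ) 1) ^ 2 = (Nat.card (Q → D) : ℂ) := by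
    rw [Finset.sum_image (fun a _ b _ hab => hF hab)]
    have h1 : ∀ t : Q → IrrCharacter D, (((F t : IrrCharacter (Q → D)) : (Q → D) → ℂ) 1) ^ 2
        = ∏ q, ((t q : D → ℂ) 1) ^ 2 := by
      intro t
      show (tens (fun q => (t q : D → ℂ)) 1) ^ 2 = _
      rw [tens_apply_one, Finset.prod_pow]
    simp_rw [h1]
    rw [← Fintype.prod_sum (fun (_ : Q) (ψ : IrrCharacter D) => ((ψ : D → ℂ) 1) ^ 2)]
    simp_rw [sum_sq_degree]
    rw [Finset.prod_const, Finset.card_univ, Nat.card_fun, Nat.card_eq_fintype_card (α := Q)]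
    push_cast
    rfl
  have hsumAll := sum_sq_degree (G := (Q → D))
  rw [← Finset.sum_sdiff (Finset.subset_univ (Finset.univ.image F)), hsumF] at hsumAll
  have hrest : ∑ χ ∈ Finset.univ \ Finset.univ.image F, ((χ : (Q → D) → ℂ) 1) ^ 2 = 0 := by
    have := hsumAll
    linear_combination this
  -- but the term of `θ` is positive
  have hdeg : ∀ χ : IrrCharacter (Q → D), ∃ n : ℕ, 0 < n ∧ ((χ : (Q → D) → ℂ) 1) ^ 2 = (n : ℂ) := by
    intro χ
    obtain ⟨n, hn, hn1⟩ := exists_pos_nat_apply_one χ.2
    refine ⟨n ^ 2, pow_pos hn 2, ?_⟩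
    rw [hn1]
    push_cast
    rfl
  choose n hn hn1 using hdeg
  have hrest' : ((∑ χ ∈ Finset.univ \ Finset.univ.image F, n χ : ℕ) : ℂ) = 0 := by
    rw [← hrest]
    push_cast
    apply Finset.sum_congr rfl
    intro χ _
    exact (hn1 χ).symm
  have hrest'' : ∑ χ ∈ Finset.univ \ Finset.univ.image F, n χ = 0 := by exact_mod_cast hrest'
  have hmem : (⟨θ, hθ⟩ : IrrCharacter (Q → D)) ∈ Finset.univ \ Finset.univ.image F :=
    Finset.mem_sdiff.mpr ⟨Finset.mem_univ _, hnot⟩
  have := (Finset.sum_eq_zero_iff.mp hrest'') _ hmem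
  have := hn ⟨θ, hθ⟩
  omega

/-- The product subgroup `∏ H q` of `Q → D`. -/
abbrev piSub (H : Q → Subgroup D) : Subgroup (Q → D) := Subgroup.pi Set.univ H

theorem mem_piSub {H : Q → Subgroup D} {f : Q → D} : f ∈ piSub H ↔ ∀ q, f q ∈ H q := by
  unfold piSub
  rw [Subgroup.mem_pi]
  constructor
  · intro h q
    exact h q (Set.mem_univ q)
  · intro h q _
    exact h q

/-- The product of a family of functions on the subgroups `H q`, as a function on `∏ H q`. -/
def piFun (H : Q → Subgroup D) (lam : ∀ q, H q → ℂ) : piSub H → ℂ :=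
  fun x => ∏ q, lam q ⟨x.1 q, mem_piSub.mp x.2 q⟩

theorem card_piSub (H : Q → Subgroup D) : Nat.card (piSub H) = ∏ q, Nat.card (H q) := by
  rw [← Nat.card_pi]
  apply Nat.card_congr
  exact
    { toFun := fun x q => ⟨x.1 q, mem_piSub.mp x.2 q⟩
      invFun := fun y => ⟨fun q => (y q).1, mem_piSub.mpr (fun q => (y q).2)⟩
      left_inv := fun x => rfl
      right_inv := fun y => rfl }

theorem extendByZero_piFun (H : Q → Subgroup D) (lam : ∀ q, H q → ℂ) (y : Q → D) :
    extendByZero (piSub H) (piFun H lam) y = ∏ q, extendByZero (H q) (lam q) (y q) := by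
  by_cases hy : y ∈ piSub H
  · rw [extendByZero_mem _ _ hy]
    unfold piFun
    apply Finset.prod_congr rfl
    intro q _
    rw [extendByZero_mem _ _ (mem_piSub.mp hy q)]
  · rw [extendByZero_not_mem _ _ hy]
    have : ∃ q, y q ∉ H q := by
      by_contra hcon
      push Not at hcon
      exact hy (mem_piSub.mpr hcon)
    obtain ⟨q, hq⟩ := this
    symm
    apply Finset.prod_eq_zero (Finset.mem_univ q)
    exact extendByZero_not_mem _ _ hq

/-- Induction from a product subgroup of a product function is the external tensor product of the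
induced functions. -/
theorem indFun_piFun (H : Q → Subgroup D) (lam : ∀ q, H q → ℂ) :
    indFun (piSub H) (piFun H lam) = tens (fun q => indFun (H q) (lam q)) := by
  funext f
  rw [indFun_apply, tens_apply]
  simp_rw [indFun_apply, extendByZero_piFun]
  rw [Finset.prod_mul_distrib]
  rw [Fintype.prod_sum (fun q (d : D) => extendByZero (H q) (lam q) (d⁻¹ * f q * d))]
  rw [card_piSub]
  push_cast
  rw [Finset.prod_inv_distrib]
  rfl

end pi

section transport

variable {P : Type*} [Group P] [Fintype P] {B : Type*} [Group B] [Fintype B]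

/-- Transport of an induced function along a group isomorphism. -/
theorem indFun_comp_mulEquiv (e : P ≃* B) (K : Subgroup P) (θ : K → ℂ) (K' : Subgroup B)
    (θ' : K' → ℂ) (hK : ∀ x : P, x ∈ K ↔ e x ∈ K')
    (hθ : ∀ (x : P) (hx : x ∈ K), θ ⟨x, hx⟩ = θ' ⟨e x, (hK x).mp hx⟩) (x : P) :
    indFun K' θ' (e x) = indFun K θ x := by
  rw [indFun_apply, indFun_apply]
  have hcard : Nat.card K' = Nat.card K := by
    apply Nat.card_congr
    exact
      { toFun := fun y => ⟨e.symm y.1, (hK _).mpr (by rw [MulEquiv.apply_symm_apply]; exact y.2)⟩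
        invFun := fun y => ⟨e y.1, (hK _).mp y.2⟩
        left_inv := fun y => by simp
        right_inv := fun y => by simp }
  rw [hcard]
  congr 1
  rw [← Equiv.sum_comp e.toEquiv]
  apply Finset.sum_congr rfl
  intro z _
  have h1 : (e.toEquiv z)⁻¹ * e x * e.toEquiv z = e (z⁻¹ * x * z) := by
    simp
  rw [h1]
  by_cases ht : z⁻¹ * x * z ∈ K
  · rw [extendByZero_mem _ _ ht, extendByZero_mem _ _ ((hK _).mp ht)]
    exact (hθ _ ht).symm
  · rw [extendByZero_not_mem _ _ ht, extendByZero_not_mem _ _ (fun h => ht ((hK _).mpr h))]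

end transport

end Cfsg.Agent.H1.Dade
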