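import Mathlib
import Cfsg.Prelude.Def_Characters
import Cfsg.Agent.H1.DadeA
import Cfsg.Agent.Lib.helper3.TransferChar

set_option autoImplicit false
set_option linter.style.haveILetI false
set_option linter.unusedSectionVars false
set_option linter.unusedVariables false

/-!
# Dade's embedding theorem, part B: the regular wreath product of an M-group with a group of
prime order is an M-group
-/

namespace Cfsg.Agent.H1.Dade

open Cfsg Cfsg.Agent.Lib.helper3.Irr Cfsg.Agent.Lib.helper3.IndFun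
open Cfsg.Agent.Lib.helper3.IndFunTrans Cfsg.Agent.Lib.helper3.Lin
open scoped ComplexConjugate
open RegularWreathProduct

section primeorder

variable {Q : Type*} [Group Q] [Finite Q]

theorem mem_zpowers_of_prime_card (hp : (Nat.card Q).Prime) {c : Q} (hc : c ≠ 1) (x : Q) :
    x ∈ Subgroup.zpowers c := by
  haveI : Fact (Nat.card Q).Prime := ⟨hp⟩
  rcases (Subgroup.zpowers c).eq_bot_or_eq_top_of_prime_card with h | h
  · exfalso
    apply hc
    have := Subgroup.mem_zpowers c
    rw [h] at this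
    exact Subgroup.mem_bot.mp this
  · rw [h]
    exact Subgroup.mem_top x

theorem comm_of_prime_card (hp : (Nat.card Q).Prime) (a b : Q) : a * b = b * a := by
  by_cases ha : a = 1
  · rw [ha]; simp
  · obtain ⟨k, rfl⟩ := Subgroup.mem_zpowers_iff.mp (mem_zpowers_of_prime_card hp ha b)
    exact (Commute.zpow_right (Commute.refl a) k).eq

end primeorder

section base

variable {D : Type*} [Group D] {Q : Type*} [Group Q]

/-- The base group of the regular wreath product. -/
def baseSub (D Q : Type*) [Group D] [Group Q] : Subgroup (D ≀ᵣ Q) :=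
  (RegularWreathProduct.rightHom : D ≀ᵣ Q →* Q).ker

theorem mem_baseSub {w : D ≀ᵣ Q} : w ∈ baseSub D Q ↔ w.right = 1 := MonoidHom.mem_ker

instance baseSub_normal : (baseSub D Q).Normal := MonoidHom.normal_ker _

/-- The base group is the direct power. -/
def baseEquiv (D Q : Type*) [Group D] [Group Q] : (Q → D) ≃* baseSub D Q where
  toFun f := ⟨⟨f, 1⟩, mem_baseSub.mpr rfl⟩
  invFun b := b.1.left
  left_inv f := rfl
  right_inv b := by
    apply Subtype.ext
    apply RegularWreathProduct.ext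
    · rfl
    · exact (mem_baseSub.mp b.2).symm
  map_mul' f g := by
    apply Subtype.ext
    apply RegularWreathProduct.ext
    · funext q; simp
    · simp

theorem baseEquiv_coe (f : Q → D) : ((baseEquiv D Q f : baseSub D Q) : D ≀ᵣ Q) = ⟨f, 1⟩ := rfl

theorem baseEquiv_symm_apply (b : baseSub D Q) : (baseEquiv D Q).symm b = b.1.left := rfl

theorem conj_left (g : D ≀ᵣ Q) (f : Q → D) :
    (g * (⟨f, 1⟩ : D ≀ᵣ Q) * g⁻¹).left
      = fun x => g.left x * f (g.right⁻¹ * x) * (g.left x)⁻¹ := by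
  funext x
  simp [mul_assoc]

/-- The subgroup `∏ H q` of the base group, inside the wreath product. -/
def KH (H : Q → Subgroup D) : Subgroup (D ≀ᵣ Q) where
  carrier := {w | w.right = 1 ∧ ∀ q, w.left q ∈ H q}
  one_mem' := ⟨rfl, fun q => (H q).one_mem⟩
  mul_mem' := by
    rintro a b ⟨ha1, ha2⟩ ⟨hb1, hb2⟩
    refine ⟨by simp [ha1, hb1], fun q => ?_⟩
    simp only [RegularWreathProduct.mul_left, Pi.mul_apply]
    rw [ha1, inv_one, one_mul]
    exact (H q).mul_mem (ha2 q) (hb2 q)
  inv_mem' := by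
    rintro a ⟨ha1, ha2⟩
    refine ⟨by simp [ha1], fun q => ?_⟩
    simp only [RegularWreathProduct.inv_left, Pi.inv_apply]
    rw [ha1, one_mul]
    exact (H q).inv_mem (ha2 q)

theorem mem_KH {H : Q → Subgroup D} {w : D ≀ᵣ Q} :
    w ∈ KH H ↔ w.right = 1 ∧ ∀ q, w.left q ∈ H q := Iff.rfl

theorem KH_le_baseSub (H : Q → Subgroup D) : KH H ≤ baseSub D Q :=
  fun w hw => mem_baseSub.mpr hw.1

/-- The subgroup `H₁ ≀ Q` of `D ≀ Q`. -/
def UH (Q : Type*) [Group Q] (H₁ : Subgroup D) : Subgroup (D ≀ᵣ Q) where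
  carrier := {w | ∀ q, w.left q ∈ H₁}
  one_mem' := fun q => H₁.one_mem
  mul_mem' := by
    intro a b ha hb q
    simp only [RegularWreathProduct.mul_left, Pi.mul_apply]
    exact H₁.mul_mem (ha q) (hb _)
  inv_mem' := by
    intro a ha q
    simp only [RegularWreathProduct.inv_left, Pi.inv_apply]
    exact H₁.inv_mem (ha _)

theorem mem_UH {H₁ : Subgroup D} {w : D ≀ᵣ Q} : w ∈ UH Q H₁ ↔ ∀ q, w.left q ∈ H₁ := Iff.rfl

end base

section homs

variable {D : Type*} [Group D] {Q : Type*} [Group Q] [Fintype Q]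

/-- The product linear character of `∏ H q`. -/
noncomputable def lamKH (H : Q → Subgroup D) (lam : ∀ q, H q →* ℂˣ) : KH H →* ℂˣ where
  toFun w := ∏ q, lam q ⟨w.1.left q, w.2.2 q⟩
  map_one' := by
    apply Finset.prod_eq_one
    intro q _
    have : (⟨(1 : KH H).1.left q, (1 : KH H).2.2 q⟩ : H q) = 1 := Subtype.ext rfl
    rw [this, map_one]
  map_mul' a b := by
    rw [← Finset.prod_mul_distrib]
    apply Finset.prod_congr rfl
    intro q _
    rw [← map_mul]
    congr 1
    apply Subtype.ext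
    show a.1.left q * b.1.left (a.1.right⁻¹ * q) = a.1.left q * b.1.left q
    rw [a.2.1, inv_one, one_mul]

theorem lamKH_apply (H : Q → Subgroup D) (lam : ∀ q, H q →* ℂˣ) (w : KH H) :
    ((lamKH H lam w : ℂˣ) : ℂ) = ∏ q, ((lam q ⟨w.1.left q, w.2.2 q⟩ : ℂˣ) : ℂ) := by
  unfold lamKH
  simp

/-- The product linear character of `H₁ ≀ Q`. -/
noncomputable def lamUH (H₁ : Subgroup D) (lam : H₁ →* ℂˣ) : UH Q H₁ →* ℂˣ where
  toFun w := ∏ q, lam ⟨w.1.left q, w.2 q⟩
  map_one' := by
    apply Finset.prod_eq_one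
    intro q _
    have : (⟨(1 : UH Q H₁).1.left q, (1 : UH Q H₁).2 q⟩ : H₁) = 1 := Subtype.ext rfl
    rw [this, map_one]
  map_mul' a b := by
    have h1 : ∀ q, lam ⟨(a * b).1.left q, (a * b).2 q⟩
        = lam ⟨a.1.left q, a.2 q⟩ * lam ⟨b.1.left (a.1.right⁻¹ * q), b.2 _⟩ := by
      intro q
      rw [← map_mul]
      congr 1
    simp_rw [h1]
    rw [Finset.prod_mul_distrib]
    congr 1
    exact Equiv.prod_comp (Equiv.mulLeft (a.1.right⁻¹)) (fun q => lam ⟨b.1.left q, b.2 q⟩)

theorem lamUH_apply (H₁ : Subgroup D) (lam : H₁ →* ℂˣ) (w : UH Q H₁) :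
    ((lamUH H₁ lam w : ℂˣ) : ℂ) = ∏ q, ((lam ⟨w.1.left q, w.2 q⟩ : ℂˣ) : ℂ) := by
  unfold lamUH
  simp

end homs

section wreath

variable {D : Type*} [Group D] [Fintype D] {Q : Type*} [Group Q] [Fintype Q] [DecidableEq Q]

/-- The finiteness instance on the wreath product. -/
noncomputable instance wrFintype : Fintype (D ≀ᵣ Q) :=
  Fintype.ofEquiv _ (RegularWreathProduct.equivProd D Q).symm

/-- Induction from the base group of a tensor product of induced functions. -/
theorem indFun_base_eq (H : Q → Subgroup D) (lam : ∀ q, H q → ℂ) (ψB : baseSub D Q → ℂ)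
    (hψ : ∀ f : Q → D, ψB (baseEquiv D Q f) = tens (fun q => indFun (H q) (lam q)) f) :
    indFun (baseSub D Q) ψB
      = indFun (KH H) (fun w => ∏ q, lam q ⟨w.1.left q, w.2.2 q⟩) := by
  classical
  letI : Fintype (baseSub D Q) := Fintype.ofFinite _
  rw [← indFun_trans (KH H) (baseSub D Q) (KH_le_baseSub H)
    (fun w => ∏ q, lam q ⟨w.1.left q, w.2.2 q⟩)]
  congr 1
  funext b
  obtain ⟨f, rfl⟩ := (baseEquiv D Q).surjective b
  rw [hψ f, ← indFun_piFun]
  symm
  apply indFun_comp_mulEquiv (baseEquiv D Q) (piSub H) (piFun H lam)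
    ((KH H).subgroupOf (baseSub D Q))
  · intro x hx
    rfl
  · intro x
    rw [Subgroup.mem_subgroupOf, baseEquiv_coe, mem_KH, mem_piSub]
    simp

end wreath

end Cfsg.Agent.H1.Dade
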