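import Mathlib
import Cfsg.Prelude.Def_Characters
import Cfsg.Agent.H1.DadeB

set_option autoImplicit false
set_option linter.style.haveILetI false
set_option linter.unusedSectionVars false
set_option linter.unusedVariables false

/-!
# Dade's embedding theorem, part C: `D ≀ Q` is an M-group when `D` is and `|Q|` is prime
-/

namespace Cfsg.Agent.H1.Dade

open Cfsg Cfsg.Agent.Lib.helper3.Irr Cfsg.Agent.Lib.helper3.IndFun
open Cfsg.Agent.Lib.helper3.IndFunTrans Cfsg.Agent.Lib.helper3.Lin
open scoped ComplexConjugate
open RegularWreathProduct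

section wreath

variable {D : Type*} [Group D] [Fintype D] {Q : Type*} [Group Q] [Fintype Q] [DecidableEq Q]

set_option maxHeartbeats 1600000 in
/-- The regular wreath product of an M-group with a group of prime order is an M-group. -/
theorem isMGroup_wreath (hp : (Nat.card Q).Prime)
    (hD : ∀ χ : D → ℂ, IsIrrCharacter D χ →
      ∃ (H : Subgroup D) (lam : H →* ℂˣ), χ = indFun H (fun h => ((lam h : ℂˣ) : ℂ)))
    (χ : D ≀ᵣ Q → ℂ) (hχ : IsIrrCharacter (D ≀ᵣ Q) χ) :
    ∃ (H : Subgroup (D ≀ᵣ Q)) (lam : H →* ℂˣ),
      χ = indFun H (fun h => ((lam h : ℂˣ) : ℂ)) := by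
  classical
  letI : Fintype (baseSub D Q) := Fintype.ofFinite _
  have hχc := isCharacter_of_isIrrCharacter hχ
  have hcf := isClassFunction_of_isCharacter hχc
  have hres : IsCharacter (baseSub D Q) (fun b : baseSub D Q => χ b) :=
    isCharacter_restrict hχc _
  have hres0 : (fun b : baseSub D Q => χ b) ≠ 0 := by
    intro h
    have h1 := congrFun h 1
    exact apply_one_ne_zero hχ h1
  obtain ⟨ψB, hψB⟩ := exists_constituent hres hres0
  obtain ⟨ψ, hψdef⟩ : ∃ ψ : (Q → D) → ℂ,
      ψ = fun f => (ψB : baseSub D Q → ℂ) (baseEquiv D Q f) := ⟨_, rfl⟩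
  have hψirr : IsIrrCharacter (Q → D) ψ := by
    rw [hψdef]
    exact isIrrCharacter_comp_mulEquiv (baseEquiv D Q) ψB.2
  obtain ⟨ψq, hψq, hψeq⟩ := exists_tens_of_isIrrCharacter hψirr
  choose H lam hlam using fun q => hD (ψq q) (hψq q)
  have hψBf : ∀ f : Q → D, (ψB : baseSub D Q → ℂ) (baseEquiv D Q f) = tens ψq f := by
    intro f
    rw [← hψeq, hψdef]
  have hrec : classInner (indFun (baseSub D Q) (ψB : baseSub D Q → ℂ)) χ ≠ 0 := by
    rw [frobenius_reciprocity _ _ χ hcf, ← classInner_conj_symm]
    intro hz
    apply hψB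
    have := congrArg conj hz
    simpa using this
  have hQ0 : (Nat.card Q : ℂ) ≠ 0 := card_ne_zero_complex Q
  by_cases hinv : ∀ q q', ψq q = ψq q'
  · -- the invariant case
    have hall : ∀ q, ψq q = indFun (H 1) (fun h => ((lam 1 h : ℂˣ) : ℂ)) :=
      fun q => (hinv q 1).trans (hlam 1)
    have hbase := indFun_base_eq (fun _ : Q => H 1) (fun _ h => ((lam 1 h : ℂˣ) : ℂ))
      (ψB : baseSub D Q → ℂ) (by
        intro f
        rw [hψBf f]
        congr 1
        funext q
        exact hall q)
    have hQcomm := comm_of_prime_card hp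
    have hβ1 : ∀ β : IrrCharacter Q, (β : Q → ℂ) 1 = 1 :=
      fun β => apply_one_eq_one_of_comm hQcomm β.2
    obtain ⟨μ, hμdef⟩ : ∃ μ : IrrCharacter Q → (UH Q (H 1) →* ℂˣ), μ = fun β =>
        lamUH (H 1) (lam 1) *
          ((toUnitsHom (isCharacter_of_isIrrCharacter β.2) (hβ1 β)).comp
            ((rightHom : D ≀ᵣ Q →* Q).comp (UH Q (H 1)).subtype)) := ⟨_, rfl⟩
    have hμ : ∀ (β : IrrCharacter Q) (u : UH Q (H 1)), ((μ β u : ℂˣ) : ℂ)
        = (∏ q, ((lam 1 ⟨u.1.left q, u.2 q⟩ : ℂˣ) : ℂ)) * (β : Q → ℂ) u.1.right := by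
      intro β u
      rw [hμdef]
      simp only [MonoidHom.mul_apply, Units.val_mul, lamUH_apply, MonoidHom.comp_apply]
      rw [toUnitsHom_apply]
      rfl
    have hsumβ : ∀ c : Q, ∑ β : IrrCharacter Q, (β : Q → ℂ) c
        = if c = 1 then (Nat.card Q : ℂ) else 0 := by
      intro c
      have h := congrFun (leftRegular_character_eq_sum (G := Q)) c
      rw [leftRegular_character] at h
      rw [h]
      simp only [Finset.sum_apply, Pi.smul_apply, smul_eq_mul]
      apply Finset.sum_congr rfl
      intro β _
      rw [hβ1 β, one_mul]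
    have hcardU : Nat.card (UH Q (H 1)) = Nat.card (KH (fun _ : Q => H 1)) * Nat.card Q := by
      rw [← Nat.card_prod]
      apply Nat.card_congr
      exact
        { toFun := fun u => (⟨⟨u.1.left, 1⟩, ⟨rfl, u.2⟩⟩, u.1.right)
          invFun := fun p => ⟨⟨p.1.1.left, p.2⟩, p.1.2.2⟩
          left_inv := fun u => rfl
          right_inv := fun p => by
            apply Prod.ext
            · apply Subtype.ext
              apply RegularWreathProduct.ext
              · rfl
              · exact p.1.2.1.symm
            · rfl }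
    have hK0 : (Nat.card (KH (fun _ : Q => H 1)) : ℂ) ≠ 0 := card_ne_zero_complex _
    have hkey : ∑ β : IrrCharacter Q, indFun (UH Q (H 1)) (fun u => ((μ β u : ℂˣ) : ℂ))
        = indFun (KH (fun _ : Q => H 1))
            (fun w => ∏ q, ((lam 1 ⟨w.1.left q, w.2.2 q⟩ : ℂˣ) : ℂ)) := by
      funext w
      rw [Finset.sum_apply]
      simp_rw [indFun_apply]
      rw [← Finset.mul_sum, Finset.sum_comm]
      have hpt : ∀ y : D ≀ᵣ Q, ∑ β : IrrCharacter Q,
          extendByZero (UH Q (H 1)) (fun u => ((μ β u : ℂˣ) : ℂ)) y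
          = (Nat.card Q : ℂ) * extendByZero (KH (fun _ : Q => H 1))
              (fun w => ∏ q, ((lam 1 ⟨w.1.left q, w.2.2 q⟩ : ℂˣ) : ℂ)) y := by
        intro y
        by_cases hyU : y ∈ UH Q (H 1)
        · simp_rw [extendByZero_mem _ _ hyU, hμ]
          rw [← Finset.mul_sum, hsumβ]
          by_cases hy1 : y.right = 1
          · have hyK : y ∈ KH (fun _ : Q => H 1) := ⟨hy1, hyU⟩
            rw [extendByZero_mem _ _ hyK, if_pos hy1]
            ring
          · have hyK : y ∉ KH (fun _ : Q => H 1) := fun h => hy1 h.1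
            rw [extendByZero_not_mem _ _ hyK, if_neg hy1]
            ring
        · have hyK : y ∉ KH (fun _ : Q => H 1) := fun h => hyU h.2
          simp_rw [extendByZero_not_mem _ _ hyU]
          rw [extendByZero_not_mem _ _ hyK]
          simp
      simp_rw [hpt]
      rw [← Finset.mul_sum, hcardU]
      push_cast
      field_simp
    have hsumne : ∑ β : IrrCharacter Q,
        classInner (indFun (UH Q (H 1)) (fun u => ((μ β u : ℂˣ) : ℂ))) χ ≠ 0 := by
      rw [← classInner_sum_left, hkey, ← hbase]
      exact hrec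
    obtain ⟨β, -, hβne⟩ := Finset.exists_ne_zero_of_sum_ne_zero hsumne
    have hΘ1 : ∀ β : IrrCharacter Q, indFun (UH Q (H 1)) (fun u => ((μ β u : ℂˣ) : ℂ)) 1
        = ((UH Q (H 1)).index : ℂ) := by
      intro β
      rw [indFun_apply_one]
      simp
    have hnβ : (Fintype.card (IrrCharacter Q) : ℂ) = (Nat.card Q : ℂ) := by
      have := sum_sq_degree (G := Q)
      simp_rw [hβ1] at this
      simpa using this
    have hidx : (baseSub D Q).index = Nat.card Q := by
      unfold baseSub
      rw [Subgroup.index_ker]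
      have : (rightHom : D ≀ᵣ Q →* Q).range = ⊤ := by
        rw [MonoidHom.range_eq_top]
        intro q
        exact ⟨inl q, rfl⟩
      rw [this, Subgroup.card_top]
    obtain ⟨m, hm, hm1⟩ := exists_pos_nat_apply_one ψB.2
    have hUm : ((UH Q (H 1)).index : ℂ) = m := by
      have h1 := congrFun hkey 1
      rw [Finset.sum_apply] at h1
      simp_rw [hΘ1] at h1
      rw [← hbase, indFun_apply_one, hidx, hm1, Finset.sum_const, Finset.card_univ, nsmul_eq_mul,
        hnβ] at h1
      exact mul_left_cancel₀ hQ0 h1
    obtain ⟨b, hb⟩ := exists_nat_apply_one hχc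
    have hsubB := isCharacter_sub_of_classInner_ne_zero hres ψB hψB
    obtain ⟨c', hc'⟩ := exists_nat_apply_one hsubB
    have hmb : m ≤ b := by
      simp only [Pi.sub_apply] at hc'
      have h1 : χ ((1 : baseSub D Q) : D ≀ᵣ Q) = χ 1 := rfl
      rw [h1, hb, hm1] at hc'
      have h2 : (b : ℂ) = m + c' := by rw [← hc']; ring
      have h3 : b = m + c' := by exact_mod_cast h2
      omega
    have hΘeq := eq_of_constituent_of_degree_le
      (isCharacter_indFun _ _ (isCharacter_of_hom (μ β))) hχ hβne m b
      ((hΘ1 β).trans hUm) hb hmb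
    exact ⟨UH Q (H 1), μ β, hΘeq.symm⟩
  · -- the non-invariant case
    have hcfP := isClassFunction_of_isCharacter (isCharacter_of_isIrrCharacter hψirr)
    have hcfB := isClassFunction_of_isCharacter (isCharacter_of_isIrrCharacter ψB.2)
    have hstab : ∀ g : D ≀ᵣ Q,
        (∀ h : baseSub D Q, (ψB : baseSub D Q → ℂ)
          ⟨g * h * g⁻¹, (baseSub_normal (D := D) (Q := Q)).conj_mem h h.2 g⟩
            = (ψB : baseSub D Q → ℂ) h) ↔ g ∈ baseSub D Q := by
      intro g
      constructor
      · intro hg
        by_contra hgB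
        have hc : g.right ≠ 1 := fun h => hgB (mem_baseSub.mpr h)
        have hshift : ∀ f : Q → D, tens ψq (fun x => f (g.right⁻¹ * x)) = tens ψq f := by
          intro f
          have h1 := hg (baseEquiv D Q f)
          have hmk : (⟨g * ((baseEquiv D Q f : baseSub D Q) : D ≀ᵣ Q) * g⁻¹,
              (baseSub_normal (D := D) (Q := Q)).conj_mem _ (baseEquiv D Q f).2 g⟩ : baseSub D Q)
              = baseEquiv D Q (fun x => g.left x * f (g.right⁻¹ * x) * (g.left x)⁻¹) := by
            apply Subtype.ext
            show g * (⟨f, 1⟩ : D ≀ᵣ Q) * g⁻¹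
              = (⟨fun x => g.left x * f (g.right⁻¹ * x) * (g.left x)⁻¹, 1⟩ : D ≀ᵣ Q)
            apply RegularWreathProduct.ext
            · exact conj_left g f
            · simp
          rw [hmk, hψBf, hψBf] at h1
          have h2 := hcfP (fun x => f (g.right⁻¹ * x)) g.left
          rw [hψeq] at h2
          rw [← h2, ← h1]
          rfl
        have hshift2 : tens (fun y => ψq (g.right * y)) = tens ψq := by
          funext f
          rw [← hshift f, tens_apply, tens_apply]
          rw [← Equiv.prod_comp (Equiv.mulLeft g.right)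
            (fun x => ψq x (f (g.right⁻¹ * x)))]
          apply Finset.prod_congr rfl
          intro y _
          simp
        have hper : ∀ y, ψq (g.right * y) = ψq y :=
          congrFun (tens_injective (fun y => hψq _) hψq hshift2)
        let S : Subgroup Q :=
          { carrier := {z | ∀ y, ψq (z * y) = ψq y}
            one_mem' := by intro y; simp
            mul_mem' := by
              intro a b ha hb y
              rw [mul_assoc, ha, hb]
            inv_mem' := by
              intro a ha y
              have := ha (a⁻¹ * y)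
              rw [mul_inv_cancel_left] at this
              exact this.symm }
        have hcS : g.right ∈ S := hper
        have hallS : ∀ z : Q, z ∈ S :=
          fun z => (Subgroup.zpowers_le.mpr hcS) (mem_zpowers_of_prime_card hp hc z)
        apply hinv
        intro q q'
        have := hallS (q * q'⁻¹) q'
        simpa using this
      · intro hg h
        have := hcfB h ⟨g, hg⟩
        rw [← this]
        rfl
    have hirrInd : IsIrrCharacter (D ≀ᵣ Q) (indFun (baseSub D Q) (ψB : baseSub D Q → ℂ)) := by
      apply isIrrCharacter_of_classInner_self_eq_one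
        (isCharacter_indFun _ _ (isCharacter_of_isIrrCharacter ψB.2))
      have h := card_mul_classInner_indFun_normal (baseSub D Q) (ψB : baseSub D Q → ℂ) ψB.2
      rw [Nat.card_congr (Equiv.subtypeEquivRight hstab)] at h
      exact mul_left_cancel₀ (card_ne_zero_complex (baseSub D Q)) (by rw [h, mul_one])
    have hχeq : χ = indFun (baseSub D Q) (ψB : baseSub D Q → ℂ) := by
      by_contra hne
      exact hrec (irr_classInner_eq_zero hirrInd hχ (fun h => hne h.symm))
    refine ⟨KH H, lamKH H lam, ?_⟩
    rw [hχeq, indFun_base_eq H (fun q h => ((lam q h : ℂˣ) : ℂ)) (ψB : baseSub D Q → ℂ) (by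
      intro f
      rw [hψBf f]
      congr 1
      funext q
      exact hlam q)]
    congr 1
    funext w
    rw [lamKH_apply]

end wreath

end Cfsg.Agent.H1.Dade
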