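import Mathlib
import Cfsg.Prelude.Def_Characters
import Cfsg.Agent.H1.DadeC
import Cfsg.Agent.Lib.helper3.NilpM1

set_option autoImplicit false
set_option linter.style.haveILetI false
set_option linter.unusedSectionVars false
set_option linter.unusedVariables false

/-!
# Dade's embedding theorem, part D: the Krasner–Kaloujnine embedding and the induction
-/

namespace Cfsg.Agent.H1.Dade

open Cfsg Cfsg.Agent.Lib.helper3.Irr Cfsg.Agent.Lib.helper3.IndFun
open Cfsg.Agent.Lib.helper3.Lin
open scoped ComplexConjugate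
open RegularWreathProduct
open scoped commutatorElement

universe u

section embedding

variable {G : Type*} [Group G] (N : Subgroup G) [hN : N.Normal]

/-- The components of the Krasner–Kaloujnine embedding. -/
noncomputable def kkComp (g : G) (q : G ⧸ N) : G :=
  (Quotient.out q)⁻¹ * g * Quotient.out ((g : G ⧸ N)⁻¹ * q)

theorem kkComp_mem (g : G) (q : G ⧸ N) : kkComp N g q ∈ N := by
  rw [← QuotientGroup.eq_one_iff]
  unfold kkComp
  rw [QuotientGroup.mk_mul, QuotientGroup.mk_mul, QuotientGroup.mk_inv]
  rw [QuotientGroup.out_eq', QuotientGroup.out_eq']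
  group

theorem kkComp_one (q : G ⧸ N) : kkComp N 1 q = 1 := by
  unfold kkComp
  simp

theorem kkComp_mul (a b : G) (q : G ⧸ N) :
    kkComp N (a * b) q = kkComp N a q * kkComp N b ((a : G ⧸ N)⁻¹ * q) := by
  unfold kkComp
  have h : ((a * b : G) : G ⧸ N)⁻¹ * q = (b : G ⧸ N)⁻¹ * ((a : G ⧸ N)⁻¹ * q) := by
    rw [QuotientGroup.mk_mul, mul_inv_rev, mul_assoc]
  rw [h]
  group

/-- The Krasner–Kaloujnine embedding of `G` into `M₀ ≀ (G ⧸ N)`, given `N →* M₀`. -/
noncomputable def kkHom {M₀ : Type*} [Group M₀] (ι : N →* M₀) : G →* M₀ ≀ᵣ (G ⧸ N) where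
  toFun g := ⟨fun q => ι ⟨kkComp N g q, kkComp_mem N g q⟩, (g : G ⧸ N)⟩
  map_one' := by
    apply RegularWreathProduct.ext
    · funext q
      show ι ⟨kkComp N 1 q, kkComp_mem N 1 q⟩ = 1
      have : (⟨kkComp N 1 q, kkComp_mem N 1 q⟩ : N) = 1 := Subtype.ext (kkComp_one N q)
      rw [this, map_one]
    · rfl
  map_mul' a b := by
    apply RegularWreathProduct.ext
    · funext q
      show ι ⟨kkComp N (a * b) q, kkComp_mem N (a * b) q⟩
        = ι ⟨kkComp N a q, kkComp_mem N a q⟩ *
          ι ⟨kkComp N b ((a : G ⧸ N)⁻¹ * q), kkComp_mem N b _⟩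
      rw [← map_mul]
      congr 1
      exact Subtype.ext (kkComp_mul N a b q)
    · rfl

theorem kkHom_injective {M₀ : Type*} [Group M₀] (ι : N →* M₀) (hι : Function.Injective ι) :
    Function.Injective (kkHom N ι) := by
  rw [injective_iff_map_eq_one]
  intro g hg
  have h1 : (g : G ⧸ N) = 1 := congrArg RegularWreathProduct.right hg
  have h2 : ι ⟨kkComp N g 1, kkComp_mem N g 1⟩ = 1 :=
    congrFun (congrArg RegularWreathProduct.left hg) 1
  have h3 : (⟨kkComp N g 1, kkComp_mem N g 1⟩ : N) = 1 := by
    apply hι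
    rw [h2, map_one]
  have h4 : kkComp N g 1 = 1 := congrArg Subtype.val h3
  unfold kkComp at h4
  rw [h1, inv_one, one_mul] at h4
  have : g = Quotient.out (1 : G ⧸ N) * ((Quotient.out (1 : G ⧸ N))⁻¹ * g *
      Quotient.out (1 : G ⧸ N)) * (Quotient.out (1 : G ⧸ N))⁻¹ := by group
  rw [this, h4]
  group

end embedding

section primeindex

variable {G : Type*} [Group G] [Finite G]

/-- A nontrivial finite solvable group has a normal subgroup of prime index. -/
theorem exists_normal_prime_index [Group.IsSolvable G] [Nontrivial G] :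
    ∃ N : Subgroup G, N.Normal ∧ N.index.Prime := by
  have hlt := Group.IsSolvable.commutator_lt_top_of_nontrivial G
  obtain ⟨N, hNco, hle⟩ := (eq_top_or_exists_le_coatom (commutator G)).resolve_left hlt.ne
  have hnorm : N.Normal := by
    constructor
    intro n hn g
    have hc : ⁅g, n⁆ ∈ commutator G := by
      rw [commutator_def]
      exact Subgroup.commutator_mem_commutator (Subgroup.mem_top g) (Subgroup.mem_top n)
    have h1 : g * n * g⁻¹ = ⁅g, n⁆ * n := by
      rw [commutatorElement_def]
      group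
    rw [h1]
    exact N.mul_mem (hle hc) hn
  refine ⟨N, hnorm, ?_⟩
  haveI := hnorm
  have hidx1 : N.index ≠ 1 := by
    intro h
    exact hNco.1 (Subgroup.index_eq_one.mp h)
  set p := N.index.minFac with hp
  have hpp : p.Prime := Nat.minFac_prime hidx1
  haveI : Fact p.Prime := ⟨hpp⟩
  have hdvd : p ∣ Nat.card (G ⧸ N) := by
    rw [← Subgroup.index_eq_card]
    exact Nat.minFac_dvd _
  obtain ⟨x, hx⟩ := exists_prime_orderOf_dvd_card' p hdvd
  have hx1 : x ≠ 1 := by
    intro h
    rw [h, orderOf_one] at hx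
    exact hpp.one_lt.ne hx
  set Y : Subgroup (G ⧸ N) := Subgroup.zpowers x with hY
  have hNle : N ≤ Y.comap (QuotientGroup.mk' N) := by
    intro n hn
    rw [Subgroup.mem_comap, QuotientGroup.mk'_apply, (QuotientGroup.eq_one_iff n).mpr hn]
    exact Y.one_mem
  have hsurj : Function.Surjective (QuotientGroup.mk' N) := QuotientGroup.mk'_surjective N
  have htop : Y.comap (QuotientGroup.mk' N) = ⊤ := by
    by_contra hne
    have heq : Y.comap (QuotientGroup.mk' N) = N := (hNco.le_iff_eq hne).mp hNle
    have hYbot : Y = ⊥ := by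
      rw [← Subgroup.map_comap_eq_self_of_surjective hsurj Y, heq]
      exact QuotientGroup.map_mk'_self N
    have : x ∈ Y := Subgroup.mem_zpowers x
    rw [hYbot] at this
    exact hx1 (Subgroup.mem_bot.mp this)
  have hYtop : Y = ⊤ := by
    rw [← Subgroup.map_comap_eq_self_of_surjective hsurj Y, htop]
    exact Subgroup.map_top_of_surjective _ hsurj
  have hcard : Nat.card (G ⧸ N) = p := by
    rw [← Subgroup.card_top (G := G ⧸ N), ← hYtop, hY, Nat.card_zpowers, hx]
  rw [Subgroup.index_eq_card, hcard]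
  exact hpp

end primeindex

section main

/-- A commutative finite group is an M-group. -/
theorem isMGroup_of_comm {M : Type*} [Group M] [Fintype M] (hcomm : ∀ a b : M, a * b = b * a)
    (χ : M → ℂ) (hχ : IsIrrCharacter M χ) :
    ∃ (H : Subgroup M) (lam : H →* ℂˣ), χ = indFun H (fun h => ((lam h : ℂˣ) : ℂ)) := by
  have hχc := isCharacter_of_isIrrCharacter hχ
  have h1 : χ 1 = 1 := apply_one_eq_one_of_comm hcomm hχ
  refine ⟨⊤, (toUnitsHom hχc h1).comp (⊤ : Subgroup M).subtype, ?_⟩
  have h2 := Cfsg.Agent.Lib.helper3.IndFun.indFun_top χ (isClassFunction_of_isCharacter hχc)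
  refine h2.symm.trans ?_
  congr 1

/-- **Dade's embedding theorem**, by induction on the order. -/
theorem dade_embedding_aux : ∀ (n : ℕ) (G : Type u) [Group G] [Finite G],
    Group.IsSolvable G → Nat.card G = n →
    ∃ (M : Type u) (_ : Group M) (_ : Fintype M),
      (∀ χ : M → ℂ, IsIrrCharacter M χ →
        (∃ (H : Subgroup M) (lam : ↥H →* ℂˣ), χ = indFun H (fun h => ((lam h : ℂˣ) : ℂ)))) ∧
      ∃ f : G →* M, Function.Injective f := by
  intro n
  induction n using Nat.strong_induction_on with
  | _ n ih =>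
    intro G _ _ hs hn
    classical
    by_cases hsub : Subsingleton G
    · letI : Fintype G := Fintype.ofFinite G
      refine ⟨G, inferInstance, inferInstance, ?_, MonoidHom.id G, Function.injective_id⟩
      intro χ hχ
      exact isMGroup_of_comm (fun a b => Subsingleton.elim _ _) χ hχ
    · haveI : Nontrivial G := not_subsingleton_iff_nontrivial.mp hsub
      haveI := hs
      obtain ⟨N, hNn, hNp⟩ := exists_normal_prime_index (G := G)
      haveI := hNn
      have hlt : Nat.card N < n := by
        rw [← hn, ← N.card_mul_index]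
        have h2 : 2 ≤ N.index := hNp.two_le
        have h0 : 0 < Nat.card N := Nat.card_pos
        nlinarith
      obtain ⟨M₀, instG, instF, hM₀, ι, hι⟩ := ih (Nat.card N) hlt N inferInstance rfl
      letI := instG
      letI := instF
      letI : Fintype (G ⧸ N) := Fintype.ofFinite _
      letI : DecidableEq (G ⧸ N) := Classical.decEq _
      have hp : (Nat.card (G ⧸ N)).Prime := by
        rw [← Subgroup.index_eq_card]
        exact hNp
      refine ⟨M₀ ≀ᵣ (G ⧸ N), inferInstance, wrFintype, ?_, kkHom N ι, kkHom_injective N ι hι⟩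
      intro χ hχ
      exact isMGroup_wreath hp hM₀ χ hχ

theorem dade_embedding {G : Type u} [Group G] [Finite G] (hsolv : Group.IsSolvable G) :
    ∃ (M : Type u) (_ : Group M) (_ : Fintype M),
      (∀ χ : M → ℂ, IsIrrCharacter M χ →
        (∃ (H : Subgroup M) (lam : ↥H →* ℂˣ), χ = indFun H (fun h => ((lam h : ℂˣ) : ℂ)))) ∧
      ∃ f : G →* M, Function.Injective f :=
  dade_embedding_aux (Nat.card G) G hsolv rfl

end main

end Cfsg.Agent.H1.Dade
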