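import Mathlib
import Cfsg.Prelude.Def_Local
import Cfsg.Agent.H1.PLength

set_option autoImplicit false
set_option linter.style.haveILetI false
set_option linter.unusedVariables false
set_option linter.unusedSectionVars false

namespace Cfsg.Agent.H1

open Cfsg

section dlen

theorem exists_pgroup_map_eq {G Q : Type*} [Group G] [Finite G] [Group Q] {p : ℕ} [Fact p.Prime]
    (f : G →* Q) (hf : Function.Surjective f) (P' : Subgroup Q) (hP' : IsPGroup p P') :
    ∃ P : Subgroup G, IsPGroup p P ∧ P.map f = P' := by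
  obtain ⟨S⟩ : Nonempty (Sylow p ↥(P'.comap f)) := inferInstance
  refine ⟨(S : Subgroup ↥(P'.comap f)).map (P'.comap f).subtype, S.isPGroup'.map _, ?_⟩
  apply le_antisymm
  · rintro _ ⟨_, ⟨y, hy, rfl⟩, rfl⟩
    exact y.2
  · intro z hz
    have hg : Function.Surjective (f.subgroupComap P') :=
      f.subgroupComap_surjective_of_surjective P' hf
    have htop : ((S.mapSurjective hg : Sylow p ↥P') : Subgroup ↥P') = ⊤ :=
      ((S.mapSurjective hg).is_maximal' (Q := ⊤) (hP'.to_subgroup ⊤) le_top).symm
    have hz' : (⟨z, hz⟩ : ↥P') ∈ ((S.mapSurjective hg : Sylow p ↥P') : Subgroup ↥P') := by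
      rw [htop]; exact Subgroup.mem_top _
    rw [Sylow.coe_mapSurjective] at hz'
    obtain ⟨s, hs, hsz⟩ := hz'
    refine ⟨s.1, ⟨s, hs, rfl⟩, ?_⟩
    exact congrArg Subtype.val hsz

theorem dl_pgroups_of_surjective {G Q : Type*} [Group G] [Finite G] [Group Q] {p : ℕ} [Fact p.Prime]
    (f : G →* Q) (hf : Function.Surjective f) (d : ℕ)
    (h : ∀ P : Subgroup G, IsPGroup p P → derivedSeries ↥P d = ⊥) :
    ∀ P' : Subgroup Q, IsPGroup p P' → derivedSeries ↥P' d = ⊥ := by
  intro P' hP'
  obtain ⟨P, hP, rfl⟩ := exists_pgroup_map_eq f hf P' hP'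
  have h1 := h P hP
  have h2 := derivedSeries_le_map_derivedSeries (f := f.subgroupMap P) (f.subgroupMap_surjective P) d
  rw [h1, Subgroup.map_bot] at h2
  exact le_bot_iff.mp h2

theorem derivedSeries_add_eq_bot {H : Type*} [Group H] (N : Subgroup H) [N.Normal] {a b : ℕ}
    (ha : derivedSeries (H ⧸ N) a = ⊥) (hb : derivedSeries ↥N b = ⊥) : derivedSeries H (a + b) = ⊥ := by
  have h1 : derivedSeries H a ≤ N := by
    have h := map_derivedSeries_le_derivedSeries (QuotientGroup.mk' N) a
    rw [ha, le_bot_iff, Subgroup.map_eq_bot_iff, QuotientGroup.ker_mk'] at h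
    exact h
  have h2 : ∀ b, derivedSeries H (a + b) ≤ (derivedSeries ↥N b).map N.subtype := by
    intro b
    induction b with
    | zero =>
      rw [add_zero, derivedSeries_zero, ← MonoidHom.range_eq_map, Subgroup.range_subtype]
      exact h1
    | succ b ih =>
      rw [← add_assoc, derivedSeries_succ, derivedSeries_succ, Subgroup.map_commutator]
      exact Subgroup.commutator_mono ih ih
  have h3 := h2 b
  rw [hb, Subgroup.map_bot] at h3
  exact le_bot_iff.mp h3

universe u

theorem dl_bound_aux (r : ℕ) (q : Fin r → ℕ) (hq : ∀ i, (q i).Prime) (d : Fin r → ℕ) :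
    ∀ (n : ℕ) (G : Type u) [Group G] [Finite G], Group.IsSolvable G →
      (∀ s : ℕ, s.Prime → s ∣ Nat.card G → ∃ i, q i = s) →
      (∀ i, ∀ P : Subgroup G, IsPGroup (q i) P → derivedSeries ↥P (d i) = ⊥) →
      ∀ l : Fin r → ℕ, (Finset.univ.sum (fun i => l i) = n) → (∀ i, PLengthLE (q i) (l i) G) →
      derivedSeries G (Finset.univ.sum fun i => d i * l i) = ⊥ := by
  intro n
  induction n using Nat.strong_induction_on with
  | _ n IH =>
  intro G _ _ hG hcover hd l hsum hl
  haveI := hG
  obtain ⟨D, hD⟩ : ∃ D, D = Finset.univ.sum fun i => d i * l i := ⟨_, rfl⟩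
  rw [← hD]
  have key : ∀ i, derivedSeries G D ≤ (upperPSeries (q i) G 1).1 := by
    intro i
    haveI : Fact (q i).Prime := ⟨hq i⟩
    obtain ⟨K, hK⟩ : ∃ K : Subgroup G, K = (upperPSeries (q i) G 1).1 := ⟨_, rfl⟩
    haveI hKn : K.Normal := by rw [hK]; infer_instance
    rw [← hK]
    suffices h : derivedSeries (G ⧸ K) D = ⊥ by
      have h1 := map_derivedSeries_le_derivedSeries (QuotientGroup.mk' K) D
      rw [h, le_bot_iff, Subgroup.map_eq_bot_iff, QuotientGroup.ker_mk'] at h1
      exact h1
    rcases Nat.eq_zero_or_eq_succ_pred (l i) with h0 | hs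
    · have hKtop : K = ⊤ := by
        rw [hK]
        have := hl i
        rw [h0] at this
        exact this
      haveI : Subsingleton (G ⧸ K) := by
        rw [hKtop]; exact QuotientGroup.subsingleton_quotient_top
      exact Subgroup.eq_bot_of_subsingleton _
    · obtain ⟨ni, hni⟩ : ∃ ni, l i = ni + 1 := ⟨_, hs⟩
      have hHlen : PLengthLE (q i) (ni + 1) (G ⧸ K) :=
        plength_of_surjective (QuotientGroup.mk' K) (QuotientGroup.mk'_surjective K) (hni ▸ hl i)
      -- `O_{p'}(G / O_{p'}(G)) = 1`
      have hU1 : (upperPSeries (q i) (G ⧸ K) 1).1 = ⊥ := by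
        rw [eq_bot_iff]
        intro x hx
        obtain ⟨y, rfl⟩ := QuotientGroup.mk'_surjective K x
        have hK' : (upperPSeries (q i) (G ⧸ K) 1).1.comap (QuotientGroup.mk' K) ≤
            (upperPSeries (q i) G 1).1 := by
          haveI : ((upperPSeries (q i) (G ⧸ K) 1).1.comap (QuotientGroup.mk' K)).Normal :=
            Subgroup.Normal.comap inferInstance _
          apply le_ups_succ (N := ⊥) (j := 0) bot_le
          refine ⟨fun _ z hz => ?_, fun hj => absurd (by decide) hj⟩
          rw [Subgroup.mem_comap] at hz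
          obtain ⟨m₁, hm₁, hz₁⟩ := (ups_stepFactor (G := G ⧸ K) (q i) 0).1 (by decide) _ hz
          rw [ups_zero, Subgroup.mem_bot, ← map_pow] at hz₁
          have hzK : z ^ m₁ ∈ K := (QuotientGroup.eq_one_iff _).mp hz₁
          rw [hK] at hzK
          obtain ⟨m₂, hm₂, hz₂⟩ := (ups_stepFactor (G := G) (q i) 0).1 (by decide) _ hzK
          exact ⟨m₁ * m₂, Nat.Coprime.mul_left hm₁ hm₂, by rw [pow_mul]; exact hz₂⟩
        have h2 : y ∈ (upperPSeries (q i) G 1).1 := hK' hx
        rw [← hK] at h2
        rw [Subgroup.mem_bot]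
        exact (QuotientGroup.eq_one_iff y).mpr h2
      obtain ⟨V, hV⟩ : ∃ V : Subgroup (G ⧸ K), V = (upperPSeries (q i) (G ⧸ K) 2).1 := ⟨_, rfl⟩
      haveI hVn : V.Normal := by rw [hV]; infer_instance
      have hVp : IsPGroup (q i) ↥V := by
        intro x
        obtain ⟨a, ha⟩ := (ups_stepFactor (G := G ⧸ K) (q i) 1).2 (by decide) x.1 (by rw [← hV]; exact x.2)
        rw [hU1, Subgroup.mem_bot] at ha
        exact ⟨a, Subtype.ext (by rw [Subgroup.coe_pow, Subgroup.coe_one]; exact ha)⟩
      have hdH : ∀ j, ∀ P : Subgroup (G ⧸ K), IsPGroup (q j) P → derivedSeries ↥P (d j) = ⊥ := fun j => by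
        haveI : Fact (q j).Prime := ⟨hq j⟩
        exact dl_pgroups_of_surjective (QuotientGroup.mk' K) (QuotientGroup.mk'_surjective K) (d j) (hd j)
      have hVd : derivedSeries ↥V (d i) = ⊥ := hdH i V hVp
      obtain ⟨l', hl'⟩ : ∃ l' : Fin r → ℕ, l' = Function.update l i ni := ⟨_, rfl⟩
      have hl'i : l' i = ni := by rw [hl', Function.update_self]
      have hl'j : ∀ j, j ≠ i → l' j = l j := fun j hj => by rw [hl', Function.update_of_ne hj]
      have f1 := Finset.add_sum_erase Finset.univ (fun j => l j) (Finset.mem_univ i)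
      have f2 := Finset.add_sum_erase Finset.univ (fun j => l' j) (Finset.mem_univ i)
      have f3 : (Finset.univ.erase i).sum (fun j => l' j) = (Finset.univ.erase i).sum (fun j => l j) :=
        Finset.sum_congr rfl (fun j hj => hl'j j (Finset.ne_of_mem_erase hj))
      have e1 := Finset.add_sum_erase Finset.univ (fun j => d j * l j) (Finset.mem_univ i)
      have e2 := Finset.add_sum_erase Finset.univ (fun j => d j * l' j) (Finset.mem_univ i)
      have e3 : (Finset.univ.erase i).sum (fun j => d j * l' j) =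
          (Finset.univ.erase i).sum (fun j => d j * l j) :=
        Finset.sum_congr rfl (fun j hj => by rw [hl'j j (Finset.ne_of_mem_erase hj)])
      rw [f3, hl'i] at f2
      rw [hni, hsum] at f1
      rw [e3, hl'i] at e2
      rw [hni, ← hD] at e1
      have hsum' : Finset.univ.sum (fun j => l' j) = n - 1 := by omega
      have hlt : n - 1 < n := by omega
      have hDeq : D = (Finset.univ.sum fun j => d j * l' j) + d i := by
        rw [← e1, ← e2]; ring
      have hQ : derivedSeries ((G ⧸ K) ⧸ V) (Finset.univ.sum fun j => d j * l' j) = ⊥ := by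
        apply IH (n - 1) hlt ((G ⧸ K) ⧸ V) inferInstance _ _ l' hsum'
        · intro j
          haveI : Fact (q j).Prime := ⟨hq j⟩
          by_cases hji : j = i
          · rw [hji, hl'i]
            subst hV
            exact plength_quotient_ups_two hHlen
          · rw [hl'j j hji]
            exact plength_of_surjective (QuotientGroup.mk' V) (QuotientGroup.mk'_surjective V)
              (plength_of_surjective (QuotientGroup.mk' K) (QuotientGroup.mk'_surjective K) (hl j))
        · intro s hs hsd
          exact hcover s hs ((hsd.trans (Subgroup.card_quotient_dvd_card V)).trans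
            (Subgroup.card_quotient_dvd_card K))
        · intro j
          haveI : Fact (q j).Prime := ⟨hq j⟩
          exact dl_pgroups_of_surjective (QuotientGroup.mk' V) (QuotientGroup.mk'_surjective V) (d j) (hdH j)
      rw [hDeq]
      exact derivedSeries_add_eq_bot V hQ hVd
  rw [eq_bot_iff]
  intro x hx
  rw [Subgroup.mem_bot]
  by_contra hx1
  have hord : orderOf x ≠ 1 := fun h => hx1 (orderOf_eq_one_iff.mp h)
  obtain ⟨s, hs, hsd⟩ := Nat.exists_prime_and_dvd hord
  obtain ⟨i, hi⟩ := hcover s hs (hsd.trans (orderOf_dvd_natCard x))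
  obtain ⟨m, hm, hxm⟩ := (ups_stepFactor (G := G) (q i) 0).1 (by decide) x (key i hx)
  rw [ups_zero, Subgroup.mem_bot] at hxm
  have h1 : s ∣ m := hsd.trans (orderOf_dvd_of_pow_eq_one hxm)
  rw [← hi] at h1
  have h2 := Nat.dvd_gcd h1 dvd_rfl
  rw [hm, Nat.dvd_one] at h2
  exact (hq i).one_lt.ne' h2

end dlen

end Cfsg.Agent.H1
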