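import Mathlib
import Cfsg.Agent.H1.Basic
import Cfsg.Agent.H1.MinNonPClosed
import Cfsg.Prelude.Def_KGroupFacts

set_option autoImplicit false

namespace Cfsg.Agent.H1

open Cfsg
open scoped commutatorElement

universe u

section stemMeta
variable {Γ G : Type*} [Group Γ] [Group G] (σ : Γ →* G)

/-- `Γ = ⟨ã, x̃⟩ ker σ` -/
lemma closure_lifts_union_ker (at' xt : Γ) (hgen : Subgroup.closure {σ at', σ xt} = ⊤) :
    Subgroup.closure (({at', xt} : Set Γ) ∪ (σ.ker : Set Γ)) = ⊤ := by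
  rw [eq_top_iff]
  intro g _
  have h1 : σ g ∈ Subgroup.closure {σ at', σ xt} := by rw [hgen]; trivial
  have h2 : Subgroup.closure {σ at', σ xt} = (Subgroup.closure ({at', xt} : Set Γ)).map σ := by
    rw [MonoidHom.map_closure, Set.image_pair]
  rw [h2] at h1
  obtain ⟨w, hw, hwg⟩ := h1
  have h3 : w⁻¹ * g ∈ σ.ker := by
    rw [MonoidHom.mem_ker, map_mul, map_inv, hwg, inv_mul_cancel]
  have e : g = w * (w⁻¹ * g) := by group
  rw [e]
  apply mul_mem
  · exact Subgroup.closure_mono Set.subset_union_left hw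
  · exact Subgroup.subset_closure (Set.mem_union_right _ h3)

/-- core computation: a power of `ã` (times a central element) fixed by `x̃` kills a power of `c` -/
lemma stem_core (at' xt k k₁ : Γ) (hk : k ∈ Subgroup.center Γ) (hk₁ : k₁ ∈ Subgroup.center Γ)
    (hconj : xt * at' * xt⁻¹ = at'⁻¹ * k) (s : ℕ)
    (hfix : xt * (at' ^ s * k₁) * xt⁻¹ = at' ^ s * k₁) : (at'⁻¹ * (at'⁻¹ * k)) ^ s = 1 := by
  have hkc : ∀ g : Γ, g * k = k * g := fun g => Subgroup.mem_center_iff.1 hk g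
  have hk₁c : ∀ g : Γ, g * k₁ = k₁ * g := fun g => Subgroup.mem_center_iff.1 hk₁ g
  have h1 : xt * at' ^ s * xt⁻¹ = (at'⁻¹ * k) ^ s := by rw [← conj_pow, hconj]
  have hcom : Commute at'⁻¹ k := hkc at'⁻¹
  have h2 : (at'⁻¹ * k) ^ s = at'⁻¹ ^ s * k ^ s := hcom.mul_pow s
  have h3 : xt * (at' ^ s * k₁) * xt⁻¹ = (xt * at' ^ s * xt⁻¹) * k₁ := by
    calc xt * (at' ^ s * k₁) * xt⁻¹ = xt * at' ^ s * (k₁ * xt⁻¹) := by group
      _ = xt * at' ^ s * (xt⁻¹ * k₁) := by rw [← hk₁c xt⁻¹]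
      _ = (xt * at' ^ s * xt⁻¹) * k₁ := by group
  rw [h3, h1, h2] at hfix
  have h4 : at'⁻¹ ^ s * k ^ s = at' ^ s := mul_right_cancel hfix
  have hcom2 : Commute at'⁻¹ (at'⁻¹ * k) := by
    show at'⁻¹ * (at'⁻¹ * k) = at'⁻¹ * k * at'⁻¹
    rw [mul_assoc, ← hkc at'⁻¹]
  rw [hcom2.mul_pow, h2, h4, inv_pow, inv_mul_cancel]

variable [Finite Γ]

/-- **stem extensions of groups `⟨a, x⟩` with `x a x⁻¹ = a⁻¹`**: the kernel consists of powers of
`c = ã⁻¹ (x̃ ã x̃⁻¹)` -/
theorem stem_metacyclic (hcen : σ.ker ≤ Subgroup.center Γ) (hcomm : σ.ker ≤ commutator Γ) (at' xt : Γ)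
    (hgen : Subgroup.closure {σ at', σ xt} = ⊤) (hinv : σ (xt * at' * xt⁻¹) = (σ at')⁻¹) :
    (∀ z ∈ σ.ker, ∃ j : ℕ, z = (at'⁻¹ * (xt * at' * xt⁻¹)) ^ j ∧ (σ at') ^ (2 * j) = 1) ∧
    (∀ N : ℕ, (σ at') ^ N = 1 → (at'⁻¹ * (xt * at' * xt⁻¹)) ^ N = 1) ∧
    (∀ s : ℕ, σ (xt ^ 2) = (σ at') ^ s → (at'⁻¹ * (xt * at' * xt⁻¹)) ^ s = 1) := by
  obtain ⟨k, hkdef⟩ : ∃ k, k = at' * (xt * at' * xt⁻¹) := ⟨_, rfl⟩
  have hkker : k ∈ σ.ker := by
    rw [MonoidHom.mem_ker, hkdef, map_mul, hinv, mul_inv_cancel]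
  have hk : k ∈ Subgroup.center Γ := hcen hkker
  have hkc : ∀ g : Γ, g * k = k * g := fun g => Subgroup.mem_center_iff.1 hk g
  have hconj : xt * at' * xt⁻¹ = at'⁻¹ * k := by rw [hkdef]; group
  obtain ⟨c, hcdef⟩ : ∃ c, c = at'⁻¹ * (xt * at' * xt⁻¹) := ⟨_, rfl⟩
  rw [← hcdef]
  have hc2 : c = at'⁻¹ * (at'⁻¹ * k) := by rw [hcdef, hconj]
  -- relations
  have hrel1 : ∀ N : ℕ, (σ at') ^ N = 1 → c ^ N = 1 := by
    intro N hN
    have h1 : at' ^ N ∈ Subgroup.center Γ := hcen (by rw [MonoidHom.mem_ker, map_pow, hN])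
    rw [hc2]
    apply stem_core at' xt k 1 hk (one_mem _) hconj N
    rw [mul_one]
    have := Subgroup.mem_center_iff.1 h1 xt
    calc xt * at' ^ N * xt⁻¹ = (at' ^ N * xt) * xt⁻¹ := by rw [this]
      _ = at' ^ N := by group
  have hrel2 : ∀ s : ℕ, σ (xt ^ 2) = (σ at') ^ s → c ^ s = 1 := by
    intro s hs
    have h1 : (at' ^ s)⁻¹ * xt ^ 2 ∈ Subgroup.center Γ := hcen (by
      rw [MonoidHom.mem_ker, map_mul, map_inv, map_pow, hs, inv_mul_cancel])
    rw [hc2]
    apply stem_core at' xt k ((at' ^ s)⁻¹ * xt ^ 2) hk h1 hconj s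
    have e : at' ^ s * ((at' ^ s)⁻¹ * xt ^ 2) = xt ^ 2 := by group
    rw [e]; group
  refine ⟨?_, hrel1, hrel2⟩
  -- the kernel lies in `⟨c⟩`
  have hgenΓ := closure_lifts_union_ker σ at' xt hgen
  have hat_c : at' * c * at'⁻¹ = c := by
    rw [hc2]
    calc at' * (at'⁻¹ * (at'⁻¹ * k)) * at'⁻¹ = at'⁻¹ * (k * at'⁻¹) := by group
      _ = at'⁻¹ * (at'⁻¹ * k) := by rw [← hkc at'⁻¹]
  have hxt_c : xt * c * xt⁻¹ = c⁻¹ := by
    have h1 : xt * c * xt⁻¹ = (xt * at' * xt⁻¹)⁻¹ * (xt * (xt * at' * xt⁻¹) * xt⁻¹) := by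
      rw [hcdef]; group
    rw [h1, hconj]
    have h2 : xt * (at'⁻¹ * k) * xt⁻¹ = (xt * at' * xt⁻¹)⁻¹ * k := by
      calc xt * (at'⁻¹ * k) * xt⁻¹ = xt * at'⁻¹ * (k * xt⁻¹) := by group
        _ = xt * at'⁻¹ * (xt⁻¹ * k) := by rw [← hkc xt⁻¹]
        _ = (xt * at' * xt⁻¹)⁻¹ * k := by group
    rw [h2, hconj, hc2]
    have e1 : at' * k⁻¹ = k⁻¹ * at' := by
      have := hkc at'
      calc at' * k⁻¹ = k⁻¹ * (k * at') * k⁻¹ := by group
        _ = k⁻¹ * (at' * k) * k⁻¹ := by rw [this]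
        _ = k⁻¹ * at' := by group
    calc (at'⁻¹ * k)⁻¹ * ((at'⁻¹ * k)⁻¹ * k) = k⁻¹ * (at' * k⁻¹) * (at' * k) := by
          simp only [mul_assoc, mul_inv_rev, inv_inv]
      _ = k⁻¹ * (k⁻¹ * at') * (k * at') := by rw [e1, hkc at']
      _ = k⁻¹ * k⁻¹ * (at' * k) * at' := by simp only [mul_assoc]
      _ = k⁻¹ * k⁻¹ * (k * at') * at' := by rw [hkc at']
      _ = (at'⁻¹ * (at'⁻¹ * k))⁻¹ := by
          simp only [mul_assoc, mul_inv_rev, inv_inv, inv_mul_cancel_left]
  -- `⟨c⟩` is normal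
  have hNn : (Subgroup.zpowers c).Normal := by
    rw [← Subgroup.normalizer_eq_top_iff, eq_top_iff, ← hgenΓ, Subgroup.closure_le]
    rintro t (ht | ht)
    · rcases ht with rfl | rfl
      · apply mem_normalizer_of_conj_mem
        intro b hb
        obtain ⟨j, rfl⟩ := hb
        show t * c ^ j * t⁻¹ ∈ _
        rw [← conj_zpow, hat_c]
        exact Subgroup.zpow_mem_zpowers c j
      · apply mem_normalizer_of_conj_mem
        intro b hb
        obtain ⟨j, rfl⟩ := hb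
        show t * c ^ j * t⁻¹ ∈ _
        rw [← conj_zpow, hxt_c]
        exact (Subgroup.zpowers c).zpow_mem (inv_mem (Subgroup.mem_zpowers c)) j
    · apply mem_normalizer_of_conj_mem
      intro b hb
      have := Subgroup.mem_center_iff.1 (hcen ht) b
      have e : t * b * t⁻¹ = b := by rw [← this]; group
      rw [e]; exact hb
  -- the quotient is abelian
  have hquot : ∀ g h : Γ, ⁅g, h⁆ ∈ Subgroup.zpowers c := by
    have hZ : (Subgroup.center (Γ ⧸ Subgroup.zpowers c)).comap (QuotientGroup.mk' (Subgroup.zpowers c)) = ⊤ := by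
      rw [eq_top_iff, ← hgenΓ, Subgroup.closure_le]
      intro t ht
      rw [SetLike.mem_coe, Subgroup.mem_comap, Subgroup.mem_center_iff]
      intro q
      -- the centralizer of `π t` contains all generators
      have hC : (Subgroup.centralizer {QuotientGroup.mk' (Subgroup.zpowers c) t}).comap
          (QuotientGroup.mk' (Subgroup.zpowers c)) = ⊤ := by
        rw [eq_top_iff, ← hgenΓ, Subgroup.closure_le]
        intro t' ht'
        rw [SetLike.mem_coe, Subgroup.mem_comap, Subgroup.mem_centralizer_iff]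
        intro y hy
        rw [Set.mem_singleton_iff] at hy
        subst hy
        rw [← map_mul, ← map_mul]
        -- `t t' ≡ t' t` modulo `⟨c⟩`
        have key : ∀ u v : Γ, (u = at' ∧ v = xt) → (QuotientGroup.mk' (Subgroup.zpowers c)) (u * v) =
            (QuotientGroup.mk' (Subgroup.zpowers c)) (v * u) := by
          rintro u v ⟨rfl, rfl⟩
          rw [QuotientGroup.mk'_apply, QuotientGroup.mk'_apply, QuotientGroup.eq]
          have e : (u * v)⁻¹ * (v * u) = v⁻¹ * (u⁻¹ * (v * u * v⁻¹)) * v := by group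
          rw [e, ← hcdef]
          exact hNn.conj_mem' _ (Subgroup.mem_zpowers c) v
        rcases ht with (rfl | rfl) | ht
        · rcases ht' with (rfl | rfl) | ht'
          · rfl
          · exact key _ _ ⟨rfl, rfl⟩
          · rw [Subgroup.mem_center_iff.1 (hcen ht') t]
        · rcases ht' with (rfl | rfl) | ht'
          · exact (key _ _ ⟨rfl, rfl⟩).symm
          · rfl
          · rw [Subgroup.mem_center_iff.1 (hcen ht') t]
        · rw [← Subgroup.mem_center_iff.1 (hcen ht) t']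
      obtain ⟨g, rfl⟩ := QuotientGroup.mk'_surjective _ q
      have hg : g ∈ (Subgroup.centralizer {QuotientGroup.mk' (Subgroup.zpowers c) t}).comap
          (QuotientGroup.mk' (Subgroup.zpowers c)) := by rw [hC]; trivial
      rw [Subgroup.mem_comap, Subgroup.mem_centralizer_iff] at hg
      exact (hg _ rfl).symm
    intro g h
    have hg : g ∈ (Subgroup.center (Γ ⧸ Subgroup.zpowers c)).comap (QuotientGroup.mk' (Subgroup.zpowers c)) := by
      rw [hZ]; trivial
    rw [Subgroup.mem_comap, Subgroup.mem_center_iff] at hg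
    have h1 := hg (QuotientGroup.mk' (Subgroup.zpowers c) h)
    rw [← QuotientGroup.eq_one_iff, ← QuotientGroup.mk'_apply, commutatorElement_def, map_mul, map_mul, map_mul,
      map_inv, map_inv, ← h1]
    group
  have hcommle : commutator Γ ≤ Subgroup.zpowers c := by
    rw [commutator_def, Subgroup.commutator_le]
    intro g _ h _
    exact hquot g h
  intro z hz
  have hzc : z ∈ Subgroup.zpowers c := hcommle (hcomm hz)
  rw [← mem_powers_iff_mem_zpowers] at hzc
  obtain ⟨j, hj⟩ := hzc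
  replace hj : c ^ j = z := hj
  refine ⟨j, hj.symm, ?_⟩
  have h1 : σ c = (σ at')⁻¹ * (σ at')⁻¹ := by rw [hcdef, map_mul, map_inv, hinv]
  have h2 : (σ c) ^ j = 1 := by rw [← map_pow, hj]; exact hz
  rw [h1] at h2
  have h3 : (σ at')⁻¹ * (σ at')⁻¹ = ((σ at') ^ 2)⁻¹ := by group
  rw [h3, inv_pow, inv_eq_one, ← pow_mul] at h2
  exact h2

end stemMeta

/-- trivial Schur multiplier from triviality of all stem-extension kernels -/
theorem hasCyclicSchurMultiplier_one_of_ker_eq_bot {G : Type u} [Group G] [Finite G]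
    (h : ∀ (Γ : Type u) [Group Γ] [Finite Γ] (σ : Γ →* G), Cfsg.IsStemExtension σ → σ.ker = ⊥) :
    Cfsg.HasCyclicSchurMultiplier G 1 := by
  constructor
  · refine ⟨G, inferInstance, inferInstance, MonoidHom.id G, ⟨Function.surjective_id, ?_, ?_⟩, ?_⟩
    · rw [MonoidHom.ker_id]; exact bot_le
    · rw [MonoidHom.ker_id]; exact bot_le
    · have h1 : ∀ x : (MonoidHom.id G).ker, x = 1 := by
        intro x
        apply Subtype.ext
        have h := x.2
        rw [MonoidHom.mem_ker] at h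
        exact h
      have h2 : ∀ x : Multiplicative (ZMod 1), x = 1 := by
        intro x
        exact Subsingleton.elim (α := Fin 1) _ _
      exact ⟨{ toFun := fun _ => 1, invFun := fun _ => 1,
               left_inv := fun x => (h1 x).symm, right_inv := fun x => (h2 x).symm,
               map_mul' := fun _ _ => (one_mul 1).symm }⟩
  · intro Γ _ _ σ hσ
    have hker := h Γ σ hσ
    have h3 : ∀ g ∈ σ.ker, g = 1 := fun g hg => by
      rw [hker] at hg; exact Subgroup.mem_bot.1 hg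
    refine ⟨1, ?_⟩
    intro y
    refine ⟨1, ?_⟩
    apply Subtype.ext
    rw [h3 _ y.2]; rfl

end Cfsg.Agent.H1
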