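import Mathlib
import Cfsg.Agent.H1.Basic
import Cfsg.Agent.H1.StemMeta
import Cfsg.Prelude.Def_KGroupFacts

set_option autoImplicit false

namespace Cfsg.Agent.H1

open Cfsg
open scoped commutatorElement

section dihCover

/-- the covering map `D_{2n} → D_n` -/
def dihCover (n : ℕ) : DihedralGroup (2 * n) →* DihedralGroup n where
  toFun g := match g with
    | DihedralGroup.r i => DihedralGroup.r (ZMod.castHom (dvd_mul_left n 2) (ZMod n) i)
    | DihedralGroup.sr i => DihedralGroup.sr (ZMod.castHom (dvd_mul_left n 2) (ZMod n) i)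
  map_one' := by
    change DihedralGroup.r (ZMod.castHom (dvd_mul_left n 2) (ZMod n) (0 : ZMod (2 * n))) = 1
    rw [map_zero]; rfl
  map_mul' := by
    rintro (i | i) (j | j)
    · simp only [DihedralGroup.r_mul_r, map_add]
    · simp only [DihedralGroup.r_mul_sr, map_sub]
    · simp only [DihedralGroup.sr_mul_r, map_add]
    · simp only [DihedralGroup.sr_mul_sr, map_sub]

lemma dihCover_r (n : ℕ) (i : ZMod (2 * n)) :
    dihCover n (DihedralGroup.r i) = DihedralGroup.r (ZMod.castHom (dvd_mul_left n 2) (ZMod n) i) := rfl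

lemma dihCover_sr (n : ℕ) (i : ZMod (2 * n)) :
    dihCover n (DihedralGroup.sr i) = DihedralGroup.sr (ZMod.castHom (dvd_mul_left n 2) (ZMod n) i) := rfl

lemma dihCover_surjective (n : ℕ) : Function.Surjective (dihCover n) := by
  rintro (i | i)
  · obtain ⟨j, rfl⟩ := ZMod.ringHom_surjective (ZMod.castHom (dvd_mul_left n 2) (ZMod n)) i
    exact ⟨DihedralGroup.r j, rfl⟩
  · obtain ⟨j, rfl⟩ := ZMod.ringHom_surjective (ZMod.castHom (dvd_mul_left n 2) (ZMod n)) i
    exact ⟨DihedralGroup.sr j, rfl⟩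

lemma mem_ker_dihCover (n : ℕ) [NeZero n] {g : DihedralGroup (2 * n)} (hg : g ∈ (dihCover n).ker) :
    ∃ t : ℕ, g = DihedralGroup.r ((n * t : ℕ) : ZMod (2 * n)) := by
  rw [MonoidHom.mem_ker] at hg
  cases g with
  | r i =>
    rw [dihCover_r, DihedralGroup.one_def] at hg
    have h1 : ZMod.castHom (dvd_mul_left n 2) (ZMod n) i = 0 := by
      injection hg
    rw [ZMod.castHom_apply, ← ZMod.natCast_val, ZMod.natCast_eq_zero_iff] at h1
    obtain ⟨t, ht⟩ := h1
    refine ⟨t, ?_⟩
    rw [← ht, ZMod.natCast_zmod_val]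
  | sr i =>
    rw [dihCover_sr, DihedralGroup.one_def] at hg
    cases hg

lemma dihCover_isStem (n : ℕ) [NeZero n] (hn : Even n) : Cfsg.IsStemExtension (dihCover n) := by
  refine ⟨dihCover_surjective n, ?_, ?_⟩
  · intro g hg
    obtain ⟨t, rfl⟩ := mem_ker_dihCover n hg
    rw [Subgroup.mem_center_iff]
    have h2 : (2 : ZMod (2 * n)) * ((n * t : ℕ) : ZMod (2 * n)) = 0 := by
      have : (2 : ZMod (2 * n)) * ((n * t : ℕ) : ZMod (2 * n)) = ((2 * n * t : ℕ) : ZMod (2 * n)) := by
        push_cast; ring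
      rw [this, ZMod.natCast_eq_zero_iff]
      exact Dvd.intro _ rfl
    rintro (j | j)
    · rw [DihedralGroup.r_mul_r, DihedralGroup.r_mul_r, add_comm]
    · rw [DihedralGroup.sr_mul_r, DihedralGroup.r_mul_sr]
      congr 1
      have : j + ((n * t : ℕ) : ZMod (2 * n)) - (j - ((n * t : ℕ) : ZMod (2 * n))) =
          2 * ((n * t : ℕ) : ZMod (2 * n)) := by ring
      exact sub_eq_zero.1 (by rw [this, h2])
  · intro g hg
    obtain ⟨t, rfl⟩ := mem_ker_dihCover n hg
    obtain ⟨m, hm⟩ := hn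
    have h1 : DihedralGroup.r ((n : ℕ) : ZMod (2 * n)) ∈ commutator (DihedralGroup (2 * n)) := by
      have h2 : ⁅DihedralGroup.r ((m : ℕ) : ZMod (2 * n)), DihedralGroup.sr (0 : ZMod (2 * n))⁆ =
          DihedralGroup.r ((n : ℕ) : ZMod (2 * n)) := by
        rw [commutatorElement_def, DihedralGroup.inv_r, DihedralGroup.inv_sr, DihedralGroup.r_mul_sr,
          DihedralGroup.sr_mul_r, DihedralGroup.sr_mul_sr]
        congr 1
        rw [hm]; push_cast; ring
      rw [← h2, commutator_def]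
      exact Subgroup.commutator_mem_commutator (Subgroup.mem_top _) (Subgroup.mem_top _)
    have h3 : DihedralGroup.r ((n * t : ℕ) : ZMod (2 * n)) = (DihedralGroup.r ((n : ℕ) : ZMod (2 * n))) ^ t := by
      rw [DihedralGroup.r_pow]; push_cast; rfl
    rw [h3]
    exact pow_mem h1 t

lemma card_ker_dihCover (n : ℕ) [NeZero n] : Nat.card (dihCover n).ker = 2 := by
  have h1 := (dihCover n).ker.card_mul_index
  rw [Subgroup.index_ker, MonoidHom.range_eq_top.2 (dihCover_surjective n), Subgroup.card_top,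
    DihedralGroup.nat_card, DihedralGroup.nat_card] at h1
  have hpos : 0 < 2 * n := Nat.mul_pos (by norm_num) (Nat.pos_of_ne_zero (NeZero.ne n))
  have : Nat.card (dihCover n).ker * (2 * n) = 2 * (2 * n) := h1
  exact Nat.eq_of_mul_eq_mul_right hpos this

end dihCover

end Cfsg.Agent.H1
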