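import Mathlib
import Cfsg.Agent.H1.Dihedral

set_option autoImplicit false

namespace Cfsg.Agent.H1

open DihedralGroup

/-- in `ZMod (2^a)` there is at most one nonzero solution of `2x = 0` -/
lemma zmod_two_pow_two_torsion (a : ℕ) (x y : ZMod (2 ^ a)) (hx : 2 * x = 0) (hy : 2 * y = 0)
    (hx0 : x ≠ 0) (hy0 : y ≠ 0) : x = y := by
  haveI : NeZero (2 ^ a) := ⟨pow_ne_zero _ two_ne_zero⟩
  have key : ∀ z : ZMod (2 ^ a), 2 * z = 0 → z ≠ 0 → 2 * z.val = 2 ^ a := by
    intro z hz hz0
    have h1 : ((2 * z.val : ℕ) : ZMod (2 ^ a)) = 0 := by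
      push_cast
      rw [ZMod.natCast_zmod_val]; exact hz
    rw [ZMod.natCast_eq_zero_iff] at h1
    have h2 : z.val < 2 ^ a := ZMod.val_lt z
    have h3 : 0 < z.val := Nat.pos_of_ne_zero (fun h => hz0 ((ZMod.val_eq_zero z).1 h))
    obtain ⟨c, hc⟩ := h1
    have hc1 : c = 1 := by
      have : 0 < c := by
        rcases Nat.eq_zero_or_pos c with h | h
        · rw [h, mul_zero] at hc; omega
        · exact h
      have : c < 2 := by
        by_contra hge
        push Not at hge
        have : 2 ^ a * 2 ≤ 2 ^ a * c := Nat.mul_le_mul_left _ hge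
        omega
      omega
    rw [hc, hc1, mul_one]
  have h1 := key x hx hx0
  have h2 := key y hy hy0
  apply ZMod.val_injective
  omega

/-- a nonzero element of `ZMod (2^a)` has a multiple which is a nonzero 2-torsion element -/
lemma zmod_two_pow_exists_invol (a : ℕ) (i : ZMod (2 ^ a)) (hi : i ≠ 0) :
    ∃ m : ℕ, i * (m : ZMod (2 ^ a)) ≠ 0 ∧ 2 * (i * (m : ZMod (2 ^ a))) = 0 := by
  classical
  have hex : ∃ m : ℕ, i * ((2 ^ m : ℕ) : ZMod (2 ^ a)) = 0 := ⟨a, by
    rw [ZMod.natCast_self, mul_zero]⟩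
  obtain ⟨m₀, hm₀⟩ : ∃ m₀, m₀ = Nat.find hex := ⟨_, rfl⟩
  have hspec : i * ((2 ^ m₀ : ℕ) : ZMod (2 ^ a)) = 0 := hm₀ ▸ Nat.find_spec hex
  have hm₀pos : m₀ ≠ 0 := by
    rintro rfl
    rw [pow_zero, Nat.cast_one, mul_one] at hspec
    exact hi hspec
  obtain ⟨m₁, rfl⟩ : ∃ m₁, m₀ = m₁ + 1 := ⟨m₀ - 1, by omega⟩
  refine ⟨2 ^ m₁, ?_, ?_⟩
  · intro h
    have := Nat.find_min' hex h
    omega
  · rw [← hspec]
    push_cast
    ring


lemma isCyclic_of_le_zpowers {G : Type*} [Group G] (H : Subgroup G) (g : G) (h : H ≤ Subgroup.zpowers g) :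
    IsCyclic H :=
  isCyclic_of_injective (Subgroup.inclusion h) (Subgroup.inclusion_injective h)

lemma dihedral_exists_refl_rot (n : ℕ) (H : Subgroup (DihedralGroup n)) (hH : ¬ IsCyclic H) :
    (∃ j : ZMod n, (sr j : DihedralGroup n) ∈ H) ∧ ∃ i : ZMod n, i ≠ 0 ∧ (r i : DihedralGroup n) ∈ H := by
  have hrefl : ∃ j : ZMod n, (sr j : DihedralGroup n) ∈ H := by
    by_contra hcon
    push Not at hcon
    apply hH
    apply isCyclic_of_le_zpowers H (r 1)
    intro g hg
    cases g with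
    | r i =>
      obtain ⟨k, rfl⟩ := ZMod.intCast_surjective i
      rw [Subgroup.mem_zpowers_iff]
      exact ⟨k, by rw [r_one_zpow]⟩
    | sr j => exact absurd hg (hcon j)
  refine ⟨hrefl, ?_⟩
  obtain ⟨j, hj⟩ := hrefl
  by_contra hcon
  push Not at hcon
  apply hH
  apply isCyclic_of_le_zpowers H (sr j)
  intro g hg
  cases g with
  | r i =>
    have : i = 0 := by
      by_contra h
      exact hcon i h hg
    rw [this, r_zero]; exact Subgroup.one_mem _
  | sr j' =>
    have h1 := H.mul_mem hj hg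
    rw [sr_mul_sr] at h1
    have : j' - j = 0 := by
      by_contra h
      exact hcon _ h h1
    have : j' = j := sub_eq_zero.1 this
    rw [this]; exact Subgroup.mem_zpowers _

theorem dihedral_centralizer_le (n : ℕ) (hcase : Odd n ∨ ∃ a : ℕ, n = 2 ^ a)
    (H : Subgroup (DihedralGroup n)) (hH : ¬ IsCyclic H) :
    Subgroup.centralizer (H : Set (DihedralGroup n)) ≤ H := by
  obtain ⟨⟨j, hj⟩, i, hi0, hi⟩ := dihedral_exists_refl_rot n H hH
  intro g hg
  rw [Subgroup.mem_centralizer_iff] at hg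
  have hgj := hg _ hj
  have hgi := hg _ hi
  rcases hcase with hodd | ⟨a, rfl⟩
  · -- odd
    have htwo : ∀ k : ZMod n, 2 * k = 0 → k = 0 := by
      intro k hk
      obtain ⟨m, hm⟩ := hodd
      have h3 : ((2 * m + 1 : ℕ) : ZMod n) = 0 := by rw [← hm]; exact ZMod.natCast_self n
      push_cast at h3
      calc k = k * (2 * (m : ZMod n) + 1) - (2 * k) * m := by ring
        _ = 0 := by rw [h3, hk]; ring
    cases g with
    | r k =>
      rw [sr_mul_r, r_mul_sr] at hgj
      have h1 : j + k = j - k := by injection hgj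
      have h2 : 2 * k = 0 := by
        have : 2 * k = (j + k) - (j - k) := by ring
        rw [this, h1, sub_self]
      rw [htwo k h2, r_zero]; exact H.one_mem
    | sr k =>
      rw [r_mul_sr, sr_mul_r] at hgi
      have h1 : k - i = k + i := by injection hgi
      have h2 : 2 * i = 0 := by
        have : 2 * i = (k + i) - (k - i) := by ring
        rw [this, h1, sub_self]
      exact absurd (htwo i h2) hi0
  · -- power of two
    cases g with
    | r k =>
      rw [sr_mul_r, r_mul_sr] at hgj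
      have h1 : j + k = j - k := by injection hgj
      have h2 : 2 * k = 0 := by
        have : 2 * k = (j + k) - (j - k) := by ring
        rw [this, h1, sub_self]
      by_cases hk0 : k = 0
      · rw [hk0, r_zero]; exact H.one_mem
      · obtain ⟨m, hm0, hm2⟩ := zmod_two_pow_exists_invol a i hi0
        have := zmod_two_pow_two_torsion a _ _ hm2 h2 hm0 hk0
        rw [← this, ← r_pow]
        exact H.pow_mem hi m
    | sr k =>
      rw [r_mul_sr, sr_mul_r] at hgi
      have h1 : k - i = k + i := by injection hgi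
      have h2 : 2 * i = 0 := by
        have : 2 * i = (k + i) - (k - i) := by ring
        rw [this, h1, sub_self]
      rw [sr_mul_sr, sr_mul_sr] at hgj
      have h3 : k - j = j - k := by injection hgj
      have h4 : 2 * (k - j) = 0 := by
        have : 2 * (k - j) = (k - j) - (j - k) := by ring
        rw [this, h3, sub_self]
      by_cases hkj : k - j = 0
      · have : k = j := sub_eq_zero.1 hkj
        rw [this]; exact hj
      · have := zmod_two_pow_two_torsion a _ _ h4 h2 hkj hi0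
        have h5 : k = j + i := by rw [← this]; ring
        rw [h5, ← sr_mul_r]
        exact H.mul_mem hj hi


lemma sr_zero_zpow (N : ℕ) (k : ℤ) : ((sr 0 : DihedralGroup N) ^ k = 1) ∨ ((sr 0 : DihedralGroup N) ^ k = sr 0) := by
  have h2 : (sr 0 : DihedralGroup N) ^ (2 : ℤ) = 1 := by
    rw [zpow_ofNat, pow_two, sr_mul_self]
  rcases Int.even_or_odd' k with ⟨c, hc | hc⟩
  · left; rw [hc, zpow_mul, h2, one_zpow]
  · right; rw [hc, zpow_add, zpow_mul, h2, one_zpow, one_mul, zpow_one]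

theorem dihedral_counterexample (a m : ℕ) (ha : 1 ≤ a) (hm : Odd m) (hm3 : 3 ≤ m) :
    ∃ H : Subgroup (DihedralGroup (2 ^ a * m)), ¬ IsCyclic H ∧
      ¬ Subgroup.centralizer (H : Set (DihedralGroup (2 ^ a * m))) ≤ H := by
  obtain ⟨n, hn⟩ : ∃ n, n = 2 ^ a * m := ⟨_, rfl⟩
  rw [← hn]
  have hn0 : n ≠ 0 := by rw [hn]; positivity
  haveI : NeZero n := ⟨hn0⟩
  haveI : NeZero (2 ^ a) := ⟨pow_ne_zero _ two_ne_zero⟩
  have hdvd : 2 ^ a ∣ n := hn ▸ Dvd.intro _ rfl
  have h1 : (r 1 : DihedralGroup (2 ^ a)) ^ n = 1 := by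
    rw [r_one_pow, (ZMod.natCast_eq_zero_iff n (2 ^ a)).2 hdvd, r_zero]
  let ψ : DihedralGroup n →* DihedralGroup (2 ^ a) :=
    dihedralHom (r 1 : DihedralGroup (2 ^ a)) n h1 (sr 0) (sr_mul_self 0) (by
      rw [inv_sr, sr_mul_r, sr_mul_sr, inv_r]; congr 1; ring)
  have hψr : ∀ k : ℕ, ψ (r (k : ZMod n)) = r (k : ZMod (2 ^ a)) := by
    intro k
    show dihedralHom _ n h1 _ _ _ (r (k : ZMod n)) = _
    rw [dihedralHom_r]
    have := zmodPow_intCast (r 1 : DihedralGroup (2 ^ a)) n h1 (k : ℤ)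
    rw [Int.cast_natCast, zpow_natCast, r_one_pow] at this
    exact this
  have hψs : ψ (sr 0) = sr 0 := by
    show dihedralHom _ n h1 _ _ _ (sr 0) = _
    rw [dihedralHom_sr, zmodPow_zero, mul_one]
  obtain ⟨H, hH⟩ : ∃ H, H = (Subgroup.zpowers (sr 0 : DihedralGroup (2 ^ a))).comap ψ := ⟨_, rfl⟩
  have hmemH : ∀ g, g ∈ H ↔ ψ g = 1 ∨ ψ g = sr 0 := by
    intro g
    rw [hH, Subgroup.mem_comap, Subgroup.mem_zpowers_iff]
    constructor
    · rintro ⟨k, hk⟩
      rw [← hk]; exact sr_zero_zpow _ k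
    · rintro (h | h)
      · exact ⟨0, by rw [zpow_zero, h]⟩
      · exact ⟨1, by rw [zpow_one, h]⟩
  have hs0 : (sr 0 : DihedralGroup n) ∈ H := (hmemH _).2 (Or.inr hψs)
  have hr : (r ((2 ^ a : ℕ) : ZMod n) : DihedralGroup n) ∈ H := by
    apply (hmemH _).2
    left
    rw [hψr, ZMod.natCast_self, r_zero]
  refine ⟨H, ?_, ?_⟩
  · intro hc
    letI := IsCyclic.commGroup (α := H)
    have h2 := mul_comm (⟨_, hr⟩ : H) ⟨_, hs0⟩
    have h3 := congrArg Subtype.val h2
    simp only [Subgroup.coe_mul, r_mul_sr, sr_mul_r] at h3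
    have h4 : (0 - ((2 ^ a : ℕ) : ZMod n)) = 0 + ((2 ^ a : ℕ) : ZMod n) := by injection h3
    have h5 : ((2 ^ (a + 1) : ℕ) : ZMod n) = 0 := by
      have : ((2 ^ (a + 1) : ℕ) : ZMod n) = (0 + ((2 ^ a : ℕ) : ZMod n)) - (0 - ((2 ^ a : ℕ) : ZMod n)) := by
        push_cast; ring
      rw [this, h4]; ring
    rw [ZMod.natCast_eq_zero_iff, hn, pow_succ] at h5
    have h6 : m ∣ 2 := (Nat.mul_dvd_mul_iff_left (pow_pos two_pos a)).1 h5
    have := Nat.le_of_dvd (by norm_num) h6
    omega
  · intro hle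
    -- central involution
    obtain ⟨c, hc⟩ : ∃ c : ℕ, c = 2 ^ (a - 1) * m := ⟨_, rfl⟩
    have h2c : 2 * c = n := by
      rw [hc, hn, ← mul_assoc, ← pow_succ']
      congr 2; omega
    have hcz : 2 * (c : ZMod n) = 0 := by
      have : ((2 * c : ℕ) : ZMod n) = 0 := by rw [h2c]; exact ZMod.natCast_self n
      push_cast at this; exact this
    have hzc : (r (c : ZMod n) : DihedralGroup n) ∈ Subgroup.centralizer (H : Set (DihedralGroup n)) := by
      rw [Subgroup.mem_centralizer_iff]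
      intro g _
      cases g with
      | r i => rw [r_mul_r, r_mul_r, add_comm]
      | sr j =>
        rw [sr_mul_r, r_mul_sr]
        congr 1
        have : j + (c : ZMod n) - (j - c) = 0 := by ring_nf; rw [mul_comm]; exact hcz
        exact sub_eq_zero.1 this
    have hzH := hle hzc
    rw [hmemH, hψr] at hzH
    rcases hzH with h | h
    · have h3 : ((c : ℕ) : ZMod (2 ^ a)) = 0 := by
        rw [← r_zero] at h
        injection h
      rw [ZMod.natCast_eq_zero_iff, hc] at h3
      have h4 : 2 ^ a = 2 ^ (a - 1) * 2 := by rw [← pow_succ]; congr 1; omega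
      rw [h4] at h3
      have h5 : 2 ∣ m := (Nat.mul_dvd_mul_iff_left (pow_pos two_pos (a - 1))).1 h3
      exact (Nat.not_even_iff_odd.2 hm) (even_iff_two_dvd.2 h5)
    · exact absurd h (by simp)

theorem dihedral_noncyclic_centralizer_iff (n : ℕ) (hn : 3 ≤ n) :
    (∀ H : Subgroup (DihedralGroup n), ¬ IsCyclic ↥H →
      Subgroup.centralizer (H : Set (DihedralGroup n)) ≤ H) ↔ (Odd n ∨ ∃ k : ℕ, n = 2 ^ k) := by
  constructor
  · intro hall
    by_contra hcon
    push Not at hcon
    obtain ⟨hodd, hpow⟩ := hcon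
    obtain ⟨a, m, hm, hnm⟩ := Nat.exists_eq_two_pow_mul_odd (by omega : n ≠ 0)
    have ha : 1 ≤ a := by
      rcases Nat.eq_zero_or_pos a with h | h
      · exfalso; rw [h, pow_zero, one_mul] at hnm; exact hodd (hnm ▸ hm)
      · exact h
    have hm3 : 3 ≤ m := by
      by_contra hlt
      push Not at hlt
      obtain ⟨c, hc⟩ := hm
      have : m = 1 := by omega
      rw [this, mul_one] at hnm
      exact hpow a hnm
    obtain ⟨H, hH1, hH2⟩ := dihedral_counterexample a m ha hm hm3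
    subst hnm
    exact hH2 (hall H hH1)
  · intro hcase H hH
    exact dihedral_centralizer_le n hcase H hH

end Cfsg.Agent.H1
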