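import Mathlib
import Cfsg.Agent.H1.Dihedral

set_option autoImplicit false

namespace Cfsg.Agent.H1

open DihedralGroup

/-- the parity homomorphism `D_n → Z/2` for even `n` -/
noncomputable def dihedralParity (n : ℕ) (hn : Even n) : DihedralGroup n →* Multiplicative (ZMod 2) :=
  dihedralHom (Multiplicative.ofAdd (1 : ZMod 2)) n (by
    obtain ⟨k, rfl⟩ := hn
    rw [← ofAdd_nsmul]
    have : (k + k) • (1 : ZMod 2) = 0 := by
      rw [nsmul_eq_mul, mul_one]
      have : ((k + k : ℕ) : ZMod 2) = (k : ZMod 2) + k := by push_cast; ring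
      rw [this]
      have h2 : (k : ZMod 2) + k = 2 * k := by ring
      rw [h2]
      have : (2 : ZMod 2) = 0 := by decide
      rw [this, zero_mul]
    rw [this]; rfl) 1 (by simp) (by
    simp only [one_mul, inv_one, mul_one]
    rw [← ofAdd_neg]
    congr 1)

lemma dihedralParity_r_one (n : ℕ) (hn : Even n) :
    dihedralParity n hn (r 1) = Multiplicative.ofAdd (1 : ZMod 2) := by
  unfold dihedralParity
  rw [dihedralHom_r, zmodPow_one]

lemma dihedralParity_r_two (n : ℕ) (hn : Even n) :
    dihedralParity n hn (r 2) = 1 := by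
  have : (r 2 : DihedralGroup n) = r 1 * r 1 := by rw [r_mul_r]; norm_num
  rw [this, map_mul, dihedralParity_r_one, ← ofAdd_add]
  rfl

lemma dihedralParity_sr_zero (n : ℕ) (hn : Even n) :
    dihedralParity n hn (sr 0) = 1 := by
  unfold dihedralParity
  rw [dihedralHom_sr, zmodPow_zero, one_mul]


lemma isMulCommutative_of_ne_top_d4 (H : Subgroup (DihedralGroup 4)) (hH : H ≠ ⊤) : IsMulCommutative H := by
  haveI : Fact (Nat.Prime 2) := ⟨Nat.prime_two⟩
  have hcard : Nat.card (DihedralGroup 4) = 8 := by rw [DihedralGroup.nat_card]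
  have hd : Nat.card H ∣ 8 := hcard ▸ Subgroup.card_subgroup_dvd_card H
  have hne : Nat.card H ≠ 8 := by
    intro h
    apply hH
    apply Subgroup.eq_top_of_card_eq
    rw [h, hcard]
  have hle : Nat.card H ≤ 8 := Nat.le_of_dvd (by norm_num) hd
  have hcases : Nat.card H = 1 ∨ Nat.card H = 2 ∨ Nat.card H = 4 := by
    interval_cases (Nat.card H) <;> simp_all
  rcases hcases with h | h | h
  · have : Subsingleton H := (Nat.card_eq_one_iff_unique.1 h).1
    exact ⟨⟨fun a b => by rw [Subsingleton.elim a b]⟩⟩
  · have hc : IsCyclic H := isCyclic_of_prime_card (p := 2) h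
    exact ⟨⟨fun a b => by
      letI := IsCyclic.commGroup (α := H)
      exact mul_comm a b⟩⟩
  · exact IsPGroup.isMulCommutative_of_card_eq_prime_sq (p := 2) (G := H) (by rw [h]; norm_num)

theorem dihedral_nonabelian_selfnormalizing (n : ℕ) (hn : 2 < n) :
    (∀ H : Subgroup (DihedralGroup n), ¬ IsMulCommutative H →
      Subgroup.normalizer (H : Set (DihedralGroup n)) = H) ↔ (n = 4 ∨ Odd n) := by
  constructor
  · intro hall
    by_contra hcon
    push Not at hcon
    obtain ⟨hn4, hodd⟩ := hcon
    have heven : Even n := Nat.not_odd_iff_even.1 hodd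
    have hn6 : 6 ≤ n := by
      obtain ⟨k, rfl⟩ := heven
      omega
    obtain ⟨H, hH⟩ : ∃ H, H = (dihedralParity n heven).ker := ⟨_, rfl⟩
    have hr2 : (r 2 : DihedralGroup n) ∈ H := by
      rw [hH, MonoidHom.mem_ker]; exact dihedralParity_r_two n heven
    have hs0 : (sr 0 : DihedralGroup n) ∈ H := by
      rw [hH, MonoidHom.mem_ker]; exact dihedralParity_sr_zero n heven
    have hr1 : (r 1 : DihedralGroup n) ∉ H := by
      rw [hH, MonoidHom.mem_ker, dihedralParity_r_one]
      intro h
      have : (1 : ZMod 2) = 0 := Multiplicative.ofAdd.injective h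
      exact absurd this (by decide)
    have hna : ¬ IsMulCommutative H := by
      intro hc
      have h1 := hc.is_comm.comm (⟨r 2, hr2⟩ : H) ⟨sr 0, hs0⟩
      have h2 := congrArg Subtype.val h1
      simp only [Subgroup.coe_mul, r_mul_sr, sr_mul_r] at h2
      have h3 : (0 - 2 : ZMod n) = 0 + 2 := by
        injection h2
      have h4 : ((4 : ℕ) : ZMod n) = 0 := by
        have : (4 : ZMod n) = (0 + 2) - (0 - 2) := by ring
        push_cast
        rw [this, h3]; ring
      rw [ZMod.natCast_eq_zero_iff] at h4
      have := Nat.le_of_dvd (by norm_num) h4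
      omega
    have h1 := hall H hna
    have hHn : H.Normal := by rw [hH]; infer_instance
    rw [Subgroup.normalizer_eq_top] at h1
    apply hr1
    rw [← h1]; trivial
  · rintro (rfl | hodd)
    · intro H hna
      have : H = ⊤ := by
        by_contra hne
        exact hna (isMulCommutative_of_ne_top_d4 H hne)
      rw [this, Subgroup.normalizer_eq_top]
    · intro H hna
      apply le_antisymm _ Subgroup.le_normalizer
      -- H contains a reflection
      have hrefl : ∃ j : ZMod n, (sr j : DihedralGroup n) ∈ H := by
        by_contra hcon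
        push Not at hcon
        apply hna
        refine ⟨⟨fun a b => ?_⟩⟩
        obtain ⟨a, ha⟩ := a
        obtain ⟨b, hb⟩ := b
        apply Subtype.ext
        cases a with
        | r i =>
          cases b with
          | r j => simp only [Subgroup.coe_mul, r_mul_r, add_comm]
          | sr j => exact absurd hb (hcon j)
        | sr i => exact absurd ha (hcon i)
      obtain ⟨j, hj⟩ := hrefl
      -- halving: r (2k) ∈ H → r k ∈ H
      have hhalf : ∀ k : ZMod n, (r (2 * k) : DihedralGroup n) ∈ H → (r k : DihedralGroup n) ∈ H := by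
        intro k hk
        obtain ⟨m, hm⟩ := hodd
        have h1 := H.pow_mem hk (m + 1)
        rw [r_pow] at h1
        have h2 : (2 * k * ((m + 1 : ℕ) : ZMod n)) = k := by
          have h3 : ((2 * m + 1 : ℕ) : ZMod n) = 0 := by rw [← hm]; exact ZMod.natCast_self n
          push_cast at h3 ⊢
          calc 2 * k * ((m : ZMod n) + 1) = k * (2 * (m : ZMod n) + 1) + k := by ring
            _ = k := by rw [h3, mul_zero, zero_add]
        rw [h2] at h1
        exact h1
      intro g hg
      rw [Subgroup.mem_normalizer_iff] at hg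
      cases g with
      | r k =>
        have h1 := (hg (sr j)).1 hj
        rw [r_mul_sr, inv_r, sr_mul_r] at h1
        have h2 := H.mul_mem hj h1
        rw [sr_mul_sr] at h2
        have h3 : (j - k + -k - j : ZMod n) = 2 * (-k) := by ring
        rw [h3] at h2
        have h4 := hhalf (-k) h2
        have h5 := H.inv_mem h4
        rw [inv_r, neg_neg] at h5
        exact h5
      | sr k =>
        have h1 := (hg (sr j)).1 hj
        rw [sr_mul_sr, inv_sr, r_mul_sr] at h1
        have h2 := H.mul_mem hj h1
        rw [sr_mul_sr] at h2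
        have h3 : (k - (j - k) - j : ZMod n) = 2 * (k - j) := by ring
        rw [h3] at h2
        have h4 := hhalf (k - j) h2
        have h5 := H.mul_mem hj h4
        rw [sr_mul_r] at h5
        have h6 : (j + (k - j) : ZMod n) = k := by ring
        rw [h6] at h5
        exact h5

end Cfsg.Agent.H1
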