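import Mathlib
import Cfsg.Prelude.Def_Solvable
import Cfsg.Prelude.Def_OddOrderLocal
import Cfsg.Agent.Lib.Lead.PiCore
import Cfsg.Agent.H2.FrobComplCenter
import Cfsg.Agent.H2.FrobeniusInternal
import Cfsg.Agent.H1.Cores
import Cfsg.Agent.S0044

set_option maxHeartbeats 800000

namespace Cfsg.Agent.H1

open Cfsg.Agent.Lib.Lead.PiCore

/-- no element of order `a * b` with `a ∈ A`, `b ∉ A` primes -/
def NoAB (A : Set ℕ) (X : Type*) [Group X] : Prop :=
  ∀ a ∈ A, ∀ b ∉ A, a.Prime → b.Prime → ¬ ∃ g : X, orderOf g = a * b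

lemma NoAB.of_surjective {A : Set ℕ} {X Y : Type*} [Group X] [Group Y] [Finite X]
    (h : NoAB A X) (f : X →* Y) (hf : Function.Surjective f) : NoAB A Y := by
  rintro a ha b hb hap hbp ⟨y, hy⟩
  obtain ⟨x, rfl⟩ := hf y
  have h1 : orderOf (f x) ∣ orderOf x := orderOf_map_dvd f x
  rw [hy] at h1
  obtain ⟨k, hk⟩ := h1
  have hk0 : k ≠ 0 := by
    rintro rfl
    rw [mul_zero] at hk
    exact (orderOf_pos x).ne' hk
  apply h a ha b hb hap hbp
  refine ⟨x ^ k, ?_⟩
  rw [orderOf_pow_of_dvd hk0 ⟨a * b, by rw [hk]; ring⟩, hk]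
  exact Nat.mul_div_cancel _ (Nat.pos_of_ne_zero hk0)

lemma NoAB.subgroup {A : Set ℕ} {X : Type*} [Group X] (h : NoAB A X) (H : Subgroup X) :
    NoAB A H := by
  rintro a ha b hb hap hbp ⟨y, hy⟩
  apply h a ha b hb hap hbp
  exact ⟨(y : X), by rw [Subgroup.orderOf_coe]; exact hy⟩

lemma NoAB.compl {A : Set ℕ} {X : Type*} [Group X] (h : NoAB A X) : NoAB Aᶜ X := by
  rintro a ha b hb hap hbp ⟨y, hy⟩
  have hbA : b ∈ A := by
    by_contra hcon
    exact hb hcon
  exact h b hbA a ha hbp hap ⟨y, by rw [hy, mul_comm]⟩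

lemma NoAB.not_commute {A : Set ℕ} {X : Type*} [Group X] [Finite X] (h : NoAB A X) {x y : X}
    (hx : x ≠ 1) (hy : y ≠ 1) (hxA : IsPiNat A (orderOf x)) (hyA : IsPiNat Aᶜ (orderOf y))
    (hc : x * y = y * x) : False := by
  have hx1 : orderOf x ≠ 1 := fun h1 => hx (orderOf_eq_one_iff.mp h1)
  have hy1 : orderOf y ≠ 1 := fun h1 => hy (orderOf_eq_one_iff.mp h1)
  obtain ⟨a, hap, hadvd⟩ := Nat.exists_prime_and_dvd hx1
  obtain ⟨b, hbp, hbdvd⟩ := Nat.exists_prime_and_dvd hy1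
  have haA := hxA a hap hadvd
  have hbA : b ∉ A := hyA b hbp hbdvd
  have hab : a ≠ b := by
    rintro rfl
    exact hbA haA
  have key : ∀ (z : X) (c : ℕ), c.Prime → c ∣ orderOf z → orderOf (z ^ (orderOf z / c)) = c := by
    intro z c hc hdvd
    obtain ⟨m, hm⟩ := hdvd
    have hm0 : m ≠ 0 := by
      rintro rfl
      rw [mul_zero] at hm
      exact (orderOf_pos z).ne' hm
    have h1 : orderOf z / c = m := by
      rw [hm]; exact Nat.mul_div_cancel_left _ hc.pos
    rw [h1, orderOf_pow_of_dvd hm0 ⟨c, by rw [hm]; ring⟩, hm]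
    exact Nat.mul_div_cancel _ (Nat.pos_of_ne_zero hm0)
  have hoa := key x a hap hadvd
  have hob := key y b hbp hbdvd
  have hcomm : Commute (x ^ (orderOf x / a)) (y ^ (orderOf y / b)) :=
    Commute.pow_pow hc _ _
  have hcop : (orderOf (x ^ (orderOf x / a))).Coprime (orderOf (y ^ (orderOf y / b))) := by
    rw [hoa, hob]
    exact (Nat.coprime_primes hap hbp).mpr hab
  have := hcomm.orderOf_mul_eq_mul_orderOf_of_coprime hcop
  rw [hoa, hob] at this
  exact h a haA b hbA hap hbp ⟨_, this⟩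

lemma isPiNat_of_isPGroup {π : Set ℕ} {X : Type*} [Group X] [Finite X] {q : ℕ} (hq : q.Prime)
    (hqA : q ∈ π) (h : IsPGroup q X) : IsPiNat π (Nat.card X) := by
  haveI := Fact.mk hq
  obtain ⟨k, hk⟩ := IsPGroup.iff_card.mp h
  rw [hk]
  intro p hp hdvd
  have := (Nat.prime_dvd_prime_iff_eq hp hq).mp (hp.dvd_of_dvd_pow hdvd)
  rw [this]
  exact hqA

lemma coprime_of_isPiNat {A : Set ℕ} {m n : ℕ} (hm : IsPiNat A m) (hn : IsPiNat Aᶜ n) :
    m.Coprime n := by
  by_contra hcon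
  obtain ⟨p, hp, hdvd⟩ := Nat.exists_prime_and_dvd hcon
  exact hn p hp (dvd_trans hdvd (Nat.gcd_dvd_right m n)) (hm p hp (dvd_trans hdvd (Nat.gcd_dvd_left m n)))

lemma exists_pCore_ne_bot (X : Type*) [Group X] [Finite X] [Group.IsSolvable X] [Nontrivial X] :
    ∃ q : ℕ, q.Prime ∧ Cfsg.pCore q X ≠ ⊥ := by
  by_contra hcon
  push_neg at hcon
  have h1 : Cfsg.fittingSubgroup X = ⊥ := by
    rw [fittingSubgroup_eq_iSup_pCore, eq_bot_iff]
    apply iSup_le
    intro q
    rw [hcon q q.2]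
  have h2 := Cfsg.Agent.S0044.result (G := X)
  rw [h1] at h2
  obtain ⟨x, hx⟩ := exists_ne (1 : X)
  apply hx
  apply Subgroup.mem_bot.mp
  apply h2
  rw [Subgroup.mem_centralizer_iff]
  intro y hy
  rw [SetLike.mem_coe, Subgroup.mem_bot] at hy
  rw [hy, one_mul, mul_one]

/-- a commutative subgroup acting fixed-point-freely is cyclic -/
lemma isCyclic_of_fpf_comm {G : Type*} [Group G] [Finite G] (K H : Subgroup G) [K.Normal]
    (hK : K ≠ ⊥) (hfpf : ∀ h ∈ H, h ≠ 1 → K ⊓ Subgroup.centralizer {h} = ⊥)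
    (hcomm : ∀ x ∈ H, ∀ y ∈ H, x * y = y * x) : IsCyclic H := by
  haveI : IsMulCommutative H := ⟨⟨fun a b => Subtype.ext (hcomm a a.2 b b.2)⟩⟩
  haveI hZ : IsZGroup H := by
    constructor
    intro p hp P
    haveI := Fact.mk hp
    rcases Cfsg.Agent.H2.FCS.sylow_cyclic_or_quaternion K H hK hfpf p P with h | ⟨n, ⟨e⟩⟩
    · exact h
    · have hc : ∀ u v : QuaternionGroup (2 ^ n), u * v = v * u := by
        intro u v
        have h1 : e.symm u * e.symm v = e.symm v * e.symm u := by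
          apply Subtype.ext
          apply Subtype.ext
          exact hcomm _ (e.symm u).1.2 _ (e.symm v).1.2
        have := congrArg e h1
        simpa using this
      have hn : n = 0 := by
        by_contra hn0
        have h2 := hc (QuaternionGroup.a 1) (QuaternionGroup.xa 0)
        rw [QuaternionGroup.a_mul_xa, QuaternionGroup.xa_mul_a] at h2
        have h3 : (0 : ZMod (2 * 2 ^ n)) - 1 = 0 + 1 := by
          injection h2
        have h4 : ((2 : ℕ) : ZMod (2 * 2 ^ n)) = 0 := by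
          have : (2 : ZMod (2 * 2 ^ n)) = 0 := by
            linear_combination (-1 : ZMod (2 * 2 ^ n)) * h3
          exact_mod_cast this
        rw [ZMod.natCast_eq_zero_iff] at h4
        have h5 : 2 * 2 ^ n ≤ 2 := Nat.le_of_dvd (by norm_num) h4
        have h6 : 2 ≤ 2 ^ n := by
          calc 2 = 2 ^ 1 := by norm_num
            _ ≤ 2 ^ n := Nat.pow_le_pow_right (by norm_num) (Nat.one_le_iff_ne_zero.mpr hn0)
        omega
      subst hn
      haveI : IsCyclic (QuaternionGroup (2 ^ 0)) := by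
        rw [pow_zero]; exact QuaternionGroup.quaternionGroup_one_isCyclic
      exact isCyclic_of_surjective e.symm e.symm.surjective
  haveI : Group.IsNilpotent H := by
    open scoped IsMulCommutative in exact CommGroup.isNilpotent
  infer_instance


theorem gk_main {G : Type*} [Group G] [Finite G] (hsol : Group.IsSolvable G) (A : Set ℕ)
    (hNC : NoAB A G) (hN1 : Cfsg.piCore A G ≠ ⊥) (hb : ¬ IsPiNat A (Nat.card G)) :
    (∃ C : Subgroup G, Cfsg.IsFrobeniusComplement C) ∨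
    (∃ (H K : Subgroup G) (_ : H.Normal), K.Normal ∧ H < K ∧
      (∃ C : Subgroup ↥K, Cfsg.IsFrobeniusComplement C ∧
        Cfsg.frobeniusKernel C = (H.subgroupOf K : Set ↥K)) ∧
      (∃ C : Subgroup (G ⧸ H), Cfsg.IsFrobeniusComplement C ∧
        Cfsg.frobeniusKernel C = (K.map (QuotientGroup.mk' H) : Set (G ⧸ H)))) := by
  classical
  haveI := hsol
  obtain ⟨N, hNdef⟩ : ∃ N : Subgroup G, N = Cfsg.piCore A G := ⟨_, rfl⟩
  haveI hNn : N.Normal := by rw [hNdef]; infer_instance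
  have hNA : IsPiNat A (Nat.card N) := by rw [hNdef]; exact piCore_isPiNat A
  have hNne : N ≠ ⊥ := by rw [hNdef]; exact hN1
  have hQbot : Cfsg.piCore A (G ⧸ N) = ⊥ := piCore_quotient_eq_bot' A N hNdef
  have hQNC : NoAB A (G ⧸ N) :=
    hNC.of_surjective (QuotientGroup.mk' N) (QuotientGroup.mk'_surjective N)
  have hmk1 : ∀ n ∈ N, QuotientGroup.mk' N n = 1 :=
    fun n hn => (QuotientGroup.eq_one_iff n).mpr hn
  have hmk1' : ∀ g : G, QuotientGroup.mk' N g = 1 → g ∈ N :=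
    fun g hg => (QuotientGroup.eq_one_iff g).mp hg
  haveI hQnt : Nontrivial (G ⧸ N) := by
    by_contra h
    rw [not_nontrivial_iff_subsingleton] at h
    apply hb
    have h1 : N.index = 1 := by
      rw [Subgroup.index]
      exact Nat.card_of_subsingleton (1 : G ⧸ N)
    have hNtop := Subgroup.index_eq_one.mp h1
    rw [hNtop, Subgroup.card_top] at hNA
    exact hNA
  obtain ⟨Kb, hKbdef⟩ : ∃ Kb : Subgroup (G ⧸ N), Kb = Cfsg.piCore Aᶜ (G ⧸ N) := ⟨_, rfl⟩
  haveI hKbn : Kb.Normal := by rw [hKbdef]; infer_instance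
  have hKbA : IsPiNat Aᶜ (Nat.card Kb) := by rw [hKbdef]; exact piCore_isPiNat Aᶜ
  have hKb_max : ∀ M : Subgroup (G ⧸ N), M.Normal → IsPiNat Aᶜ (Nat.card M) → M ≤ Kb := by
    intro M hM hMA; rw [hKbdef]; exact le_piCore hM hMA
  have hKb1 : Kb ≠ ⊥ := by
    obtain ⟨q, hq, hq1⟩ := exists_pCore_ne_bot (G ⧸ N)
    haveI := Fact.mk hq
    by_cases hqA : q ∈ A
    · exfalso
      apply hq1
      rw [eq_bot_iff, ← hQbot]
      exact le_piCore inferInstance (isPiNat_of_isPGroup hq hqA (pCore_isPGroup q))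
    · intro hbot
      apply hq1
      rw [eq_bot_iff, ← hbot]
      exact hKb_max _ inferInstance (isPiNat_of_isPGroup hq hqA (pCore_isPGroup q))
  obtain ⟨K, hKdef⟩ : ∃ K : Subgroup G, K = Kb.comap (QuotientGroup.mk' N) := ⟨_, rfl⟩
  haveI hKn : K.Normal := by rw [hKdef]; infer_instance
  have hNK : N ≤ K := by
    intro n hn
    rw [hKdef, Subgroup.mem_comap, hmk1 n hn]
    exact Kb.one_mem
  have hKmap : K.map (QuotientGroup.mk' N) = Kb := by
    rw [hKdef]
    exact Subgroup.map_comap_eq_self_of_surjective (QuotientGroup.mk'_surjective N) Kb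
  have hrel : N.relIndex K = Nat.card Kb := by
    have := Subgroup.relIndex_ker (QuotientGroup.mk' N) (K := K)
    rw [QuotientGroup.ker_mk', hKmap] at this
    exact this
  have hcardN' : Nat.card (N.subgroupOf K) = Nat.card N :=
    Nat.card_congr (Subgroup.subgroupOfEquivOfLe hNK).toEquiv
  have hcop : (Nat.card (N.subgroupOf K)).Coprime (N.subgroupOf K).index := by
    rw [hcardN']
    show (Nat.card N).Coprime (N.relIndex K)
    rw [hrel]
    exact coprime_of_isPiNat hNA hKbA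
  obtain ⟨H, hH⟩ := Subgroup.exists_right_complement'_of_coprime hcop
  have hcardH : Nat.card H = Nat.card Kb := by
    have h1 := hH.card_mul_card
    have h2 := Subgroup.card_mul_index (N.subgroupOf K)
    have h3 : Nat.card (N.subgroupOf K) * Nat.card H =
        Nat.card (N.subgroupOf K) * (N.subgroupOf K).index := by rw [h1, h2]
    have h4 := Nat.eq_of_mul_eq_mul_left Nat.card_pos h3
    rw [h4]
    exact hrel
  obtain ⟨Q, hQdef⟩ : ∃ Q : Subgroup G, Q = H.map K.subtype := ⟨_, rfl⟩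
  have hQK : Q ≤ K := by rw [hQdef]; exact Subgroup.map_subtype_le H
  have hcardQ : Nat.card Q = Nat.card Kb := by
    rw [hQdef, Subgroup.card_map_of_injective K.subtype_injective, hcardH]
  have hQA : IsPiNat Aᶜ (Nat.card Q) := by rw [hcardQ]; exact hKbA
  have hQN : N ⊓ Q = ⊥ := by
    rw [eq_bot_iff]
    intro g hg
    obtain ⟨hgN, hgQ⟩ := Subgroup.mem_inf.mp hg
    rw [hQdef] at hgQ
    obtain ⟨h, hh, rfl⟩ := Subgroup.mem_map.mp hgQ
    have h1 : h ∈ N.subgroupOf K ⊓ H :=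
      Subgroup.mem_inf.mpr ⟨Subgroup.mem_subgroupOf.mpr hgN, hh⟩
    rw [disjoint_iff.mp hH.disjoint, Subgroup.mem_bot] at h1
    rw [Subgroup.mem_bot, h1]
    rfl
  have hNQ : N ⊔ Q = K := by
    have h1 : (N.subgroupOf K ⊔ H).map K.subtype = K := by
      rw [hH.sup_eq_top, ← MonoidHom.range_eq_map, Subgroup.range_subtype]
    rw [Subgroup.map_sup, Subgroup.subgroupOf_map_subtype, inf_eq_left.mpr hNK, ← hQdef] at h1
    exact h1
  have hQ1 : Q ≠ ⊥ := by
    intro hbot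
    apply hKb1
    rw [← hKmap, ← hNQ, hbot, sup_bot_eq, QuotientGroup.map_mk'_self]
  have hfpf : ∀ h ∈ Q, h ≠ 1 → ∀ n ∈ N, h * n = n * h → n = 1 := by
    intro h hh hh1 n hn hc
    by_contra hn1
    refine hNC.not_commute hn1 hh1 ?_ ?_ hc.symm
    · refine hNA.of_dvd ?_
      have := orderOf_dvd_natCard (⟨n, hn⟩ : N)
      rwa [Subgroup.orderOf_mk] at this
    · refine hQA.of_dvd ?_
      have := orderOf_dvd_natCard (⟨h, hh⟩ : Q)
      rwa [Subgroup.orderOf_mk] at this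
  have hfpf' : ∀ h ∈ Q, h ≠ 1 → N ⊓ Subgroup.centralizer {h} = ⊥ := by
    intro h hh hh1
    rw [eq_bot_iff]
    intro n hn
    obtain ⟨hnN, hnC⟩ := Subgroup.mem_inf.mp hn
    rw [Subgroup.mem_bot]
    rw [Subgroup.mem_centralizer_singleton_iff] at hnC
    exact hfpf h hh hh1 n hnN hnC.symm
  have hQmem : ∀ q ∈ Q, QuotientGroup.mk' N q ∈ Kb := by
    intro q hq
    have := hQK hq
    rw [hKdef] at this
    exact this
  have hS : ∀ kb ∈ Kb, ∃ q ∈ Q, QuotientGroup.mk' N q = kb := by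
    intro kb hkb
    obtain ⟨g, rfl⟩ := QuotientGroup.mk'_surjective N kb
    have hgK : g ∈ K := by rw [hKdef]; exact hkb
    rw [← hNQ] at hgK
    obtain ⟨n, hn, q, hq, rfl⟩ := Subgroup.mem_sup_of_normal_left.mp hgK
    refine ⟨q, hq, ?_⟩
    rw [map_mul, hmk1 n hn, one_mul]
  have hI : ∀ q ∈ Q, QuotientGroup.mk' N q = 1 → q = 1 := by
    intro q hq h1
    have : q ∈ N ⊓ Q := ⟨hmk1' q h1, hq⟩
    rwa [hQN, Subgroup.mem_bot] at this
  have hcen := Cfsg.Agent.H2.FCCenter.center_ne_bot N Q hNne hQ1 hfpf'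
  obtain ⟨z, hz1⟩ := (Subgroup.ne_bot_iff_exists_ne_one).mp hcen
  obtain ⟨Z0, hZ0def⟩ : ∃ Z0 : Subgroup G, Z0 = (Subgroup.center ↥Q).map Q.subtype := ⟨_, rfl⟩
  have hZ0Q : Z0 ≤ Q := by rw [hZ0def]; exact Subgroup.map_subtype_le _
  have hZ0c : ∀ x ∈ Z0, ∀ q ∈ Q, x * q = q * x := by
    intro x hx q hq
    rw [hZ0def] at hx
    obtain ⟨c, hc, rfl⟩ := hx
    have := Subgroup.mem_center_iff.mp hc ⟨q, hq⟩
    exact (congrArg Subtype.val this).symm
  haveI hZ0cyc : IsCyclic Z0 := isCyclic_of_fpf_comm N Z0 hNne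
    (fun h hh hh1 => hfpf' h (hZ0Q hh) hh1) (fun x hx y hy => hZ0c x hx y (hZ0Q hy))
  obtain ⟨W, hWdef⟩ : ∃ W : Subgroup (G ⧸ N),
      W = Kb ⊓ Subgroup.centralizer (Kb : Set (G ⧸ N)) := ⟨_, rfl⟩
  haveI hWn : W.Normal := by rw [hWdef]; infer_instance
  have hWKb : W ≤ Kb := by rw [hWdef]; exact inf_le_left
  have hWle : W ≤ Z0.map (QuotientGroup.mk' N) := by
    intro w hw
    rw [hWdef] at hw
    obtain ⟨hwK, hwC⟩ := Subgroup.mem_inf.mp hw
    obtain ⟨q, hq, rfl⟩ := hS w hwK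
    refine ⟨q, ?_, rfl⟩
    rw [hZ0def]
    refine ⟨⟨q, hq⟩, ?_, rfl⟩
    rw [SetLike.mem_coe, Subgroup.mem_center_iff]
    intro g
    apply Subtype.ext
    show (g : G) * q = q * (g : G)
    have h1 : QuotientGroup.mk' N ((g : G) * q) = QuotientGroup.mk' N (q * (g : G)) := by
      rw [map_mul, map_mul]
      exact Subgroup.mem_centralizer_iff.mp hwC _ (hQmem g g.2)
    have h2 : (g : G) * q * (q * (g : G))⁻¹ ∈ N ⊓ Q := by
      constructor
      · apply hmk1'
        rw [map_mul, map_inv, h1, mul_inv_cancel]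
      · exact Q.mul_mem (Q.mul_mem g.2 hq) (Q.inv_mem (Q.mul_mem hq g.2))
    rw [hQN, Subgroup.mem_bot] at h2
    exact mul_inv_eq_one.mp h2
  have hW1 : W ≠ ⊥ := by
    intro hbot
    have hzm : QuotientGroup.mk' N (z.1.1) ∈ W := by
      rw [hWdef]
      refine Subgroup.mem_inf.mpr ⟨hQmem _ z.1.2, ?_⟩
      rw [Subgroup.mem_centralizer_iff]
      intro k hk
      obtain ⟨q, hq, rfl⟩ := hS k hk
      rw [← map_mul, ← map_mul]
      congr 1
      have := Subgroup.mem_center_iff.mp z.2 ⟨q, hq⟩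
      exact congrArg Subtype.val this
    rw [hbot, Subgroup.mem_bot] at hzm
    have := hI _ z.1.2 hzm
    apply hz1
    apply Subtype.ext
    apply Subtype.ext
    exact this
  haveI hWcyc : IsCyclic W := by
    haveI : IsCyclic (Z0.map (QuotientGroup.mk' N)) :=
      isCyclic_of_surjective ((QuotientGroup.mk' N).subgroupMap Z0)
        (MonoidHom.subgroupMap_surjective _ _)
    exact Subgroup.isCyclic_of_le hWle
  obtain ⟨w0, hw0⟩ := (Subgroup.isCyclic_iff_exists_zpowers_eq_top W).mp hWcyc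
  have hw0W : w0 ∈ W := by rw [← hw0]; exact Subgroup.mem_zpowers w0
  have hw01 : w0 ≠ 1 := by
    rintro rfl
    apply hW1
    rw [← hw0, Subgroup.zpowers_one_eq_bot]
  have hw0A : IsPiNat Aᶜ (orderOf w0) := by
    refine hKbA.of_dvd ?_
    have := orderOf_dvd_natCard (⟨w0, hWKb hw0W⟩ : Kb)
    rwa [Subgroup.orderOf_mk] at this
  have hCA : IsPiNat Aᶜ (Nat.card (Subgroup.centralizer (W : Set (G ⧸ N)))) := by
    intro p hp hdvd
    rw [Set.mem_compl_iff]
    intro hpA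
    haveI := Fact.mk hp
    obtain ⟨x, hx⟩ := exists_prime_orderOf_dvd_card' p hdvd
    have hxc : w0 * (x : G ⧸ N) = (x : G ⧸ N) * w0 :=
      Subgroup.mem_centralizer_iff.mp x.2 w0 hw0W
    refine hQNC.not_commute (x := (x : G ⧸ N)) (y := w0) ?_ hw01 ?_ hw0A hxc.symm
    · intro h1
      have : orderOf (x : G ⧸ N) = 1 := by rw [h1, orderOf_one]
      rw [Subgroup.orderOf_coe, hx] at this
      exact hp.one_lt.ne' this
    · rw [Subgroup.orderOf_coe, hx]
      intro q hq hqd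
      rw [(Nat.prime_dvd_prime_iff_eq hq hp).mp hqd]
      exact hpA
  have hCle : Subgroup.centralizer (W : Set (G ⧸ N)) ≤ Kb := hKb_max _ inferInstance hCA
  have hconj : ∀ x : G ⧸ N, ∃ i : ℤ, x * w0 * x⁻¹ = w0 ^ i := by
    intro x
    have : x * w0 * x⁻¹ ∈ W := hWn.conj_mem w0 hw0W x
    rw [← hw0] at this
    obtain ⟨i, hi⟩ := Subgroup.mem_zpowers_iff.mp this
    exact ⟨i, hi.symm⟩
  have hAB : ∀ x y : G ⧸ N, (y * x)⁻¹ * (x * y) ∈ Kb := by
    intro x y
    apply hCle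
    rw [Subgroup.mem_centralizer_iff]
    intro w hw
    rw [SetLike.mem_coe, ← hw0] at hw
    obtain ⟨k, rfl⟩ := Subgroup.mem_zpowers_iff.mp hw
    obtain ⟨i, hi⟩ := hconj x
    obtain ⟨j, hj⟩ := hconj y
    have h1 : (x * y) * w0 * (x * y)⁻¹ = w0 ^ (j * i) := by
      calc (x * y) * w0 * (x * y)⁻¹ = x * (y * w0 * y⁻¹) * x⁻¹ := by group
        _ = x * w0 ^ j * x⁻¹ := by rw [hj]
        _ = (x * w0 * x⁻¹) ^ j := by rw [conj_zpow]
        _ = w0 ^ (j * i) := by rw [hi, ← zpow_mul, mul_comm]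
    have h2 : (y * x) * w0 * (y * x)⁻¹ = w0 ^ (j * i) := by
      calc (y * x) * w0 * (y * x)⁻¹ = y * (x * w0 * x⁻¹) * y⁻¹ := by group
        _ = y * w0 ^ i * y⁻¹ := by rw [hi]
        _ = (y * w0 * y⁻¹) ^ i := by rw [conj_zpow]
        _ = w0 ^ (j * i) := by rw [hj, ← zpow_mul]
    have h3 : w0 * ((y * x)⁻¹ * (x * y)) = (y * x)⁻¹ * (x * y) * w0 := by
      have h4 : (x * y) * w0 * (x * y)⁻¹ = (y * x) * w0 * (y * x)⁻¹ := by rw [h1, h2]
      calc w0 * ((y * x)⁻¹ * (x * y))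
          = (y * x)⁻¹ * ((y * x) * w0 * (y * x)⁻¹) * (x * y) := by group
        _ = (y * x)⁻¹ * ((x * y) * w0 * (x * y)⁻¹) * (x * y) := by rw [h4]
        _ = (y * x)⁻¹ * (x * y) * w0 := by group
    exact (Commute.zpow_left (show Commute w0 ((y * x)⁻¹ * (x * y)) from h3) k).eq
  have hnormal_of_le : ∀ M : Subgroup (G ⧸ N), Kb ≤ M → M.Normal := by
    intro M hM
    constructor
    intro m hm g
    have h1 := hAB g⁻¹ m⁻¹
    have h2 : g * m * g⁻¹ = (m⁻¹ * g⁻¹)⁻¹ * (g⁻¹ * m⁻¹) * m := by group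
    rw [h2]
    exact M.mul_mem (hM h1) hm
  have hidx : IsPiNat A Kb.index := by
    intro b hbp hdvd
    by_contra hbA
    haveI := Fact.mk hbp
    obtain S : Sylow b (G ⧸ N) := default
    have hSA : IsPiNat Aᶜ (Nat.card (S : Subgroup (G ⧸ N))) :=
      isPiNat_of_isPGroup hbp hbA S.isPGroup'
    haveI hMn : (Kb ⊔ (S : Subgroup (G ⧸ N))).Normal := hnormal_of_le _ le_sup_left
    have hMA : IsPiNat Aᶜ (Nat.card (Kb ⊔ (S : Subgroup (G ⧸ N)) : Subgroup (G ⧸ N))) := by
      have h1 := card_sup_dvd (S : Subgroup (G ⧸ N)) Kb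
      rw [sup_comm]
      exact (hSA.mul hKbA).of_dvd h1
    have hSK : (S : Subgroup (G ⧸ N)) ≤ Kb := le_trans le_sup_right (hKb_max _ hMn hMA)
    exact S.not_dvd_index (dvd_trans hdvd (Subgroup.index_dvd_of_le hSK))
  have hcopK : (Nat.card Kb).Coprime Kb.index := (coprime_of_isPiNat hidx hKbA).symm
  obtain ⟨Rb, hRb⟩ := Subgroup.exists_right_complement'_of_coprime hcopK
  have hcardRb : Nat.card Rb = Kb.index := by
    have h1 := hRb.card_mul_card
    have h2 := Subgroup.card_mul_index Kb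
    exact Nat.eq_of_mul_eq_mul_left Nat.card_pos (by rw [h1, h2])
  have hFrobK : Cfsg.IsFrobeniusComplement H ∧
      Cfsg.frobeniusKernel H = ((N.subgroupOf K : Subgroup ↥K) : Set ↥K) := by
    apply Cfsg.Agent.H2.FrobInt.frobenius_of_fpf (N.subgroupOf K) H hH.sup_eq_top
      (disjoint_iff.mp hH.disjoint)
    · intro hbot
      apply hQ1
      rw [hQdef, hbot, Subgroup.map_bot]
    · intro hbot
      apply hNne
      rw [eq_bot_iff]
      intro n hn
      have : (⟨n, hNK hn⟩ : ↥K) ∈ N.subgroupOf K := by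
        rw [Subgroup.mem_subgroupOf]; exact hn
      rw [hbot, Subgroup.mem_bot] at this
      rw [Subgroup.mem_bot]
      exact congrArg Subtype.val this
    · intro h hh hh1 n hn hc
      have h1 := hfpf (h : G) (by rw [hQdef]; exact ⟨h, hh, rfl⟩)
        (by intro h0; apply hh1; exact Subtype.ext h0) (n : G) (Subgroup.mem_subgroupOf.mp hn)
        (by exact_mod_cast congrArg Subtype.val hc)
      exact Subtype.ext h1
  by_cases hKtop : Kb = ⊤
  · left
    refine ⟨Q, ?_⟩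
    have hKG : K = ⊤ := by rw [hKdef, hKtop, Subgroup.comap_top]
    exact (Cfsg.Agent.H2.FrobInt.frobenius_of_fpf N Q (by rw [hNQ, hKG]) hQN hQ1 hNne hfpf).1
  · right
    refine ⟨N, K, hNn, hKn, ?_, ⟨H, hFrobK⟩, ?_⟩
    · refine lt_of_le_of_ne hNK ?_
      intro hNKeq
      apply hKb1
      rw [← hKmap, ← hNKeq, QuotientGroup.map_mk'_self]
    · refine ⟨Rb, ?_⟩
      rw [hKmap]
      apply Cfsg.Agent.H2.FrobInt.frobenius_of_fpf Kb Rb hRb.sup_eq_top
        (disjoint_iff.mp hRb.disjoint)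
      · intro hbot
        apply hKtop
        have : Kb.index = 1 := by rw [← hcardRb, hbot, Subgroup.card_bot]
        exact Subgroup.index_eq_one.mp this
      · exact hKb1
      · intro h hh hh1 n hn hc
        by_contra hn1
        refine hQNC.not_commute hh1 hn1 ?_ ?_ hc
        · have hRA : IsPiNat A (Nat.card Rb) := by rw [hcardRb]; exact hidx
          refine hRA.of_dvd ?_
          have := orderOf_dvd_natCard (⟨h, hh⟩ : Rb)
          rwa [Subgroup.orderOf_mk] at this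
        · refine hKbA.of_dvd ?_
          have := orderOf_dvd_natCard (⟨n, hn⟩ : Kb)
          rwa [Subgroup.orderOf_mk] at this

end Cfsg.Agent.H1
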