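import Mathlib
import Cfsg.Agent.H2.FrobComplPQ
import Cfsg.Agent.H2.FrobComplSylow
import Cfsg.Agent.H1.GruenbergKegel
import Cfsg.Agent.Lib.Helper7.Core
import Cfsg.Agent.Lib.Helper4.MinNormal

set_option autoImplicit false

namespace Cfsg.Agent.H1.EPPO

open scoped Pointwise

variable {X : Type*} [Group X]

/-- every nonidentity element has prime power order -/
def IsEPPO (X : Type*) [Group X] : Prop := ∀ g : X, g ≠ 1 → IsPrimePow (orderOf g)

lemma IsEPPO.subgroup (h : IsEPPO X) (H : Subgroup X) : IsEPPO H := by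
  intro g hg
  rw [Subgroup.orderOf_coe g |>.symm]
  apply h
  intro h1
  apply hg
  exact Subtype.ext h1

lemma IsEPPO.of_surjective [Finite X] {Y : Type*} [Group Y] (h : IsEPPO X) (f : X →* Y)
    (hf : Function.Surjective f) : IsEPPO Y := by
  intro y hy
  obtain ⟨x, rfl⟩ := hf y
  have hx : x ≠ 1 := by
    rintro rfl
    exact hy (map_one f)
  obtain ⟨r, k, hr, hk, hrk⟩ := h x hx
  have hdvd : orderOf (f x) ∣ r ^ k := by
    rw [hrk]; exact orderOf_map_dvd f x
  obtain ⟨j, hj, hjeq⟩ := (Nat.dvd_prime_pow hr.nat_prime).mp hdvd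
  refine ⟨r, j, hr, ?_, hjeq.symm⟩
  rcases Nat.eq_zero_or_pos j with h0 | h0
  · exfalso
    rw [h0, pow_zero, orderOf_eq_one_iff] at hjeq
    exact hy hjeq
  · exact h0

lemma IsEPPO.pow_of_commute (h : IsEPPO X) {a c : X} {q : ℕ} (hq : q.Prime)
    (ha : orderOf a = q) (hc : Commute a c) : ∃ k : ℕ, orderOf c = q ^ k := by
  by_cases hc1 : c = 1
  · exact ⟨0, by rw [hc1, orderOf_one, pow_zero]⟩
  obtain ⟨r, k, hr, hk, hrk⟩ := h c hc1
  have hr' := hr.nat_prime
  by_cases hrq : r = q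
  · exact ⟨k, by rw [← hrk, hrq]⟩
  exfalso
  have hcop : (orderOf a).Coprime (orderOf c) := by
    rw [ha, ← hrk]
    exact Nat.Coprime.pow_right k ((Nat.coprime_primes hq hr').mpr (Ne.symm hrq))
  have hord := hc.orderOf_mul_eq_mul_orderOf_of_coprime hcop
  have hne : a * c ≠ 1 := by
    intro h1
    rw [h1, orderOf_one, ha, ← hrk] at hord
    have : 1 < q * r ^ k := by
      have h2 : 2 ≤ q := hq.two_le
      have h3 : 1 ≤ r ^ k := Nat.one_le_pow _ _ hr'.pos
      nlinarith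
    omega
  have hpp := h (a * c) hne
  rw [hord, ha, ← hrk] at hpp
  rw [isPrimePow_iff_unique_prime_dvd] at hpp
  obtain ⟨s, -, hs⟩ := hpp
  have h1 := hs q ⟨hq, dvd_mul_right _ _⟩
  have h2 := hs r ⟨hr', dvd_mul_of_dvd_right (dvd_pow_self r hk.ne') _⟩
  exact hrq (h2.trans h1.symm)

/-- elements of order prime to `p` act fixed-point-freely on `p`-subgroups -/
lemma IsEPPO.fpf (h : IsEPPO X) {p : ℕ} [hp : Fact p.Prime] (P : Subgroup X) (hP : IsPGroup p P)
    (y : X) (hy : y ≠ 1) (hpy : ¬ p ∣ orderOf y) : P ⊓ Subgroup.centralizer {y} = ⊥ := by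
  rw [eq_bot_iff]
  intro x hx
  rw [Subgroup.mem_bot]
  obtain ⟨hxP, hxC⟩ := Subgroup.mem_inf.mp hx
  rw [Subgroup.mem_centralizer_iff] at hxC
  have hcomm : Commute y x := hxC y rfl
  obtain ⟨r, k, hr, hk, hrk⟩ := h y hy
  have hr' := hr.nat_prime
  have hrp : r ≠ p := by
    rintro rfl
    exact hpy (hrk ▸ dvd_pow_self r hk.ne')
  obtain ⟨y', hy'⟩ : ∃ y' : X, y' = y ^ (r ^ (k - 1)) := ⟨_, rfl⟩
  have hy'o : orderOf y' = r := by
    rw [hy', orderOf_pow_of_dvd (pow_ne_zero _ hr'.ne_zero), ← hrk]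
    · rw [Nat.pow_div (Nat.sub_le k 1) hr'.pos]
      have : k - (k - 1) = 1 := by omega
      rw [this, pow_one]
    · rw [← hrk]; exact pow_dvd_pow r (by omega)
  have hcomm' : Commute y' x := by rw [hy']; exact hcomm.pow_left _
  obtain ⟨j, hj⟩ := h.pow_of_commute hr' hy'o hcomm'
  obtain ⟨i, hi⟩ := (IsPGroup.iff_orderOf.mp hP) ⟨x, hxP⟩
  rw [Subgroup.orderOf_mk] at hi
  have : orderOf x = 1 := by
    have hcop : (r ^ j).Coprime (p ^ i) :=
      Nat.Coprime.pow _ _ ((Nat.coprime_primes hr' hp.out).mpr hrp)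
    rw [← hj, ← hi] at hcop
    exact (Nat.coprime_self _).mp hcop
  exact orderOf_eq_one_iff.mp this

/-- in a `q`-group acting fixed-point-freely, elements of order `q` generate the same subgroup -/
lemma mem_zpowers_of_fpf [Finite X] (K Q : Subgroup X) [K.Normal] (hK : K ≠ ⊥)
    (hfpf : ∀ h ∈ Q, h ≠ 1 → K ⊓ Subgroup.centralizer {h} = ⊥) (q : ℕ) [hq : Fact q.Prime]
    (hQ : IsPGroup q Q) {a b : X} (ha : a ∈ Q) (hb : b ∈ Q) (hao : orderOf a = q)
    (hbo : orderOf b = q) : b ∈ Subgroup.zpowers a := by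
  obtain ⟨S, hS⟩ := IsPGroup.exists_le_sylow (hQ.to_subgroup (⊤ : Subgroup ↥Q))
  obtain ⟨a', ha'⟩ : ∃ a' : ↥(S : Subgroup ↥Q), ((a' : ↥Q) : X) = a :=
    ⟨⟨⟨a, ha⟩, hS (Subgroup.mem_top _)⟩, rfl⟩
  obtain ⟨b', hb'⟩ : ∃ b' : ↥(S : Subgroup ↥Q), ((b' : ↥Q) : X) = b :=
    ⟨⟨⟨b, hb⟩, hS (Subgroup.mem_top _)⟩, rfl⟩
  have hoa : orderOf a' = q := by
    have h1 : orderOf a' = orderOf a := by
      rw [← ha', Subgroup.orderOf_coe, Subgroup.orderOf_coe]
    rw [h1, hao]
  have hob : orderOf b' = q := by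
    have h1 : orderOf b' = orderOf b := by
      rw [← hb', Subgroup.orderOf_coe, Subgroup.orderOf_coe]
    rw [h1, hbo]
  have hU : Nat.card (Subgroup.zpowers a') = q := by rw [Nat.card_zpowers, hoa]
  have hV : Nat.card (Subgroup.zpowers b') = q := by rw [Nat.card_zpowers, hob]
  have hUV := Cfsg.Agent.H2.FCS.huniq_of_fpf K Q hK hfpf q S _ _ hU hV
  have hmem : b' ∈ Subgroup.zpowers a' := by rw [hUV]; exact Subgroup.mem_zpowers b'
  obtain ⟨k, hk⟩ := Subgroup.mem_zpowers_iff.mp hmem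
  rw [Subgroup.mem_zpowers_iff]
  refine ⟨k, ?_⟩
  rw [← ha', ← hb', ← hk]
  simp

/-- the key configuration: a nontrivial `q`-subgroup acting on a nontrivial normal `p`-subgroup
has an element of order `q` generating a subgroup normalized by `N(Q)` -/
lemma core [Finite X] (h : IsEPPO X) {p q : ℕ} [hp : Fact p.Prime] [hq : Fact q.Prime] (hpq : p ≠ q)
    (P Q : Subgroup X) [P.Normal] (hP : IsPGroup p P) (hP1 : P ≠ ⊥) (hQ : IsPGroup q Q)
    (hQ1 : Q ≠ ⊥) :
    ∃ a ∈ Q, orderOf a = q ∧ ∀ x ∈ Subgroup.normalizer (Q : Set X), x * a * x⁻¹ ∈ Subgroup.zpowers a := by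
  have hfpf : ∀ y ∈ Q, y ≠ 1 → P ⊓ Subgroup.centralizer {y} = ⊥ := by
    intro y hy hy1
    apply h.fpf P hP y hy1
    obtain ⟨k, hk⟩ := (IsPGroup.iff_orderOf.mp hQ) ⟨y, hy⟩
    rw [Subgroup.orderOf_mk] at hk
    rw [hk]
    intro hdvd
    exact hpq ((Nat.prime_dvd_prime_iff_eq hp.out hq.out).mp (hp.out.dvd_of_dvd_pow hdvd))
  have hqQ : q ∣ Nat.card Q := by
    obtain ⟨n, hn⟩ := IsPGroup.iff_card.mp hQ
    rcases Nat.eq_zero_or_pos n with h0 | h0
    · exfalso
      rw [h0, pow_zero] at hn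
      exact hQ1 (Subgroup.card_eq_one.mp hn)
    · rw [hn]; exact dvd_pow_self q h0.ne'
  obtain ⟨a', ha'⟩ := exists_prime_orderOf_dvd_card' q hqQ
  refine ⟨a', a'.2, by rw [← ha', Subgroup.orderOf_coe], ?_⟩
  intro x hx
  have hmem : x * a' * x⁻¹ ∈ Q := (Subgroup.mem_normalizer_iff.mp hx a').mp a'.2
  have hord : orderOf (x * (a' : X) * x⁻¹) = q := by
    have := (MulAut.conj x).orderOf_eq (a' : X)
    rw [MulAut.conj_apply] at this
    rw [this, Subgroup.orderOf_coe, ha']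
  exact mem_zpowers_of_fpf P Q hP1 hfpf q hQ a'.2 hmem (by rw [Subgroup.orderOf_coe, ha']) hord

lemma conj_zpow_mem {a x : X} (hx : x * a * x⁻¹ ∈ Subgroup.zpowers a) (m : ℤ) :
    ∃ i : ℤ, x * a ^ m * x⁻¹ = (a ^ i) ^ m := by
  obtain ⟨i, hi⟩ := Subgroup.mem_zpowers_iff.mp hx
  refine ⟨i, ?_⟩
  rw [hi, conj_zpow]

/-- a subgroup normalizing `⟨a⟩`, `a` of prime order, in an EPPO group is solvable -/
lemma isSolvable_of_normalizes [Finite X] (h : IsEPPO X) {q : ℕ} [hq : Fact q.Prime] (N : Subgroup X)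
    (a : X) (hao : orderOf a = q) (hN : ∀ x ∈ N, x * a * x⁻¹ ∈ Subgroup.zpowers a) :
    Group.IsSolvable N := by
  have hcomm : ∀ x ∈ N, ∀ y ∈ N, Commute a (x⁻¹ * y⁻¹ * x * y) := by
    intro x hx y hy
    obtain ⟨i, hi⟩ := Subgroup.mem_zpowers_iff.mp (hN x hx)
    obtain ⟨j, hj⟩ := Subgroup.mem_zpowers_iff.mp (hN y hy)
    have h1 : (x * y) * a * (x * y)⁻¹ = a ^ (i * j) := by
      have : (x * y) * a * (x * y)⁻¹ = x * (y * a * y⁻¹) * x⁻¹ := by group
      rw [this, ← hj, ← conj_zpow, ← hi, ← zpow_mul]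
    have h2 : (y * x) * a * (y * x)⁻¹ = a ^ (i * j) := by
      have : (y * x) * a * (y * x)⁻¹ = y * (x * a * x⁻¹) * y⁻¹ := by group
      rw [this, ← hi, ← conj_zpow, ← hj, ← zpow_mul, mul_comm]
    have h3 : (x * y) * a * (x * y)⁻¹ = (y * x) * a * (y * x)⁻¹ := by rw [h1, h2]
    show a * (x⁻¹ * y⁻¹ * x * y) = (x⁻¹ * y⁻¹ * x * y) * a
    have : a * (x⁻¹ * y⁻¹ * x * y) = (y * x)⁻¹ * ((y * x) * a * (y * x)⁻¹) * (x * y) := by group
    rw [this, ← h3]
    group
  have hD : ∀ d ∈ commutator ↥N, Commute a (d : X) := by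
    intro d hd
    have hle : commutator ↥N ≤ (Subgroup.centralizer {a}).subgroupOf N := by
      rw [commutator_def, Subgroup.commutator_le]
      intro x _ y _
      rw [Subgroup.mem_subgroupOf, Subgroup.mem_centralizer_iff]
      intro b hb
      rw [Set.mem_singleton_iff] at hb
      subst hb
      have := hcomm (x⁻¹ : ↥N) (Subgroup.inv_mem _ x.2) (y⁻¹ : ↥N) (Subgroup.inv_mem _ y.2)
      simp only [inv_inv, Subgroup.coe_inv] at this
      rw [commutatorElement_def]
      have h2 := this.eq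
      simpa using h2
    have := hle hd
    rw [Subgroup.mem_subgroupOf, Subgroup.mem_centralizer_iff] at this
    exact this a rfl
  have hDp : IsPGroup q (commutator ↥N) := by
    rw [IsPGroup.iff_orderOf]
    intro d
    obtain ⟨k, hk⟩ := h.pow_of_commute hq.out hao (hD d d.2)
    exact ⟨k, by rw [← hk, Subgroup.orderOf_coe, Subgroup.orderOf_coe]⟩
  haveI : Group.IsNilpotent (commutator ↥N) := hDp.isNilpotent
  haveI : Group.IsSolvable (commutator ↥N) := inferInstance
  refine Group.isSolvable_of_ker_le_range (commutator ↥N).subtype (Abelianization.of (G := ↥N)) ?_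
  rw [Abelianization.ker_of, Subgroup.range_subtype]

lemma card_sup_zpowers [Finite X] {q r : ℕ} (hq : q.Prime) (hr : r.Prime) (hqr : q ≠ r) (a y : X)
    (hao : orderOf a = q) (hyo : orderOf y = r) (hy : y * a * y⁻¹ ∈ Subgroup.zpowers a) :
    Nat.card (Subgroup.zpowers y ⊔ Subgroup.zpowers a : Subgroup X) = q * r := by
  have hnorm : Subgroup.zpowers y ≤ Subgroup.normalizer (Subgroup.zpowers a : Set X) := by
    rw [Subgroup.zpowers_le]
    apply Subgroup.mem_normalizer_fintype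
    intro n hn
    obtain ⟨m, rfl⟩ := Subgroup.mem_zpowers_iff.mp hn
    obtain ⟨i, hi⟩ := conj_zpow_mem hy m
    rw [hi]
    exact Subgroup.zpow_mem _ (Subgroup.zpow_mem _ (Subgroup.mem_zpowers a) i) m
  have hle : Nat.card (Subgroup.zpowers y ⊔ Subgroup.zpowers a : Subgroup X) ≤ q * r := by
    have h1 := Subgroup.coe_mul_of_left_le_normalizer_right _ _ hnorm
    have h2 : Nat.card (Subgroup.zpowers y ⊔ Subgroup.zpowers a : Subgroup X) =
        Nat.card ((Subgroup.zpowers y : Set X) * (Subgroup.zpowers a : Set X)) := by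
      rw [← h1]; rfl
    rw [h2]
    refine (Set.natCard_mul_le).trans ?_
    have h3 : Nat.card (Subgroup.zpowers y : Set X) = r := by
      rw [← hyo, ← Nat.card_zpowers]; rfl
    have h4 : Nat.card (Subgroup.zpowers a : Set X) = q := by
      rw [← hao, ← Nat.card_zpowers]; rfl
    rw [h3, h4, mul_comm]
  have hq' : q ∣ Nat.card (Subgroup.zpowers y ⊔ Subgroup.zpowers a : Subgroup X) := by
    have := Subgroup.card_dvd_of_le (le_sup_right : Subgroup.zpowers a ≤ Subgroup.zpowers y ⊔ Subgroup.zpowers a)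
    rwa [Nat.card_zpowers, hao] at this
  have hr' : r ∣ Nat.card (Subgroup.zpowers y ⊔ Subgroup.zpowers a : Subgroup X) := by
    have := Subgroup.card_dvd_of_le (le_sup_left : Subgroup.zpowers y ≤ Subgroup.zpowers y ⊔ Subgroup.zpowers a)
    rwa [Nat.card_zpowers, hyo] at this
  have hdvd : q * r ∣ Nat.card (Subgroup.zpowers y ⊔ Subgroup.zpowers a : Subgroup X) :=
    Nat.Coprime.mul_dvd_of_dvd_of_dvd ((Nat.coprime_primes hq hr).mpr hqr) hq' hr'
  exact le_antisymm hle (Nat.le_of_dvd Nat.card_pos hdvd)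

/-- elements of prime order in `N(Q)` have order `p` or `q` -/
lemma prime_order_in_normalizer [Finite X] (h : IsEPPO X) {p q : ℕ} [hp : Fact p.Prime]
    [hq : Fact q.Prime] (hpq : p ≠ q) (P Q : Subgroup X) [P.Normal] (hP : IsPGroup p P) (hP1 : P ≠ ⊥)
    (hQ : IsPGroup q Q) (hQ1 : Q ≠ ⊥) (y : X) (hy : y ∈ Subgroup.normalizer (Q : Set X)) {r : ℕ}
    (hr : r.Prime) (hyo : orderOf y = r) : r = p ∨ r = q := by
  by_contra hcon
  push Not at hcon
  obtain ⟨hrp, hrq⟩ := hcon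
  obtain ⟨a, haQ, hao, hnorm⟩ := core h hpq P Q hP hP1 hQ hQ1
  have hcard := card_sup_zpowers hq.out hr (Ne.symm hrq) a y hao hyo (hnorm y hy)
  obtain ⟨A, hA⟩ : ∃ A : Subgroup X, A = Subgroup.zpowers y ⊔ Subgroup.zpowers a := ⟨_, rfl⟩
  rw [← hA] at hcard
  have hfpf : ∀ b ∈ A, b ≠ 1 → P ⊓ Subgroup.centralizer {b} = ⊥ := by
    intro b hb hb1
    apply h.fpf P hP b hb1
    intro hdvd
    have h1 : orderOf b ∣ q * r := by
      rw [← hcard]
      have := Subgroup.orderOf_dvd_natCard A hb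
      exact this
    have h2 : p ∣ q * r := hdvd.trans h1
    rcases (Nat.Prime.dvd_mul hp.out).mp h2 with h3 | h3
    · exact hpq ((Nat.prime_dvd_prime_iff_eq hp.out hq.out).mp h3)
    · exact hrp ((Nat.prime_dvd_prime_iff_eq hp.out hr).mp h3).symm
  have hcyc := Cfsg.Agent.H2.FCPQ.isCyclic_of_card_pq P A hP1 hfpf q r hq.out hr hcard
  obtain ⟨g, hg⟩ := hcyc.exists_generator
  have hgo : orderOf g = q * r := by
    rw [orderOf_eq_card_of_forall_mem_zpowers hg, hcard]
  have hg1 : (g : X) ≠ 1 := by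
    intro h1
    have : orderOf (g : X) = 1 := by rw [h1, orderOf_one]
    rw [Subgroup.orderOf_coe, hgo] at this
    have h2 := hq.out.two_le
    have h3 := hr.two_le
    nlinarith
  have hpp := h (g : X) hg1
  rw [Subgroup.orderOf_coe, hgo, isPrimePow_iff_unique_prime_dvd] at hpp
  obtain ⟨s, -, hs⟩ := hpp
  have h1 := hs q ⟨hq.out, dvd_mul_right _ _⟩
  have h2 := hs r ⟨hr, dvd_mul_left _ _⟩
  exact hrq (h2.trans h1.symm)

lemma isSolvable_of_sup_eq_top {G : Type*} [Group G] (N R : Subgroup G) [R.Normal]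
    (hN : Group.IsSolvable N) (hR : Group.IsSolvable R) (h : N ⊔ R = ⊤) : Group.IsSolvable G := by
  have hsurj : Function.Surjective ((QuotientGroup.mk' R).comp N.subtype) := by
    intro y
    obtain ⟨g, rfl⟩ := QuotientGroup.mk'_surjective R y
    have hg : g ∈ (↑(N ⊔ R) : Set G) := by rw [h]; exact Subgroup.mem_top g
    rw [Subgroup.mul_normal N R] at hg
    obtain ⟨n, hn, r, hr, rfl⟩ := Set.mem_mul.mp hg
    refine ⟨⟨n, hn⟩, ?_⟩
    simp only [MonoidHom.coe_comp, Function.comp_apply, Subgroup.subtype_apply,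
      QuotientGroup.mk'_apply, QuotientGroup.mk_mul]
    rw [(QuotientGroup.eq_one_iff r).mpr hr, mul_one]
  haveI : Group.IsSolvable (G ⧸ R) := Group.isSolvable_of_surjective hsurj
  refine Group.isSolvable_of_ker_le_range R.subtype (QuotientGroup.mk' R) ?_
  rw [QuotientGroup.ker_mk', Subgroup.range_subtype]

/-- the solvable radical of a nonsolvable EPPO group is a `p`-group -/
theorem radical_isPGroup {G : Type*} [Group G] [Finite G] (h : IsEPPO G)
    (hns : ¬ Group.IsSolvable G) (R : Subgroup G) [R.Normal] (hRs : Group.IsSolvable R) :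
    ∃ p : ℕ, p.Prime ∧ IsPGroup p R := by
  by_cases hR : R = ⊥
  · refine ⟨2, Nat.prime_two, ?_⟩
    rw [hR]
    exact IsPGroup.of_bot
  haveI : Nontrivial ↥R := (Subgroup.nontrivial_iff_ne_bot R).mpr hR
  obtain ⟨p, hp, hcore⟩ := Cfsg.Agent.H1.exists_pCore_ne_bot ↥R
  haveI : Fact p.Prime := ⟨hp⟩
  refine ⟨p, hp, ?_⟩
  by_contra hnot
  haveI : (Cfsg.pCore p ↥R).Characteristic := Cfsg.Agent.Lib.Helper7.pCore_characteristic p ↥R
  obtain ⟨P, hPdef⟩ : ∃ P : Subgroup G, P = (Cfsg.pCore p ↥R).map R.subtype := ⟨_, rfl⟩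
  haveI hPn : P.Normal := by rw [hPdef]; exact ConjAct.normal_of_characteristic_of_normal
  have hPp : IsPGroup p P := by rw [hPdef]; exact (Cfsg.Agent.Lib.Helper7.pCore_isPGroup p ↥R).map _
  have hP1 : P ≠ ⊥ := by
    rw [hPdef]
    intro hb
    exact hcore ((Subgroup.map_eq_bot_iff_of_injective _ R.subtype_injective).mp hb)
  -- a prime `q ≠ p` dividing `#R`
  rw [IsPGroup.iff_orderOf] at hnot
  push Not at hnot
  obtain ⟨x, hx⟩ := hnot
  have hx1 : (x : G) ≠ 1 := by
    intro h1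
    apply hx 0
    rw [Subgroup.orderOf_coe x |>.symm, h1, orderOf_one, pow_zero]
  obtain ⟨q, k, hq, hk, hqk⟩ := h (x : G) hx1
  have hq' := hq.nat_prime
  haveI : Fact q.Prime := ⟨hq'⟩
  have hpq : p ≠ q := by
    rintro rfl
    exact hx k (by rw [← Subgroup.orderOf_coe, hqk])
  have hqR : q ∣ Nat.card R := by
    have h1 : q ∣ orderOf x := by
      rw [← Subgroup.orderOf_coe, ← hqk]; exact dvd_pow_self q hk.ne'
    exact h1.trans (orderOf_dvd_natCard x)
  obtain ⟨Q⟩ : Nonempty (Sylow q ↥R) := inferInstance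
  have hQ1 : (Q : Subgroup ↥R) ≠ ⊥ := Q.ne_bot_of_dvd_card hqR
  obtain ⟨Q0, hQ0⟩ : ∃ Q0 : Subgroup G, Q0 = (Q : Subgroup ↥R).map R.subtype := ⟨_, rfl⟩
  have hQ0p : IsPGroup q Q0 := by rw [hQ0]; exact Q.isPGroup'.map _
  have hQ01 : Q0 ≠ ⊥ := by
    rw [hQ0]
    intro hb
    exact hQ1 ((Subgroup.map_eq_bot_iff_of_injective _ R.subtype_injective).mp hb)
  have hfrat : Subgroup.normalizer (Q0 : Set G) ⊔ R = ⊤ := by
    rw [hQ0]; exact Sylow.normalizer_sup_eq_top Q
  obtain ⟨a, -, hao, hnorm⟩ := core h hpq P Q0 hPp hP1 hQ0p hQ01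
  have hNs := isSolvable_of_normalizes h (Subgroup.normalizer (Q0 : Set G)) a hao hnorm
  exact hns (isSolvable_of_sup_eq_top _ R hNs hRs hfrat)

/-- a solvable EPPO group involves at most two primes -/
theorem solvable_primeFactors_le {X : Type*} [Group X] [Finite X] (h : IsEPPO X)
    [Group.IsSolvable X] : (Nat.card X).primeFactors.card ≤ 2 := by
  rcases subsingleton_or_nontrivial X with hsub | hnt
  · rw [Nat.card_of_subsingleton (1 : X)]
    simp
  obtain ⟨p, hp, hP1⟩ := Cfsg.Agent.H1.exists_pCore_ne_bot X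
  haveI : Fact p.Prime := ⟨hp⟩
  obtain ⟨P, hPdef⟩ : ∃ P : Subgroup X, P = Cfsg.pCore p X := ⟨_, rfl⟩
  haveI hPn : P.Normal := by rw [hPdef]; infer_instance
  have hPp : IsPGroup p P := by rw [hPdef]; exact Cfsg.Agent.Lib.Helper7.pCore_isPGroup p X
  rw [← hPdef] at hP1
  rcases subsingleton_or_nontrivial (X ⧸ P) with hsub | hnt2
  · -- `X` is a `p`-group
    have htop : P = ⊤ := by
      rw [eq_top_iff]
      intro x _
      rw [← QuotientGroup.eq_one_iff]
      exact Subsingleton.elim _ _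
    have hXp : IsPGroup p X := by
      have e : ↥(⊤ : Subgroup X) ≃* X := Subgroup.topEquiv
      rw [htop] at hPp
      exact hPp.of_equiv e
    obtain ⟨n, hn⟩ := IsPGroup.iff_card.mp hXp
    rw [hn]
    rcases Nat.eq_zero_or_pos n with h0 | h0
    · rw [h0, pow_zero]; simp
    · rw [Nat.primeFactors_prime_pow h0.ne' hp]; simp
  have hY : IsEPPO (X ⧸ P) := h.of_surjective (QuotientGroup.mk' P) (QuotientGroup.mk'_surjective P)
  obtain ⟨s, hs, hS1⟩ := Cfsg.Agent.H1.exists_pCore_ne_bot (X ⧸ P)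
  haveI : Fact s.Prime := ⟨hs⟩
  obtain ⟨K, hKdef⟩ : ∃ K : Subgroup X, K = (Cfsg.pCore s (X ⧸ P)).comap (QuotientGroup.mk' P) :=
    ⟨_, rfl⟩
  haveI hKn : K.Normal := by rw [hKdef]; infer_instance
  have hmemK : ∀ k : X, k ∈ K ↔ (QuotientGroup.mk' P k) ∈ Cfsg.pCore s (X ⧸ P) := by
    intro k; rw [hKdef, Subgroup.mem_comap]
  have hSp : IsPGroup s (Cfsg.pCore s (X ⧸ P)) := Cfsg.Agent.Lib.Helper7.pCore_isPGroup s _
  have hsp : p ≠ s := by
    rintro rfl
    have hKp : IsPGroup p K := by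
      rw [hKdef]
      apply hSp.comap_of_ker_isPGroup
      rw [QuotientGroup.ker_mk']
      exact hPp
    have hKP : K ≤ P := by rw [hPdef]; exact Cfsg.Agent.Lib.Helper7.le_pCore hKn hKp
    apply hS1
    rw [eq_bot_iff]
    intro y hy
    obtain ⟨k, rfl⟩ := QuotientGroup.mk'_surjective P y
    rw [Subgroup.mem_bot]
    exact (QuotientGroup.eq_one_iff k).mpr (hKP ((hmemK k).mpr hy))
  -- elements of `K` have order a power of `p` or `s`
  have hKord : ∀ k ∈ K, ∀ r : ℕ, r.Prime → orderOf k = r → r = p ∨ r = s := by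
    intro k hk r hr hkr
    by_contra hcon
    push Not at hcon
    have h1 : orderOf (QuotientGroup.mk' P k) ∣ r := hkr ▸ orderOf_map_dvd _ k
    obtain ⟨i, hi⟩ := (IsPGroup.iff_orderOf.mp hSp) ⟨_, (hmemK k).mp hk⟩
    rw [Subgroup.orderOf_mk] at hi
    have h2 : orderOf (QuotientGroup.mk' P k) = 1 := by
      rcases (Nat.dvd_prime hr).mp h1 with h3 | h3
      · exact h3
      · exfalso
        rw [h3] at hi
        rcases Nat.eq_zero_or_pos i with h0 | h0
        · rw [h0, pow_zero] at hi; exact hr.one_lt.ne' hi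
        · have : r ∣ s ^ i := hi ▸ dvd_refl r
          exact hcon.2 ((Nat.prime_dvd_prime_iff_eq hr hs).mp (hr.dvd_of_dvd_pow this))
    have h3 : k ∈ P := (QuotientGroup.eq_one_iff k).mp (orderOf_eq_one_iff.mp h2)
    obtain ⟨j, hj⟩ := (IsPGroup.iff_orderOf.mp hPp) ⟨k, h3⟩
    rw [Subgroup.orderOf_mk, hkr] at hj
    rcases Nat.eq_zero_or_pos j with h0 | h0
    · rw [h0, pow_zero] at hj; exact hr.one_lt.ne' hj
    · have : r ∣ p ^ j := hj ▸ dvd_refl r
      exact hcon.1 ((Nat.prime_dvd_prime_iff_eq hr hp).mp (hr.dvd_of_dvd_pow this))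
  -- `s` divides `#K`
  have hsK : s ∣ Nat.card K := by
    have hne : ∃ y ∈ Cfsg.pCore s (X ⧸ P), y ≠ 1 := by
      by_contra hcon
      push Not at hcon
      exact hS1 ((Subgroup.eq_bot_iff_forall _).mpr hcon)
    obtain ⟨y, hy, hy1⟩ := hne
    obtain ⟨k, rfl⟩ := QuotientGroup.mk'_surjective P y
    have hk1 : k ≠ 1 := by rintro rfl; exact hy1 (map_one _)
    obtain ⟨t, j, ht, hj, htj⟩ := h k hk1
    have ht' := ht.nat_prime
    obtain ⟨i, hi⟩ := (IsPGroup.iff_orderOf.mp hSp) ⟨_, hy⟩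
    rw [Subgroup.orderOf_mk] at hi
    have hi0 : 0 < i := by
      rcases Nat.eq_zero_or_pos i with h0 | h0
      · exfalso
        rw [h0, pow_zero, orderOf_eq_one_iff] at hi
        exact hy1 hi
      · exact h0
    have h1 : s ∣ t ^ j := by
      have h2 : orderOf (QuotientGroup.mk' P k) ∣ orderOf k := orderOf_map_dvd _ k
      rw [hi, ← htj] at h2
      exact (dvd_pow_self s hi0.ne').trans h2
    have hst : s = t := (Nat.prime_dvd_prime_iff_eq hs ht').mp (hs.dvd_of_dvd_pow h1)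
    have h3 : s ∣ orderOf k := by rw [← htj, hst]; exact dvd_pow_self t hj.ne'
    have h4 : orderOf k ∣ Nat.card K := Subgroup.orderOf_dvd_natCard K ((hmemK k).mpr hy)
    exact h3.trans h4
  obtain ⟨Q⟩ : Nonempty (Sylow s ↥K) := inferInstance
  have hQ1 : (Q : Subgroup ↥K) ≠ ⊥ := Q.ne_bot_of_dvd_card hsK
  obtain ⟨Q0, hQ0⟩ : ∃ Q0 : Subgroup X, Q0 = (Q : Subgroup ↥K).map K.subtype := ⟨_, rfl⟩
  have hQ0p : IsPGroup s Q0 := by rw [hQ0]; exact Q.isPGroup'.map _
  have hQ01 : Q0 ≠ ⊥ := by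
    rw [hQ0]
    intro hb
    exact hQ1 ((Subgroup.map_eq_bot_iff_of_injective _ K.subtype_injective).mp hb)
  have hfrat : Subgroup.normalizer (Q0 : Set X) ⊔ K = ⊤ := by
    rw [hQ0]; exact Sylow.normalizer_sup_eq_top Q
  have hprimes : ∀ r : ℕ, r.Prime → r ∣ Nat.card X → r = p ∨ r = s := by
    intro r hr hrX
    haveI : Fact r.Prime := ⟨hr⟩
    have hdvd : Nat.card X ∣ Nat.card (Subgroup.normalizer (Q0 : Set X)) * Nat.card K := by
      have := Cfsg.Agent.H1.card_sup_dvd_of_normal (Subgroup.normalizer (Q0 : Set X)) K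
      rwa [hfrat, Subgroup.card_top] at this
    rcases (Nat.Prime.dvd_mul hr).mp (hrX.trans hdvd) with h1 | h1
    · obtain ⟨y, hy⟩ := exists_prime_orderOf_dvd_card' r h1
      exact prime_order_in_normalizer h hsp P Q0 hPp hP1 hQ0p hQ01 (y : X) y.2 hr
        (by rw [Subgroup.orderOf_coe, hy])
    · obtain ⟨k, hk⟩ := exists_prime_orderOf_dvd_card' r h1
      exact hKord (k : X) k.2 r hr (by rw [Subgroup.orderOf_coe, hk])
  have hsub : (Nat.card X).primeFactors ⊆ {p, s} := by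
    intro r hr
    rw [Nat.mem_primeFactors] at hr
    rcases hprimes r hr.1 hr.2.1 with h1 | h1
    · rw [h1]; simp
    · rw [h1]; simp
  exact (Finset.card_le_card hsub).trans Finset.card_le_two

open Cfsg.Agent.Lib.Helper4.MinNormal in
/-- an EPPO group with trivial solvable radical has a unique minimal normal subgroup, which is
nonabelian simple -/
theorem exists_unique_min_normal {Y : Type*} [Group Y] [Finite Y] [Nontrivial Y] (h : IsEPPO Y)
    (hrad : ∀ N : Subgroup Y, N.Normal → Group.IsSolvable N → N = ⊥) :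
    ∃ M : Subgroup Y, M.Normal ∧ IsSimpleGroup ↥M ∧ ¬ IsMulCommutative ↥M ∧
      ∀ N : Subgroup Y, N.Normal → N ≠ ⊥ → M ≤ N := by
  obtain ⟨M, hM⟩ := exists_minNormalIn (⊤ : Subgroup Y) top_ne_bot
  obtain ⟨-, hM1, hMnorm, hMmin'⟩ := hM
  haveI hMn : M.Normal := Subgroup.normalizer_eq_top_iff.mp (top_le_iff.mp hMnorm)
  have hMmin : ∀ M' : Subgroup Y, M'.Normal → M' ≤ M → M' = ⊥ ∨ M' = M := by
    intro M' hM' hle
    exact hMmin' M' hle (by rw [Subgroup.normalizer_eq_top_iff.mpr hM'])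
  have hMns : ¬ Group.IsSolvable ↥M := fun hs => hM1 (hrad M hMn hs)
  haveI : Nontrivial ↥M := (Subgroup.nontrivial_iff_ne_bot M).mpr hM1
  -- primes and the centralizer argument
  have hpgroup : ∀ (N : Subgroup Y) (a : Y) (p : ℕ), p.Prime → orderOf a = p →
      (∀ n ∈ N, Commute a n) → IsPGroup p N := by
    intro N a p hp hao hc
    haveI : Fact p.Prime := ⟨hp⟩
    rw [IsPGroup.iff_orderOf]
    intro n
    obtain ⟨k, hk⟩ := h.pow_of_commute hp hao (hc n n.2)
    exact ⟨k, by rw [← hk, Subgroup.orderOf_coe]⟩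
  have hnotp : ∀ (N : Subgroup Y), N.Normal → N ≠ ⊥ → ∀ p : ℕ, p.Prime → ¬ IsPGroup p N := by
    intro N hN hN1 p hp hNp
    haveI : Fact p.Prime := ⟨hp⟩
    haveI : Group.IsNilpotent ↥N := hNp.isNilpotent
    exact hN1 (hrad N hN inferInstance)
  refine ⟨M, hMn, ?_, ?_, ?_⟩
  · -- simplicity
    obtain ⟨S, hS⟩ := exists_minNormalIn M hM1
    haveI hSsimple : IsSimpleGroup ↥S := hS.isSimpleGroup M hMmin
    obtain ⟨m, hm, ⟨e⟩⟩ := hS.exists_mulEquiv_pi M hMmin hM1 (MulEquiv.refl ↥S)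
    have hm1 : m = 1 := by
      by_contra hne
      have hm2 : 2 ≤ m := by omega
      obtain ⟨i0, i1, hi⟩ : ∃ i0 i1 : Fin m, i0 ≠ i1 :=
        ⟨⟨0, by omega⟩, ⟨1, by omega⟩, by simp [Fin.ext_iff]⟩
      have hScard : Nat.card ↥S ≠ 1 := by
        rw [Ne, Subgroup.card_eq_one]; exact hS.2.1
      obtain ⟨p, hp, hpS⟩ := Nat.exists_prime_and_dvd hScard
      haveI : Fact p.Prime := ⟨hp⟩
      obtain ⟨a0, ha0⟩ := exists_prime_orderOf_dvd_card' p hpS
      obtain ⟨a, ha⟩ : ∃ a : ↥M, a = e.symm (Pi.mulSingle i0 a0) := ⟨_, rfl⟩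
      have hinj : ∀ i : Fin m, Function.Injective
          (fun s : ↥S => ((e.symm (Pi.mulSingle i s) : ↥M) : Y)) := by
        intro i s t hst
        have h1 : e.symm (Pi.mulSingle i s) = e.symm (Pi.mulSingle i t) := Subtype.ext hst
        exact Pi.mulSingle_injective i (e.symm.injective h1)
      have hord : ∀ (i : Fin m) (s : ↥S), orderOf ((e.symm (Pi.mulSingle i s) : ↥M) : Y) = orderOf s := by
        intro i s
        rw [Subgroup.orderOf_coe, MulEquiv.orderOf_eq]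
        exact orderOf_injective (MonoidHom.mulSingle (fun _ : Fin m => ↥S) i)
          (fun x y hxy => Pi.mulSingle_injective (M := fun _ : Fin m => ↥S) i hxy) s
      have hao : orderOf (a : Y) = p := by rw [ha, hord, ha0]
      have hSp : IsPGroup p ↥S := by
        rw [IsPGroup.iff_orderOf]
        intro s
        have hc : Commute (a : Y) ((e.symm (Pi.mulSingle i1 s) : ↥M) : Y) := by
          have h1 : Commute (Pi.mulSingle i0 a0 : Fin m → ↥S) (Pi.mulSingle i1 s) :=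
            Pi.mulSingle_commute (f := fun _ : Fin m => ↥S) hi a0 s
          have h2 : Commute (e.symm (Pi.mulSingle i0 a0)) (e.symm (Pi.mulSingle i1 s)) :=
            h1.map e.symm
          rw [ha]
          exact h2.map M.subtype
        obtain ⟨k, hk⟩ := h.pow_of_commute hp hao hc
        exact ⟨k, by rw [← hk, hord]⟩
      obtain ⟨n, hn⟩ := IsPGroup.iff_card.mp hSp
      have hMcard : Nat.card ↥M = p ^ (n * m) := by
        rw [Nat.card_congr e.toEquiv, Nat.card_fun, hn, Nat.card_eq_fintype_card, Fintype.card_fin,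
          pow_mul]
      exact hnotp M hMn hM1 p hp (IsPGroup.of_card hMcard)
    subst hm1
    have e2 : ↥S ≃* ↥M := ((e.trans (MulEquiv.funUnique (Fin 1) ↥S)).symm)
    exact IsSimpleGroup.isSimpleGroup_of_surjective e2.toMonoidHom e2.surjective
  · intro hcomm
    apply hMns
    exact Group.isSolvable_of_comm (fun a b => hcomm.is_comm.comm a b)
  · intro N hN hN1
    by_contra hnle
    have hdisj : Disjoint M N := by
      rw [disjoint_iff]
      rcases hMmin (M ⊓ N) inferInstance inf_le_left with h1 | h1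
      · exact h1
      · exact absurd (h1 ▸ inf_le_right) hnle
    have hMcard : Nat.card ↥M ≠ 1 := by
      rw [Ne, Subgroup.card_eq_one]; exact hM1
    obtain ⟨p, hp, hpM⟩ := Nat.exists_prime_and_dvd hMcard
    haveI : Fact p.Prime := ⟨hp⟩
    obtain ⟨a, ha⟩ := exists_prime_orderOf_dvd_card' p hpM
    have hNp : IsPGroup p N := by
      apply hpgroup N (a : Y) p hp (by rw [Subgroup.orderOf_coe, ha])
      intro n hn
      exact Subgroup.commute_of_normal_of_disjoint M N hMn hN hdisj a n a.2 hn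
    exact hnotp N hN hN1 p hp hNp

/-- Higman's structure theorem for nonsolvable EPPO groups -/
theorem higman {G : Type*} [Group G] [Finite G] (hns : ¬ Group.IsSolvable G) (hpp : IsEPPO G)
    (R : Subgroup G) [R.Normal] (hRs : Group.IsSolvable ↥R)
    (hRmax : ∀ N : Subgroup G, N.Normal → Group.IsSolvable ↥N → N ≤ R) :
    (∃ p : ℕ, p.Prime ∧ IsPGroup p ↥R) ∧
      (∃ M : Subgroup (G ⧸ R), M.Normal ∧ IsSimpleGroup ↥M ∧ ¬ IsMulCommutative ↥M ∧
        ∀ N : Subgroup (G ⧸ R), N.Normal → N ≠ ⊥ → M ≤ N) ∧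
      ∀ H : Subgroup G, Group.IsSolvable ↥H → (Nat.card ↥H).primeFactors.card ≤ 2 := by
  refine ⟨radical_isPGroup hpp hns R hRs, ?_, ?_⟩
  · haveI : Nontrivial (G ⧸ R) := by
      by_contra hnt
      rw [not_nontrivial_iff_subsingleton] at hnt
      apply hns
      have htop : R = ⊤ := by
        rw [eq_top_iff]
        intro x _
        rw [← QuotientGroup.eq_one_iff]
        exact Subsingleton.elim _ _
      refine isSolvable_of_sup_eq_top ⊥ R inferInstance hRs ?_
      rw [htop, sup_top_eq]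
    apply exists_unique_min_normal
      (hpp.of_surjective (QuotientGroup.mk' R) (QuotientGroup.mk'_surjective R))
    intro Nb hNb hNbs
    obtain ⟨N, hNdef⟩ : ∃ N : Subgroup G, N = Nb.comap (QuotientGroup.mk' R) := ⟨_, rfl⟩
    haveI hNn : N.Normal := by rw [hNdef]; infer_instance
    have hRN : R ≤ N := by
      intro r hr
      rw [hNdef, Subgroup.mem_comap, QuotientGroup.mk'_apply, (QuotientGroup.eq_one_iff r).mpr hr]
      exact Subgroup.one_mem _
    have hNs : Group.IsSolvable ↥N := by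
      subst hNdef
      refine Group.isSolvable_of_ker_le_range (Subgroup.inclusion hRN)
        ((QuotientGroup.mk' R).subgroupComap Nb) ?_
      intro x hx
      rw [MonoidHom.mem_ker] at hx
      have h1 : (QuotientGroup.mk' R) (x : G) = 1 := by
        have h0 := congrArg Subtype.val hx
        exact h0
      have h2 : (x : G) ∈ R := (QuotientGroup.eq_one_iff (x : G)).mp h1
      exact ⟨⟨(x : G), h2⟩, Subtype.ext rfl⟩
    have hNR : N ≤ R := hRmax N hNn hNs
    rw [eq_bot_iff]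
    intro y hy
    obtain ⟨g, rfl⟩ := QuotientGroup.mk'_surjective R y
    rw [Subgroup.mem_bot]
    have hgN : g ∈ N := by rw [hNdef, Subgroup.mem_comap]; exact hy
    exact (QuotientGroup.eq_one_iff g).mpr (hNR hgN)
  · intro H hH
    haveI := hH
    exact solvable_primeFactors_le (hpp.subgroup H)

end Cfsg.Agent.H1.EPPO
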