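import Mathlib
import Cfsg.Agent.H1.Basic
import Cfsg.Agent.H1.Card
import Cfsg.Agent.H1.Thompson
import Cfsg.Agent.H1.CoprimeAction
import Cfsg.Agent.H1.ConjMap
import Cfsg.Agent.Lib.Lead.TISylow
import Cfsg.Agent.Lib.Helper7.Thompson
import Cfsg.Agent.S0604
import Cfsg.Prelude.Def_PLocal

set_option autoImplicit false

namespace Cfsg.Agent.H1

open Cfsg Cfsg.Agent.Lib.Lead.TISylow
open scoped Pointwise

section thompsonFact
variable {G : Type*} [Group G]

/-- the subgroup generated by all `Ω₁(Z(S))`, `S` Sylow, is normal -/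
lemma iSup_omegaOne_center_sylow_normal [Finite G] {p : ℕ} [Fact p.Prime] :
    (⨆ S : Sylow p G, Cfsg.omegaOne p (((S : Subgroup G)) ⊓
      Subgroup.centralizer ((S : Subgroup G) : Set G))).Normal := by
  constructor
  intro n hn g
  have hle : (⨆ S : Sylow p G, Cfsg.omegaOne p (((S : Subgroup G)) ⊓
      Subgroup.centralizer ((S : Subgroup G) : Set G))) ≤
      (⨆ S : Sylow p G, Cfsg.omegaOne p (((S : Subgroup G)) ⊓
      Subgroup.centralizer ((S : Subgroup G) : Set G))).comap (MulAut.conj g).toMonoidHom := by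
    apply iSup_le
    intro S
    rw [Cfsg.omegaOne, Subgroup.closure_le]
    rintro x ⟨⟨hxS, hxC⟩, hxp⟩
    rw [SetLike.mem_coe, Subgroup.mem_comap]
    show g * x * g⁻¹ ∈ _
    have h1 : g * x * g⁻¹ ∈ Cfsg.omegaOne p ((((g • S : Sylow p G) : Subgroup G)) ⊓
        Subgroup.centralizer (((g • S : Sylow p G) : Subgroup G) : Set G)) := by
      apply Subgroup.subset_closure
      have hxS' : x ∈ (S : Subgroup G) := hxS
      have hxC' : x ∈ Subgroup.centralizer ((S : Subgroup G) : Set G) := hxC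
      have m1 : g * x * g⁻¹ ∈ ((g • S : Sylow p G) : Subgroup G) := by
        rw [Lib.Lead.TISylow.mem_sylow_smul]
        have e : g⁻¹ * (g * x * g⁻¹) * g = x := by group
        rw [e]; exact hxS'
      have m2 : g * x * g⁻¹ ∈ Subgroup.centralizer (((g • S : Sylow p G) : Subgroup G) : Set G) := by
        rw [Subgroup.mem_centralizer_iff]
        intro h hh
        rw [SetLike.mem_coe, Lib.Lead.TISylow.mem_sylow_smul] at hh
        have := (Subgroup.mem_centralizer_iff.1 hxC') _ hh
        calc h * (g * x * g⁻¹) = g * ((g⁻¹ * h * g) * x) * g⁻¹ := by group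
          _ = g * (x * (g⁻¹ * h * g)) * g⁻¹ := by rw [this]
          _ = g * x * g⁻¹ * h := by group
      have m3 : (g * x * g⁻¹) ^ p = 1 := by rw [conj_pow, hxp]; group
      exact ⟨⟨m1, m2⟩, m3⟩
    exact (le_iSup (fun S : Sylow p G => Cfsg.omegaOne p (((S : Subgroup G)) ⊓
      Subgroup.centralizer ((S : Subgroup G) : Set G))) (g • S)) h1
  exact hle hn

/-- Frattini argument for `S ∩ C`, `C` normal -/
lemma sylow_inf_normalizer_sup_eq_top [Finite G] {p : ℕ} [Fact p.Prime] (S : Sylow p G)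
    (C : Subgroup G) [C.Normal] :
    Subgroup.normalizer (((S : Subgroup G) ⊓ C : Subgroup G) : Set G) ⊔ C = ⊤ := by
  set D : Subgroup G := (S : Subgroup G) ⊓ C with hD
  have hDC : D ≤ C := inf_le_right
  have hDp : IsPGroup p D := S.isPGroup'.to_le inf_le_left
  have hD' : IsPGroup p (D.subgroupOf C) := hDp.comap_subtype
  have hidx : ¬ p ∣ (D.subgroupOf C).index := by
    have hcard := card_sup_mul_card_inf (S : Subgroup G) C (Subgroup.normalizer_eq_top C ▸ le_top)
    have h1 : Nat.card C = D.relIndex C * Nat.card D := card_eq_relIndex_mul_card hDC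
    have h2 : Nat.card ((S : Subgroup G) ⊔ C : Subgroup G) =
        (S : Subgroup G).relIndex ((S : Subgroup G) ⊔ C) * Nat.card (S : Subgroup G) :=
      card_eq_relIndex_mul_card le_sup_left
    have h3 : (S : Subgroup G).relIndex ((S : Subgroup G) ⊔ C) = D.relIndex C := by
      rw [h1, h2, ← hD] at hcard
      have hpos : 0 < Nat.card (S : Subgroup G) * Nat.card D := Nat.mul_pos Nat.card_pos Nat.card_pos
      apply Nat.eq_of_mul_eq_mul_right hpos
      rw [← mul_assoc, hcard]; ring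
    have h4 : D.relIndex C ∣ (S : Subgroup G).index := by
      rw [← h3]
      exact Subgroup.relIndex_dvd_index_of_le le_sup_left
    intro hp
    exact S.not_dvd_index (hp.trans h4)
  have h3 := Sylow.normalizer_sup_eq_top (hD'.toSylow hidx)
  rw [IsPGroup.toSylow_coe, Subgroup.subgroupOf_map_subtype, inf_eq_left.mpr hDC] at h3
  exact h3

/-- `J(D) = J(S)` for `J(S) ≤ D ≤ S` (ambient form) -/
lemma thompsonSubgroupOf_eq_of_le [Finite G] {p : ℕ} {S D : Subgroup G}
    (h1 : Cfsg.thompsonSubgroupOf p S ≤ D) (h2 : D ≤ S) :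
    Cfsg.thompsonSubgroupOf p D = Cfsg.thompsonSubgroupOf p S := by
  obtain ⟨A₀', hA₀'⟩ := maxElementaryAbelian_nonempty (G := ↥S) p
  have hA₀ := (Lib.Helper7.mem_maxEA_iff S A₀').mp hA₀'
  have hA₀D : A₀'.map S.subtype ≤ D := hA₀.le_thompsonSubgroupOf.trans h1
  apply le_antisymm
  · apply Lib.Helper7.thompsonSubgroupOf_le_of
    intro A hA
    apply Lib.Helper7.IsMaxEA.le_thompsonSubgroupOf
    refine ⟨hA.1.trans h2, hA.2.1, ?_⟩
    intro B hB hBe
    exact (hA₀.2.2 B hB hBe).trans (hA.2.2 _ hA₀D hA₀.2.1)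
  · apply Lib.Helper7.thompsonSubgroupOf_le_of
    intro A hA
    apply Lib.Helper7.IsMaxEA.le_thompsonSubgroupOf
    refine ⟨hA.le_thompsonSubgroupOf.trans h1, hA.2.1, ?_⟩
    intro B hB hBe
    exact hA.2.2 B (hB.trans h2) hBe

/-- `N_G(D) ≤ N_G(J(D))` -/
lemma normalizer_le_normalizer_thompsonSubgroupOf {p : ℕ} (D : Subgroup G) :
    Subgroup.normalizer (D : Set G) ≤ Subgroup.normalizer (Cfsg.thompsonSubgroupOf p D : Set G) := by
  intro n hn
  rw [← map_conj_eq_self_iff] at hn ⊢
  rw [← Lib.Helper7.thompsonSubgroupOf_map_conj, hn]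

end thompsonFact

end Cfsg.Agent.H1
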