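import Mathlib
import Cfsg.Prelude.Def_PLocal
import Cfsg.Agent.Lib.Helper4.FFOmega

/-!
# Weak best offenders (no elementary abelian condition) and Timmesfeld replacement for them
-/

set_option autoImplicit false

namespace Cfsg.Agent.H1.GlS3

open scoped commutatorElement
open Cfsg.Agent.Lib.Helper4.Offender Cfsg.Agent.Lib.Helper4.FFPair Cfsg.Agent.Lib.Helper4.FFHol

variable {G : Type*} [Group G]

/-- weak best offender: `|B||C_V(B)| ≤ |A||C_V(A)|` for all `B ≤ A` -/
def WB (V A : Subgroup G) : Prop := ∀ B : Subgroup G, B ≤ A → ff V B ≤ ff V A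

theorem WB.best_card [Finite G] {V A : Subgroup G} (h : WB V A)
    (hc : ∀ x ∈ A, ∀ y ∈ A, x * y = y * x) :
    Cfsg.IsBestOffenderOn (Nat.card G) V A := by
  refine ⟨h, ?_, ?_⟩
  · have : ⁅A, A⁆ = ⊥ := by
      rw [Subgroup.commutator_eq_bot_iff_le_centralizer]
      intro x hx
      rw [Subgroup.mem_centralizer_iff]
      intro y hy
      exact hc y hy x hx
    rw [this]; exact bot_le
  · intro a _
    rw [pow_card_eq_one']
    exact Subgroup.one_mem _

/-- quadratic action of an element forces its `p`-th power to centralize -/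
theorem pow_mem_centralizer_of_quadratic {p : ℕ} {V : Subgroup G}
    (hV : Cfsg.IsElementaryAbelian p V) {a : G} (haV : a ∈ Subgroup.normalizer (V : Set G))
    (hq : ∀ v ∈ V, a * ⁅v, a⁆ = ⁅v, a⁆ * a) : a ^ p ∈ Subgroup.centralizer (V : Set G) := by
  have key : ∀ v ∈ V, ∀ n : ℕ, a ^ n * v⁻¹ * (a ^ n)⁻¹ = v⁻¹ * ⁅v, a⁆ ^ n := by
    intro v hv n
    induction n with
    | zero => simp
    | succ n ih =>
      have h1 : a ^ (n + 1) * v⁻¹ * (a ^ (n + 1))⁻¹ = a * (a ^ n * v⁻¹ * (a ^ n)⁻¹) * a⁻¹ := by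
        rw [pow_succ']; group
      rw [h1, ih]
      have h2 : a * ⁅v, a⁆ ^ n = ⁅v, a⁆ ^ n * a := by
        have : Commute a ⁅v, a⁆ := hq v hv
        exact (this.pow_right n).eq
      have h3 : a * v⁻¹ * a⁻¹ = v⁻¹ * ⁅v, a⁆ := by
        rw [commutatorElement_def]; group
      have aux1 : ∀ c : G, a * (v⁻¹ * c ^ n) * a⁻¹ = (a * v⁻¹ * a⁻¹) * (a * c ^ n) * a⁻¹ := by
        intro c; group
      have aux2 : ∀ c : G, (v⁻¹ * c) * (c ^ n * a) * a⁻¹ = v⁻¹ * c ^ (n + 1) := by
        intro c; rw [pow_succ']; group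
      calc a * (v⁻¹ * ⁅v, a⁆ ^ n) * a⁻¹ = (a * v⁻¹ * a⁻¹) * (a * ⁅v, a⁆ ^ n) * a⁻¹ := aux1 _
        _ = (v⁻¹ * ⁅v, a⁆) * (⁅v, a⁆ ^ n * a) * a⁻¹ := by rw [h2, h3]
        _ = v⁻¹ * ⁅v, a⁆ ^ (n + 1) := aux2 _
  rw [Subgroup.mem_centralizer_iff]
  intro v hv
  have hcV : ⁅v, a⁆ ∈ V := comm_mem_of_normalizer haV hv
  have h1 := key v hv p
  rw [hV.2 _ hcV, mul_one] at h1
  -- a^p v⁻¹ a^-p = v⁻¹
  have h2 : a ^ p * v⁻¹ = v⁻¹ * a ^ p := by
    calc a ^ p * v⁻¹ = (a ^ p * v⁻¹ * (a ^ p)⁻¹) * a ^ p := by group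
      _ = v⁻¹ * a ^ p := by rw [h1]
  calc v * a ^ p = v * (a ^ p * v⁻¹) * v := by group
    _ = v * (v⁻¹ * a ^ p) * v := by rw [h2]
    _ = a ^ p * v := by group

/-- third part of Timmesfeld replacement for a `p`-group `A` -/
theorem star_ne_bot [Finite G] {p q : ℕ} [Fact p.Prime] {V A : Subgroup G}
    (hV : Cfsg.IsElementaryAbelian p V)
    (hAV : A ≤ Subgroup.normalizer (V : Set G)) (hA : Cfsg.IsBestOffenderOn q V A)
    (hAp : IsPGroup p A) (hne : ⁅V, A⁆ ≠ ⊥) :
    ⁅V, A ⊓ Subgroup.centralizer ((⁅V, A⁆ : Subgroup G) : Set G)⁆ ≠ ⊥ := by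
  intro hbot
  have hVc := comm_of_elem hV
  obtain ⟨_, h2⟩ := timmesfeld hVc hAV hA V le_rfl
  have h3 : V ≤ Subgroup.centralizer
      ((A ⊓ Subgroup.centralizer ((⁅V, A⁆ : Subgroup G) : Set G) : Subgroup G) : Set G) :=
    Subgroup.commutator_eq_bot_iff_le_centralizer.1 hbot
  rw [inf_eq_left.2 h3] at h2
  set W := ⁅V, A⁆ with hW
  have hWV : W ≤ V := Subgroup.le_normalizer_iff_commutator_le_left.1 hAV
  have hAW : A ≤ Subgroup.normalizer (W : Set G) := norm_comm hAV Subgroup.le_normalizer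
  have hlt := Cfsg.Agent.H1.commutator_lt_of_pgroup W A ((isPGroup_of_elem hV).to_le hWV) hAp hAW hne
  have hle : W ≤ ⁅W, A⁆ := by
    rw [hW, Subgroup.commutator_le]
    intro v hv a ha
    rw [h2] at hv
    have hnorm : V ⊓ Subgroup.centralizer (A : Set G) ≤
        Subgroup.normalizer ((⁅V, A⁆ : Subgroup G) : Set G) :=
      (inf_le_left.trans (le_centralizer_of_elem hV)).trans
        ((cent_anti hWV).trans (Subgroup.centralizer_le_normalizer _))
    obtain ⟨x, hx, c, hc, rfl⟩ :=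
      (Cfsg.Agent.H1.mem_sup_of_le_normalizer _ _ hnorm).1 hv
    have hca : a * c = c * a := Subgroup.mem_centralizer_iff.1 (Subgroup.mem_inf.1 hc).2 a ha
    have : ⁅x * c, a⁆ = ⁅x, a⁆ := by
      calc ⁅x * c, a⁆ = x * (c * a) * c⁻¹ * x⁻¹ * a⁻¹ := by rw [commutatorElement_def]; group
        _ = x * (a * c) * c⁻¹ * x⁻¹ * a⁻¹ := by rw [hca]
        _ = ⁅x, a⁆ := by rw [commutatorElement_def]; group
    rw [this]
    exact Subgroup.commutator_mem_commutator hx ha
  exact absurd (lt_of_le_of_lt hle hlt) (lt_irrefl _)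

/-- Timmesfeld replacement for weak best offenders that are abelian `p`-groups -/
theorem WB.star [Finite G] {p : ℕ} [Fact p.Prime] {V A : Subgroup G}
    (hV : Cfsg.IsElementaryAbelian p V)
    (hAV : A ≤ Subgroup.normalizer (V : Set G)) (hA : WB V A)
    (hc : ∀ x ∈ A, ∀ y ∈ A, x * y = y * x) (hAp : IsPGroup p A) (hne : ⁅V, A⁆ ≠ ⊥) :
    ff V (A ⊓ Subgroup.centralizer ((⁅V, A⁆ : Subgroup G) : Set G)) = ff V A ∧
    ⁅V, A ⊓ Subgroup.centralizer ((⁅V, A⁆ : Subgroup G) : Set G)⁆ ≠ ⊥ ∧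
    Cfsg.IsBestOffenderOn p V (A ⊓ Subgroup.centralizer ((⁅V, A⁆ : Subgroup G) : Set G)) := by
  have hb := hA.best_card hc
  have hVc := comm_of_elem hV
  obtain ⟨h1, _⟩ := timmesfeld hVc hAV hb V le_rfl
  refine ⟨h1, star_ne_bot hV hAV hb hAp hne, ?_, ?_, ?_⟩
  · intro B hB
    have := hA B (hB.trans inf_le_left)
    unfold ff at h1 this
    rw [h1]; exact this
  · have : ⁅A ⊓ Subgroup.centralizer ((⁅V, A⁆ : Subgroup G) : Set G),
        A ⊓ Subgroup.centralizer ((⁅V, A⁆ : Subgroup G) : Set G)⁆ = ⊥ := by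
      rw [Subgroup.commutator_eq_bot_iff_le_centralizer]
      intro x hx
      rw [Subgroup.mem_centralizer_iff]
      intro y hy
      exact hc y (Subgroup.mem_inf.1 hy).1 x (Subgroup.mem_inf.1 hx).1
    rw [this]; exact bot_le
  · intro a ha
    obtain ⟨haA, haC⟩ := Subgroup.mem_inf.1 ha
    apply pow_mem_centralizer_of_quadratic hV (hAV haA)
    intro v hv
    exact (Subgroup.mem_centralizer_iff.1 haC _ (Subgroup.commutator_mem_commutator hv haA)).symm

/-- weak best offenders map to weak best offenders in the holomorph -/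
theorem WB.map_proj [Finite G] (V : Subgroup G) [hVn : V.Normal] {A : Subgroup G} (hA : WB V A) :
    WB (VV V) (A.map (proj V)) := by
  intro B' hB'
  unfold ff
  set B := A ⊓ B'.comap (proj V) with hB
  have hBmap : B.map (proj V) = B' := by
    apply le_antisymm
    · rintro x ⟨b, hb, rfl⟩
      exact (Subgroup.mem_inf.1 hb).2
    · intro x hx
      obtain ⟨a, ha, rfl⟩ := hB' hx
      exact ⟨a, Subgroup.mem_inf.2 ⟨ha, hx⟩, rfl⟩
  have hBC : B ⊓ Subgroup.centralizer (V : Set G) = A ⊓ Subgroup.centralizer (V : Set G) := by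
    apply le_antisymm (inf_le_inf_right _ inf_le_left)
    intro g hg
    obtain ⟨hgA, hgC⟩ := Subgroup.mem_inf.1 hg
    refine Subgroup.mem_inf.2 ⟨Subgroup.mem_inf.2 ⟨hgA, ?_⟩, hgC⟩
    rw [Subgroup.mem_comap, (proj_eq_one_iff V g).2 hgC]
    exact Subgroup.one_mem _
  have h1 := hA B inf_le_left
  unfold ff at h1
  have cA := card_map_proj V A
  have cB := card_map_proj V B
  rw [hBmap, hBC] at cB
  have eA := card_cent_map V A
  have eB := card_cent_map V B
  rw [hBmap] at eB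
  rw [eA, eB]
  set k := Nat.card ↥(A ⊓ Subgroup.centralizer (V : Set G)) with hk
  have hkpos : 0 < k := Nat.card_pos
  rw [← cA, ← cB] at h1
  have h2 : k * (Nat.card ↥B' * Nat.card ↥(V ⊓ Subgroup.centralizer (B : Set G))) ≤
      k * (Nat.card ↥(A.map (proj V)) * Nat.card ↥(V ⊓ Subgroup.centralizer (A : Set G))) := by
    calc k * (Nat.card ↥B' * Nat.card ↥(V ⊓ Subgroup.centralizer (B : Set G)))
        = Nat.card ↥B' * k * Nat.card ↥(V ⊓ Subgroup.centralizer (B : Set G)) := by ring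
      _ ≤ Nat.card ↥(A.map (proj V)) * k *
          Nat.card ↥(V ⊓ Subgroup.centralizer (A : Set G)) := h1
      _ = _ := by ring
  exact Nat.le_of_mul_le_mul_left h2 hkpos

/-- a largest abelian subgroup of `P` is a weak best offender on every abelian `V ≤ P`
that it normalizes -/
theorem wb_of_maxAbelian [Finite G] {P V A : Subgroup G} (hVP : V ≤ P)
    (hVc : ∀ s ∈ V, ∀ t ∈ V, s * t = t * s)
    (hAP : A ≤ P) (hAc : ∀ x ∈ A, ∀ y ∈ A, x * y = y * x)
    (hmax : ∀ B : Subgroup G, B ≤ P → IsMulCommutative B → Nat.card B ≤ Nat.card A) :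
    WB V A := by
  intro B hBA
  set CA := A ⊓ Subgroup.centralizer (V : Set G) with hCA
  set B' := B ⊔ CA with hB'
  have hB'A : B' ≤ A := sup_le hBA inf_le_left
  have hcent : V ⊓ Subgroup.centralizer (B' : Set G) = V ⊓ Subgroup.centralizer (B : Set G) := by
    rw [hB', centralizer_sup']
    apply le_antisymm
    · exact inf_le_inf_left _ inf_le_left
    · refine le_inf inf_le_left (le_inf inf_le_right ?_)
      refine inf_le_left.trans ?_
      rw [Subgroup.le_centralizer_iff]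
      exact inf_le_right
  have hcardB : Nat.card B ≤ Nat.card B' := Subgroup.card_le_of_le le_sup_left
  set U := V ⊓ Subgroup.centralizer (B' : Set G) with hU
  set M := B' ⊔ U with hM
  have hB'U : B' ≤ Subgroup.centralizer (U : Set G) := by
    rw [Subgroup.le_centralizer_iff]; exact inf_le_right
  have hMc : IsMulCommutative M := by
    have hB'c : ∀ x ∈ B', ∀ y ∈ B', x * y = y * x := fun x hx y hy => hAc x (hB'A hx) y (hB'A hy)
    have hUc : ∀ x ∈ U, ∀ y ∈ U, x * y = y * x := fun x hx y hy =>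
      hVc x (Subgroup.mem_inf.1 hx).1 y (Subgroup.mem_inf.1 hy).1
    have h1 : M ≤ Subgroup.centralizer (B' : Set G) := by
      apply sup_le
      · intro x hx
        rw [Subgroup.mem_centralizer_iff]
        intro y hy
        exact hB'c y hy x hx
      · exact inf_le_right
    have h2 : M ≤ Subgroup.centralizer (U : Set G) := by
      apply sup_le hB'U
      intro x hx
      rw [Subgroup.mem_centralizer_iff]
      intro y hy
      exact hUc y hy x hx
    have h3 : M ≤ Subgroup.centralizer (M : Set G) := by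
      rw [hM, centralizer_sup']
      exact le_inf h1 h2
    refine ⟨⟨fun x y => Subtype.ext ?_⟩⟩
    exact (Subgroup.mem_centralizer_iff.1 (h3 y.2) x x.2)
  have hMP : M ≤ P := sup_le (hB'A.trans hAP) (inf_le_left.trans hVP)
  have hMA := hmax M hMP hMc
  have hprod := Cfsg.Agent.H1.card_sup_mul_card_inf B' U
    (hB'U.trans (Subgroup.centralizer_le_normalizer _))
  have hinf : Nat.card ↥(B' ⊓ U) ≤ Nat.card ↥(V ⊓ Subgroup.centralizer (A : Set G)) := by
    apply Subgroup.card_le_of_le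
    intro x hx
    obtain ⟨hxB, hxU⟩ := Subgroup.mem_inf.1 hx
    refine Subgroup.mem_inf.2 ⟨(Subgroup.mem_inf.1 hxU).1, ?_⟩
    rw [Subgroup.mem_centralizer_iff]
    intro y hy
    exact hAc y hy x (hB'A hxB)
  unfold ff
  calc Nat.card B * Nat.card ↥(V ⊓ Subgroup.centralizer (B : Set G))
      ≤ Nat.card B' * Nat.card ↥(V ⊓ Subgroup.centralizer (B : Set G)) :=
        Nat.mul_le_mul_right _ hcardB
    _ = Nat.card B' * Nat.card U := by rw [← hcent]
    _ = Nat.card M * Nat.card ↥(B' ⊓ U) := hprod.symm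
    _ ≤ Nat.card A * Nat.card ↥(V ⊓ Subgroup.centralizer (A : Set G)) :=
        Nat.mul_le_mul hMA hinf

end Cfsg.Agent.H1.GlS3
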