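import Mathlib
import Cfsg.Prelude.Def_PLocal
import Cfsg.Agent.H1.GlS3A
import Cfsg.Agent.H2.Equivariant

/-!
# Weak best offenders that are abelian 2-groups lie in the group generated by best offenders
-/

set_option autoImplicit false

namespace Cfsg.Agent.H1.GlS3

open scoped commutatorElement
open Cfsg.Agent.Lib.Helper4.Offender Cfsg.Agent.Lib.Helper4.FFPair Cfsg.Agent.Lib.Helper4.FFHol

variable {G : Type*} [Group G]

theorem eq_of_card_two {P : Subgroup G} (hP : Nat.card P = 2) {x y : G} (hx : x ∈ P) (hy : y ∈ P)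
    (hx1 : x ≠ 1) (hy1 : y ≠ 1) : x = y := by
  obtain ⟨z, _, huniq⟩ := (Nat.card_eq_two_iff' (1 : P)).1 hP
  have h1 : (⟨x, hx⟩ : P) = z := huniq _ (fun h => hx1 (congrArg Subtype.val h))
  have h2 : (⟨y, hy⟩ : P) = z := huniq _ (fun h => hy1 (congrArg Subtype.val h))
  exact congrArg Subtype.val (h1.trans h2.symm)

/-- the index two step: `A = C_A(W) ⟨a⟩` -/
theorem sup_zpowers_eq [Finite G] {V W P A : Subgroup G} {a : G}
    (hV : Cfsg.IsElementaryAbelian 2 V) (hWV : W ≤ V) (hPW : P ≤ W)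
    (hW : Nat.card W = 4) (hP : Nat.card P = 2)
    (hAc : ∀ x ∈ A, ∀ y ∈ A, x * y = y * x) (hAp : IsPGroup 2 A)
    (hAW : A ≤ Subgroup.normalizer (W : Set G)) (hAP : A ≤ Subgroup.normalizer (P : Set G))
    (haA : a ∈ A) (haP : ⁅W, Subgroup.zpowers a⁆ ≤ P)
    (haW : a ∉ Subgroup.centralizer (W : Set G)) :
    (A ⊓ Subgroup.centralizer (W : Set G)) ⊔ Subgroup.zpowers a = A := by
  haveI : Fact (Nat.Prime 2) := ⟨Nat.prime_two⟩
  have hVp : IsPGroup 2 V := isPGroup_of_elem hV
  have hWp : IsPGroup 2 W := hVp.to_le hWV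
  have hPp : IsPGroup 2 P := hWp.to_le hPW
  have hW1 : W ≠ ⊥ := by
    intro hc
    rw [hc, Subgroup.card_bot] at hW
    omega
  have hP1 : P ≠ ⊥ := by
    intro hc
    rw [hc, Subgroup.card_bot] at hP
    omega
  have hZA : Subgroup.zpowers a ≤ A := Subgroup.zpowers_le.2 haA
  -- claim 1 : [W, A] ≤ P
  have hWA : ⁅W, A⁆ ≤ P := by
    have hlt := Cfsg.Agent.H1.commutator_lt_of_pgroup W A hWp hAp hAW hW1
    have h1 := p_mul_card_le hWp hlt
    rw [hW] at h1
    have hne : ⁅W, Subgroup.zpowers a⁆ ≠ ⊥ := by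
      intro hc
      apply haW
      have h2 : W ≤ Subgroup.centralizer (Subgroup.zpowers a : Set G) :=
        Subgroup.commutator_eq_bot_iff_le_centralizer.1 hc
      rw [Subgroup.mem_centralizer_iff]
      intro w hw
      exact (Subgroup.mem_centralizer_iff.1 (h2 hw) a (Subgroup.mem_zpowers a)).symm
    have h3 := p_mul_card_le (hPp.to_le haP) (bot_lt_iff_ne_bot.2 hne)
    rw [Subgroup.card_bot, mul_one] at h3
    have hle : ⁅W, Subgroup.zpowers a⁆ ≤ ⁅W, A⁆ := Subgroup.commutator_mono le_rfl hZA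
    have heq := Subgroup.eq_of_le_of_card_ge hle (by omega)
    rw [← heq]; exact haP
  -- claim 2 : P ≤ C(A)
  have hPA : P ≤ Subgroup.centralizer (A : Set G) := by
    have hlt := Cfsg.Agent.H1.commutator_lt_of_pgroup P A hPp hAp hAP hP1
    have h1 := p_mul_card_le hPp hlt
    rw [hP] at h1
    have h2 : Nat.card ↥(⁅P, A⁆) = 1 := by
      have : 0 < Nat.card ↥(⁅P, A⁆) := Nat.card_pos
      omega
    exact Subgroup.commutator_eq_bot_iff_le_centralizer.1 (Subgroup.card_eq_one.1 h2)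
  -- claim 3 : a point outside `P`
  obtain ⟨w₀, hw₀W, hw₀P⟩ : ∃ w₀ ∈ W, w₀ ∉ P := by
    by_contra hcon
    push Not at hcon
    have : W ≤ P := fun w hw => hcon w hw
    have := Subgroup.card_le_of_le this
    omega
  have hgen : W ≤ P ⊔ Subgroup.zpowers w₀ := by
    have hlt : P < P ⊔ Subgroup.zpowers w₀ := by
      refine lt_of_le_of_ne le_sup_left ?_
      intro hc
      apply hw₀P
      rw [hc]
      exact Subgroup.mem_sup_right (Subgroup.mem_zpowers w₀)
    have hle : P ⊔ Subgroup.zpowers w₀ ≤ W := sup_le hPW (Subgroup.zpowers_le.2 hw₀W)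
    have h1 := p_mul_card_le (hWp.to_le hle) hlt
    rw [hP] at h1
    exact (Subgroup.eq_of_le_of_card_ge hle (by omega)).ge
  have hcentW : ∀ b ∈ A, b * w₀ = w₀ * b → b ∈ Subgroup.centralizer (W : Set G) := by
    intro b hb hbw
    have h1 : b ∈ Subgroup.centralizer ((P ⊔ Subgroup.zpowers w₀ : Subgroup G) : Set G) := by
      rw [centralizer_sup', cent_zpowers]
      refine Subgroup.mem_inf.2 ⟨?_, ?_⟩
      · rw [Subgroup.mem_centralizer_iff]
        intro c hc
        exact (Subgroup.mem_centralizer_iff.1 (hPA hc) b hb).symm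
      · rw [Subgroup.mem_centralizer_singleton_iff]
        exact hbw
    exact cent_anti hgen h1
  have hcomm1 : ∀ b ∈ A, ⁅w₀, b⁆ = 1 → b ∈ Subgroup.centralizer (W : Set G) := by
    intro b hb h1
    apply hcentW b hb
    exact (commutatorElement_eq_one_iff_mul_comm.1 h1).symm
  have hca : ⁅w₀, a⁆ ≠ 1 := fun h => haW (hcomm1 a haA h)
  have hcaP : ⁅w₀, a⁆ ∈ P := hWA (Subgroup.commutator_mem_commutator hw₀W haA)
  apply le_antisymm (sup_le inf_le_left hZA)
  intro b hb
  by_cases hbW : b ∈ Subgroup.centralizer (W : Set G)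
  · exact Subgroup.mem_sup_left (Subgroup.mem_inf.2 ⟨hb, hbW⟩)
  have hcb : ⁅w₀, b⁆ ≠ 1 := fun h => hbW (hcomm1 b hb h)
  have hcbP : ⁅w₀, b⁆ ∈ P := hWA (Subgroup.commutator_mem_commutator hw₀W hb)
  have heq : ⁅w₀, b⁆ = ⁅w₀, a⁆ := eq_of_card_two hP hcbP hcaP hcb hca
  have hconj : b * ⁅w₀, a⁆ * b⁻¹ = ⁅w₀, a⁆ := by
    have := Subgroup.mem_centralizer_iff.1 (hPA hcaP) b hb
    rw [this]; group
  have hsq : ⁅w₀, a⁆ * ⁅w₀, a⁆ = 1 := by
    have := hV.2 _ (hWV (hPW hcaP))
    rwa [pow_two] at this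
  have hba : ⁅w₀, b * a⁆ = 1 := by
    have e : ⁅w₀, b * a⁆ = ⁅w₀, b⁆ * (b * ⁅w₀, a⁆ * b⁻¹) := by
      simp only [commutatorElement_def]; group
    rw [e, hconj, heq, hsq]
  have hbaW := hcomm1 (b * a) (A.mul_mem hb haA) hba
  have : b = (b * a) * a⁻¹ := by group
  rw [this]
  exact Subgroup.mul_mem _ (Subgroup.mem_sup_left (Subgroup.mem_inf.2 ⟨A.mul_mem hb haA, hbaW⟩))
    (Subgroup.mem_sup_right (Subgroup.inv_mem _ (Subgroup.mem_zpowers a)))

/-- adjoining `a` to `B ≤ C(W)` does not change the measure -/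
theorem ff_sup_zpowers [Finite G] {V W B : Subgroup G} {a : G}
    (hV : Cfsg.IsElementaryAbelian 2 V) (hWV : W ≤ V)
    (hBW : B ≤ Subgroup.centralizer (W : Set G)) (haB : a ∉ B) (ha2 : a ^ 2 = 1)
    (haN : Subgroup.zpowers a ≤ Subgroup.normalizer (B : Set G))
    (hidx : 2 * Nat.card ↥(V ⊓ Subgroup.centralizer (Subgroup.zpowers a : Set G)) = Nat.card V)
    (haW : a ∉ Subgroup.centralizer (W : Set G)) :
    ff V (B ⊔ Subgroup.zpowers a) = ff V B := by
  haveI : Fact (Nat.Prime 2) := ⟨Nat.prime_two⟩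
  have hVp : IsPGroup 2 V := isPGroup_of_elem hV
  have hVc := comm_of_elem hV
  have ha1 : a ≠ 1 := fun h => haB (h ▸ B.one_mem)
  have hcz : Nat.card (Subgroup.zpowers a) = 2 := by
    rw [Nat.card_zpowers]; exact orderOf_eq_prime ha2 ha1
  -- |B⟨a⟩| = 2 |B|
  have hcard : Nat.card ↥(B ⊔ Subgroup.zpowers a) = 2 * Nat.card B := by
    have h1 := Cfsg.Agent.H1.card_sup_mul_card_inf (Subgroup.zpowers a) B haN
    have h2 : Nat.card ↥(Subgroup.zpowers a ⊓ B) = 1 := by
      have hd : Nat.card ↥(Subgroup.zpowers a ⊓ B) ∣ 2 := by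
        rw [← hcz]; exact Subgroup.card_dvd_of_le inf_le_left
      rcases (Nat.dvd_prime Nat.prime_two).1 hd with h | h
      · exact h
      · exfalso
        apply haB
        have := Subgroup.eq_of_le_of_card_ge (inf_le_left : Subgroup.zpowers a ⊓ B ≤ _)
          (by rw [h, hcz])
        have h3 : a ∈ Subgroup.zpowers a ⊓ B := by rw [this]; exact Subgroup.mem_zpowers a
        exact (Subgroup.mem_inf.1 h3).2
    rw [h2, mul_one, hcz, sup_comm] at h1
    exact h1
  set X := V ⊓ Subgroup.centralizer (B : Set G) with hX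
  set Y := V ⊓ Subgroup.centralizer (Subgroup.zpowers a : Set G) with hY
  have hXY : V ⊓ Subgroup.centralizer ((B ⊔ Subgroup.zpowers a : Subgroup G) : Set G) = X ⊓ Y := by
    rw [centralizer_sup', hX, hY]
    ext g; simp only [Subgroup.mem_inf]; tauto
  have hWX : W ≤ X := le_inf hWV (Subgroup.le_centralizer_iff.1 hBW)
  have hWY : ¬ W ≤ Y := by
    intro hc
    apply haW
    rw [Subgroup.mem_centralizer_iff]
    intro w hw
    exact (Subgroup.mem_centralizer_iff.1 (Subgroup.mem_inf.1 (hc hw)).2 a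
      (Subgroup.mem_zpowers a)).symm
  have hsup : X ⊔ Y = V := by
    have hle : X ⊔ Y ≤ V := sup_le inf_le_left inf_le_left
    have hlt : Y < X ⊔ Y := by
      refine lt_of_le_of_ne le_sup_right ?_
      intro hc
      apply hWY
      rw [hc]
      exact hWX.trans le_sup_left
    have h1 := p_mul_card_le (hVp.to_le hle) hlt
    exact Subgroup.eq_of_le_of_card_ge hle (by omega)
  have hXN : X ≤ Subgroup.normalizer (Y : Set G) := by
    intro x hx
    apply Subgroup.centralizer_le_normalizer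
    rw [Subgroup.mem_centralizer_iff]
    intro y hy
    exact hVc y (Subgroup.mem_inf.1 hy).1 x (Subgroup.mem_inf.1 hx).1
  have hprod := Cfsg.Agent.H1.card_sup_mul_card_inf X Y hXN
  rw [hsup] at hprod
  have hYpos : 0 < Nat.card Y := Nat.card_pos
  have h2 : 2 * Nat.card ↥(X ⊓ Y) = Nat.card X := by
    have : Nat.card Y * (2 * Nat.card ↥(X ⊓ Y)) = Nat.card Y * Nat.card X := by
      calc Nat.card Y * (2 * Nat.card ↥(X ⊓ Y)) = (2 * Nat.card Y) * Nat.card ↥(X ⊓ Y) := by ring
        _ = Nat.card V * Nat.card ↥(X ⊓ Y) := by rw [hidx]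
        _ = Nat.card X * Nat.card Y := hprod
        _ = _ := by ring
    exact Nat.eq_of_mul_eq_mul_left hYpos this
  unfold ff
  rw [hXY, hcard, ← h2]
  ring

/-- **main lemma**: an abelian 2-group that is a weak best offender, normalizes `H`, and all of
whose best offender subgroups lie in `H`, lies in `H`. -/
theorem le_of_wb [Finite G] {V H : Subgroup G} (h : Hyp 2 V H) :
    ∀ (n : ℕ) (A : Subgroup G), Nat.card A = n → A ≤ Subgroup.normalizer (V : Set G) →
      A ⊓ Subgroup.centralizer (V : Set G) = ⊥ → (∀ x ∈ A, ∀ y ∈ A, x * y = y * x) →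
      IsPGroup 2 A → A ≤ Subgroup.normalizer (H : Set G) → WB V A →
      (∀ B : Subgroup G, B ≤ A → Cfsg.IsBestOffenderOn 2 V B → B ≤ H) → A ≤ H := by
  haveI : Fact (Nat.Prime 2) := ⟨Nat.prime_two⟩
  intro n
  induction n using Nat.strong_induction_on with
  | _ n ih =>
  intro A hn hAV hAf hAc hAp hAH hwb hsub
  by_cases hne : ⁅V, A⁆ = ⊥
  · have h1 : A ≤ Subgroup.centralizer (V : Set G) :=
      Subgroup.le_centralizer_iff.1 (Subgroup.commutator_eq_bot_iff_le_centralizer.1 hne)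
    have h2 : A = ⊥ := by
      rw [eq_bot_iff, ← hAf]; exact le_inf le_rfl h1
    rw [h2]; exact bot_le
  obtain ⟨hff, hne', hbest⟩ := hwb.star h.hV hAV hAc hAp hne
  set A' := A ⊓ Subgroup.centralizer ((⁅V, A⁆ : Subgroup G) : Set G) with hA'
  have hA'H : A' ≤ H := hsub A' inf_le_left hbest
  -- an atom in `A'`
  obtain ⟨k, B, hB, _, hsup⟩ := decomposition h _ A' rfl hA'H hbest
  have hk : 0 < k := by
    rcases Nat.eq_zero_or_pos k with rfl | hk
    · exfalso
      apply hne'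
      rw [← hsup, iSup_of_empty]
      exact Subgroup.commutator_bot_right V
    · exact hk
  obtain ⟨hB0A, hB0best, hB0ne, hB0min⟩ := hB ⟨0, hk⟩
  obtain ⟨a, ha, hBa⟩ := exists_atom h (hB0A.trans hA'H) hB0best hB0ne hB0min
  have haA : a ∈ A :=
    (inf_le_left : A' ≤ A) (hB0A (hBa ▸ Subgroup.mem_zpowers a))
  set E := EE 2 H a with hE
  set W := ⁅V, E⁆ with hW
  set P := ⁅V, Subgroup.zpowers a⁆ with hP
  have hZA : Subgroup.zpowers a ≤ A := Subgroup.zpowers_le.2 haA
  have hAZ : A ≤ Subgroup.normalizer (Subgroup.zpowers a : Set G) := by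
    intro x hx
    apply Subgroup.centralizer_le_normalizer
    rw [Subgroup.mem_centralizer_iff]
    intro y hy
    exact hAc y (hZA hy) x hx
  have hAK : A ≤ Subgroup.normalizer (KK 2 H : Set G) :=
    hAH.trans (Cfsg.Agent.H2.normalizer_le_normalizer_pPrimeCore 2 H)
  have hAQ : A ≤ Subgroup.normalizer (QQ 2 H a : Set G) := norm_comm hAK hAZ
  have hAE : A ≤ Subgroup.normalizer (E : Set G) := by
    intro x hx
    rw [Subgroup.mem_normalizer_iff_map_conj_eq, hE]
    unfold EE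
    rw [Subgroup.map_sup, Subgroup.mem_normalizer_iff_map_conj_eq.1 (hAQ hx),
      Subgroup.mem_normalizer_iff_map_conj_eq.1 (hAZ hx)]
  have hAW : A ≤ Subgroup.normalizer (W : Set G) := norm_comm hAV hAE
  have hAP : A ≤ Subgroup.normalizer (P : Set G) := norm_comm hAV hAZ
  have hWV : W ≤ V := ha.comm_EE_le h
  have hPW : P ≤ W := Subgroup.commutator_mono le_rfl le_sup_right
  have hWcard : Nat.card W = 4 := by
    have := ha.card_comm_EE h
    simpa using this
  have hPcard : Nat.card P = 2 := ha.card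
  have haW : a ∉ Subgroup.centralizer (W : Set G) := by
    intro hc
    have h1 : a ∈ E ⊓ Subgroup.centralizer (W : Set G) :=
      Subgroup.mem_inf.2 ⟨mem_EE 2 H a, hc⟩
    rw [hW, hE, ha.EE_inf_cent_comm h, Subgroup.mem_bot] at h1
    exact ha.ne_one h1
  have haP : ⁅W, Subgroup.zpowers a⁆ ≤ P := Subgroup.commutator_mono hWV le_rfl
  set A₁ := A ⊓ Subgroup.centralizer (W : Set G) with hA₁
  have hsupA : A₁ ⊔ Subgroup.zpowers a = A :=
    sup_zpowers_eq h.hV hWV hPW hWcard hPcard hAc hAp hAW hAP haA haP haW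
  have haA₁ : a ∉ A₁ := fun hc => haW (Subgroup.mem_inf.1 hc).2
  have hkey : ∀ B : Subgroup G, B ≤ A₁ → ff V (B ⊔ Subgroup.zpowers a) = ff V B := by
    intro B hB
    apply ff_sup_zpowers h.hV hWV (hB.trans inf_le_right) (fun hc => haA₁ (hB hc)) ha.pow
    · intro x hx
      apply Subgroup.centralizer_le_normalizer
      rw [Subgroup.mem_centralizer_iff]
      intro y hy
      exact hAc y ((inf_le_left : A₁ ≤ A) (hB hy)) x (hZA hx)
    · exact ha.index h
    · exact haW
  have hwb₁ : WB V A₁ := by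
    intro B hB
    rw [← hkey B hB, ← hkey A₁ le_rfl, hsupA]
    exact hwb _ (sup_le (hB.trans inf_le_left) hZA)
  have hlt : A₁ < A := by
    refine lt_of_le_of_ne inf_le_left ?_
    intro hc
    apply haA₁
    rw [hc]; exact haA
  have hA₁H : A₁ ≤ H := by
    apply ih (Nat.card A₁) (by rw [← hn]; exact card_lt_of_lt hlt) A₁ rfl
      (inf_le_left.trans hAV)
    · rw [eq_bot_iff, ← hAf]; exact inf_le_inf_right _ inf_le_left
    · intro x hx y hy
      exact hAc x (Subgroup.mem_inf.1 hx).1 y (Subgroup.mem_inf.1 hy).1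
    · exact hAp.to_le inf_le_left
    · exact inf_le_left.trans hAH
    · exact hwb₁
    · intro B hB hBb
      exact hsub B (hB.trans inf_le_left) hBb
  rw [← hsupA]
  exact sup_le hA₁H (Subgroup.zpowers_le.2 ha.mem)

end Cfsg.Agent.H1.GlS3
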