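import Mathlib
import Cfsg.Prelude.Def_PLocal
import Cfsg.Agent.H1.GlS3B
import Cfsg.Agent.Lib.Helper4.AutP2
import Cfsg.Agent.S0242

/-!
# A coprime group of operators on an FF-module pair: fixed points cover the components
-/

set_option autoImplicit false

namespace Cfsg.Agent.H1.FFX

open scoped commutatorElement
open Cfsg.Agent.Lib.Helper4.Offender Cfsg.Agent.Lib.Helper4.FFPair Cfsg.Agent.Lib.Helper4.FFHol

variable {G : Type*} [Group G] {p : ℕ} {V H : Subgroup G}

theorem isAtom_conj {a x : G} (ha : IsAtom p V H a)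
    (hxV : x ∈ Subgroup.normalizer (V : Set G)) (hxH : x ∈ Subgroup.normalizer (H : Set G)) :
    IsAtom p V H (x * a * x⁻¹) := by
  refine ⟨(Subgroup.mem_normalizer_iff.1 hxH a).1 ha.mem, ?_, ?_, ?_⟩
  · intro hc
    apply ha.ne_one
    have : a = x⁻¹ * (x * a * x⁻¹) * x := by group
    rw [this, hc]; group
  · rw [conj_pow, ha.pow]; group
  · have h1 : Subgroup.zpowers (x * a * x⁻¹) =
        (Subgroup.zpowers a).map (MulAut.conj x).toMonoidHom := by
      rw [MonoidHom.map_zpowers]; rfl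
    have h2 : V.map (MulAut.conj x).toMonoidHom = V :=
      Subgroup.mem_normalizer_iff_map_conj_eq.1 hxV
    have h3 : ⁅V, Subgroup.zpowers (x * a * x⁻¹)⁆ =
        (⁅V, Subgroup.zpowers a⁆).map (MulAut.conj x).toMonoidHom := by
      rw [Subgroup.map_commutator, h2, h1]
    rw [h3, Subgroup.card_map_of_injective (MulAut.conj x).injective]
    exact ha.card

theorem EE_conj (a : G) {x : G} (hxH : x ∈ Subgroup.normalizer (H : Set G)) :
    EE p H (x * a * x⁻¹) = (EE p H a).map (MulAut.conj x).toMonoidHom := by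
  have h1 : Subgroup.zpowers (x * a * x⁻¹) =
      (Subgroup.zpowers a).map (MulAut.conj x).toMonoidHom := by
    rw [MonoidHom.map_zpowers]; rfl
  have h2 : (KK p H).map (MulAut.conj x).toMonoidHom = KK p H :=
    Subgroup.mem_normalizer_iff_map_conj_eq.1
      (Cfsg.Agent.H2.normalizer_le_normalizer_pPrimeCore p H hxH)
  unfold EE QQ
  rw [Subgroup.map_sup, Subgroup.map_commutator, h2, h1]

theorem comm_conj' {a x : G} (hxV : x ∈ Subgroup.normalizer (V : Set G))
    (hxH : x ∈ Subgroup.normalizer (H : Set G)) :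
    ⁅V, EE p H (x * a * x⁻¹)⁆ = (⁅V, EE p H a⁆).map (MulAut.conj x).toMonoidHom := by
  have h2 : V.map (MulAut.conj x).toMonoidHom = V :=
    Subgroup.mem_normalizer_iff_map_conj_eq.1 hxV
  rw [EE_conj a hxH, Subgroup.map_commutator, h2]

/-- an element of order prime to `|H|` normalizing a component centralizes its commutator
plane -/
theorem stab_centralizes_comm [Finite G] [Fact p.Prime] (h : Hyp p V H) {a x : G}
    (ha : IsAtom p V H a) (hxV : x ∈ Subgroup.normalizer (V : Set G))
    (hxE : x ∈ Subgroup.normalizer (EE p H a : Set G))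
    (hcop : (orderOf x).Coprime (Nat.card H)) :
    x ∈ Subgroup.centralizer ((⁅V, EE p H a⁆ : Subgroup G) : Set G) := by
  set E := EE p H a with hE
  set W := ⁅V, E⁆ with hW
  have hWV : W ≤ V := ha.comm_EE_le h
  have hxW : x ∈ Subgroup.normalizer (W : Set G) := by
    rw [Subgroup.mem_normalizer_iff_map_conj_eq, hW, Subgroup.map_commutator]
    have h1 : V.map (MulAut.conj x : G →* G) = V := Subgroup.mem_normalizer_iff_map_conj_eq.1 hxV
    have h2 : E.map (MulAut.conj x : G →* G) = E := Subgroup.mem_normalizer_iff_map_conj_eq.1 hxE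
    rw [h1, h2]
  have hWcard : Nat.card W = p ^ 2 := ha.card_comm_EE h
  have hVc := comm_of_elem h.hV
  obtain ⟨ι, hι⟩ := Cfsg.Agent.Lib.Helper4.AutP2.exists_injective_hom' (V := ↥W) (p := p)
    (fun u v => Subtype.ext (hVc u (hWV u.2) v (hWV v.2)))
    (fun v => Subtype.ext (by simpa using h.hV.2 v (hWV v.2))) hWcard
  set g := ι (W.normalizerMonoidHom ⟨x, hxW⟩) with hg
  -- the order of `g`
  have hd1 : orderOf g ∣ orderOf x := by
    have h1 : orderOf g ∣ orderOf (⟨x, hxW⟩ : ↥(Subgroup.normalizer (W : Set G))) :=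
      orderOf_map_dvd (ι.comp W.normalizerMonoidHom) _
    rwa [← Subgroup.orderOf_coe] at h1
  have hd2 : orderOf g ∣ Nat.card (GL (Fin 2) (ZMod p)) := orderOf_dvd_natCard g
  obtain ⟨eE⟩ := ha.nonempty_mulEquiv_EE h
  have hcE : Nat.card E = Nat.card (Matrix.SpecialLinearGroup (Fin 2) (ZMod p)) :=
    Nat.card_congr eE.toEquiv
  have hEH : Nat.card E ∣ Nat.card H := Subgroup.card_dvd_of_le ha.EE_le
  have h242 := Cfsg.Agent.S0242.result (F := ZMod p) (q := p) (ZMod.card p) 2 (by norm_num)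
  have hGL : Nat.card (GL (Fin 2) (ZMod p)) = ∏ i : Fin 2, (p ^ 2 - p ^ (i : ℕ)) := by
    have := Matrix.card_GL_field (𝔽 := ZMod p) (n := 2)
    rwa [ZMod.card] at this
  rw [← hcE] at h242
  obtain ⟨N, hN⟩ : ∃ N, N = Nat.card (GL (Fin 2) (ZMod p)) := ⟨_, rfl⟩
  obtain ⟨c, hc⟩ : ∃ c, c = Nat.card E := ⟨_, rfl⟩
  rw [← hN] at hGL hd2
  rw [← hc] at h242 hEH
  have hcopE : (orderOf x).Coprime c := Nat.Coprime.coprime_dvd_right hEH hcop
  have hcg : (orderOf g).Coprime c := Nat.Coprime.coprime_dvd_left hd1 hcopE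
  rw [Fin.prod_univ_two] at hGL h242
  have hone : orderOf g = 1 := by
    rcases ha.p_eq h with hp | hp
    · rw [hp] at hGL h242
      norm_num at hGL h242
      have h6 : c = 6 := by omega
      rw [h6] at hcg
      rw [hGL] at hd2
      exact Nat.eq_one_of_dvd_coprimes hcg dvd_rfl hd2
    · rw [hp] at hGL h242
      norm_num at hGL h242
      have h24 : c = 24 := by omega
      rw [h24] at hcg
      rw [hGL] at hd2
      have h48 : (orderOf g).Coprime 48 := by
        have h2 : (orderOf g).Coprime 2 := Nat.Coprime.coprime_dvd_right (by norm_num) hcg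
        have : (48 : ℕ) = 2 * 24 := by norm_num
        rw [this]
        exact Nat.Coprime.mul_right h2 hcg
      exact Nat.eq_one_of_dvd_coprimes h48 dvd_rfl hd2
  have hg1 : g = 1 := orderOf_eq_one_iff.1 hone
  have hker : (⟨x, hxW⟩ : ↥(Subgroup.normalizer (W : Set G))) ∈ W.normalizerMonoidHom.ker := by
    rw [MonoidHom.mem_ker]
    apply hι
    rw [map_one]
    exact hg1
  rw [Subgroup.normalizerMonoidHom_ker, Subgroup.mem_subgroupOf] at hker
  exact hker

/-- an element of order prime to `|H|` normalizing a component centralizes it -/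
theorem stab_centralizes [Finite G] [Fact p.Prime] (h : Hyp p V H) {a x : G}
    (ha : IsAtom p V H a) (hxV : x ∈ Subgroup.normalizer (V : Set G))
    (hxE : x ∈ Subgroup.normalizer (EE p H a : Set G))
    (hcop : (orderOf x).Coprime (Nat.card H)) :
    x ∈ Subgroup.centralizer (EE p H a : Set G) := by
  have hxCW := stab_centralizes_comm h ha hxV hxE hcop
  set E := EE p H a with hE
  set W := ⁅V, E⁆ with hW
  -- `x` centralizes `W`, so `[E, x] ≤ E ∩ C(W) = 1`
  rw [Subgroup.mem_centralizer_iff]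
  intro e he
  have hc : ⁅x, e⁆ ∈ E ⊓ Subgroup.centralizer (W : Set G) := by
    refine Subgroup.mem_inf.2 ⟨?_, ?_⟩
    · rw [commutatorElement_def]
      exact E.mul_mem ((Subgroup.mem_normalizer_iff.1 hxE e).1 he) (E.inv_mem he)
    · -- e normalizes W, x centralizes W
      have heW : e ∈ Subgroup.normalizer (W : Set G) := ha.EE_le_normalizer_comm_EE h he
      rw [Subgroup.mem_centralizer_iff]
      intro w hw
      have hw1 : e⁻¹ * w * e ∈ W := by
        have := (Subgroup.mem_normalizer_iff.1 (Subgroup.inv_mem _ heW) w).1 hw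
        simpa using this
      have c1 : x * w = w * x := (Subgroup.mem_centralizer_iff.1 hxCW w hw).symm
      have c2 : x * (e⁻¹ * w * e) = (e⁻¹ * w * e) * x :=
        (Subgroup.mem_centralizer_iff.1 hxCW _ hw1).symm
      have c3 : x⁻¹ * (e⁻¹ * w * e) * x = e⁻¹ * w * e := by
        rw [mul_assoc, ← c2]; group
      have c4 : x * w * x⁻¹ = w := by rw [c1]; group
      have id1 : ∀ w' : G, w' = e⁻¹ * w * e →
          ⁅x, e⁆ * w * ⁅x, e⁆⁻¹ = x * e * (x⁻¹ * w' * x) * e⁻¹ * x⁻¹ := by
        intro w' hw'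
        rw [hw', commutatorElement_def]; group
      have id2 : ⁅x, e⁆ * w * ⁅x, e⁆⁻¹ = w := by
        rw [id1 _ rfl, c3]
        calc x * e * (e⁻¹ * w * e) * e⁻¹ * x⁻¹ = x * w * x⁻¹ := by group
          _ = w := c4
      calc w * ⁅x, e⁆ = (⁅x, e⁆ * w * ⁅x, e⁆⁻¹) * ⁅x, e⁆ := by rw [id2]
        _ = ⁅x, e⁆ * w := by group
  rw [hE, hW, ha.EE_inf_cent_comm h, Subgroup.mem_bot] at hc
  exact (commutatorElement_eq_one_iff_mul_comm.1 hc).symm

end Cfsg.Agent.H1.FFX
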