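import Mathlib
import Cfsg.Prelude.Def_PLocal
import Cfsg.Agent.H1.FFX1

/-!
# Orbit products: fixed points of a coprime operator group cover the components
-/

set_option autoImplicit false

namespace Cfsg.Agent.H1.FFX

open scoped commutatorElement
open Cfsg.Agent.Lib.Helper4.Offender Cfsg.Agent.Lib.Helper4.FFPair Cfsg.Agent.Lib.Helper4.FFHol

variable {G : Type*} [Group G]

theorem multiset_noncommProd_congr (s t : Multiset G) (hs : {x | x ∈ s}.Pairwise Commute)
    (ht : {x | x ∈ t}.Pairwise Commute) (h : s = t) : s.noncommProd hs = t.noncommProd ht := by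
  subst h; rfl

/-- the product of a finite set of pairwise commuting elements permuted by conjugation is fixed -/
theorem conj_noncommProd_eq [DecidableEq G] (Ω : Finset G)
    (comm : (Ω : Set G).Pairwise (Function.onFun Commute id)) (y : G)
    (hy : ∀ ω ∈ Ω, y * ω * y⁻¹ ∈ Ω) :
    y * Ω.noncommProd id comm * y⁻¹ = Ω.noncommProd id comm := by
  have h1 := Finset.map_noncommProd Ω id comm (MulAut.conj y)
  have himg : Ω.image (fun ω => y * ω * y⁻¹) = Ω := by
    apply Finset.eq_of_subset_of_card_le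
    · intro z hz
      obtain ⟨ω, hω, rfl⟩ := Finset.mem_image.1 hz
      exact hy ω hω
    · rw [Finset.card_image_of_injective]
      intro a b hab
      simpa using hab
  have hinj : Set.InjOn (fun ω => y * ω * y⁻¹) (Ω : Set G) := by
    intro a _ b _ hab
    simpa using hab
  have hval : Ω.1.map (fun ω => y * ω * y⁻¹) = Ω.1.map id := by
    rw [Multiset.map_id, ← Finset.image_val_of_injOn hinj, himg]
  have h2 : y * Ω.noncommProd id comm * y⁻¹ = (MulAut.conj y) (Ω.noncommProd id comm) := by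
    rw [MulAut.conj_apply]
  rw [h2, h1]
  unfold Finset.noncommProd
  apply multiset_noncommProd_congr
  simpa [MulAut.conj_apply] using hval

variable {p : ℕ} {V H : Subgroup G}

/-- for `e` in a component `E`, some fixed point of `X` in `H` has the form `e f` with `f ∈ H`
centralizing `E` -/
theorem exists_fixed_mul [Finite G] [Fact p.Prime] (h : Hyp p V H) {a : G}
    (ha : IsAtom p V H a) (Xb : Subgroup G) (hXV : Xb ≤ Subgroup.normalizer (V : Set G))
    (hXH : Xb ≤ Subgroup.normalizer (H : Set G)) (hcop : (Nat.card Xb).Coprime (Nat.card H))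
    {e : G} (he : e ∈ EE p H a) :
    ∃ d ∈ H ⊓ Subgroup.centralizer (Xb : Set G), ∃ f ∈ H, d = e * f ∧
      f ∈ Subgroup.centralizer (EE p H a : Set G) ∧
      f ∈ Subgroup.centralizer ((⁅V, EE p H a⁆ : Subgroup G) : Set G) := by
  classical
  haveI : Fintype ↥Xb := Fintype.ofFinite _
  set E := EE p H a with hE
  have hcopx : ∀ x ∈ Xb, (orderOf x).Coprime (Nat.card H) := by
    intro x hx
    have h1 : orderOf x ∣ Nat.card Xb := by
      have := orderOf_dvd_natCard (⟨x, hx⟩ : ↥Xb)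
      rwa [← Subgroup.orderOf_coe] at this
    exact Nat.Coprime.coprime_dvd_left h1 hcop
  -- key: a conjugate of `e` different from `e` lies in a component commuting with `E`
  have hkey : ∀ z ∈ Xb, z * e * z⁻¹ ≠ e →
      ⁅EE p H (z * a * z⁻¹), E⁆ = ⊥ ∧
      EE p H (z * a * z⁻¹) ≤ Subgroup.centralizer ((⁅V, E⁆ : Subgroup G) : Set G) := by
    intro z hz hne
    have haz := isAtom_conj ha (hXV hz) (hXH hz)
    rcases IsAtom.dichotomy h haz ha with heq | ⟨hw, _, hc⟩
    · exfalso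
      apply hne
      have hzE : z ∈ Subgroup.normalizer (E : Set G) := by
        rw [Subgroup.mem_normalizer_iff_map_conj_eq]
        have := EE_conj (p := p) (H := H) a (hXH hz)
        rw [heq] at this
        exact this.symm
      have hzC := stab_centralizes h ha (hXV hz) hzE (hcopx z hz)
      have := Subgroup.mem_centralizer_iff.1 hzC e he
      rw [← this]; group
    · exact ⟨hc, Subgroup.le_centralizer_iff.1 hw⟩
  set Ω : Finset G := Finset.univ.image (fun x : ↥Xb => (x : G) * e * (x : G)⁻¹) with hΩ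
  have hmemΩ : ∀ ω, ω ∈ Ω ↔ ∃ x ∈ Xb, x * e * x⁻¹ = ω := by
    intro ω
    rw [hΩ, Finset.mem_image]
    constructor
    · rintro ⟨x, _, rfl⟩
      exact ⟨x, x.2, rfl⟩
    · rintro ⟨x, hx, rfl⟩
      exact ⟨⟨x, hx⟩, Finset.mem_univ _, rfl⟩
  have hEconj : ∀ x ∈ Xb, x * e * x⁻¹ ∈ EE p H (x * a * x⁻¹) := by
    intro x hx
    rw [EE_conj a (hXH hx)]
    exact ⟨e, he, rfl⟩
  have comm : (Ω : Set G).Pairwise (Function.onFun Commute id) := by
    intro ω hω ω' hω' hne
    obtain ⟨x, hx, rfl⟩ := (hmemΩ ω).1 hω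
    obtain ⟨y, hy, rfl⟩ := (hmemΩ ω').1 hω'
    show Commute (x * e * x⁻¹) (y * e * y⁻¹)
    -- conjugate back by `x`
    set z := x⁻¹ * y with hz
    have hzX : z ∈ Xb := Xb.mul_mem (Xb.inv_mem hx) hy
    have hne' : z * e * z⁻¹ ≠ e := by
      intro hc
      apply hne
      have : y * e * y⁻¹ = x * (z * e * z⁻¹) * x⁻¹ := by rw [hz]; group
      show x * e * x⁻¹ = y * e * y⁻¹
      rw [this, hc]
    have h1 := (hkey z hzX hne').1
    have h2 : Commute (z * e * z⁻¹) e := by
      have h3 : ⁅z * e * z⁻¹, e⁆ ∈ ⁅EE p H (z * a * z⁻¹), E⁆ :=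
        Subgroup.commutator_mem_commutator (hEconj z hzX) he
      rw [h1, Subgroup.mem_bot] at h3
      exact commutatorElement_eq_one_iff_commute.1 h3
    have h4 : Commute (x * (z * e * z⁻¹) * x⁻¹) (x * e * x⁻¹) := by
      have := h2.map (MulAut.conj x)
      simpa [MulAut.conj_apply] using this
    have h5 : x * (z * e * z⁻¹) * x⁻¹ = y * e * y⁻¹ := by rw [hz]; group
    rw [h5] at h4
    exact h4.symm
  set d := Ω.noncommProd id comm with hd
  have hΩH : ∀ ω ∈ Ω, ω ∈ H := by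
    intro ω hω
    obtain ⟨x, hx, rfl⟩ := (hmemΩ ω).1 hω
    exact (Subgroup.mem_normalizer_iff.1 (hXH hx) e).1 (ha.EE_le he)
  have hdH : d ∈ H := Subgroup.noncommProd_mem H comm hΩH
  have hdX : d ∈ Subgroup.centralizer (Xb : Set G) := by
    rw [Subgroup.mem_centralizer_iff]
    intro y hy
    have h1 := conj_noncommProd_eq Ω comm y (by
      intro ω hω
      obtain ⟨x, hx, rfl⟩ := (hmemΩ ω).1 hω
      refine (hmemΩ _).2 ⟨y * x, Xb.mul_mem hy hx, ?_⟩
      group)
    rw [← hd] at h1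
    calc y * d = (y * d * y⁻¹) * y := by group
      _ = d * y := by rw [h1]
  have heΩ : e ∈ Ω := (hmemΩ e).2 ⟨1, Xb.one_mem, by group⟩
  have hsplit := Finset.mul_noncommProd_erase Ω heΩ id comm
  set f := (Ω.erase e).noncommProd id
    (fun _ hx _ hy hxy => comm (Finset.mem_of_mem_erase hx) (Finset.mem_of_mem_erase hy) hxy)
    with hf
  refine ⟨d, Subgroup.mem_inf.2 ⟨hdH, hdX⟩, f, ?_, ?_, ?_, ?_⟩
  · apply Subgroup.noncommProd_mem H
    intro ω hω
    exact hΩH ω (Finset.mem_of_mem_erase hω)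
  · rw [hd, ← hsplit]
    rfl
  rotate_left
  · apply Subgroup.noncommProd_mem (Subgroup.centralizer ((⁅V, E⁆ : Subgroup G) : Set G))
    intro ω hω
    obtain ⟨hωe, hωΩ⟩ := Finset.mem_erase.1 hω
    obtain ⟨x, hx, rfl⟩ := (hmemΩ ω).1 hωΩ
    exact (hkey x hx hωe).2 (hEconj x hx)
  · apply Subgroup.noncommProd_mem (Subgroup.centralizer (E : Set G))
    intro ω hω
    obtain ⟨hωe, hωΩ⟩ := Finset.mem_erase.1 hω
    obtain ⟨x, hx, rfl⟩ := (hmemΩ ω).1 hωΩ
    have h1 := (hkey x hx hωe).1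
    show x * e * x⁻¹ ∈ Subgroup.centralizer (E : Set G)
    rw [Subgroup.mem_centralizer_iff]
    intro g hg
    have h3 : ⁅x * e * x⁻¹, g⁆ ∈ ⁅EE p H (x * a * x⁻¹), E⁆ :=
      Subgroup.commutator_mem_commutator (hEconj x hx) hg
    rw [h1, Subgroup.mem_bot] at h3
    exact (commutatorElement_eq_one_iff_mul_comm.1 h3).symm

/-- **(Δ)**: a component is generated by fixed points of `X` and its atom -/
theorem EE_le_sup [Finite G] [Fact p.Prime] (h : Hyp p V H)
    (hS3 : H = ⨆ A : {A : Subgroup G // A ≤ H ∧ Cfsg.IsBestOffenderOn p V A}, (A : Subgroup G))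
    {a : G} (ha : IsAtom p V H a) (Xb : Subgroup G)
    (hXV : Xb ≤ Subgroup.normalizer (V : Set G))
    (hXH : Xb ≤ Subgroup.normalizer (H : Set G)) (hcop : (Nat.card Xb).Coprime (Nat.card H)) :
    EE p H a ≤ (H ⊓ Subgroup.centralizer (Xb : Set G)) ⊔ Subgroup.zpowers a := by
  set M := (H ⊓ Subgroup.centralizer (Xb : Set G)) ⊔ Subgroup.zpowers a with hM
  have haM : a ∈ M := Subgroup.mem_sup_right (Subgroup.mem_zpowers a)
  have hconj : ∀ e ∈ EE p H a, e * a * e⁻¹ ∈ M := by
    intro e he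
    obtain ⟨d, hd, f, _, hdef, hfC, _⟩ := exists_fixed_mul h ha Xb hXV hXH hcop he
    have hfa : f * a = a * f :=
      (Subgroup.mem_centralizer_iff.1 hfC a (mem_EE p H a)).symm
    have : e * a * e⁻¹ = d * a * d⁻¹ := by
      rw [hdef]
      calc e * a * e⁻¹ = e * (a * f) * f⁻¹ * e⁻¹ := by group
        _ = e * (f * a) * f⁻¹ * e⁻¹ := by rw [hfa]
        _ = e * f * a * (e * f)⁻¹ := by group
    rw [this]
    exact M.mul_mem (M.mul_mem (Subgroup.mem_sup_left hd) haM) (M.inv_mem (Subgroup.mem_sup_left hd))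
  obtain ⟨hnorm, hcomm, hsup, _⟩ := ha.direct_factor h hS3
  set F := H ⊓ Subgroup.centralizer ((⁅V, EE p H a⁆ : Subgroup G) : Set G) with hF
  have hconj' : ∀ r ∈ H, r * a * r⁻¹ ∈ M := by
    intro r hr
    rw [← hsup] at hr
    obtain ⟨e, he, f, hf, rfl⟩ := (Cfsg.Agent.H1.mem_sup_of_le_normalizer (EE p H a) F
      (inf_le_left.trans hnorm)).1 hr
    have hfa : f * a = a * f := by
      have h3 : ⁅a, f⁆ ∈ ⁅EE p H a, F⁆ :=
        Subgroup.commutator_mem_commutator (mem_EE p H a) hf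
      rw [hcomm, Subgroup.mem_bot] at h3
      exact (commutatorElement_eq_one_iff_mul_comm.1 h3).symm
    have : e * f * a * (e * f)⁻¹ = e * a * e⁻¹ := by
      calc e * f * a * (e * f)⁻¹ = e * (f * a) * f⁻¹ * e⁻¹ := by group
        _ = e * (a * f) * f⁻¹ * e⁻¹ := by rw [hfa]
        _ = e * a * e⁻¹ := by group
    rw [this]
    exact hconj e he
  unfold EE QQ
  apply sup_le _ (Subgroup.zpowers_le.2 haM)
  rw [Subgroup.commutator_le]
  intro r hr z hz
  obtain ⟨n, rfl⟩ := Subgroup.mem_zpowers_iff.1 hz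
  have h1 : r * a ^ n * r⁻¹ = (r * a * r⁻¹) ^ n := by rw [conj_zpow]
  rw [commutatorElement_def, h1]
  exact M.mul_mem (M.zpow_mem (hconj' r (KK_le p H hr)) n) (M.inv_mem (M.zpow_mem haM n))

end Cfsg.Agent.H1.FFX
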