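import Mathlib
import Cfsg.Agent.H1.Basic
import Cfsg.Agent.H1.Card
import Cfsg.Agent.H1.Cores
import Cfsg.Agent.H1.Thompson
import Cfsg.Agent.H1.CoprimeAction
import Cfsg.Agent.H1.MinNonPClosed
import Cfsg.Agent.H1.PStableQuot
import Cfsg.Agent.H1.ZJFactor
import Cfsg.Agent.H1.ThompsonFact
import Cfsg.Agent.H2.PPrimeCore
import Cfsg.Agent.Lib.Lead.TISylow
import Cfsg.Agent.Lib.Helper7.Thompson
import Cfsg.Prelude.Def_PLocal

set_option autoImplicit false

namespace Cfsg.Agent.H1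

open Cfsg
open scoped Pointwise

section liftNorm
variable {G : Type*} [Group G] [Finite G] {p : ℕ} [Fact p.Prime]

/-- normalizers of `p`-subgroups lift through quotients by normal `p'`-subgroups -/
lemma exists_mem_normalizer_map_mk_eq (K P : Subgroup G) [K.Normal] (hP : IsPGroup p P)
    (hK : (Nat.card K).Coprime p) {g : G}
    (hg : QuotientGroup.mk' K g ∈ Subgroup.normalizer
      ((P.map (QuotientGroup.mk' K) : Subgroup (G ⧸ K)) : Set (G ⧸ K))) :
    ∃ n ∈ Subgroup.normalizer (P : Set G), QuotientGroup.mk' K n = QuotientGroup.mk' K g := by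
  set L : Subgroup G := K ⊔ P with hL
  have hPL : P ≤ L := le_sup_right
  have hKL : K ≤ L := le_sup_left
  have hLcomap : (P.map (QuotientGroup.mk' K)).comap (QuotientGroup.mk' K) = L := by
    rw [Subgroup.comap_map_eq, QuotientGroup.ker_mk', sup_comm]
  have hgL : g ∈ Subgroup.normalizer (L : Set G) := by
    rw [← hLcomap]
    exact Subgroup.le_normalizer_comap (QuotientGroup.mk' K) hg
  -- `P` is Sylow in `L`
  have hinf := inf_eq_bot_of_pgroup_coprime K P hP hK
  have hcard := card_sup_mul_card_inf P K (Subgroup.normalizer_eq_top K ▸ le_top)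
  rw [inf_comm, hinf, Subgroup.card_bot, mul_one, sup_comm] at hcard
  have hP' : IsPGroup p (P.subgroupOf L) := hP.comap_subtype
  have hidx : ¬ p ∣ (P.subgroupOf L).index := by
    have h1 : (P.subgroupOf L).index * Nat.card P = Nat.card L := by
      have := card_eq_relIndex_mul_card hPL
      exact this.symm
    rw [hcard] at h1
    have h2 : (P.subgroupOf L).index = Nat.card K :=
      Nat.eq_of_mul_eq_mul_right Nat.card_pos (by rw [h1, mul_comm])
    rw [h2]
    exact (Nat.Prime.coprime_iff_not_dvd Fact.out).1 hK.symm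
  obtain ⟨Q, hQ⟩ : ∃ Q : Sylow p ↥L, (Q : Subgroup ↥L) = P.subgroupOf L :=
    ⟨hP'.toSylow hidx, IsPGroup.toSylow_coe _ _⟩
  -- the conjugate of `P`
  have hconjL : ∀ x ∈ P, g * x * g⁻¹ ∈ L := fun x hx =>
    (Subgroup.mem_normalizer_iff.1 hgL x).1 (hPL hx)
  set Pg : Subgroup G := P.map (MulAut.conj g).toMonoidHom with hPg
  have hPgp : IsPGroup p Pg := hP.map _
  obtain ⟨Q', hQ'⟩ := (hPgp.comap_subtype (K := L)).exists_le_sylow
  obtain ⟨y, hy⟩ := MulAction.exists_smul_eq ↥L Q Q'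
  have hmain : ∀ x ∈ P, ((y : G)⁻¹ * g) * x * ((y : G)⁻¹ * g)⁻¹ ∈ P := by
    intro x hx
    have h1 : (⟨g * x * g⁻¹, hconjL x hx⟩ : ↥L) ∈ (Q' : Subgroup ↥L) := by
      apply hQ'
      show g * x * g⁻¹ ∈ Pg
      exact ⟨x, hx, rfl⟩
    rw [← hy, Lib.Lead.TISylow.mem_sylow_smul, hQ, Subgroup.mem_subgroupOf] at h1
    have e : ((y : G)⁻¹ * g) * x * ((y : G)⁻¹ * g)⁻¹ = (y : G)⁻¹ * (g * x * g⁻¹) * (y : G) := by group
    rw [e]
    exact h1
  have hyn : (y : G)⁻¹ * g ∈ Subgroup.normalizer (P : Set G) := mem_normalizer_of_conj_mem P _ hmain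
  have hyL : (y : G) ∈ K ⊔ P := y.2
  rw [mem_sup_of_le_normalizer K P (Subgroup.normalizer_eq_top K ▸ le_top)] at hyL
  obtain ⟨k, hk, u, hu, hyku⟩ := hyL
  refine ⟨k⁻¹ * g, ?_, ?_⟩
  · have e : k⁻¹ * g = u * ((y : G)⁻¹ * g) := by rw [hyku]; group
    rw [e]
    exact mul_mem (Subgroup.le_normalizer hu) hyn
  · rw [map_mul, map_inv]
    have : QuotientGroup.mk' K k = 1 := (QuotientGroup.eq_one_iff k).2 hk
    rw [this, inv_one, one_mul]

/-- centralizers of `p`-subgroups lift through quotients by normal `p'`-subgroups -/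
lemma exists_mem_centralizer_map_mk_eq (K P : Subgroup G) [K.Normal] (hP : IsPGroup p P)
    (hK : (Nat.card K).Coprime p) {g : G}
    (hg : QuotientGroup.mk' K g ∈ Subgroup.centralizer
      ((P.map (QuotientGroup.mk' K) : Subgroup (G ⧸ K)) : Set (G ⧸ K))) :
    ∃ c ∈ Subgroup.centralizer (P : Set G), QuotientGroup.mk' K c = QuotientGroup.mk' K g := by
  obtain ⟨n, hn, hng⟩ := exists_mem_normalizer_map_mk_eq K P hP hK
    (Subgroup.centralizer_le_normalizer _ hg)
  refine ⟨n, ?_, hng⟩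
  apply mem_centralizer_of_map_mk_mem K P hP hK hn
  rw [hng]; exact hg

end liftNorm

section natur
variable {G H : Type*} [Group G] [Group H]

lemma isMaxEA_map [Finite G] {p : ℕ} (f : G →* H) (P : Subgroup G) (hinj : ∀ x ∈ P, f x = 1 → x = 1)
    {A : Subgroup G} (hA : Lib.Helper7.IsMaxEA p P A) : Lib.Helper7.IsMaxEA p (P.map f) (A.map f) := by
  obtain ⟨hAP, hAe, hmax⟩ := hA
  refine ⟨Subgroup.map_mono hAP, isElementaryAbelian_map f hAe, ?_⟩
  intro B hB hBe
  have hBe' : Cfsg.IsElementaryAbelian p (B.comap f ⊓ P) := by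
    refine ⟨isMulCommutative_comap_inf f P hinj B hBe.1, ?_⟩
    intro x hx
    apply hinj _ (pow_mem hx.2 p)
    rw [map_pow]
    exact hBe.2 _ hx.1
  have h1 := hmax (B.comap f ⊓ P) inf_le_right hBe'
  rw [← card_map_of_injOn f (B.comap f ⊓ P) (fun x hx => hinj x hx.2), map_comap_inf_eq f P B hB] at h1
  rw [card_map_of_injOn f A (fun x hx => hinj x (hAP hx))]
  exact h1

lemma isMaxEA_comap [Finite G] {p : ℕ} (f : G →* H) (P : Subgroup G) (hinj : ∀ x ∈ P, f x = 1 → x = 1)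
    {B : Subgroup H} (hB : Lib.Helper7.IsMaxEA p (P.map f) B) : Lib.Helper7.IsMaxEA p P (B.comap f ⊓ P) := by
  obtain ⟨hBP, hBe, hmax⟩ := hB
  have hBe' : Cfsg.IsElementaryAbelian p (B.comap f ⊓ P) := by
    refine ⟨isMulCommutative_comap_inf f P hinj B hBe.1, ?_⟩
    intro x hx
    apply hinj _ (pow_mem hx.2 p)
    rw [map_pow]
    exact hBe.2 _ hx.1
  refine ⟨inf_le_right, hBe', ?_⟩
  intro A hA hAe
  have h1 := hmax (A.map f) (Subgroup.map_mono hA) (isElementaryAbelian_map f hAe)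
  rw [card_map_of_injOn f A (fun x hx => hinj x (hA hx))] at h1
  rw [← card_map_of_injOn f (B.comap f ⊓ P) (fun x hx => hinj x hx.2), map_comap_inf_eq f P B hBP]
  exact h1

/-- naturality of `J(P)` along a homomorphism injective on `P` -/
theorem thompsonSubgroupOf_map [Finite G] {p : ℕ} (f : G →* H) (P : Subgroup G)
    (hinj : ∀ x ∈ P, f x = 1 → x = 1) :
    Cfsg.thompsonSubgroupOf p (P.map f) = (Cfsg.thompsonSubgroupOf p P).map f := by
  apply le_antisymm
  · apply Lib.Helper7.thompsonSubgroupOf_le_of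
    intro B hB
    have h1 := (isMaxEA_comap f P hinj hB).le_thompsonSubgroupOf
    have h2 := Subgroup.map_mono (f := f) h1
    rw [map_comap_inf_eq f P B hB.1] at h2
    exact h2
  · rw [Subgroup.map_le_iff_le_comap]
    apply Lib.Helper7.thompsonSubgroupOf_le_of
    intro A hA
    rw [← Subgroup.map_le_iff_le_comap]
    exact (isMaxEA_map f P hinj hA).le_thompsonSubgroupOf

/-- naturality of `Ω₁(Z(P))` along a homomorphism injective on `P` -/
theorem omegaOne_center_map {p : ℕ} (f : G →* H) (P : Subgroup G)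
    (hinj : ∀ x ∈ P, f x = 1 → x = 1) :
    Cfsg.omegaOne p (P.map f ⊓ Subgroup.centralizer ((P.map f : Subgroup H) : Set H)) =
      (Cfsg.omegaOne p (P ⊓ Subgroup.centralizer (P : Set G))).map f := by
  apply le_antisymm
  · rw [Cfsg.omegaOne, Subgroup.closure_le]
    rintro y ⟨⟨hyP, hyC⟩, hyp⟩
    obtain ⟨x, hx, rfl⟩ := hyP
    have hx' : x ∈ P := hx
    refine ⟨x, ?_, rfl⟩
    apply Subgroup.subset_closure
    refine ⟨⟨hx', Subgroup.mem_centralizer_iff.2 ?_⟩, ?_⟩
    · intro h hh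
      apply eq_of_map_eq_of_injOn f P hinj (mul_mem hh hx') (mul_mem hx' hh)
      rw [map_mul, map_mul]
      exact Subgroup.mem_centralizer_iff.1 hyC _ (Subgroup.mem_map_of_mem f hh)
    · apply hinj _ (pow_mem hx' p)
      rw [map_pow]; exact hyp
  · rw [Subgroup.map_le_iff_le_comap, Cfsg.omegaOne, Subgroup.closure_le]
    rintro x ⟨⟨hxP, hxC⟩, hxp⟩
    rw [SetLike.mem_coe, Subgroup.mem_comap]
    apply Subgroup.subset_closure
    refine ⟨⟨Subgroup.mem_map_of_mem f hxP, Subgroup.mem_centralizer_iff.2 ?_⟩, ?_⟩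
    · rintro _ ⟨h, hh, rfl⟩
      rw [← map_mul, ← map_mul, Subgroup.mem_centralizer_iff.1 hxC h hh]
    · rw [← map_pow, hxp, map_one]

end natur

end Cfsg.Agent.H1
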