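import Mathlib
import Cfsg.Prelude.Def_PLocal
import Cfsg.Agent.H1.FFX2
import Cfsg.Agent.H1.ThompsonFactQuot
import Cfsg.Agent.Lib.Helper4.FFThompson
import Cfsg.Agent.Lib.Helper7.ProdSat2
import Cfsg.Agent.Lib.Helper7.KNormalizer

/-!
# Coprime operators on a `p`-separable group: generation by fixed points
-/

set_option autoImplicit false

namespace Cfsg.Agent.H1.FFX

open scoped commutatorElement
open Cfsg.Agent.Lib.Helper4.Offender Cfsg.Agent.Lib.Helper4.FFPair Cfsg.Agent.Lib.Helper4.FFHol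
open Cfsg.Agent.Lib.Helper7

section charRes

variable {𝕂 : Type*} [Group 𝕂] (V : Subgroup 𝕂) [hc : V.Characteristic]

theorem char_apply_mem (φ : MulAut 𝕂) {v : 𝕂} (hv : v ∈ V) : φ v ∈ V := by
  have h := hc.fixed φ
  have h1 : v ∈ V.comap φ.toMonoidHom := by rw [h]; exact hv
  exact h1

/-- restriction of automorphisms to a characteristic subgroup -/
def charRes : MulAut 𝕂 →* MulAut ↥V where
  toFun φ :=
    { toFun := fun v => ⟨φ v, char_apply_mem V φ v.2⟩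
      invFun := fun v => ⟨φ⁻¹ v, char_apply_mem V φ⁻¹ v.2⟩
      left_inv := fun v => Subtype.ext (by simp)
      right_inv := fun v => Subtype.ext (by simp)
      map_mul' := fun v w => Subtype.ext (by simp) }
  map_one' := by ext v; rfl
  map_mul' := fun φ ψ => by ext v; rfl

theorem charRes_coe (φ : MulAut 𝕂) (v : ↥V) : ((charRes V φ v : ↥V) : 𝕂) = φ v := rfl

/-- automorphisms of `𝕂` inside the holomorph of `V` -/
def autProj : MulAut 𝕂 →* Hol V := (SemidirectProduct.inr).comp (charRes V)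

theorem autProj_conj_proj (φ : MulAut 𝕂) (k : 𝕂) :
    autProj V φ * proj V k * (autProj V φ)⁻¹ = proj V (φ k) := by
  unfold autProj proj
  simp only [MonoidHom.comp_apply]
  rw [← map_inv, ← map_mul, ← map_mul]
  congr 1
  have h1 : (charRes V φ)⁻¹ = charRes V φ⁻¹ := (map_inv (charRes V) φ).symm
  ext v
  rw [h1]
  show φ (k * φ⁻¹ (v : 𝕂) * k⁻¹) = φ k * v * (φ k)⁻¹
  rw [map_mul, map_mul, map_inv, MulAut.apply_inv_self]

theorem autProj_conj_inl (φ : MulAut 𝕂) (v : ↥V) :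
    autProj V φ * SemidirectProduct.inl v * (autProj V φ)⁻¹ =
      SemidirectProduct.inl (charRes V φ v) := by
  unfold autProj
  rw [MonoidHom.comp_apply, ← map_inv, ← SemidirectProduct.inl_aut]
  rfl

end charRes

theorem mem_normalizer_of_hom {A B : Type*} [Group A] [Group B] (f : A →* B) (T : Subgroup B)
    (key : ∀ a : A, ∀ y ∈ T, f a * y * (f a)⁻¹ ∈ T) (a : A) :
    f a ∈ Subgroup.normalizer (T : Set B) := by
  rw [Subgroup.mem_normalizer_iff]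
  intro y
  constructor
  · exact key a y
  · intro hy
    have := key a⁻¹ _ hy
    rw [map_inv] at this
    have e : (f a)⁻¹ * (f a * y * (f a)⁻¹) * (f a)⁻¹⁻¹ = y := by group
    rwa [e] at this

/-- fixed points of a group of automorphisms -/
def fixPts {𝕂 : Type*} [Group 𝕂] (Y : Subgroup (MulAut 𝕂)) : Subgroup 𝕂 where
  carrier := {k | ∀ φ ∈ Y, φ k = k}
  one_mem' := fun φ _ => map_one φ
  mul_mem' := fun {a b} ha hb φ hφ => by rw [map_mul, ha φ hφ, hb φ hφ]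
  inv_mem' := fun {a} ha φ hφ => by rw [map_inv, ha φ hφ]

theorem mem_fixPts {𝕂 : Type*} [Group 𝕂] (Y : Subgroup (MulAut 𝕂)) (k : 𝕂) :
    k ∈ fixPts Y ↔ ∀ φ ∈ Y, φ k = k := Iff.rfl

/-- the subgroup generated by all `Ω₁(Z(S))`, `S` a Sylow `p`-subgroup -/
def Vof (p : ℕ) (𝕂 : Type*) [Group 𝕂] : Subgroup 𝕂 :=
  ⨆ S : Sylow p 𝕂, Cfsg.omegaOne p ((S : Subgroup 𝕂) ⊓
    Subgroup.centralizer ((S : Subgroup 𝕂) : Set 𝕂))

instance Vof_char (p : ℕ) [Fact p.Prime] (𝕂 : Type*) [Group 𝕂] [Finite 𝕂] :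
    (Vof p 𝕂).Characteristic := by
  rw [Subgroup.characteristic_iff_map_le]
  intro φ
  unfold Vof
  rw [Subgroup.map_iSup]
  apply iSup_le
  intro S
  have h1 := Cfsg.Agent.H1.omegaOne_center_map (p := p) φ.toMonoidHom (S : Subgroup 𝕂)
    (fun x _ hx => by simpa using hx)
  rw [← h1]
  exact le_iSup (fun S : Sylow p 𝕂 => Cfsg.omegaOne p ((S : Subgroup 𝕂) ⊓
    Subgroup.centralizer ((S : Subgroup 𝕂) : Set 𝕂))) (S.mapSurjective φ.surjective)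

instance thompson_char (p : ℕ) [Fact p.Prime] (𝕂 : Type*) [Group 𝕂] [Finite 𝕂] :
    (Cfsg.thompsonSubgroup p 𝕂).Characteristic :=
  (Cfsg.Agent.S0602.result (G := 𝕂) (p := p)).1

/-- the standing facts of the coprime-operator situation, in the holomorph of `V` -/
structure Setup (p : ℕ) [Fact p.Prime] (𝕂 : Type*) [Group 𝕂] [Finite 𝕂]
    (Y : Subgroup (MulAut 𝕂)) : Prop where
  h : Hyp p (VV (Vof p 𝕂)) ((Cfsg.thompsonSubgroup p 𝕂).map (proj (Vof p 𝕂)))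
  hS3 : (Cfsg.thompsonSubgroup p 𝕂).map (proj (Vof p 𝕂)) =
    ⨆ A : {A : Subgroup (Hol (Vof p 𝕂)) //
      A ≤ (Cfsg.thompsonSubgroup p 𝕂).map (proj (Vof p 𝕂)) ∧
        Cfsg.IsBestOffenderOn p (VV (Vof p 𝕂)) A}, (A : Subgroup (Hol (Vof p 𝕂)))
  hXV : Y.map (autProj (Vof p 𝕂)) ≤
    Subgroup.normalizer (VV (Vof p 𝕂) : Set (Hol (Vof p 𝕂)))
  hXH : Y.map (autProj (Vof p 𝕂)) ≤ Subgroup.normalizer
    (((Cfsg.thompsonSubgroup p 𝕂).map (proj (Vof p 𝕂)) : Subgroup (Hol (Vof p 𝕂))) :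
      Set (Hol (Vof p 𝕂)))
  hcop : (Nat.card (Y.map (autProj (Vof p 𝕂)))).Coprime
    (Nat.card ((Cfsg.thompsonSubgroup p 𝕂).map (proj (Vof p 𝕂))))
  hfix : (Cfsg.thompsonSubgroup p 𝕂).map (proj (Vof p 𝕂)) ⊓
    Subgroup.centralizer ((Y.map (autProj (Vof p 𝕂)) : Subgroup (Hol (Vof p 𝕂))) :
      Set (Hol (Vof p 𝕂))) ≤ (fixPts Y).map (proj (Vof p 𝕂))
  hV : Cfsg.IsElementaryAbelian p (Vof p 𝕂)

theorem setup {𝕂 : Type*} [Group 𝕂] [Finite 𝕂] {p : ℕ} [Fact p.Prime]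
    (hsep : Cfsg.IsPSolvable p 𝕂) (hO : Cfsg.pPrimeCore p 𝕂 = ⊥)
    (Y : Subgroup (MulAut 𝕂)) (hcop : (Nat.card Y).Coprime (Nat.card 𝕂))
    (hlift : ∀ j : 𝕂, (∀ φ ∈ Y, φ j * j⁻¹ ∈ Subgroup.centralizer (Vof p 𝕂 : Set 𝕂)) →
      ∃ c ∈ fixPts Y, j⁻¹ * c ∈ Subgroup.centralizer (Vof p 𝕂 : Set 𝕂)) :
    Setup p 𝕂 Y := by
  have hc := Cfsg.Agent.Lib.Lead.PSolvable.centralizer_pCore_le hsep hO
  obtain ⟨_, hV, hD⟩ := Cfsg.Agent.S0601.result (G := 𝕂) (p := p) hc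
  have hV' : Cfsg.IsElementaryAbelian p (Vof p 𝕂) := hV
  have hJ : Cfsg.thompsonSubgroup p 𝕂 ≤ ⨆ A : {A : Subgroup 𝕂 //
      A ≤ Cfsg.thompsonSubgroup p 𝕂 ∧ Cfsg.IsBestOffenderOn p (Vof p 𝕂) A}, (A : Subgroup 𝕂) := by
    apply sSup_le
    intro A hA
    exact le_iSup (fun A' : {A : Subgroup 𝕂 // A ≤ Cfsg.thompsonSubgroup p 𝕂 ∧
      Cfsg.IsBestOffenderOn p (Vof p 𝕂) A} => (A' : Subgroup 𝕂))
      ⟨A, le_sSup hA, Cfsg.Agent.S0606.result _ hV' A hA⟩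
  have hQ : NoPCore (Vof p 𝕂) p := noPCore_of_relIndex (Vof p 𝕂) hD
  obtain ⟨h, hS3⟩ := transfer (Vof p 𝕂) hV' (Cfsg.thompsonSubgroup p 𝕂) hJ
    (hS1_of (Vof p 𝕂) (Cfsg.thompsonSubgroup p 𝕂) hsep hQ)
  have hXH : Y.map (autProj (Vof p 𝕂)) ≤ Subgroup.normalizer
      (((Cfsg.thompsonSubgroup p 𝕂).map (proj (Vof p 𝕂)) : Subgroup (Hol (Vof p 𝕂))) :
        Set (Hol (Vof p 𝕂))) := by
    rintro x ⟨φ, _, rfl⟩
    apply mem_normalizer_of_hom
    rintro ψ y ⟨j, hj, rfl⟩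
    rw [autProj_conj_proj]
    exact ⟨ψ j, char_apply_mem _ ψ hj, rfl⟩
  refine ⟨h, hS3, ?_, hXH, ?_, ?_, hV'⟩
  · rintro x ⟨φ, _, rfl⟩
    apply mem_normalizer_of_hom
    rintro ψ y ⟨v, rfl⟩
    rw [autProj_conj_inl]
    exact ⟨_, rfl⟩
  · have h1 : Nat.card (Y.map (autProj (Vof p 𝕂))) ∣ Nat.card Y := Subgroup.card_map_dvd _ _
    have h2 : Nat.card ((Cfsg.thompsonSubgroup p 𝕂).map (proj (Vof p 𝕂))) ∣ Nat.card 𝕂 :=
      (Subgroup.card_map_dvd _ _).trans (Subgroup.card_subgroup_dvd_card _)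
    exact Nat.Coprime.coprime_dvd_left h1 (Nat.Coprime.coprime_dvd_right h2 hcop)
  · rintro d hd
    obtain ⟨⟨j, hj, rfl⟩, hdC⟩ := Subgroup.mem_inf.1 hd
    have h1 : ∀ φ ∈ Y, φ j * j⁻¹ ∈ Subgroup.centralizer (Vof p 𝕂 : Set 𝕂) := by
      intro φ hφ
      have h2 := Subgroup.mem_centralizer_iff.1 hdC (autProj (Vof p 𝕂) φ) ⟨φ, hφ, rfl⟩
      have h3 : autProj (Vof p 𝕂) φ * proj (Vof p 𝕂) j * (autProj (Vof p 𝕂) φ)⁻¹ =
          proj (Vof p 𝕂) j := by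
        rw [h2]; group
      rw [autProj_conj_proj] at h3
      rw [← proj_eq_one_iff, map_mul, map_inv, h3, mul_inv_cancel]
    obtain ⟨c, hc, hjc⟩ := hlift j h1
    refine ⟨c, hc, ?_⟩
    rw [← proj_eq_one_iff, map_mul, map_inv] at hjc
    have : proj (Vof p 𝕂) c = proj (Vof p 𝕂) j * ((proj (Vof p 𝕂) j)⁻¹ * proj (Vof p 𝕂) c) := by
      group
    rw [this, hjc, mul_one]

/-- **Generation**: `𝕂` is generated by `N(J(S))`, `C(Ω₁(Z(S)))` and the fixed points of a coprime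
group of automorphisms. -/
theorem gen_top {𝕂 : Type*} [Group 𝕂] [Finite 𝕂] {p : ℕ} [Fact p.Prime]
    (Y : Subgroup (MulAut 𝕂)) (hs : Setup p 𝕂 Y) (S : Sylow p 𝕂) :
    Subgroup.normalizer (Cfsg.thompsonSubgroupOf p (S : Subgroup 𝕂) : Set 𝕂) ⊔
      Subgroup.centralizer (Cfsg.omegaOne p ((S : Subgroup 𝕂) ⊓
        Subgroup.centralizer ((S : Subgroup 𝕂) : Set 𝕂)) : Set 𝕂) ⊔ fixPts Y = ⊤ := by
  obtain ⟨h, hS3, hXV, hXH, hcopX, hfix, _⟩ := hs
  obtain ⟨K₀, hK₀⟩ : ∃ K₀ : Subgroup 𝕂, K₀ =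
      Subgroup.normalizer (Cfsg.thompsonSubgroupOf p (S : Subgroup 𝕂) : Set 𝕂) ⊔
      Subgroup.centralizer (Cfsg.omegaOne p ((S : Subgroup 𝕂) ⊓
        Subgroup.centralizer ((S : Subgroup 𝕂) : Set 𝕂)) : Set 𝕂) ⊔ fixPts Y := ⟨_, rfl⟩
  rw [← hK₀]
  have hZV : Cfsg.omegaOne p ((S : Subgroup 𝕂) ⊓
      Subgroup.centralizer ((S : Subgroup 𝕂) : Set 𝕂)) ≤ Vof p 𝕂 :=
    le_iSup (fun S : Sylow p 𝕂 => Cfsg.omegaOne p ((S : Subgroup 𝕂) ⊓
      Subgroup.centralizer ((S : Subgroup 𝕂) : Set 𝕂))) S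
  have hker : Subgroup.centralizer (Vof p 𝕂 : Set 𝕂) ≤ K₀ := by
    rw [hK₀]
    exact (cent_anti hZV).trans (le_sup_right.trans le_sup_left)
  have hNK : Subgroup.normalizer (Cfsg.thompsonSubgroupOf p (S : Subgroup 𝕂) : Set 𝕂) ≤ K₀ := by
    rw [hK₀]
    exact le_sup_left.trans le_sup_left
  have hSK : (S : Subgroup 𝕂) ≤ K₀ :=
    (Subgroup.le_normalizer.trans
      (Cfsg.Agent.H1.normalizer_le_normalizer_thompsonSubgroupOf _)).trans hNK
  have hfixK : fixPts Y ≤ K₀ := by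
    rw [hK₀]
    exact le_sup_right
  have hHM : (Cfsg.thompsonSubgroup p 𝕂).map (proj (Vof p 𝕂)) ≤ K₀.map (proj (Vof p 𝕂)) := by
    apply le_of_atoms h hS3
    intro c hc
    have hsyl : IsSylowIn p (((S : Subgroup 𝕂) ⊓ Cfsg.thompsonSubgroup p 𝕂).map (proj (Vof p 𝕂)))
        ((Cfsg.thompsonSubgroup p 𝕂).map (proj (Vof p 𝕂))) :=
      ((IsSylowIn.of_sylow_top S).inf_normal (Cfsg.thompsonSubgroup p 𝕂) le_top
        (Subgroup.normalizer_eq_top (Cfsg.thompsonSubgroup p 𝕂)).ge).map_hom (proj (Vof p 𝕂))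
    obtain ⟨x, hxH, hx⟩ := hsyl.exists_conj_le hc.isPGroup hc.zpowers_le
    have hc' := hc.conj h hxH
    have hEE : EE p ((Cfsg.thompsonSubgroup p 𝕂).map (proj (Vof p 𝕂))) (x * c * x⁻¹) =
        EE p ((Cfsg.thompsonSubgroup p 𝕂).map (proj (Vof p 𝕂))) c := by
      have h0 : (EE p ((Cfsg.thompsonSubgroup p 𝕂).map (proj (Vof p 𝕂))) c).map
          (MulAut.conj x).toMonoidHom =
          EE p ((Cfsg.thompsonSubgroup p 𝕂).map (proj (Vof p 𝕂))) c :=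
        Subgroup.mem_normalizer_iff_map_conj_eq.1 ((hc.direct_factor h hS3).1 hxH)
      rw [EE_conj c (Subgroup.le_normalizer hxH), h0]
    have h1 := EE_le_sup h hS3 hc' (Y.map (autProj (Vof p 𝕂))) hXV hXH hcopX
    have h2 : x * c * x⁻¹ ∈ K₀.map (proj (Vof p 𝕂)) := by
      obtain ⟨s, hs, hsx⟩ := hx c (Subgroup.mem_zpowers c)
      exact ⟨s, hSK (Subgroup.mem_inf.1 hs).1, hsx⟩
    have h3 : EE p ((Cfsg.thompsonSubgroup p 𝕂).map (proj (Vof p 𝕂))) c ≤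
        K₀.map (proj (Vof p 𝕂)) := by
      rw [← hEE]
      refine h1.trans (sup_le ?_ (Subgroup.zpowers_le.2 h2))
      exact hfix.trans (Subgroup.map_mono hfixK)
    exact h3 (mem_EE p _ c)
  have hJK : Cfsg.thompsonSubgroup p 𝕂 ≤ K₀ := by
    intro j hj
    obtain ⟨k, hk, hkj⟩ := hHM ⟨j, hj, rfl⟩
    have h1 : k⁻¹ * j ∈ Subgroup.centralizer (Vof p 𝕂 : Set 𝕂) := by
      rw [← proj_eq_one_iff, map_mul, map_inv, hkj, inv_mul_cancel]
    have : j = k * (k⁻¹ * j) := by group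
    rw [this]
    exact K₀.mul_mem hk (hker h1)
  have htop := Cfsg.Agent.H1.sylow_inf_normalizer_sup_eq_top S (Cfsg.thompsonSubgroup p 𝕂)
  have hJS : Cfsg.thompsonSubgroupOf p (S : Subgroup 𝕂) ≤
      (S : Subgroup 𝕂) ⊓ Cfsg.thompsonSubgroup p 𝕂 := by
    apply le_inf (Cfsg.Agent.Lib.Helper7.thompsonSubgroupOf_le _)
    rw [Cfsg.Agent.S0604.result (G := 𝕂) (p := p)]
    exact le_iSup (fun S : Sylow p 𝕂 => Cfsg.thompsonSubgroupOf p (S : Subgroup 𝕂)) S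
  have h5 := Cfsg.Agent.H1.thompsonSubgroupOf_eq_of_le hJS inf_le_left
  have hN : Subgroup.normalizer ((((S : Subgroup 𝕂) ⊓ Cfsg.thompsonSubgroup p 𝕂 : Subgroup 𝕂)) :
      Set 𝕂) ≤ K₀ := by
    refine le_trans ?_ hNK
    rw [← h5]
    exact Cfsg.Agent.H1.normalizer_le_normalizer_thompsonSubgroupOf _
  rw [eq_top_iff, ← htop]
  exact sup_le hN hJK

section concrete

variable {G : Type*} [Group G] (K X : Subgroup G)

/-- the automorphisms of `K` induced by `X` -/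
def indAut : Subgroup (MulAut ↥K) :=
  (X.subgroupOf (Subgroup.normalizer (K : Set G))).map K.normalizerMonoidHom

theorem fixPts_indAut (hXK : X ≤ Subgroup.normalizer (K : Set G)) :
    fixPts (indAut K X) = (Subgroup.centralizer (X : Set G)).subgroupOf K := by
  ext k
  rw [mem_fixPts, Subgroup.mem_subgroupOf, Subgroup.mem_centralizer_iff]
  constructor
  · intro hk x hx
    have h1 := hk (K.normalizerMonoidHom ⟨x, hXK hx⟩)
      ⟨⟨x, hXK hx⟩, Subgroup.mem_subgroupOf.2 hx, rfl⟩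
    have h2 := congrArg Subtype.val h1
    have h3 : x * (k : G) * x⁻¹ = k := h2
    calc x * (k : G) = (x * k * x⁻¹) * x := by group
      _ = k * x := by rw [h3]
  · rintro hk φ ⟨n, hn, rfl⟩
    apply Subtype.ext
    show (n : G) * k * (n : G)⁻¹ = k
    rw [hk (n : G) (Subgroup.mem_subgroupOf.1 hn)]
    group

theorem card_indAut_dvd : Nat.card (indAut K X) ∣ Nat.card X := by
  unfold indAut
  refine (Subgroup.card_map_dvd _ _).trans ?_
  rw [← Subgroup.card_map_of_injective (Subgroup.subtype_injective _),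
    Subgroup.subgroupOf_map_subtype]
  exact Subgroup.card_dvd_of_le inf_le_left

theorem char_map_normalizer (C : Subgroup ↥K) [hC : C.Characteristic] :
    Subgroup.normalizer (K : Set G) ≤
      Subgroup.normalizer ((C.map K.subtype : Subgroup G) : Set G) := by
  intro n hn
  have h1 := mem_normalizer_of_hom (Subgroup.normalizer (K : Set G)).subtype (C.map K.subtype)
    ?_ ⟨n, hn⟩
  · exact h1
  · rintro m y ⟨c, hc, rfl⟩
    exact ⟨K.normalizerMonoidHom m c, char_apply_mem C _ hc, rfl⟩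

theorem lift_indAut [Finite G] (hXK : X ≤ Subgroup.normalizer (K : Set G))
    (hcop : (Nat.card X).Coprime (Nat.card K)) (hsolv : Group.IsSolvable X)
    (C : Subgroup ↥K) [C.Characteristic] (j : ↥K) (hj : ∀ φ ∈ indAut K X, φ j * j⁻¹ ∈ C) :
    ∃ c ∈ fixPts (indAut K X), j⁻¹ * c ∈ C := by
  have hCn := char_map_normalizer K C
  obtain ⟨c, hc, hjc⟩ := Cfsg.Agent.S0022.result X K hXK hcop (Or.inl hsolv) (C.map K.subtype)
    (Subgroup.map_subtype_le _) (Subgroup.le_normalizer.trans hCn) (hXK.trans hCn) (j : G) j.2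
    (by
      intro a ha
      have h1 := hj (K.normalizerMonoidHom ⟨a, hXK ha⟩)
        ⟨⟨a, hXK ha⟩, Subgroup.mem_subgroupOf.2 ha, rfl⟩
      exact ⟨_, h1, rfl⟩)
  obtain ⟨hcK, hcX⟩ := Subgroup.mem_inf.1 hc
  refine ⟨⟨c, hcK⟩, ?_, ?_⟩
  · rw [fixPts_indAut K X hXK, Subgroup.mem_subgroupOf]
    exact hcX
  · obtain ⟨y, hy, hyc⟩ := hjc
    have : j⁻¹ * ⟨c, hcK⟩ = y := Subtype.ext (by simpa using hyc.symm)
    rw [this]
    exact hy

end concrete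

end Cfsg.Agent.H1.FFX
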