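import Mathlib
import Cfsg.Prelude.Def_PLocal
import Cfsg.Agent.H1.FFX3
import Cfsg.Agent.H1.NormMap

/-!
# The diagonal plane: fixed points of a coprime operator group induce `SL(2,p)`
-/

set_option autoImplicit false

namespace Cfsg.Agent.H1.FFX

open scoped commutatorElement IsMulCommutative
open Cfsg.Agent.Lib.Helper4.Offender Cfsg.Agent.Lib.Helper4.FFPair Cfsg.Agent.Lib.Helper4.FFHol
open Cfsg.Agent.H1

variable {G : Type*} [Group G]

/-- the norm map, with equivariance and its shape on a subgroup whose conjugates are either fixed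
pointwise or moved into a complement -/
theorem exists_normMap' [Finite G] (V A : Subgroup G) (hVab : IsMulCommutative V)
    (hAV : A ≤ Subgroup.normalizer (V : Set G)) :
    ∃ ν : V →* V,
      (∀ v : V, ∀ b : A, cjHom V A hAV b (ν v) = ν v) ∧
      (∀ d : ↥(Subgroup.normalizer (V : Set G)), (d : G) ∈ Subgroup.centralizer (A : Set G) →
        ∀ v : V, ν (cjHom V _ le_rfl d v) = cjHom V _ le_rfl d (ν v)) ∧
      (∀ W C : Subgroup G,
        (∀ b ∈ A, b ∈ Subgroup.centralizer (W : Set G) ∨ ∀ w ∈ W, b * w * b⁻¹ ∈ C) →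
        ∀ w : V, (w : G) ∈ W → ∃ c ∈ C, (ν w : G) =
          (w : G) ^ Nat.card ↥((Subgroup.centralizer (W : Set G)).subgroupOf A) * c) := by
  classical
  have := Fintype.ofFinite A
  let ν : V →* V :=
    { toFun := fun v => ∏ a : A, cjHom V A hAV a v
      map_one' := by simp
      map_mul' := fun v w => by simp [Finset.prod_mul_distrib] }
  have hν : ∀ v, ν v = ∏ a : A, cjHom V A hAV a v := fun v => rfl
  refine ⟨ν, ?_, ?_, ?_⟩
  · intro v b
    rw [hν, map_prod]
    simp only [cjHom_mul]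
    exact Fintype.prod_equiv (Equiv.mulLeft b) _ _ (fun a => rfl)
  · intro d hd v
    rw [hν, hν, map_prod]
    apply Finset.prod_congr rfl
    intro a _
    apply Subtype.ext
    simp only [cjHom_coe]
    have hc := Subgroup.mem_centralizer_iff.1 hd (a : G) a.2
    calc (a : G) * ((d : G) * v * (d : G)⁻¹) * (a : G)⁻¹
        = ((a : G) * d) * v * ((a : G) * d)⁻¹ := by group
      _ = ((d : G) * a) * v * ((d : G) * a)⁻¹ := by rw [hc]
      _ = (d : G) * ((a : G) * v * (a : G)⁻¹) * (d : G)⁻¹ := by group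
  · intro W C hdich w hw
    have hsplit := Finset.prod_filter_mul_prod_filter_not (Finset.univ : Finset ↥A)
      (fun a : ↥A => (a : G) ∈ Subgroup.centralizer (W : Set G)) (fun a => cjHom V A hAV a w)
    have hcard : (Finset.univ.filter
        (fun a : ↥A => (a : G) ∈ Subgroup.centralizer (W : Set G))).card =
        Nat.card ↥((Subgroup.centralizer (W : Set G)).subgroupOf A) := by
      rw [← Fintype.card_subtype, ← Nat.card_eq_fintype_card]
      rfl
    have h1 : ∏ a ∈ Finset.univ.filter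
        (fun a : ↥A => (a : G) ∈ Subgroup.centralizer (W : Set G)), cjHom V A hAV a w =
        w ^ Nat.card ↥((Subgroup.centralizer (W : Set G)).subgroupOf A) := by
      rw [Finset.prod_congr rfl (g := fun _ => w), Finset.prod_const, hcard]
      intro a ha
      rw [Finset.mem_filter] at ha
      apply Subtype.ext
      rw [cjHom_coe]
      have := Subgroup.mem_centralizer_iff.1 ha.2 (w : G) hw
      rw [← this]
      group
    have h2 : ((∏ a ∈ Finset.univ.filter
        (fun a : ↥A => ¬ (a : G) ∈ Subgroup.centralizer (W : Set G)), cjHom V A hAV a w : V) : G)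
        ∈ C := by
      have h3 : (∏ a ∈ Finset.univ.filter
          (fun a : ↥A => ¬ (a : G) ∈ Subgroup.centralizer (W : Set G)), cjHom V A hAV a w) ∈
          C.subgroupOf V := by
        apply Subgroup.prod_mem
        intro a ha
        rw [Finset.mem_filter] at ha
        rw [Subgroup.mem_subgroupOf, cjHom_coe]
        rcases hdich (a : G) a.2 with h4 | h4
        · exact absurd h4 ha.2
        · exact h4 (w : G) hw
      exact Subgroup.mem_subgroupOf.1 h3
    refine ⟨_, h2, ?_⟩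
    rw [hν, ← hsplit, Subgroup.coe_mul, h1, Subgroup.coe_pow]

/-- **The diagonal plane.**  The fixed points of `X` in `H` normalize a plane of fixed points of `X`
in `V` and induce `SL(2,p)` on it. -/
theorem exists_fixed_plane [Finite G] {p : ℕ} [Fact p.Prime] {V H : Subgroup G} (h : Hyp p V H)
    (hS3 : H = ⨆ A : {A : Subgroup G // A ≤ H ∧ Cfsg.IsBestOffenderOn p V A}, (A : Subgroup G))
    {a : G} (ha : IsAtom p V H a) (Xb : Subgroup G)
    (hXV : Xb ≤ Subgroup.normalizer (V : Set G))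
    (hXH : Xb ≤ Subgroup.normalizer (H : Set G)) (hcop : (Nat.card Xb).Coprime (Nat.card H)) :
    ∃ W : Subgroup G, W ≤ V ⊓ Subgroup.centralizer (Xb : Set G) ∧ Nat.card W = p ^ 2 ∧
      H ⊓ Subgroup.centralizer (Xb : Set G) ≤ Subgroup.normalizer (W : Set G) ∧
      ∃ hn : ((Subgroup.centralizer (W : Set G)).subgroupOf
          (H ⊓ Subgroup.centralizer (Xb : Set G))).Normal,
        Nonempty ((↥(H ⊓ Subgroup.centralizer (Xb : Set G)) ⧸
          (Subgroup.centralizer (W : Set G)).subgroupOf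
            (H ⊓ Subgroup.centralizer (Xb : Set G))) ≃*
              Matrix.SpecialLinearGroup (Fin 2) (ZMod p)) := by
  classical
  have hVab : IsMulCommutative V := h.hV.1
  have hWaV : ⁅V, EE p H a⁆ ≤ V := ha.comm_EE_le h
  obtain ⟨hHE, _, hsupEF, _⟩ := ha.direct_factor h hS3
  have hHWa : H ≤ Subgroup.normalizer ((⁅V, EE p H a⁆ : Subgroup G) : Set G) :=
    norm_comm h.hHV hHE
  have hpH : p ∣ Nat.card H := by
    rw [← ha.card_zpowers]
    exact Subgroup.card_dvd_of_le ha.zpowers_le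
  have hcopp : (Nat.card Xb).Coprime p := Nat.Coprime.coprime_dvd_right hpH hcop
  have hcopx : ∀ x ∈ Xb, (orderOf x).Coprime (Nat.card H) := by
    intro x hx
    have h1 : orderOf x ∣ Nat.card Xb := by
      have := orderOf_dvd_natCard (⟨x, hx⟩ : ↥Xb)
      rwa [← Subgroup.orderOf_coe] at this
    exact Nat.Coprime.coprime_dvd_left h1 hcop
  -- the conjugates of the plane under `X`
  have hdich : ∀ b ∈ Xb, b ∈ Subgroup.centralizer ((⁅V, EE p H a⁆ : Subgroup G) : Set G) ∨
      ∀ w ∈ ⁅V, EE p H a⁆, b * w * b⁻¹ ∈ V ⊓ Subgroup.centralizer (EE p H a : Set G) := by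
    intro b hb
    have haz := isAtom_conj ha (hXV hb) (hXH hb)
    rcases IsAtom.dichotomy h ha haz with heq | ⟨h1, _, _⟩
    · left
      have hbE : b ∈ Subgroup.normalizer (EE p H a : Set G) := by
        rw [Subgroup.mem_normalizer_iff_map_conj_eq]
        have h2 := EE_conj (p := p) (H := H) a (hXH hb)
        rw [← heq] at h2
        exact h2.symm
      exact stab_centralizes_comm h ha (hXV hb) hbE (hcopx b hb)
    · right
      intro w hw
      refine Subgroup.mem_inf.2 ⟨(Subgroup.mem_normalizer_iff.1 (hXV hb) w).1 (hWaV hw), h1 ?_⟩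
      rw [comm_conj' (hXV hb) (hXH hb)]
      exact ⟨w, hw, rfl⟩
  obtain ⟨ν, hν1, hν5, hν6⟩ := exists_normMap' V Xb hVab hXV
  -- injectivity on the plane
  have hinj : ∀ w : V, (w : G) ∈ ⁅V, EE p H a⁆ → ν w = 1 → w = 1 := by
    intro w hw hνw
    obtain ⟨c, hc, hwc⟩ := hν6 (⁅V, EE p H a⁆) (V ⊓ Subgroup.centralizer (EE p H a : Set G))
      hdich w hw
    rw [hνw, Subgroup.coe_one] at hwc
    obtain ⟨m, hm⟩ : ∃ m, m = Nat.card ↥((Subgroup.centralizer
      ((⁅V, EE p H a⁆ : Subgroup G) : Set G)).subgroupOf Xb) := ⟨_, rfl⟩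
    rw [← hm] at hwc
    have hwm : (w : G) ^ m = c⁻¹ := eq_inv_of_mul_eq_one_left hwc.symm
    have h1 : (w : G) ^ m ∈ ⁅V, EE p H a⁆ ⊓ Subgroup.centralizer (EE p H a : Set G) := by
      refine Subgroup.mem_inf.2 ⟨Subgroup.pow_mem _ hw m, ?_⟩
      rw [hwm]
      exact Subgroup.inv_mem _ (Subgroup.mem_inf.1 hc).2
    rw [ha.comm_EE_inf_cent h, Subgroup.mem_bot] at h1
    have hmX : m ∣ Nat.card Xb := by
      rw [hm]
      exact Subgroup.card_subgroup_dvd_card _
    have hmp : m.Coprime p := Nat.Coprime.coprime_dvd_left hmX hcopp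
    have ho1 : orderOf (w : G) ∣ m := orderOf_dvd_of_pow_eq_one h1
    have ho2 : orderOf (w : G) ∣ p := orderOf_dvd_of_pow_eq_one (h.hV.2 _ w.2)
    have ho : orderOf (w : G) = 1 := Nat.eq_one_of_dvd_coprimes hmp ho1 ho2
    exact Subtype.ext (orderOf_eq_one_iff.1 ho)
  obtain ⟨S₀, hS₀⟩ : ∃ S₀ : Subgroup ↥V, S₀ = (⁅V, EE p H a⁆).subgroupOf V := ⟨_, rfl⟩
  have hmemS₀ : ∀ w : ↥V, w ∈ S₀ ↔ (w : G) ∈ ⁅V, EE p H a⁆ := by
    intro w
    rw [hS₀, Subgroup.mem_subgroupOf]
  have hinjr : Function.Injective (ν.domRestrict S₀) := by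
    rw [injective_iff_map_eq_one]
    intro w hw
    exact Subtype.ext (hinj w.1 ((hmemS₀ _).1 w.2) hw)
  have hD₀N : H ⊓ Subgroup.centralizer (Xb : Set G) ≤
      Subgroup.normalizer ((⁅V, EE p H a⁆ : Subgroup G) : Set G) := inf_le_left.trans hHWa
  have hEN : EE p H a ≤ Subgroup.normalizer ((⁅V, EE p H a⁆ : Subgroup G) : Set G) :=
    ha.EE_le_normalizer_comm_EE h
  refine ⟨(S₀.map ν).map V.subtype, ?_, ?_, ?_, ?_⟩
  · rintro y ⟨u, ⟨w, _, rfl⟩, rfl⟩
    refine Subgroup.mem_inf.2 ⟨(ν w).2, ?_⟩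
    rw [Subgroup.mem_centralizer_iff]
    intro b hb
    have h1 := congrArg Subtype.val (hν1 w ⟨b, hb⟩)
    rw [cjHom_coe] at h1
    show b * (ν w : G) = (ν w : G) * b
    calc b * (ν w : G) = (b * (ν w : G) * b⁻¹) * b := by group
      _ = (ν w : G) * b := by rw [h1]
  · rw [Subgroup.card_map_of_injective V.subtype_injective, ← MonoidHom.domRestrict_range,
      ← Nat.card_congr (MonoidHom.ofInjective hinjr).toEquiv, hS₀,
      Cfsg.Agent.Lib.Helper7.card_subgroupOf_of_le hWaV]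
    exact ha.card_comm_EE h
  · intro d hd
    have h1 := mem_normalizer_of_hom (H ⊓ Subgroup.centralizer (Xb : Set G)).subtype
      ((S₀.map ν).map V.subtype) ?_ ⟨d, hd⟩
    · exact h1
    · rintro ⟨d, hd⟩ y ⟨u, ⟨w, hw, rfl⟩, rfl⟩
      obtain ⟨hdH, hdC⟩ := Subgroup.mem_inf.1 hd
      have hdV : d ∈ Subgroup.normalizer (V : Set G) := h.hHV hdH
      have h5 := hν5 ⟨d, hdV⟩ hdC w
      refine ⟨cjHom V _ le_rfl ⟨d, hdV⟩ (ν w), ⟨cjHom V _ le_rfl ⟨d, hdV⟩ w, ?_, h5⟩, rfl⟩
      rw [SetLike.mem_coe, hmemS₀, cjHom_coe]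
      exact (Subgroup.mem_normalizer_iff.1 (hHWa hdH) w).1 ((hmemS₀ _).1 hw)
  · -- the isomorphism
    obtain ⟨Φ, hΦ⟩ : ∃ Φ : ↥(H ⊓ Subgroup.centralizer (Xb : Set G)) →* MulAut ↥(⁅V, EE p H a⁆),
        Φ = (⁅V, EE p H a⁆).normalizerMonoidHom.comp (Subgroup.inclusion hD₀N) := ⟨_, rfl⟩
    obtain ⟨ΦE, hΦE⟩ : ∃ ΦE : ↥(EE p H a) →* MulAut ↥(⁅V, EE p H a⁆),
        ΦE = (⁅V, EE p H a⁆).normalizerMonoidHom.comp (Subgroup.inclusion hEN) := ⟨_, rfl⟩
    have hΦapp : ∀ (d : ↥(H ⊓ Subgroup.centralizer (Xb : Set G))) (w : ↥(⁅V, EE p H a⁆)),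
        ((Φ d w : ↥(⁅V, EE p H a⁆)) : G) = (d : G) * w * (d : G)⁻¹ := by
      intro d w
      rw [hΦ]
      rfl
    have hΦEapp : ∀ (e : ↥(EE p H a)) (w : ↥(⁅V, EE p H a⁆)),
        ((ΦE e w : ↥(⁅V, EE p H a⁆)) : G) = (e : G) * w * (e : G)⁻¹ := by
      intro e w
      rw [hΦE]
      rfl
    have hinjE : Function.Injective ΦE := by
      rw [injective_iff_map_eq_one]
      intro e he
      have h1 : (e : G) ∈ EE p H a ⊓
          Subgroup.centralizer ((⁅V, EE p H a⁆ : Subgroup G) : Set G) := by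
        refine Subgroup.mem_inf.2 ⟨e.2, ?_⟩
        rw [Subgroup.mem_centralizer_iff]
        intro w hw
        have h3 : (e : G) * w * (e : G)⁻¹ = w := by
          rw [← hΦEapp e ⟨w, hw⟩, he]
          rfl
        calc w * (e : G) = ((e : G) * w * (e : G)⁻¹) * e := by rw [h3]
          _ = e * w := by group
      rw [ha.EE_inf_cent_comm h, Subgroup.mem_bot] at h1
      exact Subtype.ext h1
    have hrange : Φ.range = ΦE.range := by
      apply le_antisymm
      · rintro σ ⟨⟨d, hd⟩, rfl⟩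
        have hdH := (Subgroup.mem_inf.1 hd).1
        obtain ⟨e, he, f, hf, hdef⟩ := (mem_sup_of_le_normalizer (EE p H a)
          (H ⊓ Subgroup.centralizer ((⁅V, EE p H a⁆ : Subgroup G) : Set G))
          (inf_le_left.trans hHE)).1 (hsupEF.ge hdH)
        refine ⟨⟨e, he⟩, ?_⟩
        ext w
        rw [hΦapp, hΦEapp]
        show e * (w : G) * e⁻¹ = d * (w : G) * d⁻¹
        have hfw : (w : G) * f = f * w :=
          Subgroup.mem_centralizer_iff.1 (Subgroup.mem_inf.1 hf).2 w w.2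
        rw [hdef]
        calc e * (w : G) * e⁻¹ = e * ((w : G) * f) * f⁻¹ * e⁻¹ := by group
          _ = e * (f * (w : G)) * f⁻¹ * e⁻¹ := by rw [hfw]
          _ = e * f * (w : G) * (e * f)⁻¹ := by group
      · rintro σ ⟨⟨e, he⟩, rfl⟩
        obtain ⟨d, hd, f, _, hdef, _, hfW⟩ := exists_fixed_mul h ha Xb hXV hXH hcop he
        refine ⟨⟨d, hd⟩, ?_⟩
        ext w
        rw [hΦapp, hΦEapp]
        show d * (w : G) * d⁻¹ = e * (w : G) * e⁻¹
        have hfw : (w : G) * f = f * w := Subgroup.mem_centralizer_iff.1 hfW w w.2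
        rw [hdef]
        calc e * f * (w : G) * (e * f)⁻¹ = e * (f * (w : G)) * f⁻¹ * e⁻¹ := by group
          _ = e * ((w : G) * f) * f⁻¹ * e⁻¹ := by rw [hfw]
          _ = e * (w : G) * e⁻¹ := by group
    have hker : (Subgroup.centralizer (((S₀.map ν).map V.subtype : Subgroup G) : Set G)).subgroupOf
        (H ⊓ Subgroup.centralizer (Xb : Set G)) = Φ.ker := by
      ext ⟨d, hd⟩
      rw [Subgroup.mem_subgroupOf, MonoidHom.mem_ker]
      obtain ⟨hdH, hdC⟩ := Subgroup.mem_inf.1 hd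
      have hdV := h.hHV hdH
      constructor
      · intro hc
        ext w
        rw [hΦapp]
        show d * (w : G) * d⁻¹ = w
        obtain ⟨w', hw'⟩ : ∃ w' : ↥V, (w' : G) = w := ⟨⟨w, hWaV w.2⟩, rfl⟩
        have hw'S : w' ∈ S₀ := by
          rw [hmemS₀, hw']
          exact w.2
        have h5 := hν5 ⟨d, hdV⟩ hdC w'
        have h6 : cjHom V _ le_rfl ⟨d, hdV⟩ (ν w') = ν w' := by
          apply Subtype.ext
          rw [cjHom_coe]
          have hmem : (ν w' : G) ∈ (S₀.map ν).map V.subtype := ⟨ν w', ⟨w', hw'S, rfl⟩, rfl⟩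
          have h7 := Subgroup.mem_centralizer_iff.1 hc _ hmem
          show d * (ν w' : G) * d⁻¹ = ν w'
          rw [← h7]
          group
        have h7 : ν (cjHom V _ le_rfl ⟨d, hdV⟩ w' * w'⁻¹) = 1 := by
          rw [map_mul, map_inv, h5, h6, mul_inv_cancel]
        have hmem2 : ((cjHom V _ le_rfl ⟨d, hdV⟩ w' * w'⁻¹ : ↥V) : G) ∈ ⁅V, EE p H a⁆ := by
          rw [Subgroup.coe_mul, Subgroup.coe_inv, cjHom_coe, hw']
          exact Subgroup.mul_mem _ ((Subgroup.mem_normalizer_iff.1 (hHWa hdH) w).1 w.2)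
            (Subgroup.inv_mem _ w.2)
        have h8 := hinj _ hmem2 h7
        have h9 := congrArg Subtype.val (mul_inv_eq_one.1 h8)
        rw [cjHom_coe, hw'] at h9
        exact h9
      · intro hΦd
        rw [Subgroup.mem_centralizer_iff]
        rintro y ⟨u, ⟨w', hw', rfl⟩, rfl⟩
        have hw'W : (w' : G) ∈ ⁅V, EE p H a⁆ := (hmemS₀ _).1 hw'
        have hdw : cjHom V _ le_rfl ⟨d, hdV⟩ w' = w' := by
          apply Subtype.ext
          rw [cjHom_coe]
          show d * (w' : G) * d⁻¹ = w'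
          have h2 := hΦapp ⟨d, hd⟩ ⟨(w' : G), hw'W⟩
          rw [hΦd] at h2
          exact h2.symm
        have h5 := hν5 ⟨d, hdV⟩ hdC w'
        rw [hdw] at h5
        have h6 := congrArg Subtype.val h5
        rw [cjHom_coe] at h6
        show (ν w' : G) * d = d * (ν w' : G)
        have h6' : (ν w' : G) = d * (ν w' : G) * d⁻¹ := h6
        calc (ν w' : G) * d = (d * (ν w' : G) * d⁻¹) * d := by rw [← h6']
          _ = d * (ν w' : G) := by group
    have hn : ((Subgroup.centralizer (((S₀.map ν).map V.subtype : Subgroup G) : Set G)).subgroupOf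
        (H ⊓ Subgroup.centralizer (Xb : Set G))).Normal := by
      rw [hker]
      exact MonoidHom.normal_ker Φ
    refine ⟨hn, ?_⟩
    obtain ⟨e4⟩ := ha.nonempty_mulEquiv_EE h
    exact ⟨(QuotientGroup.quotientMulEquivOfEq hker).trans
      ((QuotientGroup.quotientKerEquivRange Φ).trans
        ((MulEquiv.subgroupCongr hrange).trans ((MonoidHom.ofInjective hinjE).symm.trans e4)))⟩

end Cfsg.Agent.H1.FFX
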