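import Mathlib
import Cfsg.Prelude.Def_PLocal
import Cfsg.Agent.H1.FFX4

/-!
# Failure of Thompson factorization under a coprime operator group: `SL(2,p)` in the fixed points
-/

set_option autoImplicit false

namespace Cfsg.Agent.H1.FFX

open scoped commutatorElement
open Cfsg.Agent.Lib.Helper4.Offender Cfsg.Agent.Lib.Helper4.FFPair Cfsg.Agent.Lib.Helper4.FFHol
open Cfsg.Agent.H1

/-- pulling an isomorphism type of a section back along a homomorphism -/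
theorem quot_transport {A B Q : Type*} [Group A] [Group B] [Group Q] (f : A →* B)
    (D N₁ : Subgroup A) (D₂ N₂ : Subgroup B) (hD : D.map f = D₂)
    (hN : ∀ k ∈ D, k ∈ N₁ ↔ f k ∈ N₂)
    (hn₂ : (N₂.subgroupOf D₂).Normal) (e : (↥D₂ ⧸ N₂.subgroupOf D₂) ≃* Q) :
    ∃ hn₁ : (N₁.subgroupOf D).Normal, Nonempty ((↥D ⧸ N₁.subgroupOf D) ≃* Q) := by
  subst hD
  obtain ⟨g, hg⟩ : ∃ g : ↥D →* ↥(D.map f), g = f.subgroupMap D := ⟨_, rfl⟩
  have hgs : Function.Surjective g := by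
    rw [hg]
    exact f.subgroupMap_surjective D
  have hgapp : ∀ x : ↥D, ((g x : ↥(D.map f)) : B) = f x := by
    intro x
    rw [hg]
    rfl
  obtain ⟨ψ, hψ⟩ : ∃ ψ : ↥D →* (↥(D.map f) ⧸ N₂.subgroupOf (D.map f)),
      ψ = (QuotientGroup.mk' (N₂.subgroupOf (D.map f))).comp g := ⟨_, rfl⟩
  have hψs : Function.Surjective ψ := by
    rw [hψ]
    exact (QuotientGroup.mk'_surjective _).comp hgs
  have hker : N₁.subgroupOf D = ψ.ker := by
    ext x
    rw [MonoidHom.mem_ker, hψ, MonoidHom.comp_apply, QuotientGroup.mk'_apply,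
      QuotientGroup.eq_one_iff, Subgroup.mem_subgroupOf, Subgroup.mem_subgroupOf, hgapp]
    exact hN x x.2
  have hn₁ : (N₁.subgroupOf D).Normal := by
    rw [hker]
    exact MonoidHom.normal_ker ψ
  exact ⟨hn₁, ⟨(QuotientGroup.quotientMulEquivOfEq hker).trans
    ((QuotientGroup.quotientKerEquivOfSurjective ψ hψs).trans e)⟩⟩

/-- pushing an isomorphism type of a section forward along a homomorphism -/
theorem quot_transport' {A B Q : Type*} [Group A] [Group B] [Group Q] (f : A →* B)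
    (D N₁ : Subgroup A) (D₂ N₂ : Subgroup B) (hD : D.map f = D₂)
    (hN : ∀ k ∈ D, k ∈ N₁ ↔ f k ∈ N₂)
    (hn₁ : (N₁.subgroupOf D).Normal) (e : (↥D ⧸ N₁.subgroupOf D) ≃* Q) :
    ∃ hn₂ : (N₂.subgroupOf D₂).Normal, Nonempty ((↥D₂ ⧸ N₂.subgroupOf D₂) ≃* Q) := by
  have hn₂ : (N₂.subgroupOf D₂).Normal := by
    subst hD
    constructor
    rintro ⟨y, hy⟩ hyN ⟨d, hd⟩
    obtain ⟨k, hk, rfl⟩ := hy
    obtain ⟨k', hk', rfl⟩ := hd
    rw [Subgroup.mem_subgroupOf] at hyN ⊢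
    have h1 : k ∈ N₁ := (hN k hk).2 hyN
    have h2 : (⟨k', hk'⟩ : ↥D) * ⟨k, hk⟩ * (⟨k', hk'⟩ : ↥D)⁻¹ ∈ N₁.subgroupOf D :=
      hn₁.conj_mem ⟨k, hk⟩ (Subgroup.mem_subgroupOf.2 h1) ⟨k', hk'⟩
    rw [Subgroup.mem_subgroupOf] at h2
    have h3 := (hN _ (D.mul_mem (D.mul_mem hk' hk) (D.inv_mem hk'))).1 h2
    simpa using h3
  obtain ⟨_, ⟨e'⟩⟩ := quot_transport f D N₁ D₂ N₂ hD hN hn₂ (MulEquiv.refl _)
  exact ⟨hn₂, ⟨e'.symm.trans e⟩⟩

/-- **`SL(2,p)` in the fixed points.** -/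
theorem exists_sl2 {𝕂 : Type*} [Group 𝕂] [Finite 𝕂] {p : ℕ} [Fact p.Prime]
    (Y : Subgroup (MulAut 𝕂)) (hs : Setup p 𝕂 Y)
    (hne : ¬ Cfsg.thompsonSubgroup p 𝕂 ≤ Subgroup.centralizer (Vof p 𝕂 : Set 𝕂)) :
    (p = 2 ∨ p = 3) ∧ ∃ W D : Subgroup 𝕂, W ≤ fixPts Y ∧ D ≤ fixPts Y ∧
      Cfsg.IsElementaryAbelian p W ∧ Nat.card W = p ^ 2 ∧
      D ≤ Subgroup.normalizer (W : Set 𝕂) ∧
      ∃ hn : ((Subgroup.centralizer (W : Set 𝕂)).subgroupOf D).Normal,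
        Nonempty ((↥D ⧸ (Subgroup.centralizer (W : Set 𝕂)).subgroupOf D) ≃*
          Matrix.SpecialLinearGroup (Fin 2) (ZMod p)) := by
  obtain ⟨h, hS3, hXV, hXH, hcopX, hfix, hV⟩ := hs
  have hH1 : (Cfsg.thompsonSubgroup p 𝕂).map (proj (Vof p 𝕂)) ≠ ⊥ := by
    intro hc
    apply hne
    intro j hj
    rw [← proj_eq_one_iff]
    have : proj (Vof p 𝕂) j ∈ (Cfsg.thompsonSubgroup p 𝕂).map (proj (Vof p 𝕂)) := ⟨j, hj, rfl⟩
    rwa [hc, Subgroup.mem_bot] at this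
  obtain ⟨a, ha⟩ := exists_isAtom h hS3 hH1
  refine ⟨ha.p_eq h, ?_⟩
  obtain ⟨Wt, hWt, hWtcard, hWtN, hn₀, ⟨e₀⟩⟩ :=
    exists_fixed_plane h hS3 ha (Y.map (autProj (Vof p 𝕂))) hXV hXH hcopX
  have hWtV : Wt ≤ VV (Vof p 𝕂) := hWt.trans inf_le_left
  have hWtC : Wt ≤ Subgroup.centralizer ((Y.map (autProj (Vof p 𝕂)) :
      Subgroup (Hol (Vof p 𝕂))) : Set (Hol (Vof p 𝕂))) := hWt.trans inf_le_right
  -- the plane in `𝕂`
  obtain ⟨W, hW⟩ : ∃ W : Subgroup 𝕂, W = (Wt.comap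
    (SemidirectProduct.inl : ↥(Vof p 𝕂) →* Hol (Vof p 𝕂))).map (Vof p 𝕂).subtype := ⟨_, rfl⟩
  have hmemW : ∀ k : 𝕂, k ∈ W ↔ ∃ v : ↥(Vof p 𝕂),
      (SemidirectProduct.inl v : Hol (Vof p 𝕂)) ∈ Wt ∧ (v : 𝕂) = k := by
    intro k
    rw [hW]
    constructor
    · rintro ⟨v, hv, rfl⟩
      exact ⟨v, hv, rfl⟩
    · rintro ⟨v, hv, rfl⟩
      exact ⟨v, hv, rfl⟩
  have hmemW' : ∀ v : ↥(Vof p 𝕂), (v : 𝕂) ∈ W ↔
      (SemidirectProduct.inl v : Hol (Vof p 𝕂)) ∈ Wt := by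
    intro v
    rw [hmemW]
    constructor
    · rintro ⟨v', hv', hvv'⟩
      have : v' = v := Subtype.ext hvv'
      rw [← this]
      exact hv'
    · intro hv
      exact ⟨v, hv, rfl⟩
  -- the group of fixed points over `D₀`
  obtain ⟨D, hD⟩ : ∃ D : Subgroup 𝕂, D = fixPts Y ⊓
    ((Cfsg.thompsonSubgroup p 𝕂).map (proj (Vof p 𝕂))).comap (proj (Vof p 𝕂)) := ⟨_, rfl⟩
  have hDfix : D ≤ fixPts Y := by
    rw [hD]
    exact inf_le_left
  have hprojC : ∀ k ∈ fixPts Y, proj (Vof p 𝕂) k ∈ Subgroup.centralizer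
      ((Y.map (autProj (Vof p 𝕂)) : Subgroup (Hol (Vof p 𝕂))) : Set (Hol (Vof p 𝕂))) := by
    intro k hk
    rw [Subgroup.mem_centralizer_iff]
    rintro x ⟨φ, hφ, rfl⟩
    have h1 := autProj_conj_proj (Vof p 𝕂) φ k
    rw [(mem_fixPts Y k).1 hk φ hφ] at h1
    calc autProj (Vof p 𝕂) φ * proj (Vof p 𝕂) k
        = (autProj (Vof p 𝕂) φ * proj (Vof p 𝕂) k * (autProj (Vof p 𝕂) φ)⁻¹) *
          autProj (Vof p 𝕂) φ := by group
      _ = proj (Vof p 𝕂) k * autProj (Vof p 𝕂) φ := by rw [h1]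
  have hDmap : D.map (proj (Vof p 𝕂)) = (Cfsg.thompsonSubgroup p 𝕂).map (proj (Vof p 𝕂)) ⊓
      Subgroup.centralizer ((Y.map (autProj (Vof p 𝕂)) : Subgroup (Hol (Vof p 𝕂))) :
        Set (Hol (Vof p 𝕂))) := by
    apply le_antisymm
    · rintro x ⟨k, hk, rfl⟩
      rw [hD] at hk
      obtain ⟨hk1, hk2⟩ := Subgroup.mem_inf.1 hk
      exact Subgroup.mem_inf.2 ⟨hk2, hprojC k hk1⟩
    · intro d hd
      obtain ⟨c, hc, rfl⟩ := hfix hd
      refine ⟨c, ?_, rfl⟩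
      rw [hD]
      exact Subgroup.mem_inf.2 ⟨hc, (Subgroup.mem_inf.1 hd).1⟩
  -- conjugation on `inl`
  have hconj : ∀ (k : 𝕂) (v : ↥(Vof p 𝕂)),
      proj (Vof p 𝕂) k * SemidirectProduct.inl v * (proj (Vof p 𝕂) k)⁻¹ =
        SemidirectProduct.inl (MulAut.conjNormal k v) := proj_conj (Vof p 𝕂)
  have hN : ∀ k ∈ D, k ∈ Subgroup.centralizer (W : Set 𝕂) ↔
      proj (Vof p 𝕂) k ∈ Subgroup.centralizer (Wt : Set (Hol (Vof p 𝕂))) := by
    intro k _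
    rw [Subgroup.mem_centralizer_iff, Subgroup.mem_centralizer_iff]
    constructor
    · intro hk y hy
      obtain ⟨v, rfl⟩ := hWtV hy
      have hvW : (v : 𝕂) ∈ W := (hmemW' v).2 hy
      have h1 := hk (v : 𝕂) hvW
      have h2 : MulAut.conjNormal k v = v := by
        apply Subtype.ext
        rw [MulAut.conjNormal_apply, ← h1]
        group
      have h3 := hconj k v
      rw [h2] at h3
      show SemidirectProduct.inl v * proj (Vof p 𝕂) k = proj (Vof p 𝕂) k * SemidirectProduct.inl v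
      calc SemidirectProduct.inl v * proj (Vof p 𝕂) k
          = (proj (Vof p 𝕂) k * SemidirectProduct.inl v * (proj (Vof p 𝕂) k)⁻¹) *
            proj (Vof p 𝕂) k := by rw [h3]
        _ = proj (Vof p 𝕂) k * SemidirectProduct.inl v := by group
    · intro hk w hw
      obtain ⟨v, hv, rfl⟩ := (hmemW w).1 hw
      have h1 := hk _ hv
      have h3 := hconj k v
      have h4 : proj (Vof p 𝕂) k * SemidirectProduct.inl v * (proj (Vof p 𝕂) k)⁻¹ =
          SemidirectProduct.inl v := by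
        rw [← h1]
        group
      rw [h4, SemidirectProduct.inl_inj] at h3
      have h5 := congrArg Subtype.val h3
      rw [MulAut.conjNormal_apply] at h5
      calc (v : 𝕂) * k = (k * (v : 𝕂) * k⁻¹) * k := by rw [← h5]
        _ = k * v := by group
  refine ⟨W, D, ?_, hDfix, ?_, ?_, ?_, ?_⟩
  · -- `W` consists of fixed points
    intro w hw
    obtain ⟨v, hv, rfl⟩ := (hmemW w).1 hw
    rw [mem_fixPts]
    intro φ hφ
    have h1 := Subgroup.mem_centralizer_iff.1 (hWtC hv) (autProj (Vof p 𝕂) φ) ⟨φ, hφ, rfl⟩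
    have h2 := autProj_conj_inl (Vof p 𝕂) φ v
    have h3 : autProj (Vof p 𝕂) φ * SemidirectProduct.inl v * (autProj (Vof p 𝕂) φ)⁻¹ =
        SemidirectProduct.inl v := by
      rw [h1]
      group
    rw [h3, SemidirectProduct.inl_inj] at h2
    have h4 := congrArg Subtype.val h2
    rw [charRes_coe] at h4
    exact h4.symm
  · apply Cfsg.Agent.H1.isElementaryAbelian_of_le hV
    rw [hW]
    exact Subgroup.map_subtype_le _
  · have hWtV' : Wt ≤ (SemidirectProduct.inl : ↥(Vof p 𝕂) →* Hol (Vof p 𝕂)).range := hWtV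
    rw [hW, Subgroup.card_map_of_injective (Subgroup.subtype_injective _),
      ← Subgroup.card_map_of_injective (SemidirectProduct.inl_injective
        (φ := MonoidHom.id (MulAut ↥(Vof p 𝕂)))), Subgroup.map_comap_eq, inf_eq_right.2 hWtV']
    exact hWtcard
  · intro d hd
    have h1 := mem_normalizer_of_hom D.subtype W ?_ ⟨d, hd⟩
    · exact h1
    · rintro ⟨k, hk⟩ w hw
      obtain ⟨v, hv, rfl⟩ := (hmemW w).1 hw
      have hπk : proj (Vof p 𝕂) k ∈ D.map (proj (Vof p 𝕂)) := ⟨k, hk, rfl⟩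
      rw [hDmap] at hπk
      have h2 := (Subgroup.mem_normalizer_iff.1 (hWtN hπk) _).1 hv
      rw [hconj] at h2
      have h3 := (hmemW' _).2 h2
      rw [MulAut.conjNormal_apply] at h3
      exact h3
  · exact quot_transport (proj (Vof p 𝕂)) D (Subgroup.centralizer (W : Set 𝕂)) _
      (Subgroup.centralizer (Wt : Set (Hol (Vof p 𝕂)))) hDmap hN hn₀ e₀

end Cfsg.Agent.H1.FFX
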