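import Mathlib
import Cfsg.Prelude.Def_Characters
import Cfsg.Prelude.Def_Blocks
import Cfsg.Agent.Lib.helper3.FongB4
import Cfsg.Agent.Lib.helper3.ADB2
import Cfsg.Agent.Lib.helper3.FullyRam
import Cfsg.Agent.Lib.helper3.Irr9
import Cfsg.Agent.Lib.helper3.Irr12
import Cfsg.Agent.Lib.helper3.Degrees
import Cfsg.Agent.Lib.Helper4.DegreeIndex
import Cfsg.Agent.Lib.Helper8.FRam1
import Cfsg.Agent.Lib.Helper8.GS6
import Cfsg.Agent.S0887

/-!
# S4439 (Fong's height bound), piece (A1): the character-theoretic part of the degree bound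
-/

set_option autoImplicit false
set_option linter.style.haveILetI false
set_option linter.unusedSectionVars false
set_option linter.unusedVariables false
set_option maxHeartbeats 1000000

namespace Cfsg.Agent.H1.FongDeg

open Cfsg Cfsg.Agent.Lib.helper3.Irr Cfsg.Agent.Lib.helper3.CharBasic
open Cfsg.Agent.Lib.helper3.IndFun

universe u

variable {G : Type u} [Group G] [Fintype G]

/-- `ν_p χ(1) + ν_p |Z(L/N)| ≤ ν_p |G:L| + ν_p |L:N|` for `χ` over a `G`-invariant `θ ∈ Irr(N)`,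
`N` a normal `p'`-subgroup and `L/N` a normal `p`-subgroup of `G/N`. -/
theorem char_part (p : ℕ) [hp : Fact p.Prime] (N L : Subgroup G) [hN : N.Normal] [hL : L.Normal]
    [Fintype N] [Fintype L] (hNL : N ≤ L) (hNp : ¬ p ∣ Nat.card N) (k : ℕ)
    (hidx : N.relIndex L = p ^ k) (θ : N → ℂ) (hθ : IsIrrCharacter N θ)
    (hinv : ∀ (g : G) (n : N), θ ⟨g * n * g⁻¹, hN.conj_mem n n.2 g⟩ = θ n)
    (χ : G → ℂ) (hχ : IsIrrCharacter G χ) (hχθ : classInner (fun n : N => χ n) θ ≠ 0) :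
    ∃ z : ℕ, Nat.card (Subgroup.center (↥L ⧸ N.subgroupOf L)) = p ^ z ∧
      (charDegree χ).factorization p + z ≤ (L.index).factorization p + k := by
  classical
  have hpp := hp.out
  haveI hM : (N.subgroupOf L).Normal := Subgroup.normal_subgroupOf
  letI : Fintype ↥(N.subgroupOf L) := Fintype.ofFinite _
  letI : Fintype (↥L ⧸ N.subgroupOf L) := Fintype.ofFinite _
  have hcardQ : Nat.card (↥L ⧸ N.subgroupOf L) = p ^ k := by
    rw [← Subgroup.index_eq_card]; exact hidx
  have hZdvd : Nat.card (Subgroup.center (↥L ⧸ N.subgroupOf L)) ∣ p ^ k := by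
    rw [← hcardQ]; exact Subgroup.card_subgroup_dvd_card _
  obtain ⟨z, hzk, hz⟩ := (Nat.dvd_prime_pow hpp).1 hZdvd
  refine ⟨z, hz, ?_⟩
  -- the extension of `θ` to `L`
  obtain ⟨η₀, hη₀, hη₀N, -⟩ :=
    Cfsg.Agent.Lib.helper3.FongB.exists_invariant_extension N L hNL hNp k hidx θ hθ hinv
  let e : ↥(N.subgroupOf L) ≃* ↥N := Subgroup.subgroupOfEquivOfLe hNL
  have he : ∀ m : ↥(N.subgroupOf L), ((e m : N) : G) = ((m : L) : G) := fun m => rfl
  have hres₀ : (fun m : ↥(N.subgroupOf L) => η₀ m) = fun m => θ (e m) := by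
    funext m
    rw [← hη₀N (e m)]
    congr 1
  have hη₀M : IsIrrCharacter ↥(N.subgroupOf L) (fun m : ↥(N.subgroupOf L) => η₀ m) := by
    rw [hres₀]; exact isIrrCharacter_comp_mulEquiv e hθ
  -- a constituent of `χ_L`
  have hχc := isCharacter_of_isIrrCharacter hχ
  have hψ : IsCharacter L (fun l : L => χ l) := isCharacter_restrict hχc L
  have hψ0 : (fun l : L => χ l) ≠ 0 := by
    intro h
    have h1 := congrFun h 1
    simp only [OneMemClass.coe_one, Pi.zero_apply] at h1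
    exact apply_one_ne_zero hχ h1
  obtain ⟨η, hη⟩ := exists_constituent hψ hψ0
  have hηc := isCharacter_of_isIrrCharacter η.2
  -- `η` lies over `η₀|_M`
  have hηM : IsCharacter ↥(N.subgroupOf L) (fun m : ↥(N.subgroupOf L) => (η : L → ℂ) m) :=
    isCharacter_restrict hηc (N.subgroupOf L)
  have hηM0 : (fun m : ↥(N.subgroupOf L) => (η : L → ℂ) m) ≠ 0 := by
    intro h
    have h1 := congrFun h 1
    simp only [OneMemClass.coe_one, Pi.zero_apply] at h1
    exact apply_one_ne_zero η.2 h1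
  obtain ⟨φ, hφ⟩ := exists_constituent hηM hηM0
  have h1 := Cfsg.Agent.Lib.Helper8.FRam.classInner_restrict_ne_zero_of_constituent
    (N.subgroupOf L).subtype hψ η.2 hη φ hφ
  have hsm := restrict_eq_smul_of_invariant N χ hχ θ hθ hχθ hinv
  have h2 : (fun z : ↥(N.subgroupOf L) => (fun l : L => χ l) ((N.subgroupOf L).subtype z))
      = classInner (fun n : N => χ n) θ • (fun m : ↥(N.subgroupOf L) => η₀ m) := by
    funext m
    rw [hres₀]
    have h3 := congrFun hsm (e m)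
    simp only [Pi.smul_apply, smul_eq_mul] at h3 ⊢
    rw [← h3]
    rfl
  rw [h2, classInner_smul_left] at h1
  have h4 : classInner (fun m : ↥(N.subgroupOf L) => η₀ m) (φ : ↥(N.subgroupOf L) → ℂ) ≠ 0 :=
    right_ne_zero_of_mul h1
  have h5 : (fun m : ↥(N.subgroupOf L) => η₀ m) = (φ : ↥(N.subgroupOf L) → ℂ) := by
    by_contra hne
    exact h4 (irr_classInner_eq_zero hη₀M φ.2 hne)
  have hov : classInner (fun m : ↥(N.subgroupOf L) => (η : L → ℂ) m)
      (fun m : ↥(N.subgroupOf L) => η₀ m) ≠ 0 := by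
    rw [h5]; exact hφ
  -- Gallagher
  obtain ⟨b, hb⟩ := Cfsg.Agent.Lib.helper3.ADB.exists_inflate_mul_of_over (N.subgroupOf L)
    η₀ (η : L → ℂ) hη₀ η.2 hη₀M hov
  -- degrees
  obtain ⟨c, hc, hcdvd, hcpos⟩ := Cfsg.Agent.Lib.helper3.Central.irr_degree_dvd_card hχ
  obtain ⟨d, hd, hddvd, hdpos⟩ := Cfsg.Agent.Lib.helper3.Central.irr_degree_dvd_card η.2
  obtain ⟨t, ht, htdvd, htpos⟩ := Cfsg.Agent.Lib.helper3.Central.irr_degree_dvd_card hθ
  obtain ⟨j', hj', hj'dvd, hj'pos⟩ := Cfsg.Agent.Lib.helper3.Central.irr_degree_dvd_card b.2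
  have hη₀1 : η₀ 1 = t := by
    rw [← ht, ← hη₀N 1]
    congr 1
  have hdeq : d = j' * t := by
    have h6 := congrFun hb 1
    rw [Pi.mul_apply, inflate_apply, QuotientGroup.mk_one, hd, hj', hη₀1] at h6
    exact_mod_cast h6
  rw [hcardQ] at hj'dvd
  obtain ⟨j, hjk, hj⟩ := (Nat.dvd_prime_pow hpp).1 hj'dvd
  obtain ⟨hdc, hcd⟩ := Cfsg.Agent.S0887.result L χ hχ (η : L → ℂ) η.2 hη c d hc hd
  -- factorizations
  have hc_eq : c = d * (c / d) := (Nat.mul_div_cancel' hdc).symm
  have hq0 : c / d ≠ 0 := by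
    intro h0
    rw [h0, mul_zero] at hc_eq
    omega
  have hLidx0 : L.index ≠ 0 := Subgroup.index_ne_zero_of_finite
  have hf1 : c.factorization p = d.factorization p + (c / d).factorization p := by
    conv_lhs => rw [hc_eq]
    rw [Nat.factorization_mul hdpos.ne' hq0, Finsupp.add_apply]
  have hf2 : (c / d).factorization p ≤ L.index.factorization p :=
    (Nat.factorization_le_iff_dvd hq0 hLidx0).2 hcd p
  have htp : ¬ p ∣ t := fun h => hNp (h.trans htdvd)
  have hf3 : d.factorization p = j := by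
    rw [hdeq, hj, Nat.factorization_mul (pow_ne_zero j hpp.ne_zero) htpos.ne', Finsupp.add_apply,
      hpp.factorization_pow, Finsupp.single_eq_same, Nat.factorization_eq_zero_of_not_dvd htp,
      add_zero]
  -- the centre bound
  have hle := Cfsg.Agent.Lib.Helper4.DegreeIndex.degree_sq_mul_card_le
    (Subgroup.center (↥L ⧸ N.subgroupOf L)) le_rfl b.2
  rw [hj', hj, hz, hcardQ, Complex.norm_natCast] at hle
  have hle' : (p ^ j) ^ 2 * p ^ z ≤ p ^ k := by exact_mod_cast hle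
  have hle'' : p ^ (2 * j + z) ≤ p ^ k := by
    calc p ^ (2 * j + z) = (p ^ j) ^ 2 * p ^ z := by ring
      _ ≤ p ^ k := hle'
  have hjz : 2 * j + z ≤ k := (Nat.pow_le_pow_iff_right hpp.one_lt).1 hle''
  rw [Cfsg.Agent.Lib.Helper8.GSN.charDegree_eq_of_apply_one hc, hf1, hf3]
  omega

end Cfsg.Agent.H1.FongDeg
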