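import Mathlib
import Cfsg.Agent.H1.FongDeg1
import Cfsg.Agent.H2.FongHt
import Cfsg.Agent.Lib.Lead.PSolvable
import Cfsg.Agent.H2.PPrimeCore
import Cfsg.Agent.H1.Cores

/-!
# S4439 (Fong's height bound), piece (A): the degree bound
-/

set_option autoImplicit false
set_option linter.style.haveILetI false
set_option linter.unusedSectionVars false
set_option linter.unusedVariables false
set_option maxHeartbeats 1000000

namespace Cfsg.Agent.H1.FongDeg

open Cfsg Cfsg.Agent.Lib.helper3.Irr Cfsg.Agent.Lib.helper3.CharBasic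
open Cfsg.Agent.Lib.Lead.PSolvable

universe u

variable {G : Type u} [Group G] [Finite G]

/-- orders: `|L:N| = p^k` and `ν_p |S| = ν_p |G:L| + k`. -/
theorem card_part (p : ℕ) [hp : Fact p.Prime] (S : Sylow p G) :
    ∃ k : ℕ, (pPrimeCore p G).relIndex (pPrimePCore p G) = p ^ k ∧
      Nat.card ↥(S : Subgroup G) = p ^ ((pPrimePCore p G).index.factorization p + k) := by
  have hpp := hp.out
  haveI hKn : (pPrimeCore p G).Normal := Cfsg.Agent.H1.pPrimeCore_normal p
  have hKc : (Nat.card ↥(pPrimeCore p G)).Coprime p := Cfsg.Agent.H1.pPrimeCore_coprime p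
  have hKndvd : ¬ p ∣ Nat.card ↥(pPrimeCore p G) := (Nat.Prime.coprime_iff_not_dvd hpp).1 hKc.symm
  have hMcard : Nat.card ↥(pPrimePCore p G) =
      Nat.card ↥(pCore p (G ⧸ pPrimeCore p G)) * Nat.card ↥(pPrimeCore p G) :=
    Cfsg.Agent.H2.card_comap_mk' (pPrimeCore p G) (pCore p (G ⧸ pPrimeCore p G))
  obtain ⟨k, hk⟩ := IsPGroup.iff_card.mp (Cfsg.Agent.H1.pCore_isPGroup (G := G ⧸ pPrimeCore p G) p)
  refine ⟨k, ?_, ?_⟩
  · -- relIndex
    have h1 : ((pPrimeCore p G).subgroupOf (pPrimePCore p G)).index *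
        Nat.card ↥((pPrimeCore p G).subgroupOf (pPrimePCore p G)) = Nat.card ↥(pPrimePCore p G) :=
      Subgroup.index_mul_card _
    have h2 : Nat.card ↥((pPrimeCore p G).subgroupOf (pPrimePCore p G)) =
        Nat.card ↥(pPrimeCore p G) :=
      Nat.card_congr (Subgroup.subgroupOfEquivOfLe pPrimeCore_le_pPrimePCore).toEquiv
    rw [h2, hMcard, hk] at h1
    exact Nat.eq_of_mul_eq_mul_right Nat.card_pos h1
  · rw [S.card_eq_multiplicity]
    congr 1
    have h3 : (pPrimePCore p G).index * Nat.card ↥(pPrimePCore p G) = Nat.card G :=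
      Subgroup.index_mul_card _
    rw [← h3, hMcard, hk,
      Nat.factorization_mul Subgroup.index_ne_zero_of_finite
        (mul_ne_zero (pow_ne_zero k hpp.ne_zero) Nat.card_pos.ne'),
      Nat.factorization_mul (pow_ne_zero k hpp.ne_zero) Nat.card_pos.ne',
      Finsupp.add_apply, Finsupp.add_apply, hpp.factorization_pow, Finsupp.single_eq_same,
      Nat.factorization_eq_zero_of_not_dvd hKndvd, add_zero]

/-- Hall–Higman: `Z(S)` embeds into `Z(L/N)`. -/
theorem center_part (p : ℕ) [hp : Fact p.Prime] (hsolv : IsPSolvable p G) (S : Sylow p G) :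
    haveI : (pPrimeCore p G).Normal := Cfsg.Agent.H1.pPrimeCore_normal p
    Nat.card (Subgroup.center ↥(S : Subgroup G)) ≤
      Nat.card (Subgroup.center (↥(pPrimePCore p G) ⧸
        (pPrimeCore p G).subgroupOf (pPrimePCore p G))) := by
  have hpp := hp.out
  haveI hKn : (pPrimeCore p G).Normal := Cfsg.Agent.H1.pPrimeCore_normal p
  have hKc : (Nat.card ↥(pPrimeCore p G)).Coprime p := Cfsg.Agent.H1.pPrimeCore_coprime p
  set N := pPrimeCore p G with hNdef
  set L := pPrimePCore p G with hLdef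
  set π := QuotientGroup.mk' N with hπ
  have hsolvQ : IsPSolvable p (G ⧸ N) := IsPSolvable.quotient N hsolv
  have hbot : pPrimeCore p (G ⧸ N) = ⊥ := Cfsg.Agent.H2.pPrimeCore_quotient_eq_bot p
  have HH := centralizer_pCore_le hsolvQ hbot
  have hcore_le : pCore p (G ⧸ N) ≤ (S : Subgroup G).map π := by
    have h1 := Cfsg.Agent.H1.pCore_le_sylow (S.mapSurjective (QuotientGroup.mk'_surjective N))
    rwa [Sylow.coe_mapSurjective] at h1
  -- central elements of `S` map into the centralizer of the core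
  have hcomm : ∀ u : G, u ∈ S → (∀ s ∈ S, s * u = u * s) →
      ∀ y ∈ (S : Subgroup G).map π, y * π u = π u * y := by
    intro u hu hc y hy
    obtain ⟨s, hs, rfl⟩ := hy
    rw [← map_mul, ← map_mul, hc s hs]
  have hmemL : ∀ u : G, u ∈ S → (∀ s ∈ S, s * u = u * s) → u ∈ L := by
    intro u hu hc
    rw [hLdef, mem_pPrimePCore_iff]
    apply HH
    rw [Subgroup.mem_centralizer_iff]
    intro y hy
    exact hcomm u hu hc y (hcore_le hy)
  have hcommL : ∀ u : G, u ∈ S → (∀ s ∈ S, s * u = u * s) → ∀ l ∈ L, π l * π u = π u * π l := by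
    intro u hu hc l hl
    have hl' : π l ∈ pCore p (G ⧸ N) := (mem_pPrimePCore_iff l).1 hl
    exact hcomm u hu hc (π l) (hcore_le hl')
  have hcen : ∀ u : Subgroup.center ↥(S : Subgroup G), ∀ s ∈ S, s * ((u : ↥(S : Subgroup G)) : G)
      = ((u : ↥(S : Subgroup G)) : G) * s := by
    intro u s hs
    have := Subgroup.mem_center_iff.1 u.2 ⟨s, hs⟩
    exact congrArg Subtype.val this
  haveI hM : (N.subgroupOf L).Normal := Subgroup.normal_subgroupOf
  -- the map
  let f : Subgroup.center ↥(S : Subgroup G) → Subgroup.center (↥L ⧸ N.subgroupOf L) := fun u =>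
    ⟨QuotientGroup.mk ⟨((u : ↥(S : Subgroup G)) : G),
        hmemL _ (u : ↥(S : Subgroup G)).2 (hcen u)⟩, by
      rw [Subgroup.mem_center_iff]
      intro q
      induction q using QuotientGroup.induction_on with
      | H l =>
        rw [← QuotientGroup.mk_mul, ← QuotientGroup.mk_mul, QuotientGroup.eq]
        rw [Subgroup.mem_subgroupOf]
        have h1 := hcommL _ (u : ↥(S : Subgroup G)).2 (hcen u) l l.2
        rw [← map_mul, ← map_mul] at h1
        have h2 : π (((l : G) * ((u : ↥(S : Subgroup G)) : G))⁻¹ *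
            (((u : ↥(S : Subgroup G)) : G) * (l : G))) = 1 := by
          rw [map_mul, map_inv, h1, inv_mul_cancel]
        have h3 := (QuotientGroup.eq_one_iff _).1 h2
        simpa using h3⟩
  have hf : Function.Injective f := by
    intro u v huv
    have h1 := congrArg Subtype.val huv
    simp only [f] at h1
    rw [QuotientGroup.eq, Subgroup.mem_subgroupOf] at h1
    have h2 : ((u : ↥(S : Subgroup G)) : G)⁻¹ * ((v : ↥(S : Subgroup G)) : G) ∈ N := by
      simpa using h1
    have h3 : ((u : ↥(S : Subgroup G)) : G)⁻¹ * ((v : ↥(S : Subgroup G)) : G) ∈ (S : Subgroup G) :=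
      mul_mem (inv_mem (u : ↥(S : Subgroup G)).2) (v : ↥(S : Subgroup G)).2
    have hinf : N ⊓ (S : Subgroup G) = ⊥ := by
      apply Subgroup.inf_eq_bot_of_coprime
      obtain ⟨a, ha⟩ := IsPGroup.iff_card.mp S.isPGroup'
      rw [ha]
      exact Nat.Coprime.pow_right a hKc
    have h4 : ((u : ↥(S : Subgroup G)) : G)⁻¹ * ((v : ↥(S : Subgroup G)) : G) ∈ N ⊓ (S : Subgroup G) :=
      Subgroup.mem_inf.2 ⟨h2, h3⟩
    rw [hinf, Subgroup.mem_bot] at h4
    apply Subtype.ext
    apply Subtype.ext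
    exact (inv_mul_eq_one.1 h4)
  exact Nat.card_le_card_of_injective f hf

/-- **(A)**: the degree bound, in the shape used by `Cfsg.Agent.H2.FongHt.main`. -/
theorem degreeBound (p : ℕ) [hp : Fact p.Prime] : Cfsg.Agent.H2.FongHt.DegreeBound.{u} p := by
  intro G _ _ hsolv N hN hNdef θ hinv χ hχθ S
  classical
  have hpp := hp.out
  subst hNdef
  letI : Fintype G := Fintype.ofFinite G
  letI : Fintype ↥(pPrimeCore p G) := Fintype.ofFinite _
  letI : Fintype ↥(pPrimePCore p G) := Fintype.ofFinite _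
  have hKc : (Nat.card ↥(pPrimeCore p G)).Coprime p := Cfsg.Agent.H1.pPrimeCore_coprime p
  have hKndvd : ¬ p ∣ Nat.card ↥(pPrimeCore p G) := (Nat.Prime.coprime_iff_not_dvd hpp).1 hKc.symm
  obtain ⟨k, hk, hS⟩ := card_part p S
  obtain ⟨z, hz, hmain⟩ := char_part p (pPrimeCore p G) (pPrimePCore p G)
    pPrimeCore_le_pPrimePCore hKndvd k hk (θ : ↥(pPrimeCore p G) → ℂ) θ.2 hinv (χ : G → ℂ) χ.2 hχθ
  have hcen := center_part p hsolv S
  rw [hz] at hcen
  -- `|Z(S)| = p^z'`
  have hZdvd : Nat.card (Subgroup.center ↥(S : Subgroup G)) ∣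
      p ^ ((pPrimePCore p G).index.factorization p + k) := by
    rw [← hS]; exact Subgroup.card_subgroup_dvd_card _
  obtain ⟨z', hz'le, hz'⟩ := (Nat.dvd_prime_pow hpp).1 hZdvd
  rw [hz'] at hcen
  have hzz : z' ≤ z := (Nat.pow_le_pow_iff_right hpp.one_lt).1 hcen
  have hidx : (Subgroup.center ↥(S : Subgroup G)).index =
      p ^ ((pPrimePCore p G).index.factorization p + k - z') := by
    have h1 := Subgroup.index_mul_card (Subgroup.center ↥(S : Subgroup G))
    rw [hz', hS] at h1
    have h2 : p ^ ((pPrimePCore p G).index.factorization p + k) =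
        p ^ ((pPrimePCore p G).index.factorization p + k - z') * p ^ z' := by
      rw [← pow_add, Nat.sub_add_cancel hz'le]
    rw [h2] at h1
    exact Nat.eq_of_mul_eq_mul_right (pow_pos hpp.pos z') h1
  rw [hidx, hpp.factorization_pow, Finsupp.single_eq_same]
  omega

end Cfsg.Agent.H1.FongDeg
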