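import Mathlib

set_option autoImplicit false

namespace Cfsg.Agent.H1.FpfFour

variable {G : Type*} [Group G] [Finite G]

/-- A fixed-point-free automorphism whose fourth power is trivial. -/
structure Fpf4 (σ : MulAut G) : Prop where
  four : ∀ g : G, σ (σ (σ (σ g))) = g
  fpf : ∀ g : G, σ g = g → g = 1

lemma eq_one_of_mul_self (hodd : Odd (Nat.card G)) {x : G} (hx : x * x = 1) : x = 1 := by
  have h1 : orderOf x ∣ 2 := orderOf_dvd_of_pow_eq_one (by rw [pow_two]; exact hx)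
  have h2 : orderOf x ∣ Nat.card G := orderOf_dvd_natCard x
  have h3 : Nat.Coprime 2 (Nat.card G) := Nat.coprime_two_left.mpr hodd
  have h4 : orderOf x = 1 := Nat.eq_one_of_dvd_coprimes h3 h1 h2
  exact orderOf_eq_one_iff.mp h4

lemma commute_of_commute_sq (hodd : Odd (Nat.card G)) {y w : G} (hc : Commute (y * y) w) :
    Commute y w := by
  have ho : Odd (orderOf y) := hodd.of_dvd_nat (orderOf_dvd_natCard y)
  obtain ⟨m, hm⟩ := ho
  have h1 : y = (y * y) ^ (m + 1) := by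
    rw [← pow_two, ← pow_mul]
    have h2 : 2 * (m + 1) = orderOf y + 1 := by omega
    rw [h2, pow_succ, pow_orderOf_eq_one, one_mul]
  rw [h1]
  exact hc.pow_left _

/-- If `[z,u]` commutes with `z` (coprime orders) then `[z,u] = 1`. -/
lemma comm_eq_one_of_comm (V : Subgroup G) (z : G) (hzV : ∀ v ∈ V, z * v * z⁻¹ ∈ V)
    (hcop : (orderOf z).Coprime (Nat.card V)) {u : G} (hu : u ∈ V)
    (hc : Commute z (z * u * z⁻¹ * u⁻¹)) : z * u * z⁻¹ * u⁻¹ = 1 := by
  set c := z * u * z⁻¹ * u⁻¹ with hcdef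
  have hcV : c ∈ V := V.mul_mem (hzV u hu) (V.inv_mem hu)
  have key : ∀ k : ℕ, z ^ k * u * (z ^ k)⁻¹ = c ^ k * u := by
    intro k
    induction k with
    | zero => simp
    | succ k ih =>
      have e1 : z ^ (k+1) * u * (z ^ (k+1))⁻¹ = z * (z ^ k * u * (z^k)⁻¹) * z⁻¹ := by
        rw [pow_succ']; group
      rw [e1, ih]
      have h1 : z * c ^ k = c ^ k * z := (hc.pow_right k).eq
      have h2 : z * u * z⁻¹ = c * u := by rw [hcdef]; group
      calc z * (c ^ k * u) * z⁻¹ = (z * c ^ k) * (u * z⁻¹) := by group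
        _ = c ^ k * (z * u * z⁻¹) := by rw [h1]; group
        _ = c ^ k * (c * u) := by rw [h2]
        _ = c ^ (k+1) * u := by rw [pow_succ]; group
  have hn := key (orderOf z)
  rw [pow_orderOf_eq_one] at hn
  have hcn : c ^ orderOf z = 1 := by
    have h3 : c ^ orderOf z * u = 1 * u := by rw [← hn]; group
    exact mul_right_cancel h3
  have h1 : orderOf c ∣ orderOf z := orderOf_dvd_of_pow_eq_one hcn
  have h2 : orderOf c ∣ Nat.card V := by
    have h4 := orderOf_dvd_natCard (⟨c, hcV⟩ : V)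
    rwa [Subgroup.orderOf_mk] at h4
  exact orderOf_eq_one_iff.mp (Nat.eq_one_of_dvd_coprimes hcop h1 h2)

lemma conj_inv_mem (V : Subgroup G) (z : G) (hzV : ∀ v ∈ V, z * v * z⁻¹ ∈ V) :
    ∀ v ∈ V, z⁻¹ * v * z ∈ V := by
  have key : ∀ k : ℕ, ∀ v ∈ V, z ^ k * v * (z ^ k)⁻¹ ∈ V := by
    intro k
    induction k with
    | zero => intro v hv; simpa using hv
    | succ k ih =>
      intro v hv
      have e1 : z ^ (k+1) * v * (z ^ (k+1))⁻¹ = z * (z ^ k * v * (z^k)⁻¹) * z⁻¹ := by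
        rw [pow_succ']; group
      rw [e1]
      exact hzV _ (ih v hv)
  intro v hv
  have hpos : 0 < orderOf z := orderOf_pos z
  have h1 := key (orderOf z - 1) v hv
  have h2 : z ^ (orderOf z - 1) = z⁻¹ := by
    have h3 : z ^ (orderOf z - 1) * z = 1 := by
      rw [← pow_succ, Nat.sub_add_cancel hpos, pow_orderOf_eq_one]
    exact eq_inv_of_mul_eq_one_left h3
  rw [h2, inv_inv] at h1
  exact h1

namespace Fpf4

variable {σ : MulAut G} (h : Fpf4 σ)
include h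

lemma prod4 (g : G) : g * σ g * σ (σ g) * σ (σ (σ g)) = 1 := by
  have hφ : MonoidHom.FixedPointFree (⇑σ) := h.fpf
  have hn : (⇑σ)^[4] = id := by
    funext g
    simp [Function.iterate_succ, h.four]
  have h1 := hφ.prod_pow_eq_one hn g
  simpa [List.range_succ, mul_assoc] using h1

lemma odd_card : Odd (Nat.card G) := by
  have hZ : IsPGroup 2 (Subgroup.zpowers σ) := by
    intro z
    refine ⟨2, ?_⟩
    obtain ⟨z, hz⟩ := z
    obtain ⟨k, rfl⟩ := Subgroup.mem_zpowers_iff.mp hz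
    apply Subtype.ext
    have h4 : σ ^ 4 = 1 := by
      ext g
      simp [pow_succ, MulAut.mul_apply, h.four]
    simp only [Subgroup.coe_pow, Subgroup.coe_one]
    rw [← zpow_natCast, ← zpow_mul, mul_comm, zpow_mul, zpow_natCast]
    norm_num
    rw [h4, one_zpow]
  have h1 := hZ.card_modEq_card_fixedPoints G
  have h2 : Nat.card (MulAction.fixedPoints (Subgroup.zpowers σ) G) = 1 := by
    rw [Nat.card_eq_one_iff_unique]
    refine ⟨⟨?_⟩, ⟨⟨1, ?_⟩⟩⟩
    · rintro ⟨a, ha⟩ ⟨b, hb⟩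
      apply Subtype.ext
      have ha1 : a = 1 := h.fpf a (ha ⟨σ, Subgroup.mem_zpowers σ⟩)
      have hb1 : b = 1 := h.fpf b (hb ⟨σ, Subgroup.mem_zpowers σ⟩)
      exact ha1.trans hb1.symm
    · intro z
      exact smul_one z
  rw [h2] at h1
  rw [Nat.odd_iff]
  exact h1

lemma inv_of_fixed_sq {v : G} (hv : σ (σ v) = v) : σ v = v⁻¹ := by
  have h1 := h.prod4 v
  rw [hv] at h1
  have h2 : (v * σ v) * (v * σ v) = 1 := by rw [← h1]; group
  have h3 := eq_one_of_mul_self h.odd_card h2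
  exact eq_inv_of_mul_eq_one_right h3

lemma four' (g : G) : σ (σ (σ (σ g))) = g := h.four g

/-- If `τ = σ²` inverts `y`, `U` is an abelian `y`- and `τ`-invariant subgroup of order prime to
`o(y)` and no nontrivial commutator `[y,u]` is fixed by `τ`, then `y` centralizes `U`. -/
lemma key_inv (U : Subgroup G)
    (hUc : ∀ a ∈ U, ∀ b ∈ U, a * b = b * a)
    (y : G) (hy : σ (σ y) = y⁻¹) (hyU : ∀ v ∈ U, y * v * y⁻¹ ∈ U)
    (hτU : ∀ v ∈ U, σ (σ v) ∈ U)
    (hcop : (orderOf y).Coprime (Nat.card U))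
    (hyp : ∀ u ∈ U, σ (σ (y * u * y⁻¹ * u⁻¹)) = y * u * y⁻¹ * u⁻¹ → y * u * y⁻¹ * u⁻¹ = 1) :
    ∀ u ∈ U, y * u * y⁻¹ = u := by
  have hyU' := conj_inv_mem U y hyU
  have hyinv : σ (σ y⁻¹) = y := by rw [map_inv, map_inv, hy, inv_inv]
  -- Claim A
  have claimA : ∀ u ∈ U, σ (σ (y * u * y⁻¹ * u⁻¹)) = (y * u * y⁻¹ * u⁻¹)⁻¹ := by
    intro u hu
    set w := y * u * y⁻¹ * u⁻¹ with hw
    have hwU : w ∈ U := U.mul_mem (hyU u hu) (U.inv_mem hu)
    set u' := σ (σ u) with hu'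
    have hu'U : u' ∈ U := hτU u hu
    have hτw : σ (σ w) = y⁻¹ * u' * y * u'⁻¹ := by
      rw [hw]
      simp only [map_mul, map_inv, hy, inv_inv]
      rfl
    set u'' := y⁻¹ * u'⁻¹ * y with hu''
    have hu''U : u'' ∈ U := hyU' _ (U.inv_mem hu'U)
    have hτwU : σ (σ w) ∈ U := hτU w hwU
    -- φ (u * u'') = w * τ w
    have e1 : y * (u * u'') * y⁻¹ * (u * u'')⁻¹ = w * σ (σ w) := by
      have e2 : y * u'' * y⁻¹ * u''⁻¹ = σ (σ w) := by
        rw [hτw, hu'']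
        have e3 : y * (y⁻¹ * u'⁻¹ * y) * y⁻¹ * (y⁻¹ * u'⁻¹ * y)⁻¹ = u'⁻¹ * (y⁻¹ * u' * y) := by group
        rw [e3]
        exact hUc _ (U.inv_mem hu'U) _ (hyU' _ hu'U)
      have e4 : y * (u * u'') * y⁻¹ * (u * u'')⁻¹
          = (y * u * y⁻¹) * ((y * u'' * y⁻¹) * u''⁻¹) * u⁻¹ := by group
      rw [e4]
      have e5 : (y * u'' * y⁻¹) * u''⁻¹ = σ (σ w) := by rw [← e2]
      rw [e5]
      have e6 : σ (σ w) * u⁻¹ = u⁻¹ * σ (σ w) := hUc _ hτwU _ (U.inv_mem hu)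
      rw [mul_assoc, e6, hw]
      group
    have hfix : σ (σ (w * σ (σ w))) = w * σ (σ w) := by
      rw [map_mul, map_mul, h.four]
      exact hUc _ hτwU _ hwU
    have h1 := hyp (u * u'') (U.mul_mem hu hu''U)
    rw [e1] at h1
    have h2 := h1 hfix
    exact eq_inv_of_mul_eq_one_right h2
  -- Claim B
  intro u hu
  set w := y * u * y⁻¹ * u⁻¹ with hw
  have hwU : w ∈ U := U.mul_mem (hyU u hu) (U.inv_mem hu)
  have hA := claimA u hu
  rw [← hw] at hA
  have hA1 := claimA (y * u * y⁻¹) (hyU u hu)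
  have e1 : y * (y * u * y⁻¹) * y⁻¹ * (y * u * y⁻¹)⁻¹ = y * w * y⁻¹ := by rw [hw]; group
  rw [e1] at hA1
  have e2 : σ (σ (y * w * y⁻¹)) = y⁻¹ * w⁻¹ * y := by
    simp only [map_mul, map_inv, hy, inv_inv, hA]
  rw [e2] at hA1
  -- y⁻¹ w⁻¹ y = y w⁻¹ y⁻¹
  have hc : Commute (y * y) w := by
    have e3 : (y * y) * w⁻¹ = w⁻¹ * (y * y) := by
      calc (y * y) * w⁻¹ = y * (y * w⁻¹ * y⁻¹) * y := by group
        _ = y * (y * w * y⁻¹)⁻¹ * y := by group
        _ = y * (y⁻¹ * w⁻¹ * y) * y := by rw [← hA1]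
        _ = w⁻¹ * (y * y) := by group
    have : Commute (y * y) w⁻¹ := e3
    exact Commute.inv_right_iff.mp this
  have hc' : Commute y w := commute_of_commute_sq h.odd_card hc
  have h1 := comm_eq_one_of_comm U y hyU hcop hu hc'
  rw [← hw] at h1
  calc y * u * y⁻¹ = w * u := by rw [hw]; group
    _ = u := by rw [h1, one_mul]

/-- Step 1: `C_V(σ y) ≤ C_V(y)`. -/
lemma step1 (V : Subgroup G) (hVc : ∀ a ∈ V, ∀ b ∈ V, a * b = b * a)
    (hVσ : ∀ v ∈ V, σ v ∈ V)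
    (y : G) (hy : σ (σ y) = y⁻¹) (hyV : ∀ v ∈ V, y * v * y⁻¹ ∈ V)
    (hcop : (orderOf y).Coprime (Nat.card V)) :
    ∀ u ∈ V, Commute (σ y) u → Commute y u := by
  set b := σ y with hb
  have hτb : σ (σ b) = b⁻¹ := by rw [hb, hy, map_inv]
  have hyb : Commute y b := by
    have h1 := h.prod4 y
    rw [hy, map_inv, ← hb] at h1
    have h2 : y * b = b * y := by
      calc y * b = (y * b * y⁻¹ * b⁻¹) * (b * y) := by group
        _ = b * y := by rw [h1, one_mul]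
    exact h2
  set U : Subgroup G := V ⊓ Subgroup.centralizer {b} with hU
  have hmemU : ∀ v, v ∈ U ↔ v ∈ V ∧ b * v = v * b := by
    intro v
    rw [hU, Subgroup.mem_inf, Subgroup.mem_centralizer_iff]
    constructor
    · rintro ⟨h1, h2⟩
      exact ⟨h1, (h2 b rfl)⟩
    · rintro ⟨h1, h2⟩
      refine ⟨h1, ?_⟩
      intro x hx
      rw [Set.mem_singleton_iff] at hx
      rw [hx]; exact h2
  have hUV : U ≤ V := inf_le_left
  have key := h.key_inv U (fun a ha c hc => hVc a (hUV ha) c (hUV hc)) y hy ?_ ?_ ?_ ?_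
  · intro u hu hcu
    have huU : u ∈ U := (hmemU u).mpr ⟨hu, hcu.eq⟩
    have h1 := key u huU
    have h2 : y * u = u * y := by
      calc y * u = (y * u * y⁻¹) * y := by group
        _ = u * y := by rw [h1]
    exact h2
  · -- y normalizes U
    intro v hv
    obtain ⟨hvV, hvb⟩ := (hmemU v).mp hv
    refine (hmemU _).mpr ⟨hyV v hvV, ?_⟩
    calc b * (y * v * y⁻¹) = (b * y) * v * y⁻¹ := by group
      _ = (y * b) * v * y⁻¹ := by rw [hyb.eq]
      _ = y * (b * v) * y⁻¹ := by group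
      _ = y * (v * b) * y⁻¹ := by rw [hvb]
      _ = y * v * y⁻¹ * (y * b) * y⁻¹ := by group
      _ = y * v * y⁻¹ * (b * y) * y⁻¹ := by rw [hyb.eq]
      _ = y * v * y⁻¹ * b := by group
  · -- τ U ≤ U
    intro v hv
    obtain ⟨hvV, hvb⟩ := (hmemU v).mp hv
    refine (hmemU _).mpr ⟨hVσ _ (hVσ _ hvV), ?_⟩
    have h1 : σ (σ (b * v)) = σ (σ (v * b)) := by rw [hvb]
    simp only [map_mul, hτb] at h1
    -- b⁻¹ * τv = τv * b⁻¹
    have h2 : Commute b⁻¹ (σ (σ v)) := h1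
    exact (Commute.inv_left_iff.mp h2).eq
  · exact Nat.Coprime.coprime_dvd_right (Subgroup.card_dvd_of_le hUV) hcop
  · -- hyp
    intro u hu hfix
    obtain ⟨huV, hub⟩ := (hmemU u).mp hu
    set w := y * u * y⁻¹ * u⁻¹ with hw
    have h1 : σ w = w⁻¹ := h.inv_of_fixed_sq hfix
    have h2 : σ w = b * σ u * b⁻¹ * (σ u)⁻¹ := by
      rw [hw]; simp only [map_mul, map_inv, ← hb]
    -- σ u commutes with y
    have h3 : Commute y (σ u) := by
      have h4 : σ (b * u) = σ (u * b) := by rw [hub]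
      simp only [map_mul] at h4
      have h5 : σ b = y⁻¹ := by rw [hb, hy]
      rw [h5] at h4
      have h6 : Commute y⁻¹ (σ u) := h4
      exact Commute.inv_left_iff.mp h6
    have h7 : Commute y (σ w) := by
      rw [h2]
      exact ((hyb.mul_right h3).mul_right hyb.inv_right).mul_right h3.inv_right
    rw [h1] at h7
    have h8 : Commute y w := Commute.inv_right_iff.mp h7
    exact comm_eq_one_of_comm V y hyV hcop huV h8

/-- Key lemma: an element inverted by `σ²` centralizes every `σ`-invariant abelian subgroup that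
it normalizes and whose order is prime to its own. -/
theorem centralizes (V : Subgroup G) (hVc : ∀ a ∈ V, ∀ b ∈ V, a * b = b * a)
    (hVσ : ∀ v ∈ V, σ v ∈ V)
    (y : G) (hy : σ (σ y) = y⁻¹) (hyV : ∀ v ∈ V, y * v * y⁻¹ ∈ V)
    (hcop : (orderOf y).Coprime (Nat.card V)) :
    ∀ v ∈ V, y * v * y⁻¹ = v := by
  set b := σ y with hb
  have hτb : σ (σ b) = b⁻¹ := by rw [hb, hy, map_inv]
  have hσb : σ b = y⁻¹ := by rw [hb, hy]
  have hyb : Commute y b := by
    have h1 := h.prod4 y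
    rw [hy, map_inv, ← hb] at h1
    have h2 : y * b = b * y := by
      calc y * b = (y * b * y⁻¹ * b⁻¹) * (b * y) := by group
        _ = b * y := by rw [h1, one_mul]
    exact h2
  have hbV : ∀ v ∈ V, b * v * b⁻¹ ∈ V := by
    intro v hv
    have h1 : σ (σ (σ v)) ∈ V := hVσ _ (hVσ _ (hVσ _ hv))
    have h2 := hVσ _ (hyV _ h1)
    simp only [map_mul, map_inv, h.four] at h2
    exact h2
  have hob : orderOf b = orderOf y := MulEquiv.orderOf_eq σ y
  have hcopb : (orderOf b).Coprime (Nat.card V) := by rw [hob]; exact hcop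
  have s1 := h.step1 V hVc hVσ y hy hyV hcop
  have s2' := h.step1 V hVc hVσ b hτb hbV hcopb
  rw [hσb] at s2'
  have s2 : ∀ u ∈ V, Commute y u → Commute b u := fun u hu hc => s2' u hu (Commute.inv_left_iff.mpr hc)
  apply h.key_inv V hVc y hy hyV (fun v hv => hVσ _ (hVσ _ hv)) hcop
  intro v hv hfix
  set w := y * v * y⁻¹ * v⁻¹ with hw
  have hwV : w ∈ V := V.mul_mem (hyV v hv) (V.inv_mem hv)
  have hσw : σ w = w⁻¹ := h.inv_of_fixed_sq hfix
  -- 4-term identity for w * y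
  have hprod := h.prod4 (w * y)
  simp only [map_mul, hfix, hσw, hy, ← hb, map_inv, hτb, hσb, inv_inv] at hprod
  -- hprod : w * y * (w⁻¹ * b) * (w * y⁻¹) * (w⁻¹ * b⁻¹) = 1
  have e : b⁻¹ * y⁻¹ * b = y⁻¹ := by
    calc b⁻¹ * y⁻¹ * b = b⁻¹ * y⁻¹ * (b * y) * y⁻¹ := by group
      _ = b⁻¹ * y⁻¹ * (y * b) * y⁻¹ := by rw [hyb.eq]
      _ = y⁻¹ := by group
  set a := y * w⁻¹ * y⁻¹ with ha
  set c := y * (b * w * b⁻¹) * y⁻¹ with hc
  set d := b * w⁻¹ * b⁻¹ with hd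
  have haV : a ∈ V := hyV _ (V.inv_mem hwV)
  have hcV : c ∈ V := hyV _ (hbV _ hwV)
  have hdV : d ∈ V := hbV _ (V.inv_mem hwV)
  have hP : w * a * c * d = 1 := by
    calc w * a * c * d = w * y * w⁻¹ * b * w * (b⁻¹ * y⁻¹ * b) * w⁻¹ * b⁻¹ := by
          rw [ha, hc, hd]; group
      _ = w * y * w⁻¹ * b * w * y⁻¹ * w⁻¹ * b⁻¹ := by rw [e]
      _ = w * y * (w⁻¹ * b) * (w * y⁻¹) * (w⁻¹ * b⁻¹) := by group
      _ = 1 := hprod
  -- y commutes with φ_b(w)
  have hcomm : Commute y (b * w * b⁻¹ * w⁻¹) := by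
    have e1 : y * (b * w * b⁻¹ * w⁻¹) * y⁻¹ = c * a := by rw [hc, ha]; group
    have e2 : b * w * b⁻¹ * w⁻¹ = d⁻¹ * w⁻¹ := by rw [hd]; group
    have e3 : c * a = d⁻¹ * w⁻¹ := by
      have e4 : a * c = w⁻¹ * d⁻¹ := by
        calc a * c = w⁻¹ * (w * a * c * d) * d⁻¹ := by group
          _ = w⁻¹ * d⁻¹ := by rw [hP, mul_one]
      rw [hVc c hcV a haV, e4]
      exact hVc _ (V.inv_mem hwV) _ (V.inv_mem hdV)
    have e5 : y * (b * w * b⁻¹ * w⁻¹) * y⁻¹ = b * w * b⁻¹ * w⁻¹ := by rw [e1, e3, e2]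
    have e6 : y * (b * w * b⁻¹ * w⁻¹) = (b * w * b⁻¹ * w⁻¹) * y := by
      calc y * (b * w * b⁻¹ * w⁻¹) = (y * (b * w * b⁻¹ * w⁻¹) * y⁻¹) * y := by group
        _ = (b * w * b⁻¹ * w⁻¹) * y := by rw [e5]
    exact e6
  have hφV : b * w * b⁻¹ * w⁻¹ ∈ V := V.mul_mem (hbV w hwV) (V.inv_mem hwV)
  have h1 : Commute b (b * w * b⁻¹ * w⁻¹) := s2 _ hφV hcomm
  have h2 := comm_eq_one_of_comm V b hbV hcopb hwV h1
  have h3 : Commute b w := by
    have h4 : b * w = w * b := by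
      calc b * w = (b * w * b⁻¹ * w⁻¹) * (w * b) := by group
        _ = w * b := by rw [h2, one_mul]
    exact h4
  have h5 : Commute y w := s1 w hwV h3
  exact comm_eq_one_of_comm V y hyV hcop hv h5

end Fpf4

end Cfsg.Agent.H1.FpfFour
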