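import Mathlib
import Cfsg.Agent.H1.FpfFourA

set_option autoImplicit false

namespace Cfsg.Agent.H1.FpfFour

universe u

variable {G : Type u} [Group G] [Finite G]

/-- An invariant subgroup of a finite group is mapped onto itself. -/
lemma map_eq_of_forall_mem (σ : MulAut G) (K : Subgroup G) (hK : ∀ k ∈ K, σ k ∈ K) :
    K.map σ.toMonoidHom = K := by
  have hle : K.map σ.toMonoidHom ≤ K := by
    rintro _ ⟨k, hk, rfl⟩
    exact hK k hk
  apply Subgroup.eq_of_le_of_card_ge hle
  have h1 : Nat.card (K.map σ.toMonoidHom) = Nat.card K :=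
    Subgroup.card_map_of_injective σ.injective
  exact h1.ge

/-- The automorphism induced on the quotient by an invariant normal subgroup. -/
noncomputable def quotAut (σ : MulAut G) (K : Subgroup G) [K.Normal]
    (hK : K.map σ.toMonoidHom = K) : MulAut (G ⧸ K) :=
  QuotientGroup.congr K K σ hK

lemma quotAut_mk (σ : MulAut G) (K : Subgroup G) [K.Normal]
    (hK : K.map σ.toMonoidHom = K) (g : G) :
    quotAut σ K hK (g : G ⧸ K) = ((σ g : G) : G ⧸ K) :=
  QuotientGroup.congr_mk K K σ hK g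

lemma Fpf4.quot {σ : MulAut G} (h : Fpf4 σ) (K : Subgroup G) [K.Normal]
    (hK : K.map σ.toMonoidHom = K) : Fpf4 (quotAut σ K hK) := by
  have hKσ : ∀ k ∈ K, σ k ∈ K := by
    intro k hk
    rw [← hK]
    exact ⟨k, hk, rfl⟩
  constructor
  · intro x
    induction x using QuotientGroup.induction_on with
    | H g => simp only [quotAut_mk, h.four]
  · intro x
    induction x using QuotientGroup.induction_on with
    | H g =>
      intro hx
      rw [quotAut_mk, QuotientGroup.eq] at hx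
      -- hx : (σ g)⁻¹ * g ∈ K
      have hx' : g⁻¹ * σ g ∈ K := by
        have := K.inv_mem hx
        simpa using this
      let f : K → K := fun k => ⟨(k : G)⁻¹ * σ k, K.mul_mem (K.inv_mem k.2) (hKσ k k.2)⟩
      have hf : Function.Injective f := by
        intro a b hab
        have h1 : (a : G)⁻¹ * σ a = (b : G)⁻¹ * σ b := congrArg Subtype.val hab
        have h2 : σ ((a : G) * (b : G)⁻¹) = (a : G) * (b : G)⁻¹ := by
          rw [map_mul, map_inv]
          have h3 : σ (a : G) = (a : G) * ((b : G)⁻¹ * σ b) := by rw [← h1]; group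
          rw [h3]; group
        have h4 := h.fpf _ h2
        apply Subtype.ext
        exact mul_inv_eq_one.mp h4
      obtain ⟨k, hk⟩ := Finite.surjective_of_injective hf ⟨g⁻¹ * σ g, hx'⟩
      have hk1 : (k : G)⁻¹ * σ k = g⁻¹ * σ g := congrArg Subtype.val hk
      have h2 : σ (g * (k : G)⁻¹) = g * (k : G)⁻¹ := by
        rw [map_mul, map_inv]
        have h3 : σ g = g * ((k : G)⁻¹ * σ k) := by rw [hk1]; group
        rw [h3]; group
      have h4 := h.fpf _ h2
      have h5 : g = k := mul_inv_eq_one.mp h4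
      rw [h5]
      exact (QuotientGroup.eq_one_iff _).mpr k.2

/-- The generators `g⁻¹ σ²(g)`. -/
def tauSet (σ : MulAut G) : Set G := {y | ∃ g : G, y = g⁻¹ * σ (σ g)}

/-- The normal subgroup `[G, σ²]`. -/
def Ntau (σ : MulAut G) : Subgroup G := Subgroup.normalClosure (tauSet σ)

instance Ntau_normal (σ : MulAut G) : (Ntau σ).Normal := Subgroup.normalClosure_normal

lemma tauSet_inv {σ : MulAut G} (h : Fpf4 σ) {y : G} (hy : y ∈ tauSet σ) : σ (σ y) = y⁻¹ := by
  obtain ⟨g, rfl⟩ := hy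
  simp only [map_mul, map_inv, h.four, mul_inv_rev, inv_inv]

lemma tauSet_pow_inv {σ : MulAut G} (h : Fpf4 σ) {y : G} (hy : σ (σ y) = y⁻¹) (k : ℕ) :
    σ (σ (y ^ k)) = (y ^ k)⁻¹ := by
  rw [map_pow, map_pow, hy, inv_pow]

lemma Ntau_invariant {σ : MulAut G} (h : Fpf4 σ) : ∀ k ∈ Ntau σ, σ k ∈ Ntau σ := by
  intro k hk
  have h1 : (Ntau σ).map σ.toMonoidHom ≤ Ntau σ := by
    unfold Ntau
    refine (Subgroup.map_normalClosure_le _ _).trans ?_  
    apply Subgroup.normalClosure_mono
    rintro _ ⟨y, ⟨g, rfl⟩, rfl⟩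
    exact ⟨σ g, by simp⟩
  exact h1 ⟨k, hk, rfl⟩

lemma mul_tau_mem (σ : MulAut G) (g : G) : g⁻¹ * σ (σ g) ∈ Ntau σ :=
  Subgroup.subset_normalClosure ⟨g, rfl⟩

/-- `G / [G,σ²]` is abelian. -/
lemma commutator_le_Ntau {σ : MulAut G} (h : Fpf4 σ) : commutator G ≤ Ntau σ := by
  have hK := map_eq_of_forall_mem σ (Ntau σ) (Ntau_invariant h)
  have hq := h.quot (Ntau σ) hK
  set σ' := quotAut σ (Ntau σ) hK with hσ'
  have hinv : Function.Involutive (σ' : G ⧸ Ntau σ → G ⧸ Ntau σ) := by
    intro x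
    induction x using QuotientGroup.induction_on with
    | H g =>
      rw [hσ', quotAut_mk, quotAut_mk, eq_comm, QuotientGroup.eq]
      exact mul_tau_mem σ g
  have hφ : MonoidHom.FixedPointFree (⇑σ') := hq.fpf
  have hcomm := hφ.commute_all_of_involutive hinv
  rw [commutator_def, Subgroup.commutator_le]
  intro a _ b _
  rw [← QuotientGroup.eq_one_iff, commutatorElement_def]
  simp only [QuotientGroup.mk_mul, QuotientGroup.mk_inv]
  have := (hcomm (a : G ⧸ Ntau σ) (b : G ⧸ Ntau σ)).eq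
  rw [this]
  group

/-- A finite nilpotent group generated by `p`-elements is a `p`-group. -/
lemma isPGroup_of_nilpotent_of_closure {X : Type*} [Group X] (p : ℕ) [Fact p.Prime]
    (Q : Subgroup X) [Finite Q] [Group.IsNilpotent Q] (T : Set X) (hQ : Q = Subgroup.closure T)
    (hT : ∀ t ∈ T, ∃ k : ℕ, t ^ (p ^ k) = 1) : IsPGroup p Q := by
  let P : Sylow p Q := default
  have hPn : (P : Subgroup Q).Normal := inferInstance
  have hTQ : T ⊆ Q := by rw [hQ]; exact Subgroup.subset_closure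
  have hTP : ∀ t (ht : t ∈ T), (⟨t, hTQ ht⟩ : Q) ∈ (P : Subgroup Q) := by
    intro t ht
    obtain ⟨k, hk⟩ := hT t ht
    have hz : IsPGroup p (Subgroup.zpowers (⟨t, hTQ ht⟩ : Q)) := by
      rw [IsPGroup.iff_orderOf]
      -- every element of zpowers has p-power order
      intro z
      obtain ⟨z, hz⟩ := z
      obtain ⟨j, rfl⟩ := Subgroup.mem_zpowers_iff.mp hz
      have h1 : ((⟨(⟨t, hTQ ht⟩ : Q) ^ j, hz⟩ : Subgroup.zpowers (⟨t, hTQ ht⟩ : Q))) ^ (p ^ k) = 1 := by
        apply Subtype.ext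
        apply Subtype.ext
        simp only [Subgroup.coe_pow, Subgroup.coe_zpow, Subgroup.coe_one]
        rw [← zpow_natCast, ← zpow_mul, mul_comm, zpow_mul, zpow_natCast, hk, one_zpow]
      exact (Nat.dvd_prime_pow (Fact.out)).mp (orderOf_dvd_of_pow_eq_one h1) |>.imp fun _ h => h.2
    obtain ⟨P', hP'⟩ := hz.exists_le_sylow
    haveI := Sylow.unique_of_normal P hPn
    have : P' = P := Subsingleton.elim _ _
    rw [← this]
    exact hP' (Subgroup.mem_zpowers _)
  have hall : ∀ q : Q, q ∈ (P : Subgroup Q) := by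
    have h1 : Subgroup.closure T ≤ (P : Subgroup Q).map Q.subtype := by
      rw [Subgroup.closure_le]
      intro t ht
      exact ⟨⟨t, hTQ ht⟩, hTP t ht, rfl⟩
    intro q
    have h2 : (q : X) ∈ Subgroup.closure T := by rw [← hQ]; exact q.2
    obtain ⟨q', hq', hqq⟩ := h1 h2
    have : q' = q := Subtype.ext hqq
    rw [← this]; exact hq'
  intro q
  obtain ⟨k, hk⟩ := P.isPGroup' ⟨q, hall q⟩
  exact ⟨k, by simpa using congrArg Subtype.val hk⟩

end Cfsg.Agent.H1.FpfFour
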