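import Mathlib
import Cfsg.Agent.H1.FpfFourB

set_option autoImplicit false

namespace Cfsg.Agent.H1.FpfFour

universe u
open scoped commutatorElement

/-- existence of a minimal invariant normal subgroup with its properties -/
lemma exists_min_invariant {G : Type u} [Group G] [Finite G] [Nontrivial G] [Group.IsSolvable G]
    (σ : MulAut G) :
    ∃ (V : Subgroup G) (p : ℕ), p.Prime ∧ V ≠ ⊥ ∧ V.Normal ∧ (∀ v ∈ V, σ v ∈ V) ∧
      (∀ a ∈ V, ∀ b ∈ V, a * b = b * a) ∧ (∀ v ∈ V, v ^ p = 1) ∧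
      (∀ K : Subgroup G, K ≠ ⊥ → K.Normal → (∀ k ∈ K, σ k ∈ K) → K ≤ V → K = V) := by
  classical
  let S : Set (Subgroup G) := {V | V ≠ ⊥ ∧ V.Normal ∧ ∀ v ∈ V, σ v ∈ V}
  have hS : S.Nonempty := ⟨⊤, top_ne_bot, inferInstance, fun v _ => Subgroup.mem_top _⟩
  obtain ⟨V, hVS, hmin⟩ := Set.exists_min_image S (fun V => Nat.card V) (Set.toFinite S) hS
  obtain ⟨hV1, hVn, hVσ⟩ := hVS
  have hminV : ∀ K : Subgroup G, K ≠ ⊥ → K.Normal → (∀ k ∈ K, σ k ∈ K) → K ≤ V → K = V := by
    intro K hK1 hKn hKσ hKV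
    exact Subgroup.eq_of_le_of_card_ge hKV (hmin K ⟨hK1, hKn, hKσ⟩)
  haveI := hVn
  -- abelian
  have hab : ∀ a ∈ V, ∀ b ∈ V, a * b = b * a := by
    have hlt : ⁅V, V⁆ < V := Group.IsSolvable.commutator_lt_of_ne_bot hV1
    have hbot : ⁅V, V⁆ = ⊥ := by
      by_contra hne
      have hσ : ∀ k ∈ ⁅V, V⁆, σ k ∈ ⁅V, V⁆ := by
        intro k hk
        have h1 : (⁅V, V⁆).map σ.toMonoidHom ≤ ⁅V, V⁆ := by
          rw [Subgroup.map_commutator]
          have h2 : V.map σ.toMonoidHom ≤ V := by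
            rintro _ ⟨v, hv, rfl⟩
            exact hVσ v hv
          exact Subgroup.commutator_mono h2 h2
        exact h1 ⟨k, hk, rfl⟩
      have := hminV ⁅V, V⁆ hne inferInstance hσ hlt.le
      exact hlt.ne this
    intro a ha b hb
    have h1 : ⁅a, b⁆ ∈ ⁅V, V⁆ := Subgroup.commutator_mem_commutator ha hb
    rw [hbot, Subgroup.mem_bot, commutatorElement_def] at h1
    calc a * b = (a * b * a⁻¹ * b⁻¹) * (b * a) := by group
      _ = b * a := by rw [h1, one_mul]
  -- prime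
  have hcard : Nat.card V ≠ 1 := by
    intro h1
    exact hV1 (Subgroup.card_eq_one.mp h1)
  obtain ⟨p, hp, hpV⟩ := Nat.exists_prime_and_dvd hcard
  haveI : Fact p.Prime := ⟨hp⟩
  obtain ⟨x, hx⟩ := exists_prime_orderOf_dvd_card' (G := V) p hpV
  let K : Subgroup G :=
    { carrier := {v | v ∈ V ∧ v ^ p = 1}
      one_mem' := ⟨V.one_mem, one_pow _⟩
      mul_mem' := by
        rintro a b ⟨ha, ha1⟩ ⟨hb, hb1⟩
        refine ⟨V.mul_mem ha hb, ?_⟩
        have hc : Commute a b := hab a ha b hb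
        rw [hc.mul_pow, ha1, hb1, one_mul]
      inv_mem' := by
        rintro a ⟨ha, ha1⟩
        exact ⟨V.inv_mem ha, by rw [inv_pow, ha1, inv_one]⟩ }
  have hKmem : ∀ v, v ∈ K ↔ v ∈ V ∧ v ^ p = 1 := fun v => Iff.rfl
  have hK1 : K ≠ ⊥ := by
    intro hbot
    have hxK : (x : G) ∈ K := by
      rw [hKmem]
      refine ⟨x.2, ?_⟩
      have : x ^ p = 1 := by rw [← hx]; exact pow_orderOf_eq_one x
      exact_mod_cast congrArg Subtype.val this
    rw [hbot, Subgroup.mem_bot] at hxK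
    have hx1 : x = 1 := Subtype.ext hxK
    rw [hx1, orderOf_one] at hx
    exact hp.one_lt.ne hx
  have hKn : K.Normal := by
    constructor
    intro v hv g
    obtain ⟨hvV, hv1⟩ := (hKmem v).mp hv
    rw [hKmem]
    refine ⟨hVn.conj_mem v hvV g, ?_⟩
    rw [conj_pow, hv1, mul_one, mul_inv_cancel]
  have hKσ : ∀ k ∈ K, σ k ∈ K := by
    intro k hk
    obtain ⟨hkV, hk1⟩ := (hKmem k).mp hk
    rw [hKmem]
    exact ⟨hVσ k hkV, by rw [← map_pow, hk1, map_one]⟩
  have hKV : K ≤ V := fun v hv => ((hKmem v).mp hv).1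
  have hKeq := hminV K hK1 hKn hKσ hKV
  refine ⟨V, p, hp, hV1, hVn, hVσ, hab, ?_, hminV⟩
  intro v hv
  have : v ∈ K := by rw [hKeq]; exact hv
  exact ((hKmem v).mp this).2

theorem Ntau_nilpotent : ∀ (n : ℕ) (G : Type u) [Group G] [Finite G], Nat.card G = n →
    Group.IsSolvable G → ∀ σ : MulAut G, Fpf4 σ → Group.IsNilpotent (Ntau σ) := by
  intro n
  induction n using Nat.strong_induction_on with
  | _ n ih =>
  intro G _ _ hn hsol σ h
  by_cases hsub : Subsingleton G
  · haveI : Subsingleton (Ntau σ) := inferInstance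
    infer_instance
  haveI : Nontrivial G := not_subsingleton_iff_nontrivial.mp hsub
  haveI := hsol
  obtain ⟨V, p, hp, hV1, hVn, hVσ, hab, hexp, hmin⟩ := exists_min_invariant σ
  haveI := hVn
  haveI : Fact p.Prime := ⟨hp⟩
  have hVmap := map_eq_of_forall_mem σ V hVσ
  set σ' := quotAut σ V hVmap with hσ'
  have h' : Fpf4 σ' := h.quot V hVmap
  have hVp : IsPGroup p V := by
    intro v
    refine ⟨1, ?_⟩
    apply Subtype.ext
    rw [pow_one, Subgroup.coe_pow, Subgroup.coe_one]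
    exact hexp v v.2
  obtain ⟨j, hj⟩ := IsPGroup.iff_card.mp hVp
  have hcard1 : Nat.card V ≠ 1 := fun h1 => hV1 (Subgroup.card_eq_one.mp h1)
  have hj0 : j ≠ 0 := by
    intro h0
    rw [h0, pow_zero] at hj
    exact hcard1 hj
  have hpV : p ∣ Nat.card V := by rw [hj]; exact dvd_pow_self p hj0
  have hlt : Nat.card (G ⧸ V) < n := by
    have h1 := Subgroup.card_mul_index V
    rw [Subgroup.index_eq_card, hn] at h1
    have h2 : 2 ≤ Nat.card V := by
      have : 0 < Nat.card V := Nat.card_pos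
      omega
    have h3 : 0 < Nat.card (G ⧸ V) := Nat.card_pos
    nlinarith
  have hnil' : Group.IsNilpotent (Ntau σ') := ih _ hlt (G ⧸ V) rfl inferInstance σ' h'
  have hmapN : (Ntau σ).map (QuotientGroup.mk' V) = Ntau σ' := by
    unfold Ntau
    rw [Subgroup.map_normalClosure _ _ (QuotientGroup.mk'_surjective V)]
    congr 1
    ext x
    constructor
    · rintro ⟨y, ⟨g, rfl⟩, rfl⟩
      exact ⟨(g : G ⧸ V), by simp [hσ', quotAut_mk]⟩
    · rintro ⟨q, rfl⟩
      induction q using QuotientGroup.induction_on with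
      | H g => exact ⟨g⁻¹ * σ (σ g), ⟨g, rfl⟩, by simp [hσ', quotAut_mk]⟩
  -- conjugation action on V
  let ψ : G →* MulAut V := MulAut.conjNormal
  have hψapp : ∀ (g : G) (v : V), ((ψ g v : V) : G) = g * v * g⁻¹ := fun g v =>
    MulAut.conjNormal_apply g v
  have hψV : V ≤ ψ.ker := by
    intro v hv
    rw [MonoidHom.mem_ker]
    ext u
    rw [hψapp, MulAut.one_apply]
    calc v * u * v⁻¹ = (v * (u : G)) * v⁻¹ := by group
      _ = ((u : G) * v) * v⁻¹ := by rw [hab v hv u u.2]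
      _ = u := by group
  let ψ' : G ⧸ V →* MulAut V := QuotientGroup.lift V ψ hψV
  let Q : Subgroup (MulAut V) := (Ntau σ').map ψ'
  have hQeq : Q = (Ntau σ).map ψ := by
    show (Ntau σ').map ψ' = _
    rw [← hmapN, Subgroup.map_map]
    congr 1
  haveI := hnil'
  haveI : Finite Q := Finite.of_surjective (ψ'.subgroupMap (Ntau σ')) (ψ'.subgroupMap_surjective _)
  haveI : Group.IsNilpotent Q :=
    Group.nilpotent_of_surjective (ψ'.subgroupMap (Ntau σ')) (ψ'.subgroupMap_surjective _)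
  let T : Set (MulAut V) := ψ '' (Group.conjugatesOfSet (tauSet σ))
  have hQT : Q = Subgroup.closure T := by
    rw [hQeq]
    unfold Ntau Subgroup.normalClosure
    rw [MonoidHom.map_closure]
  have hT : ∀ t ∈ T, ∃ k : ℕ, t ^ (p ^ k) = 1 := by
    rintro _ ⟨x, hx, rfl⟩
    obtain ⟨a, ha, hax⟩ := Group.mem_conjugatesOfSet_iff.mp hx
    obtain ⟨c, hc⟩ := isConj_iff.mp hax
    set k := (orderOf a).factorization p with hk
    refine ⟨k, ?_⟩
    set y' := a ^ (p ^ k) with hy'
    have hτy' : σ (σ y') = y'⁻¹ := tauSet_pow_inv h (tauSet_inv h ha) _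
    have hord : orderOf y' = orderOf a / p ^ k := by
      rw [hy', orderOf_pow' a (pow_pos hp.pos k).ne']
      congr 1
      exact Nat.gcd_eq_right (Nat.ordProj_dvd (orderOf a) p)
    have hcop : (orderOf y').Coprime (Nat.card V) := by
      rw [hord, hj]
      apply Nat.Coprime.pow_right
      exact (Nat.coprime_ordCompl hp (orderOf_pos a).ne').symm
    have hcent := h.centralizes V hab hVσ y' hτy' (fun v hv => hVn.conj_mem v hv y') hcop
    have hψy' : ψ y' = 1 := by
      ext u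
      rw [hψapp, MulAut.one_apply]
      exact hcent u u.2
    rw [← map_pow, ← hc, conj_pow, ← hy', map_mul, map_mul, hψy', mul_one, ← map_mul,
      mul_inv_cancel, map_one]
  have hQp : IsPGroup p Q := isPGroup_of_nilpotent_of_closure p Q T hQT hT
  have hfix1 : (1 : V) ∈ MulAction.fixedPoints Q V := by
    intro q
    show (q : MulAut V) • (1 : V) = 1
    rw [MulAut.smul_def, map_one]
  obtain ⟨b, hbfix, hb1⟩ := hQp.exists_fixed_point_of_prime_dvd_card_of_fixed_point V hpV hfix1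
  have hbN : ∀ m ∈ Ntau σ, m * (b : G) * m⁻¹ = b := by
    intro m hm
    have hmQ : ψ m ∈ Q := by rw [hQeq]; exact Subgroup.mem_map_of_mem ψ hm
    have h1 := hbfix ⟨ψ m, hmQ⟩
    have h2 : ψ m b = b := h1
    rw [← hψapp, h2]
  let Z : Subgroup G := V ⊓ Subgroup.centralizer (Ntau σ : Set G)
  have hZ1 : Z ≠ ⊥ := by
    intro hbot
    have hbZ : (b : G) ∈ Z := by
      refine Subgroup.mem_inf.mpr ⟨b.2, ?_⟩
      rw [Subgroup.mem_centralizer_iff]
      intro m hm
      have := hbN m hm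
      calc m * (b : G) = (m * (b : G) * m⁻¹) * m := by group
        _ = (b : G) * m := by rw [this]
    rw [hbot, Subgroup.mem_bot] at hbZ
    exact hb1 (Subtype.ext hbZ.symm)
  have hNσ := Ntau_invariant h
  have hZσ : ∀ z ∈ Z, σ z ∈ Z := by
    intro z hz
    obtain ⟨hzV, hzC⟩ := Subgroup.mem_inf.mp hz
    refine Subgroup.mem_inf.mpr ⟨hVσ z hzV, ?_⟩
    rw [Subgroup.mem_centralizer_iff]
    intro m hm
    have hm' : σ (σ (σ m)) ∈ Ntau σ := hNσ _ (hNσ _ (hNσ _ hm))
    have h1 := Subgroup.mem_centralizer_iff.mp hzC _ hm'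
    have h2 := congrArg σ h1
    simp only [map_mul, h.four] at h2
    exact h2
  have hZn : Z.Normal := inferInstance
  have hZeq := hmin Z hZ1 hZn hZσ inf_le_left
  have hVcent : ∀ v ∈ V, ∀ m ∈ Ntau σ, m * v = v * m := by
    intro v hv m hm
    have hvZ : v ∈ Z := by rw [hZeq]; exact hv
    exact Subgroup.mem_centralizer_iff.mp (Subgroup.mem_inf.mp hvZ).2 m hm
  -- conclusion
  haveI : Group.IsNilpotent ((Ntau σ).map (QuotientGroup.mk' V)) := by
    rw [hmapN]; exact hnil'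
  let f := (QuotientGroup.mk' V).subgroupMap (Ntau σ)
  apply isNilpotent_of_ker_le_center f ?_
  intro x hx
  rw [MonoidHom.mem_ker] at hx
  have h1 : (QuotientGroup.mk' V) (x : G) = 1 := by
    have := congrArg Subtype.val hx
    simpa [f] using this
  have hxV : (x : G) ∈ V := by
    rwa [QuotientGroup.mk'_apply, QuotientGroup.eq_one_iff] at h1
  rw [Subgroup.mem_center_iff]
  intro g
  apply Subtype.ext
  exact hVcent _ hxV _ g.2

end Cfsg.Agent.H1.FpfFour
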