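import Mathlib
import Cfsg.Agent.H1.Splitting

set_option autoImplicit false

namespace Cfsg.Agent.H1.FpfThree

open scoped commutatorElement

universe u

section engel
variable {Q : Type*} [Group Q]

/-- the `2`-Engel condition: every element commutes with all its conjugates -/
def Engel2 (Q : Type*) [Group Q] : Prop := ∀ x h : Q, Commute x (h * x * h⁻¹)

theorem hall_witt (x y z : Q) :
    ⁅⁅x, y⁆, y * z * y⁻¹⁆ * ⁅⁅y, z⁆, z * x * z⁻¹⁆ * ⁅⁅z, x⁆, x * y * x⁻¹⁆ = 1 := by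
  simp only [commutatorElement_def]
  group

theorem Engel2.comm_left (h : Engel2 Q) (x y : Q) : Commute x ⁅x, y⁆ := by
  have h1 : ⁅x, y⁆ = x * (y * x * y⁻¹)⁻¹ := by rw [commutatorElement_def]; group
  rw [h1]
  exact (Commute.refl x).mul_right (h x y).inv_right

theorem Engel2.comm_right (h : Engel2 Q) (x y : Q) : Commute y ⁅x, y⁆ := by
  have h1 : ⁅x, y⁆ = (x * y * x⁻¹) * y⁻¹ := by rw [commutatorElement_def]
  rw [h1]
  exact (h y x).mul_right (Commute.refl y).inv_right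

theorem Engel2.of_surjective {R : Type*} [Group R] (h : Engel2 Q) (f : Q →* R)
    (hf : Function.Surjective f) : Engel2 R := by
  intro x k
  obtain ⟨x, rfl⟩ := hf x
  obtain ⟨k, rfl⟩ := hf k
  have := (h x k).map f
  simpa using this

/-- in a `2`-Engel group whose triple commutators are central, `t(x,y,z) t(x,z,y) = 1` -/
theorem Engel2.A1 (h : Engel2 Q) (hc : ∀ x y z : Q, ⁅⁅x, y⁆, z⁆ ∈ Subgroup.center Q) (x y z : Q) :
    ⁅⁅x, y⁆, z⁆ * ⁅⁅x, z⁆, y⁆ = 1 := by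
  obtain ⟨c, hcdef⟩ : ∃ c : Q, c = ⁅x, y⁆ := ⟨_, rfl⟩
  obtain ⟨d, hddef⟩ : ∃ d : Q, d = ⁅x, z⁆ := ⟨_, rfl⟩
  obtain ⟨u, hu⟩ : ∃ u : Q, u = ⁅c, z⁆ := ⟨_, rfl⟩
  obtain ⟨v, hv⟩ : ∃ v : Q, v = ⁅d, y⁆ := ⟨_, rfl⟩
  have huc : u ∈ Subgroup.center Q := by rw [hu, hcdef]; exact hc x y z
  have hvc : v ∈ Subgroup.center Q := by rw [hv, hddef]; exact hc x z y
  rw [← hcdef, ← hddef, ← hu, ← hv]
  have hcy : c * y = y * c := by rw [hcdef]; exact (h.comm_right x y).symm.eq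
  have hdz : d * z = z * d := by rw [hddef]; exact (h.comm_right x z).symm.eq
  have hcz : c * z = u * (z * c) := by rw [hu, commutatorElement_def]; group
  have hdy : d * y = v * (y * d) := by rw [hv, commutatorElement_def]; group
  have he : ⁅x, y * z⁆ = c * (y * d * y⁻¹) := by
    rw [hcdef, hddef]; simp only [commutatorElement_def]; group
  have hyd : y * d * y⁻¹ = v⁻¹ * d := by
    have : y * d = v⁻¹ * (d * y) := by rw [hdy]; group
    rw [this]; group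
  have hcomm : (y * z) * ⁅x, y * z⁆ = ⁅x, y * z⁆ * (y * z) := (h.comm_right x (y * z)).eq
  rw [he, hyd] at hcomm
  have hvc' : ∀ g : Q, v * g = g * v := fun g => ((Subgroup.mem_center_iff.mp hvc) g).symm
  have huc' : ∀ g : Q, u * g = g * u := fun g => ((Subgroup.mem_center_iff.mp huc) g).symm
  have hvi : ∀ g : Q, v⁻¹ * g = g * v⁻¹ := by
    intro g
    have := hvc' g
    calc v⁻¹ * g = v⁻¹ * (g * v) * v⁻¹ := by group
      _ = v⁻¹ * (v * g) * v⁻¹ := by rw [this]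
      _ = g * v⁻¹ := by group
  -- `c d y z = u v y z c d`
  have h1 : c * d * (y * z) = u * v * (y * z * (c * d)) := by
    calc c * d * (y * z) = c * (d * y) * z := by group
      _ = c * (v * (y * d)) * z := by rw [hdy]
      _ = v * (c * y) * (d * z) := by rw [← mul_assoc c v, ← hvc' c]; group
      _ = v * (y * c) * (z * d) := by rw [hcy, hdz]
      _ = v * y * (c * z) * d := by group
      _ = v * y * (u * (z * c)) * d := by rw [hcz]
      _ = u * v * (y * z * (c * d)) := by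
        rw [← mul_assoc (v * y) u, ← huc' (v * y)]; group
  have h2 : y * z * (c * (v⁻¹ * d)) = c * (v⁻¹ * d) * (y * z) := hcomm
  have h3 : y * z * (c * d) = c * d * (y * z) := by
    have k1 : c * (v⁻¹ * d) = v⁻¹ * (c * d) := by rw [← mul_assoc, ← hvi c, mul_assoc]
    have e1 : y * z * (c * (v⁻¹ * d)) = v⁻¹ * (y * z * (c * d)) := by
      rw [k1, ← mul_assoc, ← hvi (y * z), mul_assoc]
    have e2 : c * (v⁻¹ * d) * (y * z) = v⁻¹ * (c * d * (y * z)) := by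
      rw [k1, mul_assoc]
    rw [e1, e2] at h2
    exact mul_left_cancel h2
  rw [h1] at h3
  have h4 : u * v = 1 := by
    have : (1 : Q) * (y * z * (c * d)) = u * v * (y * z * (c * d)) := by rw [one_mul]; exact h3
    exact (mul_right_cancel this).symm
  exact h4

theorem A2 (hc : ∀ x y z : Q, ⁅⁅x, y⁆, z⁆ ∈ Subgroup.center Q) (x y z : Q) :
    ⁅⁅y, x⁆, z⁆ = (⁅⁅x, y⁆, z⁆)⁻¹ := by
  obtain ⟨c, hcdef⟩ : ∃ c : Q, c = ⁅x, y⁆ := ⟨_, rfl⟩
  have h1 : ⁅y, x⁆ = c⁻¹ := by rw [hcdef]; simp only [commutatorElement_def]; group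
  obtain ⟨u, hu⟩ : ∃ u : Q, u = ⁅c, z⁆ := ⟨_, rfl⟩
  have huc : u ∈ Subgroup.center Q := by rw [hu, hcdef]; exact hc x y z
  rw [h1, ← hcdef, ← hu]
  have huc' : ∀ g : Q, u * g = g * u := fun g => ((Subgroup.mem_center_iff.mp huc) g).symm
  have h2 : c * z = u * (z * c) := by rw [hu, commutatorElement_def]; group
  rw [commutatorElement_def]
  have h3 : z * c = u⁻¹ * (c * z) := by rw [h2]; group
  calc c⁻¹ * z * c⁻¹⁻¹ * z⁻¹ = c⁻¹ * (z * c) * z⁻¹ := by group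
    _ = c⁻¹ * (u⁻¹ * (c * z)) * z⁻¹ := by rw [h3]
    _ = c⁻¹ * u⁻¹ * c := by group
    _ = u⁻¹ := by
      have : u⁻¹ * c = c * u⁻¹ := by
        have := huc' c
        calc u⁻¹ * c = u⁻¹ * (c * u) * u⁻¹ := by group
          _ = u⁻¹ * (u * c) * u⁻¹ := by rw [this]
          _ = c * u⁻¹ := by group
      rw [mul_assoc, this]; group

theorem Engel2.conj_right (h : Engel2 Q) (hc : ∀ x y z : Q, ⁅⁅x, y⁆, z⁆ ∈ Subgroup.center Q)
    (x y z : Q) : ⁅⁅x, y⁆, y * z * y⁻¹⁆ = ⁅⁅x, y⁆, z⁆ := by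
  obtain ⟨c, hcdef⟩ : ∃ c : Q, c = ⁅x, y⁆ := ⟨_, rfl⟩
  have hcy : c * y = y * c := by rw [hcdef]; exact (h.comm_right x y).symm.eq
  have hcy' : y⁻¹ * c⁻¹ = c⁻¹ * y⁻¹ := by
    calc y⁻¹ * c⁻¹ = (c * y)⁻¹ := by group
      _ = (y * c)⁻¹ := by rw [hcy]
      _ = c⁻¹ * y⁻¹ := by group
  obtain ⟨u, hu⟩ : ∃ u : Q, u = ⁅c, z⁆ := ⟨_, rfl⟩
  have huc : u ∈ Subgroup.center Q := by rw [hu, hcdef]; exact hc x y z
  rw [← hcdef, ← hu]
  have h1 : ⁅c, y * z * y⁻¹⁆ = y * u * y⁻¹ := by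
    rw [hu]
    simp only [commutatorElement_def]
    calc c * (y * z * y⁻¹) * c⁻¹ * (y * z * y⁻¹)⁻¹
        = (c * y) * z * (y⁻¹ * c⁻¹) * y * z⁻¹ * y⁻¹ := by group
      _ = (y * c) * z * (c⁻¹ * y⁻¹) * y * z⁻¹ * y⁻¹ := by rw [hcy, hcy']
      _ = y * (c * z * c⁻¹ * z⁻¹) * y⁻¹ := by group
  rw [h1]
  have := (Subgroup.mem_center_iff.mp huc) y
  calc y * u * y⁻¹ = (y * u) * y⁻¹ := rfl
    _ = (u * y) * y⁻¹ := by rw [this]
    _ = u := by group

theorem Engel2.triple_cube (h : Engel2 Q) (hc : ∀ x y z : Q, ⁅⁅x, y⁆, z⁆ ∈ Subgroup.center Q)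
    (x y z : Q) : ⁅⁅x, y⁆, z⁆ ^ 3 = 1 := by
  have hw := hall_witt x y z
  rw [h.conj_right hc x y z, h.conj_right hc y z x, h.conj_right hc z x y] at hw
  have e1 : ⁅⁅y, z⁆, x⁆ = ⁅⁅x, y⁆, z⁆ := by
    have a1 := h.A1 hc y z x
    have a2 := A2 hc x y z
    rw [a2] at a1
    calc ⁅⁅y, z⁆, x⁆ = ⁅⁅y, z⁆, x⁆ * (⁅⁅x, y⁆, z⁆)⁻¹ * ⁅⁅x, y⁆, z⁆ := by group
      _ = ⁅⁅x, y⁆, z⁆ := by rw [a1, one_mul]
  have e2 : ⁅⁅z, x⁆, y⁆ = ⁅⁅x, y⁆, z⁆ := by
    have a1 := h.A1 hc x y z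
    have a2 := A2 hc x z y
    rw [a2]
    calc (⁅⁅x, z⁆, y⁆)⁻¹ = ⁅⁅x, y⁆, z⁆ * ⁅⁅x, z⁆, y⁆ * (⁅⁅x, z⁆, y⁆)⁻¹ := by rw [a1, one_mul]
      _ = ⁅⁅x, y⁆, z⁆ := by group
  rw [e1, e2] at hw
  rw [pow_succ, pow_two]
  exact hw

end engel

/-- Levi's theorem for finite `p`-groups, `p ≠ 3`: a `2`-Engel group has class at most `2` -/
theorem levi_aux (p : ℕ) [hp : Fact p.Prime] (hp3 : p ≠ 3) :
    ∀ n : ℕ, ∀ (Q : Type u) [Group Q] [Finite Q], Nat.card Q = n → IsPGroup p Q → Engel2 Q →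
      ∀ x y z : Q, ⁅⁅x, y⁆, z⁆ = 1 := by
  intro n
  induction n using Nat.strong_induction_on with
  | _ n ih =>
    intro Q _ _ hcard hQ hE x y z
    rcases subsingleton_or_nontrivial Q with hs | hnt
    · exact Subsingleton.elim _ _
    haveI := hQ.center_nontrivial
    have hlt : Nat.card (Q ⧸ Subgroup.center Q) < n := by
      have h1 := Subgroup.card_eq_card_quotient_mul_card_subgroup (Subgroup.center Q)
      have h2 : 1 < Nat.card (Subgroup.center Q) := Finite.one_lt_card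
      have h3 : 0 < Nat.card (Q ⧸ Subgroup.center Q) := Nat.card_pos
      rw [← hcard, h1]
      nlinarith
    have hq := ih _ hlt (Q ⧸ Subgroup.center Q) rfl (hQ.to_quotient _)
      (hE.of_surjective (QuotientGroup.mk' _) (QuotientGroup.mk'_surjective _))
    have hc : ∀ x y z : Q, ⁅⁅x, y⁆, z⁆ ∈ Subgroup.center Q := by
      intro x y z
      rw [← QuotientGroup.eq_one_iff]
      have := hq (QuotientGroup.mk' _ x) (QuotientGroup.mk' _ y) (QuotientGroup.mk' _ z)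
      rw [← map_commutatorElement, ← map_commutatorElement] at this
      exact this
    have h3 := hE.triple_cube hc x y z
    obtain ⟨k, hk⟩ := hQ ⁅⁅x, y⁆, z⁆
    have hd1 : orderOf ⁅⁅x, y⁆, z⁆ ∣ 3 := orderOf_dvd_of_pow_eq_one h3
    have hd2 : orderOf ⁅⁅x, y⁆, z⁆ ∣ p ^ k := orderOf_dvd_of_pow_eq_one hk
    have hcop : Nat.Coprime 3 (p ^ k) :=
      Nat.Coprime.pow_right k ((Nat.coprime_primes Nat.prime_three hp.out).mpr (Ne.symm hp3))
    have : orderOf ⁅⁅x, y⁆, z⁆ = 1 := Nat.eq_one_of_dvd_coprimes hcop hd1 hd2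
    exact orderOf_eq_one_iff.mp this

section fpf
variable {Q : Type u} [Group Q] [Finite Q]

/-- for a fixed-point-free automorphism `α` of order dividing `3`, `x` commutes with every
conjugate of `α x` -/
theorem commute_twist (α : MulAut Q) (hα : α ^ 3 = 1) (hα1 : ∀ x : Q, α x = x → x = 1)
    (x h : Q) : Commute x (h * α x * h⁻¹) := by
  have hs := (splits_of_fixedPointFree α hα hα1).conj h
  have e1 := hs.split x
  have e2 := hs.split x⁻¹
  simp only [npow, Function.iterate_zero, id_eq, Function.iterate_succ, Function.comp_apply,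
    one_mul, MonoidHom.coe_comp, MulEquiv.coe_toMonoidHom, MulAut.conj_apply, map_inv] at e1 e2
  obtain ⟨b, hb⟩ : ∃ b : Q, b = h * α x * h⁻¹ := ⟨_, rfl⟩
  rw [← hb] at e1 e2 ⊢
  obtain ⟨c, hc⟩ : ∃ c : Q, c = h * α b * h⁻¹ := ⟨_, rfl⟩
  rw [← hc] at e1 e2
  have f1 : x * b * c = 1 := e1
  have f2 : x⁻¹ * b⁻¹ * c⁻¹ = 1 := e2
  show x * b = b * x
  have g1 : x * b = c⁻¹ := by
    calc x * b = (x * b * c) * c⁻¹ := by group
      _ = c⁻¹ := by rw [f1, one_mul]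
  have g2 : b * x = c⁻¹ := by
    have : c * b * x = 1 := by
      calc c * b * x = (x⁻¹ * b⁻¹ * c⁻¹)⁻¹ := by group
        _ = 1 := by rw [f2, inv_one]
    calc b * x = c⁻¹ * (c * b * x) := by group
      _ = c⁻¹ := by rw [this, mul_one]
  rw [g1, g2]

theorem split3 (σ : MulAut Q) (hσ : σ ^ 3 = 1) (hfpf : ∀ x : Q, σ x = x → x = 1) (x : Q) :
    x * σ x * σ (σ x) = 1 := by
  have hs := (splits_of_fixedPointFree σ hσ hfpf).split x
  simpa [npow] using hs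

/-- a group with a fixed-point-free automorphism of order dividing `3` is `2`-Engel -/
theorem engel2_of_fpf (σ : MulAut Q) (hσ : σ ^ 3 = 1) (hfpf : ∀ x : Q, σ x = x → x = 1) :
    Engel2 Q := by
  have key : ∀ (α : MulAut Q), α ^ 3 = 1 → (∀ x : Q, α x = x → x = 1) →
      ∀ x h : Q, Commute x (h * α x * h⁻¹) := commute_twist
  have hσ2 : (σ ^ 2) ^ 3 = 1 := by rw [← pow_mul, mul_comm, pow_mul, hσ, one_pow]
  have hfpf2 : ∀ x : Q, (σ ^ 2) x = x → x = 1 := by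
    intro x hx
    apply hfpf
    have h3 : σ ((σ ^ 2) x) = x := by
      have := congrArg (fun a : MulAut Q => a x) hσ
      simpa [pow_succ, MulAut.mul_apply] using this
    rw [hx] at h3
    exact h3
  have hprod : ∀ x : Q, x * σ x * (σ ^ 2) x = 1 := by
    intro x
    have hs := (splits_of_fixedPointFree σ hσ hfpf).split x
    simpa [npow, pow_succ, MulAut.mul_apply] using hs
  intro x h
  have k1 := key σ hσ hfpf x h
  have k2 := key (σ ^ 2) hσ2 hfpf2 x h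
  have hinv : h * x * h⁻¹ = ((h * σ x * h⁻¹) * (h * (σ ^ 2) x * h⁻¹))⁻¹ := by
    have : σ x * (σ ^ 2) x = x⁻¹ := by
      calc σ x * (σ ^ 2) x = x⁻¹ * (x * σ x * (σ ^ 2) x) := by group
        _ = x⁻¹ := by rw [hprod, mul_one]
    calc h * x * h⁻¹ = (h * x⁻¹ * h⁻¹)⁻¹ := by group
      _ = (h * (σ x * (σ ^ 2) x) * h⁻¹)⁻¹ := by rw [this]
      _ = ((h * σ x * h⁻¹) * (h * (σ ^ 2) x * h⁻¹))⁻¹ := by group
  rw [hinv]
  exact (k1.mul_right k2).inv_right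

/-- a finite `p`-group (`p ≠ 3`) with a fixed-point-free automorphism of order dividing `3` has
class at most `2` -/
theorem nilpotencyClass_le_two (p : ℕ) [hp : Fact p.Prime] (hp3 : p ≠ 3) (hQ : IsPGroup p Q)
    (σ : MulAut Q) (hσ : σ ^ 3 = 1) (hfpf : ∀ x : Q, σ x = x → x = 1) :
    (∀ x y z : Q, ⁅⁅x, y⁆, z⁆ = 1) ∧ Group.nilpotencyClass Q ≤ 2 := by
  have hE := engel2_of_fpf σ hσ hfpf
  have h1 := levi_aux p hp3 _ Q rfl hQ hE
  refine ⟨h1, ?_⟩
  haveI : Group.IsNilpotent Q := hQ.isNilpotent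
  rw [← Subgroup.upperCentralSeries_eq_top_iff_nilpotencyClass_le, eq_top_iff]
  intro x _
  rw [Subgroup.mem_upperCentralSeries_succ_iff]
  intro y
  rw [Subgroup.upperCentralSeries_one, Subgroup.mem_center_iff]
  intro z
  have := h1 x y z
  rw [commutatorElement_def] at this
  calc z * ⁅x, y⁆ = (⁅x, y⁆ * z * ⁅x, y⁆⁻¹ * z⁻¹)⁻¹ * (⁅x, y⁆ * z) := by group
    _ = ⁅x, y⁆ * z := by rw [this, inv_one, one_mul]

end fpf

end Cfsg.Agent.H1.FpfThree
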