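import Mathlib
import Cfsg.Agent.H1.BurnsideBasis
import Cfsg.Agent.Lib.Helper7.Core

set_option autoImplicit false
set_option linter.style.haveILetI false
set_option linter.unusedSectionVars false
set_option linter.unusedVariables false

/-!
# Frattini index and rank of finite `p`-groups

`fi P` is the index of the Frattini subgroup; `rk p P k` says that every subgroup `Y` of `P` has
`fi Y ≤ p ^ k`.  Both are subadditive along extensions of `p`-groups.
-/

namespace Cfsg.Agent.H1.FR

open Cfsg.Agent.H1
open scoped commutatorElement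

/-- The index of the Frattini subgroup. -/
noncomputable def fi (P : Type*) [Group P] : ℕ := (frattini P).index

theorem frattini_map_equiv' {A B : Type*} [Group A] [Group B] (e : A ≃* B) :
    (frattini A).map e.toMonoidHom = frattini B := by
  apply le_antisymm
  · rw [Subgroup.map_le_iff_le_comap]
    exact frattini_le_comap_frattini_of_surjective e.surjective
  · have h := frattini_le_comap_frattini_of_surjective (φ := e.symm.toMonoidHom) e.symm.surjective
    intro x hx
    refine ⟨e.symm x, h hx, ?_⟩
    simp

theorem fi_congr {A B : Type*} [Group A] [Group B] (e : A ≃* B) : fi A = fi B := by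
  unfold fi
  rw [← frattini_map_equiv' e]
  exact (Subgroup.index_map_equiv (frattini A) e).symm

theorem fi_pos {P : Type*} [Group P] [Finite P] : 0 < fi P := by
  unfold fi
  exact Nat.pos_of_ne_zero Subgroup.index_ne_zero_of_finite

theorem fi_le_card {P : Type*} [Group P] [Finite P] : fi P ≤ Nat.card P :=
  Nat.le_of_dvd Nat.card_pos (Subgroup.index_dvd_card _)

section pgroup

variable {p : ℕ} [hp : Fact p.Prime] {P : Type*} [Group P] [Finite P]

theorem comm_mem_frattini (hP : IsPGroup p P) (x y : P) : x * y * x⁻¹ * y⁻¹ ∈ frattini P := by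
  have h1 : ⁅x, y⁆ ∈ commutator P := by
    rw [commutator_def]
    exact Subgroup.commutator_mem_commutator (Subgroup.mem_top _) (Subgroup.mem_top _)
  have h2 := commutator_le_frattini hP h1
  rwa [commutatorElement_def] at h2

/-- The Frattini subgroup of a subgroup of a `p`-group lies in the Frattini subgroup. -/
theorem frattini_subgroup_le (hP : IsPGroup p P) (Y : Subgroup P) :
    frattini Y ≤ (frattini P).subgroupOf Y := by
  apply Cfsg.Agent.Lib.Helper7.frattini_le_of_elemAb_quotient p
  · intro x y
    rw [Subgroup.mem_subgroupOf]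
    exact comm_mem_frattini hP (x : P) (y : P)
  · intro x
    rw [Subgroup.mem_subgroupOf]
    exact pow_p_mem_frattini hP (x : P)

theorem relIndex_frattini_le_fi (hP : IsPGroup p P) (B : Subgroup P) :
    (frattini P).relIndex B ≤ fi B := by
  unfold fi Subgroup.relIndex
  exact Nat.le_of_dvd (Nat.pos_of_ne_zero Subgroup.index_ne_zero_of_finite)
    (Subgroup.index_dvd_of_le (frattini_subgroup_le hP B))

theorem fi_le_index_mul_relIndex (B : Subgroup P) :
    fi P ≤ B.index * (frattini P).relIndex B := by
  unfold fi
  have h1 : (frattini P).relIndex (B ⊔ frattini P) * (B ⊔ frattini P).index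
      = (frattini P).index := Subgroup.relIndex_mul_index le_sup_right
  have h2 : (frattini P).relIndex (B ⊔ frattini P) = (frattini P).relIndex B :=
    Subgroup.relIndex_sup_right B (frattini P)
  have h3 : (B ⊔ frattini P).index ≤ B.index :=
    Nat.le_of_dvd (Nat.pos_of_ne_zero Subgroup.index_ne_zero_of_finite)
      (Subgroup.index_dvd_of_le le_sup_left)
  rw [← h1, h2, mul_comm]
  exact Nat.mul_le_mul_right _ h3

theorem fi_le_index_mul_fi (hP : IsPGroup p P) (B : Subgroup P) : fi P ≤ B.index * fi B :=
  (fi_le_index_mul_relIndex B).trans (Nat.mul_le_mul_left _ (relIndex_frattini_le_fi hP B))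

/-- Subadditivity of the Frattini index along an extension. -/
theorem fi_quotient (hP : IsPGroup p P) (K : Subgroup P) [K.Normal] :
    fi P ≤ fi K * fi (P ⧸ K) := by
  have h1 : (frattini P).relIndex (K ⊔ frattini P) * (K ⊔ frattini P).index
      = (frattini P).index := Subgroup.relIndex_mul_index le_sup_right
  have h2 : (frattini P).relIndex (K ⊔ frattini P) = (frattini P).relIndex K :=
    Subgroup.relIndex_sup_right K (frattini P)
  have h3 : (K ⊔ frattini P).index ≤ fi (P ⧸ K) := by
    have hmap : ((frattini P).map (QuotientGroup.mk' K)).index = (K ⊔ frattini P).index := by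
      rw [Subgroup.index_map, QuotientGroup.ker_mk',
        MonoidHom.range_eq_top.mpr (QuotientGroup.mk'_surjective K), Subgroup.index_top, mul_one,
        sup_comm]
    have hle : frattini (P ⧸ K) ≤ (frattini P).map (QuotientGroup.mk' K) := by
      apply Cfsg.Agent.Lib.Helper7.frattini_le_of_elemAb_quotient p
      · intro x y
        induction x using QuotientGroup.induction_on with
        | H a =>
        induction y using QuotientGroup.induction_on with
        | H b =>
          exact ⟨a * b * a⁻¹ * b⁻¹, comm_mem_frattini hP a b, rfl⟩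
      · intro x
        induction x using QuotientGroup.induction_on with
        | H a =>
          exact ⟨a ^ p, pow_p_mem_frattini hP a, rfl⟩
    rw [← hmap]
    unfold fi
    exact Nat.le_of_dvd (Nat.pos_of_ne_zero Subgroup.index_ne_zero_of_finite)
      (Subgroup.index_dvd_of_le hle)
  unfold fi at *
  rw [← h1, h2]
  exact Nat.mul_le_mul (relIndex_frattini_le_fi hP K) h3

/-- A cyclic `p`-group has Frattini index at most `p`. -/
theorem fi_cyclic (hP : IsPGroup p P) [hc : IsCyclic P] : fi P ≤ p := by
  classical
  obtain ⟨g, hg⟩ := hc.exists_generator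
  obtain ⟨n, hn⟩ := hP.index (frattini P)
  have hcl : Subgroup.closure (({g} : Finset P) : Set P) = ⊤ := by
    rw [Finset.coe_singleton, ← Subgroup.zpowers_eq_closure]
    exact (Subgroup.eq_top_iff' _).mpr hg
  have h := (burnside_basis p n hP hn).2 {g} hcl
  rw [Finset.card_singleton] at h
  unfold fi
  rw [hn]
  calc p ^ n ≤ p ^ 1 := Nat.pow_le_pow_right hp.out.pos h
    _ = p := pow_one p

/-- For an abelian normal subgroup `B` and any `t`, the index of `B ∩ Φ(P)` in `B` is at most
`|C_B(t)|`. -/
theorem relIndex_frattini_le_card_centralizer (hP : IsPGroup p P) (B : Subgroup P) [hBn : B.Normal]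
    (hB : ∀ a ∈ B, ∀ b ∈ B, a * b = b * a) (t : P) :
    (frattini P).relIndex B
      ≤ Nat.card (B ⊓ Subgroup.centralizer ({t} : Set P) : Subgroup P) := by
  letI : CommGroup B :=
    { (inferInstance : Group B) with mul_comm := fun a b => Subtype.ext (hB a a.2 b b.2) }
  -- conjugation by `t⁻¹`
  let κ : B →* B :=
    { toFun := fun b => ⟨t⁻¹ * (b : P) * t, by
        have := hBn.conj_mem (b : P) b.2 t⁻¹
        simpa using this⟩
      map_one' := by
        apply Subtype.ext
        simp
      map_mul' := by
        intro a b
        apply Subtype.ext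
        show t⁻¹ * ((a : P) * (b : P)) * t = (t⁻¹ * (a : P) * t) * (t⁻¹ * (b : P) * t)
        group }
  let c : B →* B := invMonoidHom * κ
  have hc : ∀ b : B, ((c b : B) : P) = (b : P)⁻¹ * (t⁻¹ * (b : P) * t) := fun b => rfl
  -- the range lies in the Frattini subgroup
  have hrange : c.range ≤ (frattini P).subgroupOf B := by
    rintro _ ⟨b, rfl⟩
    rw [Subgroup.mem_subgroupOf, hc]
    have := comm_mem_frattini hP (b : P)⁻¹ t⁻¹
    simpa [mul_assoc] using this
  -- the kernel injects into the centralizer
  have hker : Nat.card c.ker ≤ Nat.card (B ⊓ Subgroup.centralizer ({t} : Set P) : Subgroup P) := by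
    apply Nat.card_le_card_of_injective
      (fun b : c.ker => (⟨((b : B) : P), by
        refine Subgroup.mem_inf.mpr ⟨(b : B).2, ?_⟩
        rw [Subgroup.mem_centralizer_singleton_iff]
        have h1 : c (b : B) = 1 := b.2
        have h2 : (((b : B) : P))⁻¹ * (t⁻¹ * ((b : B) : P) * t) = 1 := by
          rw [← hc, h1]; rfl
        have h3 : t⁻¹ * ((b : B) : P) * t = ((b : B) : P) := by
          have := congrArg (fun z => ((b : B) : P) * z) h2
          simpa using this
        calc ((b : B) : P) * t = t * (t⁻¹ * ((b : B) : P) * t) := by group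
          _ = t * ((b : B) : P) := by rw [h3]⟩ :
        (B ⊓ Subgroup.centralizer ({t} : Set P) : Subgroup P)))
    intro a b hab
    apply Subtype.ext
    apply Subtype.ext
    have h := congrArg Subtype.val hab
    exact h
  have h1 : Nat.card c.ker * Nat.card c.range = Nat.card B := by
    rw [← Subgroup.index_ker, Subgroup.card_mul_index]
  have h2 : ((frattini P).subgroupOf B).index * Nat.card ((frattini P).subgroupOf B)
      = Nat.card B := Subgroup.index_mul_card _
  have h3 : Nat.card c.range ≤ Nat.card ((frattini P).subgroupOf B) :=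
    Subgroup.card_le_of_le hrange
  have h4 : 0 < Nat.card c.range := Nat.card_pos
  have h5 : ((frattini P).subgroupOf B).index * Nat.card c.range
      ≤ Nat.card c.ker * Nat.card c.range := by
    rw [h1, ← h2]
    exact Nat.mul_le_mul_left _ h3
  have h6 := Nat.le_of_mul_le_mul_right h5 h4
  exact h6.trans hker

end pgroup

section rank

variable {p : ℕ} [hp : Fact p.Prime]

/-- Every subgroup has Frattini index at most `p ^ k`. -/
def rk (p : ℕ) (P : Type*) [Group P] (k : ℕ) : Prop := ∀ Y : Subgroup P, fi Y ≤ p ^ k

theorem rk_of_injective {P P' : Type*} [Group P] [Group P'] (f : P →* P')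
    (hf : Function.Injective f) {k : ℕ} (h : rk p P' k) : rk p P k := by
  intro Y
  rw [fi_congr (Y.equivMapOfInjective f hf)]
  exact h (Y.map f)

theorem rk_subgroup {P : Type*} [Group P] {k : ℕ} (h : rk p P k) (Y : Subgroup P) : rk p Y k :=
  rk_of_injective Y.subtype Y.subtype_injective h

theorem rk_mono {P : Type*} [Group P] {k l : ℕ} (h : rk p P k) (hkl : k ≤ l) : rk p P l :=
  fun Y => (h Y).trans (Nat.pow_le_pow_right hp.out.pos hkl)

theorem fi_le_of_rk {P : Type*} [Group P] {k : ℕ} (h : rk p P k) : fi P ≤ p ^ k := by
  rw [← fi_congr (Subgroup.topEquiv (G := P))]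
  exact h ⊤

/-- The rank is subadditive along an extension. -/
theorem rk_ext {P : Type*} [Group P] [Finite P] (hP : IsPGroup p P) {A : Type*} [Group A]
    (f : P →* A) {a b : ℕ} (ha : rk p A a) (hb : rk p f.ker b) : rk p P (a + b) := by
  intro Y
  have hY : IsPGroup p Y := hP.to_subgroup Y
  have h1 := fi_quotient hY (f.comp Y.subtype).ker
  have h2 : fi (Y ⧸ (f.comp Y.subtype).ker) ≤ p ^ a := by
    rw [fi_congr (QuotientGroup.quotientKerEquivRange (f.comp Y.subtype))]
    exact ha _
  have h3 : fi (f.comp Y.subtype).ker ≤ p ^ b := by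
    let j : (f.comp Y.subtype).ker →* f.ker :=
      { toFun := fun x => ⟨((x : Y) : P), x.2⟩
        map_one' := rfl
        map_mul' := fun _ _ => rfl }
    have hj : Function.Injective j := by
      intro x y hxy
      apply Subtype.ext
      apply Subtype.ext
      exact congrArg (fun z : f.ker => (z : P)) hxy
    exact fi_le_of_rk (rk_of_injective j hj hb)
  calc fi Y ≤ fi (f.comp Y.subtype).ker * fi (Y ⧸ (f.comp Y.subtype).ker) := h1
    _ ≤ p ^ b * p ^ a := Nat.mul_le_mul h3 h2
    _ = p ^ (a + b) := by rw [← pow_add, add_comm]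

/-- The rank of a subgroup of a direct product. -/
theorem rk_prod {P : Type*} [Group P] [Finite P] (hP : IsPGroup p P) {A B : Type*} [Group A]
    [Group B] (f : P →* A) (g : P →* B) (hfg : ∀ x : P, f x = 1 → g x = 1 → x = 1) {a b : ℕ}
    (ha : rk p A a) (hb : rk p B b) : rk p P (a + b) := by
  apply rk_ext hP f ha
  apply rk_of_injective (g.comp f.ker.subtype) _ hb
  rw [injective_iff_map_eq_one]
  intro x hx
  apply Subtype.ext
  exact hfg (x : P) x.2 hx

theorem rk_of_card_le {P : Type*} [Group P] [Finite P] (h : Nat.card P ≤ p) : rk p P 1 := by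
  intro Y
  rw [pow_one]
  exact (fi_le_card).trans ((Subgroup.card_le_card_group Y).trans h)

theorem rk_of_cyclic {P : Type*} [Group P] [Finite P] (hP : IsPGroup p P) [IsCyclic P] :
    rk p P 1 := by
  intro Y
  rw [pow_one]
  exact fi_cyclic (hP.to_subgroup Y)

/-- A `p`-group with a cyclic normal subgroup of index at most `p` has rank at most two. -/
theorem rk_of_cyclic_normal {P : Type*} [Group P] [Finite P] (hP : IsPGroup p P) (C : Subgroup P)
    [C.Normal] [IsCyclic C] (hC : C.index ≤ p) : rk p P 2 := by
  have hA : rk p (P ⧸ C) 1 := by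
    apply rk_of_card_le
    rw [← Subgroup.index_eq_card]
    exact hC
  have hK : rk p (QuotientGroup.mk' C).ker 1 := by
    let j : (QuotientGroup.mk' C).ker →* C :=
      { toFun := fun x => ⟨(x : P), (QuotientGroup.eq_one_iff (x : P)).mp (MonoidHom.mem_ker.mp x.2)⟩
        map_one' := rfl
        map_mul' := fun _ _ => rfl }
    have hj : Function.Injective j := by
      intro x y hxy
      apply Subtype.ext
      exact congrArg (fun z : C => (z : P)) hxy
    exact rk_of_injective j hj (rk_of_cyclic (hP.to_subgroup C))
  exact rk_ext hP (QuotientGroup.mk' C) hA hK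

end rank

end Cfsg.Agent.H1.FR
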