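import Mathlib
import Cfsg.Agent.H1.FratRankA

set_option autoImplicit false
set_option linter.style.haveILetI false
set_option linter.unusedSectionVars false
set_option linter.unusedVariables false

/-!
# The wreath step: a subgroup of index two mapping twice onto a smaller group

`P` has a subgroup `H` of index two, `t ∉ H`, and `α : H →* P₀` such that `α` and
`β = α ∘ (conjugation by t)` are jointly injective.  A normal subgroup `B₀` of `P₀` pulls back to a
normal subgroup `B` of `P` whose index, rank, order, commutativity and `t`-centralizer are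
controlled by those of `B₀`.
-/

namespace Cfsg.Agent.H1.FR

section wreathstep

variable {P : Type*} [Group P] [Finite P] (H : Subgroup P) [hHn : H.Normal] (t : P)
  {P₀ : Type*} [Group P₀] [Finite P₀] (α : H →* P₀)

/-- The twisted homomorphism `β(h) = α(t h t⁻¹)`. -/
noncomputable def twist : H →* P₀ := α.comp (MulAut.conjNormal t : MulAut H).toMonoidHom

theorem twist_apply (h : H) :
    twist H t α h = α ⟨t * (h : P) * t⁻¹, hHn.conj_mem (h : P) h.2 t⟩ := rfl

/-- The pull-back of `B₀` along both `α` and `β`, as a subgroup of `H`. -/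
noncomputable def pullH (B₀ : Subgroup P₀) : Subgroup H := B₀.comap α ⊓ B₀.comap (twist H t α)

theorem mem_pullH {B₀ : Subgroup P₀} {h : H} :
    h ∈ pullH H t α B₀ ↔ α h ∈ B₀ ∧ twist H t α h ∈ B₀ := by
  unfold pullH
  rw [Subgroup.mem_inf, Subgroup.mem_comap, Subgroup.mem_comap]

/-- The pull-back as a subgroup of `P`. -/
noncomputable def pull (B₀ : Subgroup P₀) : Subgroup P := (pullH H t α B₀).map H.subtype

theorem pull_le (B₀ : Subgroup P₀) : pull H t α B₀ ≤ H := Subgroup.map_subtype_le _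

theorem mem_pull {B₀ : Subgroup P₀} {x : P} :
    x ∈ pull H t α B₀ ↔ ∃ hx : x ∈ H, (⟨x, hx⟩ : H) ∈ pullH H t α B₀ := by
  unfold pull
  constructor
  · rintro ⟨y, hy, rfl⟩
    exact ⟨y.2, hy⟩
  · rintro ⟨hx, hy⟩
    exact ⟨⟨x, hx⟩, hy, rfl⟩

instance pullH_normal (B₀ : Subgroup P₀) [B₀.Normal] : (pullH H t α B₀).Normal := by
  unfold pullH
  infer_instance

theorem twist_twist (ht2 : t * t ∈ H) (h : H) :
    twist H t α (⟨t * (h : P) * t⁻¹, hHn.conj_mem (h : P) h.2 t⟩ : H)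
      = α ⟨t * t, ht2⟩ * α h * (α ⟨t * t, ht2⟩)⁻¹ := by
  rw [twist_apply, ← map_mul, ← map_inv, ← map_mul]
  congr 1
  apply Subtype.ext
  show t * (t * (h : P) * t⁻¹) * t⁻¹ = t * t * (h : P) * (t * t)⁻¹
  group

/-- `t` normalizes the pull-back. -/
theorem conj_t_mem_pullH (ht2 : t * t ∈ H) (B₀ : Subgroup P₀) [hB₀ : B₀.Normal] {h : H}
    (hh : h ∈ pullH H t α B₀) :
    (⟨t * (h : P) * t⁻¹, hHn.conj_mem (h : P) h.2 t⟩ : H) ∈ pullH H t α B₀ := by
  rw [mem_pullH] at hh ⊢
  refine ⟨?_, ?_⟩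
  · have := hh.2
    rwa [twist_apply] at this
  · rw [twist_twist H t α ht2 h]
    exact hB₀.conj_mem _ hh.1 _

theorem pull_normal (hH2 : H.index = 2) (ht : t ∉ H) (B₀ : Subgroup P₀) [hB₀ : B₀.Normal] :
    (pull H t α B₀).Normal := by
  have ht2 : t * t ∈ H := by
    rw [Subgroup.mul_mem_iff_of_index_two hH2]
  constructor
  intro x hx g
  rw [mem_pull] at hx ⊢
  obtain ⟨hxH, hx'⟩ := hx
  by_cases hg : g ∈ H
  · refine ⟨hHn.conj_mem x hxH g, ?_⟩
    have := (pullH_normal H t α B₀).conj_mem _ hx' ⟨g, hg⟩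
    exact this
  · -- `g = t * h`
    have hh : t⁻¹ * g ∈ H := by
      rw [Subgroup.mul_mem_iff_of_index_two hH2]
      constructor
      · intro h1; exact absurd (by simpa using H.inv_mem h1) ht
      · intro h1; exact absurd h1 hg
    have h1 := (pullH_normal H t α B₀).conj_mem _ hx' ⟨t⁻¹ * g, hh⟩
    have h2 := conj_t_mem_pullH H t α ht2 B₀ h1
    refine ⟨hHn.conj_mem x hxH g, ?_⟩
    convert h2 using 1
    apply Subtype.ext
    show g * x * g⁻¹ = t * (t⁻¹ * g * x * (t⁻¹ * g)⁻¹) * t⁻¹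
    group

/-- The index of the pull-back. -/
theorem index_pull_le (hH2 : H.index = 2) (B₀ : Subgroup P₀) [hB₀ : B₀.Normal] :
    (pull H t α B₀).index ≤ 2 * B₀.index ^ 2 := by
  unfold pull
  rw [Subgroup.index_map_subtype, hH2, mul_comm]
  apply Nat.mul_le_mul_left
  let f : H →* (P₀ ⧸ B₀) × (P₀ ⧸ B₀) :=
    ((QuotientGroup.mk' B₀).comp α).prod ((QuotientGroup.mk' B₀).comp (twist H t α))
  have hker : f.ker = pullH H t α B₀ := by
    ext h
    rw [MonoidHom.mem_ker, mem_pullH]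
    show ((QuotientGroup.mk' B₀) (α h), (QuotientGroup.mk' B₀) (twist H t α h)) = 1 ↔ _
    rw [Prod.mk_eq_one, QuotientGroup.mk'_apply, QuotientGroup.mk'_apply,
      QuotientGroup.eq_one_iff, QuotientGroup.eq_one_iff]
  rw [← hker, Subgroup.index_ker]
  calc Nat.card f.range ≤ Nat.card ((P₀ ⧸ B₀) × (P₀ ⧸ B₀)) := Subgroup.card_le_card_group _
    _ = B₀.index ^ 2 := by
      rw [Nat.card_prod, ← Subgroup.index_eq_card, sq]

variable (hinj : ∀ h : H, α h = 1 → twist H t α h = 1 → h = 1)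
include hinj

/-- The pull-back embeds in `B₀ × B₀`. -/
theorem pullH_maps_injective (B₀ : Subgroup P₀) (x : pullH H t α B₀)
    (h1 : α (x : H) = 1) (h2 : twist H t α (x : H) = 1) : x = 1 :=
  Subtype.ext (hinj (x : H) h1 h2)

theorem rk_pull {p : ℕ} [Fact p.Prime] (hP : IsPGroup p P) (B₀ : Subgroup P₀) {a : ℕ}
    (ha : rk p B₀ a) : rk p (pull H t α B₀) (a + a) := by
  have hBH : rk p (pullH H t α B₀) (a + a) := by
    have hp1 : IsPGroup p (pullH H t α B₀) := (hP.to_subgroup H).to_subgroup _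
    let f : pullH H t α B₀ →* B₀ :=
      { toFun := fun x => ⟨α (x : H), (mem_pullH H t α).mp x.2 |>.1⟩
        map_one' := Subtype.ext (by simp)
        map_mul' := fun x y => Subtype.ext (by simp) }
    let g : pullH H t α B₀ →* B₀ :=
      { toFun := fun x => ⟨twist H t α (x : H), (mem_pullH H t α).mp x.2 |>.2⟩
        map_one' := Subtype.ext (by simp)
        map_mul' := fun x y => Subtype.ext (by simp) }
    apply rk_prod hp1 f g _ ha ha
    intro x hfx hgx
    exact pullH_maps_injective H t α hinj B₀ x (congrArg Subtype.val hfx)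
      (congrArg Subtype.val hgx)
  unfold pull
  exact rk_of_injective
    ((pullH H t α B₀).equivMapOfInjective H.subtype H.subtype_injective).symm.toMonoidHom
    ((pullH H t α B₀).equivMapOfInjective H.subtype H.subtype_injective).symm.injective hBH

theorem card_pull_le (B₀ : Subgroup P₀) : Nat.card (pull H t α B₀) ≤ Nat.card B₀ ^ 2 := by
  unfold pull
  rw [← Nat.card_congr ((pullH H t α B₀).equivMapOfInjective H.subtype
    H.subtype_injective).toEquiv, sq, ← Nat.card_prod]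
  apply Nat.card_le_card_of_injective
    (fun x : pullH H t α B₀ => ((⟨α (x : H), (mem_pullH H t α).mp x.2 |>.1⟩ : B₀),
      (⟨twist H t α (x : H), (mem_pullH H t α).mp x.2 |>.2⟩ : B₀)))
  intro x y hxy
  have h1 : α (x : H) = α (y : H) := congrArg (fun z : B₀ × B₀ => (z.1 : P₀)) hxy
  have h2 : twist H t α (x : H) = twist H t α (y : H) :=
    congrArg (fun z : B₀ × B₀ => (z.2 : P₀)) hxy
  have h3 : x * y⁻¹ = 1 := by
    apply pullH_maps_injective H t α hinj B₀
    · rw [Subgroup.coe_mul, map_mul, Subgroup.coe_inv, map_inv, h1, mul_inv_cancel]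
    · rw [Subgroup.coe_mul, map_mul, Subgroup.coe_inv, map_inv, h2, mul_inv_cancel]
  exact mul_inv_eq_one.mp h3

theorem comm_pull (B₀ : Subgroup P₀) (hB₀ : ∀ a ∈ B₀, ∀ b ∈ B₀, a * b = b * a) :
    ∀ a ∈ pull H t α B₀, ∀ b ∈ pull H t α B₀, a * b = b * a := by
  intro a ha b hb
  rw [mem_pull] at ha hb
  obtain ⟨haH, ha'⟩ := ha
  obtain ⟨hbH, hb'⟩ := hb
  rw [mem_pullH] at ha' hb'
  have h : (⟨a, haH⟩ : H) * ⟨b, hbH⟩ * (⟨a, haH⟩ : H)⁻¹ * (⟨b, hbH⟩ : H)⁻¹ = 1 := by
    apply hinj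
    · rw [map_mul, map_mul, map_mul, map_inv, map_inv, hB₀ _ ha'.1 _ hb'.1]
      group
    · rw [map_mul, map_mul, map_mul, map_inv, map_inv, hB₀ _ ha'.2 _ hb'.2]
      group
  have h' : a * b * a⁻¹ * b⁻¹ = 1 := congrArg Subtype.val h
  calc a * b = (a * b * a⁻¹ * b⁻¹) * (b * a) := by group
    _ = b * a := by rw [h', one_mul]

/-- The centralizer of `t` in the pull-back embeds in `B₀`. -/
theorem card_centralizer_pull_le (B₀ : Subgroup P₀) :
    Nat.card (pull H t α B₀ ⊓ Subgroup.centralizer ({t} : Set P) : Subgroup P) ≤ Nat.card B₀ := by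
  have hmem : ∀ x : (pull H t α B₀ ⊓ Subgroup.centralizer ({t} : Set P) : Subgroup P),
      ∃ hx : (x : P) ∈ H, (⟨(x : P), hx⟩ : H) ∈ pullH H t α B₀ := fun x =>
    (mem_pull H t α).mp (Subgroup.mem_inf.mp x.2).1
  apply Nat.card_le_card_of_injective
    (fun x : (pull H t α B₀ ⊓ Subgroup.centralizer ({t} : Set P) : Subgroup P) =>
      (⟨α ⟨(x : P), (hmem x).1⟩, ((mem_pullH H t α).mp (hmem x).2).1⟩ : B₀))
  intro x y hxy
  have h1 : α ⟨(x : P), (hmem x).1⟩ = α ⟨(y : P), (hmem y).1⟩ := congrArg Subtype.val hxy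
  have hxt : (x : P) * t = t * (x : P) :=
    Subgroup.mem_centralizer_singleton_iff.mp (Subgroup.mem_inf.mp x.2).2
  have hyt : (y : P) * t = t * (y : P) :=
    Subgroup.mem_centralizer_singleton_iff.mp (Subgroup.mem_inf.mp y.2).2
  have hz : (⟨(x : P), (hmem x).1⟩ : H) * (⟨(y : P), (hmem y).1⟩ : H)⁻¹ = 1 := by
    apply hinj
    · rw [map_mul, map_inv, h1, mul_inv_cancel]
    · rw [twist_apply]
      have hfix : (⟨t * (((⟨(x : P), (hmem x).1⟩ : H) * (⟨(y : P), (hmem y).1⟩ : H)⁻¹ : H) : P)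
          * t⁻¹, hHn.conj_mem _ (SetLike.coe_mem _) t⟩ : H)
          = (⟨(x : P), (hmem x).1⟩ : H) * (⟨(y : P), (hmem y).1⟩ : H)⁻¹ := by
        apply Subtype.ext
        show t * ((x : P) * (y : P)⁻¹) * t⁻¹ = (x : P) * (y : P)⁻¹
        have e1 : t * (x : P) = (x : P) * t := hxt.symm
        have e2 : (y : P)⁻¹ * t⁻¹ = t⁻¹ * (y : P)⁻¹ := by
          rw [← mul_inv_rev, ← mul_inv_rev, hyt.symm]
        calc t * ((x : P) * (y : P)⁻¹) * t⁻¹ = (t * (x : P)) * ((y : P)⁻¹ * t⁻¹) := by group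
          _ = ((x : P) * t) * (t⁻¹ * (y : P)⁻¹) := by rw [e1, e2]
          _ = (x : P) * (y : P)⁻¹ := by group
      rw [hfix, map_mul, map_inv, h1, mul_inv_cancel]
  have hxy' : (⟨(x : P), (hmem x).1⟩ : H) = ⟨(y : P), (hmem y).1⟩ := mul_inv_eq_one.mp hz
  apply Subtype.ext
  have h := congrArg (fun z : H => (z : P)) hxy'
  exact h

end wreathstep

end Cfsg.Agent.H1.FR
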