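import Mathlib
import Cfsg.Agent.H1.FratRankB
import Cfsg.Agent.S3380

set_option autoImplicit false
set_option linter.style.haveILetI false
set_option linter.unusedSectionVars false
set_option linter.unusedVariables false

/-!
# The Frattini index of an irreducible `2`-subgroup of `GL(V)`, `V` over an odd prime field

By induction on `|V|`, using the imprimitivity theorem `S3380` as the engine.
-/

namespace Cfsg.Agent.H1.FR

universe u

/-! ### Groups with a large cyclic subgroup -/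

theorem rk_two_of_orderOf {G : Type*} [Group G] [Finite G] (hG : IsPGroup 2 G) (x : G)
    (hx : Nat.card G ≤ 2 * orderOf x) : rk 2 G 2 := by
  haveI : Fact (Nat.Prime 2) := ⟨Nat.prime_two⟩
  have hcard : Nat.card (Subgroup.zpowers x) = orderOf x := Nat.card_zpowers x
  have hmul := (Subgroup.zpowers x).card_mul_index
  have hpos : 0 < orderOf x := orderOf_pos x
  have hidx : (Subgroup.zpowers x).index ≤ 2 := by
    rw [hcard] at hmul
    apply Nat.le_of_mul_le_mul_left _ hpos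
    rw [hmul, mul_comm]
    exact hx
  have hidx0 : (Subgroup.zpowers x).index ≠ 0 := Subgroup.index_ne_zero_of_finite
  haveI : (Subgroup.zpowers x).Normal := by
    have h12 : (Subgroup.zpowers x).index = 1 ∨ (Subgroup.zpowers x).index = 2 := by omega
    rcases h12 with h1 | h2
    · rw [Subgroup.index_eq_one] at h1
      rw [h1]
      infer_instance
    · exact Subgroup.normal_of_index_eq_two h2
  exact rk_of_cyclic_normal hG (Subgroup.zpowers x) hidx

theorem exists_orderOf_of_cyclic {G : Type*} [Group G] [Finite G] [IsCyclic G] :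
    ∃ x : G, Nat.card G ≤ 2 * orderOf x := by
  obtain ⟨x, hx⟩ := IsCyclic.exists_generator (α := G)
  refine ⟨x, ?_⟩
  rw [orderOf_eq_card_of_forall_mem_zpowers hx]
  omega

theorem exists_orderOf_of_quaternion {G : Type*} [Group G] [Finite G] {n : ℕ}
    (e : G ≃* QuaternionGroup n) : ∃ x : G, Nat.card G ≤ 2 * orderOf x := by
  refine ⟨e.symm (QuaternionGroup.a 1), ?_⟩
  have hn : n ≠ 0 := by
    intro h0
    have h1 : orderOf (e.symm (QuaternionGroup.a 1 : QuaternionGroup n)) = 2 * n := by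
      rw [MulEquiv.orderOf_eq, QuaternionGroup.orderOf_a_one]
    have h2 := orderOf_pos (e.symm (QuaternionGroup.a 1 : QuaternionGroup n))
    omega
  haveI : NeZero n := ⟨hn⟩
  rw [MulEquiv.orderOf_eq, QuaternionGroup.orderOf_a_one, Nat.card_congr e.toEquiv,
    Nat.card_eq_fintype_card, QuaternionGroup.card]
  omega

theorem exists_orderOf_of_dihedral {G : Type*} [Group G] [Finite G] {n : ℕ}
    (e : G ≃* DihedralGroup n) : ∃ x : G, Nat.card G ≤ 2 * orderOf x := by
  refine ⟨e.symm (DihedralGroup.r 1), ?_⟩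
  rw [MulEquiv.orderOf_eq, DihedralGroup.orderOf_r_one, Nat.card_congr e.toEquiv,
    DihedralGroup.nat_card]

theorem exists_orderOf_of_quasiDihedral {G : Type*} [Group G] (h : Cfsg.IsQuasiDihedral G) :
    ∃ x : G, Nat.card G ≤ 2 * orderOf x := by
  obtain ⟨n, hn, hcard, x, y, hx, hy, hxy⟩ := h
  exact ⟨x, by rw [hcard, hx, pow_succ, mul_comm]⟩

/-! ### Restriction to an invariant subspace -/

section lin

variable {q : ℕ} [hq : Fact q.Prime] {V : Type*} [AddCommGroup V] [Module (ZMod q) V]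
  {G : Type*} [Group G] (ρ : G →* (V ≃ₗ[ZMod q] V))

/-- Restriction of the action of a subgroup to an invariant subspace, as endomorphisms. -/
noncomputable def resEnd (H : Subgroup G) (W : Submodule (ZMod q) V)
    (hW : ∀ h ∈ H, ∀ w ∈ W, ρ h w ∈ W) : H →* Module.End (ZMod q) W where
  toFun h := ((ρ (h : G) : V ≃ₗ[ZMod q] V) : V →ₗ[ZMod q] V).restrict (hW h h.2)
  map_one' := by
    apply LinearMap.ext
    intro w
    apply Subtype.ext
    simp [LinearMap.restrict_coe_apply]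
  map_mul' a b := by
    apply LinearMap.ext
    intro w
    apply Subtype.ext
    simp [LinearMap.restrict_coe_apply]

/-- Restriction of the action of a subgroup to an invariant subspace. -/
noncomputable def resEquiv (H : Subgroup G) (W : Submodule (ZMod q) V)
    (hW : ∀ h ∈ H, ∀ w ∈ W, ρ h w ∈ W) : H →* (W ≃ₗ[ZMod q] W) :=
  (LinearMap.GeneralLinearGroup.generalLinearEquiv (ZMod q) W).toMonoidHom.comp
    (resEnd ρ H W hW).toHomUnits

theorem resEquiv_apply (H : Subgroup G) (W : Submodule (ZMod q) V)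
    (hW : ∀ h ∈ H, ∀ w ∈ W, ρ h w ∈ W) (h : H) (w : W) :
    ((resEquiv ρ H W hW h) w : V) = ρ (h : G) (w : V) := rfl

/-- A faithful group of linear automorphisms of a line. -/
theorem base_case [Finite V] [Nontrivial V] [Finite G] (hρ : Function.Injective ρ)
    (hV : Nat.card V = q) : (∀ a b : G, a * b = b * a) ∧ Nat.card G + 1 ≤ q := by
  obtain ⟨v, hv⟩ := exists_ne (0 : V)
  have hinjf : Function.Injective (fun c : ZMod q => c • v) := by
    intro c c' hcc
    have h1 : (c - c') • v = 0 := by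
      rw [sub_smul]
      exact sub_eq_zero.mpr hcc
    rcases smul_eq_zero.mp h1 with h | h
    · exact sub_eq_zero.mp h
    · exact absurd h hv
  have hbij : Function.Bijective (fun c : ZMod q => c • v) :=
    hinjf.bijective_of_nat_card_le (by rw [hV, Nat.card_zmod])
  have hspan : ∀ x : V, ∃ c : ZMod q, c • v = x := hbij.2
  have hdet : ∀ g g' : G, ρ g v = ρ g' v → g = g' := by
    intro g g' h
    apply hρ
    apply LinearEquiv.ext
    intro x
    obtain ⟨c, rfl⟩ := hspan x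
    rw [map_smul, map_smul, h]
  refine ⟨?_, ?_⟩
  · intro a b
    apply hdet
    obtain ⟨ca, hca⟩ := hspan (ρ a v)
    obtain ⟨cb, hcb⟩ := hspan (ρ b v)
    calc ρ (a * b) v = ρ a (ρ b v) := by rw [map_mul, LinearEquiv.mul_apply]
      _ = ρ a (cb • v) := by rw [hcb]
      _ = cb • ρ a v := by rw [map_smul]
      _ = cb • ca • v := by rw [hca]
      _ = ca • cb • v := smul_comm _ _ _
      _ = ca • ρ b v := by rw [hcb]
      _ = ρ b (ca • v) := by rw [map_smul]
      _ = ρ b (ρ a v) := by rw [hca]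
      _ = ρ (b * a) v := by rw [map_mul, LinearEquiv.mul_apply]
  · have hf : Function.Injective (fun o : Option G => o.elim (0 : V) (fun g => ρ g v)) := by
      intro o o' hoo
      cases o with
      | none =>
        cases o' with
        | none => rfl
        | some g' =>
          exfalso
          have h0 : ρ g' v = 0 := hoo.symm
          exact hv ((ρ g').map_eq_zero_iff.mp h0)
      | some g =>
        cases o' with
        | none =>
          exfalso
          have h0 : ρ g v = 0 := hoo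
          exact hv ((ρ g).map_eq_zero_iff.mp h0)
        | some g' =>
          have h0 : ρ g v = ρ g' v := hoo
          rw [hdet g g' h0]
    have := Nat.card_le_card_of_injective _ hf
    rw [Finite.card_option, hV] at this
    exact this

end lin

/-! ### The imprimitive step: linear algebra -/

section step

variable {q : ℕ} [hq : Fact q.Prime] {V : Type u} [AddCommGroup V] [Module (ZMod q) V] [Finite V]
  {G : Type u} [Group G] [Finite G] (ρ : G →* (V ≃ₗ[ZMod q] V))
  (H : Subgroup G) [hHn : H.Normal] (W0 W1 : Submodule (ZMod q) V)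
  (hW0 : ∀ h ∈ H, ∀ w ∈ W0, ρ h w ∈ W0) (t : G)

theorem card_V (h01 : W0.map ((ρ t : V ≃ₗ[ZMod q] V) : V →ₗ[ZMod q] V) = W1)
    (hdisj : Disjoint W0 W1) (hsup : W0 ⊔ W1 = ⊤) : Nat.card V = Nat.card W0 ^ 2 := by
  have hc : IsCompl W0 W1 := ⟨hdisj, codisjoint_iff.mpr hsup⟩
  have h1 : Nat.card (W0 × W1) = Nat.card V :=
    Nat.card_congr (Submodule.prodEquivOfIsCompl W0 W1 hc).toEquiv
  have h2 : Nat.card W1 = Nat.card W0 := by
    subst h01
    exact (Nat.card_congr ((ρ t).submoduleMap W0).toEquiv).symm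
  rw [← h1, Nat.card_prod, h2, sq]

theorem eq_one_of_fix (hρ : Function.Injective ρ)
    (h10 : W1.map ((ρ t : V ≃ₗ[ZMod q] V) : V →ₗ[ZMod q] V) = W0) (hsup : W0 ⊔ W1 = ⊤) (h : G)
    (h1 : ∀ w ∈ W0, ρ h w = w) (h2 : ∀ w ∈ W0, ρ (t * h * t⁻¹) w = w) : h = 1 := by
  have h3 : ∀ v ∈ W1, ρ h v = v := by
    intro v hv
    have hv0 : ρ t v ∈ W0 := by
      rw [← h10]
      exact Submodule.mem_map_of_mem hv
    have h4 := h2 _ hv0
    have e : ρ (t * h * t⁻¹) (ρ t v) = ρ t (ρ h v) := by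
      rw [← LinearEquiv.mul_apply, ← map_mul, ← LinearEquiv.mul_apply, ← map_mul]
      have : t * h * t⁻¹ * t = t * h := by group
      rw [this]
    rw [e] at h4
    exact (ρ t).injective h4
  apply hρ
  rw [map_one]
  apply LinearEquiv.ext
  intro v
  have hv : v ∈ W0 ⊔ W1 := by
    rw [hsup]
    exact Submodule.mem_top
  obtain ⟨a, ha, b, hb, rfl⟩ := Submodule.mem_sup.mp hv
  rw [map_add, h1 a ha, h3 b hb]
  rfl

theorem irr_res (hH2 : H.index = 2) (ht : t ∉ H)
    (h01 : W0.map ((ρ t : V ≃ₗ[ZMod q] V) : V →ₗ[ZMod q] V) = W1) (hdisj : Disjoint W0 W1)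
    (hirr : ∀ W : Submodule (ZMod q) V, (∀ g : G, ∀ w ∈ W, ρ g w ∈ W) → W = ⊥ ∨ W = ⊤)
    (U : Submodule (ZMod q) W0) (hU : ∀ h : H, ∀ u ∈ U, resEquiv ρ H W0 hW0 h u ∈ U) :
    U = ⊥ ∨ U = ⊤ := by
  set U' : Submodule (ZMod q) V := U.map W0.subtype with hU'
  have hU'mem : ∀ x : V, x ∈ U' ↔ ∃ hx : x ∈ W0, (⟨x, hx⟩ : W0) ∈ U := by
    intro x
    constructor
    · rintro ⟨u, hu, rfl⟩
      exact ⟨u.2, hu⟩
    · rintro ⟨hx, hu⟩
      exact ⟨⟨x, hx⟩, hu, rfl⟩
  have hU'H : ∀ h ∈ H, ∀ x ∈ U', ρ h x ∈ U' := by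
    intro h hh x hx
    obtain ⟨hx0, hxU⟩ := (hU'mem x).mp hx
    rw [hU'mem]
    refine ⟨hW0 h hh x hx0, ?_⟩
    have h5 := hU ⟨h, hh⟩ ⟨x, hx0⟩ hxU
    have h6 : resEquiv ρ H W0 hW0 ⟨h, hh⟩ ⟨x, hx0⟩ = ⟨ρ h x, hW0 h hh x hx0⟩ :=
      Subtype.ext (resEquiv_apply ρ H W0 hW0 ⟨h, hh⟩ ⟨x, hx0⟩)
    rw [h6] at h5
    exact h5
  set X : Submodule (ZMod q) V :=
    U' ⊔ U'.map ((ρ t : V ≃ₗ[ZMod q] V) : V →ₗ[ZMod q] V) with hX
  have hXinv : ∀ g : G, ∀ x ∈ X, ρ g x ∈ X := by
    intro g x hx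
    obtain ⟨a, ha, b, hb, rfl⟩ := Submodule.mem_sup.mp hx
    obtain ⟨b', hb', rfl⟩ := hb
    rw [map_add]
    by_cases hg : g ∈ H
    · apply Submodule.add_mem
      · exact Submodule.mem_sup_left (hU'H g hg a ha)
      · apply Submodule.mem_sup_right
        have hc : t⁻¹ * g * t ∈ H := by
          have := hHn.conj_mem g hg t⁻¹
          simpa using this
        have e : ρ g (ρ t b') = ρ t (ρ (t⁻¹ * g * t) b') := by
          rw [← LinearEquiv.mul_apply, ← map_mul, ← LinearEquiv.mul_apply, ← map_mul]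
          have : t * (t⁻¹ * g * t) = g * t := by group
          rw [this]
        show ρ g (ρ t b') ∈ _
        rw [e]
        exact Submodule.mem_map_of_mem (hU'H _ hc b' hb')
    · have hh : t⁻¹ * g ∈ H := by
        rw [Subgroup.mul_mem_iff_of_index_two hH2]
        constructor
        · intro h1
          exact absurd (by simpa using H.inv_mem h1) ht
        · intro h1
          exact absurd h1 hg
      have hgt : g * t ∈ H := by
        rw [Subgroup.mul_mem_iff_of_index_two hH2]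
        exact ⟨fun h1 => absurd h1 hg, fun h1 => absurd h1 ht⟩
      rw [add_comm]
      apply Submodule.add_mem
      · apply Submodule.mem_sup_left
        have e : ρ g (ρ t b') = ρ (g * t) b' := by
          rw [← LinearEquiv.mul_apply, ← map_mul]
        show ρ g (ρ t b') ∈ _
        rw [e]
        exact hU'H _ hgt b' hb'
      · apply Submodule.mem_sup_right
        have e : ρ g a = ρ t (ρ (t⁻¹ * g) a) := by
          rw [← LinearEquiv.mul_apply, ← map_mul]
          have : t * (t⁻¹ * g) = g := by group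
          rw [this]
        rw [e]
        exact Submodule.mem_map_of_mem (hU'H _ hh a ha)
  rcases hirr X hXinv with hbot | htop
  · left
    rw [eq_bot_iff]
    intro u hu
    have h1 : (u : V) ∈ X := Submodule.mem_sup_left ((hU'mem _).mpr ⟨u.2, hu⟩)
    rw [hbot, Submodule.mem_bot] at h1
    rw [Submodule.mem_bot]
    exact Subtype.ext h1
  · right
    rw [eq_top_iff]
    intro w _
    have h1 : (w : V) ∈ X := by
      rw [htop]
      exact Submodule.mem_top
    obtain ⟨a, ha, b, hb, hab⟩ := Submodule.mem_sup.mp h1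
    obtain ⟨b', hb', rfl⟩ := hb
    have hab' : a + ρ t b' = (w : V) := hab
    obtain ⟨ha0, haU⟩ := (hU'mem a).mp ha
    obtain ⟨hb0, _⟩ := (hU'mem b').mp hb'
    have hb1 : ρ t b' ∈ W1 := by
      rw [← h01]
      exact Submodule.mem_map_of_mem hb0
    have hb0' : ρ t b' ∈ W0 := by
      have e : ρ t b' = (w : V) - a := by
        rw [← hab']
        abel
      rw [e]
      exact W0.sub_mem w.2 ha0
    have hz : ρ t b' = 0 := Submodule.disjoint_def.mp hdisj _ hb0' hb1
    have hwa : (w : V) = a := by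
      rw [← hab', hz, add_zero]
    have hw : w = ⟨a, ha0⟩ := Subtype.ext hwa
    rw [hw]
    exact haU

end step

/-! ### Arithmetic -/

theorem arith_idx (k : ℕ) (hk : 1 ≤ k) (i : ℕ) (hi : i ≤ 2 ^ (k - 1)) :
    2 * i ^ 2 ≤ 2 ^ (2 * k - 1) := by
  obtain ⟨j, rfl⟩ : ∃ j, k = j + 1 := ⟨k - 1, by omega⟩
  have h1 : j + 1 - 1 = j := by omega
  have h2 : 2 * (j + 1) - 1 = 2 * j + 1 := by omega
  rw [h1] at hi
  rw [h2]
  calc 2 * i ^ 2 ≤ 2 * (2 ^ j) ^ 2 := Nat.mul_le_mul_left 2 (Nat.pow_le_pow_left hi 2)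
    _ = 2 ^ (2 * j + 1) := by ring

theorem arithA (m q c : ℕ) (hm : 1 ≤ m) (hq : 3 ≤ q) (hc : q ^ (2 * m) ≤ c) :
    2 ^ (m - 1) * 2 ^ (2 * m) ≤ c - 1 := by
  obtain ⟨j, rfl⟩ : ∃ j, m = j + 1 := ⟨m - 1, by omega⟩
  have h1 : j + 1 - 1 = j := by omega
  rw [h1]
  have h2 : 2 * (2 ^ j * 2 ^ (2 * (j + 1))) = 8 ^ (j + 1) := by
    have h8 : (8 : ℕ) = 2 ^ 3 := by norm_num
    rw [h8, ← pow_mul]
    ring
  have h3 : (8 : ℕ) ^ (j + 1) ≤ 9 ^ (j + 1) := Nat.pow_le_pow_left (by norm_num) _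
  have h4 : (9 : ℕ) ^ (j + 1) ≤ q ^ (2 * (j + 1)) := by
    rw [pow_mul]
    apply Nat.pow_le_pow_left
    nlinarith
  have h5 : 1 ≤ 2 ^ j * 2 ^ (2 * (j + 1)) := Nat.one_le_iff_ne_zero.mpr (by positivity)
  apply Nat.le_sub_one_of_lt
  omega

theorem arithB (n q : ℕ) (hn : 1 ≤ n) (hq : 3 ≤ q) :
    2 ^ (2 * n - 1) * (q - 1) ^ n < q ^ (2 * n) := by
  obtain ⟨j, rfl⟩ : ∃ j, n = j + 1 := ⟨n - 1, by omega⟩
  obtain ⟨a, rfl⟩ : ∃ a, q = a + 1 := ⟨q - 1, by omega⟩
  have h1 : 2 * (j + 1) - 1 = 2 * j + 1 := by omega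
  have h1' : a + 1 - 1 = a := by omega
  rw [h1, h1']
  have h2 : 2 * (2 ^ (2 * j + 1) * a ^ (j + 1)) = (4 * a) ^ (j + 1) := by
    have h4 : (4 : ℕ) = 2 ^ 2 := by norm_num
    rw [mul_pow, h4, ← pow_mul]
    ring
  have h3 : (4 * a) ^ (j + 1) ≤ ((a + 1) ^ 2) ^ (j + 1) := by
    apply Nat.pow_le_pow_left
    nlinarith [sq_nonneg (a - 1 : ℤ), Nat.zero_le (a * a)]
  have h4 : ((a + 1) ^ 2) ^ (j + 1) = (a + 1) ^ (2 * (j + 1)) := by
    rw [← pow_mul]
  have h5 : 1 ≤ 2 ^ (2 * j + 1) * a ^ (j + 1) := by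
    have ha : 0 < a := by omega
    exact Nat.one_le_iff_ne_zero.mpr (by positivity)
  omega

/-! ### The main induction -/

/-- The structural data carried through the induction. -/
def Dat (q : ℕ) (G : Type*) [Group G] (c : ℕ) : Prop :=
  (∃ m : ℕ, 1 ≤ m ∧ ∃ B : Subgroup G, B.Normal ∧ q ^ (2 * m) ≤ c ∧ B.index ≤ 2 ^ (m - 1) ∧
      rk 2 B (2 * m)) ∨
  (∃ n : ℕ, 1 ≤ n ∧ ∃ B : Subgroup G, B.Normal ∧ c = q ^ n ∧
      (∀ a ∈ B, ∀ b ∈ B, a * b = b * a) ∧ B.index ≤ 2 ^ (n - 1) ∧ Nat.card B ≤ (q - 1) ^ n)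

theorem perm_fin_two (σ : Equiv.Perm (Fin 2)) (h : σ ≠ 1) : σ 0 = 1 ∧ σ 1 = 0 := by
  revert σ
  decide

theorem main (q : ℕ) [hq : Fact q.Prime] (hq2 : q ≠ 2) : ∀ n : ℕ,
    ∀ (V : Type u) [AddCommGroup V] [Module (ZMod q) V] [Finite V] [Nontrivial V]
      (G : Type u) [Group G] [Finite G], IsPGroup 2 G → ∀ ρ : G →* (V ≃ₗ[ZMod q] V),
      Function.Injective ρ →
      (∀ W : Submodule (ZMod q) V, (∀ g : G, ∀ w ∈ W, ρ g w ∈ W) → W = ⊥ ∨ W = ⊤) →
      Nat.card V = n → Dat q G n ∧ fi G ≤ n - 1 := by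
  intro n
  induction n using Nat.strong_induction_on with
  | _ n IH =>
  intro V _ _ _ _ G _ _ hG ρ hρ hirr hcard
  haveI : Fact (Nat.Prime 2) := ⟨Nat.prime_two⟩
  have hq3 : 3 ≤ q := by
    have := hq.out.two_le
    omega
  by_cases hbase : Nat.card V = q
  · obtain ⟨hcomm, hle⟩ := base_case ρ hρ hbase
    have hn : n = q := hcard.symm.trans hbase
    rw [hn]
    refine ⟨Or.inr ⟨1, le_refl 1, ⊤, inferInstance, (pow_one q).symm,
      fun a _ b _ => hcomm a b, ?_, ?_⟩, ?_⟩
    · rw [Subgroup.index_top]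
      simp
    · rw [Subgroup.card_top, pow_one]
      omega
    · exact (fi_le_card).trans (by omega)
  by_cases hprim : ∃ x : G, Nat.card G ≤ 2 * orderOf x
  · obtain ⟨x, hx⟩ := hprim
    have hrk : rk 2 G 2 := rk_two_of_orderOf hG x hx
    have hq2le : q ^ 2 ≤ n := by
      haveI : Module.Finite (ZMod q) V := Module.Finite.of_finite
      have h1 : Nat.card V = Nat.card (ZMod q) ^ Module.finrank (ZMod q) V :=
        Module.natCard_eq_pow_finrank
      rw [Nat.card_zmod] at h1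
      have h2 : 1 < Nat.card V := Finite.one_lt_card
      have hd : 2 ≤ Module.finrank (ZMod q) V := by
        rcases Nat.lt_or_ge (Module.finrank (ZMod q) V) 2 with hlt | hge
        · exfalso
          have h01 : Module.finrank (ZMod q) V = 0 ∨ Module.finrank (ZMod q) V = 1 := by omega
          rcases h01 with h0 | h1'
          · rw [h0, pow_zero] at h1
            omega
          · rw [h1', pow_one] at h1
            exact hbase h1
        · exact hge
      rw [← hcard, h1]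
      exact Nat.pow_le_pow_right hq.out.pos hd
    have h9 : 9 ≤ q ^ 2 := by nlinarith
    refine ⟨Or.inl ⟨1, le_refl 1, ⊤, inferInstance, by rw [mul_one]; exact hq2le,
      by rw [Subgroup.index_top]; simp, rk_subgroup hrk ⊤⟩, ?_⟩
    have h4 := fi_le_of_rk hrk
    norm_num at h4
    omega
  · push Not at hprim
    have hnc : ¬ IsCyclic G := fun h => by
      obtain ⟨x, hx⟩ := @exists_orderOf_of_cyclic G _ _ h
      exact absurd hx (not_le.mpr (hprim x))
    have hnq : ∀ k : ℕ, ¬ Nonempty (G ≃* QuaternionGroup k) := fun k ⟨e⟩ => by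
      obtain ⟨x, hx⟩ := exists_orderOf_of_quaternion e
      exact absurd hx (not_le.mpr (hprim x))
    have hnd : ∀ k : ℕ, ¬ Nonempty (G ≃* DihedralGroup k) := fun k ⟨e⟩ => by
      obtain ⟨x, hx⟩ := exists_orderOf_of_dihedral e
      exact absurd hx (not_le.mpr (hprim x))
    have hnsd : ¬ Cfsg.IsQuasiDihedral G := fun h => by
      obtain ⟨x, hx⟩ := exists_orderOf_of_quasiDihedral h
      exact absurd hx (not_le.mpr (hprim x))
    obtain ⟨H, W, hH2, hsup, hind, hHW, _, hswap⟩ :=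
      Cfsg.Agent.S3380.result q 2 hG ρ hρ hirr hnc hnq hnd hnsd
    obtain ⟨t, ht⟩ : ∃ t, t ∉ H := by
      by_contra hcon
      push Not at hcon
      have : H = ⊤ := (Subgroup.eq_top_iff' H).mpr hcon
      rw [this, Subgroup.index_top] at hH2
      omega
    obtain ⟨σ, hσ2, hσ⟩ := hswap t ht
    have hσ1 : σ ≠ 1 := by
      intro h1
      rw [h1, orderOf_one] at hσ2
      omega
    obtain ⟨hσ0, hσ1'⟩ := perm_fin_two σ hσ1
    have h01 : (W 0).map ((ρ t : V ≃ₗ[ZMod q] V) : V →ₗ[ZMod q] V) = W 1 := by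
      have := hσ 0
      rwa [hσ0] at this
    have h10 : (W 1).map ((ρ t : V ≃ₗ[ZMod q] V) : V →ₗ[ZMod q] V) = W 0 := by
      have := hσ 1
      rwa [hσ1'] at this
    have hne01 : (0 : Fin 2) ≠ 1 := Fin.zero_ne_one
    have hdisj : Disjoint (W 0) (W 1) := hind.pairwiseDisjoint hne01
    have hsup' : W 0 ⊔ W 1 = ⊤ := by
      rw [eq_top_iff, ← hsup]
      apply iSup_le
      intro i
      fin_cases i
      · exact le_sup_left
      · exact le_sup_right
    have hW0 : ∀ h ∈ H, ∀ w ∈ W 0, ρ h w ∈ W 0 := fun h hh w hw => hHW h hh 0 w hw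
    haveI hWnt : Nontrivial (W 0) := by
      rw [Submodule.nontrivial_iff_ne_bot]
      intro hb
      have h1 : W 1 = ⊥ := by
        rw [← h01, hb, Submodule.map_bot]
      rw [hb, h1, bot_sup_eq] at hsup'
      exact bot_ne_top hsup'
    haveI hHn : H.Normal := Subgroup.normal_of_index_eq_two hH2
    have hcardV : Nat.card V = Nat.card (W 0) ^ 2 := card_V ρ (W 0) (W 1) t h01 hdisj hsup'
    have hc1 : 1 < Nat.card (W 0) := Finite.one_lt_card
    have hlt : Nat.card (W 0) < n := by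
      rw [← hcard, hcardV]
      nlinarith
    set r := resEquiv ρ H (W 0) hW0 with hr
    set α : H →* r.range := r.rangeRestrict with hα
    have hαs : Function.Surjective α := r.rangeRestrict_surjective
    haveI : Finite r.range := Finite.of_surjective α hαs
    have hG₀ : IsPGroup 2 r.range := IsPGroup.of_surjective (hG.to_subgroup H) α hαs
    have irr₀ : ∀ U : Submodule (ZMod q) (W 0),
        (∀ g : r.range, ∀ u ∈ U, r.range.subtype g u ∈ U) → U = ⊥ ∨ U = ⊤ := fun U hU =>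
      irr_res ρ H (W 0) (W 1) hW0 t hH2 ht h01 hdisj hirr U (fun h u hu => hU (α h) u hu)
    obtain ⟨hD₀, hfi₀⟩ := IH (Nat.card (W 0)) hlt (W 0) r.range hG₀ r.range.subtype
      r.range.subtype_injective irr₀ rfl
    have hinj' : ∀ h : H, α h = 1 → twist H t α h = 1 → h = 1 := by
      intro h h1 h2
      have e1 : ∀ w ∈ W 0, ρ (h : G) w = w := by
        intro w hw
        have := congrArg (fun z : r.range => ((z : (W 0) ≃ₗ[ZMod q] (W 0)) ⟨w, hw⟩ : V)) h1
        exact this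
      have e2 : ∀ w ∈ W 0, ρ (t * (h : G) * t⁻¹) w = w := by
        intro w hw
        rw [twist_apply] at h2
        have := congrArg (fun z : r.range => ((z : (W 0) ≃ₗ[ZMod q] (W 0)) ⟨w, hw⟩ : V)) h2
        exact this
      exact Subtype.ext (eq_one_of_fix ρ (W 0) (W 1) t hρ h10 hsup' (h : G) e1 e2)
    rcases hD₀ with ⟨m₀, hm₀, B₀, hB₀n, hqm, hidx, hrk⟩ |
      ⟨n₀, hn₀, B₀, hB₀n, hcn, hcomm, hidx, hcardB⟩
    · haveI := hB₀n
      have hBn : (pull H t α B₀).Normal := pull_normal H t α hH2 ht B₀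
      have hBidx : (pull H t α B₀).index ≤ 2 ^ (2 * m₀ - 1) :=
        (index_pull_le H t α hH2 B₀).trans (arith_idx m₀ hm₀ _ hidx)
      have hBrk : rk 2 (pull H t α B₀) (2 * (2 * m₀)) := by
        have h5 := rk_pull H t α hinj' hG B₀ hrk
        have e : 2 * m₀ + 2 * m₀ = 2 * (2 * m₀) := by ring
        rw [e] at h5
        exact h5
      have hqc : q ^ (2 * (2 * m₀)) ≤ n := by
        rw [← hcard, hcardV]
        calc q ^ (2 * (2 * m₀)) = (q ^ (2 * m₀)) ^ 2 := by ring
          _ ≤ Nat.card (W 0) ^ 2 := Nat.pow_le_pow_left hqm 2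
      refine ⟨Or.inl ⟨2 * m₀, by omega, pull H t α B₀, hBn, hqc, hBidx, hBrk⟩, ?_⟩
      have h1 := fi_le_index_mul_fi hG (pull H t α B₀)
      have h2 := fi_le_of_rk hBrk
      calc fi G ≤ (pull H t α B₀).index * fi (pull H t α B₀) := h1
        _ ≤ 2 ^ (2 * m₀ - 1) * 2 ^ (2 * (2 * m₀)) := Nat.mul_le_mul hBidx h2
        _ ≤ n - 1 := arithA (2 * m₀) q n (by omega) hq3 hqc
    · haveI := hB₀n
      have hBn : (pull H t α B₀).Normal := pull_normal H t α hH2 ht B₀
      have hBidx : (pull H t α B₀).index ≤ 2 ^ (2 * n₀ - 1) :=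
        (index_pull_le H t α hH2 B₀).trans (arith_idx n₀ hn₀ _ hidx)
      have hBcomm := comm_pull H t α hinj' B₀ hcomm
      have hBcard : Nat.card (pull H t α B₀) ≤ (q - 1) ^ (2 * n₀) := by
        calc Nat.card (pull H t α B₀) ≤ Nat.card B₀ ^ 2 := card_pull_le H t α hinj' B₀
          _ ≤ ((q - 1) ^ n₀) ^ 2 := Nat.pow_le_pow_left hcardB 2
          _ = (q - 1) ^ (2 * n₀) := by rw [← pow_mul, mul_comm]
      have hnc' : n = q ^ (2 * n₀) := by
        rw [← hcard, hcardV, hcn, ← pow_mul, mul_comm]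
      refine ⟨Or.inr ⟨2 * n₀, by omega, pull H t α B₀, hBn, hnc', hBcomm, hBidx, hBcard⟩, ?_⟩
      haveI := hBn
      have h1 := fi_le_index_mul_relIndex (pull H t α B₀)
      have h2 := relIndex_frattini_le_card_centralizer hG (pull H t α B₀) hBcomm t
      have h3 := card_centralizer_pull_le H t α hinj' B₀
      calc fi G ≤ (pull H t α B₀).index * (frattini G).relIndex (pull H t α B₀) := h1
        _ ≤ 2 ^ (2 * n₀ - 1) * (q - 1) ^ n₀ :=
          Nat.mul_le_mul hBidx (h2.trans (h3.trans hcardB))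
        _ ≤ n - 1 := by
          rw [hnc']
          exact Nat.le_sub_one_of_lt (arithB n₀ q hn₀ hq3)

/-- A `2`-group acting faithfully and irreducibly on a finite vector space `V` over an odd prime
field has Frattini index at most `|V| - 1`. -/
theorem fi_le_of_faithful_irreducible (q : ℕ) [Fact q.Prime] (hq2 : q ≠ 2) {V : Type u}
    [AddCommGroup V] [Module (ZMod q) V] [Finite V] [Nontrivial V] {G : Type u} [Group G]
    [Finite G] (hG : IsPGroup 2 G) (ρ : G →* (V ≃ₗ[ZMod q] V)) (hρ : Function.Injective ρ)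
    (hirr : ∀ W : Submodule (ZMod q) V, (∀ g : G, ∀ w ∈ W, ρ g w ∈ W) → W = ⊥ ∨ W = ⊤) :
    fi G ≤ Nat.card V - 1 :=
  (main q hq2 (Nat.card V) V G hG ρ hρ hirr rfl).2

end Cfsg.Agent.H1.FR
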