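import Mathlib
import Cfsg.Agent.H1.FratRankC
import Cfsg.Agent.Lib.Helper7.ElemAbGL

set_option autoImplicit false
set_option linter.style.haveILetI false
set_option linter.unusedSectionVars false
set_option linter.unusedVariables false

/-!
# The Frattini index of a `2`-group acting faithfully and irreducibly on an abelian group of odd
order, and the semidirect-product form
-/

namespace Cfsg.Agent.H1.FR

universe u

theorem fi_le_of_mulAut_module {A : Type u} [CommGroup A] [Finite A] [Nontrivial A] {P : Type u}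
    [Group P] [Finite P] (q : ℕ) [Fact q.Prime] (hq2 : q ≠ 2) [Module (ZMod q) (Additive A)]
    (hP : IsPGroup 2 P) (φ : P →* MulAut A) (hφ : Function.Injective φ)
    (hirr : ∀ K : Subgroup A, (∀ g : P, ∀ a ∈ K, φ g a ∈ K) → K = ⊥ ∨ K = ⊤) :
    fi P ≤ Nat.card A - 1 := by
  haveI : Finite (Additive A) := inferInstanceAs (Finite A)
  haveI : Nontrivial (Additive A) := inferInstanceAs (Nontrivial A)
  have hρ : Function.Injective
      ((Cfsg.Agent.Lib.Helper7.mulAutEquivLinear (V := A) q).toMonoidHom.comp φ) :=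
    (Cfsg.Agent.Lib.Helper7.mulAutEquivLinear (V := A) q).injective.comp hφ
  have hirr' : ∀ W : Submodule (ZMod q) (Additive A),
      (∀ g : P, ∀ w ∈ W,
        ((Cfsg.Agent.Lib.Helper7.mulAutEquivLinear (V := A) q).toMonoidHom.comp φ) g w ∈ W) →
      W = ⊥ ∨ W = ⊤ := by
    intro W hW
    let K : Subgroup A :=
      { carrier := {a | Additive.ofMul a ∈ W}
        one_mem' := W.zero_mem
        mul_mem' := fun {a b} ha hb => W.add_mem ha hb
        inv_mem' := fun {a} ha => W.neg_mem ha }
    have hKmem : ∀ a : A, a ∈ K ↔ Additive.ofMul a ∈ W := fun a => Iff.rfl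
    rcases hirr K (fun g a ha => hW g _ ha) with h | h
    · left
      rw [eq_bot_iff]
      intro w hw
      have h1 : w.toMul ∈ K := hw
      rw [h, Subgroup.mem_bot] at h1
      rw [Submodule.mem_bot]
      exact congrArg Additive.ofMul h1
    · right
      rw [eq_top_iff]
      intro w _
      have h1 : w.toMul ∈ K := by
        rw [h]
        exact Subgroup.mem_top _
      exact h1
  have hfin := fi_le_of_faithful_irreducible (V := Additive A) q hq2 hP _ hρ hirr'
  exact hfin

theorem fi_le_of_mulAut {A : Type u} [CommGroup A] [Finite A] [Nontrivial A] {P : Type u}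
    [Group P] [Finite P] (q : ℕ) [Fact q.Prime] (hq2 : q ≠ 2) (hA : ∀ a : A, a ^ q = 1)
    (hP : IsPGroup 2 P) (φ : P →* MulAut A) (hφ : Function.Injective φ)
    (hirr : ∀ K : Subgroup A, (∀ g : P, ∀ a ∈ K, φ g a ∈ K) → K = ⊥ ∨ K = ⊤) :
    fi P ≤ Nat.card A - 1 := by
  have hA' : ∀ x : Additive A, q • x = 0 := fun x => hA (Additive.toMul x)
  exact @fi_le_of_mulAut_module A _ _ _ P _ _ q _ hq2 (AddCommGroup.zmodModule hA') hP φ hφ hirr

section semidirect

variable {G : Type*} [Group G] (N P : Subgroup G) [hN : N.Normal]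

theorem exists_mul_of_sup_eq_top (hprod : N ⊔ P = ⊤) (g : G) :
    ∃ n ∈ N, ∃ p ∈ P, n * p = g := by
  have h : g ∈ (↑(N ⊔ P) : Set G) := by
    rw [hprod]
    exact Set.mem_univ g
  rw [Subgroup.normal_mul] at h
  exact Set.mem_mul.mp h

theorem normal_of_conj (hprod : N ⊔ P = ⊤) (K : Subgroup G)
    (hKP : ∀ x ∈ K, ∀ p ∈ P, p * x * p⁻¹ ∈ K) (hKN : ∀ x ∈ K, ∀ n ∈ N, n * x * n⁻¹ = x) :
    K.Normal := by
  constructor
  intro x hx g
  obtain ⟨n, hn, p, hp, rfl⟩ := exists_mul_of_sup_eq_top N P hprod g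
  have h1 := hKP x hx p hp
  have h2 := hKN _ h1 n hn
  have e : n * p * x * (n * p)⁻¹ = n * (p * x * p⁻¹) * n⁻¹ := by group
  rw [e, h2]
  exact h1

end semidirect

/-- `S4188` with unbundled hypotheses. -/
theorem s4188 {G : Type u} [Group G] [Finite G] (N P : Subgroup G) [hN : N.Normal]
    (hNab : ∀ x ∈ N, ∀ y ∈ N, x * y = y * x) (hNodd : Odd (Nat.card N)) (hP : IsPGroup 2 P)
    (hdisj : N ⊓ P = ⊥) (hprod : N ⊔ P = ⊤) (hNb : N ≠ ⊥)
    (hmin : ∀ M : Subgroup G, M.Normal → M ≠ ⊥ → N ≤ M) : fi P ≤ Nat.card N - 1 := by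
  have hcard1 : Nat.card N ≠ 1 := fun h => hNb (Subgroup.card_eq_one.mp h)
  set q := (Nat.card N).minFac with hqdef
  have hqp : q.Prime := Nat.minFac_prime hcard1
  haveI : Fact q.Prime := ⟨hqp⟩
  have hqdvd : q ∣ Nat.card N := Nat.minFac_dvd _
  have hq2 : q ≠ 2 := by
    intro h2
    rw [h2] at hqdvd
    exact (Nat.not_even_iff_odd.mpr hNodd) (even_iff_two_dvd.mpr hqdvd)
  have hexp : ∀ x ∈ N, x ^ q = 1 := by
    let K : Subgroup G :=
      { carrier := {x | x ∈ N ∧ x ^ q = 1}
        one_mem' := ⟨N.one_mem, one_pow _⟩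
        mul_mem' := by
          rintro a b ⟨ha, ha'⟩ ⟨hb, hb'⟩
          refine ⟨N.mul_mem ha hb, ?_⟩
          have hc : Commute a b := hNab a ha b hb
          rw [hc.mul_pow, ha', hb', one_mul]
        inv_mem' := by
          rintro a ⟨ha, ha'⟩
          exact ⟨N.inv_mem ha, by rw [inv_pow, ha', inv_one]⟩ }
    have hKn : K.Normal := ⟨by
      rintro x ⟨hx, hx'⟩ g
      exact ⟨hN.conj_mem x hx g, by rw [conj_pow, hx', mul_one, mul_inv_cancel]⟩⟩
    have hKb : K ≠ ⊥ := by
      obtain ⟨x, hx⟩ := exists_prime_orderOf_dvd_card' q hqdvd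
      intro hb
      have hxq : x ^ q = 1 := by
        rw [← hx]
        exact pow_orderOf_eq_one x
      have hxq' : (x : G) ^ q = 1 := by
        have := congrArg Subtype.val hxq
        simpa using this
      have hxK : (x : G) ∈ K := ⟨x.2, hxq'⟩
      rw [hb, Subgroup.mem_bot] at hxK
      have hx1 : x = 1 := Subtype.ext hxK
      rw [hx1, orderOf_one] at hx
      exact hqp.one_lt.ne hx
    intro x hx
    exact (hmin K hKn hKb hx).2
  letI : CommGroup N :=
    { (inferInstance : Group N) with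
      mul_comm := fun a b => Subtype.ext (hNab a a.2 b b.2) }
  haveI : Nontrivial N := (Subgroup.nontrivial_iff_ne_bot N).mpr hNb
  let φ : P →* MulAut N := (MulAut.conjNormal (H := N)).comp P.subtype
  have hφapp : ∀ (g : P) (a : N), ((φ g a : N) : G) = (g : G) * (a : G) * (g : G)⁻¹ :=
    fun g a => rfl
  have hφ : Function.Injective φ := by
    rw [injective_iff_map_eq_one]
    intro g hg
    let C : Subgroup G := P ⊓ Subgroup.centralizer (N : Set G)
    have hCn : C.Normal := by
      apply normal_of_conj N P hprod C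
      · intro x hx p hp
        have hx' := Subgroup.mem_inf.mp hx
        refine Subgroup.mem_inf.mpr ⟨P.mul_mem (P.mul_mem hp hx'.1) (P.inv_mem hp), ?_⟩
        rw [Subgroup.mem_centralizer_iff]
        intro n hn
        have h1 : p⁻¹ * n * p ∈ N := by simpa using hN.conj_mem n hn p⁻¹
        have h2 := (Subgroup.mem_centralizer_iff.mp hx'.2) _ h1
        calc n * (p * x * p⁻¹) = p * ((p⁻¹ * n * p) * x) * p⁻¹ := by group
          _ = p * (x * (p⁻¹ * n * p)) * p⁻¹ := by rw [h2]
          _ = p * x * p⁻¹ * n := by group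
      · intro x hx n hn
        have hx' := Subgroup.mem_inf.mp hx
        have h2 := (Subgroup.mem_centralizer_iff.mp hx'.2) n hn
        rw [h2]
        group
    have hCb : C = ⊥ := by
      by_contra hne
      have h1 := hmin C hCn hne
      have h2 : N ≤ N ⊓ P := le_inf le_rfl (h1.trans inf_le_left)
      rw [hdisj] at h2
      exact hNb (eq_bot_iff.mpr h2)
    have hgC : (g : G) ∈ C := by
      refine Subgroup.mem_inf.mpr ⟨g.2, ?_⟩
      rw [Subgroup.mem_centralizer_iff]
      intro n hn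
      have h1 : φ g ⟨n, hn⟩ = ⟨n, hn⟩ := by
        rw [hg]
        rfl
      have h3 : (g : G) * n * (g : G)⁻¹ = n := congrArg Subtype.val h1
      calc n * (g : G) = ((g : G) * n * (g : G)⁻¹) * g := by rw [h3]
        _ = g * n := by group
    rw [hCb, Subgroup.mem_bot] at hgC
    exact Subtype.ext hgC
  have hirr : ∀ K : Subgroup N, (∀ g : P, ∀ a ∈ K, φ g a ∈ K) → K = ⊥ ∨ K = ⊤ := by
    intro K hK
    let K' : Subgroup G := K.map N.subtype
    have hK'N : K' ≤ N := Subgroup.map_subtype_le K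
    have hK'n : K'.Normal := by
      apply normal_of_conj N P hprod K'
      · rintro x ⟨a, ha, rfl⟩ p hp
        exact ⟨φ ⟨p, hp⟩ a, hK ⟨p, hp⟩ a ha, rfl⟩
      · intro x hx n hn
        have h5 := hNab n hn x (hK'N hx)
        rw [h5]
        group
    by_cases hb : K' = ⊥
    · left
      rw [eq_bot_iff]
      intro a ha
      have h1 : (a : G) ∈ K' := ⟨a, ha, rfl⟩
      rw [hb, Subgroup.mem_bot] at h1
      rw [Subgroup.mem_bot]
      exact Subtype.ext h1
    · right
      have h1 := hmin K' hK'n hb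
      rw [eq_top_iff]
      intro a _
      obtain ⟨b, hb', hba⟩ := h1 a.2
      have hba' : b = a := Subtype.ext hba
      rw [← hba']
      exact hb'
  exact fi_le_of_mulAut q hq2 (fun a => Subtype.ext (hexp a a.2)) hP φ hφ hirr

end Cfsg.Agent.H1.FR
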