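import Mathlib
import Cfsg.Agent.H1.FrobeniusCount
import Cfsg.Agent.H1.SZConj

set_option autoImplicit false
open scoped Pointwise commutatorElement

namespace Cfsg.Agent.H1

universe u

/-- a nonidentity element lies in at most one conjugate of a Frobenius complement -/
lemma conj_smul_eq_of_mem_of_frobenius {G : Type*} [Group G] (H : Subgroup G) (hH : Cfsg.IsFrobeniusComplement H)
    (a x y : G) (ha : a ≠ 1) (hx : a ∈ MulAut.conj x • H) (hy : a ∈ MulAut.conj y • H) :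
    MulAut.conj x • H = MulAut.conj y • H := by
  rw [mem_conj_smul] at hx hy
  have hz : x⁻¹ * y ∈ H := by
    by_contra hz
    have h1 := hH.2.2 _ hz
    have h2 : x⁻¹ * a * x ∈ H ⊓ MulAut.conj (x⁻¹ * y) • H := by
      refine Subgroup.mem_inf.mpr ⟨hx, ?_⟩
      rw [mem_conj_smul]
      have e : (x⁻¹ * y)⁻¹ * (x⁻¹ * a * x) * (x⁻¹ * y) = y⁻¹ * a * y := by group
      rw [e]; exact hy
    rw [h1, Subgroup.mem_bot] at h2
    apply ha
    calc a = x * (x⁻¹ * a * x) * x⁻¹ := by group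
      _ = 1 := by rw [h2]; group
  ext w
  rw [mem_conj_smul, mem_conj_smul]
  have e : y⁻¹ * w * y = (x⁻¹ * y)⁻¹ * (x⁻¹ * w * x) * (x⁻¹ * y) := by group
  rw [e]
  constructor
  · intro h; exact mul_mem (mul_mem (inv_mem hz) h) hz
  · intro h
    have := mul_mem (mul_mem hz h) (inv_mem hz)
    have e2 : x⁻¹ * y * ((x⁻¹ * y)⁻¹ * (x⁻¹ * w * x) * (x⁻¹ * y)) * (x⁻¹ * y)⁻¹ = x⁻¹ * w * x := by group
    rwa [e2] at this

/-- every nonidentity element of a subgroup whose order divides `|H|` lies in a conjugate of the Frobenius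
complement `H` -/
theorem exists_conj_of_card_dvd {G : Type*} [Group G] [Finite G] (H : Subgroup G) (hH : Cfsg.IsFrobeniusComplement H)
    (L : Subgroup G) (hL : Nat.card L ∣ Nat.card H) (l : G) (hl : l ∈ L) (hl1 : l ≠ 1) :
    ∃ g : G, l ∈ MulAut.conj g • H := by
  classical
  have : Fintype G := Fintype.ofFinite G
  have : Fintype L := Fintype.ofFinite L
  have : Fintype (G ⧸ H) := Fintype.ofFinite _
  have : Fintype (Quotient (MulAction.orbitRel L (G ⧸ H))) := Fintype.ofFinite _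
  by_contra hcon
  push Not at hcon
  have hB := MulAction.sum_card_fixedBy_eq_card_orbits_mul_card_group L (G ⧸ H)
  have hmod : H.index % Nat.card L = 1 % Nat.card L := by
    have h1 := index_mod_card_of_frobenius H hH
    exact Nat.ModEq.of_dvd hL h1  -- hmm
  have hone : Fintype.card (MulAction.fixedBy (G ⧸ H) (1 : L)) = H.index := by
    have : Fintype.card (MulAction.fixedBy (G ⧸ H) (1 : L)) = Fintype.card (G ⧸ H) := by
      apply Fintype.card_of_subtype
      simp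
    rw [this, ← Nat.card_eq_fintype_card, ← Subgroup.index_eq_card]
  have hle1 : ∀ a : L, a ≠ 1 → Fintype.card (MulAction.fixedBy (G ⧸ H) a) ≤ 1 := by
    intro a ha
    rw [Fintype.card_le_one_iff]
    rintro ⟨c, hc⟩ ⟨d, hd⟩
    apply Subtype.ext
    have ha' : (a : G) ≠ 1 := fun h => ha (Subtype.ext h)
    exact Cfsg.Agent.S4253.result H hH (a : G) ha' c d hc hd
  have hzero : Fintype.card (MulAction.fixedBy (G ⧸ H) (⟨l, hl⟩ : L)) = 0 := by
    rw [Fintype.card_eq_zero_iff]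
    constructor
    rintro ⟨c, hc⟩
    obtain ⟨g, rfl⟩ := QuotientGroup.mk_surjective c
    apply hcon g
    rw [mem_conj_smul]
    rw [MulAction.mem_fixedBy] at hc
    have hc' : ((l * g : G) : G ⧸ H) = ((g : G) : G ⧸ H) := hc
    rw [QuotientGroup.eq] at hc'
    have := inv_mem hc'
    have e : ((l * g)⁻¹ * g)⁻¹ = g⁻¹ * l * g := by group
    rwa [e] at this
  -- split the sum
  have hl' : (⟨l, hl⟩ : L) ≠ 1 := fun h => hl1 (congrArg Subtype.val h)
  have hsum : ∑ a : L, Fintype.card (MulAction.fixedBy (G ⧸ H) a) ≤ H.index + (Fintype.card L - 2) := by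
    rw [← Finset.add_sum_erase Finset.univ _ (Finset.mem_univ (1 : L)), hone]
    apply Nat.add_le_add_left
    have hmem : (⟨l, hl⟩ : L) ∈ Finset.univ.erase (1 : L) := Finset.mem_erase.mpr ⟨hl', Finset.mem_univ _⟩
    rw [← Finset.add_sum_erase _ _ hmem, hzero, zero_add]
    calc ∑ a ∈ (Finset.univ.erase (1 : L)).erase ⟨l, hl⟩, Fintype.card (MulAction.fixedBy (G ⧸ H) a)
        ≤ ∑ _a ∈ (Finset.univ.erase (1 : L)).erase ⟨l, hl⟩, 1 := by
          apply Finset.sum_le_sum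
          intro a ha
          exact hle1 a (Finset.ne_of_mem_erase (Finset.mem_of_mem_erase ha))
      _ = Fintype.card L - 2 := by
          rw [Finset.sum_const, smul_eq_mul, mul_one, Finset.card_erase_of_mem hmem,
            Finset.card_erase_of_mem (Finset.mem_univ _), Finset.card_univ]
          omega
  have hsum2 : H.index ≤ ∑ a : L, Fintype.card (MulAction.fixedBy (G ⧸ H) a) := by
    rw [← Finset.add_sum_erase Finset.univ _ (Finset.mem_univ (1 : L)), hone]
    exact Nat.le_add_right _ _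
  rw [hB] at hsum hsum2
  rw [← Nat.card_eq_fintype_card (α := L)] at hsum hsum2 
  have hL2 : 2 ≤ Nat.card L := by
    have : Nontrivial L := ⟨⟨⟨l, hl⟩, 1, hl'⟩⟩
    exact Finite.one_lt_card
  -- arithmetic
  obtain ⟨k, hk⟩ : ∃ k, k = Fintype.card (Quotient (MulAction.orbitRel L (G ⧸ H))) := ⟨_, rfl⟩
  rw [← hk] at hsum hsum2
  have hpos : 0 < H.index := Nat.pos_of_ne_zero Subgroup.index_ne_zero_of_finite
  have h1mod : 1 % Nat.card L = 1 := Nat.mod_eq_of_lt (by omega)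
  rw [h1mod] at hmod
  have hdiv := Nat.div_add_mod H.index (Nat.card L)
  rw [hmod] at hdiv
  -- H.index = |L| * j + 1 ; |L|*j + 1 ≤ k |L| ≤ |L| j + 1 + |L| - 2
  obtain ⟨j, hj⟩ : ∃ j, j = H.index / Nat.card L := ⟨_, rfl⟩
  rw [← hj] at hdiv
  have h3 : j < k := by
    by_contra h3
    have h5 : k ≤ j := not_lt.mp h3
    have h6 : k * Nat.card L ≤ j * Nat.card L := Nat.mul_le_mul_right _ h5
    have h7 : j * Nat.card L = Nat.card L * j := mul_comm _ _
    omega
  have h4 : (j + 1) * Nat.card L ≤ k * Nat.card L := Nat.mul_le_mul_right _ h3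
  have h8 : (j + 1) * Nat.card L = Nat.card L * j + Nat.card L := by ring
  omega

end Cfsg.Agent.H1

namespace Cfsg.Agent.H1

lemma isFrobeniusComplement_conj {G : Type*} [Group G] (H : Subgroup G) (hH : Cfsg.IsFrobeniusComplement H) (g : G) :
    Cfsg.IsFrobeniusComplement (MulAut.conj g • H) := by
  refine ⟨?_, ?_, ?_⟩
  · intro h
    apply hH.1
    rw [eq_bot_iff]
    intro x hx
    have : g * x * g⁻¹ ∈ MulAut.conj g • H := (conj_mem_conj_smul g x H).mpr hx
    rw [h, Subgroup.mem_bot] at this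
    rw [Subgroup.mem_bot]
    calc x = g⁻¹ * (g * x * g⁻¹) * g := by group
      _ = 1 := by rw [this]; group
  · intro h
    apply hH.2.1
    rw [eq_top_iff]
    intro x _
    have : g * x * g⁻¹ ∈ MulAut.conj g • H := by rw [h]; trivial
    exact (conj_mem_conj_smul g x H).mp this
  · intro x hx
    rw [mem_conj_smul] at hx
    have h1 := hH.2.2 _ hx
    rw [eq_bot_iff]
    intro a ha
    obtain ⟨ha1, ha2⟩ := Subgroup.mem_inf.mp ha
    rw [mem_conj_smul] at ha1 ha2
    rw [mem_conj_smul] at ha2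
    have h2 : g⁻¹ * a * g ∈ H ⊓ MulAut.conj (g⁻¹ * x * g) • H := by
      refine Subgroup.mem_inf.mpr ⟨ha1, ?_⟩
      rw [mem_conj_smul]
      have e : (g⁻¹ * x * g)⁻¹ * (g⁻¹ * a * g) * (g⁻¹ * x * g) = g⁻¹ * (x⁻¹ * a * x) * g := by group
      rw [e]; exact ha2
    rw [h1, Subgroup.mem_bot] at h2
    rw [Subgroup.mem_bot]
    calc a = g * (g⁻¹ * a * g) * g⁻¹ := by group
      _ = 1 := by rw [h2]; group

lemma isFrobeniusComplement_subgroupOf {G : Type*} [Group G] (H : Subgroup G) (hH : Cfsg.IsFrobeniusComplement H)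
    (L : Subgroup G) (h1 : ∃ a ∈ L, a ∈ H ∧ a ≠ 1) (h2 : ¬ L ≤ H) :
    Cfsg.IsFrobeniusComplement (H.subgroupOf L) := by
  refine ⟨?_, ?_, ?_⟩
  · obtain ⟨a, haL, haH, ha1⟩ := h1
    intro h
    have : (⟨a, haL⟩ : L) ∈ H.subgroupOf L := Subgroup.mem_subgroupOf.mpr haH
    rw [h, Subgroup.mem_bot] at this
    exact ha1 (congrArg Subtype.val this)
  · intro h
    exact h2 (Subgroup.subgroupOf_eq_top.mp h)
  · intro x hx
    rw [Subgroup.mem_subgroupOf] at hx
    have h3 := hH.2.2 _ hx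
    rw [eq_bot_iff]
    intro a ha
    obtain ⟨ha1, ha2⟩ := Subgroup.mem_inf.mp ha
    rw [mem_conj_smul] at ha2
    rw [Subgroup.mem_subgroupOf] at ha1 ha2
    have : (a : G) ∈ H ⊓ MulAut.conj (x : G) • H := by
      refine Subgroup.mem_inf.mpr ⟨ha1, ?_⟩
      rw [mem_conj_smul]
      simpa using ha2
    rw [h3, Subgroup.mem_bot] at this
    exact Subgroup.mem_bot.mpr (Subtype.ext this)

/-- Frobenius dominance: a subgroup whose order divides that of the complement lies in a conjugate of it -/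
theorem frobenius_dominance {G : Type*} [Group G] [Finite G] (H : Subgroup G) (hH : Cfsg.IsFrobeniusComplement H)
    (L : Subgroup G) (hL : Nat.card L ∣ Nat.card H) : ∃ x : G, L ≤ MulAut.conj x • H := by
  by_cases hLbot : L = ⊥
  · exact ⟨1, by rw [hLbot]; exact bot_le⟩
  by_contra hcon
  push Not at hcon
  obtain ⟨l₁, hl₁1⟩ := (Subgroup.ne_bot_iff_exists_ne_one).mp hLbot
  have hl₁G : (l₁ : G) ≠ 1 := fun h => hl₁1 (Subtype.ext h)
  obtain ⟨g₁, hg₁⟩ := exists_conj_of_card_dvd H hH L hL l₁ l₁.2 hl₁G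
  have hF₁ : Cfsg.IsFrobeniusComplement ((MulAut.conj g₁ • H).subgroupOf L) :=
    isFrobeniusComplement_subgroupOf _ (isFrobeniusComplement_conj H hH g₁) L ⟨l₁, l₁.2, hg₁, hl₁G⟩ (hcon g₁)
  have hK₁ := card_frobeniusKernel _ hF₁
  -- an element of the kernel set other than 1
  have hidx₁ : 2 ≤ ((MulAut.conj g₁ • H).subgroupOf L).index := by
    have h0 : ((MulAut.conj g₁ • H).subgroupOf L).index ≠ 0 := Subgroup.index_ne_zero_of_finite
    have h1 : ((MulAut.conj g₁ • H).subgroupOf L).index ≠ 1 := fun h => hF₁.2.1 (Subgroup.index_eq_one.mp h)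
    omega
  obtain ⟨l₂, hl₂K, hl₂1⟩ : ∃ l₂ : L, l₂ ∈ Cfsg.frobeniusKernel ((MulAut.conj g₁ • H).subgroupOf L) ∧ l₂ ≠ 1 := by
    rw [Nat.card_coe_set_eq] at hK₁
    have h2 : 1 < (Cfsg.frobeniusKernel ((MulAut.conj g₁ • H).subgroupOf L)).ncard := by omega
    obtain ⟨a, b, ha, hb, hab⟩ := (Set.one_lt_ncard_iff (Set.toFinite _)).mp h2
    by_cases ha1 : a = 1
    · exact ⟨b, hb, fun h => hab (ha1.trans h.symm)⟩
    · exact ⟨a, ha, ha1⟩
  have hl₂G : (l₂ : G) ≠ 1 := fun h => hl₂1 (Subtype.ext h)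
  have hl₂not : ∀ x : L, l₂ ∉ MulAut.conj x • (MulAut.conj g₁ • H).subgroupOf L := by
    rcases hl₂K with h | h
    · exact absurd h hl₂1
    · exact h
  obtain ⟨g₂, hg₂⟩ := exists_conj_of_card_dvd H hH L hL l₂ l₂.2 hl₂G
  have hF₂ : Cfsg.IsFrobeniusComplement ((MulAut.conj g₂ • H).subgroupOf L) :=
    isFrobeniusComplement_subgroupOf _ (isFrobeniusComplement_conj H hH g₂) L ⟨l₂, l₂.2, hg₂, hl₂G⟩ (hcon g₂)
  have hK₂ := card_frobeniusKernel _ hF₂
  -- cover
  have hcover : Cfsg.frobeniusKernel ((MulAut.conj g₁ • H).subgroupOf L) ∪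
      Cfsg.frobeniusKernel ((MulAut.conj g₂ • H).subgroupOf L) = Set.univ := by
    rw [Set.eq_univ_iff_forall]
    intro a
    by_contra ha
    rw [Set.mem_union, not_or] at ha
    obtain ⟨ha1, ha2⟩ := ha
    have ha0 : a ≠ 1 := fun h => ha1 (Or.inl h)
    have haG : (a : G) ≠ 1 := fun h => ha0 (Subtype.ext h)
    have h1 : ∃ x : L, a ∈ MulAut.conj x • (MulAut.conj g₁ • H).subgroupOf L := by
      by_contra h; push Not at h; exact ha1 (Or.inr h)
    have h2 : ∃ y : L, a ∈ MulAut.conj y • (MulAut.conj g₂ • H).subgroupOf L := by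
      by_contra h; push Not at h; exact ha2 (Or.inr h)
    obtain ⟨x, hx⟩ := h1
    obtain ⟨y, hy⟩ := h2
    rw [mem_conj_smul, Subgroup.mem_subgroupOf, mem_conj_smul] at hx hy
    have hx' : (a : G) ∈ MulAut.conj ((x : G) * g₁) • H := by
      rw [mem_conj_smul]
      have e : ((x : G) * g₁)⁻¹ * (a : G) * ((x : G) * g₁) = g₁⁻¹ * ((x : G)⁻¹ * (a : G) * (x : G)) * g₁ := by group
      rw [e]; simpa using hx
    have hy' : (a : G) ∈ MulAut.conj ((y : G) * g₂) • H := by
      rw [mem_conj_smul]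
      have e : ((y : G) * g₂)⁻¹ * (a : G) * ((y : G) * g₂) = g₂⁻¹ * ((y : G)⁻¹ * (a : G) * (y : G)) * g₂ := by group
      rw [e]; simpa using hy
    have heq := conj_smul_eq_of_mem_of_frobenius H hH (a : G) _ _ haG hx' hy'
    -- l₂ ∈ conj g₂ • H = conj (y⁻¹ x g₁) • H
    apply hl₂not (y⁻¹ * x)
    rw [mem_conj_smul, Subgroup.mem_subgroupOf, mem_conj_smul]
    have h3 : (y : G) * (l₂ : G) * (y : G)⁻¹ ∈ MulAut.conj ((y : G) * g₂) • H := by
      rw [mem_conj_smul]
      have e : ((y : G) * g₂)⁻¹ * ((y : G) * (l₂ : G) * (y : G)⁻¹) * ((y : G) * g₂) = g₂⁻¹ * (l₂ : G) * g₂ := by group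
      rw [e]; exact (mem_conj_smul _ _ _).mp hg₂
    rw [← heq, mem_conj_smul] at h3
    have e : g₁⁻¹ * (((y⁻¹ * x : L)⁻¹ * l₂ * (y⁻¹ * x : L) : L) : G) * g₁ =
        ((x : G) * g₁)⁻¹ * ((y : G) * (l₂ : G) * (y : G)⁻¹) * ((x : G) * g₁) := by
      simp only [Subgroup.coe_mul, Subgroup.coe_inv]
      group
    rw [e]; exact h3
  -- counting
  have hcount := Set.ncard_union_add_ncard_inter (Cfsg.frobeniusKernel ((MulAut.conj g₁ • H).subgroupOf L))
    (Cfsg.frobeniusKernel ((MulAut.conj g₂ • H).subgroupOf L))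
  rw [hcover, Set.ncard_univ] at hcount
  rw [Nat.card_coe_set_eq] at hK₁ hK₂
  rw [hK₁, hK₂] at hcount
  have hinter : 1 ≤ (Cfsg.frobeniusKernel ((MulAut.conj g₁ • H).subgroupOf L) ∩
      Cfsg.frobeniusKernel ((MulAut.conj g₂ • H).subgroupOf L)).ncard := by
    rw [Nat.one_le_iff_ne_zero, Ne, Set.ncard_eq_zero (Set.toFinite _)]
    intro h
    have : (1 : L) ∈ Cfsg.frobeniusKernel ((MulAut.conj g₁ • H).subgroupOf L) ∩
      Cfsg.frobeniusKernel ((MulAut.conj g₂ • H).subgroupOf L) := ⟨Or.inl rfl, Or.inl rfl⟩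
    rw [h] at this; exact this
  have hc1 := ((MulAut.conj g₁ • H).subgroupOf L).card_mul_index
  have hc2 := ((MulAut.conj g₂ • H).subgroupOf L).card_mul_index
  have hF₁card : 2 ≤ Nat.card ((MulAut.conj g₁ • H).subgroupOf L) := by
    have : Nontrivial ((MulAut.conj g₁ • H).subgroupOf L) := (Subgroup.nontrivial_iff_ne_bot _).mpr hF₁.1
    exact Finite.one_lt_card
  have hF₂card : 2 ≤ Nat.card ((MulAut.conj g₂ • H).subgroupOf L) := by
    have : Nontrivial ((MulAut.conj g₂ • H).subgroupOf L) := (Subgroup.nontrivial_iff_ne_bot _).mpr hF₂.1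
    exact Finite.one_lt_card
  have h5 : 2 * ((MulAut.conj g₁ • H).subgroupOf L).index ≤ Nat.card L := by
    rw [← hc1]; exact Nat.mul_le_mul_right _ hF₁card
  have h6 : 2 * ((MulAut.conj g₂ • H).subgroupOf L).index ≤ Nat.card L := by
    rw [← hc2]; exact Nat.mul_le_mul_right _ hF₂card
  omega

end Cfsg.Agent.H1
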