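import Mathlib
import Cfsg.Prelude.Def_FusionSystem
import Cfsg.Agent.Lib.Helper7.Fusion
import Cfsg.Agent.Lib.Helper7.FusionSat3
import Cfsg.Agent.Lib.Helper7.FusionSat4
import Cfsg.Agent.Lib.Helper7.ThompsonFusC
import Cfsg.Agent.H1.CaminaHerzogB

set_option autoImplicit false

namespace Cfsg.Agent.H1.FusCH

open Cfsg Cfsg.FusionSystem Cfsg.Agent.Lib.Helper7 Cfsg.Agent.H1.CaminaHerzog

variable {Ω : Type*} [Group Ω] {S : Subgroup Ω}

/-- a map of the system carries an element to an `F`-conjugate element -/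
theorem isConjElt_of_hom (F : FusionSystem S) {P : Subgroup Ω} {θ : P →* Ω} (hθ : θ ∈ F.Hom P)
    {y : Ω} (hy : y ∈ P) : F.IsConjElt y (θ ⟨y, hy⟩) := by
  have hle : Subgroup.zpowers y ≤ P := by rw [Subgroup.zpowers_le]; exact hy
  exact ⟨_, fs_restrict_mem F hle hθ, rfl⟩

theorem isConjElt_refl (F : FusionSystem S) {y : Ω} (hy : y ∈ S) : F.IsConjElt y y := by
  have hle : Subgroup.zpowers y ≤ S := by rw [Subgroup.zpowers_le]; exact hy
  exact ⟨_, fs_subtype_mem F hle, rfl⟩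

theorem isConjElt_symm (F : FusionSystem S) {a b : Ω} (h : F.IsConjElt a b) : F.IsConjElt b a := by
  obtain ⟨φ, hφ, hφa⟩ := h
  obtain ⟨ψ, hψ, hψe⟩ := F.inv_mem hφ
  have hr : φ.range = Subgroup.zpowers b := by
    rw [ThompsonFus.range_eq_zpowers, hφa]
  have h1 := fs_mem_of_eq F hr.symm hψ
  refine ⟨_, h1, ?_⟩
  have := hψe ⟨a, Subgroup.mem_zpowers a⟩
  simp only [MonoidHom.comp_apply]
  refine Eq.trans ?_ this
  congr 1
  apply Subtype.ext
  exact hφa.symm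

theorem isConjElt_mem (F : FusionSystem S) {a b : Ω} (h : F.IsConjElt a b) : a ∈ S ∧ b ∈ S := by
  obtain ⟨φ, hφ, hφa⟩ := h
  have := F.le_of_mem hφ
  exact ⟨this.1 (Subgroup.mem_zpowers a), hφa ▸ this.2 _⟩

theorem centralizerIn_zpowers_center {z : Ω} (hz : z ∈ zc S) :
    centralizerIn S (Subgroup.zpowers z) = S := by
  apply le_antisymm inf_le_left
  intro s hs
  refine ⟨hs, ?_⟩
  show s ∈ Subgroup.centralizer ((Subgroup.zpowers z : Subgroup Ω) : Set Ω)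
  rw [Subgroup.mem_centralizer_iff]
  intro y hy
  obtain ⟨k, rfl⟩ := Subgroup.mem_zpowers_iff.mp hy
  have h1 : s * z = z * s := (mem_zc.mp hz).2 s hs
  have : Commute z s := h1.symm
  exact (this.zpow_left k).eq

theorem isReceptive_zpowers_center [Finite S] (hS : IsPGroup 2 S) (F : FusionSystem S)
    (hF : F.IsSaturated 2) {z : Ω} (hz : z ∈ zc S) : F.IsReceptive (Subgroup.zpowers z) := by
  have hzS : z ∈ S := (mem_zc.mp hz).1
  have hle : Subgroup.zpowers z ≤ S := by rw [Subgroup.zpowers_le]; exact hzS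
  apply ((isSaturated_iff_sylow_extension 2 hS F).mp hF).2
  refine ⟨hle, fun Q _ => ?_⟩
  rw [centralizerIn_zpowers_center hz]
  exact card_centralizerIn_le Q

/-- extension lemma: an element `F`-conjugate to a central element `z`; any subgroup `R ≤ S`
containing `x` in its centre admits a map of the system sending `x` to `z` -/
theorem exists_hom_to_center [Finite S] (hS : IsPGroup 2 S) (F : FusionSystem S)
    (hF : F.IsSaturated 2) {x z : Ω} (hz : z ∈ zc S) (hxz : F.IsConjElt x z)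
    (R : Subgroup Ω) (hRS : R ≤ S) (hxR : x ∈ R) (hRx : ∀ r ∈ R, r * x = x * r) :
    ∃ θ ∈ F.Hom R, θ ⟨x, hxR⟩ = z := by
  obtain ⟨φ, hφ, hφx⟩ := hxz
  have hr : φ.range = Subgroup.zpowers z := by
    rw [ThompsonFus.range_eq_zpowers, hφx]
  obtain ⟨ψ, hψ, hψe⟩ := (isReceptive_zpowers_center hS F hF hz).2 _ φ hφ hr
  have hRle : R ≤ extender S (Subgroup.zpowers x) φ := by
    refine le_trans ?_ (centralizerIn_le_extender S (Subgroup.zpowers x) φ)
    intro r hr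
    refine ⟨hRS hr, ?_⟩
    show r ∈ Subgroup.centralizer ((Subgroup.zpowers x : Subgroup Ω) : Set Ω)
    rw [Subgroup.mem_centralizer_iff]
    intro y hy
    obtain ⟨k, rfl⟩ := Subgroup.mem_zpowers_iff.mp hy
    have : Commute x r := (hRx r hr).symm
    exact (this.zpow_left k).eq
  refine ⟨ψ.comp (Subgroup.inclusion hRle), fs_restrict_mem F hRle hψ, ?_⟩
  have := hψe x (Subgroup.mem_zpowers x) (hRle hxR)
  rw [← hφx, ← this]
  rfl

theorem hom_top_center [Finite S] (F : FusionSystem S) {γ : S →* Ω} (hγ : γ ∈ F.Hom S)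
    {c : Ω} (hc : c ∈ zc S) : γ ⟨c, (mem_zc.mp hc).1⟩ ∈ zc S := by
  have hS' := (F.le_of_mem hγ).2
  have hinj := F.injective_of_mem hγ
  let f : S → S := fun s => ⟨γ s, hS' s⟩
  have hf : Function.Injective f := fun a b hab => hinj (congrArg Subtype.val hab)
  have hsurj : Function.Surjective f := Finite.surjective_of_injective hf
  rw [mem_zc]
  refine ⟨hS' _, fun y hy => ?_⟩
  obtain ⟨y', hy'⟩ := hsurj ⟨y, hy⟩
  have hy'' : γ y' = y := congrArg Subtype.val hy'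
  rw [← hy'', ← map_mul, ← map_mul]
  congr 1
  apply Subtype.ext
  exact (mem_zc.mp hc).2 y' y'.2

/-- `F`-conjugate central elements are conjugate under an `F`-automorphism of `S` -/
theorem central_fusion [Finite S] (hS : IsPGroup 2 S) (F : FusionSystem S)
    (hF : F.IsSaturated 2) {z z' : Ω} (hz : z ∈ zc S) (hz' : z' ∈ zc S) (hzz : F.IsConjElt z z') :
    ∃ γ ∈ F.Hom S, γ ⟨z, (mem_zc.mp hz).1⟩ = z' :=
  exists_hom_to_center hS F hF hz' hzz S le_rfl (mem_zc.mp hz).1 (fun r hr => (mem_zc.mp hz).2 r hr)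

/-- squares lemma: a central element `F`-conjugate to a square in `S` is the square of a central
element (under the Camina–Herzog hypothesis) -/
theorem exists_sq_center [Finite S] (hS : IsPGroup 2 S) (F : FusionSystem S)
    (hF : F.IsSaturated 2) (h : ∀ x ∈ S, ∃ z ∈ zc S, F.IsConjElt x z)
    {a s : Ω} (ha : a ∈ zc S) (hs : s ∈ S) (has : F.IsConjElt (s ^ 2) a) :
    ∃ c ∈ zc S, c ^ 2 = a := by
  obtain ⟨z₁, hz₁, φ₁, hφ₁, hφs⟩ := h s hs
  have hs2 : s ^ 2 ∈ Subgroup.zpowers s := Subgroup.npow_mem_zpowers s 2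
  have h1 : F.IsConjElt (s ^ 2) (φ₁ ⟨s ^ 2, hs2⟩) := isConjElt_of_hom F hφ₁ hs2
  have h2 : φ₁ ⟨s ^ 2, hs2⟩ = z₁ ^ 2 := by
    have : (⟨s ^ 2, hs2⟩ : ↥(Subgroup.zpowers s)) = ⟨s, Subgroup.mem_zpowers s⟩ ^ 2 :=
      Subtype.ext rfl
    rw [this, map_pow, hφs]
  rw [h2] at h1
  have h3 : F.IsConjElt (z₁ ^ 2) a := ThompsonFus.isConjElt_trans F (isConjElt_symm F h1) has
  have hz₁2 : z₁ ^ 2 ∈ zc S := pow_mem hz₁ 2
  obtain ⟨γ, hγ, hγz⟩ := central_fusion hS F hF hz₁2 ha h3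
  refine ⟨γ ⟨z₁, (mem_zc.mp hz₁).1⟩, hom_top_center F hγ hz₁, ?_⟩
  rw [← map_pow, ← hγz]
  congr 1

lemma exists_normalizing' [Finite S] (hS : IsPGroup 2 S) {Q : Subgroup Ω} (hQS : Q ≤ S)
    (hne : Q ≠ S) :
    ∃ g ∈ S, g ∉ Q ∧ g ∈ Subgroup.normalizer (Q : Set Ω) ∧ g ^ 2 ∈ Q := by
  have hlt : Q.subgroupOf S < ⊤ := by
    rw [lt_top_iff_ne_top]
    intro h
    rw [Subgroup.subgroupOf_eq_top] at h
    exact hne (le_antisymm hQS h)
  haveI : Group.IsNilpotent ↥S := hS.isNilpotent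
  have hnc := Group.normalizerCondition_of_isNilpotent (G := ↥S) (Q.subgroupOf S) hlt
  obtain ⟨y, hyN, hyQ⟩ := SetLike.exists_of_lt hnc
  have hy0N : (y : Ω) ∈ Subgroup.normalizer (Q : Set Ω) := by
    rw [Subgroup.mem_normalizer_iff]
    have key : ∀ (z : ↥S), z ∈ Subgroup.normalizer ((Q.subgroupOf S : Subgroup _) : Set _) →
        ∀ q ∈ Q, (z : Ω) * q * (z : Ω)⁻¹ ∈ Q := by
      intro z hz q hq
      have h2 := (Subgroup.mem_normalizer_iff.mp hz ⟨q, hQS hq⟩).mp (Subgroup.mem_subgroupOf.mpr hq)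
      rw [Subgroup.mem_subgroupOf] at h2
      simpa using h2
    intro q
    refine ⟨key y hyN q, fun hq => ?_⟩
    have := key y⁻¹ (inv_mem hyN) _ hq
    simpa [mul_assoc] using this
  have hy0Q : (y : Ω) ∉ Q := fun h => hyQ (Subgroup.mem_subgroupOf.mpr h)
  obtain ⟨k, hk⟩ := two_elt_of_mem hS y.2
  have hex : ∃ j : ℕ, (y : Ω) ^ (2 ^ j) ∈ Q := ⟨k, by rw [← hk, pow_orderOf_eq_one]; exact one_mem _⟩
  classical
  have hj0 : Nat.find hex ≠ 0 := by
    intro h0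
    have := Nat.find_spec hex
    rw [h0] at this
    simp at this
    exact hy0Q this
  obtain ⟨j, hj⟩ := Nat.exists_eq_succ_of_ne_zero hj0
  refine ⟨(y : Ω) ^ (2 ^ j), pow_mem y.2 _, ?_, pow_mem hy0N _, ?_⟩
  · exact Nat.find_min hex (by omega)
  · have := Nat.find_spec hex
    rw [hj, pow_succ, pow_mul] at this
    exact this

/-- `C_S(x)` -/
def cs (S : Subgroup Ω) (x : Ω) : Subgroup Ω := S ⊓ Subgroup.centralizer ({x} : Set Ω)

lemma mem_cs {x y : Ω} : y ∈ cs S x ↔ y ∈ S ∧ y * x = x * y := by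
  unfold cs
  rw [Subgroup.mem_inf, Subgroup.mem_centralizer_singleton_iff]

lemma cs_le (S : Subgroup Ω) (x : Ω) : cs S x ≤ S := inf_le_left

lemma cs_ne_of_not_mem_zc {x : Ω} (hxS : x ∈ S) (hx : x ∉ zc S) : cs S x ≠ S := by
  intro h
  apply hx
  refine mem_zc.mpr ⟨hxS, fun y hy => ?_⟩
  have : y ∈ cs S x := by rw [h]; exact hy
  exact (mem_cs.mp this).2

/-- the choice of a noncentral element with maximal, fully normalized centralizer -/
theorem exists_good_elt [Finite S] (hS : IsPGroup 2 S) (F : FusionSystem S)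
    (hF : F.IsSaturated 2) (hna : ∃ x ∈ S, x ∉ zc S) :
    ∃ x ∈ S, x ∉ zc S ∧ (∀ y ∈ S, y ∉ zc S → Nat.card (cs S y) ≤ Nat.card (cs S x)) ∧
      F.IsFullyNormalized (cs S x) := by
  obtain ⟨a₀, ha₀S, ha₀⟩ := hna
  let α := {y : S // (y : Ω) ∉ zc S}
  haveI : Nonempty α := ⟨⟨⟨a₀, ha₀S⟩, ha₀⟩⟩
  obtain ⟨⟨⟨x₀, hx₀S⟩, hx₀⟩, hmax⟩ := Finite.exists_max (fun y : α => Nat.card (cs S (y.1 : Ω)))
  simp only at hx₀ hmax
  have hM : ∀ y ∈ S, y ∉ zc S → Nat.card (cs S y) ≤ Nat.card (cs S x₀) :=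
    fun y hy hyz => hmax ⟨⟨y, hy⟩, hyz⟩
  set Q₀ := cs S x₀ with hQ₀
  have hQ₀S : Q₀ ≤ S := cs_le S x₀
  have hx₀Q : x₀ ∈ Q₀ := mem_cs.mpr ⟨hx₀S, rfl⟩
  obtain ⟨Qs, hconj, hfn⟩ := exists_isFullyNormalized_conj F hQ₀S
  have hsat := (isSaturated_iff_sylow_extension 2 hS F).mp hF
  have hFA := (hsat.1 Qs hfn).2
  have hRec := hsat.2 Qs (hsat.1 Qs hfn).1
  obtain ⟨φ, hφ, hφN, hφQ⟩ := hom_normalizer_of_fullyAutomized_receptive 2 hS F Qs Q₀ hFA hRec hconj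
  have hQN : Q₀ ≤ normalizerIn S Q₀ := le_normalizerIn hQ₀S
  have hinj := F.injective_of_mem hφ
  set x' := φ ⟨x₀, hQN hx₀Q⟩ with hx'
  have hx'S : x' ∈ S := (F.le_of_mem hφ).2 _
  have hQ₀ne : Q₀ ≠ S := cs_ne_of_not_mem_zc hx₀S hx₀
  have hx'z : x' ∉ zc S := by
    intro hz
    obtain ⟨g, hgS, hgQ, hgN, _⟩ := exists_normalizing' hS hQ₀S hQ₀ne
    apply hgQ
    have hgN' : g ∈ normalizerIn S Q₀ := ⟨hgS, hgN⟩
    refine mem_cs.mpr ⟨hgS, ?_⟩
    have h1 : φ ⟨g, hgN'⟩ * x' = x' * φ ⟨g, hgN'⟩ := (mem_zc.mp hz).2 _ ((F.le_of_mem hφ).2 _)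
    rw [hx', ← map_mul, ← map_mul] at h1
    exact congrArg Subtype.val (hinj h1)
  have hle : Qs ≤ cs S x' := by
    intro q hq
    rw [← hφQ] at hq
    obtain ⟨q₀, hq₀, rfl⟩ := hq
    have hq₀Q : (q₀ : Ω) ∈ Q₀ := Subgroup.mem_subgroupOf.mp hq₀
    refine mem_cs.mpr ⟨(F.le_of_mem hφ).2 _, ?_⟩
    rw [hx', ← map_mul, ← map_mul]
    congr 1
    apply Subtype.ext
    exact (mem_cs.mp hq₀Q).2
  have hcard : Nat.card Q₀ = Nat.card Qs := card_eq_of_isConj F hconj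
  haveI : Finite ↥(cs S x') := finite_of_le (cs_le S x')
  have heq : Qs = cs S x' := Subgroup.eq_of_le_of_card_ge hle (by
    rw [← hcard]; exact hM x' hx'S hx'z)
  refine ⟨x', hx'S, hx'z, fun y hy hyz => ?_, heq ▸ hfn⟩
  rw [← heq, ← hcard]
  exact hM y hy hyz

end Cfsg.Agent.H1.FusCH
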