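import Mathlib
import Cfsg.Agent.H1.FusCHA
import Cfsg.Agent.Lib.Helper7.FusionSat

set_option autoImplicit false

namespace Cfsg.Agent.H1.FusCH

open Cfsg Cfsg.FusionSystem Cfsg.Agent.Lib.Helper7 Cfsg.Agent.H1.CaminaHerzog

variable {Ω : Type*} [Group Ω] {S : Subgroup Ω}

section resZ

variable (Q : Subgroup Ω)

lemma aut_mem_zc (α : MulAut Q) {v : Ω} (hv : v ∈ zc Q) :
    ((α ⟨v, zc_le Q hv⟩ : Q) : Ω) ∈ zc Q := by
  rw [mem_zc]
  refine ⟨(α _).2, fun y hy => ?_⟩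
  have h1 : (⟨y, hy⟩ : Q) = α (α⁻¹ ⟨y, hy⟩) := by simp
  have h2 : (α⁻¹ ⟨y, hy⟩ : Q) * ⟨v, zc_le Q hv⟩ = ⟨v, zc_le Q hv⟩ * (α⁻¹ ⟨y, hy⟩ : Q) := by
    apply Subtype.ext
    exact (mem_zc.mp hv).2 _ (α⁻¹ ⟨y, hy⟩ : Q).2
  have h3 := congrArg (fun q : Q => ((α q : Q) : Ω)) h2
  simp only [map_mul, Subgroup.coe_mul, ← h1] at h3
  exact h3

/-- restriction of an automorphism of `Q` to the centre `zc Q` -/
def resZfun (α : MulAut Q) : MulAut (zc Q) where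
  toFun v := ⟨α ⟨v, zc_le Q v.2⟩, aut_mem_zc Q α v.2⟩
  invFun v := ⟨α⁻¹ ⟨v, zc_le Q v.2⟩, aut_mem_zc Q α⁻¹ v.2⟩
  left_inv v := by
    apply Subtype.ext
    simp
  right_inv v := by
    apply Subtype.ext
    simp
  map_mul' a b := by
    apply Subtype.ext
    have : (⟨(a * b : zc Q), zc_le Q (a * b).2⟩ : Q) = ⟨a, zc_le Q a.2⟩ * ⟨b, zc_le Q b.2⟩ := rfl
    simp only [this, map_mul]
    rfl

def resZ : MulAut Q →* MulAut (zc Q) where
  toFun := resZfun Q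
  map_one' := by
    ext v
    rfl
  map_mul' a b := by
    ext v
    rfl

lemma resZ_apply (α : MulAut Q) (v : zc Q) :
    ((resZ Q α v : zc Q) : Ω) = ((α ⟨v, zc_le Q v.2⟩ : Q) : Ω) := rfl

end resZ

/-- pull back conjugation by `h ∈ N_S(ψ Q)` along a map `ψ` of the system -/
lemma exists_pullback_aut (F : FusionSystem S) {Q : Subgroup Ω} {ψ : Q →* Ω} (hψ : ψ ∈ F.Hom Q)
    {h : Ω} (hhS : h ∈ S) (hhN : h ∈ Subgroup.normalizer ((ψ.range : Subgroup Ω) : Set Ω)) :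
    ∃ α ∈ F.autGroup Q, ∀ q : Q, ψ (α q) = h * ψ q * h⁻¹ := by
  have hQS : Q ≤ S := (F.le_of_mem hψ).1
  have hPS : ψ.range ≤ S := by
    rintro _ ⟨q, rfl⟩; exact (F.le_of_mem hψ).2 q
  set e := isoOfRange ψ (F.injective_of_mem hψ) rfl with he
  set c : MulAut ψ.range := (ψ.range).normalizerMonoidHom ⟨h, hhN⟩ with hc
  have hcS : c ∈ autInducedBy S ψ.range := by
    rw [mem_autInducedBy_iff]
    exact ⟨h, hhS, fun y => rfl⟩
  have h1 : (ψ.range).subtype.comp c.toMonoidHom ∈ F.Hom ψ.range :=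
    (mem_autGroup_iff F hPS c).mp (autInducedBy_le_autGroup F hPS hcS)
  have h2 := F.comp_mem hψ h1 (fun q => ⟨q, rfl⟩)
  have h3 := fs_iso_symm_mem F hψ (rfl : ψ.range = ψ.range)
  have h4 := F.comp_mem h2 h3 (fun q => (c _).2)
  refine ⟨MulAut.congr e.symm c, ?_, fun q => ?_⟩
  · rw [mem_autGroup_iff F hQS]
    convert h4 using 1
    ext q
    simp only [MonoidHom.comp_apply, Subgroup.coe_subtype, MulEquiv.coe_toMonoidHom]
    rfl
  · have h5 : ψ (MulAut.congr e.symm c q) = ((e (MulAut.congr e.symm c q) : ψ.range) : Ω) :=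
      (isoOfRange_coe ψ _ rfl _).symm
    rw [h5]
    have h6 : e (MulAut.congr e.symm c q) = c (e q) := by
      simp [MulAut.congr]
    rw [h6]
    show h * ((e q : ψ.range) : Ω) * h⁻¹ = _
    rw [isoOfRange_coe]

set_option maxHeartbeats 1000000 in
/-- Step 5: the two involutory automorphisms of `zc Q` have product of non-`2`-power order -/
theorem step5 [Finite S] (hS : IsPGroup 2 S) (F : FusionSystem S) (Q : Subgroup Ω) (hQS : Q ≤ S)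
    (hFA : F.IsFullyAutomized 2 Q) (x : Ω) (hxV : x ∈ zc Q)
    (h2c : ∀ θ ∈ F.Hom Q, ∀ r ∈ S, r ∉ θ.range → ∀ v (hv : v ∈ zc Q),
      r * θ ⟨v, zc_le Q hv⟩ = θ ⟨v, zc_le Q hv⟩ * r → θ ⟨v, zc_le Q hv⟩ ∈ zc S)
    (αg αh : MulAut Q) (hαg : αg ∈ autInducedBy S Q) (hαh : αh ∈ F.autGroup Q)
    (hgx : αg ⟨x, zc_le Q hxV⟩ ≠ ⟨x, zc_le Q hxV⟩) (hhx : αh ⟨x, zc_le Q hxV⟩ = ⟨x, zc_le Q hxV⟩)
    (hτh : resZ Q αh ≠ 1) (hg2 : (resZ Q αg) ^ 2 = 1) (hh2 : (resZ Q αh) ^ 2 = 1) :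
    ¬ ∃ j : ℕ, (resZ Q αg * resZ Q αh) ^ (2 ^ j) = 1 := by
  rintro ⟨j, hj⟩
  haveI : Finite ↥Q := finite_of_le hQS
  haveI : Finite (MulAut ↥Q) := inferInstance
  haveI : Finite ↥(zc Q) := finite_of_le ((zc_le Q).trans hQS)
  haveI : Finite (MulAut ↥(zc Q)) := inferInstance
  have hD := isPGroup_closure_pair _ _ hg2 hh2 j hj
  set D := Subgroup.closure ({resZ Q αg, resZ Q αh} : Set (MulAut (zc Q))) with hDdef
  set A := F.autGroup Q with hA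
  have hαgA : αg ∈ A := autInducedBy_le_autGroup F hQS hαg
  set K : Subgroup (MulAut Q) := A ⊓ D.comap (resZ Q) with hK
  have hgK : αg ∈ K := ⟨hαgA, Subgroup.subset_closure (by simp)⟩
  have hhK : αh ∈ K := ⟨hαh, Subgroup.subset_closure (by simp)⟩
  set ρK : ↥K →* MulAut (zc Q) := (resZ Q).comp K.subtype with hρK
  have hrange : ρK.range ≤ D := by
    rintro _ ⟨k, rfl⟩
    exact k.2.2
  obtain ⟨a', ha'⟩ := hD.exists_card_eq
  have hkeridx : ρK.ker.index ∣ 2 ^ a' := by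
    rw [Subgroup.index_ker, ← ha']
    exact Subgroup.card_dvd_of_le hrange
  have hB₀ : IsPGroup 2 ((autInducedBy S Q).subgroupOf K) :=
    (isPGroup_autInducedBy S Q hS).comap_subtype
  obtain ⟨R, hR⟩ := hB₀.exists_le_sylow
  have hRidx : ¬ 2 ∣ (R : Subgroup K).index := R.not_dvd_index
  have hJ1 : ((R : Subgroup K) ⊔ ρK.ker).index ∣ (R : Subgroup K).index :=
    Subgroup.index_dvd_of_le le_sup_left
  have hJ2 : ((R : Subgroup K) ⊔ ρK.ker).index ∣ 2 ^ a' :=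
    (Subgroup.index_dvd_of_le le_sup_right).trans hkeridx
  have hJ : (R : Subgroup K) ⊔ ρK.ker = ⊤ := by
    rw [← Subgroup.index_eq_one]
    obtain ⟨b, _, hb⟩ := (Nat.dvd_prime_pow Nat.prime_two).mp hJ2
    rcases Nat.eq_zero_or_pos b with h0 | h0
    · rw [hb, h0, pow_zero]
    · exfalso
      apply hRidx
      refine dvd_trans ?_ hJ1
      rw [hb]
      exact dvd_pow_self 2 (by omega)
  have hhJ : (⟨αh, hhK⟩ : K) ∈ (R : Subgroup K) ⊔ ρK.ker := by rw [hJ]; trivial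
  obtain ⟨r', hr', k', hk', hrk⟩ := Subgroup.mem_sup_of_normal_right.mp hhJ
  have hrk' : (r' : MulAut Q) * (k' : MulAut Q) = αh := congrArg Subtype.val hrk
  have hk'1 : resZ Q (k' : MulAut Q) = 1 := MonoidHom.mem_ker.mp hk'
  -- conjugate the Sylow subgroup into `Aut_S(Q)`
  set B : Subgroup (MulAut Q) := (R : Subgroup K).map K.subtype with hBdef
  have hBp : IsPGroup 2 B := R.2.map _
  have hBA : B ≤ A := by
    rintro _ ⟨k, _, rfl⟩
    exact k.2.1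
  obtain ⟨a, haA, hconj⟩ := exists_conj_le_autInducedBy 2 F hFA B hBp hBA
  have hgB : αg ∈ B := ⟨⟨αg, hgK⟩, hR (Subgroup.mem_subgroupOf.mpr hαg), rfl⟩
  have hrB : (r' : MulAut Q) ∈ B := ⟨r', hr', rfl⟩
  obtain ⟨g₁, hg₁S, hg₁⟩ := (mem_autInducedBy_iff S Q _).mp (hconj αg hgB)
  obtain ⟨r₁, hr₁S, hr₁⟩ := (mem_autInducedBy_iff S Q _).mp (hconj _ hrB)
  have hθ₁ : Q.subtype.comp a.toMonoidHom ∈ F.Hom Q := (mem_autGroup_iff F hQS a).mp haA
  have hθ₁r : (Q.subtype.comp a.toMonoidHom).range = Q := by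
    ext y
    constructor
    · rintro ⟨q, rfl⟩
      exact (a q).2
    · intro hy
      exact ⟨a⁻¹ ⟨y, hy⟩, by simp⟩
  -- `r₁ ∉ Q`
  have hr₁Q : r₁ ∉ Q := by
    intro hrQ
    apply hτh
    have h1 : resZ Q (a * (r' : MulAut Q) * a⁻¹) = 1 := by
      ext v
      rw [resZ_apply, hr₁]
      have := (mem_zc.mp v.2).2 r₁ hrQ
      simp only [MulAut.one_apply]
      rw [this]
      group
    have h2 : resZ Q (r' : MulAut Q) = 1 := by
      rw [map_mul, map_mul, map_inv] at h1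
      have h3 : resZ Q (r' : MulAut Q) = (resZ Q a)⁻¹ * (resZ Q a * resZ Q (r' : MulAut Q) * (resZ Q a)⁻¹) * resZ Q a := by
        group
      rw [h3, h1]
      group
    rw [← hrk', map_mul, h2, hk'1, one_mul]
  -- `r'` fixes `x`
  have hk'x : (k' : MulAut Q) ⟨x, zc_le Q hxV⟩ = ⟨x, zc_le Q hxV⟩ := by
    have h1 := resZ_apply Q (k' : MulAut Q) ⟨x, hxV⟩
    rw [hk'1] at h1
    apply Subtype.ext
    exact h1.symm
  have hr'x : (r' : MulAut Q) ⟨x, zc_le Q hxV⟩ = ⟨x, zc_le Q hxV⟩ := by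
    have h1 : (r' : MulAut Q) = αh * (k' : MulAut Q)⁻¹ := by rw [← hrk']; group
    have h2 : (k' : MulAut Q)⁻¹ ⟨x, zc_le Q hxV⟩ = ⟨x, zc_le Q hxV⟩ := by
      rw [MulAut.inv_apply, MulEquiv.symm_apply_eq, hk'x]
    rw [h1, MulAut.mul_apply, h2, hhx]
  have hcomm : r₁ * (Q.subtype.comp a.toMonoidHom) ⟨x, zc_le Q hxV⟩ =
      (Q.subtype.comp a.toMonoidHom) ⟨x, zc_le Q hxV⟩ * r₁ := by
    have h1 := hr₁ (a ⟨x, zc_le Q hxV⟩)
    simp only [MulAut.mul_apply, MulAut.inv_apply, MulEquiv.symm_apply_apply, hr'x] at h1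
    simp only [MonoidHom.comp_apply, Subgroup.coe_subtype, MulEquiv.coe_toMonoidHom]
    calc r₁ * ((a ⟨x, zc_le Q hxV⟩ : Q) : Ω)
        = r₁ * ((a ⟨x, zc_le Q hxV⟩ : Q) : Ω) * r₁⁻¹ * r₁ := by group
      _ = ((a ⟨x, zc_le Q hxV⟩ : Q) : Ω) * r₁ := by rw [← h1]
  have hz := h2c _ hθ₁ r₁ hr₁S (by rw [hθ₁r]; exact hr₁Q) x hxV hcomm
  -- `g₁` centralizes `a x`
  have hg₁c := (mem_zc.mp hz).2 g₁ hg₁S
  simp only [MonoidHom.comp_apply, Subgroup.coe_subtype, MulEquiv.coe_toMonoidHom] at hg₁c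
  have h3 := hg₁ (a ⟨x, zc_le Q hxV⟩)
  simp only [MulAut.mul_apply, MulAut.inv_apply, MulEquiv.symm_apply_apply] at h3
  have h4 : ((a (αg ⟨x, zc_le Q hxV⟩) : Q) : Ω) = ((a ⟨x, zc_le Q hxV⟩ : Q) : Ω) := by
    rw [h3, hg₁c]
    group
  apply hgx
  exact a.injective (Subtype.ext h4)

end Cfsg.Agent.H1.FusCH
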