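import Mathlib
import Cfsg.Agent.H1.FusCHB

set_option autoImplicit false
set_option maxHeartbeats 1000000

namespace Cfsg.Agent.H1.FusCH

open Cfsg Cfsg.FusionSystem Cfsg.Agent.Lib.Helper7 Cfsg.Agent.H1.CaminaHerzog

variable {Ω : Type*} [Group Ω] {S : Subgroup Ω}

lemma x_mem_zc_cs {x : Ω} (hxS : x ∈ S) : x ∈ zc (cs S x) :=
  mem_zc.mpr ⟨mem_cs.mpr ⟨hxS, rfl⟩, fun _ hq => (mem_cs.mp hq).2⟩

lemma zcS_le {x : Ω} (hxS : x ∈ S) : zc S ≤ zc (cs S x) := by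
  intro z hz
  rw [mem_zc] at hz
  exact mem_zc.mpr ⟨mem_cs.mpr ⟨hz.1, (hz.2 x hxS).symm⟩, fun q hq => hz.2 q (cs_le S x hq)⟩

lemma card_zcS_lt [Finite S] {x : Ω} (hxS : x ∈ S) (hxZ : x ∉ zc S) :
    Nat.card (zc S) < Nat.card (zc (cs S x)) := by
  haveI : Finite ↥(zc (cs S x)) := finite_of_le ((zc_le _).trans (cs_le S x))
  by_contra hle
  push Not at hle
  have h := Subgroup.eq_of_le_of_card_ge (zcS_le hxS) hle
  apply hxZ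
  rw [h]
  exact x_mem_zc_cs hxS

lemma card_range_eq (F : FusionSystem S) {Q : Subgroup Ω} {θ : Q →* Ω} (hθ : θ ∈ F.Hom Q) :
    Nat.card θ.range = Nat.card Q :=
  (Nat.card_congr (Equiv.ofInjective θ (F.injective_of_mem hθ))).symm

lemma h2a [Finite S] (F : FusionSystem S) {x : Ω}
    (hM : ∀ y ∈ S, y ∉ zc S → Nat.card (cs S y) ≤ Nat.card (cs S x))
    {θ : cs S x →* Ω} (hθ : θ ∈ F.Hom (cs S x)) {v : Ω} (hv : v ∈ zc (cs S x))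
    (hnz : θ ⟨v, zc_le _ hv⟩ ∉ zc S) : cs S (θ ⟨v, zc_le _ hv⟩) = θ.range := by
  have hθS := (F.le_of_mem hθ).2
  have hle : θ.range ≤ cs S (θ ⟨v, zc_le _ hv⟩) := by
    rintro _ ⟨q, rfl⟩
    refine mem_cs.mpr ⟨hθS q, ?_⟩
    rw [← map_mul, ← map_mul]
    congr 1
    apply Subtype.ext
    exact (mem_zc.mp hv).2 q q.2
  haveI : Finite ↥(cs S (θ ⟨v, zc_le _ hv⟩)) := finite_of_le (cs_le S _)
  refine (Subgroup.eq_of_le_of_card_ge hle ?_).symm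
  rw [card_range_eq F hθ]
  exact hM _ (hθS _) hnz

lemma hcard [Finite S] (F : FusionSystem S) {x : Ω} (hxS : x ∈ S) (hxZ : x ∉ zc S)
    {θ : cs S x →* Ω} (hθ : θ ∈ F.Hom (cs S x)) :
    ∃ v, ∃ hv : v ∈ zc (cs S x), θ ⟨v, zc_le _ hv⟩ ∉ zc S := by
  by_contra hall
  push Not at hall
  have hlt := card_zcS_lt hxS hxZ
  haveI : Finite ↥(zc S) := finite_of_le (zc_le S)
  have hle : Nat.card (zc (cs S x)) ≤ Nat.card (zc S) := by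
    refine Nat.card_le_card_of_injective
      (fun v : zc (cs S x) => (⟨θ ⟨v, zc_le _ v.2⟩, hall v v.2⟩ : zc S)) ?_
    intro a b hab
    have h1 : θ ⟨a, zc_le _ a.2⟩ = θ ⟨b, zc_le _ b.2⟩ := congrArg Subtype.val hab
    have h2 := F.injective_of_mem hθ h1
    exact Subtype.ext (congrArg (fun q : cs S x => (q : Ω)) h2)
  omega

lemma h2b [Finite S] (F : FusionSystem S) {x : Ω} (hxS : x ∈ S) (hxZ : x ∉ zc S)
    (hM : ∀ y ∈ S, y ∉ zc S → Nat.card (cs S y) ≤ Nat.card (cs S x))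
    {θ : cs S x →* Ω} (hθ : θ ∈ F.Hom (cs S x)) {z : Ω} (hz : z ∈ zc S) :
    ∃ v, ∃ hv : v ∈ zc (cs S x), θ ⟨v, zc_le _ hv⟩ = z := by
  obtain ⟨v₀, hv₀, hnz⟩ := hcard F hxS hxZ hθ
  have h1 := h2a F hM hθ hv₀ hnz
  have hzS : z ∈ S := (mem_zc.mp hz).1
  have hθS := (F.le_of_mem hθ).2
  have hzr : z ∈ θ.range := by
    rw [← h1]
    exact mem_cs.mpr ⟨hzS, ((mem_zc.mp hz).2 _ (hθS _)).symm⟩
  obtain ⟨q, rfl⟩ := hzr
  refine ⟨q, mem_zc.mpr ⟨q.2, fun q' hq' => ?_⟩, rfl⟩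
  have h2 : θ ⟨q', hq'⟩ * θ q = θ q * θ ⟨q', hq'⟩ := (mem_zc.mp hz).2 _ (hθS _)
  rw [← map_mul, ← map_mul] at h2
  exact congrArg Subtype.val (F.injective_of_mem hθ h2)

lemma h2c [Finite S] (F : FusionSystem S) {x : Ω}
    (hM : ∀ y ∈ S, y ∉ zc S → Nat.card (cs S y) ≤ Nat.card (cs S x))
    {θ : cs S x →* Ω} (hθ : θ ∈ F.Hom (cs S x)) {r : Ω} (hr : r ∈ S) (hrθ : r ∉ θ.range)
    {v : Ω} (hv : v ∈ zc (cs S x))
    (hcomm : r * θ ⟨v, zc_le _ hv⟩ = θ ⟨v, zc_le _ hv⟩ * r) : θ ⟨v, zc_le _ hv⟩ ∈ zc S := by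
  by_contra hnz
  apply hrθ
  rw [← h2a F hM hθ hv hnz]
  exact mem_cs.mpr ⟨hr, hcomm⟩

theorem main [Finite S] (hS : IsPGroup 2 S) (F : FusionSystem S) (hF : F.IsSaturated 2)
    (h : ∀ x ∈ S, ∃ z ∈ zc S, F.IsConjElt x z) : ∀ a ∈ S, ∀ b ∈ S, a * b = b * a := by
  by_contra hcon
  push Not at hcon
  obtain ⟨a₀, ha₀, b₀, hb₀, hab₀⟩ := hcon
  have hna : ∃ x ∈ S, x ∉ zc S := ⟨a₀, ha₀, fun hz => hab₀ ((mem_zc.mp hz).2 b₀ hb₀).symm⟩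
  obtain ⟨x, hxS, hxZ, hM, hfn⟩ := exists_good_elt hS F hF hna
  set Q := cs S x with hQdef
  set V := zc Q with hVdef
  have hsat := (isSaturated_iff_sylow_extension 2 hS F).mp hF
  have hFA : F.IsFullyAutomized 2 Q := (hsat.1 Q hfn).2
  have hQS : Q ≤ S := cs_le S x
  haveI : Finite ↥Q := finite_of_le hQS
  have hQ2 : IsPGroup 2 Q := hS.to_le hQS
  have hxQ : x ∈ Q := mem_cs.mpr ⟨hxS, rfl⟩
  have hQx : ∀ q ∈ Q, q * x = x * q := fun q hq => (mem_cs.mp hq).2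
  have hxV : x ∈ V := x_mem_zc_cs hxS
  have hVQ : V ≤ Q := zc_le Q
  have hVcomm : ∀ v ∈ V, ∀ q ∈ Q, q * v = v * q := fun v hv => (mem_zc.mp hv).2
  -- Step 3
  obtain ⟨z₀, hz₀, hxz₀⟩ := h x hxS
  obtain ⟨ψ, hψ, hψx⟩ := exists_hom_to_center hS F hF hz₀ hxz₀ Q hQS hxQ hQx
  have hψinj := F.injective_of_mem hψ
  have hψS := (F.le_of_mem hψ).2
  -- Step 4
  have hQne : Q ≠ S := cs_ne_of_not_mem_zc hxS hxZ
  obtain ⟨g, hgS, hgQ, hgN, hg2⟩ := exists_normalizing' hS hQS hQne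
  have hψrS : ψ.range ≤ S := by
    rintro _ ⟨q, rfl⟩; exact hψS q
  have hψrne : ψ.range ≠ S := by
    intro heq
    have h1 := card_range_eq F hψ
    rw [heq] at h1
    exact hQne (Subgroup.eq_of_le_of_card_ge hQS h1.le)
  obtain ⟨hh, hhS, hhQ, hhN, hh2⟩ := exists_normalizing' hS hψrS hψrne
  set αg : MulAut Q := Q.normalizerMonoidHom ⟨g, hgN⟩ with hαgdef
  have hαgv : ∀ q : Q, ((αg q : Q) : Ω) = g * q * g⁻¹ := fun _ => rfl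
  have hαg : αg ∈ autInducedBy S Q := by
    rw [mem_autInducedBy_iff]
    exact ⟨g, hgS, fun y => rfl⟩
  obtain ⟨αh, hαh, hαhψ⟩ := exists_pullback_aut F hψ hhS hhN
  have hgx : αg ⟨x, zc_le Q hxV⟩ ≠ ⟨x, zc_le Q hxV⟩ := by
    intro heq
    apply hgQ
    have h1 : g * x * g⁻¹ = x := congrArg Subtype.val heq
    refine mem_cs.mpr ⟨hgS, ?_⟩
    calc g * x = g * x * g⁻¹ * g := by group
      _ = x * g := by rw [h1]
  have hhx : αh ⟨x, zc_le Q hxV⟩ = ⟨x, zc_le Q hxV⟩ := by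
    apply hψinj
    rw [hαhψ]
    have : ψ ⟨x, zc_le Q hxV⟩ = z₀ := hψx
    rw [this]
    have := (mem_zc.mp hz₀).2 hh hhS
    rw [this]
    group
  have hτh : resZ Q αh ≠ 1 := by
    intro h1
    obtain ⟨v, hv, hnz⟩ := hcard F hxS hxZ hψ
    apply hnz
    apply h2c F hM hψ hhS hhQ hv
    have h2 := resZ_apply Q αh ⟨v, hv⟩
    rw [h1] at h2
    have h3 : αh ⟨v, zc_le Q hv⟩ = ⟨v, zc_le Q hv⟩ := Subtype.ext h2.symm
    have h4 := hαhψ ⟨v, zc_le Q hv⟩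
    rw [h3] at h4
    calc hh * ψ ⟨v, zc_le Q hv⟩ = hh * ψ ⟨v, zc_le Q hv⟩ * hh⁻¹ * hh := by group
      _ = ψ ⟨v, zc_le Q hv⟩ * hh := by rw [← h4]
  have hτg2 : (resZ Q αg) ^ 2 = 1 := by
    ext v
    rw [pow_two, MulAut.mul_apply, resZ_apply, hαgv, MulAut.one_apply]
    have h1 : ((⟨((resZ Q αg) v : V), zc_le Q ((resZ Q αg) v).2⟩ : Q) : Ω) = g * v * g⁻¹ := rfl
    rw [h1]
    have h2 := hVcomm v v.2 _ hg2
    rw [pow_two] at h2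
    calc g * (g * (v : Ω) * g⁻¹) * g⁻¹ = (g * g) * v * (g * g)⁻¹ := by group
      _ = v * (g * g) * (g * g)⁻¹ := by rw [h2]
      _ = v := by group
  have hτh2 : (resZ Q αh) ^ 2 = 1 := by
    ext v
    rw [pow_two, MulAut.mul_apply, resZ_apply, MulAut.one_apply]
    have h0 : (⟨((resZ Q αh) v : V), zc_le Q ((resZ Q αh) v).2⟩ : Q) = αh ⟨v, zc_le Q v.2⟩ := rfl
    rw [h0]
    have h1 : αh (αh ⟨v, zc_le Q v.2⟩) = ⟨v, zc_le Q v.2⟩ := by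
      apply hψinj
      rw [hαhψ, hαhψ]
      obtain ⟨q₂, hq₂⟩ := hh2
      have h2 : ψ q₂ * ψ ⟨v, zc_le Q v.2⟩ = ψ ⟨v, zc_le Q v.2⟩ * ψ q₂ := by
        rw [← map_mul, ← map_mul]
        congr 1
        apply Subtype.ext
        exact hVcomm v v.2 q₂ q₂.2
      rw [hq₂, pow_two] at h2
      calc hh * (hh * ψ ⟨v, zc_le Q v.2⟩ * hh⁻¹) * hh⁻¹
          = (hh * hh) * ψ ⟨v, zc_le Q v.2⟩ * (hh * hh)⁻¹ := by group
        _ = ψ ⟨v, zc_le Q v.2⟩ * (hh * hh) * (hh * hh)⁻¹ := by rw [h2]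
        _ = ψ ⟨v, zc_le Q v.2⟩ := by group
    rw [h1]
  have hπ := step5 hS F Q hQS hFA x hxV
    (fun θ hθ r hr hrθ v hv hc => h2c F hM hθ hr hrθ hv hc) αg αh hαg hαh hgx hhx hτh hτg2 hτh2
  -- Step 6
  have hV2 : IsPGroup 2 V := hQ2.to_le hVQ
  haveI : Finite ↥V := finite_of_le (hVQ.trans hQS)
  have hVc : ∀ a b : V, a * b = b * a := by
    intro a b
    apply Subtype.ext
    exact hVcomm b.1 b.2 a.1 (hVQ a.2)
  letI cg : CommGroup V := { (inferInstance : Group V) with mul_comm := hVc }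
  obtain ⟨u₀, hu₀⟩ := exists_not_square (A := V) hV2 (resZ Q αg) (resZ Q αh) hτh2 hπ
  set u := (u₀ : Ω) with hu
  have huV : u ∈ V := u₀.2
  have hconjV : g * u * g⁻¹ ∈ V := (resZ Q αg u₀).2
  set w := u * (g * u * g⁻¹) with hw
  have hwV : w ∈ V := mul_mem huV hconjV
  have hwS : w ∈ S := hQS (hVQ hwV)
  have hwsq : ∀ c ∈ V, c ^ 2 ≠ w := by
    intro c hc hcw
    apply hu₀ ⟨c, hc⟩
    apply Subtype.ext
    have h1 : (((⟨c, hc⟩ : V) ^ 2 : V) : Ω) = c ^ 2 := rfl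
    have h2 : ((u₀ * resZ Q αg u₀ : V) : Ω) = u * (g * u * g⁻¹) := rfl
    rw [h1, h2, hcw]
  -- the element `g ^ 2`
  have hg2S : g ^ 2 ∈ S := hQS hg2
  obtain ⟨zq, hzq, hgzq⟩ := h (g ^ 2) hg2S
  set Y := cs S (g ^ 2) with hYdef
  have hgY : g ∈ Y := mem_cs.mpr ⟨hgS, by group⟩
  have hg2Y : g ^ 2 ∈ Y := mem_cs.mpr ⟨hg2S, rfl⟩
  have hVY : V ≤ Y := fun v hv => mem_cs.mpr ⟨hQS (hVQ hv), (hVcomm v hv _ hg2).symm⟩
  obtain ⟨θq, hθq, hθqg2⟩ := exists_hom_to_center hS F hF hzq hgzq Y (cs_le _ _) hg2Y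
    (fun r hr => (mem_cs.mp hr).2)
  have hθqS := (F.le_of_mem hθq).2
  set tg := θq ⟨g, hgY⟩ with htg
  have htgS : tg ∈ S := hθqS _
  have htg2 : tg ^ 2 = zq := by
    rw [← hθqg2, htg, ← map_pow]
    congr 1
  obtain ⟨c₁, hc₁, hc₁2⟩ := exists_sq_center hS F hF h hzq htgS (by
    rw [htg2]; exact isConjElt_refl F (mem_zc.mp hzq).1)
  have hc₁comm : ∀ y ∈ S, y * c₁ = c₁ * y := (mem_zc.mp hc₁).2
  set tu := θq ⟨u, hVY huV⟩ with htu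
  have htuS : tu ∈ S := hθqS _
  have hconjY : g * u * g⁻¹ ∈ Y := hVY hconjV
  have htgu : θq ⟨g * u * g⁻¹, hconjY⟩ = tg * tu * tg⁻¹ := by
    rw [htg, htu, ← map_inv, ← map_mul, ← map_mul]
    congr 1
  set s₁ := tg * c₁⁻¹ * tu with hs₁
  have hs₁S : s₁ ∈ S := mul_mem (mul_mem htgS (inv_mem (mem_zc.mp hc₁).1)) htuS
  have hwY : w ∈ Y := hVY hwV
  have hs₁2 : s₁ ^ 2 = θq ⟨w, hwY⟩ := by
    have h1 : θq ⟨w, hwY⟩ = tu * (tg * tu * tg⁻¹) := by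
      rw [← htgu, htu, ← map_mul]
      congr 1
    have h2 : (g * u * g⁻¹) * u = u * (g * u * g⁻¹) := hVcomm u huV _ (hVQ hconjV)
    have h3 : θq ⟨w, hwY⟩ = (tg * tu * tg⁻¹) * tu := by
      rw [← htgu, htu, ← map_mul]
      congr 1
      apply Subtype.ext
      exact h2.symm
    have h4 : c₁⁻¹ * tu = tu * c₁⁻¹ := by
      have := hc₁comm tu htuS
      calc c₁⁻¹ * tu = c₁⁻¹ * (tu * c₁) * c₁⁻¹ := by group
        _ = c₁⁻¹ * (c₁ * tu) * c₁⁻¹ := by rw [this]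
        _ = tu * c₁⁻¹ := by group
    have h5 : c₁⁻¹ * tg = tg * c₁⁻¹ := by
      have := hc₁comm tg htgS
      calc c₁⁻¹ * tg = c₁⁻¹ * (tg * c₁) * c₁⁻¹ := by group
        _ = c₁⁻¹ * (c₁ * tg) * c₁⁻¹ := by rw [this]
        _ = tg * c₁⁻¹ := by group
    have h6 : tg * tg = c₁ * c₁ := by rw [← pow_two, ← pow_two, htg2, hc₁2]
    have h7 : tu * (tg * tg)⁻¹ = (tg * tg)⁻¹ * tu := by
      have h8 : tu * (tg * tg) = (tg * tg) * tu := by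
        rw [← pow_two, htg2]
        exact (mem_zc.mp hzq).2 tu htuS
      calc tu * (tg * tg)⁻¹ = (tg * tg)⁻¹ * ((tg * tg) * tu) * (tg * tg)⁻¹ := by group
        _ = (tg * tg)⁻¹ * (tu * (tg * tg)) * (tg * tg)⁻¹ := by rw [h8]
        _ = (tg * tg)⁻¹ * tu := by group
    rw [h3, hs₁, pow_two]
    calc tg * c₁⁻¹ * tu * (tg * c₁⁻¹ * tu)
        = tg * (c₁⁻¹ * tu) * tg * (c₁⁻¹ * tu) := by group
      _ = tg * (tu * c₁⁻¹) * tg * (tu * c₁⁻¹) := by rw [h4]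
      _ = tg * tu * (c₁⁻¹ * tg) * tu * c₁⁻¹ := by group
      _ = tg * tu * (tg * c₁⁻¹) * tu * c₁⁻¹ := by rw [h5]
      _ = tg * tu * tg * (c₁⁻¹ * tu) * c₁⁻¹ := by group
      _ = tg * tu * tg * (tu * c₁⁻¹) * c₁⁻¹ := by rw [h4]
      _ = tg * tu * tg * tu * (c₁ * c₁)⁻¹ := by group
      _ = tg * tu * tg * tu * (tg * tg)⁻¹ := by rw [h6]
      _ = tg * tu * tg * (tu * (tg * tg)⁻¹) := by group
      _ = tg * tu * tg * ((tg * tg)⁻¹ * tu) := by rw [h7]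
      _ = tg * tu * tg⁻¹ * tu := by group
  -- `w` is conjugate to a central square
  obtain ⟨zw, hzw, hwzw⟩ := h w hwS
  have hconj1 : F.IsConjElt w (θq ⟨w, hwY⟩) := isConjElt_of_hom F hθq hwY
  have hconj2 : F.IsConjElt (s₁ ^ 2) zw := by
    rw [hs₁2]
    exact ThompsonFus.isConjElt_trans F (isConjElt_symm F hconj1) hwzw
  obtain ⟨c', hc', hc'2⟩ := exists_sq_center hS F hF h hzw hs₁S hconj2
  obtain ⟨θw, hθw, hθww⟩ := exists_hom_to_center hS F hF hzw hwzw Q hQS (hVQ hwV)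
    (fun r hr => hVcomm w hwV r hr)
  obtain ⟨v', hv', hθv'⟩ := h2b F hxS hxZ hM hθw hc'
  apply hwsq v' hv'
  have h1 : θw ⟨v' ^ 2, pow_mem (zc_le Q hv') 2⟩ = θw ⟨w, hVQ hwV⟩ := by
    have : (⟨v' ^ 2, pow_mem (zc_le Q hv') 2⟩ : Q) = ⟨v', zc_le Q hv'⟩ ^ 2 := rfl
    rw [this, map_pow, hθv', hc'2, hθww]
  exact congrArg Subtype.val (F.injective_of_mem hθw h1)

end Cfsg.Agent.H1.FusCH
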