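import Mathlib
import Cfsg.Prelude.Def_Characters
import Cfsg.Agent.Lib.helper3.CExt9
import Cfsg.Agent.Lib.helper3.SolvExt2
import Cfsg.Agent.Lib.helper3.Irr12

/-!
# S4914, piece B1: coprime extension above a normal Sylow subgroup (no solvability needed)
-/

set_option autoImplicit false
set_option linter.style.haveILetI false
set_option linter.unusedSectionVars false
set_option linter.unusedVariables false
set_option maxHeartbeats 1000000

namespace Cfsg.Agent.H1.GSExt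

open Cfsg Cfsg.Agent.Lib.helper3.Irr Cfsg.Agent.Lib.helper3.CharBasic
open Cfsg.Agent.Lib.helper3.SolvExt

universe u

variable {T : Type u} [Group T] [Finite T]

/-- extension to the preimage of a Sylow `r`-subgroup of the quotient, `r ≠ p`. -/
theorem exists_ext_prime (p : ℕ) [hp : Fact p.Prime] (Q : Subgroup T) [hQ : Q.Normal]
    (hQp : IsPGroup p ↥Q) (θ : ↥Q → ℂ) (hθ : IsIrrCharacter ↥Q θ)
    (hinv : ∀ (g : T) (n : Q), θ ⟨g * n * g⁻¹, hQ.conj_mem n n.2 g⟩ = θ n)
    (r : ℕ) (hr : r.Prime) (hrp : r ≠ p) :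
    ∃ (R : Subgroup T) (hQR : Q ≤ R) (η : R → ℂ),
      Nat.Coprime R.index r ∧ IsIrrCharacter R η ∧ ∀ n : Q, η ⟨(n : T), hQR n.2⟩ = θ n := by
  classical
  have hpp := hp.out
  haveI : Fact r.Prime := ⟨hr⟩
  obtain ⟨S⟩ : Nonempty (Sylow r (T ⧸ Q)) := inferInstance
  set R : Subgroup T := (S : Subgroup (T ⧸ Q)).comap (QuotientGroup.mk' Q) with hR
  have hQR : Q ≤ R := by
    intro n hn
    rw [hR, Subgroup.mem_comap]
    have : (QuotientGroup.mk' Q) n = 1 := (QuotientGroup.eq_one_iff n).mpr hn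
    rw [this]
    exact Subgroup.one_mem _
  have hRidx : R.index = (S : Subgroup (T ⧸ Q)).index :=
    Subgroup.index_comap_of_surjective _ (QuotientGroup.mk'_surjective Q)
  have hcopr : Nat.Coprime R.index r := by
    rw [hRidx, Nat.coprime_comm, Nat.Prime.coprime_iff_not_dvd hr]
    exact S.not_dvd_index
  have h1 : Q.relIndex R * R.index = Q.index := Subgroup.relIndex_mul_index hQR
  have h2 : Nat.card (S : Subgroup (T ⧸ Q)) * (S : Subgroup (T ⧸ Q)).index = Q.index := by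
    rw [Subgroup.card_mul_index, Subgroup.index_eq_card]
  have hidx0 : (S : Subgroup (T ⧸ Q)).index ≠ 0 := Subgroup.index_ne_zero_of_finite
  have h3 : Q.relIndex R = Nat.card (S : Subgroup (T ⧸ Q)) := by
    rw [hRidx, ← h2] at h1
    exact Nat.eq_of_mul_eq_mul_right (Nat.pos_of_ne_zero hidx0) h1
  obtain ⟨c, hc⟩ := IsPGroup.exists_card_eq S.isPGroup'
  have hrel : Q.relIndex R = r ^ c := by rw [h3, hc]
  -- transport θ
  let e : ↥(Q.subgroupOf R) ≃* ↥Q := Subgroup.subgroupOfEquivOfLe hQR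
  have he : ∀ k : ↥(Q.subgroupOf R), ((e k : Q) : T) = ((k : R) : T) := fun k => rfl
  set ϑ : ↥(Q.subgroupOf R) → ℂ := fun k => θ (e k) with hϑdef
  have hϑ : IsIrrCharacter ↥(Q.subgroupOf R) ϑ := isIrrCharacter_comp_mulEquiv e hθ
  haveI hQ' : (Q.subgroupOf R).Normal := Subgroup.normal_subgroupOf
  have hinv' : ∀ (g : R) (k : ↥(Q.subgroupOf R)),
      ϑ ⟨g * k * g⁻¹, hQ'.conj_mem (k : R) k.2 g⟩ = ϑ k := by
    intro g k
    have h1 := hinv (g : T) (e k)
    simp only [hϑdef]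
    rw [← h1]
    congr 1
  have hidx' : (Q.subgroupOf R).index = r ^ c := hrel
  have hsolv : Group.IsSolvable (↥R ⧸ Q.subgroupOf R) := by
    have hcard : Nat.card (↥R ⧸ Q.subgroupOf R) = r ^ c := by
      rw [← Subgroup.index_eq_card]; exact hidx'
    have hpg : IsPGroup r (↥R ⧸ Q.subgroupOf R) := IsPGroup.of_card hcard
    haveI : Group.IsNilpotent (↥R ⧸ Q.subgroupOf R) := hpg.isNilpotent
    infer_instance
  have hcop : Nat.Coprime (Nat.card ↥(Q.subgroupOf R)) (Q.subgroupOf R).index := by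
    have h1 : Nat.card ↥(Q.subgroupOf R) = Nat.card ↥Q := Nat.card_congr e.toEquiv
    obtain ⟨a, ha⟩ := IsPGroup.exists_card_eq hQp
    rw [h1, ha, hidx']
    apply Nat.Coprime.pow
    exact (Nat.coprime_primes hpp hr).mpr (Ne.symm hrp)
  obtain ⟨χ, hχ, hχN⟩ :=
    exists_extension_of_coprime_solvable (Q.subgroupOf R) hsolv ϑ hϑ hinv' hcop
  refine ⟨R, hQR, χ, hcopr, hχ, ?_⟩
  intro n
  have h1 := hχN (e.symm n)
  have h2 : ((e.symm n : ↥(Q.subgroupOf R)) : R) = ⟨(n : T), hQR n.2⟩ := by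
    apply Subtype.ext
    have := he (e.symm n)
    rw [MulEquiv.apply_symm_apply] at this
    exact this.symm
  rw [h2] at h1
  rw [h1]
  simp only [hϑdef, MulEquiv.apply_symm_apply]

/-- **B1**: an invariant irreducible character of a normal Sylow `p`-subgroup extends. -/
theorem exists_extension_normal_sylow (p : ℕ) [hp : Fact p.Prime] (Q : Subgroup T)
    [hQ : Q.Normal] (hQp : IsPGroup p ↥Q) (hidx : ¬ p ∣ Q.index) (θ : ↥Q → ℂ)
    (hθ : IsIrrCharacter ↥Q θ)
    (hinv : ∀ (g : T) (n : Q), θ ⟨g * n * g⁻¹, hQ.conj_mem n n.2 g⟩ = θ n) :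
    ∃ χ : T → ℂ, IsIrrCharacter T χ ∧ ∀ n : Q, χ n = θ n := by
  classical
  letI : Fintype T := Fintype.ofFinite T
  letI : Fintype Q := Fintype.ofFinite Q
  apply Cfsg.Agent.Lib.helper3.CExt.extends_of_local Q θ hθ hinv
  intro r hr
  by_cases hrp : r = p
  · subst hrp
    refine ⟨Q, le_refl _, θ, ?_, hθ, fun n => rfl⟩
    rw [Nat.coprime_comm, Nat.Prime.coprime_iff_not_dvd hr]
    exact hidx
  · exact exists_ext_prime p Q hQp θ hθ hinv r hr hrp

end Cfsg.Agent.H1.GSExt
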