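import Mathlib
import Cfsg.Prelude.Def_Characters
import Cfsg.Prelude.Def_CharExt
import Cfsg.Agent.Lib.helper3.GNS0
import Cfsg.Agent.Lib.helper3.GlCyc3
import Cfsg.Agent.Lib.helper3.Degrees
import Cfsg.Agent.Lib.helper3.Irr12
import Cfsg.Agent.S0867

/-!
# S4914, piece B: the `P`-invariant (canonical) extension of a `P`-fixed `θ ∈ Irr(Q)` to its
inertia group in `K`
-/

set_option autoImplicit false
set_option linter.style.haveILetI false
set_option linter.unusedSectionVars false
set_option linter.unusedVariables false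
set_option maxHeartbeats 1000000

namespace Cfsg.Agent.H1.GSInv

open Cfsg Cfsg.Agent.Lib.helper3.Irr Cfsg.Agent.Lib.helper3.CharBasic
open Cfsg.Agent.Lib.helper3.SolvExt Cfsg.Agent.Lib.helper3.GlCyc
open Cfsg.Agent.Lib.helper3.Glaub Cfsg.Agent.Lib.helper3.GlP Cfsg.Agent.Lib.helper3.GNS

variable {G : Type*} [Group G]

/-- conjugation by a normalizing element, as an automorphism of the subgroup. -/
def conjEquiv (T : Subgroup G) (x : G) (hx : x ∈ Subgroup.normalizer (T : Set G)) : ↥T ≃* ↥T where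
  toFun t := ⟨x * t * x⁻¹, (Subgroup.mem_normalizer_iff.mp hx t).mp t.2⟩
  invFun t := ⟨x⁻¹ * t * x, by
    have := (Subgroup.mem_normalizer_iff.mp (inv_mem hx) (t : G)).mp t.2
    rwa [inv_inv] at this⟩
  left_inv t := by
    apply Subtype.ext
    show x⁻¹ * (x * t * x⁻¹) * x = t
    group
  right_inv t := by
    apply Subtype.ext
    show x * (x⁻¹ * t * x) * x⁻¹ = t
    group
  map_mul' a b := by
    apply Subtype.ext
    show x * (a * b) * x⁻¹ = (x * a * x⁻¹) * (x * b * x⁻¹)
    group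

theorem conjEquiv_coe (T : Subgroup G) (x : G) (hx : x ∈ Subgroup.normalizer (T : Set G))
    (t : ↥T) : ((conjEquiv T x hx t : ↥T) : G) = x * t * x⁻¹ := rfl

/-- the order of a function composed with a bijection. -/
theorem orderOf_comp_equiv {A : Type*} (α : A ≃ A) (f : A → ℂ) :
    orderOf (fun a => f (α a)) = orderOf f := by
  rw [orderOf_eq_orderOf_iff]
  intro n
  constructor
  · intro h
    funext a
    have := congrFun h (α.symm a)
    simpa using this
  · intro h
    funext a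
    have := congrFun h (α a)
    simpa using this

theorem detOrder_comp_mulEquiv {A : Type*} [Group A] [Finite A] (α : A ≃* A) {χ : A → ℂ}
    (hχ : IsCharacter A χ) : detOrder (fun a => χ (α a)) = detOrder χ := by
  unfold detOrder
  have h : detChar (fun a => χ (α a)) = fun a => detChar χ (α a) := by
    funext a
    exact detChar_comp_hom α.toMonoidHom hχ a
  rw [h]
  exact orderOf_comp_equiv α.toEquiv (detChar χ)

variable [Finite G] (p : ℕ) [hp : Fact p.Prime] {P K Q C : Subgroup G}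

/-- `P` normalizes the inertia group of a `P`-fixed `θ`. -/
theorem le_normalizer_inertia (h : Hyp p P K Q C) (θ : ↥Q → ℂ) (hθ : PInv P Q θ) :
    P ≤ Subgroup.normalizer ((inertia K Q θ : Subgroup G) : Set G) := by
  have hPtop : P ≤ inertia ⊤ Q θ := by
    intro x hx
    exact ⟨Subgroup.mem_top x, h.hPQ hx, hθ x hx⟩
  have hinf : inertia K Q θ = inertia ⊤ Q θ ⊓ K := inertia_inf ⊤ K Q le_top θ
  intro x hx
  rw [Subgroup.mem_normalizer_iff]
  intro t
  have hxK := h.hPK hx
  rw [hinf, Subgroup.mem_inf, Subgroup.mem_inf]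
  constructor
  · rintro ⟨h1, h2⟩
    exact ⟨mul_mem (mul_mem (hPtop hx) h1) (inv_mem (hPtop hx)),
      (Subgroup.mem_normalizer_iff.mp hxK t).mp h2⟩
  · rintro ⟨h1, h2⟩
    refine ⟨?_, (Subgroup.mem_normalizer_iff.mp hxK t).mpr h2⟩
    have := mul_mem (mul_mem (inv_mem (hPtop hx)) h1) (hPtop hx)
    have e : x⁻¹ * (x * t * x⁻¹) * x = t := by group
    rwa [e] at this

/-- **Piece B**: the invariant extension. -/
theorem exists_inv_extension (h : Hyp p P K Q C) (θ : IrrCharacter ↥Q) (hθ : PInv P Q θ)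
    (T : Subgroup G) (hT : T = inertia K Q (θ : ↥Q → ℂ)) (hQT : Q ≤ T) :
    ∃ θh : IrrCharacter ↥T, res hQT (θh : ↥T → ℂ) = (θ : ↥Q → ℂ) ∧ PInv P T θh := by
  classical
  have hpp := hp.out
  have hTK : T ≤ K := by rw [hT]; exact inertia_le K Q _
  have hTn : T ≤ Subgroup.normalizer (Q : Set G) := by
    rw [hT]; exact inertia_le_normalizer K Q _
  have hPT : P ≤ Subgroup.normalizer (T : Set G) := by
    rw [hT]; exact le_normalizer_inertia p h _ hθ
  -- the normal subgroup
  haveI hN : (Q.subgroupOf T).Normal := by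
    constructor
    intro n hn g
    rw [Subgroup.mem_subgroupOf] at hn ⊢
    exact (Subgroup.mem_normalizer_iff.mp (hTn g.2) _).mp hn
  let e : ↥(Q.subgroupOf T) ≃* ↥Q := Subgroup.subgroupOfEquivOfLe hQT
  have he : ∀ k : ↥(Q.subgroupOf T), ((e k : Q) : G) = ((k : T) : G) := fun k => rfl
  set ϑ : ↥(Q.subgroupOf T) → ℂ := fun k => (θ : ↥Q → ℂ) (e k) with hϑdef
  have hϑ : IsIrrCharacter ↥(Q.subgroupOf T) ϑ := isIrrCharacter_comp_mulEquiv e θ.2
  have hϑc := isCharacter_of_isIrrCharacter hϑ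
  have hinv : ∀ (g : T) (k : ↥(Q.subgroupOf T)),
      ϑ ⟨g * k * g⁻¹, hN.conj_mem (k : T) k.2 g⟩ = ϑ k := by
    intro g k
    have hg : (g : G) ∈ inertia K Q (θ : ↥Q → ℂ) := by rw [← hT]; exact g.2
    have h3 := hg.2.2
    simp only [hϑdef]
    apply h3
    rfl
  letI : Fintype ↥(Q.subgroupOf T) := Fintype.ofFinite _
  obtain ⟨d, hd, hdvd, _⟩ := Cfsg.Agent.Lib.helper3.Central.irr_degree_dvd_card hϑ
  have hcardN : Nat.card ↥(Q.subgroupOf T) = Nat.card ↥Q := Nat.card_congr e.toEquiv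
  obtain ⟨a, ha⟩ := IsPGroup.exists_card_eq h.hQp
  have hidx : ¬ p ∣ (Q.subgroupOf T).index := by
    intro hdv
    apply h.hQsyl
    have := Subgroup.relIndex_mul_relIndex Q T K hQT hTK
    rw [← this]
    exact Dvd.dvd.mul_right hdv _
  have hcopp : Nat.Coprime (Q.subgroupOf T).index p := by
    rw [Nat.coprime_comm, Nat.Prime.coprime_iff_not_dvd hpp]
    exact hidx
  have hcop_of_dvd : ∀ m : ℕ, m ∣ Nat.card ↥(Q.subgroupOf T) →
      Nat.Coprime (Q.subgroupOf T).index m := by
    intro m hm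
    rw [hcardN, ha] at hm
    exact Nat.Coprime.coprime_dvd_right hm (Nat.Coprime.pow_right a hcopp)
  have hcop : Nat.Coprime (Q.subgroupOf T).index (detOrder ϑ * d) :=
    Nat.Coprime.mul_right (hcop_of_dvd _ (detOrder_dvd_card hϑc)) (hcop_of_dvd _ hdvd)
  obtain ⟨χ, ⟨hχ, hχN, hχo⟩, huniq⟩ :=
    Cfsg.Agent.S0867.result (Q.subgroupOf T) ϑ hϑ hinv d hd hcop
  have hχc := isCharacter_of_isIrrCharacter hχ
  refine ⟨⟨χ, hχ⟩, ?_, ?_⟩
  · funext q
    show χ ⟨q, hQT q.2⟩ = (θ : ↥Q → ℂ) q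
    have h1 := hχN (e.symm q)
    have h2 : ((e.symm q : ↥(Q.subgroupOf T)) : T) = ⟨(q : G), hQT q.2⟩ := by
      apply Subtype.ext
      have := he (e.symm q)
      rw [MulEquiv.apply_symm_apply] at this
      exact this.symm
    rw [h2] at h1
    rw [h1]
    simp only [hϑdef, MulEquiv.apply_symm_apply]
  · intro x hx
    set α := conjEquiv T x (hPT hx) with hα
    have hχ' : IsIrrCharacter ↥T (fun t => χ (α t)) := isIrrCharacter_comp_mulEquiv α hχ
    have hext' : ∀ n : ↥(Q.subgroupOf T), (fun t => χ (α t)) n = ϑ n := by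
      intro n
      have hmem : α (n : T) ∈ Q.subgroupOf T := by
        rw [Subgroup.mem_subgroupOf, hα, conjEquiv_coe]
        exact (Subgroup.mem_normalizer_iff.mp (h.hPQ hx) _).mp (Subgroup.mem_subgroupOf.mp n.2)
      have h1 := hχN ⟨α (n : T), hmem⟩
      show χ (α (n : T)) = ϑ n
      rw [h1]
      simp only [hϑdef]
      exact hθ x hx (e n) (e ⟨α (n : T), hmem⟩) rfl
    have hdet' : Nat.Coprime (Q.subgroupOf T).index (detOrder (fun t => χ (α t))) := by
      rw [detOrder_comp_mulEquiv α hχc, hχo]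
      exact hcop_of_dvd _ (detOrder_dvd_card hϑc)
    have heq := huniq _ hχ' hext' hdet'
    intro g g' hgg'
    have hg' : g' = α g := by
      apply Subtype.ext
      rw [hgg', hα, conjEquiv_coe]
    show χ g' = χ g
    rw [hg']
    exact congrFun heq g

end Cfsg.Agent.H1.GSInv
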