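import Mathlib
import Cfsg.Prelude.Def_Transfer
import Cfsg.Prelude.Def_PLocal
import Cfsg.Prelude.Def_TwoFusion
import Cfsg.Agent.Lib.Helper4.GT
import Cfsg.Agent.Lib.Helper4.GTZJ

set_option autoImplicit false
set_option linter.style.haveILetI false
set_option linter.unusedVariables false
set_option linter.unusedSectionVars false

open scoped commutatorElement

namespace Cfsg.Agent.H1

open Cfsg Cfsg.Agent.Lib.Helper4.PNil Cfsg.Agent.Lib.Helper4.GT Cfsg.Agent.Lib.Helper4.GTZJ
  Cfsg.Agent.Lib.Lead.Conj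

section minstruct
universe u
variable {p : ℕ} {G : Type u} [Group G] [Finite G]

/-- **Structure of a minimal non-`p`-nilpotent configuration** (`p` odd): if every proper subgroup containing the
Sylow `p`-subgroup `P` has a normal `p`-complement, `O_{p'}(G) = 1` and `G` has no normal `p`-complement, then
`H = O_p(G)` contains its centralizer, `G/H` has an abelian normal `p`-complement `K₁/H`, `G` acts `p`-stably on its
normal `p`-subgroups and `P` is a maximal subgroup of `G`. -/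
theorem minimal_nonPNil_structure [Fact p.Prime] (hp2 : p ≠ 2) (P : Sylow p G)
    (ihP : ∀ L : Subgroup G, (P : Subgroup G) ≤ L → L ≠ ⊤ → PNil p L)
    (hO : Cfsg.pPrimeCore p G = ⊥) (hnot : ¬ PNil p (⊤ : Subgroup G)) :
    ∃ K₁ : Subgroup G, K₁.Normal ∧ Cfsg.pCore p G ≤ K₁ ∧
      Subgroup.centralizer (Cfsg.pCore p G : Set G) ≤ Cfsg.pCore p G ∧
      ((Cfsg.pCore p G).relIndex K₁).Coprime p ∧ (∃ k : ℕ, K₁.index = p ^ k) ∧
      ⁅K₁, K₁⁆ ≤ Cfsg.pCore p G ∧
      (∀ (V : Subgroup G) [V.Normal], IsPGroup p ↥V → Cfsg.IsPStableOn p V) ∧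
      (∀ L : Subgroup G, (P : Subgroup G) ≤ L → L = (P : Subgroup G) ∨ L = ⊤) := by
  have hPp : IsPGroup p ↥(P : Subgroup G) := P.isPGroup'
  obtain ⟨H, hHdef⟩ : ∃ H : Subgroup G, H = Cfsg.pCore p G := ⟨_, rfl⟩
  haveI hHn : H.Normal := by rw [hHdef]; exact Cfsg.Agent.H9.pCore_normal p G
  have hHp : IsPGroup p ↥H := by rw [hHdef]; exact Cfsg.Agent.H9.pCore_isPGroup p G
  have hHP : H ≤ (P : Subgroup G) := hHp.le_sylow_of_normal P
  have hle_H : ∀ (V : Subgroup G) [V.Normal], IsPGroup p ↥V → V ≤ H := by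
    intro V _ hV
    rw [hHdef]; exact Cfsg.Agent.H9.le_pCore V hV
  have hK : ∀ K' : Subgroup G, H ≤ K' → K' ≤ (P : Subgroup G) → K' ≠ H →
      (P : Subgroup G) ≤ Subgroup.normalizer (K' : Set G) →
      PNil p (Subgroup.normalizer (K' : Set G)) := by
    intro K' hHK' hK'P hne hPK'
    apply ihP _ hPK'
    intro htop
    apply hne
    haveI : K'.Normal := Subgroup.normalizer_eq_top_iff.mp htop
    exact le_antisymm (hle_H K' (hPp.to_le hK'P)) hHK'
  have hQ : PNil p (⊤ : Subgroup (G ⧸ H)) := by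
    by_cases hPH : (P : Subgroup G) ≤ H
    · -- `G ⧸ H` is a `p'`-group
      have hPeq : (P : Subgroup G) = H := le_antisymm hPH hHP
      refine ⟨⊤, le_rfl, Subgroup.le_normalizer, ?_, 0, ?_⟩
      · rw [Subgroup.card_top, ← Subgroup.index_eq_card, ← hPeq]
        exact (Nat.Coprime.symm ((Nat.Prime.coprime_iff_not_dvd Fact.out).mpr P.not_dvd_index))
      · rw [Subgroup.relIndex_top_right, Subgroup.index_top, pow_zero]
    · have hcl : Cfsg.IsStronglyClosed (P : Subgroup G) (P : Subgroup G) :=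
        ⟨le_rfl, fun x _ g hg => hg⟩
      exact gt_quot_p (pFunctor_WAb hp2) H
        (gt_all hp2 (pFunctor_WAb hp2) _ (G ⧸ H) rfl) P hHP (P : Subgroup G) hcl hPH hK
  obtain ⟨Mb, -, hMbn, hMbc, k, hMbk⟩ := hQ
  haveI hMn : Mb.Normal := Subgroup.normalizer_eq_top_iff.mp (top_le_iff.mp hMbn)
  have hs := QuotientGroup.mk'_surjective H
  have hker : ∀ x : G, QuotientGroup.mk' H x = 1 ↔ x ∈ H := by
    intro x
    rw [QuotientGroup.mk'_apply, QuotientGroup.eq_one_iff]
  obtain ⟨K₁, hK₁⟩ : ∃ K₁ : Subgroup G, K₁ = Mb.comap (QuotientGroup.mk' H) := ⟨_, rfl⟩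
  haveI hK₁n : K₁.Normal := by rw [hK₁]; exact hMn.comap _
  have hHK : H ≤ K₁ := by
    intro x hx
    rw [hK₁, Subgroup.mem_comap, (hker x).mpr hx]
    exact Mb.one_mem
  have hHcomap : Subgroup.comap (QuotientGroup.mk' H) ⊥ = H := by
    ext x
    rw [Subgroup.mem_comap, Subgroup.mem_bot, hker]
  have hK₁map : K₁.map (QuotientGroup.mk' H) = Mb := by
    rw [hK₁]; exact Subgroup.map_comap_eq_self_of_surjective hs Mb
  have hrel : H.relIndex K₁ = Nat.card ↥Mb := by
    have h1 : (Subgroup.comap (QuotientGroup.mk' H) ⊥).relIndex K₁ = Nat.card ↥Mb := by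
      rw [Subgroup.relIndex_comap, hK₁map, Subgroup.relIndex_bot_left]
    rw [hHcomap] at h1
    exact h1
  have hcop : (H.relIndex K₁).Coprime p := by rw [hrel]; exact hMbc
  have hidx : K₁.index = p ^ k := by
    rw [hK₁, Subgroup.index_comap_of_surjective Mb hs, ← Subgroup.relIndex_top_right]
    exact hMbk
  have hsol : Cfsg.IsPSolvable p G := by
    refine ⟨3, ![⊥, H, K₁, ⊤], rfl, rfl, ?_, ?_, ?_⟩
    · rw [Fin.monotone_iff_le_succ]
      intro i
      fin_cases i
      · exact bot_le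
      · exact hHK
      · exact le_top
    · intro i
      fin_cases i
      · show (⊥ : Subgroup G).Normal; infer_instance
      · exact hHn
      · exact hK₁n
      · show (⊤ : Subgroup G).Normal; infer_instance
    · intro i
      fin_cases i
      · left
        obtain ⟨m, hm⟩ := hHp.exists_card_eq
        refine ⟨m, ?_⟩
        show (⊥ : Subgroup G).relIndex H = p ^ m
        rw [Subgroup.relIndex_bot_left]; exact hm
      · right
        exact hcop
      · left
        refine ⟨k, ?_⟩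
        show K₁.relIndex ⊤ = p ^ k
        rw [Subgroup.relIndex_top_right]; exact hidx
  have hC : Subgroup.centralizer (H : Set G) ≤ H := by
    rw [hHdef]
    exact Cfsg.Agent.Lib.Lead.PSolvable.centralizer_pCore_le hsol hO
  have hab := endgame P H hHp hC ihP Mb hMbc
  have hab' : ⁅K₁, K₁⁆ ≤ H := by
    rw [Subgroup.commutator_le]
    intro a ha b hb
    rw [← hker, map_commutatorElement]
    have h1 : ⁅(QuotientGroup.mk' H) a, (QuotientGroup.mk' H) b⁆ ∈ ⁅Mb, Mb⁆ := by
      apply Subgroup.commutator_mem_commutator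
      · rw [hK₁] at ha; exact ha
      · rw [hK₁] at hb; exact hb
    rw [hab, Subgroup.mem_bot] at h1
    exact h1
  have hst : ∀ (V : Subgroup G) [V.Normal], IsPGroup p ↥V → Cfsg.IsPStableOn p V := by
    intro V _ hV
    exact Cfsg.Agent.Lib.Helper4.PStab.isPStableOn_of_series hp2 H K₁ hHK hHp hcop hab' ⟨k, hidx⟩ V
      (hle_H V hV)
  refine ⟨K₁, hK₁n, hHdef ▸ hHK, hHdef ▸ hC, hHdef ▸ hcop, ⟨k, hidx⟩, hHdef ▸ hab', hst, ?_⟩
  -- `P` is maximal
  intro L hPL
  by_cases hLt : L = ⊤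
  · exact Or.inr hLt
  · left
    obtain ⟨M, hML, hn, hc, j, hj⟩ := ihP L hPL hLt
    have hinf : M ⊓ H = ⊥ := Cfsg.Agent.H1.inf_eq_bot_of_pgroup_coprime M H hHp hc
    have hMC : M ≤ Subgroup.centralizer (H : Set G) := by
      intro m hm
      rw [Subgroup.mem_centralizer_iff]
      intro h hh
      have hhn : h ∈ Subgroup.normalizer (M : Set G) := hn (hPL (hHP hh))
      have h1 : h * m * h⁻¹ ∈ M := (Subgroup.mem_normalizer_iff.mp hhn m).mp hm
      have h2 : h * m * h⁻¹ * m⁻¹ ∈ M := M.mul_mem h1 (M.inv_mem hm)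
      have h3 : h * m * h⁻¹ * m⁻¹ ∈ H := by
        have h4 : m * h⁻¹ * m⁻¹ ∈ H := hHn.conj_mem _ (H.inv_mem hh) m
        have e : h * m * h⁻¹ * m⁻¹ = h * (m * h⁻¹ * m⁻¹) := by group
        rw [e]; exact H.mul_mem hh h4
      have h5 : h * m * h⁻¹ * m⁻¹ ∈ M ⊓ H := ⟨h2, h3⟩
      rw [hinf, Subgroup.mem_bot] at h5
      calc h * m = (h * m * h⁻¹ * m⁻¹) * (m * h) := by group
        _ = m * h := by rw [h5, one_mul]
    have hMb : M = ⊥ := by
      rw [eq_bot_iff, ← hinf]
      exact le_inf le_rfl (hMC.trans hC)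
    have hLp : IsPGroup p ↥L := by
      apply IsPGroup.of_card (n := j)
      rw [← hj, hMb, Subgroup.relIndex_bot_left]
    exact P.is_maximal' hLp hPL

end minstruct

end Cfsg.Agent.H1
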