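import Mathlib
import Cfsg.Prelude.Def_PLocal
import Cfsg.Agent.H1.GlS3B
import Cfsg.Agent.H2.BG37a
import Cfsg.Agent.H1.QuadStable
import Cfsg.Agent.Lib.Helper7.Kieler2
import Cfsg.Agent.Lib.Helper4.SolvPSolv

/-!
# The module `V = ⟨Z(T)^X⟩` and `Ω₁(V)`
-/

set_option autoImplicit false

namespace Cfsg.Agent.H1.GlS3

open scoped commutatorElement
open Cfsg.Agent.Lib.Helper4.Offender Cfsg.Agent.Lib.Helper4.FFPair Cfsg.Agent.Lib.Helper4.FFHol

variable {X : Type*} [Group X]

/-- core of the centralizer = centralizer of the normal closure -/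
theorem normalCore_centralizer (Z : Subgroup X) :
    (Subgroup.centralizer (Z : Set X)).normalCore =
      Subgroup.centralizer ((Subgroup.normalClosure (Z : Set X) : Subgroup X) : Set X) := by
  apply le_antisymm
  · set K := (Subgroup.centralizer (Z : Set X)).normalCore with hK
    have h1 : K ≤ Subgroup.centralizer (Z : Set X) := Subgroup.normalCore_le _
    have h2 : Z ≤ Subgroup.centralizer (K : Set X) := Subgroup.le_centralizer_iff.1 h1
    have h3 : Subgroup.normalClosure (Z : Set X) ≤ Subgroup.centralizer (K : Set X) :=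
      Subgroup.normalClosure_le_normal h2
    exact Subgroup.le_centralizer_iff.1 h3
  · rw [Subgroup.normal_le_normalCore]
    exact Subgroup.centralizer_le Subgroup.subset_normalClosure

theorem mem_omegaOne_iff {V : Subgroup X} (hVc : ∀ s ∈ V, ∀ t ∈ V, s * t = t * s) {x : X} :
    x ∈ Cfsg.omegaOne 2 V ↔ x ∈ V ∧ x ^ 2 = 1 := by
  constructor
  · intro hx
    refine ⟨?_, (Cfsg.Agent.H1.omegaOne_elementary 2 V hVc).2 x hx⟩
    have hle : Cfsg.omegaOne 2 V ≤ V := by
      unfold Cfsg.omegaOne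
      rw [Subgroup.closure_le]
      intro y hy
      exact hy.1
    exact hle hx
  · intro hx
    exact Subgroup.subset_closure hx

theorem omegaOne_le (V : Subgroup X) : Cfsg.omegaOne 2 V ≤ V := by
  unfold Cfsg.omegaOne
  rw [Subgroup.closure_le]
  intro y hy
  exact hy.1

theorem omegaOne_normal {V : Subgroup X} [hVn : V.Normal]
    (hVc : ∀ s ∈ V, ∀ t ∈ V, s * t = t * s) : (Cfsg.omegaOne 2 V).Normal := by
  constructor
  intro n hn g
  rw [mem_omegaOne_iff hVc] at hn ⊢
  refine ⟨hVn.conj_mem n hn.1 g, ?_⟩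
  rw [conj_pow, hn.2]; group

theorem omegaOne_elem {V : Subgroup X} (hVc : ∀ s ∈ V, ∀ t ∈ V, s * t = t * s) :
    Cfsg.IsElementaryAbelian 2 (Cfsg.omegaOne 2 V) := by
  obtain ⟨h1, h2⟩ := Cfsg.Agent.H1.omegaOne_elementary 2 V hVc
  exact ⟨⟨⟨fun x y => Subtype.ext (h1 x x.2 y y.2)⟩⟩, h2⟩

section fin
variable [Finite X]

/-- `Z(T) ≤ Z(O_2(X))` -/
theorem center_sylow_le [Group.IsSolvable X]
    (hF : Cfsg.fittingSubgroup X = Cfsg.pCore 2 X) (T : Sylow 2 X) :
    (T : Subgroup X) ⊓ Subgroup.centralizer ((T : Subgroup X) : Set X) ≤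
      Cfsg.pCore 2 X ⊓ Subgroup.centralizer (Cfsg.pCore 2 X : Set X) := by
  intro x hx
  obtain ⟨_, hxC⟩ := Subgroup.mem_inf.1 hx
  have h1 : x ∈ Subgroup.centralizer (Cfsg.pCore 2 X : Set X) :=
    cent_anti (Cfsg.Agent.H1.pCore_le_sylow T) hxC
  refine Subgroup.mem_inf.2 ⟨?_, h1⟩
  rw [← hF] at h1 ⊢
  exact Cfsg.Agent.H2.BG37.centralizer_fitting_le h1

/-- `O_2(X / C_X(V)) = 1` -/
theorem le_centralizer_of_relIndex (T : Sylow 2 X) {Z V : Subgroup X} [hVn : V.Normal]
    (hZV : Z ≤ V) (hZT : (T : Subgroup X) ≤ Subgroup.centralizer (Z : Set X))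
    (hgen : ∀ N : Subgroup X, N.Normal → Z ≤ N → V ≤ N)
    (D : Subgroup X) [hDn : D.Normal] {k : ℕ}
    (hk : (D ⊓ Subgroup.centralizer (V : Set X)).relIndex D = 2 ^ k) :
    D ≤ Subgroup.centralizer (V : Set X) := by
  haveI : Fact (Nat.Prime 2) := ⟨Nat.prime_two⟩
  set S := (T : Subgroup X) ⊓ D with hS
  set K := D ⊓ Subgroup.centralizer (V : Set X) with hK
  have hSyl : Cfsg.Agent.Lib.Helper7.IsSylowIn 2 S D :=
    (Cfsg.Agent.Lib.Helper7.IsSylowIn.of_sylow_top T).inf_normal D le_top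
      (by rw [Subgroup.normalizer_eq_top])
  have hodd := hSyl.not_dvd_relIndex
  have hd1 : (K ⊔ S).relIndex D ∣ 2 ^ k := by
    rw [← hk]; exact Subgroup.relIndex_dvd_of_le_left D le_sup_left
  have hd2 : (K ⊔ S).relIndex D ∣ S.relIndex D := Subgroup.relIndex_dvd_of_le_left D le_sup_right
  have hone : (K ⊔ S).relIndex D = 1 := by
    obtain ⟨j, _, hj⟩ := (Nat.dvd_prime_pow Nat.prime_two).1 hd1
    rcases Nat.eq_zero_or_pos j with rfl | hj0
    · simpa using hj
    · exfalso
      apply hodd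
      refine dvd_trans ?_ hd2
      rw [hj]
      exact dvd_pow_self 2 (by omega)
  have hDle : D ≤ K ⊔ S := Subgroup.relIndex_eq_one.1 hone
  have hZK : Z ≤ Subgroup.centralizer (K : Set X) := by
    rw [Subgroup.le_centralizer_iff]
    exact inf_le_right.trans (cent_anti hZV)
  have hZS : Z ≤ Subgroup.centralizer (S : Set X) := by
    rw [Subgroup.le_centralizer_iff]
    exact inf_le_left.trans hZT
  have hZD : Z ≤ Subgroup.centralizer (D : Set X) := by
    refine le_trans ?_ (cent_anti hDle)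
    rw [centralizer_sup']
    exact le_inf hZK hZS
  have hVD : V ≤ Subgroup.centralizer (D : Set X) := hgen _ inferInstance hZD
  exact Subgroup.le_centralizer_iff.1 hVD

/-- an element of odd order centralizing `Ω₁(V)` centralizes the abelian `2`-group `V` -/
theorem mem_centralizer_of_odd {V : Subgroup X} [hVn : V.Normal]
    (hVc : ∀ s ∈ V, ∀ t ∈ V, s * t = t * s) (hVp : IsPGroup 2 V) {g : X}
    (hg : g ∈ Subgroup.centralizer (Cfsg.omegaOne 2 V : Set X)) (hodd : Odd (orderOf g)) :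
    g ∈ Subgroup.centralizer (V : Set X) := by
  have key : ∀ n : ℕ, ∀ v ∈ V, v ^ (2 ^ n) = 1 → g * v * g⁻¹ = v := by
    intro n
    induction n with
    | zero =>
      intro v _ hv1
      rw [pow_zero, pow_one] at hv1
      rw [hv1]; group
    | succ n ih =>
      intro v hv hv1
      have hv2 : (v ^ 2) ^ (2 ^ n) = 1 := by
        rw [← pow_mul, ← pow_succ']; exact hv1
      have h1 := ih (v ^ 2) (V.pow_mem hv 2) hv2
      obtain ⟨u, hu⟩ : ∃ u, u = g * v * g⁻¹ := ⟨_, rfl⟩
      have huV : u ∈ V := hu ▸ hVn.conj_mem v hv g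
      obtain ⟨c, hc⟩ : ∃ c, c = u * v⁻¹ := ⟨_, rfl⟩
      have hcV : c ∈ V := hc ▸ V.mul_mem huV (V.inv_mem hv)
      have hu2 : u ^ 2 = v ^ 2 := by rw [hu, conj_pow]; exact h1
      have hc2 : c ^ 2 = 1 := by
        have hcomm : Commute u v⁻¹ := hVc u huV v⁻¹ (V.inv_mem hv)
        rw [hc, hcomm.mul_pow, hu2, inv_pow, mul_inv_cancel]
      have hcO : c ∈ Cfsg.omegaOne 2 V := (mem_omegaOne_iff hVc).2 ⟨hcV, hc2⟩
      have hgc : g * c = c * g := (Subgroup.mem_centralizer_iff.1 hg c hcO).symm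
      have huv : g * v * g⁻¹ = c * v := by rw [hc, hu]; group
      have hpow : ∀ k : ℕ, g ^ k * v * (g ^ k)⁻¹ = c ^ k * v := by
        intro k
        induction k with
        | zero => simp
        | succ k ihk =>
          have e1 : g ^ (k + 1) * v * (g ^ (k + 1))⁻¹ = g * (g ^ k * v * (g ^ k)⁻¹) * g⁻¹ := by
            rw [pow_succ']; group
          have e2 : g * c ^ k = c ^ k * g := ((show Commute g c from hgc).pow_right k).eq
          rw [e1, ihk]
          calc g * (c ^ k * v) * g⁻¹ = (g * c ^ k) * v * g⁻¹ := by group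
            _ = c ^ k * (g * v * g⁻¹) := by rw [e2]; group
            _ = c ^ k * (c * v) := by rw [huv]
            _ = c ^ (k + 1) * v := by rw [pow_succ]; group
      have h2 := hpow (orderOf g)
      rw [pow_orderOf_eq_one] at h2
      have h3 : c ^ orderOf g = 1 := by
        have : v = c ^ orderOf g * v := by simpa using h2
        exact (mul_eq_right.1 this.symm)
      obtain ⟨m, hm⟩ := hodd
      have h4 : c = 1 := by
        rw [hm, pow_succ, pow_mul, hc2, one_pow, one_mul] at h3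
        exact h3
      rw [huv, h4, one_mul]
  rw [Subgroup.mem_centralizer_iff]
  intro v hv
  obtain ⟨n, hn⟩ := hVp ⟨v, hv⟩
  have hn' : v ^ (2 ^ n) = 1 := by
    have := congrArg Subtype.val hn
    simpa using this
  have := key n v hv hn'
  calc v * g = (g * v * g⁻¹) * g := by rw [this]
    _ = g * v := by group

/-- `C_X(Ω₁(V)) = C_X(V)` -/
theorem centralizer_omega_le (T : Sylow 2 X) {Z V : Subgroup X} [hVn : V.Normal]
    (hVc : ∀ s ∈ V, ∀ t ∈ V, s * t = t * s) (hVp : IsPGroup 2 V)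
    (hZV : Z ≤ V) (hZT : (T : Subgroup X) ≤ Subgroup.centralizer (Z : Set X))
    (hgen : ∀ N : Subgroup X, N.Normal → Z ≤ N → V ≤ N) :
    Subgroup.centralizer (Cfsg.omegaOne 2 V : Set X) ≤ Subgroup.centralizer (V : Set X) := by
  haveI := omegaOne_normal hVc
  set D := Subgroup.centralizer (Cfsg.omegaOne 2 V : Set X) with hD
  haveI hDn : D.Normal := Subgroup.normal_centralizer
  set K := D ⊓ Subgroup.centralizer (V : Set X) with hK
  have hne : K.relIndex D ≠ 0 := Subgroup.index_ne_zero_of_finite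
  have hpow := Nat.eq_prime_pow_of_unique_prime_dvd (p := 2) hne (by
    intro r hr hrd
    by_contra hr2
    haveI : Fact r.Prime := ⟨hr⟩
    obtain ⟨R⟩ : Nonempty (Sylow r ↥D) := inferInstance
    have hSyl := Cfsg.Agent.Lib.Helper7.IsSylowIn.of_sylow R
    apply hSyl.not_dvd_relIndex
    refine dvd_trans hrd (Subgroup.relIndex_dvd_of_le_left D ?_)
    rintro x ⟨y, hy, rfl⟩
    refine Subgroup.mem_inf.2 ⟨y.2, ?_⟩
    apply mem_centralizer_of_odd hVc hVp y.2
    obtain ⟨j, hj⟩ := (IsPGroup.iff_orderOf.1 R.isPGroup') ⟨y, hy⟩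
    have h1 : orderOf (y : X) = r ^ j := by
      rw [Subgroup.orderOf_coe, ← hj, ← Subgroup.orderOf_coe (⟨y, hy⟩ : ↥(R : Subgroup ↥D))]
    show Odd (orderOf (y : X))
    rw [h1]
    exact Odd.pow (hr.odd_of_ne_two hr2))
  exact le_centralizer_of_relIndex T hZV hZT hgen D hpow

theorem noPCore_omega (T : Sylow 2 X) {Z V : Subgroup X} [hVn : V.Normal]
    (hVc : ∀ s ∈ V, ∀ t ∈ V, s * t = t * s) (hVp : IsPGroup 2 V)
    (hZV : Z ≤ V) (hZT : (T : Subgroup X) ≤ Subgroup.centralizer (Z : Set X))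
    (hgen : ∀ N : Subgroup X, N.Normal → Z ≤ N → V ≤ N) :
    @NoPCore X _ (Cfsg.omegaOne 2 V) (omegaOne_normal hVc) 2 := by
  haveI : Fact (Nat.Prime 2) := ⟨Nat.prime_two⟩
  haveI := omegaOne_normal hVc
  have hCC : Subgroup.centralizer (Cfsg.omegaOne 2 V : Set X) = Subgroup.centralizer (V : Set X) :=
    le_antisymm (centralizer_omega_le T hVc hVp hZV hZT hgen) (cent_anti (omegaOne_le V))
  apply noPCore_of_relIndex
  intro D hDn hCD hk
  haveI := hDn
  obtain ⟨k, hk⟩ := hk
  rw [hCC] at hCD hk ⊢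
  have h1 : D ⊓ Subgroup.centralizer (V : Set X) = Subgroup.centralizer (V : Set X) :=
    inf_eq_right.2 hCD
  exact le_antisymm (le_centralizer_of_relIndex T hZV hZT hgen D (h1.symm ▸ hk)) hCD

end fin

end Cfsg.Agent.H1.GlS3
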