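import Mathlib
import Cfsg.Prelude.Def_PLocal
import Cfsg.Agent.H1.GlS3C
import Cfsg.Agent.H1.ThompsonFact
import Cfsg.Agent.H2.PLayerEquiv
import Cfsg.Agent.Lib.Helper4.ZJ

/-!
# The abelian-version Thompson subgroup: generators, Frattini argument; conjugation of best
offenders; internal direct products
-/

set_option autoImplicit false

namespace Cfsg.Agent.H1.GlS3

open scoped commutatorElement
open Cfsg.Agent.Lib.Helper4.Offender Cfsg.Agent.Lib.Helper4.FFPair Cfsg.Agent.Lib.Helper4.FFHol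
open Cfsg.Agent.Lib.Helper4.ZJ

variable {X : Type*} [Group X]

/-- `J(P)` (abelian version) is generated by the largest abelian subgroups of `P` -/
theorem thompsonA_le_iff [Finite X] (P K : Subgroup X) :
    Cfsg.thompsonSubgroupAOf P ≤ K ↔
      ∀ A ∈ fam (fun A : Subgroup X => IsMulCommutative A) P, A ≤ K := by
  have hinj : Function.Injective P.subtype := P.subtype_injective
  have hB2 : ∀ A₀ ∈ Cfsg.maxAbelianSubgroups ↥P,
      A₀.map P.subtype ∈ fam (fun A : Subgroup X => IsMulCommutative A) P := by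
    intro A₀ hA₀
    obtain ⟨hab, hmax⟩ := hA₀
    haveI : IsMulCommutative A₀ := hab
    refine mem_fam.mpr ⟨Subgroup.map_subtype_le A₀, inferInstance, fun B hB hBab => ?_⟩
    haveI : IsMulCommutative B := hBab
    have h1 := hmax (B.subgroupOf P) inferInstance
    rw [Nat.card_congr (Subgroup.subgroupOfEquivOfLe hB).toEquiv] at h1
    rw [← Nat.card_congr (A₀.equivMapOfInjective P.subtype hinj).toEquiv]
    exact h1
  have hB1 : ∀ A ∈ fam (fun A : Subgroup X => IsMulCommutative A) P,
      A.subgroupOf P ∈ Cfsg.maxAbelianSubgroups ↥P := by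
    intro A hA
    obtain ⟨hAP, hAab, hmax⟩ := mem_fam.mp hA
    haveI : IsMulCommutative A := hAab
    refine ⟨inferInstance, fun B₀ hB₀ => ?_⟩
    haveI : IsMulCommutative B₀ := hB₀
    have h1 := hmax (B₀.map P.subtype) (Subgroup.map_subtype_le B₀) inferInstance
    rw [← Nat.card_congr (B₀.equivMapOfInjective P.subtype hinj).toEquiv] at h1
    rw [Nat.card_congr (Subgroup.subgroupOfEquivOfLe hAP).toEquiv]
    exact h1
  have hJdef : Cfsg.thompsonSubgroupAOf P = (sSup (Cfsg.maxAbelianSubgroups ↥P)).map P.subtype :=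
    rfl
  constructor
  · intro hJK A hA
    have h1 := hB1 A hA
    have h2 : (A.subgroupOf P).map P.subtype ≤ Cfsg.thompsonSubgroupAOf P := by
      rw [hJdef]; exact Subgroup.map_mono (le_sSup h1)
    rw [Subgroup.map_subgroupOf_eq_of_le (mem_fam.mp hA).1] at h2
    exact h2.trans hJK
  · intro hK
    rw [hJdef, Subgroup.map_le_iff_le_comap]
    apply sSup_le
    intro A₀ hA₀
    rw [← Subgroup.map_le_iff_le_comap]
    exact hK _ (hB2 A₀ hA₀)

theorem le_thompsonA [Finite X] {P A : Subgroup X}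
    (hA : A ∈ fam (fun A : Subgroup X => IsMulCommutative A) P) :
    A ≤ Cfsg.thompsonSubgroupAOf P :=
  (thompsonA_le_iff P _).1 le_rfl A hA

theorem thompsonA_le [Finite X] (P : Subgroup X) : Cfsg.thompsonSubgroupAOf P ≤ P :=
  Subgroup.map_subtype_le _

/-- `N(D) ≤ N(J(P))` for `J(P) ≤ D ≤ P` -/
theorem normalizer_le_normalizer_thompsonA [Finite X] {P D : Subgroup X}
    (hJD : Cfsg.thompsonSubgroupAOf P ≤ D) (hDP : D ≤ P) :
    Subgroup.normalizer (D : Set X) ≤ Subgroup.normalizer (Cfsg.thompsonSubgroupAOf P : Set X) := by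
  have key : ∀ g ∈ Subgroup.normalizer (D : Set X), ∀ x ∈ Cfsg.thompsonSubgroupAOf P,
      g * x * g⁻¹ ∈ Cfsg.thompsonSubgroupAOf P := by
    intro g hg
    have hle : Cfsg.thompsonSubgroupAOf P ≤
        (Cfsg.thompsonSubgroupAOf P).comap (MulAut.conj g).toMonoidHom := by
      rw [thompsonA_le_iff]
      intro A hA
      rw [← Subgroup.map_le_iff_le_comap]
      apply le_thompsonA
      obtain ⟨hAP, hAab, hmax⟩ := mem_fam.mp hA
      haveI : IsMulCommutative A := hAab
      refine mem_fam.mpr ⟨?_, Subgroup.map_isMulCommutative A _, ?_⟩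
      · have h1 : A.map (MulAut.conj g).toMonoidHom ≤ D.map (MulAut.conj g).toMonoidHom :=
          Subgroup.map_mono ((le_thompsonA hA).trans hJD)
        have h0 : D.map (MulAut.conj g).toMonoidHom = D :=
          Subgroup.mem_normalizer_iff_map_conj_eq.1 hg
        rw [h0] at h1
        exact h1.trans hDP
      · intro B hB hBab
        rw [Subgroup.card_map_of_injective (MulAut.conj g).injective]
        exact hmax B hB hBab
    intro x hx
    have := hle hx
    rw [Subgroup.mem_comap] at this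
    simpa [MulAut.conj_apply] using this
  intro g hg
  rw [Subgroup.mem_normalizer_iff]
  intro x
  constructor
  · exact key g hg x
  · intro hx
    have := key g⁻¹ (Subgroup.inv_mem _ hg) _ hx
    have e : g⁻¹ * (g * x * g⁻¹) * g⁻¹⁻¹ = x := by group
    rwa [e] at this

/-- Frattini argument: `X = ⟨J(T)^X⟩ N_X(J(T))` -/
theorem normalClosure_sup_normalizer [Finite X] {p : ℕ} [Fact p.Prime] (T : Sylow p X) :
    Subgroup.normalClosure (Cfsg.thompsonSubgroupAOf (T : Subgroup X) : Set X) ⊔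
      Subgroup.normalizer (Cfsg.thompsonSubgroupAOf (T : Subgroup X) : Set X) = ⊤ := by
  obtain ⟨J, hJ⟩ : ∃ J, J = Cfsg.thompsonSubgroupAOf (T : Subgroup X) := ⟨_, rfl⟩
  rw [← hJ]
  obtain ⟨Y, hY⟩ : ∃ Y, Y = Subgroup.normalClosure (J : Set X) := ⟨_, rfl⟩
  rw [← hY]
  haveI : Y.Normal := by rw [hY]; exact Subgroup.normalClosure_normal
  have h1 := Cfsg.Agent.H1.sylow_inf_normalizer_sup_eq_top T Y
  have hJT : J ≤ (T : Subgroup X) := by rw [hJ]; exact thompsonA_le _
  have hJY : J ≤ Y := by rw [hY]; exact Subgroup.le_normalClosure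
  have h2 : Subgroup.normalizer ((((T : Subgroup X) ⊓ Y : Subgroup X)) : Set X) ≤
      Subgroup.normalizer (J : Set X) := by
    rw [hJ] at hJT hJY ⊢
    exact normalizer_le_normalizer_thompsonA (le_inf hJT hJY) inf_le_left
  rw [eq_top_iff, ← h1]
  exact sup_le (h2.trans le_sup_right) le_sup_left

variable {G : Type*} [Group G]

theorem ff_map_equiv (φ : G ≃* G) (V B : Subgroup G) :
    ff (V.map φ.toMonoidHom) (B.map φ.toMonoidHom) = ff V B := by
  unfold ff
  rw [← Cfsg.Agent.H2.centralizer_map_equiv, ← Subgroup.map_inf_eq _ _ _ φ.injective,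
    Subgroup.card_map_of_injective φ.injective, Subgroup.card_map_of_injective φ.injective]

/-- automorphisms fixing `V` permute the best offenders on `V` -/
theorem best_map_equiv {p : ℕ} (φ : G ≃* G) {V B : Subgroup G}
    (hV : V.map φ.toMonoidHom = V) (hB : Cfsg.IsBestOffenderOn p V B) :
    Cfsg.IsBestOffenderOn p V (B.map φ.toMonoidHom) := by
  have hCV : (Subgroup.centralizer (V : Set G)).map φ.toMonoidHom =
      Subgroup.centralizer (V : Set G) := by
    rw [Cfsg.Agent.H2.centralizer_map_equiv, hV]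
  rw [best_iff] at hB ⊢
  refine ⟨?_, ?_, ?_⟩
  · intro B'' hB''
    set B₀ := B''.comap φ.toMonoidHom with hB₀
    have h1 : B₀.map φ.toMonoidHom = B'' :=
      Subgroup.map_comap_eq_self_of_surjective φ.surjective B''
    have h2 : B₀ ≤ B := by
      intro x hx
      obtain ⟨b, hb, hbx⟩ := hB'' (Subgroup.mem_comap.1 hx)
      have : b = x := φ.injective hbx
      rw [← this]; exact hb
    have h3 := hB.1 B₀ h2
    rw [← ff_map_equiv φ V B₀, ← ff_map_equiv φ V B, hV, h1] at h3
    exact h3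
  · rw [← Subgroup.map_commutator, ← hCV]
    exact Subgroup.map_mono hB.2.1
  · rintro _ ⟨b, hb, rfl⟩
    rw [← hCV]
    refine ⟨b ^ p, hB.2.2 b hb, ?_⟩
    simp

/-- internal direct products -/
theorem pi_mulEquiv_iSup {ι : Type*} [Fintype ι] (E : ι → Subgroup G)
    (hcomm : Pairwise fun i j => ∀ x y : G, x ∈ E i → y ∈ E j → Commute x y)
    (hind : iSupIndep E) : Nonempty ((∀ i, E i) ≃* ↥(⨆ i, E i)) :=
  ⟨(MonoidHom.ofInjective
      (Subgroup.injective_noncommPiCoprod_of_iSupIndep (hcomm := hcomm) hind)).trans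
    (MulEquiv.subgroupCongr Subgroup.noncommPiCoprod_range)⟩

/-- disjoint subgroups normalizing each other commute -/
theorem commute_of_disjoint_normalizing {E F : Subgroup G}
    (hEF : E ≤ Subgroup.normalizer (F : Set G)) (hFE : F ≤ Subgroup.normalizer (E : Set G))
    (hd : Disjoint E F) {x y : G} (hx : x ∈ E) (hy : y ∈ F) : Commute x y := by
  have h1 : ⁅x, y⁆ ∈ F := by
    rw [commutatorElement_def]
    exact F.mul_mem ((Subgroup.mem_normalizer_iff.1 (hEF hx) y).1 hy) (F.inv_mem hy)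
  have h2 : ⁅x, y⁆ ∈ E := by
    have e : ⁅x, y⁆ = x * (y * x⁻¹ * y⁻¹) := by rw [commutatorElement_def]; group
    rw [e]
    exact E.mul_mem hx ((Subgroup.mem_normalizer_iff.1 (hFE hy) x⁻¹).1 (E.inv_mem hx))
  have h3 : ⁅x, y⁆ ∈ E ⊓ F := Subgroup.mem_inf.2 ⟨h2, h1⟩
  rw [disjoint_iff.1 hd, Subgroup.mem_bot] at h3
  exact commutatorElement_eq_one_iff_commute.1 h3

end Cfsg.Agent.H1.GlS3
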