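import Mathlib
import Cfsg.Prelude.Def_PLocal
import Cfsg.Agent.H1.GlS3D
import Cfsg.Agent.S0250

/-!
# Glauberman's `S₃`-theorem for solvable groups of characteristic 2 type: assembly
-/

set_option autoImplicit false

namespace Cfsg.Agent.H1.GlS3

open scoped commutatorElement
open Cfsg.Agent.Lib.Helper4.Offender Cfsg.Agent.Lib.Helper4.FFPair Cfsg.Agent.Lib.Helper4.FFHol
open Cfsg.Agent.Lib.Helper4.ZJ Cfsg.Agent.H1

variable {X : Type*} [Group X] [Finite X]

set_option maxHeartbeats 1600000 in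
theorem main [Group.IsSolvable X] (hF : Cfsg.fittingSubgroup X = Cfsg.pCore 2 X) (T : Sylow 2 X) :
    (Subgroup.normalClosure (Cfsg.thompsonSubgroupAOf (T : Subgroup X) : Set X)
        ≤ (Subgroup.centralizer (((T : Subgroup X) ⊓ Subgroup.centralizer ((T : Subgroup X) : Set X) : Subgroup X) : Set X)).normalCore
      ∨ ∃ n : ℕ, 1 ≤ n ∧
        Nonempty (↥(Subgroup.normalClosure (Cfsg.thompsonSubgroupAOf (T : Subgroup X) : Set X)) ⧸
            ((Subgroup.centralizer (((T : Subgroup X) ⊓ Subgroup.centralizer ((T : Subgroup X) : Set X) : Subgroup X) : Set X)).normalCore).subgroupOf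
              (Subgroup.normalClosure (Cfsg.thompsonSubgroupAOf (T : Subgroup X) : Set X))
          ≃* (Fin n → Equiv.Perm (Fin 3)))) := by
  haveI : Fact (Nat.Prime 2) := ⟨Nat.prime_two⟩
  set Z := (T : Subgroup X) ⊓ Subgroup.centralizer ((T : Subgroup X) : Set X) with hZ
  set J := Cfsg.thompsonSubgroupAOf (T : Subgroup X) with hJ
  set Y := Subgroup.normalClosure (J : Set X) with hY
  haveI hYn : Y.Normal := Subgroup.normalClosure_normal
  -- the module `V`
  obtain ⟨V, hVdef⟩ : ∃ V, V = Subgroup.normalClosure (Z : Set X) := ⟨_, rfl⟩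
  haveI hVn : V.Normal := by rw [hVdef]; exact Subgroup.normalClosure_normal
  have hZV : Z ≤ V := by rw [hVdef]; exact Subgroup.le_normalClosure
  have hZT : (T : Subgroup X) ≤ Subgroup.centralizer (Z : Set X) := by
    rw [Subgroup.le_centralizer_iff]; exact inf_le_right
  have hgen : ∀ N : Subgroup X, N.Normal → Z ≤ N → V ≤ N := by
    intro N hN h
    rw [hVdef]
    exact @Subgroup.normalClosure_le_normal _ _ _ N hN h
  have hVQ : V ≤ Cfsg.pCore 2 X ⊓ Subgroup.centralizer (Cfsg.pCore 2 X : Set X) :=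
    hgen _ inferInstance (center_sylow_le hF T)
  have hVc : ∀ s ∈ V, ∀ t ∈ V, s * t = t * s := by
    intro s hs t ht
    exact Subgroup.mem_centralizer_iff.1 (Subgroup.mem_inf.1 (hVQ ht)).2 s
      (Subgroup.mem_inf.1 (hVQ hs)).1
  have hVp : IsPGroup 2 V := (pCore_isPGroup 2).to_le (hVQ.trans inf_le_left)
  have hVT : V ≤ (T : Subgroup X) := (hVQ.trans inf_le_left).trans (pCore_le_sylow T)
  obtain ⟨V₁, hV₁def⟩ : ∃ V₁, V₁ = Cfsg.omegaOne 2 V := ⟨_, rfl⟩
  haveI hV₁n : V₁.Normal := by rw [hV₁def]; exact omegaOne_normal hVc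
  have hV₁ : Cfsg.IsElementaryAbelian 2 V₁ := by rw [hV₁def]; exact omegaOne_elem hVc
  have hV₁V : V₁ ≤ V := by rw [hV₁def]; exact omegaOne_le V
  have hCC : Subgroup.centralizer (V₁ : Set X) = Subgroup.centralizer (V : Set X) := by
    apply le_antisymm
    · rw [hV₁def]; exact centralizer_omega_le T hVc hVp hZV hZT hgen
    · exact cent_anti hV₁V
  have hCeq : (Subgroup.centralizer (Z : Set X)).normalCore = Subgroup.centralizer (V₁ : Set X) := by
    rw [normalCore_centralizer, ← hVdef, hCC]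
  have hQ : NoPCore V₁ 2 := by
    subst hV₁def
    exact noPCore_omega T hVc hVp hZV hZT hgen
  have hsep : Cfsg.IsPSolvable 2 X :=
    Cfsg.Agent.Lib.Helper4.SolvPSolv.isPSolvable_of_isSolvable 2 X
  have hV₁T : V₁ ≤ (T : Subgroup X) := hV₁V.trans hVT
  have hV₁c : ∀ s ∈ V₁, ∀ t ∈ V₁, s * t = t * s := fun s hs t ht =>
    hVc s (hV₁V hs) t (hV₁V ht)
  -- the holomorph
  have hrN : (proj V₁).range ≤ Subgroup.normalizer (VV V₁ : Set (Hol V₁)) :=
    range_proj_le_normalizer V₁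
  have hrC : (proj V₁).range ⊓ Subgroup.centralizer (VV V₁ : Set (Hol V₁)) = ⊥ :=
    range_proj_inf_centralizer V₁
  obtain ⟨H, hHdef⟩ : ∃ H, H = Y.map (proj V₁) := ⟨_, rfl⟩
  have hHr : H ≤ (proj V₁).range := by
    rw [hHdef]
    rintro _ ⟨y, _, rfl⟩
    exact ⟨y, rfl⟩
  obtain ⟨H₁, hH₁def⟩ : ∃ H₁ : Subgroup (Hol V₁), H₁ = ⨆ B : {B : Subgroup (Hol V₁) //
      B ≤ H ∧ Cfsg.IsBestOffenderOn 2 (VV V₁) B}, (B : Subgroup (Hol V₁)) := ⟨_, rfl⟩
  have hleH₁ : ∀ B : Subgroup (Hol V₁), B ≤ H → Cfsg.IsBestOffenderOn 2 (VV V₁) B → B ≤ H₁ := by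
    intro B hBH hBb
    rw [hH₁def]
    exact le_iSup (fun B : {B : Subgroup (Hol V₁) //
      B ≤ H ∧ Cfsg.IsBestOffenderOn 2 (VV V₁) B} => (B : Subgroup (Hol V₁))) ⟨B, hBH, hBb⟩
  have hH₁H : H₁ ≤ H := by
    rw [hH₁def]
    exact iSup_le fun B => B.2.1
  have hH₁conj : ∀ g : X, ∀ x ∈ H₁, proj V₁ g * x * (proj V₁ g)⁻¹ ∈ H₁ := by
    intro g
    have hle : H₁ ≤ H₁.comap (MulAut.conj (proj V₁ g)).toMonoidHom := by
      conv_lhs => rw [hH₁def]
      apply iSup_le
      rintro ⟨B, hBH, hBb⟩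
      show B ≤ _
      rw [← Subgroup.map_le_iff_le_comap]
      apply hleH₁
      · rintro _ ⟨b, hb, rfl⟩
        have hb' := hBH hb
        rw [hHdef] at hb' ⊢
        obtain ⟨y, hy, rfl⟩ := hb'
        refine ⟨g * y * g⁻¹, hYn.conj_mem y hy g, ?_⟩
        simp [MulAut.conj_apply]
      · apply best_map_equiv (MulAut.conj (proj V₁ g)) _ hBb
        exact Subgroup.mem_normalizer_iff_map_conj_eq.1 (hrN ⟨g, rfl⟩)
    intro x hx
    have := hle hx
    simpa [Subgroup.mem_comap, MulAut.conj_apply] using this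
  obtain ⟨J₁, hJ₁def⟩ : ∃ J₁, J₁ = H₁.comap (proj V₁) := ⟨_, rfl⟩
  haveI hJ₁n : J₁.Normal := by
    constructor
    intro n hn g
    rw [hJ₁def, Subgroup.mem_comap] at hn ⊢
    rw [map_mul, map_mul, map_inv]
    exact hH₁conj g _ hn
  have hJ₁map : J₁.map (proj V₁) = H₁ := by
    rw [hJ₁def, Subgroup.map_comap_eq, inf_eq_right]
    exact hH₁H.trans hHr
  have hS1 := hS1_of V₁ J₁ hsep hQ
  rw [hJ₁map] at hS1
  have hHyp : Hyp 2 (VV V₁) H₁ := by
    refine ⟨VV_elem V₁ hV₁, (hH₁H.trans hHr).trans hrN, ?_, hS1⟩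
    rw [eq_bot_iff, ← hrC]
    exact inf_le_inf_right _ (hH₁H.trans hHr)
  -- the largest abelian subgroups of `T` map into `H₁`
  have hfamle : ∀ A ∈ fam (fun A : Subgroup X => IsMulCommutative A) (T : Subgroup X),
      A.map (proj V₁) ≤ H₁ := by
    intro A hA
    obtain ⟨hAT, hAab, hmax⟩ := mem_fam.mp hA
    have hAc : ∀ x ∈ A, ∀ y ∈ A, x * y = y * x := fun x hx y hy =>
      congrArg Subtype.val (hAab.is_comm.comm ⟨x, hx⟩ ⟨y, hy⟩)
    have hAr : A.map (proj V₁) ≤ (proj V₁).range := by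
      rintro _ ⟨y, _, rfl⟩
      exact ⟨y, rfl⟩
    have hAY : A ≤ Y := (le_thompsonA hA).trans Subgroup.le_normalClosure
    apply le_of_wb hHyp (Nat.card (A.map (proj V₁))) (A.map (proj V₁)) rfl (hAr.trans hrN)
    · rw [eq_bot_iff, ← hrC]; exact inf_le_inf_right _ hAr
    · rintro _ ⟨x, hx, rfl⟩ _ ⟨y, hy, rfl⟩
      rw [← map_mul, ← map_mul, hAc x hx y hy]
    · exact (T.isPGroup'.to_le hAT).map (proj V₁)
    · rintro _ ⟨x, _, rfl⟩
      rw [Subgroup.mem_normalizer_iff]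
      intro h
      constructor
      · exact hH₁conj x h
      · intro hh
        have := hH₁conj x⁻¹ _ hh
        rw [map_inv] at this
        have e : (proj V₁ x)⁻¹ * (proj V₁ x * h * (proj V₁ x)⁻¹) * (proj V₁ x)⁻¹⁻¹ = h := by group
        rwa [e] at this
    · exact (wb_of_maxAbelian hV₁T hV₁c hAT hAc hmax).map_proj V₁
    · intro B hB hBb
      apply hleH₁ B _ hBb
      rw [hHdef]
      exact hB.trans (Subgroup.map_mono hAY)
  have hJJ₁ : J ≤ J₁ := by
    rw [hJ, thompsonA_le_iff]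
    intro A hA
    rw [hJ₁def, ← Subgroup.map_le_iff_le_comap]
    exact hfamle A hA
  have hYJ₁ : Y ≤ J₁ := Subgroup.normalClosure_le_normal hJJ₁
  have hHH₁ : H = H₁ := by
    apply le_antisymm _ hH₁H
    rw [← hJ₁map, hHdef]
    exact Subgroup.map_mono hYJ₁
  have hS3 : H₁ = ⨆ A : {A : Subgroup (Hol V₁) // A ≤ H₁ ∧ Cfsg.IsBestOffenderOn 2 (VV V₁) A},
      (A : Subgroup (Hol V₁)) := by
    apply le_antisymm
    · conv_lhs => rw [hH₁def]
      apply iSup_le
      rintro ⟨B, hBH, hBb⟩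
      exact le_iSup (fun A : {A : Subgroup (Hol V₁) //
        A ≤ H₁ ∧ Cfsg.IsBestOffenderOn 2 (VV V₁) A} => (A : Subgroup (Hol V₁)))
        ⟨B, hleH₁ B hBH hBb, hBb⟩
    · exact iSup_le fun A => A.2.1
  by_cases hbot : H₁ = ⊥
  · left
    rw [hCeq]
    intro y hy
    rw [← ker_proj V₁, MonoidHom.mem_ker]
    have : proj V₁ y ∈ H := by rw [hHdef]; exact ⟨y, hy, rfl⟩
    rw [hHH₁, hbot, Subgroup.mem_bot] at this
    exact this
  · right
    obtain ⟨_, hcomp, hind, hsup, _, _⟩ := structure_thm hHyp hS3 hbot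
    haveI : Finite {E : Subgroup (Hol V₁) // IsComp 2 (VV V₁) H₁ E} := inferInstance
    haveI : Fintype {E : Subgroup (Hol V₁) // IsComp 2 (VV V₁) H₁ E} := Fintype.ofFinite _
    have hne : Nonempty {E : Subgroup (Hol V₁) // IsComp 2 (VV V₁) H₁ E} := by
      by_contra hc
      rw [not_nonempty_iff] at hc
      apply hbot
      rw [← hsup]
      exact iSup_of_empty _
    have hcomm : Pairwise fun i j : {E : Subgroup (Hol V₁) // IsComp 2 (VV V₁) H₁ E} =>
        ∀ x y : Hol V₁, x ∈ (i : Subgroup (Hol V₁)) → y ∈ (j : Subgroup (Hol V₁)) →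
          Commute x y := by
      intro i j hij x y hx hy
      have hiH : (i : Subgroup (Hol V₁)) ≤ H₁ :=
        (le_iSup (fun E : {E : Subgroup (Hol V₁) // IsComp 2 (VV V₁) H₁ E} =>
          (E : Subgroup (Hol V₁))) i).trans hsup.le
      have hjH : (j : Subgroup (Hol V₁)) ≤ H₁ :=
        (le_iSup (fun E : {E : Subgroup (Hol V₁) // IsComp 2 (VV V₁) H₁ E} =>
          (E : Subgroup (Hol V₁))) j).trans hsup.le
      exact commute_of_disjoint_normalizing (hiH.trans (hcomp j).1) (hjH.trans (hcomp i).1)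
        (hind.pairwiseDisjoint hij) hx hy
    obtain ⟨e4⟩ := pi_mulEquiv_iSup
      (fun i : {E : Subgroup (Hol V₁) // IsComp 2 (VV V₁) H₁ E} => (i : Subgroup (Hol V₁)))
      hcomm hind
    obtain ⟨e0⟩ := Cfsg.Agent.S0250.result (F := ZMod 2) (ZMod.card 2)
    let ei : ∀ i : {E : Subgroup (Hol V₁) // IsComp 2 (VV V₁) H₁ E},
        ↥(i : Subgroup (Hol V₁)) ≃* Equiv.Perm (Fin 3) := fun i => ((hcomp i).2.1.some).trans e0
    refine ⟨Fintype.card {E : Subgroup (Hol V₁) // IsComp 2 (VV V₁) H₁ E}, Fintype.card_pos,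
      ⟨?_⟩⟩
    have hψs : Function.Surjective ((proj V₁).subgroupMap Y) := (proj V₁).subgroupMap_surjective Y
    have hker : ((Subgroup.centralizer (Z : Set X)).normalCore).subgroupOf Y =
        ((proj V₁).subgroupMap Y).ker := by
      rw [hCeq]
      ext y
      rw [Subgroup.mem_subgroupOf, MonoidHom.mem_ker, ← proj_eq_one_iff]
      constructor
      · intro h
        exact Subtype.ext h
      · intro h
        exact congrArg Subtype.val h
    have hHsup : Y.map (proj V₁) = ⨆ i : {E : Subgroup (Hol V₁) // IsComp 2 (VV V₁) H₁ E},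
        (i : Subgroup (Hol V₁)) := by
      rw [← hHdef, hHH₁, hsup]
    exact (QuotientGroup.quotientMulEquivOfEq hker).trans
      ((QuotientGroup.quotientKerEquivOfSurjective _ hψs).trans
        ((MulEquiv.subgroupCongr hHsup).trans
          (e4.symm.trans ((MulEquiv.piCongrRight ei).trans
            (MulEquiv.arrowCongr (Fintype.equivFin _) (MulEquiv.refl _))))))

end Cfsg.Agent.H1.GlS3
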