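import Mathlib
import Cfsg.Agent.H1.FrobFixA

namespace Cfsg.Agent.H1.HHAb
open Cfsg.Agent.H1.FrobFree
open Submodule

universe u

/-- abelian case of Hall–Higman Theorem B, abstract form: if a normal abelian subgroup `Q` of order prime to
the characteristic acts nontrivially, and `⟨x⟩` acts fixed-point-freely on `Q`, then the norm `∑ x^i` of `x`
is not zero on the module. -/
theorem norm_ne_zero {k A : Type*} {V : Type u} [Field k] [AddCommGroup V] [Module k V]
    [FiniteDimensional k V] [Group A] [Finite A] (ρ : Representation k A V) (x : A) (Q : Subgroup A)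
    [hQn : Q.Normal]
    (hcomm : ∀ q ∈ Q, ∀ q' ∈ Q, q * q' = q' * q)
    (hcard : (Nat.card Q : k) ≠ 0)
    (hfpf : ∀ h ∈ Subgroup.zpowers x, h ≠ 1 → ∀ q ∈ Q, q * h = h * q → q = 1)
    (hnt : ∃ q ∈ Q, ∃ v : V, ρ q v ≠ v) :
    ∃ v : V, (∑ i ∈ Finset.range (orderOf x), ρ (x ^ i) v) ≠ 0 := by
  classical
  obtain ⟨V1, V2, hV1, hdis, hsup, hV1inv, hV2inv⟩ := fix_ker_decomp ρ Q hcard
  set ρ2 := resRep ρ V2 hV2inv with hρ2
  have hCV : ∀ v : V2, (∀ q ∈ Q, ρ2 q v = v) → v = 0 := by
    intro v hv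
    apply Subtype.ext
    have h1 : (v : V) ∈ V1 := by
      rw [hV1]
      intro q hq
      have := congrArg Subtype.val (hv q hq)
      rwa [hρ2, resRep_apply] at this
    have h2 : (v : V) ∈ V1 ⊓ V2 := ⟨h1, v.2⟩
    rw [hdis] at h2
    exact (Submodule.mem_bot k).1 h2
  obtain ⟨W, hW1, hW2⟩ := free_of_commuting ρ2 (Subgroup.zpowers x) Q
    (fun h _ q hq => hQn.conj_mem q hq h)
    (fun q hq q' hq' => by rw [← map_mul, ← map_mul, hcomm q hq q' hq'])
    hcard hfpf hCV
  -- V2 is not zero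
  have hV2 : ∃ v : V2, v ≠ 0 := by
    by_contra hcon
    push Not at hcon
    obtain ⟨q, hq, v, hqv⟩ := hnt
    apply hqv
    have hv : v ∈ V1 ⊔ V2 := by rw [hsup]; exact Submodule.mem_top
    obtain ⟨a, ha, b, hb, rfl⟩ := Submodule.mem_sup.1 hv
    have hb0 : b = 0 := by
      have := hcon ⟨b, hb⟩
      exact congrArg Subtype.val this
    rw [hb0, add_zero]
    exact (hV1 a).1 ha q hq
  have hW : ∃ w ∈ W, w ≠ 0 := by
    by_contra hcon
    push Not at hcon
    obtain ⟨v, hv⟩ := hV2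
    apply hv
    have hWbot : W = ⊥ := by
      rw [eq_bot_iff]
      intro w hw
      rw [Submodule.mem_bot]
      exact hcon w hw
    have : v ∈ ⨆ h : Subgroup.zpowers x, W.map (ρ2 (h : A)) := by rw [hW2]; exact Submodule.mem_top
    rw [hWbot] at this
    simp only [Submodule.map_bot, iSup_bot] at this
    exact (Submodule.mem_bot k).1 this
  obtain ⟨w, hwW, hw0⟩ := hW
  refine ⟨(w : V), ?_⟩
  intro hsum
  apply hw0
  haveI : Fintype (Subgroup.zpowers x) := Fintype.ofFinite _
  have hx : IsOfFinOrder x := isOfFinOrder_of_finite x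
  -- the sum over zpowers
  have hsum2 : ∑ h : Subgroup.zpowers x, ρ2 (h : A) w = 0 := by
    apply Subtype.ext
    rw [Submodule.coe_sum, Submodule.coe_zero]
    simp only [hρ2, resRep_apply]
    rw [← hsum]
    rw [← (finEquivZPowers hx).sum_comp]
    rw [Finset.sum_range]
    apply Finset.sum_congr rfl
    intro i _
    rw [finEquivZPowers_apply]
  have h1 := forall_sum_of_iSupIndep hW1 (fun h => ρ2 (h : A) w)
    (fun h => Submodule.mem_map_of_mem hwW) hsum2 ⟨1, Subgroup.one_mem _⟩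
  simpa using h1

end Cfsg.Agent.H1.HHAb
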