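import Mathlib
import Cfsg.Agent.H1.FrobFixB
import Cfsg.Agent.H1.HHAbA

namespace Cfsg.Agent.H1.HHAb
open Cfsg.Agent.H1.FrobFree Cfsg.Agent.H1.FrobFix

universe u

/-- ordered product `f 0 * f 1 * ⋯ * f (n-1)` -/
def nprod {H : Type*} [Monoid H] (f : ℕ → H) : ℕ → H
  | 0 => 1
  | n + 1 => nprod f n * f n

theorem nprod_zero {H : Type*} [Monoid H] (f : ℕ → H) : nprod f 0 = 1 := rfl
theorem nprod_succ {H : Type*} [Monoid H] (f : ℕ → H) (n : ℕ) : nprod f (n + 1) = nprod f n * f n := rfl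

theorem map_nprod {H K : Type*} [Monoid H] [Monoid K] (g : H →* K) (f : ℕ → H) (n : ℕ) :
    g (nprod f n) = nprod (fun i => g (f i)) n := by
  induction n with
  | zero => simp [nprod_zero]
  | succ n ih => rw [nprod_succ, nprod_succ, map_mul, ih]

theorem nprod_mem {H : Type*} [Group H] (S : Subgroup H) (f : ℕ → H) (hf : ∀ i, f i ∈ S) (n : ℕ) :
    nprod f n ∈ S := by
  induction n with
  | zero => exact S.one_mem
  | succ n ih => rw [nprod_succ]; exact S.mul_mem ih (hf n)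

/-- `(u x)^n = (∏_{i<n} x^i u x^{-i}) x^n` -/
theorem mul_pow_eq_nprod {H : Type*} [Group H] (u x : H) (n : ℕ) :
    (u * x) ^ n = nprod (fun i => x ^ i * u * (x ^ i)⁻¹) n * x ^ n := by
  induction n with
  | zero => simp [nprod_zero]
  | succ n ih =>
    rw [pow_succ, ih, nprod_succ, pow_succ]
    group

theorem norm_ne_one_module {A : Type*} [Group A] [Finite A] {H : Type u} [CommGroup H] [Finite H]
    (ℓ : ℕ) [hℓ : Fact ℓ.Prime] [Module (ZMod ℓ) (Additive H)]
    (φ : A →* MulAut H) (x : A) (Q : Subgroup A) [hQn : Q.Normal]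
    (hQcomm : ∀ q ∈ Q, ∀ q' ∈ Q, q * q' = q' * q)
    (hQcard : (Nat.card Q).Coprime ℓ)
    (hfpf : ∀ h ∈ Subgroup.zpowers x, h ≠ 1 → ∀ q ∈ Q, q * h = h * q → q = 1)
    (hnt : ∃ q ∈ Q, ∃ v : H, φ q v ≠ v) :
    ∃ v : H, nprod (fun i => φ (x ^ i) v) (orderOf x) ≠ 1 := by
  classical
  let ρ : A →* Module.End (ZMod ℓ) (Additive H) :=
    { toFun := fun f => actLin ℓ (φ f)
      map_one' := by
        refine LinearMap.ext fun v => ?_
        rw [actLin_apply, map_one, MulAut.one_apply, Module.End.one_apply]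
        rfl
      map_mul' := by
        intro f g
        refine LinearMap.ext fun v => ?_
        rw [Module.End.mul_apply, actLin_apply, actLin_apply, actLin_apply, map_mul, MulAut.mul_apply]
        rfl }
  have hρ : ∀ (f : A) (v : Additive H), ρ f v = Additive.ofMul (φ f (Additive.toMul v)) :=
    fun f v => rfl
  haveI : Finite (Additive H) := inferInstanceAs (Finite H)
  haveI : FiniteDimensional (ZMod ℓ) (Additive H) := Module.Finite.of_finite
  have hcard : (Nat.card Q : ZMod ℓ) ≠ 0 := by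
    rw [Ne, ZMod.natCast_eq_zero_iff]
    intro hdvd
    have h2 := Nat.dvd_gcd hdvd (dvd_refl ℓ)
    rw [hQcard] at h2
    exact hℓ.out.one_lt.ne' (Nat.dvd_one.1 h2)
  obtain ⟨q, hq, v, hqv⟩ := hnt
  obtain ⟨w, hw⟩ := norm_ne_zero ρ x Q hQcomm hcard hfpf ⟨q, hq, Additive.ofMul v, by
    rw [hρ]
    intro h
    exact hqv (Additive.ofMul.injective h)⟩
  refine ⟨Additive.toMul w, ?_⟩
  intro h1
  apply hw
  have key : ∀ n : ℕ, (∑ i ∈ Finset.range n, ρ (x ^ i) w) =
      Additive.ofMul (nprod (fun i => φ (x ^ i) (Additive.toMul w)) n) := by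
    intro n
    induction n with
    | zero => simp [nprod_zero]
    | succ n ih =>
      rw [Finset.sum_range_succ, ih, nprod_succ, hρ]
      rfl
  rw [key, h1]
  rfl

theorem norm_ne_one {A : Type*} [Group A] [Finite A] {H : Type u} [Group H] [Finite H]
    (hcomm : ∀ a b : H, a * b = b * a) (ℓ : ℕ) (hℓ : ℓ.Prime) (hexp : ∀ x : H, x ^ ℓ = 1)
    (φ : A →* MulAut H) (x : A) (Q : Subgroup A) [hQn : Q.Normal]
    (hQcomm : ∀ q ∈ Q, ∀ q' ∈ Q, q * q' = q' * q)
    (hQcard : (Nat.card Q).Coprime ℓ)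
    (hfpf : ∀ h ∈ Subgroup.zpowers x, h ≠ 1 → ∀ q ∈ Q, q * h = h * q → q = 1)
    (hnt : ∃ q ∈ Q, ∃ v : H, φ q v ≠ v) :
    ∃ v : H, nprod (fun i => φ (x ^ i) v) (orderOf x) ≠ 1 := by
  classical
  haveI : Fact ℓ.Prime := ⟨hℓ⟩
  letI : CommGroup H := { (inferInstance : Group H) with mul_comm := hcomm }
  letI : Module (ZMod ℓ) (Additive H) := AddCommGroup.zmodModule (n := ℓ) (by
    intro x
    show Additive.ofMul ((Additive.toMul x) ^ ℓ) = 0
    rw [hexp]
    rfl)
  exact norm_ne_one_module ℓ φ x Q hQcomm hQcard hfpf hnt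

end Cfsg.Agent.H1.HHAb
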