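import Mathlib
import Cfsg.Agent.H1.Basic
import Cfsg.Agent.H1.Thompson
import Cfsg.Prelude.Def_PLocal

set_option autoImplicit false

namespace Cfsg.Agent.H1

open Cfsg

universe u

section snc
variable {S S' : Type u} [Group S] [Group S'] {p : ℕ}

lemma maxEA_map_equiv [Finite S] [Finite S'] (e : S ≃* S') {A : Subgroup S}
    (hA : A ∈ Cfsg.maxElementaryAbelianSubgroups p S) :
    A.map e.toMonoidHom ∈ Cfsg.maxElementaryAbelianSubgroups p S' := by
  refine ⟨isElementaryAbelian_map _ hA.1, fun B hB => ?_⟩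
  have h1 := hA.2 (B.map e.symm.toMonoidHom) (isElementaryAbelian_map _ hB)
  rw [Subgroup.card_map_of_injective (f := e.symm.toMonoidHom) e.symm.injective] at h1
  rw [Subgroup.card_map_of_injective (f := e.toMonoidHom) e.injective]
  exact h1

lemma thompsonSubgroup_map_equiv_le [Finite S] [Finite S'] (e : S ≃* S') :
    (Cfsg.thompsonSubgroup p S).map e.toMonoidHom ≤ Cfsg.thompsonSubgroup p S' := by
  rw [Subgroup.map_le_iff_le_comap]
  unfold Cfsg.thompsonSubgroup
  apply sSup_le
  intro A hA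
  rw [← Subgroup.map_le_iff_le_comap]
  exact le_sSup (maxEA_map_equiv e hA)

lemma thompsonSubgroup_map_equiv [Finite S] [Finite S'] (e : S ≃* S') :
    (Cfsg.thompsonSubgroup p S).map e.toMonoidHom = Cfsg.thompsonSubgroup p S' := by
  apply le_antisymm (thompsonSubgroup_map_equiv_le e)
  intro y hy
  have h1 := thompsonSubgroup_map_equiv_le (p := p) e.symm ⟨y, hy, rfl⟩
  exact ⟨e.symm y, h1, e.apply_symm_apply y⟩

lemma mem_thompsonSubgroup_equiv_iff [Finite S] [Finite S'] (e : S ≃* S') (x : S) :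
    e x ∈ Cfsg.thompsonSubgroup p S' ↔ x ∈ Cfsg.thompsonSubgroup p S := by
  constructor
  · intro h
    have h1 := thompsonSubgroup_map_equiv_le (p := p) e.symm ⟨e x, h, rfl⟩
    simpa using h1
  · intro h
    exact thompsonSubgroup_map_equiv_le e ⟨x, h, rfl⟩

lemma omegaCenterThompson_map_equiv_le [Finite S] [Finite S'] (e : S ≃* S') :
    (Cfsg.omegaCenterThompson p S).map e.toMonoidHom ≤ Cfsg.omegaCenterThompson p S' := by
  unfold Cfsg.omegaCenterThompson Cfsg.omegaOne
  rw [MonoidHom.map_closure]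
  apply Subgroup.closure_mono
  rintro _ ⟨x, ⟨hxJC, hxp⟩, rfl⟩
  rw [Subgroup.mem_inf] at hxJC
  obtain ⟨hxJ, hxC⟩ := hxJC
  refine ⟨Subgroup.mem_inf.2 ⟨(mem_thompsonSubgroup_equiv_iff e x).2 hxJ, ?_⟩, ?_⟩
  · rw [Subgroup.mem_centralizer_iff]
    intro j' hj'
    have hj : e.symm j' ∈ Cfsg.thompsonSubgroup p S := by
      rw [← mem_thompsonSubgroup_equiv_iff e, e.apply_symm_apply]; exact hj'
    have h1 := Subgroup.mem_centralizer_iff.1 hxC _ hj
    have h2 := congrArg e h1
    rw [map_mul, map_mul, e.apply_symm_apply] at h2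
    exact h2
  · show (e x) ^ p = 1
    rw [← map_pow, hxp, map_one]

lemma omegaCenterThompson_map_equiv [Finite S] [Finite S'] (e : S ≃* S') :
    (Cfsg.omegaCenterThompson p S).map e.toMonoidHom = Cfsg.omegaCenterThompson p S' := by
  apply le_antisymm (omegaCenterThompson_map_equiv_le e)
  intro y hy
  have h1 := omegaCenterThompson_map_equiv_le (p := p) e.symm ⟨y, hy, rfl⟩
  exact ⟨e.symm y, h1, e.apply_symm_apply y⟩

lemma omegaOne_center_map_equiv_le (e : S ≃* S') :
    (Cfsg.omegaOne p (Subgroup.center S)).map e.toMonoidHom ≤ Cfsg.omegaOne p (Subgroup.center S') := by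
  unfold Cfsg.omegaOne
  rw [MonoidHom.map_closure]
  apply Subgroup.closure_mono
  rintro _ ⟨x, ⟨hxZ, hxp⟩, rfl⟩
  refine ⟨?_, ?_⟩
  · rw [Subgroup.mem_center_iff] at hxZ ⊢
    intro g
    have h1 := congrArg e (hxZ (e.symm g))
    rw [map_mul, map_mul, e.apply_symm_apply] at h1
    exact h1
  · show (e x) ^ p = 1
    rw [← map_pow, hxp, map_one]

lemma isStableEmbedding_comp_equiv [Finite S] [Finite S'] {H : Type u} [Group H] (τ : S →* H) (e : S' ≃* S)
    (h : Cfsg.IsStableEmbedding p τ) : Cfsg.IsStableEmbedding p (τ.comp e.toMonoidHom) := by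
  obtain ⟨h1, h2, ⟨P, hP⟩, h4, h5, h6⟩ := h
  refine ⟨h1.comp e.injective, h2, ⟨P, ?_⟩, h4, ?_, ?_⟩
  · have he : e.toMonoidHom.range = ⊤ := MonoidHom.range_eq_top.2 e.surjective
    rw [hP, MonoidHom.range_comp, he, ← MonoidHom.range_eq_map]
  · rw [← Subgroup.map_map, thompsonSubgroup_map_equiv]
    exact h5
  · intro V _ hV
    apply h6 V
    rw [← Subgroup.map_map, omegaCenterThompson_map_equiv] at hV
    exact hV

/-- the family defining the stable normal closure -/
def sncFamily (p : ℕ) (S : Type u) [Group S] : Set (Subgroup S) :=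
  {W : Subgroup S | Cfsg.omegaOne p (Subgroup.center S) ≤ W ∧
    ∀ (H : Type u) [Group H] (τ : S →* H), Cfsg.IsStableEmbedding p τ → (W.map τ).Normal}

lemma stableNormalClosure_eq (p : ℕ) (S : Type u) [Group S] :
    Cfsg.stableNormalClosure p S = sInf (sncFamily p S) := rfl

lemma comap_mem_sncFamily [Finite S] [Finite S'] (e : S ≃* S') {W' : Subgroup S'} (hW' : W' ∈ sncFamily p S') :
    W'.comap e.toMonoidHom ∈ sncFamily p S := by
  obtain ⟨ha, hb⟩ := hW'
  refine ⟨?_, ?_⟩
  · rw [← Subgroup.map_le_iff_le_comap]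
    exact (omegaOne_center_map_equiv_le e).trans ha
  · intro H _ τ hτ
    have h1 := hb H (τ.comp e.symm.toMonoidHom) (isStableEmbedding_comp_equiv τ e.symm hτ)
    have h2 : (W'.comap e.toMonoidHom).map τ = W'.map (τ.comp e.symm.toMonoidHom) := by
      rw [← Subgroup.map_map]
      congr 1
      ext x
      rw [Subgroup.mem_comap, Subgroup.mem_map]
      constructor
      · intro hx
        exact ⟨e x, hx, e.symm_apply_apply x⟩
      · rintro ⟨y, hy, rfl⟩
        show e (e.symm y) ∈ W'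
        rw [e.apply_symm_apply]; exact hy
    rw [h2]; exact h1

lemma stableNormalClosure_map_equiv_le [Finite S] [Finite S'] (e : S ≃* S') :
    (Cfsg.stableNormalClosure p S).map e.toMonoidHom ≤ Cfsg.stableNormalClosure p S' := by
  rw [stableNormalClosure_eq, stableNormalClosure_eq]
  apply le_sInf
  intro W' hW'
  rw [Subgroup.map_le_iff_le_comap]
  exact sInf_le (comap_mem_sncFamily e hW')

lemma stableNormalClosure_map_equiv [Finite S] [Finite S'] (e : S ≃* S') :
    (Cfsg.stableNormalClosure p S).map e.toMonoidHom = Cfsg.stableNormalClosure p S' := by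
  apply le_antisymm (stableNormalClosure_map_equiv_le e)
  intro y hy
  have h1 := stableNormalClosure_map_equiv_le (p := p) e.symm ⟨y, hy, rfl⟩
  exact ⟨e.symm y, h1, e.apply_symm_apply y⟩

/-- `Ω₁(Z(S)) ≤ Ω₁(Z(J(S)))` -/
lemma omegaOne_center_le_omegaCenterThompson [Finite S] :
    Cfsg.omegaOne p (Subgroup.center S) ≤ Cfsg.omegaCenterThompson p S := by
  unfold Cfsg.omegaCenterThompson Cfsg.omegaOne
  apply Subgroup.closure_mono
  rintro x ⟨hxZ, hxp⟩
  obtain ⟨A, hA⟩ := maxElementaryAbelian_nonempty (G := S) p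
  have hxall : ∀ T : Set S, x ∈ Subgroup.centralizer T := by
    intro T
    rw [Subgroup.mem_centralizer_iff]
    intro h _
    exact (Subgroup.mem_center_iff.1 hxZ h)
  refine ⟨Subgroup.mem_inf.2 ⟨?_, hxall _⟩, hxp⟩
  exact le_thompsonSubgroup hA (mem_of_mem_centralizer_maxElementaryAbelian hA x (hxall _) hxp)

/-- the image of `Ω₁(Z(J(S)))` is normal when the image of `J(S)` is -/
lemma omegaCenterThompson_map_normal {H : Type u} [Group H] (τ : S →* H) (hinj : Function.Injective τ)
    (hn : ((Cfsg.thompsonSubgroup p S).map τ).Normal) :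
    ((Cfsg.omegaCenterThompson p S).map τ).Normal := by
  constructor
  intro n hn' h
  have hle : (Cfsg.omegaCenterThompson p S).map τ ≤
      ((Cfsg.omegaCenterThompson p S).map τ).comap (MulAut.conj h).toMonoidHom := by
    unfold Cfsg.omegaCenterThompson Cfsg.omegaOne
    rw [MonoidHom.map_closure, Subgroup.closure_le]
    rintro _ ⟨x, ⟨hxJC, hxp⟩, rfl⟩
    rw [Subgroup.mem_inf] at hxJC
    obtain ⟨hxJ, hxC⟩ := hxJC
    rw [SetLike.mem_coe, Subgroup.mem_comap]
    show h * τ x * h⁻¹ ∈ _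
    obtain ⟨x', hx'J, hx'⟩ := hn.conj_mem _ (Subgroup.mem_map_of_mem τ hxJ) h
    rw [← hx', ← MonoidHom.map_closure]
    apply Subgroup.mem_map_of_mem
    apply Subgroup.subset_closure
    refine ⟨Subgroup.mem_inf.2 ⟨hx'J, ?_⟩, ?_⟩
    · rw [Subgroup.mem_centralizer_iff]
      intro j hj
      apply hinj
      rw [map_mul, map_mul, hx']
      obtain ⟨j', hj'J, hj'⟩ := hn.conj_mem _ (Subgroup.mem_map_of_mem τ hj) h⁻¹
      rw [inv_inv] at hj'
      have h1 := Subgroup.mem_centralizer_iff.1 hxC _ hj'J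
      have h2 := congrArg τ h1
      rw [map_mul, map_mul, hj'] at h2
      calc τ j * (h * τ x * h⁻¹) = h * ((h⁻¹ * τ j * h) * τ x) * h⁻¹ := by group
        _ = h * (τ x * (h⁻¹ * τ j * h)) * h⁻¹ := by rw [h2]
        _ = h * τ x * h⁻¹ * τ j := by group
    · apply hinj
      rw [map_pow, hx', conj_pow, ← map_pow, hxp, map_one]
      simp
  exact hle hn'

end snc

end Cfsg.Agent.H1
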