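import Mathlib
import Cfsg.Prelude.Def_PLocal
import Cfsg.Agent.H1.Basic
import Cfsg.Agent.H1.Cores
import Cfsg.Agent.H1.Thompson
import Cfsg.Agent.H1.StableNormalClosure

set_option autoImplicit false
set_option linter.style.haveILetI false
set_option linter.unusedVariables false
set_option linter.unusedSectionVars false

open scoped commutatorElement

namespace Cfsg.Agent.H1

open Cfsg

section quadelem
variable {G : Type*} [Group G]

theorem mem_centralizer_zpowers_iff' (a u : G) :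
    u ∈ Subgroup.centralizer (Subgroup.zpowers a : Set G) ↔ u * a = a * u := by
  rw [Subgroup.mem_centralizer_iff]
  constructor
  · intro h
    exact (h a (Subgroup.mem_zpowers a)).symm
  · intro h z hz
    obtain ⟨i, rfl⟩ := Subgroup.mem_zpowers_iff.mp hz
    have h1 : Commute u a := h
    exact (h1.zpow_right i).symm

/-- elementwise form of quadratic action -/
theorem quad_iff (V : Subgroup G) (a : G) :
    ⁅⁅V, Subgroup.zpowers a⁆, Subgroup.zpowers a⁆ = ⊥ ↔
      ∀ v ∈ V, ∀ i : ℤ, ⁅v, a ^ i⁆ * a = a * ⁅v, a ^ i⁆ := by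
  rw [Subgroup.commutator_eq_bot_iff_le_centralizer, Subgroup.commutator_le]
  constructor
  · intro h v hv i
    exact (mem_centralizer_zpowers_iff' a _).mp (h v hv (a ^ i) (Subgroup.zpow_mem_zpowers a i))
  · intro h v hv z hz
    obtain ⟨i, rfl⟩ := Subgroup.mem_zpowers_iff.mp hz
    exact (mem_centralizer_zpowers_iff' a _).mpr (h v hv i)

/-- quadratic action on a normal subgroup depends only on the class modulo the centralizer -/
theorem quad_congr (V : Subgroup G) [hVn : V.Normal] (a b : G)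
    (hab : a⁻¹ * b ∈ Subgroup.centralizer (V : Set G))
    (ha : ⁅⁅V, Subgroup.zpowers a⁆, Subgroup.zpowers a⁆ = ⊥) :
    ⁅⁅V, Subgroup.zpowers b⁆, Subgroup.zpowers b⁆ = ⊥ := by
  rw [quad_iff] at ha ⊢
  haveI hCn : (Subgroup.centralizer (V : Set G)).Normal := Subgroup.normal_centralizer
  intro v hv i
  have hi : (a ^ i)⁻¹ * b ^ i ∈ Subgroup.centralizer (V : Set G) := by
    have h1 : (QuotientGroup.mk a : G ⧸ Subgroup.centralizer (V : Set G)) = QuotientGroup.mk b :=
      QuotientGroup.eq.mpr hab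
    have h2 : (QuotientGroup.mk (a ^ i) : G ⧸ Subgroup.centralizer (V : Set G)) =
        QuotientGroup.mk (b ^ i) := by
      rw [QuotientGroup.mk_zpow, QuotientGroup.mk_zpow, h1]
    exact QuotientGroup.eq.mp h2
  obtain ⟨c, hc⟩ : ∃ c, c = a⁻¹ * b := ⟨_, rfl⟩
  obtain ⟨ci, hci⟩ : ∃ ci, ci = (a ^ i)⁻¹ * b ^ i := ⟨_, rfl⟩
  rw [← hc] at hab
  rw [← hci] at hi
  have hb : b = a * c := by rw [hc]; group
  have hbi : b ^ i = a ^ i * ci := by rw [hci]; group
  have hcomm : ⁅v, b ^ i⁆ = ⁅v, a ^ i⁆ := by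
    rw [commutatorElement_def, commutatorElement_def, hbi]
    have h3 : v⁻¹ * ci = ci * v⁻¹ := Subgroup.mem_centralizer_iff.mp hi v⁻¹ (V.inv_mem hv)
    calc v * (a ^ i * ci) * v⁻¹ * (a ^ i * ci)⁻¹
        = v * a ^ i * (ci * v⁻¹) * ci⁻¹ * (a ^ i)⁻¹ := by group
      _ = v * a ^ i * (v⁻¹ * ci) * ci⁻¹ * (a ^ i)⁻¹ := by rw [h3]
      _ = v * a ^ i * v⁻¹ * (a ^ i)⁻¹ := by group
  have hu : ⁅v, a ^ i⁆ ∈ V := by
    rw [commutatorElement_def]
    have h4 : a ^ i * v⁻¹ * (a ^ i)⁻¹ ∈ V := hVn.conj_mem _ (V.inv_mem hv) _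
    have h5 : v * a ^ i * v⁻¹ * (a ^ i)⁻¹ = v * (a ^ i * v⁻¹ * (a ^ i)⁻¹) := by group
    rw [h5]
    exact V.mul_mem hv h4
  have h4 : ⁅v, a ^ i⁆ * c = c * ⁅v, a ^ i⁆ := Subgroup.mem_centralizer_iff.mp hab _ hu
  rw [hcomm, hb]
  calc ⁅v, a ^ i⁆ * (a * c) = (⁅v, a ^ i⁆ * a) * c := by group
    _ = a * ⁅v, a ^ i⁆ * c := by rw [ha v hv i]
    _ = a * (⁅v, a ^ i⁆ * c) := by group
    _ = a * (c * ⁅v, a ^ i⁆) := by rw [h4]
    _ = a * c * ⁅v, a ^ i⁆ := by group

theorem map_conj_eq_self_of_normal (V : Subgroup G) [hVn : V.Normal] (h : G) :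
    V.map (MulAut.conj h).toMonoidHom = V := by
  ext x
  rw [Subgroup.mem_map]
  constructor
  · rintro ⟨y, hy, rfl⟩
    exact hVn.conj_mem y hy h
  · intro hx
    refine ⟨h⁻¹ * x * h, ?_, ?_⟩
    · have := hVn.conj_mem x hx h⁻¹
      rw [inv_inv] at this
      exact this
    · show h * (h⁻¹ * x * h) * h⁻¹ = x
      group

theorem quad_conj_of_normal (V : Subgroup G) [hVn : V.Normal] (a h : G)
    (hq : ⁅⁅V, Subgroup.zpowers a⁆, Subgroup.zpowers a⁆ = ⊥) :
    ⁅⁅V, Subgroup.zpowers (h * a * h⁻¹)⁆, Subgroup.zpowers (h * a * h⁻¹)⁆ = ⊥ := by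
  have h1 : (Subgroup.zpowers a).map (MulAut.conj h).toMonoidHom = Subgroup.zpowers (h * a * h⁻¹) := by
    rw [MonoidHom.map_zpowers]
    rfl
  have h2 := congrArg (Subgroup.map (MulAut.conj h).toMonoidHom) hq
  rw [Subgroup.map_commutator, Subgroup.map_commutator, h1, map_conj_eq_self_of_normal V h,
    Subgroup.map_bot] at h2
  exact h2

/-- quadratic action transported along a homomorphism -/
theorem quad_map {H : Type*} [Group H] (f : G →* H) (W : Subgroup G) (y : G)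
    (hq : ⁅⁅W, Subgroup.zpowers y⁆, Subgroup.zpowers y⁆ = ⊥) :
    ⁅⁅W.map f, Subgroup.zpowers (f y)⁆, Subgroup.zpowers (f y)⁆ = ⊥ := by
  have h2 := congrArg (Subgroup.map f) hq
  rw [Subgroup.map_commutator, Subgroup.map_commutator, MonoidHom.map_zpowers, Subgroup.map_bot] at h2
  exact h2

theorem quad_of_map_injective {H : Type*} [Group H] (f : G →* H) (hf : Function.Injective f)
    (W : Subgroup G) (y : G)
    (hq : ⁅⁅W.map f, Subgroup.zpowers (f y)⁆, Subgroup.zpowers (f y)⁆ = ⊥) :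
    ⁅⁅W, Subgroup.zpowers y⁆, Subgroup.zpowers y⁆ = ⊥ := by
  have h2 : (⁅⁅W, Subgroup.zpowers y⁆, Subgroup.zpowers y⁆).map f = ⊥ := by
    rw [Subgroup.map_commutator, Subgroup.map_commutator, MonoidHom.map_zpowers]
    exact hq
  exact (Subgroup.map_eq_bot_iff_of_injective _ hf).mp h2

theorem quad_mono {V W : Subgroup G} (hWV : W ≤ V) (a : G)
    (hq : ⁅⁅V, Subgroup.zpowers a⁆, Subgroup.zpowers a⁆ = ⊥) :
    ⁅⁅W, Subgroup.zpowers a⁆, Subgroup.zpowers a⁆ = ⊥ := by
  rw [eq_bot_iff, ← hq]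
  exact Subgroup.commutator_mono (Subgroup.commutator_mono hWV le_rfl) le_rfl

/-- an element whose class modulo the normal subgroup `N` lies in `O_p(H/N)` is congruent modulo `N` to an element of
any given Sylow `p`-subgroup -/
theorem exists_mem_sylow_of_mk_mem_pCore {H : Type*} [Group H] [Finite H] {p : ℕ} [Fact p.Prime]
    (N : Subgroup H) [N.Normal] (P : Sylow p H) (x : H)
    (hx : (QuotientGroup.mk x : H ⧸ N) ∈ Cfsg.pCore p (H ⧸ N)) : ∃ s ∈ P, s⁻¹ * x ∈ N := by
  have h1 := pCore_le_sylow (P.mapSurjective (QuotientGroup.mk'_surjective N)) hx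
  rw [Sylow.coe_mapSurjective] at h1
  obtain ⟨s, hs, hsx⟩ := h1
  exact ⟨s, hs, QuotientGroup.eq.mp hsx⟩

end quadelem

section snc2
universe u
variable {S : Type u} [Group S] {p : ℕ}

theorem omegaOne_center_le_stableNormalClosure :
    Cfsg.omegaOne p (Subgroup.center S) ≤ Cfsg.stableNormalClosure p S := by
  rw [stableNormalClosure_eq]
  apply le_sInf
  intro W hW
  exact hW.1

theorem stableNormalClosure_le_omegaCenterThompson [Finite S] :
    Cfsg.stableNormalClosure p S ≤ Cfsg.omegaCenterThompson p S := by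
  rw [stableNormalClosure_eq]
  apply sInf_le
  refine ⟨omegaOne_center_le_omegaCenterThompson, ?_⟩
  intro H _ τ hτ
  exact omegaCenterThompson_map_normal τ hτ.1 hτ.2.2.2.2.1

/-- the image of `W(S)` under a stable embedding is normal -/
theorem stableNormalClosure_map_normal [Finite S] {H : Type u} [Group H] (τ : S →* H)
    (hτ : Cfsg.IsStableEmbedding p τ) : ((Cfsg.stableNormalClosure p S).map τ).Normal := by
  have hZn : ((Cfsg.omegaCenterThompson p S).map τ).Normal :=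
    omegaCenterThompson_map_normal τ hτ.1 hτ.2.2.2.2.1
  constructor
  rintro _ ⟨w, hw, rfl⟩ h
  obtain ⟨z, hz, hzeq⟩ := hZn.conj_mem _
    (Subgroup.mem_map_of_mem τ (stableNormalClosure_le_omegaCenterThompson hw)) h
  have hw0 : w ∈ Cfsg.stableNormalClosure p S := hw
  refine ⟨z, ?_, hzeq⟩
  rw [SetLike.mem_coe, stableNormalClosure_eq, Subgroup.mem_sInf]
  intro W₁ hW₁
  have hw₁ : w ∈ W₁ := by
    rw [stableNormalClosure_eq, Subgroup.mem_sInf] at hw0
    exact hw0 W₁ hW₁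
  obtain ⟨w₁, hw₁', hw₁eq⟩ := (hW₁.2 H τ hτ).conj_mem (τ w) (Subgroup.mem_map_of_mem τ hw₁) h
  have : w₁ = z := hτ.1 (hw₁eq.trans hzeq.symm)
  rw [← this]
  exact hw₁'

/-- **KS 9.4**: every element of `S` acting quadratically on `W(S)` centralizes it. -/
theorem stableNormalClosure_le_centralizer_quad [Finite S] [Fact p.Prime] :
    Cfsg.stableNormalClosure p S ≤ Subgroup.centralizer
      {y : S | ⁅⁅Cfsg.stableNormalClosure p S, Subgroup.zpowers y⁆, Subgroup.zpowers y⁆ = ⊥} := by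
  obtain ⟨W, hWdef⟩ : ∃ W : Subgroup S, W = Cfsg.stableNormalClosure p S := ⟨_, rfl⟩
  rw [← hWdef]
  obtain ⟨Q, hQdef⟩ : ∃ Q : Set S, Q = {y : S | ⁅⁅W, Subgroup.zpowers y⁆, Subgroup.zpowers y⁆ = ⊥} :=
    ⟨_, rfl⟩
  rw [← hQdef]
  have hmem : W ⊓ Subgroup.centralizer Q ∈ sncFamily p S := by
    refine ⟨le_inf ?_ ?_, ?_⟩
    · rw [hWdef]; exact omegaOne_center_le_stableNormalClosure
    · have h1 : Cfsg.omegaOne p (Subgroup.center S) ≤ Subgroup.center S := by
        unfold Cfsg.omegaOne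
        rw [Subgroup.closure_le]
        intro x hx
        exact hx.1
      exact h1.trans (Subgroup.center_le_centralizer _)
    · intro H _ τ hτ
      obtain ⟨hinj, hfin, ⟨P, hP⟩, hc, hJ, hst⟩ := id hτ
      haveI := hfin
      obtain ⟨V, hVdef⟩ : ∃ V : Subgroup H, V = W.map τ := ⟨_, rfl⟩
      haveI hVn : V.Normal := by rw [hVdef, hWdef]; exact stableNormalClosure_map_normal τ hτ
      have hVZ : V ≤ (Cfsg.omegaCenterThompson p S).map τ := by
        rw [hVdef, hWdef]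
        exact Subgroup.map_mono stableNormalClosure_le_omegaCenterThompson
      have hstV : Cfsg.IsPStableOn p V := hst V hVZ
      constructor
      rintro _ ⟨w, hw, rfl⟩ h
      obtain ⟨hwW, hwQ⟩ := Subgroup.mem_inf.mp hw
      have hw₂' : h * τ w * h⁻¹ ∈ V :=
        hVn.conj_mem (τ w) (by rw [hVdef]; exact Subgroup.mem_map_of_mem τ hwW) h
      rw [hVdef] at hw₂'
      obtain ⟨w₂, hw₂, hw₂eq⟩ := hw₂'
      refine ⟨w₂, Subgroup.mem_inf.mpr ⟨hw₂, ?_⟩, hw₂eq⟩
      rw [Subgroup.mem_centralizer_iff]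
      intro y hy
      apply hinj
      rw [map_mul, map_mul, hw₂eq]
      rw [hQdef] at hy
      have hy' : ⁅⁅W, Subgroup.zpowers y⁆, Subgroup.zpowers y⁆ = ⊥ := hy
      -- `a = h⁻¹ τ(y) h` is quadratic on `V`
      obtain ⟨a, hadef⟩ : ∃ a : H, a = h⁻¹ * τ y * h := ⟨_, rfl⟩
      have haq : ⁅⁅V, Subgroup.zpowers a⁆, Subgroup.zpowers a⁆ = ⊥ := by
        have h1 := quad_map τ W y hy'
        rw [← hVdef] at h1
        have h2 := quad_conj_of_normal V (τ y) h⁻¹ h1
        rw [inv_inv] at h2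
        rw [hadef]; exact h2
      have ha1 := hstV a haq
      obtain ⟨s, hs, hsa⟩ := exists_mem_sylow_of_mk_mem_pCore _ P a ha1
      have hs' : s ∈ (P : Subgroup H) := hs
      rw [hP] at hs'
      obtain ⟨t, rfl⟩ := hs'
      -- `t` is quadratic on `W`
      have htq : ⁅⁅W, Subgroup.zpowers t⁆, Subgroup.zpowers t⁆ = ⊥ := by
        apply quad_of_map_injective τ hinj
        rw [← hVdef]
        apply quad_congr V a (τ t) _ haq
        have h3 := Subgroup.inv_mem _ hsa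
        have h4 : ((τ t)⁻¹ * a)⁻¹ = a⁻¹ * τ t := by group
        rw [h4] at h3
        exact h3
      have htQ : t ∈ Q := by rw [hQdef]; exact htq
      have h5 : t * w = w * t := Subgroup.mem_centralizer_iff.mp hwQ t htQ
      have h6 : τ t * τ w = τ w * τ t := by rw [← map_mul, ← map_mul, h5]
      have hτwV : τ w ∈ V := by rw [hVdef]; exact Subgroup.mem_map_of_mem τ hwW
      have h7 : τ w * ((τ t)⁻¹ * a) = (τ t)⁻¹ * a * τ w := Subgroup.mem_centralizer_iff.mp hsa _ hτwV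
      have h8 : a * τ w = τ w * a := by
        calc a * τ w = τ t * ((τ t)⁻¹ * a * τ w) := by group
          _ = τ t * (τ w * ((τ t)⁻¹ * a)) := by rw [h7]
          _ = (τ t * τ w) * ((τ t)⁻¹ * a) := by group
          _ = (τ w * τ t) * ((τ t)⁻¹ * a) := by rw [h6]
          _ = τ w * a := by group
      rw [hadef] at h8
      calc τ y * (h * τ w * h⁻¹) = h * ((h⁻¹ * τ y * h) * τ w) * h⁻¹ := by group
        _ = h * (τ w * (h⁻¹ * τ y * h)) * h⁻¹ := by rw [h8]
        _ = h * τ w * h⁻¹ * τ y := by group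
  have h1 : W ≤ W ⊓ Subgroup.centralizer Q := by
    conv_lhs => rw [hWdef, stableNormalClosure_eq]
    exact sInf_le hmem
  exact h1.trans inf_le_right

end snc2

end Cfsg.Agent.H1
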