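import Mathlib
import Cfsg.Prelude.Def_Transfer
import Cfsg.Prelude.Def_PLocal
import Cfsg.Prelude.Def_TwoFusion
import Cfsg.Agent.Lib.Helper4.GT
import Cfsg.Agent.Lib.Helper4.GTZJ
import Cfsg.Agent.H1.GTStructure
import Cfsg.Agent.Lib.Helper7.Thompson
import Cfsg.Agent.S0607
import Cfsg.Agent.H1.NormMap

set_option autoImplicit false
set_option linter.style.haveILetI false
set_option linter.unusedVariables false
set_option linter.unusedSectionVars false

open scoped commutatorElement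

namespace Cfsg.Agent.H1

open Cfsg Cfsg.Agent.Lib.Helper4.PNil Cfsg.Agent.Lib.Helper4.GT Cfsg.Agent.Lib.Helper4.GTZJ
  Cfsg.Agent.Lib.Lead.Conj Cfsg.Agent.Lib.Helper4.ZJ

section natural
variable {X Y : Type*} [Group X] [Group Y] [Finite X] [Finite Y] {p : ℕ}

/-- naturality of `J_e` under homomorphisms injective on `D` -/
theorem thompsonSubgroupOf_map (f : X →* Y) (D : Subgroup X) (hinj : ∀ x ∈ D, f x = 1 → x = 1) :
    Cfsg.thompsonSubgroupOf p (D.map f) = (Cfsg.thompsonSubgroupOf p D).map f := by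
  apply le_antisymm
  · apply Lib.Helper7.thompsonSubgroupOf_le_of
    intro B hB
    have h1 : B.comap f ⊓ D ∈ fam (fun A : Subgroup X => Cfsg.IsElementaryAbelian p A) D :=
      el_comap_mem_fam f D hinj hB
    have h2 : B.comap f ⊓ D ≤ Cfsg.thompsonSubgroupOf p D :=
      Lib.Helper7.IsMaxEA.le_thompsonSubgroupOf h1
    have h3 : (B.comap f ⊓ D).map f = B := map_comap_inf_eq f D B hB.1
    rw [← h3]
    exact Subgroup.map_mono h2
  · rw [Subgroup.map_le_iff_le_comap]
    apply Lib.Helper7.thompsonSubgroupOf_le_of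
    intro A hA
    rw [← Subgroup.map_le_iff_le_comap]
    have h1 : A.map f ∈ fam (fun B : Subgroup Y => Cfsg.IsElementaryAbelian p B) (D.map f) :=
      el_map_mem_fam f D hinj hA
    exact Lib.Helper7.IsMaxEA.le_thompsonSubgroupOf h1

/-- naturality of `Z(D)` under homomorphisms injective on `D` -/
theorem center_map (f : X →* Y) (D : Subgroup X) (hinj : ∀ x ∈ D, f x = 1 → x = 1) :
    D.map f ⊓ Subgroup.centralizer ((D.map f : Subgroup Y) : Set Y) =
      (D ⊓ Subgroup.centralizer (D : Set X)).map f := by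
  apply le_antisymm
  · intro y hy
    rw [Subgroup.mem_inf] at hy
    obtain ⟨⟨x, hx, rfl⟩, hc⟩ := hy
    refine ⟨x, ?_, rfl⟩
    rw [SetLike.mem_coe, Subgroup.mem_inf]
    refine ⟨hx, ?_⟩
    rw [Subgroup.mem_centralizer_iff]
    intro d hd
    apply eq_of_map_eq_of_injOn f D hinj (mul_mem hd hx) (mul_mem hx hd)
    rw [map_mul, map_mul]
    exact Subgroup.mem_centralizer_iff.mp hc (f d) ⟨d, hd, rfl⟩
  · rintro _ ⟨x, hx, rfl⟩
    rw [SetLike.mem_coe, Subgroup.mem_inf] at hx
    rw [Subgroup.mem_inf]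
    obtain ⟨hx, hc⟩ := hx
    refine ⟨⟨x, hx, rfl⟩, ?_⟩
    rw [Subgroup.mem_centralizer_iff]
    rintro _ ⟨d, hd, rfl⟩
    rw [← map_mul, ← map_mul, Subgroup.mem_centralizer_iff.mp hc d hd]

end natural

section transfer
universe u
variable {G : Type u} [Group G] [Finite G] {p : ℕ}

theorem subgroupOf_centralizer_eq' {L Z : Subgroup G} (hZL : Z ≤ L) :
    (Subgroup.centralizer (Z : Set G)).subgroupOf L =
      Subgroup.centralizer ((Z.subgroupOf L : Subgroup ↥L) : Set ↥L) := by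
  ext x
  rw [Subgroup.mem_subgroupOf, Subgroup.mem_centralizer_iff, Subgroup.mem_centralizer_iff]
  constructor
  · intro h z hz
    apply Subtype.ext
    exact h z.1 (Subgroup.mem_subgroupOf.mp hz)
  · intro h z hz
    exact congrArg Subtype.val (h ⟨z, hZL hz⟩ (Subgroup.mem_subgroupOf.mpr hz))

theorem thompsonSubgroupOf_subgroupOf {L D : Subgroup G} (hDL : D ≤ L) :
    Cfsg.thompsonSubgroupOf p (D.subgroupOf L) = (Cfsg.thompsonSubgroupOf p D).subgroupOf L := by
  have hmap : (D.subgroupOf L).map L.subtype = D := Subgroup.map_subgroupOf_eq_of_le hDL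
  have hJmap := thompsonSubgroupOf_map (p := p) L.subtype (D.subgroupOf L) (fun x _ hx => by
    have h1 : L.subtype x = L.subtype 1 := by rw [hx, map_one]
    exact L.subtype_injective h1)
  rw [hmap] at hJmap
  rw [hJmap]
  exact (Subgroup.comap_map_eq_self_of_injective L.subtype_injective _).symm

theorem center_subgroupOf {L D : Subgroup G} (hDL : D ≤ L) :
    D.subgroupOf L ⊓ Subgroup.centralizer ((D.subgroupOf L : Subgroup ↥L) : Set ↥L) =
      (D ⊓ Subgroup.centralizer (D : Set G)).subgroupOf L := by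
  have hmap : (D.subgroupOf L).map L.subtype = D := Subgroup.map_subgroupOf_eq_of_le hDL
  have hZmap := center_map L.subtype (D.subgroupOf L) (fun x _ hx => by
    have h1 : L.subtype x = L.subtype 1 := by rw [hx, map_one]
    exact L.subtype_injective h1)
  rw [hmap] at hZmap
  rw [hZmap]
  exact (Subgroup.comap_map_eq_self_of_injective L.subtype_injective _).symm

theorem pnil_normalizer_thompson_subgroupOf [Fact p.Prime] {L D : Subgroup G} (hDL : D ≤ L)
    (hN : PNil p (Subgroup.normalizer (Cfsg.thompsonSubgroupOf p D : Set G))) :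
    PNil p (Subgroup.normalizer (Cfsg.thompsonSubgroupOf p (D.subgroupOf L) : Set ↥L)) := by
  have hJle : Cfsg.thompsonSubgroupOf p D ≤ L := (Lib.Helper7.thompsonSubgroupOf_le D).trans hDL
  rw [thompsonSubgroupOf_subgroupOf hDL, ← Subgroup.subgroupOf_normalizer_eq hJle,
    ← Subgroup.inf_subgroupOf_right, pnil_subgroupOf_iff inf_le_right]
  exact pnil_mono inf_le_left hN

theorem pnil_centralizer_center_subgroupOf [Fact p.Prime] {L D : Subgroup G} (hDL : D ≤ L)
    (hN : PNil p (Subgroup.centralizer ((D ⊓ Subgroup.centralizer (D : Set G) : Subgroup G) : Set G))) :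
    PNil p (Subgroup.centralizer ((D.subgroupOf L ⊓
      Subgroup.centralizer ((D.subgroupOf L : Subgroup ↥L) : Set ↥L) : Subgroup ↥L) : Set ↥L)) := by
  have hZle : D ⊓ Subgroup.centralizer (D : Set G) ≤ L := inf_le_left.trans hDL
  rw [center_subgroupOf hDL, ← subgroupOf_centralizer_eq' hZle,
    ← Subgroup.inf_subgroupOf_right, pnil_subgroupOf_iff inf_le_right]
  exact pnil_mono inf_le_left hN

/-- centralizers of `p`-subgroups lift through quotients by normal `p'`-subgroups -/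
theorem centralizer_map_mk_le [Fact p.Prime] (M Z : Subgroup G) [M.Normal] (hZ : IsPGroup p Z)
    (hM : (Nat.card M).Coprime p) :
    Subgroup.centralizer ((Z.map (QuotientGroup.mk' M) : Subgroup (G ⧸ M)) : Set (G ⧸ M)) ≤
      (Subgroup.centralizer (Z : Set G)).map (QuotientGroup.mk' M) := by
  intro gbar hg
  obtain ⟨g, rfl⟩ := QuotientGroup.mk'_surjective M gbar
  have hgn : QuotientGroup.mk' M g ∈ Subgroup.normalizer
      ((Z.map (QuotientGroup.mk' M) : Subgroup (G ⧸ M)) : Set (G ⧸ M)) :=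
    Subgroup.centralizer_le_normalizer _ hg
  obtain ⟨n, hn, hng⟩ := exists_mem_normalizer_lift M Z hZ hM hgn
  refine ⟨n, ?_, hng⟩
  have hinf : M ⊓ Z = ⊥ := inf_eq_bot_of_pgroup_coprime M Z hZ hM
  rw [SetLike.mem_coe, Subgroup.mem_centralizer_iff]
  intro z hz
  have h1 : n * z * n⁻¹ ∈ Z := (Subgroup.mem_normalizer_iff.mp hn z).mp hz
  have h2 : n * z * n⁻¹ * z⁻¹ ∈ Z := Z.mul_mem h1 (Z.inv_mem hz)
  have h3 : n * z * n⁻¹ * z⁻¹ ∈ M := by
    rw [← QuotientGroup.eq_one_iff, ← QuotientGroup.mk'_apply]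
    simp only [map_mul, map_inv, hng]
    have h4 := Subgroup.mem_centralizer_iff.mp hg (QuotientGroup.mk' M z) ⟨z, hz, rfl⟩
    rw [← h4]
    group
  have h5 : n * z * n⁻¹ * z⁻¹ ∈ M ⊓ Z := ⟨h3, h2⟩
  rw [hinf, Subgroup.mem_bot] at h5
  calc z * n = (n * z * n⁻¹ * z⁻¹)⁻¹ * (n * z) := by group
    _ = n * z := by rw [h5, inv_one, one_mul]

end transfer

section final
universe u
variable {G : Type u} [Group G] [Finite G] {p : ℕ}

theorem pCore_quotient_eq_bot' (C : Subgroup G) [C.Normal] (hC : C = Cfsg.pCore p G) :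
    Cfsg.pCore p (G ⧸ C) = ⊥ := by
  haveI hOn : (Cfsg.pCore p (G ⧸ C)).Normal := Cfsg.Agent.H9.pCore_normal p (G ⧸ C)
  haveI hn : ((Cfsg.pCore p (G ⧸ C)).comap (QuotientGroup.mk' C)).Normal := hOn.comap _
  have hp : IsPGroup p ↥((Cfsg.pCore p (G ⧸ C)).comap (QuotientGroup.mk' C)) := by
    apply IsPGroup.comap_of_ker_isPGroup (Cfsg.Agent.H9.pCore_isPGroup p (G ⧸ C))
    rw [QuotientGroup.ker_mk', hC]
    exact Cfsg.Agent.H9.pCore_isPGroup p G
  have hle := Cfsg.Agent.H9.le_pCore _ hp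
  rw [eq_bot_iff]
  intro x hx
  obtain ⟨g, rfl⟩ := QuotientGroup.mk_surjective x
  rw [Subgroup.mem_bot]
  have h1 : g ∈ Cfsg.pCore p G := hle hx
  rw [← hC] at h1
  exact (QuotientGroup.eq_one_iff g).mpr h1

theorem exists_pow_order_p [Fact p.Prime] {z : G} (hz : ∃ k : ℕ, z ^ p ^ k = 1) (hz1 : z ≠ 1) :
    ∃ m : ℕ, (z ^ m) ^ p = 1 ∧ z ^ m ≠ 1 := by
  classical
  have hk0 : Nat.find hz ≠ 0 := by
    intro h0
    have := Nat.find_spec hz
    rw [h0, pow_zero, pow_one] at this
    exact hz1 this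
  obtain ⟨j, hj⟩ := Nat.exists_eq_succ_of_ne_zero hk0
  refine ⟨p ^ j, ?_, ?_⟩
  · rw [← pow_mul, ← pow_succ]
    have := Nat.find_spec hz
    rw [hj] at this
    exact this
  · intro h
    have := Nat.find_min hz (m := j) (by omega)
    exact this h

/-- a nontrivial subgroup `T` of a `p`-group `P` normalized by `P` contains an element of order `p`
centralized by `P` -/
theorem exists_central_order_p [Fact p.Prime] {P T : Subgroup G} (hP : IsPGroup p P) (hTP : T ≤ P)
    (hn : P ≤ Subgroup.normalizer (T : Set G)) (hT : T ≠ ⊥) :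
    ∃ y ∈ T, y ∈ Subgroup.centralizer (P : Set G) ∧ y ^ p = 1 ∧ y ≠ 1 := by
  haveI : (T.subgroupOf P).Normal := (Subgroup.normal_subgroupOf_iff_le_normalizer hTP).mpr hn
  have hne : T.subgroupOf P ≠ ⊥ := by
    obtain ⟨x, hx⟩ := (Subgroup.ne_bot_iff_exists_ne_one).mp hT
    intro h
    have h1 : (⟨x, hTP x.2⟩ : ↥P) ∈ T.subgroupOf P := Subgroup.mem_subgroupOf.mpr x.2
    rw [h, Subgroup.mem_bot] at h1
    apply hx
    apply Subtype.ext
    have h2 := congrArg (fun t : ↥P => (t : G)) h1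
    exact h2
  obtain ⟨z, hzT, hzZ, hz1⟩ := Cfsg.Agent.Lib.Lead.PGroup.exists_mem_center_of_normal hP (T.subgroupOf P) hne
  obtain ⟨m, hm1, hm2⟩ := exists_pow_order_p (p := p) (hP z) hz1
  refine ⟨((z ^ m : ↥P) : G), ?_, ?_, ?_, ?_⟩
  · exact Subgroup.mem_subgroupOf.mp (pow_mem hzT m)
  · rw [Subgroup.mem_centralizer_iff]
    intro x hx
    have h2 := Subgroup.mem_center_iff.mp (pow_mem hzZ m) ⟨x, hx⟩
    exact congrArg Subtype.val h2
  · rw [← Subgroup.coe_pow, hm1, Subgroup.coe_one]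
  · intro h
    apply hm2
    apply Subtype.ext
    rw [h, Subgroup.coe_one]

theorem pnil_of_isPGroup [Fact p.Prime] {L : Subgroup G} (hL : IsPGroup p L) : PNil p L := by
  obtain ⟨k, hk⟩ := hL.exists_card_eq
  refine ⟨⊥, bot_le, ?_, ?_, k, ?_⟩
  · rw [Subgroup.normalizer_eq_top_iff.mpr inferInstance]; exact le_top
  · rw [Subgroup.card_bot]; exact Nat.coprime_one_left p
  · rw [Subgroup.relIndex_bot_left]; exact hk

/-- `J(D) = J(S)` for `J(S) ≤ D ≤ S` (ambient form) -/
theorem J_eq_of_le {S D : Subgroup G}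
    (h1 : Cfsg.thompsonSubgroupOf p S ≤ D) (h2 : D ≤ S) :
    Cfsg.thompsonSubgroupOf p D = Cfsg.thompsonSubgroupOf p S := by
  obtain ⟨A₀, hA₀'⟩ := fam_nonempty (Cfsg.Agent.S0654.goodEl (G := G) p) S
  have hA₀ : Lib.Helper7.IsMaxEA p S A₀ := hA₀'
  have hA₀D : A₀ ≤ D := hA₀.le_thompsonSubgroupOf.trans h1
  apply le_antisymm
  · apply Lib.Helper7.thompsonSubgroupOf_le_of
    intro A hA
    apply Lib.Helper7.IsMaxEA.le_thompsonSubgroupOf
    refine ⟨hA.1.trans h2, hA.2.1, ?_⟩
    intro B hB hBe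
    exact (hA₀.2.2 B hB hBe).trans (hA.2.2 _ hA₀D hA₀.2.1)
  · apply Lib.Helper7.thompsonSubgroupOf_le_of
    intro A hA
    apply Lib.Helper7.IsMaxEA.le_thompsonSubgroupOf
    refine ⟨hA.le_thompsonSubgroupOf.trans h1, hA.2.1, ?_⟩
    intro B hB hBe
    exact hA.2.2 B (hB.trans h2) hBe

/-- `N_G(D) ≤ N_G(J(D))` -/
theorem normalizer_le_normalizer_J (D : Subgroup G) :
    Subgroup.normalizer (D : Set G) ≤ Subgroup.normalizer (Cfsg.thompsonSubgroupOf p D : Set G) := by
  intro n hn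
  apply mem_normalizer_of_conj_mem
  intro x hx
  have h1 := Lib.Helper7.thompsonSubgroupOf_map_conj (p := p) D n
  rw [Cfsg.Agent.Lib.Helper4.GT.map_conj_eq hn] at h1
  rw [h1]
  exact ⟨x, hx, rfl⟩

theorem tnpc_final [Fact p.Prime] (hp2 : p ≠ 2) (P : Sylow p G)
    (hN : PNil p (Subgroup.normalizer (Cfsg.thompsonSubgroupOf p (P : Subgroup G) : Set G)))
    (hZ : PNil p (Subgroup.centralizer
      (((P : Subgroup G) ⊓ Subgroup.centralizer ((P : Subgroup G) : Set G) : Subgroup G) : Set G)))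
    (ihP : ∀ L : Subgroup G, (P : Subgroup G) ≤ L → L ≠ ⊤ → PNil p L)
    (hO : Cfsg.pPrimeCore p G = ⊥) : PNil p (⊤ : Subgroup G) := by
  have hp : p.Prime := Fact.out
  by_contra hnot
  obtain ⟨K₁, hK₁n, hHK, hC, hcop, ⟨k, hidx⟩, hab, hst, hmax⟩ :=
    minimal_nonPNil_structure hp2 P ihP hO hnot
  have hPp : IsPGroup p ↥(P : Subgroup G) := P.isPGroup'
  obtain ⟨H, hHdef⟩ : ∃ H : Subgroup G, H = Cfsg.pCore p G := ⟨_, rfl⟩
  rw [← hHdef] at hHK hC hcop hab
  haveI hHn : H.Normal := by rw [hHdef]; exact Cfsg.Agent.H9.pCore_normal p G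
  have hHp : IsPGroup p ↥H := by rw [hHdef]; exact Cfsg.Agent.H9.pCore_isPGroup p G
  have hHP : H ≤ (P : Subgroup G) := hHp.le_sylow_of_normal P
  have hle_H : ∀ (V : Subgroup G) [V.Normal], IsPGroup p ↥V → V ≤ H := by
    intro V _ hV
    rw [hHdef]; exact Cfsg.Agent.H9.le_pCore V hV
  have hPnil : PNil p (P : Subgroup G) := pnil_of_isPGroup hPp
  have hPtop : (P : Subgroup G) ≠ ⊤ := fun h => hnot (h ▸ hPnil)
  have hover : ∀ L : Subgroup G, (P : Subgroup G) ≤ L → PNil p L → L = (P : Subgroup G) := by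
    intro L hPL hL
    rcases hmax L hPL with h | h
    · exact h
    · exact absurd (h ▸ hL) hnot
  obtain ⟨Z, hZdef⟩ : ∃ Z : Subgroup G,
      Z = (P : Subgroup G) ⊓ Subgroup.centralizer ((P : Subgroup G) : Set G) := ⟨_, rfl⟩
  rw [← hZdef] at hZ
  have hZmem : ∀ z, z ∈ Z ↔ z ∈ (P : Subgroup G) ∧
      z ∈ Subgroup.centralizer ((P : Subgroup G) : Set G) := by
    intro z; rw [hZdef, Subgroup.mem_inf]
  have hPCZ : (P : Subgroup G) ≤ Subgroup.centralizer (Z : Set G) := by
    intro x hx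
    rw [Subgroup.mem_centralizer_iff]
    intro z hz
    exact (Subgroup.mem_centralizer_iff.mp ((hZmem z).mp hz).2 x hx).symm
  have hCZ : Subgroup.centralizer (Z : Set G) = (P : Subgroup G) := hover _ hPCZ hZ
  have hPNJ : (P : Subgroup G) ≤
      Subgroup.normalizer (Cfsg.thompsonSubgroupOf p (P : Subgroup G) : Set G) :=
    Subgroup.le_normalizer.trans (normalizer_le_normalizer_J (P : Subgroup G))
  have hNJ := hover _ hPNJ hN
  have hJH : ¬ Cfsg.thompsonSubgroupOf p (P : Subgroup G) ≤ H := by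
    intro hle
    have h1 : Cfsg.thompsonSubgroupOf p H = Cfsg.thompsonSubgroupOf p (P : Subgroup G) :=
      J_eq_of_le hle hHP
    have h2 : Subgroup.normalizer (H : Set G) ≤
        Subgroup.normalizer (Cfsg.thompsonSubgroupOf p H : Set G) := normalizer_le_normalizer_J H
    rw [Subgroup.normalizer_eq_top_iff.mpr hHn, h1, hNJ] at h2
    exact hPtop (top_le_iff.mp h2)
  obtain ⟨A, hA, hAH⟩ : ∃ A, Lib.Helper7.IsMaxEA p (P : Subgroup G) A ∧ ¬ A ≤ H := by
    by_contra hcon
    push Not at hcon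
    exact hJH (Lib.Helper7.thompsonSubgroupOf_le_of hcon)
  obtain ⟨B, hBdef⟩ : ∃ B : Subgroup G, B = H ⊓ Subgroup.centralizer (H : Set G) := ⟨_, rfl⟩
  have hBmem : ∀ b, b ∈ B ↔ b ∈ H ∧ b ∈ Subgroup.centralizer (H : Set G) := by
    intro b; rw [hBdef, Subgroup.mem_inf]
  haveI hBn : B.Normal := by rw [hBdef]; infer_instance
  have hBH : B ≤ H := fun b hb => ((hBmem b).mp hb).1
  have hBc : ∀ b ∈ B, ∀ h ∈ H, h * b = b * h := fun b hb h hh =>
    Subgroup.mem_centralizer_iff.mp ((hBmem b).mp hb).2 h hh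
  have hZB : Z ≤ B := by
    intro z hz
    have h1 : z ∈ Subgroup.centralizer (H : Set G) :=
      Subgroup.centralizer_le hHP ((hZmem z).mp hz).2
    exact (hBmem z).mpr ⟨hC h1, h1⟩
  obtain ⟨E, hE⟩ : ∃ E : Subgroup G, ∀ x, x ∈ E ↔ x ∈ B ∧ x ^ p = 1 :=
    ⟨{ carrier := {x | x ∈ B ∧ x ^ p = 1}
       mul_mem' := by
         rintro a b ⟨ha, hap⟩ ⟨hb, hbp⟩
         refine ⟨B.mul_mem ha hb, ?_⟩
         have hc : Commute a b := hBc b hb a (hBH ha)
         rw [hc.mul_pow, hap, hbp, one_mul]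
       one_mem' := ⟨B.one_mem, one_pow p⟩
       inv_mem' := by
         rintro a ⟨ha, hap⟩
         exact ⟨B.inv_mem ha, by rw [inv_pow, hap, inv_one]⟩ }, fun x => Iff.rfl⟩
  haveI hEn : E.Normal := ⟨fun x hx g => by
    rw [hE] at hx ⊢
    refine ⟨hBn.conj_mem x hx.1 g, ?_⟩
    rw [conj_pow, hx.2, mul_one, mul_inv_cancel]⟩
  have hEB : E ≤ B := fun x hx => ((hE x).mp hx).1
  have hEP : E ≤ (P : Subgroup G) := hEB.trans (hBH.trans hHP)
  have hEp : IsPGroup p ↥E := hPp.to_le hEP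
  have hEel : Cfsg.IsElementaryAbelian p E :=
    ⟨⟨⟨fun a b => Subtype.ext (hBc b.1 (hEB b.2) a.1 (hBH (hEB a.2)))⟩⟩, fun a ha => ((hE a).mp ha).2⟩
  have hHCE : H ≤ Subgroup.centralizer (E : Set G) := by
    intro h hh
    rw [Subgroup.mem_centralizer_iff]
    intro e he
    exact (hBc e (hEB he) h hh).symm
  by_cases hY : ∀ y ∈ Z, y ^ p = 1 → y ∈ Subgroup.center G
  · -- every element of order `p` of `Z(P)` is central in `G`
    haveI hHKn : (H.subgroupOf K₁).Normal := inferInstance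
    have hcardHK : Nat.card ↥(H.subgroupOf K₁) = Nat.card ↥H :=
      Nat.card_congr (Subgroup.subgroupOfEquivOfLe hHK).toEquiv
    obtain ⟨m, hm⟩ := hHp.exists_card_eq
    have hcop' : (Nat.card ↥(H.subgroupOf K₁)).Coprime (H.subgroupOf K₁).index := by
      rw [hcardHK, hm]
      exact Nat.Coprime.pow_left m (Nat.Coprime.symm hcop)
    obtain ⟨Q', hQ'⟩ := Subgroup.exists_right_complement'_of_coprime hcop'
    have hQ'card : Nat.card ↥Q' = H.relIndex K₁ := (hQ'.symm.index_eq_card).symm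
    obtain ⟨Q, hQdef⟩ : ∃ Q : Subgroup G, Q = Q'.map K₁.subtype := ⟨_, rfl⟩
    have hQcard : Nat.card ↥Q = H.relIndex K₁ := by
      rw [hQdef, Subgroup.card_map_of_injective K₁.subtype_injective]; exact hQ'card
    have hdecomp : ∀ x ∈ K₁, ∃ h ∈ H, ∃ q ∈ Q, x = h * q := by
      intro x hx
      obtain ⟨⟨n, q⟩, hnq, -⟩ := Subgroup.IsComplement.existsUnique hQ' ⟨x, hx⟩
      refine ⟨n.1.1, Subgroup.mem_subgroupOf.mp n.2, q.1.1, ?_, ?_⟩
      · rw [hQdef]; exact ⟨q.1, q.2, rfl⟩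
      · have h1 := congrArg Subtype.val hnq
        exact h1.symm
    have hBab : IsMulCommutative ↥B := ⟨⟨fun a b => Subtype.ext (hBc b.1 b.2 a.1 (hBH a.2))⟩⟩
    have hQB : Q ≤ Subgroup.normalizer (B : Set G) := by
      rw [Subgroup.normalizer_eq_top_iff.mpr hBn]; exact le_top
    have hcopQB : (Nat.card ↥Q).Coprime (Nat.card ↥B) := by
      obtain ⟨j, hj⟩ := (hHp.to_le hBH).exists_card_eq
      rw [hQcard, hj]
      exact Nat.Coprime.pow_right j hcop
    have hbot := commutator_inf_centralizer_eq_bot_of_abelian B Q hBab hQB hcopQB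
    have hTle : ⁅B, K₁⁆ ≤ ⁅B, Q⁆ := by
      rw [Subgroup.commutator_le]
      intro b hb x hx
      obtain ⟨h, hh, q, hq, rfl⟩ := hdecomp x hx
      have hc : ⁅b, q⁆ ∈ B := by
        rw [commutatorElement_def]
        have h1 : q * b⁻¹ * q⁻¹ ∈ B := hBn.conj_mem _ (B.inv_mem hb) q
        have e : b * q * b⁻¹ * q⁻¹ = b * (q * b⁻¹ * q⁻¹) := by group
        rw [e]; exact B.mul_mem hb h1
      have e : ⁅b, h * q⁆ = ⁅b, q⁆ := by
        have h1 : h * b = b * h := hBc b hb h hh
        have h2 : h * ⁅b, q⁆ = ⁅b, q⁆ * h := hBc _ hc h hh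
        calc ⁅b, h * q⁆ = (b * h) * q * b⁻¹ * q⁻¹ * h⁻¹ := by rw [commutatorElement_def]; group
          _ = h * ⁅b, q⁆ * h⁻¹ := by rw [← h1, commutatorElement_def]; group
          _ = ⁅b, q⁆ := by rw [h2]; group
      rw [e]
      exact Subgroup.commutator_mem_commutator hb hq
    have hT : ⁅B, K₁⁆ = ⊥ := by
      by_contra hTne
      have hTB : ⁅B, K₁⁆ ≤ B := Subgroup.commutator_le_left B K₁
      have hTP : ⁅B, K₁⁆ ≤ (P : Subgroup G) := hTB.trans (hBH.trans hHP)
      have hnT : (P : Subgroup G) ≤ Subgroup.normalizer ((⁅B, K₁⁆ : Subgroup G) : Set G) := by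
        rw [Subgroup.normalizer_eq_top_iff.mpr inferInstance]; exact le_top
      obtain ⟨y, hyT, hyC, hyp, hy1⟩ := exists_central_order_p hPp hTP hnT hTne
      have hyZ : y ∈ Z := (hZmem y).mpr ⟨hTP hyT, hyC⟩
      have hyc := hY y hyZ hyp
      have h1 : y ∈ ⁅B, Q⁆ ⊓ Subgroup.centralizer (Q : Set G) :=
        Subgroup.mem_inf.mpr ⟨hTle hyT, Subgroup.center_le_centralizer _ hyc⟩
      rw [hbot, Subgroup.mem_bot] at h1
      exact hy1 h1
    have hK₁P : K₁ ≤ (P : Subgroup G) := by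
      have h1 : B ≤ Subgroup.centralizer (K₁ : Set G) :=
        Subgroup.commutator_eq_bot_iff_le_centralizer.mp hT
      have h2 : K₁ ≤ Subgroup.centralizer (B : Set G) := Subgroup.le_centralizer_iff.mp h1
      rw [← hCZ]
      exact h2.trans (Subgroup.centralizer_le hZB)
    have hGp : IsPGroup p G := by
      obtain ⟨a, ha⟩ := (hPp.to_le hK₁P).exists_card_eq
      apply IsPGroup.of_card (n := a + k)
      rw [← Subgroup.card_mul_index K₁, ha, hidx, pow_add]
    apply hPtop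
    have hTp : IsPGroup p ↥(⊤ : Subgroup G) := hGp.to_subgroup ⊤
    exact (P.is_maximal' hTp le_top).symm
  · push Not at hY
    obtain ⟨y, hyZ, hyp, hyc⟩ := hY
    have hyE : y ∈ E := (hE y).mpr ⟨hZB hyZ, hyp⟩
    have hPCy : (P : Subgroup G) ≤ Subgroup.centralizer ({y} : Set G) := by
      intro x hx
      rw [Subgroup.mem_centralizer_iff]
      intro z hz
      rw [Set.mem_singleton_iff] at hz
      subst hz
      exact (Subgroup.mem_centralizer_iff.mp ((hZmem z).mp hyZ).2 x hx).symm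
    have hCy : Subgroup.centralizer ({y} : Set G) = (P : Subgroup G) := by
      rcases hmax _ hPCy with h | h
      · exact h
      · exfalso
        apply hyc
        rw [Subgroup.mem_center_iff]
        intro g
        have h1 : g ∈ Subgroup.centralizer ({y} : Set G) := h ▸ Subgroup.mem_top g
        exact (Subgroup.mem_centralizer_iff.mp h1 y rfl).symm
    have hCE : Subgroup.centralizer (E : Set G) = H := by
      apply le_antisymm _ hHCE
      have h1 : Subgroup.centralizer (E : Set G) ≤ (P : Subgroup G) := by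
        rw [← hCy]
        exact Subgroup.centralizer_le (Set.singleton_subset_iff.mpr hyE)
      exact hle_H _ (hPp.to_le h1)
    -- Thompson replacement inside `P`
    obtain ⟨V', hV'def⟩ : ∃ V' : Subgroup ↥(P : Subgroup G), V' = E.subgroupOf (P : Subgroup G) :=
      ⟨_, rfl⟩
    haveI hV'n : V'.Normal := by rw [hV'def]; infer_instance
    have hV'el : Cfsg.IsElementaryAbelian p V' := by
      rw [hV'def, ← Lib.Helper7.isElementaryAbelian_map_iff _ (P : Subgroup G).subtype_injective,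
        Subgroup.subgroupOf_map_subtype, inf_eq_left.mpr hEP]
      exact hEel
    obtain ⟨A', hA'def⟩ : ∃ A' : Subgroup ↥(P : Subgroup G), A' = A.subgroupOf (P : Subgroup G) :=
      ⟨_, rfl⟩
    have hA'mem : A' ∈ Cfsg.maxElementaryAbelianSubgroups p ↥(P : Subgroup G) := by
      rw [hA'def, Lib.Helper7.mem_maxEA_iff, Subgroup.subgroupOf_map_subtype, inf_eq_left.mpr hA.1]
      exact hA
    obtain ⟨-, hquad, hnt⟩ := Cfsg.Agent.S0607.result V' hV'el A' hA'mem
    obtain ⟨As, hAsdef⟩ : ∃ As : Subgroup ↥(P : Subgroup G),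
      As = ⁅V', A'⁆ ⊔ (A' ⊓ Subgroup.centralizer ((⁅V', A'⁆ : Subgroup ↥(P : Subgroup G)) : Set ↥(P : Subgroup G))) :=
      ⟨_, rfl⟩
    rw [← hAsdef] at hquad hnt
    have hVA' : ⁅V', A'⁆ ≠ ⊥ := by
      intro h0
      apply hAH
      rw [← hCE]
      intro a ha
      rw [Subgroup.mem_centralizer_iff]
      intro e he
      have h1 : (⟨e, hEP he⟩ : ↥(P : Subgroup G)) ∈ V' := by
        rw [hV'def, Subgroup.mem_subgroupOf]; exact he
      have h2 : (⟨a, hA.1 ha⟩ : ↥(P : Subgroup G)) ∈ A' := by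
        rw [hA'def, Subgroup.mem_subgroupOf]; exact ha
      have h3 := Subgroup.commutator_mem_commutator h1 h2
      rw [h0, Subgroup.mem_bot, commutatorElement_eq_one_iff_mul_comm] at h3
      exact congrArg Subtype.val h3
    have hVAs := hnt hVA'
    -- a non-commuting pair
    obtain ⟨v', hv', a', ha', hne⟩ : ∃ v' ∈ V', ∃ a' ∈ As, v' * a' ≠ a' * v' := by
      by_contra hcon
      push Not at hcon
      apply hVAs
      rw [Subgroup.commutator_eq_bot_iff_le_centralizer]
      intro v hv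
      rw [Subgroup.mem_centralizer_iff]
      intro a ha
      exact (hcon v hv a ha).symm
    -- quadratic action of `a = ↑a'` on `E`
    have hq : ∀ v ∈ V', ∀ b ∈ As, ∀ c ∈ As, c * ⁅v, b⁆ = ⁅v, b⁆ * c := by
      intro v hv b hb c hc
      have h1 := Subgroup.commutator_mem_commutator (Subgroup.commutator_mem_commutator hv hb) hc
      rw [hquad, Subgroup.mem_bot, commutatorElement_eq_one_iff_mul_comm] at h1
      exact h1.symm
    have hquadE : ⁅⁅E, Subgroup.zpowers (a' : G)⁆, Subgroup.zpowers (a' : G)⁆ = ⊥ := by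
      rw [Subgroup.commutator_eq_bot_iff_le_centralizer, Subgroup.commutator_le]
      intro e he b hb
      obtain ⟨j, rfl⟩ := Subgroup.mem_zpowers_iff.mp hb
      rw [Subgroup.mem_centralizer_iff]
      intro c hc
      obtain ⟨i, rfl⟩ := Subgroup.mem_zpowers_iff.mp hc
      have h1 : (⟨e, hEP he⟩ : ↥(P : Subgroup G)) ∈ V' := by
        rw [hV'def, Subgroup.mem_subgroupOf]; exact he
      have h2 := hq _ h1 (a' ^ j) (zpow_mem ha' j) (a' ^ i) (zpow_mem ha' i)
      have h3 := congrArg (P : Subgroup G).subtype h2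
      simp only [map_mul, map_commutatorElement, map_zpow, Subgroup.subtype_apply] at h3
      exact h3
    have hmem := hst E hEp (a' : G) hquadE
    rw [pCore_quotient_eq_bot' (Subgroup.centralizer (E : Set G)) (hCE.trans hHdef), Subgroup.mem_bot,
      QuotientGroup.eq_one_iff] at hmem
    apply hne
    have hv'E : (v' : G) ∈ E := by
      rw [hV'def, Subgroup.mem_subgroupOf] at hv'; exact hv'
    apply Subtype.ext
    exact Subgroup.mem_centralizer_iff.mp hmem _ hv'E

end final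

section main
universe u
variable {p : ℕ}

theorem tnpc_all [Fact p.Prime] (hp2 : p ≠ 2) :
    ∀ n : ℕ, ∀ (G : Type u) [Group G] [Finite G], Nat.card G = n → ∀ P : Sylow p G,
      PNil p (Subgroup.normalizer (Cfsg.thompsonSubgroupOf p (P : Subgroup G) : Set G)) →
      PNil p (Subgroup.centralizer
        (((P : Subgroup G) ⊓ Subgroup.centralizer ((P : Subgroup G) : Set G) : Subgroup G) : Set G)) →
      PNil p (⊤ : Subgroup G) := by
  intro n
  induction n using Nat.strong_induction_on with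
  | _ n ih =>
  intro G _ _ hn P hN hZ
  have hPp : IsPGroup p ↥(P : Subgroup G) := P.isPGroup'
  have ihP : ∀ L : Subgroup G, (P : Subgroup G) ≤ L → L ≠ ⊤ → PNil p L := by
    intro L hPL hL
    have hRp' : IsPGroup p ↥((P : Subgroup G).subgroupOf L) :=
      hPp.comap_of_injective L.subtype L.subtype_injective
    have hRi : ¬ p ∣ ((P : Subgroup G).subgroupOf L).index := by
      intro hdvd
      exact P.not_dvd_index (dvd_trans hdvd (Subgroup.relIndex_dvd_index_of_le hPL))
    obtain ⟨PL, hPL'⟩ : ∃ PL : Sylow p ↥L, (PL : Subgroup ↥L) = (P : Subgroup G).subgroupOf L :=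
      ⟨hRp'.toSylow hRi, IsPGroup.toSylow_coe _ _⟩
    have h1 := ih (Nat.card ↥L) (by rw [← hn]; exact card_subgroup_lt L hL) ↥L rfl PL
    rw [hPL'] at h1
    exact (pnil_top_subtype_iff L).mp
      (h1 (pnil_normalizer_thompson_subgroupOf hPL hN) (pnil_centralizer_center_subgroupOf hPL hZ))
  by_cases hO : Cfsg.pPrimeCore p G = ⊥
  · exact tnpc_final hp2 P hN hZ ihP hO
  · obtain ⟨M, hMdef⟩ : ∃ M : Subgroup G, M = Cfsg.pPrimeCore p G := ⟨_, rfl⟩
    rw [← hMdef] at hO
    haveI hMn : M.Normal := by rw [hMdef]; exact Cfsg.Agent.H1.pPrimeCore_normal p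
    have hM : (Nat.card ↥M).Coprime p := by rw [hMdef]; exact Cfsg.Agent.H1.pPrimeCore_coprime p
    have hs := QuotientGroup.mk'_surjective M
    have hinf : M ⊓ (P : Subgroup G) = ⊥ := inf_eq_bot_of_pgroup_coprime M P hPp hM
    have hinj : ∀ x ∈ (P : Subgroup G), QuotientGroup.mk' M x = 1 → x = 1 := by
      intro x hx h1
      rw [QuotientGroup.mk'_apply, QuotientGroup.eq_one_iff] at h1
      have h2 : x ∈ M ⊓ (P : Subgroup G) := ⟨h1, hx⟩
      rw [hinf] at h2
      exact Subgroup.mem_bot.mp h2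
    have h1 := ih (Nat.card (G ⧸ M)) (by rw [← hn]; exact card_quotient_lt M hO) (G ⧸ M) rfl
      (P.mapSurjective hs)
    rw [Sylow.coe_mapSurjective, thompsonSubgroupOf_map _ _ hinj, center_map _ _ hinj] at h1
    apply pnil_top_of_quotient M hM
    apply h1
    · have hJp : IsPGroup p ↥(Cfsg.thompsonSubgroupOf p (P : Subgroup G)) :=
        hPp.to_le (Lib.Helper7.thompsonSubgroupOf_le _)
      have hle : Subgroup.normalizer (((Cfsg.thompsonSubgroupOf p (P : Subgroup G)).map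
          (QuotientGroup.mk' M) : Subgroup (G ⧸ M)) : Set (G ⧸ M)) ≤
          (Subgroup.normalizer (Cfsg.thompsonSubgroupOf p (P : Subgroup G) : Set G)).map
            (QuotientGroup.mk' M) := by
        intro gbar hg
        obtain ⟨g, rfl⟩ := hs gbar
        obtain ⟨n', hn', hng⟩ := exists_mem_normalizer_lift M _ hJp hM hg
        exact ⟨n', hn', hng⟩
      exact pnil_mono hle (pnil_map (QuotientGroup.mk' M) hN)
    · have hZp : IsPGroup p ↥((P : Subgroup G) ⊓
          Subgroup.centralizer ((P : Subgroup G) : Set G) : Subgroup G) :=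
        hPp.to_le inf_le_left
      exact pnil_mono (centralizer_map_mk_le M _ hZp hM) (pnil_map (QuotientGroup.mk' M) hZ)

end main

end Cfsg.Agent.H1
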