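import Mathlib
import Cfsg.Prelude.Def_PLocal
import Cfsg.Agent.H1.Basic
import Cfsg.Agent.H1.Cores
import Cfsg.Agent.H1.Thompson
import Cfsg.Agent.H1.StableNormalClosure
import Cfsg.Agent.H1.SncQuad
import Cfsg.Agent.H1.ThompsonNPC
import Cfsg.Agent.H1.QuadStable
import Cfsg.Agent.S0607
import Cfsg.Agent.S0029

set_option autoImplicit false
set_option linter.style.haveILetI false
set_option linter.unusedVariables false
set_option linter.unusedSectionVars false

open scoped commutatorElement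

namespace Cfsg.Agent.H1

open Cfsg

section sncnormal
universe u
variable {G : Type u} [Group G] {p : ℕ}

/-- a subgroup generated by pairwise commuting elements of order dividing `p` is elementary abelian -/
theorem isElementaryAbelian_closure (X : Set G) (hcomm : ∀ a ∈ X, ∀ b ∈ X, a * b = b * a)
    (hexp : ∀ a ∈ X, a ^ p = 1) : Cfsg.IsElementaryAbelian p (Subgroup.closure X) := by
  have hab : IsMulCommutative ↥(Subgroup.closure X) := Subgroup.isMulCommutative_closure hcomm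
  refine ⟨hab, ?_⟩
  intro x hx
  induction hx using Subgroup.closure_induction with
  | mem a ha => exact hexp a ha
  | one => exact one_pow p
  | mul a b ha hb iha ihb =>
    have hc : Commute a b := by
      have := hab.is_comm.comm (⟨a, ha⟩ : ↥(Subgroup.closure X)) ⟨b, hb⟩
      exact congrArg Subtype.val this
    rw [hc.mul_pow, iha, ihb, one_mul]
  | inv a ha iha => rw [inv_pow, iha, inv_one]

/-- membership in the kernel of the action on a section -/
theorem mem_sectionKernel_iff (K N : Subgroup G) [N.Normal] (x : G) :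
    x ∈ Cfsg.sectionKernel K N ↔ ∀ k ∈ K, x * k * x⁻¹ * k⁻¹ ∈ N := by
  unfold Cfsg.sectionKernel
  rw [Subgroup.mem_comap, Subgroup.mem_centralizer_iff]
  constructor
  · intro h k hk
    have h1 := h _ (Subgroup.mem_map_of_mem (QuotientGroup.mk' N) hk)
    rw [← (QuotientGroup.eq_one_iff (N := N) _)]
    have h2 : (QuotientGroup.mk' N k) * (QuotientGroup.mk' N x) =
        (QuotientGroup.mk' N x) * (QuotientGroup.mk' N k) := h1
    show QuotientGroup.mk' N (x * k * x⁻¹ * k⁻¹) = 1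
    rw [map_mul, map_mul, map_mul, ← h2, map_inv, map_inv]
    group
  · rintro h _ ⟨k, hk, rfl⟩
    have h1 := (QuotientGroup.eq_one_iff (N := N) _).mpr (h k hk)
    have h2 : QuotientGroup.mk' N (x * k * x⁻¹ * k⁻¹) = 1 := h1
    rw [map_mul, map_mul, map_mul, map_inv, map_inv] at h2
    have h3 : QuotientGroup.mk' N x * QuotientGroup.mk' N k =
        QuotientGroup.mk' N k * QuotientGroup.mk' N x := by
      calc QuotientGroup.mk' N x * QuotientGroup.mk' N k
          = (QuotientGroup.mk' N x * QuotientGroup.mk' N k * (QuotientGroup.mk' N x)⁻¹ *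
              (QuotientGroup.mk' N k)⁻¹) * (QuotientGroup.mk' N k * QuotientGroup.mk' N x) := by group
        _ = QuotientGroup.mk' N k * QuotientGroup.mk' N x := by rw [h2, one_mul]
    exact h3.symm

variable [Finite G] [Fact p.Prime]

/-- the kernel of the action of a group on `B/Φ(B)` is a `p`-group when `B` is a normal `p`-subgroup containing
its centralizer -/
theorem isPGroup_sectionKernel_frattini (B : Subgroup G) [hBn : B.Normal] (hBp : IsPGroup p ↥B)
    (hc : Subgroup.centralizer (B : Set G) ≤ B) (Φ : Subgroup G) [Φ.Normal]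
    (hΦ : Φ = (frattini ↥B).map B.subtype) : IsPGroup p ↥(Cfsg.sectionKernel B Φ) := by
  have hp : p.Prime := Fact.out
  rintro ⟨x, hx⟩
  have hpos : orderOf x ≠ 0 := (orderOf_pos x).ne'
  obtain ⟨e, m, hm, hn⟩ := Nat.exists_eq_pow_mul_and_not_dvd hpos p hp.ne_one
  obtain ⟨y, hydef⟩ : ∃ y : G, y = x ^ p ^ e := ⟨_, rfl⟩
  have hym : y ^ m = 1 := by
    rw [hydef, ← pow_mul, ← hn, pow_orderOf_eq_one]
  have hyK : y ∈ Cfsg.sectionKernel B Φ := by rw [hydef]; exact Subgroup.pow_mem _ hx _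
  have hcop : (Nat.card ↥(Subgroup.zpowers y)).Coprime (Nat.card ↥(frattini ↥B)) := by
    have hΦp : IsPGroup p ↥(frattini ↥B) := hBp.to_subgroup _
    obtain ⟨j, hj⟩ := hΦp.exists_card_eq
    rw [hj, Nat.card_zpowers]
    apply Nat.Coprime.pow_right
    have h1 : orderOf y ∣ m := orderOf_dvd_of_pow_eq_one hym
    exact Nat.Coprime.coprime_dvd_left h1 ((Nat.Prime.coprime_iff_not_dvd hp).mpr hm).symm
  have hAB : Subgroup.zpowers y ≤ Subgroup.normalizer (B : Set G) := by
    rw [Subgroup.normalizer_eq_top_iff.mpr hBn]; exact le_top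
  have htriv : ∀ a' ∈ Subgroup.zpowers y, ∀ b ∈ B,
      a' * b * a'⁻¹ * b⁻¹ ∈ (frattini ↥B).map B.subtype := by
    intro a' ha' b hb
    have ha'K : a' ∈ Cfsg.sectionKernel B Φ := (Subgroup.zpowers_le.mpr hyK) ha'
    rw [mem_sectionKernel_iff] at ha'K
    rw [← hΦ]
    exact ha'K b hb
  have h1 := Cfsg.Agent.S0029.result (Subgroup.zpowers y) B hAB hcop htriv
  have hyB : y ∈ B := hc (h1 (Subgroup.mem_zpowers y))
  obtain ⟨j, hj⟩ := hBp ⟨y, hyB⟩
  have hj' : y ^ p ^ j = 1 := by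
    have h2 := congrArg Subtype.val hj
    rw [Subgroup.coe_pow, Subgroup.coe_one] at h2
    exact h2
  have hy1 : y = 1 := by
    have h2 : orderOf y ∣ m := orderOf_dvd_of_pow_eq_one hym
    have h3 : orderOf y ∣ p ^ j := orderOf_dvd_of_pow_eq_one hj'
    have h4 : (m).Coprime (p ^ j) :=
      Nat.Coprime.pow_right _ ((Nat.Prime.coprime_iff_not_dvd hp).mpr hm).symm
    have h5 : orderOf y ∣ 1 := by
      rw [← h4]
      exact Nat.dvd_gcd h2 h3
    exact orderOf_eq_one_iff.mp (Nat.dvd_one.mp h5)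
  refine ⟨e, Subtype.ext ?_⟩
  rw [Subgroup.coe_pow, Subgroup.coe_one]
  show x ^ p ^ e = 1
  rw [← hydef]; exact hy1

/-- in a group of characteristic `p` acting `p`-stably on `O_p(G)/Φ(O_p(G))`, every element acting quadratically on
this section lies in `O_p(G)`. -/
theorem mem_pCore_of_quad_frattini_section
    (hc : Subgroup.centralizer (Cfsg.pCore p G : Set G) ≤ Cfsg.pCore p G)
    (hsec : Cfsg.IsPStableOnSection p (Cfsg.pCore p G)
      ((frattini ↥(Cfsg.pCore p G)).map (Cfsg.pCore p G).subtype))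
    (a : G)
    (hq : ⁅⁅Cfsg.pCore p G, Subgroup.zpowers a⁆, Subgroup.zpowers a⁆ ≤
      (frattini ↥(Cfsg.pCore p G)).map (Cfsg.pCore p G).subtype) : a ∈ Cfsg.pCore p G := by
  have hp : p.Prime := Fact.out
  obtain ⟨D, hDn, hKD, ⟨k, hk⟩, haD⟩ := hsec a hq
  have hKp := isPGroup_sectionKernel_frattini (Cfsg.pCore p G) (Cfsg.Agent.H1.pCore_isPGroup p) hc
    ((frattini ↥(Cfsg.pCore p G)).map (Cfsg.pCore p G).subtype) rfl
  have hDp : IsPGroup p ↥D := by
    obtain ⟨j, hj⟩ := hKp.exists_card_eq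
    apply IsPGroup.of_card (n := j + k)
    have h1 := Subgroup.card_mul_index ((Cfsg.sectionKernel (Cfsg.pCore p G)
      ((frattini ↥(Cfsg.pCore p G)).map (Cfsg.pCore p G).subtype)).subgroupOf D)
    have h2 : ((Cfsg.sectionKernel (Cfsg.pCore p G)
      ((frattini ↥(Cfsg.pCore p G)).map (Cfsg.pCore p G).subtype)).subgroupOf D).index =
        (Cfsg.sectionKernel (Cfsg.pCore p G)
      ((frattini ↥(Cfsg.pCore p G)).map (Cfsg.pCore p G).subtype)).relIndex D := rfl
    have h3 : Nat.card ↥((Cfsg.sectionKernel (Cfsg.pCore p G)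
      ((frattini ↥(Cfsg.pCore p G)).map (Cfsg.pCore p G).subtype)).subgroupOf D) =
        Nat.card ↥(Cfsg.sectionKernel (Cfsg.pCore p G)
      ((frattini ↥(Cfsg.pCore p G)).map (Cfsg.pCore p G).subtype)) :=
      Nat.card_congr (Subgroup.subgroupOfEquivOfLe hKD).toEquiv
    rw [h2, h3, hj, hk] at h1
    rw [← h1, pow_add]
  exact le_pCore hDn hDp haD

end sncnormal

section core
universe u
variable {G : Type u} [Group G] [Finite G] {p : ℕ} [Fact p.Prime]

/-- `S → N_G(J(S))` is a stable embedding when `G` has characteristic `p` and `N_G(J(S))` acts `p`-stably on its normal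
subgroups inside `Ω₁Z(J(S))`. -/
theorem isStableEmbedding_inclusion_normalizer_thompson (S : Sylow p G)
    (hc : Subgroup.centralizer (Cfsg.pCore p G : Set G) ≤ Cfsg.pCore p G)
    (hPN : (S : Subgroup G) ≤ Subgroup.normalizer (Cfsg.thompsonSubgroupOf p (S : Subgroup G) : Set G))
    (h3 : ∀ (V : Subgroup ↥(Subgroup.normalizer (Cfsg.thompsonSubgroupOf p (S : Subgroup G) : Set G)))
      [V.Normal],
      V.map (Subgroup.normalizer (Cfsg.thompsonSubgroupOf p (S : Subgroup G) : Set G)).subtype ≤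
        (Cfsg.omegaCenterThompson p ↥(S : Subgroup G)).map (S : Subgroup G).subtype →
      Cfsg.IsPStableOn p V) :
    Cfsg.IsStableEmbedding p (Subgroup.inclusion hPN) := by
  obtain ⟨P, hPdef⟩ : ∃ P : Subgroup G, P = (S : Subgroup G) := ⟨_, rfl⟩
  obtain ⟨N, hNdef⟩ : ∃ N : Subgroup G,
      N = Subgroup.normalizer (Cfsg.thompsonSubgroupOf p (S : Subgroup G) : Set G) := ⟨_, rfl⟩
  have hBP : Cfsg.pCore p G ≤ (S : Subgroup G) := pCore_le_sylow S
  have hcomp : (Subgroup.normalizer (Cfsg.thompsonSubgroupOf p (S : Subgroup G) : Set G)).subtype.comp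
      (Subgroup.inclusion hPN) = (S : Subgroup G).subtype := Subgroup.subtype_comp_inclusion hPN
  refine ⟨Subgroup.inclusion_injective hPN, inferInstance, ⟨S.subtype hPN, ?_⟩, ?_, ?_, ?_⟩
  · rw [Sylow.coe_subtype, Subgroup.inclusion_range]
  · -- characteristic p
    intro x hx
    haveI : ((Cfsg.pCore p G).subgroupOf
        (Subgroup.normalizer (Cfsg.thompsonSubgroupOf p (S : Subgroup G) : Set G))).Normal := by
      haveI : (Cfsg.pCore p G).Normal := Cfsg.Agent.H1.pCore_normal p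
      infer_instance
    have hBNp : IsPGroup p ↥((Cfsg.pCore p G).subgroupOf
        (Subgroup.normalizer (Cfsg.thompsonSubgroupOf p (S : Subgroup G) : Set G))) :=
      (Cfsg.Agent.H1.pCore_isPGroup p).comap_of_injective _ (Subgroup.subtype_injective _)
    have hle := le_pCore inferInstance hBNp
    apply hle
    rw [Subgroup.mem_subgroupOf]
    apply hc
    rw [Subgroup.mem_centralizer_iff]
    intro b hb
    have hbN : b ∈ Subgroup.normalizer (Cfsg.thompsonSubgroupOf p (S : Subgroup G) : Set G) :=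
      hPN (hBP hb)
    have hb' : (⟨b, hbN⟩ : ↥(Subgroup.normalizer (Cfsg.thompsonSubgroupOf p (S : Subgroup G) : Set G))) ∈
        Cfsg.pCore p ↥(Subgroup.normalizer (Cfsg.thompsonSubgroupOf p (S : Subgroup G) : Set G)) :=
      hle (Subgroup.mem_subgroupOf.mpr hb)
    have h1 := Subgroup.mem_centralizer_iff.mp hx _ hb'
    have h2 := congrArg Subtype.val h1
    rw [Subgroup.coe_mul, Subgroup.coe_mul] at h2
    exact h2
  · -- `J(S)` is normal in its normalizer
    constructor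
    rintro _ ⟨x, hx, rfl⟩ n
    have hxJ : ((x : ↥(S : Subgroup G)) : G) ∈ Cfsg.thompsonSubgroupOf p (S : Subgroup G) :=
      ⟨x, hx, rfl⟩
    have h1 := (Subgroup.mem_normalizer_iff.mp n.2 _).mp hxJ
    obtain ⟨j, hj, hjeq⟩ := h1
    refine ⟨j, hj, ?_⟩
    apply Subtype.ext
    rw [Subgroup.coe_mul, Subgroup.coe_mul, Subgroup.coe_inv]
    exact hjeq
  · intro V _ hV
    apply h3 V
    refine (Subgroup.map_mono hV).trans ?_
    rw [Subgroup.map_map, hcomp]

/-- **KS 9.4, core form**: in a group of characteristic `p` acting `p`-stably on its normal elementary abelian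
subgroups, with `Ω₁Z(J(S)) ≤ O_p(G)` and `N_G(J(S))` acting `p`-stably on its normal subgroups in `Ω₁Z(J(S))`,
the subgroup `W(S)` is normal. -/
theorem snc_normal_core (S : Sylow p G)
    (hc : Subgroup.centralizer (Cfsg.pCore p G : Set G) ≤ Cfsg.pCore p G)
    (h1 : ∀ (V : Subgroup G) [V.Normal], Cfsg.IsElementaryAbelian p V → Cfsg.IsPStableOn p V)
    (hZB : (Cfsg.omegaCenterThompson p ↥(S : Subgroup G)).map (S : Subgroup G).subtype ≤ Cfsg.pCore p G)
    (h3 : ∀ (V : Subgroup ↥(Subgroup.normalizer (Cfsg.thompsonSubgroupOf p (S : Subgroup G) : Set G)))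
      [V.Normal],
      V.map (Subgroup.normalizer (Cfsg.thompsonSubgroupOf p (S : Subgroup G) : Set G)).subtype ≤
        (Cfsg.omegaCenterThompson p ↥(S : Subgroup G)).map (S : Subgroup G).subtype →
      Cfsg.IsPStableOn p V) :
    ((Cfsg.stableNormalClosure p ↥(S : Subgroup G)).map (S : Subgroup G).subtype).Normal := by
  have hp : p.Prime := Fact.out
  have hPN : (S : Subgroup G) ≤
      Subgroup.normalizer (Cfsg.thompsonSubgroupOf p (S : Subgroup G) : Set G) :=
    Subgroup.le_normalizer.trans (normalizer_le_normalizer_J (S : Subgroup G))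
  have hτ := isStableEmbedding_inclusion_normalizer_thompson S hc hPN h3
  have hWNn := stableNormalClosure_map_normal _ hτ
  obtain ⟨B, hBdef⟩ : ∃ B : Subgroup G, B = Cfsg.pCore p G := ⟨_, rfl⟩
  rw [← hBdef] at hc hZB
  haveI hBn : B.Normal := by rw [hBdef]; exact Cfsg.Agent.H1.pCore_normal p
  have hBP : B ≤ (S : Subgroup G) := by rw [hBdef]; exact pCore_le_sylow S
  obtain ⟨W, hWdef⟩ : ∃ W : Subgroup ↥(S : Subgroup G),
      W = Cfsg.stableNormalClosure p ↥(S : Subgroup G) := ⟨_, rfl⟩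
  rw [← hWdef] at hWNn ⊢
  obtain ⟨WG, hWGdef⟩ : ∃ WG : Subgroup G, WG = W.map (S : Subgroup G).subtype := ⟨_, rfl⟩
  rw [← hWGdef]
  -- Step 0: `N_G(J(S))` normalizes `WG`
  have hN : ∀ n ∈ Subgroup.normalizer (Cfsg.thompsonSubgroupOf p (S : Subgroup G) : Set G),
      ∀ x ∈ WG, n * x * n⁻¹ ∈ WG := by
    intro n hn x hx
    rw [hWGdef] at hx ⊢
    obtain ⟨w, hw, rfl⟩ := hx
    have h4 := hWNn.conj_mem _ (Subgroup.mem_map_of_mem (Subgroup.inclusion hPN) hw) ⟨n, hn⟩
    obtain ⟨w', hw', hw'eq⟩ := h4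
    refine ⟨w', hw', ?_⟩
    have h5 := congrArg Subtype.val hw'eq
    rw [Subgroup.coe_mul, Subgroup.coe_mul, Subgroup.coe_inv] at h5
    exact h5
  have hWZ : WG ≤ (Cfsg.omegaCenterThompson p ↥(S : Subgroup G)).map (S : Subgroup G).subtype := by
    rw [hWGdef, hWdef]
    exact Subgroup.map_mono stableNormalClosure_le_omegaCenterThompson
  have hWB : WG ≤ B := hWZ.trans hZB
  have hel := omegaOne_elementary p
    (Cfsg.thompsonSubgroup p ↥(S : Subgroup G) ⊓
      Subgroup.centralizer (Cfsg.thompsonSubgroup p ↥(S : Subgroup G) : Set ↥(S : Subgroup G)))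
    (fun x hx y hy => (Subgroup.mem_centralizer_iff.mp hy.2 x hx.1))
  have hWab : ∀ x ∈ WG, ∀ y ∈ WG, x * y = y * x := by
    intro x hx y hy
    obtain ⟨x₀, hx₀, rfl⟩ := hWZ hx
    obtain ⟨y₀, hy₀, rfl⟩ := hWZ hy
    have := hel.1 x₀ hx₀ y₀ hy₀
    exact congrArg Subtype.val this
  have hWexp : ∀ x ∈ WG, x ^ p = 1 := by
    intro x hx
    obtain ⟨x₀, hx₀, rfl⟩ := hWZ hx
    have := hel.2 x₀ hx₀
    have h2 := congrArg Subtype.val this
    rw [Subgroup.coe_pow, Subgroup.coe_one] at h2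
    exact h2
  have hWnS : ∀ s ∈ (S : Subgroup G), ∀ x ∈ WG, s * x * s⁻¹ ∈ WG := fun s hs => hN s (hPN hs)
  -- Step 2: conjugates of `WG` commute with `WG`
  have hcomm : ∀ g : G, ∀ x ∈ WG, ∀ y ∈ WG, (g * y * g⁻¹) * x = x * (g * y * g⁻¹) := by
    intro g x hx y hy
    have hy'B : g * y * g⁻¹ ∈ B := hBn.conj_mem y (hWB hy) g
    have hy'P : g * y * g⁻¹ ∈ (S : Subgroup G) := hBP hy'B
    obtain ⟨yS, hySdef⟩ : ∃ yS : ↥(S : Subgroup G), yS = ⟨g * y * g⁻¹, hy'P⟩ := ⟨_, rfl⟩
    have hquad : ⁅⁅W, Subgroup.zpowers yS⁆, Subgroup.zpowers yS⁆ = ⊥ := by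
      rw [quad_iff]
      intro w hw i
      apply Subtype.ext
      rw [Subgroup.coe_mul, Subgroup.coe_mul]
      have hwG : (w : G) ∈ WG := by rw [hWGdef]; exact ⟨w, hw, rfl⟩
      have hcoe : ((⁅w, yS ^ i⁆ : ↥(S : Subgroup G)) : G) = ⁅(w : G), (g * y * g⁻¹) ^ i⁆ := by
        rw [commutatorElement_def, commutatorElement_def, Subgroup.coe_mul, Subgroup.coe_mul,
          Subgroup.coe_mul, Subgroup.coe_inv, Subgroup.coe_inv, Subgroup.coe_zpow, hySdef]
      rw [hcoe, hySdef]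
      show ⁅(w : G), (g * y * g⁻¹) ^ i⁆ * (g * y * g⁻¹) = (g * y * g⁻¹) * ⁅(w : G), (g * y * g⁻¹) ^ i⁆
      -- `⁅w, y'^i⁆ = g * ⁅g⁻¹ w g, y^i⁆ * g⁻¹`
      obtain ⟨s₀, hs₀def⟩ : ∃ s₀ : G, s₀ = g⁻¹ * (w : G) * g := ⟨_, rfl⟩
      have hs₀B : s₀ ∈ B := by
        have := hBn.conj_mem (w : G) (hWB hwG) g⁻¹
        rw [inv_inv] at this
        rw [hs₀def]; exact this
      have hyi : y ^ i ∈ WG := WG.zpow_mem hy i
      have hu₀ : ⁅s₀, y ^ i⁆ ∈ WG := by
        rw [commutatorElement_def]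
        exact WG.mul_mem (hWnS s₀ (hBP hs₀B) _ hyi) (WG.inv_mem hyi)
      have hconj : (g * y * g⁻¹) ^ i = g * y ^ i * g⁻¹ := by
        have := map_zpow (MulAut.conj g).toMonoidHom y i
        exact this.symm
      have hexpand : ⁅(w : G), (g * y * g⁻¹) ^ i⁆ = g * ⁅s₀, y ^ i⁆ * g⁻¹ := by
        rw [hconj, commutatorElement_def, commutatorElement_def, hs₀def]
        group
      rw [hexpand]
      have h6 := hWab _ hu₀ y hy
      calc g * ⁅s₀, y ^ i⁆ * g⁻¹ * (g * y * g⁻¹) = g * (⁅s₀, y ^ i⁆ * y) * g⁻¹ := by group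
        _ = g * (y * ⁅s₀, y ^ i⁆) * g⁻¹ := by rw [h6]
        _ = g * y * g⁻¹ * (g * ⁅s₀, y ^ i⁆ * g⁻¹) := by group
    obtain ⟨x₀, hx₀, rfl⟩ : ∃ x₀ ∈ W, ((S : Subgroup G).subtype x₀) = x := by
      rw [hWGdef] at hx; exact hx
    have h7 : x₀ ∈ Cfsg.stableNormalClosure p ↥(S : Subgroup G) := by rw [← hWdef]; exact hx₀
    have h8 := stableNormalClosure_le_centralizer_quad (p := p) h7
    have h9 := Subgroup.mem_centralizer_iff.mp h8 yS (by rw [← hWdef]; exact hquad)
    have h10 := congrArg Subtype.val h9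
    rw [Subgroup.coe_mul, Subgroup.coe_mul, hySdef] at h10
    exact h10
  -- Step 3: the normal closure `V` of `WG` is elementary abelian
  obtain ⟨V, hVdef⟩ : ∃ V : Subgroup G, V = Subgroup.normalClosure (WG : Set G) := ⟨_, rfl⟩
  haveI hVn : V.Normal := by rw [hVdef]; exact Subgroup.normalClosure_normal
  have hWV : WG ≤ V := by rw [hVdef]; exact Subgroup.subset_normalClosure
  have hgen : ∀ a ∈ Group.conjugatesOfSet (WG : Set G), ∃ g : G, ∃ y ∈ WG, a = g * y * g⁻¹ := by
    intro a ha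
    obtain ⟨y, hy, hya⟩ := Group.mem_conjugatesOfSet_iff.mp ha
    obtain ⟨g, hg⟩ := isConj_iff.mp hya
    exact ⟨g, y, hy, hg.symm⟩
  have hVel : Cfsg.IsElementaryAbelian p V := by
    rw [hVdef]
    unfold Subgroup.normalClosure
    apply isElementaryAbelian_closure
    · intro a ha b hb
      obtain ⟨g₁, y₁, hy₁, rfl⟩ := hgen a ha
      obtain ⟨g₂, y₂, hy₂, rfl⟩ := hgen b hb
      have h4 := hcomm (g₁⁻¹ * g₂) y₁ hy₁ y₂ hy₂
      calc g₁ * y₁ * g₁⁻¹ * (g₂ * y₂ * g₂⁻¹)
          = g₁ * (y₁ * (g₁⁻¹ * g₂ * y₂ * (g₁⁻¹ * g₂)⁻¹)) * g₁⁻¹ := by group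
        _ = g₁ * ((g₁⁻¹ * g₂ * y₂ * (g₁⁻¹ * g₂)⁻¹) * y₁) * g₁⁻¹ := by rw [h4]
        _ = g₂ * y₂ * g₂⁻¹ * (g₁ * y₁ * g₁⁻¹) := by group
    · intro a ha
      obtain ⟨g, y, hy, rfl⟩ := hgen a ha
      rw [conj_pow, hWexp y hy]
      group
  have hVB : V ≤ B := by rw [hVdef]; exact Subgroup.normalClosure_le_normal hWB
  have hVP : V ≤ (S : Subgroup G) := hVB.trans hBP
  have hstV : Cfsg.IsPStableOn p V := h1 V hVel
  -- any element acting quadratically on `V` centralizes `WG`
  have hquadW : ∀ b : G, ⁅⁅V, Subgroup.zpowers b⁆, Subgroup.zpowers b⁆ = ⊥ →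
      ∀ x ∈ WG, b * x = x * b := by
    intro b hb x hx
    have hb1 := hstV b hb
    obtain ⟨s, hs, hsb⟩ := exists_mem_sylow_of_mk_mem_pCore _ S b hb1
    have hsq : ⁅⁅V, Subgroup.zpowers s⁆, Subgroup.zpowers s⁆ = ⊥ := by
      apply quad_congr V b s _ hb
      have h4 := Subgroup.inv_mem _ hsb
      have h5 : (s⁻¹ * b)⁻¹ = b⁻¹ * s := by group
      rw [h5] at h4
      exact h4
    have hsqW : ⁅⁅WG, Subgroup.zpowers s⁆, Subgroup.zpowers s⁆ = ⊥ := quad_mono hWV s hsq
    have hsqW' : ⁅⁅W, Subgroup.zpowers (⟨s, hs⟩ : ↥(S : Subgroup G))⁆,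
        Subgroup.zpowers (⟨s, hs⟩ : ↥(S : Subgroup G))⁆ = ⊥ := by
      apply quad_of_map_injective (S : Subgroup G).subtype (Subgroup.subtype_injective _)
      rw [← hWGdef]
      exact hsqW
    obtain ⟨x₀, hx₀, rfl⟩ : ∃ x₀ ∈ W, ((S : Subgroup G).subtype x₀) = x := by
      rw [hWGdef] at hx; exact hx
    have h7 : x₀ ∈ Cfsg.stableNormalClosure p ↥(S : Subgroup G) := by rw [← hWdef]; exact hx₀
    have h8 := stableNormalClosure_le_centralizer_quad (p := p) h7
    have h9 := Subgroup.mem_centralizer_iff.mp h8 ⟨s, hs⟩ (by rw [← hWdef]; exact hsqW')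
    have h10 := congrArg Subtype.val h9
    rw [Subgroup.coe_mul, Subgroup.coe_mul] at h10
    have h11 : (x₀ : G) * (s⁻¹ * b) = s⁻¹ * b * (x₀ : G) :=
      Subgroup.mem_centralizer_iff.mp hsb _ (hWV hx)
    show b * (x₀ : G) = (x₀ : G) * b
    calc b * (x₀ : G) = s * (s⁻¹ * b * (x₀ : G)) := by group
      _ = s * ((x₀ : G) * (s⁻¹ * b)) := by rw [h11]
      _ = (s * (x₀ : G)) * (s⁻¹ * b) := by group
      _ = ((x₀ : G) * s) * (s⁻¹ * b) := by rw [h10]
      _ = (x₀ : G) * b := by group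
  -- any element acting quadratically on `V` centralizes `V`
  have hquadV : ∀ b : G, ⁅⁅V, Subgroup.zpowers b⁆, Subgroup.zpowers b⁆ = ⊥ →
      b ∈ Subgroup.centralizer (V : Set G) := by
    intro b hb
    rw [hVdef]
    unfold Subgroup.normalClosure
    rw [Subgroup.centralizer_closure, Subgroup.mem_centralizer_iff]
    intro a ha
    obtain ⟨g, y, hy, rfl⟩ := hgen a ha
    have h4 := quad_conj_of_normal V b g⁻¹ hb
    rw [inv_inv] at h4
    have h5 := hquadW _ h4 y hy
    calc g * y * g⁻¹ * b = g * (y * (g⁻¹ * b * g)) * g⁻¹ := by group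
      _ = g * ((g⁻¹ * b * g) * y) * g⁻¹ := by rw [h5]
      _ = b * (g * y * g⁻¹) := by group
  -- Step 4: `J(S)` centralizes `V`
  have hJC : Cfsg.thompsonSubgroupOf p (S : Subgroup G) ≤ Subgroup.centralizer (V : Set G) := by
    obtain ⟨VS, hVSdef⟩ : ∃ VS : Subgroup ↥(S : Subgroup G), VS = V.subgroupOf (S : Subgroup G) :=
      ⟨_, rfl⟩
    haveI hVSn : VS.Normal := by rw [hVSdef]; infer_instance
    have hVSel : Cfsg.IsElementaryAbelian p VS := by
      rw [hVSdef]; exact isElementaryAbelian_subgroupOf _ hVel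
    have hVSmap : VS.map (S : Subgroup G).subtype = V := by
      rw [hVSdef]; exact Subgroup.map_subgroupOf_eq_of_le hVP
    have hA : ∀ A ∈ Cfsg.maxElementaryAbelianSubgroups p ↥(S : Subgroup G),
        A ≤ Subgroup.centralizer (VS : Set ↥(S : Subgroup G)) := by
      intro A hA
      obtain ⟨hA', hquad, hnt⟩ := Cfsg.Agent.S0607.result VS hVSel A hA
      obtain ⟨As, hAsdef⟩ : ∃ As : Subgroup ↥(S : Subgroup G), As = ⁅VS, A⁆ ⊔
          (A ⊓ Subgroup.centralizer ((⁅VS, A⁆ : Subgroup ↥(S : Subgroup G)) : Set ↥(S : Subgroup G))) :=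
        ⟨_, rfl⟩
      rw [← hAsdef] at hA' hquad hnt
      have hAsC : As ≤ Subgroup.centralizer (VS : Set ↥(S : Subgroup G)) := by
        intro a ha
        have haq : ⁅⁅VS, Subgroup.zpowers a⁆, Subgroup.zpowers a⁆ = ⊥ := by
          rw [eq_bot_iff, ← hquad]
          have hza : Subgroup.zpowers a ≤ As := Subgroup.zpowers_le.mpr ha
          exact Subgroup.commutator_mono (Subgroup.commutator_mono le_rfl hza) hza
        have haq' := quad_map (S : Subgroup G).subtype VS a haq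
        rw [hVSmap] at haq'
        have h4 := hquadV _ haq'
        rw [Subgroup.mem_centralizer_iff]
        intro v hv
        apply Subtype.ext
        rw [Subgroup.coe_mul, Subgroup.coe_mul]
        have hvV : (v : G) ∈ V := by rw [← hVSmap]; exact ⟨v, hv, rfl⟩
        exact Subgroup.mem_centralizer_iff.mp h4 _ hvV
      have h5 : ⁅VS, As⁆ = ⊥ := by
        rw [Subgroup.commutator_comm, Subgroup.commutator_eq_bot_iff_le_centralizer]
        exact hAsC
      have h6 : ⁅VS, A⁆ = ⊥ := by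
        by_contra hne
        exact hnt hne h5
      rw [Subgroup.commutator_comm, Subgroup.commutator_eq_bot_iff_le_centralizer] at h6
      exact h6
    have hJ' : Cfsg.thompsonSubgroup p ↥(S : Subgroup G) ≤
        Subgroup.centralizer (VS : Set ↥(S : Subgroup G)) := by
      unfold Cfsg.thompsonSubgroup
      rw [sSup_le_iff]
      exact hA
    rintro _ ⟨j, hj, rfl⟩
    rw [Subgroup.mem_centralizer_iff]
    intro v hv
    have hvS : (⟨v, hVP hv⟩ : ↥(S : Subgroup G)) ∈ VS := by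
      rw [hVSdef, Subgroup.mem_subgroupOf]; exact hv
    have h4 := Subgroup.mem_centralizer_iff.mp (hJ' hj) _ hvS
    have h5 := congrArg Subtype.val h4
    rw [Subgroup.coe_mul, Subgroup.coe_mul] at h5
    exact h5
  -- Step 5: Frattini argument
  obtain ⟨C, hCdef⟩ : ∃ C : Subgroup G, C = Subgroup.centralizer (V : Set G) := ⟨_, rfl⟩
  haveI hCn : C.Normal := by rw [hCdef]; exact Subgroup.normal_centralizer
  obtain ⟨R, hRdef⟩ : ∃ R : Subgroup G, R = (S : Subgroup G) ⊓ C := ⟨_, rfl⟩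
  have hfrat : ∀ g : G, ∃ n ∈ Subgroup.normalizer (R : Set G), ∃ l ∈ C, n * l = g := by
    have hnd : ¬ p ∣ (((S : Subgroup G) ⊓ C).subgroupOf C).index :=
      Cfsg.Agent.Lib.Helper4.ZJ.not_dvd_index_inf_normal (S : Subgroup G) C S.not_dvd_index
    have hRp : IsPGroup p ↥(((S : Subgroup G) ⊓ C).subgroupOf C) :=
      (S.isPGroup'.to_le inf_le_left).comap_subtype
    have hF := Sylow.normalizer_sup_eq_top (hRp.toSylow hnd)
    have hF' : Subgroup.normalizer (R : Set G) ⊔ C = ⊤ := by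
      have e : ((((S : Subgroup G) ⊓ C).subgroupOf C).map C.subtype) = R := by
        rw [hRdef]; exact Subgroup.map_subgroupOf_eq_of_le inf_le_right
      rw [← e]; exact hF
    intro g
    have hg' : g ∈ Subgroup.normalizer (R : Set G) ⊔ C := by rw [hF']; exact Subgroup.mem_top g
    exact Subgroup.mem_sup_of_normal_right.mp hg'
  have hJR : Cfsg.thompsonSubgroupOf p (S : Subgroup G) ≤ R := by
    rw [hRdef]
    refine le_inf ?_ (by rw [hCdef]; exact hJC)
    unfold Cfsg.thompsonSubgroupOf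
    exact Subgroup.map_subtype_le _
  have hRS : R ≤ (S : Subgroup G) := by rw [hRdef]; exact inf_le_left
  have hNR : Subgroup.normalizer (R : Set G) ≤
      Subgroup.normalizer (Cfsg.thompsonSubgroupOf p (S : Subgroup G) : Set G) := by
    have h4 := normalizer_le_normalizer_J (p := p) R
    rw [J_eq_of_le hJR hRS] at h4
    exact h4
  constructor
  intro x hx g
  obtain ⟨n, hn, l, hl, rfl⟩ := hfrat g
  have hlx : l * x * l⁻¹ = x := by
    rw [hCdef] at hl
    have := Subgroup.mem_centralizer_iff.mp hl x (hWV hx)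
    rw [← this]; group
  have e : n * l * x * (n * l)⁻¹ = n * (l * x * l⁻¹) * n⁻¹ := by group
  rw [e, hlx]
  exact hN n (hNR hn) x hx

theorem thompsonSubgroup_normal_of_finite {S : Type u} [Group S] [Finite S] (q : ℕ) :
    (Cfsg.thompsonSubgroup q S).Normal := by
  constructor
  intro x hx g
  have h1 := thompsonSubgroup_map_equiv (p := q) (MulAut.conj g : S ≃* S)
  rw [← h1]
  exact ⟨x, hx, rfl⟩

theorem omegaCenterThompson_normal_of_finite {S : Type u} [Group S] [Finite S] (q : ℕ) :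
    (Cfsg.omegaCenterThompson q S).Normal := by
  have h1 := omegaCenterThompson_map_normal (p := q) (MonoidHom.id S) (fun _ _ h => h)
    (by rw [Subgroup.map_id]; exact thompsonSubgroup_normal_of_finite q)
  rw [Subgroup.map_id] at h1
  exact h1

/-- elements of `Ω₁Z(J(S))` act quadratically on every subgroup of `S` -/
theorem quad_of_mem_omegaCenterThompson (S : Sylow p G) (B : Subgroup G) (hBS : B ≤ (S : Subgroup G))
    (z : G) (hz : z ∈ (Cfsg.omegaCenterThompson p ↥(S : Subgroup G)).map (S : Subgroup G).subtype) :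
    ⁅⁅B, Subgroup.zpowers z⁆, Subgroup.zpowers z⁆ = ⊥ := by
  haveI hn := omegaCenterThompson_normal_of_finite (S := ↥(S : Subgroup G)) p
  have hel := omegaOne_elementary p
    (Cfsg.thompsonSubgroup p ↥(S : Subgroup G) ⊓
      Subgroup.centralizer (Cfsg.thompsonSubgroup p ↥(S : Subgroup G) : Set ↥(S : Subgroup G)))
    (fun x hx y hy => (Subgroup.mem_centralizer_iff.mp hy.2 x hx.1))
  obtain ⟨z₀, hz₀, rfl⟩ := hz
  rw [quad_iff]
  intro b hb i
  have hzi : z₀ ^ i ∈ Cfsg.omegaCenterThompson p ↥(S : Subgroup G) := Subgroup.zpow_mem _ hz₀ i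
  have h1 : (⟨b, hBS hb⟩ : ↥(S : Subgroup G)) * z₀ ^ i * (⟨b, hBS hb⟩ : ↥(S : Subgroup G))⁻¹ ∈
      Cfsg.omegaCenterThompson p ↥(S : Subgroup G) := hn.conj_mem _ hzi _
  have h2 : ⁅(⟨b, hBS hb⟩ : ↥(S : Subgroup G)), z₀ ^ i⁆ ∈ Cfsg.omegaCenterThompson p ↥(S : Subgroup G) := by
    rw [commutatorElement_def]
    exact Subgroup.mul_mem _ h1 (Subgroup.inv_mem _ hzi)
  have h3 := hel.1 _ h2 z₀ hz₀
  have h4 := congrArg Subtype.val h3
  rw [Subgroup.coe_mul, Subgroup.coe_mul, commutatorElement_def, Subgroup.coe_mul, Subgroup.coe_mul,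
    Subgroup.coe_mul, Subgroup.coe_inv, Subgroup.coe_inv, Subgroup.coe_zpow] at h4
  rw [commutatorElement_def]
  exact h4

end core

end Cfsg.Agent.H1
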