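import Mathlib
import Cfsg.Agent.H1.Frattini
import Cfsg.Agent.H1.PGroup
import Cfsg.Agent.H1.SncNormal
import Cfsg.Agent.H1.FrobFixB
import Cfsg.Agent.H1.HHAbB

namespace Cfsg.Agent.H1.HHAb


/-- in a cyclic `p`-group `⟨y⟩` of order `p^m`, every nontrivial subgroup contains `y^(p^(m-1))` -/
theorem pow_mem_zpowers_of_ne_one {A : Type*} [Group A] {p : ℕ} [hp : Fact p.Prime] (y : A) (m : ℕ)
    (hy : orderOf y = p ^ m) (h : A) (hh : h ∈ Subgroup.zpowers y) (h1 : h ≠ 1) :
    y ^ p ^ (m - 1) ∈ Subgroup.zpowers h := by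
  have hyfin : IsOfFinOrder y := by
    rw [← orderOf_pos_iff, hy]; exact pow_pos hp.out.pos m
  rw [← hyfin.mem_powers_iff_mem_zpowers] at hh
  obtain ⟨i, rfl⟩ := hh
  change y ^ i ≠ 1 at h1
  have hi0 : i ≠ 0 := by
    rintro rfl
    exact h1 (pow_zero y)
  obtain ⟨a, i', hi', hii⟩ := Nat.exists_eq_pow_mul_and_not_dvd hi0 p hp.out.ne_one
  have ham : a < m := by
    by_contra hcon
    push Not at hcon
    apply h1
    rw [hii, ← orderOf_dvd_iff_pow_eq_one, hy]
    exact Dvd.dvd.mul_right (pow_dvd_pow p hcon) i'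
  have hcop : Nat.Coprime i' p := (Nat.Prime.coprime_iff_not_dvd hp.out).2 hi' |>.symm
  obtain ⟨s, -, hs⟩ := Nat.exists_mul_mod_eq_one_of_coprime hcop hp.out.one_lt
  -- (y^i)^(p^(m-1-a) * s) = y^(p^(m-1))
  refine ⟨((p ^ (m - 1 - a) * s : ℕ) : ℤ), ?_⟩
  show (y ^ i) ^ ((p ^ (m - 1 - a) * s : ℕ) : ℤ) = y ^ p ^ (m - 1)
  rw [zpow_natCast, ← pow_mul]
  have e1 : i * (p ^ (m - 1 - a) * s) = p ^ (m - 1) * (i' * s) := by
    rw [hii]
    have : p ^ (m - 1) = p ^ a * p ^ (m - 1 - a) := by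
      rw [← pow_add]; congr 1; omega
    rw [this]; ring
  rw [e1]
  have e2 : i' * s = p * (i' * s / p) + 1 := by
    have := Nat.div_add_mod (i' * s) p
    rw [hs] at this
    exact this.symm
  rw [e2, mul_add, mul_one, pow_add, ← mul_assoc]
  have e3 : p ^ (m - 1) * p = p ^ m := by
    rw [← pow_succ]; congr 1; omega
  rw [e3, pow_mul, ← hy, pow_orderOf_eq_one, one_pow, one_mul]



section NProd
variable {H : Type*}

theorem nprod_comm [Monoid H] (f : ℕ → H) (c : H) (hc : ∀ i, f i * c = c * f i) (n : ℕ) :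
    nprod f n * c = c * nprod f n := by
  induction n with
  | zero => simp [nprod_zero]
  | succ n ih => rw [nprod_succ, mul_assoc, hc, ← mul_assoc, ih, mul_assoc]

theorem nprod_mul [Monoid H] (f g : ℕ → H) (hc : ∀ i j, g i * f j = f j * g i) (n : ℕ) :
    nprod (fun i => f i * g i) n = nprod f n * nprod g n := by
  induction n with
  | zero => simp [nprod_zero]
  | succ n ih =>
    rw [nprod_succ, nprod_succ, nprod_succ, ih]
    have h1 : nprod g n * f n = f n * nprod g n := nprod_comm g (f n) (fun i => hc i n) n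
    calc nprod f n * nprod g n * (f n * g n) = nprod f n * (nprod g n * f n) * g n := by
          simp only [mul_assoc]
      _ = nprod f n * f n * (nprod g n * g n) := by rw [h1]; simp only [mul_assoc]

theorem nprod_one [Monoid H] (n : ℕ) : nprod (fun _ => (1 : H)) n = 1 := by
  induction n with
  | zero => rfl
  | succ n ih => rw [nprod_succ, ih, mul_one]

theorem nprod_const [Monoid H] (c : H) (n : ℕ) : nprod (fun _ => c) n = c ^ n := by
  induction n with
  | zero => simp [nprod_zero]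
  | succ n ih => rw [nprod_succ, ih, pow_succ]

theorem nprod_inv [Group H] (f : ℕ → H) (hc : ∀ i j, f i * f j = f j * f i) (n : ℕ) :
    nprod (fun i => (f i)⁻¹) n = (nprod f n)⁻¹ := by
  induction n with
  | zero => simp [nprod_zero]
  | succ n ih =>
    rw [nprod_succ, nprod_succ, ih, mul_inv_rev]
    have h1 : nprod f n * f n = f n * nprod f n := nprod_comm f (f n) (fun i => hc i n) n
    have h2 : (f n)⁻¹ * (nprod f n)⁻¹ = (nprod f n)⁻¹ * (f n)⁻¹ := by
      rw [← mul_inv_rev, ← mul_inv_rev, h1]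
    exact h2.symm

theorem nprod_succ' [Monoid H] (f : ℕ → H) (n : ℕ) :
    nprod f (n + 1) = f 0 * nprod (fun i => f (i + 1)) n := by
  induction n with
  | zero => simp [nprod_succ, nprod_zero]
  | succ n ih => rw [nprod_succ, ih, nprod_succ, mul_assoc]

theorem nprod_congr [Monoid H] (f g : ℕ → H) (n : ℕ) (h : ∀ i < n, f i = g i) : nprod f n = nprod g n := by
  induction n with
  | zero => rfl
  | succ n ih =>
    rw [nprod_succ, nprod_succ, ih (fun i hi => h i (by omega)), h n (by omega)]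

end NProd

section NormKer
variable {A : Type*} [Group A]

/-- conjugate of `a` by `z^j` -/
def cjp (z a : A) (j : ℕ) : A := z ^ j * a * (z ^ j)⁻¹

theorem cjp_mem (Qb : Subgroup A) (z : A) (hz : ∀ a ∈ Qb, z * a * z⁻¹ ∈ Qb) (a : A) (ha : a ∈ Qb) (j : ℕ) :
    cjp z a j ∈ Qb := by
  induction j with
  | zero => unfold cjp; simpa using ha
  | succ j ih =>
    have : cjp z a (j + 1) = z * cjp z a j * z⁻¹ := by
      unfold cjp; rw [pow_succ']; group
    rw [this]
    exact hz _ ih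

theorem cjp_mul (z a b : A) (j : ℕ) : cjp z (a * b) j = cjp z a j * cjp z b j := by
  unfold cjp; group

theorem cjp_inv (z a : A) (j : ℕ) : cjp z a⁻¹ j = (cjp z a j)⁻¹ := by
  unfold cjp; group

theorem cjp_one (z : A) (j : ℕ) : cjp z 1 j = 1 := by
  unfold cjp; group

theorem cjp_succ (z a : A) (j : ℕ) : cjp z a (j + 1) = cjp z (z * a * z⁻¹) j := by
  unfold cjp; rw [pow_succ]; group

/-- the kernel of the norm map `a ↦ ∏_{j<n} z^j a z^{-j}` on the abelian group `Qb` -/
def normKer (Qb : Subgroup A) (z : A) (n : ℕ) (hcomm : ∀ a ∈ Qb, ∀ b ∈ Qb, a * b = b * a)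
    (hz : ∀ a ∈ Qb, z * a * z⁻¹ ∈ Qb) : Subgroup A where
  carrier := {a | a ∈ Qb ∧ nprod (cjp z a) n = 1}
  one_mem' := by
    refine ⟨Qb.one_mem, ?_⟩
    have : cjp z 1 = fun _ => (1 : A) := by
      funext j; exact cjp_one z j
    rw [this, nprod_one]
  mul_mem' := by
    rintro a b ⟨ha, ha'⟩ ⟨hb, hb'⟩
    refine ⟨Qb.mul_mem ha hb, ?_⟩
    have : cjp z (a * b) = fun j => cjp z a j * cjp z b j := by
      funext j; exact cjp_mul z a b j
    rw [this, nprod_mul _ _ (fun i j => hcomm _ (cjp_mem Qb z hz b hb i) _ (cjp_mem Qb z hz a ha j)),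
      ha', hb', one_mul]
  inv_mem' := by
    rintro a ⟨ha, ha'⟩
    refine ⟨Qb.inv_mem ha, ?_⟩
    have : cjp z a⁻¹ = fun j => (cjp z a j)⁻¹ := by
      funext j; exact cjp_inv z a j
    rw [this, nprod_inv _ (fun i j => hcomm _ (cjp_mem Qb z hz a ha i) _ (cjp_mem Qb z hz a ha j)),
      ha', inv_one]

theorem mem_normKer (Qb : Subgroup A) (z : A) (n : ℕ) (hcomm : ∀ a ∈ Qb, ∀ b ∈ Qb, a * b = b * a)
    (hz : ∀ a ∈ Qb, z * a * z⁻¹ ∈ Qb) (a : A) :
    a ∈ normKer Qb z n hcomm hz ↔ a ∈ Qb ∧ nprod (cjp z a) n = 1 := Iff.rfl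

theorem normKer_le (Qb : Subgroup A) (z : A) (n : ℕ) (hcomm : ∀ a ∈ Qb, ∀ b ∈ Qb, a * b = b * a)
    (hz : ∀ a ∈ Qb, z * a * z⁻¹ ∈ Qb) : normKer Qb z n hcomm hz ≤ Qb := fun _ h => h.1

/-- elements of the norm kernel commuting with `z` have `n`-th power one -/
theorem pow_eq_one_of_mem_normKer (Qb : Subgroup A) (z : A) (n : ℕ)
    (hcomm : ∀ a ∈ Qb, ∀ b ∈ Qb, a * b = b * a)
    (hz : ∀ a ∈ Qb, z * a * z⁻¹ ∈ Qb) (c : A) (hc : c ∈ normKer Qb z n hcomm hz) (hcz : c * z = z * c) :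
    c ^ n = 1 := by
  have h1 : cjp z c = fun _ => c := by
    funext j
    unfold cjp
    have : Commute c (z ^ j) := Commute.pow_right hcz j
    rw [← this.eq, mul_inv_cancel_right]
  have h2 := hc.2
  rw [h1, nprod_const] at h2
  exact h2

/-- `a⁻¹ * z a z⁻¹` lies in the norm kernel when `z^n = 1` -/
theorem comm_mem_normKer (Qb : Subgroup A) (z : A) (n : ℕ)
    (hcomm : ∀ a ∈ Qb, ∀ b ∈ Qb, a * b = b * a)
    (hz : ∀ a ∈ Qb, z * a * z⁻¹ ∈ Qb) (hzn : z ^ n = 1) (a : A) (ha : a ∈ Qb) :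
    a⁻¹ * (z * a * z⁻¹) ∈ normKer Qb z n hcomm hz := by
  have ha' : z * a * z⁻¹ ∈ Qb := hz a ha
  refine ⟨Qb.mul_mem (Qb.inv_mem ha) ha', ?_⟩
  have h1 : cjp z (a⁻¹ * (z * a * z⁻¹)) = fun j => (cjp z a j)⁻¹ * cjp z a (j + 1) := by
    funext j
    rw [cjp_mul, cjp_inv, cjp_succ]
  rw [h1, nprod_mul _ _ (fun i j => hcomm _ (cjp_mem Qb z hz a ha (i + 1)) _
    (Qb.inv_mem (cjp_mem Qb z hz a ha j))),
    nprod_inv _ (fun i j => hcomm _ (cjp_mem Qb z hz a ha i) _ (cjp_mem Qb z hz a ha j))]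
  -- nprod (f ∘ succ) n = nprod f n
  have h2 : nprod (cjp z a) (n + 1) = cjp z a 0 * nprod (fun j => cjp z a (j + 1)) n := nprod_succ' _ n
  have h3 : nprod (cjp z a) (n + 1) = nprod (cjp z a) n * cjp z a n := nprod_succ _ n
  have h4 : cjp z a n = a := by unfold cjp; rw [hzn]; group
  have h5 : cjp z a 0 = a := by unfold cjp; group
  rw [h4] at h3
  rw [h5] at h2
  have h6 : nprod (cjp z a) n * a = a * nprod (cjp z a) n :=
    nprod_comm _ a (fun i => hcomm _ (cjp_mem Qb z hz a ha i) _ ha) n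
  have h7 : nprod (fun j => cjp z a (j + 1)) n = nprod (cjp z a) n := by
    have : a * nprod (fun j => cjp z a (j + 1)) n = a * nprod (cjp z a) n := by
      rw [← h2, h3, h6]
    exact mul_left_cancel this
  rw [h7, inv_mul_cancel]

/-- invariance of the norm kernel -/
theorem conj_mem_normKer (Qb : Subgroup A) (z : A) (n : ℕ)
    (hcomm : ∀ a ∈ Qb, ∀ b ∈ Qb, a * b = b * a)
    (hz : ∀ a ∈ Qb, z * a * z⁻¹ ∈ Qb) (y : A) (hy : ∀ a ∈ Qb, y * a * y⁻¹ ∈ Qb) (hyz : y * z = z * y)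
    (c : A) (hc : c ∈ normKer Qb z n hcomm hz) : y * c * y⁻¹ ∈ normKer Qb z n hcomm hz := by
  refine ⟨hy c hc.1, ?_⟩
  have h1 : cjp z (y * c * y⁻¹) = fun j => (MulAut.conj y) (cjp z c j) := by
    funext j
    unfold cjp
    rw [MulAut.conj_apply]
    have : Commute y (z ^ j) := Commute.pow_right hyz j
    have e : y * (z ^ j) = z ^ j * y := this.eq
    calc z ^ j * (y * c * y⁻¹) * (z ^ j)⁻¹ = (z ^ j * y) * c * (z ^ j * y)⁻¹ := by group
      _ = (y * z ^ j) * c * (y * z ^ j)⁻¹ := by rw [e]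
      _ = y * (z ^ j * c * (z ^ j)⁻¹) * y⁻¹ := by group
  rw [h1]
  have h2 := map_nprod (MulAut.conj y).toMonoidHom (cjp z c) n
  rw [hc.2, map_one] at h2
  exact h2.symm

end NormKer


open Cfsg.Agent.H1.FrobFree Cfsg.Agent.H1.FrobFix
open scoped commutatorElement

universe u

section FratAct
variable {G : Type u} [Group G] [Finite G] {p : ℕ} [hp : Fact p.Prime] (B : Subgroup G) [hBn : B.Normal]

/-- the Frattini quotient of a normal subgroup -/
abbrev FQ : Type u := ↥B ⧸ frattini ↥B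

omit hBn in
theorem fq_comm (hB : IsPGroup p ↥B) (a b : FQ B) : a * b = b * a := by
  induction a using QuotientGroup.induction_on with | _ x =>
  induction b using QuotientGroup.induction_on with | _ y =>
  rw [← QuotientGroup.mk_mul, ← QuotientGroup.mk_mul, QuotientGroup.eq]
  apply commutator_le_frattini hB
  have : (x * y)⁻¹ * (y * x) = ⁅y⁻¹, x⁻¹⁆ := by
    rw [commutatorElement_def]; group
  rw [this]
  exact Subgroup.commutator_mem_commutator (Subgroup.mem_top _) (Subgroup.mem_top _)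

omit hBn in
theorem fq_exp (hB : IsPGroup p ↥B) (a : FQ B) : a ^ p = 1 := by
  induction a using QuotientGroup.induction_on with | _ x =>
  rw [← QuotientGroup.mk_pow, QuotientGroup.eq_one_iff]
  exact pow_p_mem_frattini hB x

omit [Finite G] in
theorem frattini_map_conj (g : G) :
    (frattini ↥B).map ((MulAut.conjNormal g : ↥B ≃* ↥B) : ↥B →* ↥B) = frattini ↥B :=
  (Subgroup.characteristic_iff_map_eq.1 inferInstance) _

omit [Finite G] in
theorem frattini_map_normal : ((frattini ↥B).map B.subtype).Normal := by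
  refine ⟨fun n hn g => ?_⟩
  obtain ⟨y, hy, rfl⟩ := hn
  refine ⟨MulAut.conjNormal g y, ?_, ?_⟩
  · rw [← frattini_map_conj B g]
    exact ⟨y, hy, rfl⟩
  · simp [MulAut.conjNormal_apply]

/-- conjugation action of `G` on the Frattini quotient of `B` -/
noncomputable def fqAct : G →* MulAut (FQ B) where
  toFun g := QuotientGroup.congr (frattini ↥B) (frattini ↥B) (MulAut.conjNormal g) (frattini_map_conj B g)
  map_one' := by
    ext w
    induction w using QuotientGroup.induction_on with | _ x =>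
    rw [QuotientGroup.congr_mk, map_one]
    rfl
  map_mul' a b := by
    ext w
    induction w using QuotientGroup.induction_on with | _ x =>
    rw [MulAut.mul_apply, QuotientGroup.congr_mk, QuotientGroup.congr_mk, QuotientGroup.congr_mk, map_mul]
    rfl

theorem fqAct_mk (g : G) (x : ↥B) :
    fqAct B g (QuotientGroup.mk x) = QuotientGroup.mk (MulAut.conjNormal g x) := rfl

theorem fqAct_of_mem (hB : IsPGroup p ↥B) (b : G) (hb : b ∈ B) : fqAct B b = 1 := by
  ext w
  induction w using QuotientGroup.induction_on with | _ x =>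
  rw [fqAct_mk, MulAut.one_apply, QuotientGroup.eq]
  apply commutator_le_frattini hB
  have : (MulAut.conjNormal b x)⁻¹ * x = ⁅(⟨b, hb⟩ : ↥B), x⁻¹⁆ := by
    apply Subtype.ext
    rw [commutatorElement_def]
    simp only [Subgroup.coe_mul, Subgroup.coe_inv, MulAut.conjNormal_apply]
    group
  rw [this]
  exact Subgroup.commutator_mem_commutator (Subgroup.mem_top _) (Subgroup.mem_top _)

/-- the induced action of `G ⧸ B` -/
noncomputable def fqActQ (hB : IsPGroup p ↥B) : G ⧸ B →* MulAut (FQ B) :=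
  QuotientGroup.lift B (fqAct B) (fun b hb => fqAct_of_mem B hB b hb)

theorem fqActQ_mk (hB : IsPGroup p ↥B) (g : G) (x : ↥B) :
    fqActQ B hB (QuotientGroup.mk g) (QuotientGroup.mk x) = QuotientGroup.mk (MulAut.conjNormal g x) := rfl

/-- faithfulness of the action when `C_G(B) ≤ B = O_p(G)` -/
theorem fqActQ_faithful (hB : IsPGroup p ↥B) (hBmax : ∀ N : Subgroup G, N.Normal → IsPGroup p ↥N → N ≤ B)
    (hc : Subgroup.centralizer (B : Set G) ≤ B) (a : G ⧸ B) (ha : fqActQ B hB a = 1) : a = 1 := by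
  induction a using QuotientGroup.induction_on with | _ g =>
  rw [QuotientGroup.eq_one_iff]
  haveI hΦn : ((frattini ↥B).map B.subtype).Normal := frattini_map_normal B
  have hKp := isPGroup_sectionKernel_frattini B hB hc ((frattini ↥B).map B.subtype) rfl
  have hKn : (Cfsg.sectionKernel B ((frattini ↥B).map B.subtype)).Normal := by
    unfold Cfsg.sectionKernel
    haveI : (B.map (QuotientGroup.mk' ((frattini ↥B).map B.subtype))).Normal :=
      Subgroup.Normal.map hBn _ (QuotientGroup.mk'_surjective _)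
    haveI : (Subgroup.centralizer ((B.map (QuotientGroup.mk' ((frattini ↥B).map B.subtype)) :
        Subgroup (G ⧸ (frattini ↥B).map B.subtype)) : Set (G ⧸ (frattini ↥B).map B.subtype))).Normal :=
      Subgroup.normal_centralizer
    exact Subgroup.Normal.comap inferInstance _
  apply hBmax _ hKn hKp
  rw [mem_sectionKernel_iff]
  intro k hk
  have h1 := congrArg (fun f => f (QuotientGroup.mk (⟨k, hk⟩ : ↥B))) ha
  simp only [MulAut.one_apply] at h1
  rw [fqActQ_mk, QuotientGroup.eq] at h1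
  refine ⟨(MulAut.conjNormal g ⟨k, hk⟩) * (⟨k, hk⟩ : ↥B)⁻¹, ?_, ?_⟩
  · have : (MulAut.conjNormal g ⟨k, hk⟩) * (⟨k, hk⟩ : ↥B)⁻¹ =
        (MulAut.conjNormal g ⟨k, hk⟩) * ((MulAut.conjNormal g ⟨k, hk⟩)⁻¹ * ⟨k, hk⟩)⁻¹ * (MulAut.conjNormal g ⟨k, hk⟩)⁻¹ := by
      group
    rw [this]
    haveI : (frattini ↥B).Normal := inferInstance
    exact Subgroup.Normal.conj_mem inferInstance _ (Subgroup.inv_mem _ h1) _
  · simp [MulAut.conjNormal_apply]

end FratAct


end Cfsg.Agent.H1.HHAb
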