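import Mathlib
import Cfsg.Agent.H1.HHAbC
import Cfsg.Agent.H1.QuadThree
import Cfsg.Agent.Lib.Lead.PSolvable
import Cfsg.Agent.Lib.Lead.ExpSix
import Cfsg.Agent.S0023
import Cfsg.Agent.H1.PLength

set_option linter.style.haveILetI false
set_option linter.unusedVariables false

namespace Cfsg.Agent.H1.HHAb
open Cfsg Cfsg.Agent.Lib.Lead.PSolvable

universe u

/-- an `X`-invariant Sylow subgroup of `K` not centralized by `z` -/
theorem exists_invariant_sylow_not_centralized {A : Type*} [Group A] [Finite A] (X K : Subgroup A) [hKn : K.Normal]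
    (hcop : (Nat.card X).Coprime (Nat.card K)) (hXs : Group.IsSolvable X) (z : A)
    (hz : ¬ z ∈ Subgroup.centralizer (K : Set A)) :
    ∃ (q : ℕ) (_ : Fact q.Prime) (P : Sylow q K), X ≤ Subgroup.normalizer ((P : Subgroup K).map K.subtype : Set A) ∧
      ¬ z ∈ Subgroup.centralizer (((P : Subgroup K).map K.subtype : Subgroup A) : Set A) := by
  by_contra hcon
  push Not at hcon
  apply hz
  have hXK : X ≤ Subgroup.normalizer (K : Set A) := by
    rw [Subgroup.normalizer_eq_top_iff.mpr hKn]; exact le_top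
  have htop : (Subgroup.centralizer ({z} : Set A)).subgroupOf K = ⊤ := by
    apply Cfsg.Agent.H1.eq_top_of_forall_sylow_le
    intro q hq
    obtain ⟨P, hP⟩ := Cfsg.Agent.S0023.result X K hXK hcop (Or.inl hXs) q
    refine ⟨P, ?_⟩
    intro k hk
    rw [Subgroup.mem_subgroupOf, Subgroup.mem_centralizer_iff]
    intro w hw
    rw [Set.mem_singleton_iff] at hw
    subst hw
    have h1 := hcon q hq P hP
    rw [Subgroup.mem_centralizer_iff] at h1
    have h2 := h1 (k : A) (Subgroup.mem_map_of_mem K.subtype hk)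
    exact h2.symm
  rw [Subgroup.mem_centralizer_iff]
  intro k hk
  have h1 : (⟨k, hk⟩ : ↥K) ∈ (Subgroup.centralizer ({z} : Set A)).subgroupOf K := by
    rw [htop]; exact Subgroup.mem_top _
  rw [Subgroup.mem_subgroupOf, Subgroup.mem_centralizer_iff] at h1
  exact (h1 z rfl).symm

/-- the key step: abelian Hall–Higman -/
theorem key {G : Type u} [Group G] [Finite G] {p : ℕ} [hp : Fact p.Prime]
    (hsol : IsPSolvable p G) (hbot : pPrimeCore p G = ⊥)
    (hab : ∀ (q : ℕ), q.Prime → q ≠ p → ∀ Q : Subgroup (G ⧸ pCore p G), IsPGroup q Q →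
      ∀ a ∈ Q, ∀ b ∈ Q, a * b = b * a)
    (x : G) (hx : ∃ k, x ^ p ^ k = 1) (hxB : x ∉ pCore p G) :
    ∃ g : G, (∃ k, g ^ p ^ k = 1) ∧ g ^ orderOf (QuotientGroup.mk' (pCore p G) x) ≠ 1 := by
  classical
  have hpp : p.Prime := hp.out
  have hBp : IsPGroup p ↥(pCore p G) := Cfsg.Agent.H1.pCore_isPGroup p
  have hc : Subgroup.centralizer ((pCore p G : Subgroup G) : Set G) ≤ pCore p G := centralizer_pCore_le hsol hbot
  have hBmax : ∀ N : Subgroup G, N.Normal → IsPGroup p ↥N → N ≤ pCore p G :=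
    fun N hN hNp => Cfsg.Agent.H1.le_pCore hN hNp
  -- the quotient
  have hsolA : IsPSolvable p (G ⧸ pCore p G) := IsPSolvable.quotient (pCore p G) hsol
  have hOpA : pCore p (G ⧸ pCore p G) = ⊥ := Cfsg.Agent.Lead.ExpSix.pCore_quotient_self_eq_bot (pCore p G) rfl
  have hCK := Cfsg.Agent.H1.centralizer_pPrimeCore_le hsolA hOpA
  set K := pPrimeCore p (G ⧸ pCore p G) with hK
  have hKcop : (Nat.card K).Coprime p := Cfsg.Agent.H1.pPrimeCore_coprime p
  set xb : G ⧸ pCore p G := QuotientGroup.mk' (pCore p G) x with hxb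
  have hxb1 : xb ≠ 1 := by
    intro h
    exact hxB ((QuotientGroup.eq_one_iff x).1 h)
  obtain ⟨k, hk⟩ := hx
  have hxbk : xb ^ p ^ k = 1 := by rw [hxb, ← map_pow, hk, map_one]
  obtain ⟨m, hmk, hm⟩ := (Nat.dvd_prime_pow hpp).1 (orderOf_dvd_of_pow_eq_one hxbk)
  have hm1 : 1 ≤ m := by
    rcases Nat.eq_zero_or_pos m with h | h
    · rw [h, pow_zero, orderOf_eq_one_iff] at hm
      exact absurd hm hxb1
    · exact h
  set zb : G ⧸ pCore p G := xb ^ p ^ (m - 1) with hzb
  have hzbp : zb ^ p = 1 := by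
    rw [hzb, ← pow_mul, ← pow_succ, show m - 1 + 1 = m by omega, ← hm, pow_orderOf_eq_one]
  have hzb1 : zb ≠ 1 := by
    intro h
    have h1 : orderOf xb ∣ p ^ (m - 1) := orderOf_dvd_of_pow_eq_one h
    rw [hm] at h1
    have h2 := Nat.pow_dvd_pow_iff_le_right hpp.one_lt |>.1 h1
    omega
  have hzbK : zb ∉ K := by
    intro h
    have h1 : orderOf zb = p := orderOf_eq_prime hzbp hzb1
    have h2 : orderOf (⟨zb, h⟩ : ↥K) = p := (Subgroup.orderOf_mk zb h).trans h1
    have h3 : p ∣ Nat.card K := by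
      have := orderOf_dvd_natCard (⟨zb, h⟩ : ↥K)
      rwa [h2] at this
    have h4 := Nat.dvd_gcd h3 (dvd_refl p)
    rw [hKcop] at h4
    exact hpp.one_lt.ne' (Nat.dvd_one.1 h4)
  have hzbC : ¬ zb ∈ Subgroup.centralizer (K : Set (G ⧸ pCore p G)) := fun h => hzbK (hCK h)
  -- X
  have hXcard : Nat.card (Subgroup.zpowers xb) = p ^ m := by rw [Nat.card_zpowers, hm]
  have hXcop : (Nat.card (Subgroup.zpowers xb)).Coprime (Nat.card K) := by
    rw [hXcard]
    exact Nat.Coprime.pow_left m hKcop.symm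
  have hXs : Group.IsSolvable (Subgroup.zpowers xb) := inferInstance
  obtain ⟨q, hqf, P, hPX, hPz⟩ := exists_invariant_sylow_not_centralized (Subgroup.zpowers xb) K hXcop hXs zb hzbC
  set Qb : Subgroup (G ⧸ pCore p G) := (P : Subgroup K).map K.subtype with hQb
  have hQbq : IsPGroup q Qb := P.isPGroup'.map _
  have hqp : q ≠ p := by
    intro hqp
    apply hPz
    have hKq : (Nat.card K).Coprime q := by rw [hqp]; exact hKcop
    have hPbot : (P : Subgroup K) = ⊥ := by
      obtain ⟨j, hj⟩ := IsPGroup.iff_card.1 P.isPGroup'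
      have h2 : q ^ j ∣ Nat.card K := by rw [← hj]; exact Subgroup.card_subgroup_dvd_card _
      have h3 : j = 0 := by
        by_contra hj0
        have h4 : q ∣ Nat.card K := dvd_trans (dvd_pow_self q hj0) h2
        have h5 := Nat.dvd_gcd h4 (dvd_refl q)
        rw [hKq] at h5
        exact hqf.out.one_lt.ne' (Nat.dvd_one.1 h5)
      rw [h3, pow_zero] at hj
      exact Subgroup.card_eq_one.1 hj
    rw [hQb, hPbot, Subgroup.map_bot, Subgroup.mem_centralizer_iff]
    intro w hw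
    rw [SetLike.mem_coe, Subgroup.mem_bot] at hw
    rw [hw, one_mul, mul_one]
  have hQbcomm := hab q hqf.out hqp Qb hQbq
  -- normalization
  have hxzcomm : ∀ y ∈ Subgroup.zpowers xb, y * zb = zb * y := by
    intro y hy
    obtain ⟨n, rfl⟩ := Subgroup.mem_zpowers_iff.1 hy
    have : Commute (xb ^ n) (xb ^ p ^ (m - 1)) := (Commute.refl xb).zpow_left n |>.pow_right _
    exact this.eq
  have hyQb : ∀ y ∈ Subgroup.zpowers xb, ∀ a ∈ Qb, y * a * y⁻¹ ∈ Qb := by
    intro y hy a ha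
    exact (Subgroup.mem_normalizer_iff.1 (hPX hy) a).1 ha
  have hzbX : zb ∈ Subgroup.zpowers xb := Subgroup.pow_mem _ (Subgroup.mem_zpowers xb) _
  have hzQb : ∀ a ∈ Qb, zb * a * zb⁻¹ ∈ Qb := hyQb zb hzbX
  set Q := normKer Qb zb p hQbcomm hzQb with hQ
  have hQle : Q ≤ Qb := normKer_le Qb zb p hQbcomm hzQb
  obtain ⟨a, ha, haz⟩ : ∃ a ∈ Qb, a * zb ≠ zb * a := by
    by_contra hcon
    push Not at hcon
    apply hPz
    rw [Subgroup.mem_centralizer_iff]
    intro a ha
    exact hcon a ha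
  have hc0Q : a⁻¹ * (zb * a * zb⁻¹) ∈ Q := comm_mem_normKer Qb zb p hQbcomm hzQb hzbp a ha
  have hc01 : a⁻¹ * (zb * a * zb⁻¹) ≠ 1 := by
    intro h
    apply haz
    have h1 : zb * a * zb⁻¹ = a := by
      have := congrArg (fun t => a * t) h
      simpa using this
    calc a * zb = (zb * a * zb⁻¹) * zb := by rw [h1]
      _ = zb * a := by group
  have hfz : ∀ c ∈ Q, c * zb = zb * c → c = 1 := by
    intro c hc hcz
    have h1 := pow_eq_one_of_mem_normKer Qb zb p hQbcomm hzQb c hc hcz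
    obtain ⟨j, hj⟩ := hQbq ⟨c, hQle hc⟩
    have h2 : c ^ q ^ j = 1 := by
      have := congrArg Subtype.val hj
      simpa using this
    have h3 : orderOf c ∣ Nat.gcd p (q ^ j) :=
      Nat.dvd_gcd (orderOf_dvd_of_pow_eq_one h1) (orderOf_dvd_of_pow_eq_one h2)
    have h4 : Nat.gcd p (q ^ j) = 1 :=
      Nat.Coprime.pow_right j ((Nat.coprime_primes hpp hqf.out).2 (Ne.symm hqp))
    rw [h4, Nat.dvd_one, orderOf_eq_one_iff] at h3
    exact h3
  have hyQ : ∀ y ∈ Subgroup.zpowers xb, ∀ c ∈ Q, y * c * y⁻¹ ∈ Q := by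
    intro y hy c hc
    exact conj_mem_normKer Qb zb p hQbcomm hzQb y (hyQb y hy) (hxzcomm y hy) c hc
  -- the group L
  set L : Subgroup (G ⧸ pCore p G) := Q ⊔ Subgroup.zpowers xb with hL
  have hQL : Q ≤ L := le_sup_left
  have hXL : Subgroup.zpowers xb ≤ L := le_sup_right
  have hLN : L ≤ Subgroup.normalizer (Q : Set (G ⧸ pCore p G)) := by
    refine sup_le Subgroup.le_normalizer ?_
    intro y hy
    rw [Subgroup.mem_normalizer_iff]
    intro c
    constructor
    · exact hyQ y hy c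
    · intro h
      have := hyQ y⁻¹ (Subgroup.inv_mem _ hy) _ h
      rw [inv_inv] at this
      convert this using 1
      group
  haveI hQ'n : (Q.subgroupOf L).Normal := Subgroup.normal_subgroupOf_of_le_normalizer hLN
  set x' : ↥L := ⟨xb, hXL (Subgroup.mem_zpowers xb)⟩ with hx'
  set φ' : ↥L →* MulAut (FQ (pCore p G)) := (fqActQ (pCore p G) hBp).comp L.subtype with hφ'
  have hQ'comm : ∀ c ∈ Q.subgroupOf L, ∀ c' ∈ Q.subgroupOf L, c * c' = c' * c := by
    intro c hc c' hc'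
    apply Subtype.ext
    exact hQbcomm _ (hQle (Subgroup.mem_subgroupOf.1 hc)) _ (hQle (Subgroup.mem_subgroupOf.1 hc'))
  have hQ'card : (Nat.card (Q.subgroupOf L)).Coprime p := by
    have h1 : IsPGroup q (Q.subgroupOf L) := (hQbq.to_le hQle).comap_subtype
    obtain ⟨j, hj⟩ := IsPGroup.iff_card.1 h1
    rw [hj]
    exact Nat.Coprime.pow_left j ((Nat.coprime_primes hqf.out hpp).2 hqp)
  have hfpf' : ∀ h ∈ Subgroup.zpowers x', h ≠ 1 → ∀ c ∈ Q.subgroupOf L, c * h = h * c → c = 1 := by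
    intro h hh hh1 c hc hch
    have h1 : (h : G ⧸ pCore p G) ∈ Subgroup.zpowers xb := by
      obtain ⟨n, rfl⟩ := Subgroup.mem_zpowers_iff.1 hh
      rw [Subgroup.coe_zpow]
      exact Subgroup.zpow_mem _ (Subgroup.mem_zpowers xb) n
    have h2 : (h : G ⧸ pCore p G) ≠ 1 := fun h0 => hh1 (Subtype.ext h0)
    obtain ⟨n, hn⟩ := Subgroup.mem_zpowers_iff.1 (pow_mem_zpowers_of_ne_one xb m hm _ h1 h2)
    have h3 : (c : G ⧸ pCore p G) * (h : G ⧸ pCore p G) = (h : G ⧸ pCore p G) * (c : G ⧸ pCore p G) := by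
      have := congrArg Subtype.val hch
      simpa using this
    have h4 : Commute (c : G ⧸ pCore p G) ((h : G ⧸ pCore p G) ^ n) := Commute.zpow_right h3 n
    rw [hn] at h4
    apply Subtype.ext
    exact hfz _ (Subgroup.mem_subgroupOf.1 hc) h4.eq
  have hnt' : ∃ c ∈ Q.subgroupOf L, ∃ v : FQ (pCore p G), φ' c v ≠ v := by
    refine ⟨⟨a⁻¹ * (zb * a * zb⁻¹), hQL hc0Q⟩, Subgroup.mem_subgroupOf.2 hc0Q, ?_⟩
    by_contra hcon
    push Not at hcon
    apply hc01
    apply fqActQ_faithful (pCore p G) hBp hBmax hc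
    ext v
    exact hcon v
  obtain ⟨v, hv⟩ := norm_ne_one (fq_comm (pCore p G) hBp) p hpp (fq_exp (pCore p G) hBp) φ' x'
    (Q.subgroupOf L) hQ'comm hQ'card hfpf' hnt'
  have hox' : orderOf x' = orderOf xb := Subgroup.orderOf_mk xb _
  rw [hox'] at hv
  obtain ⟨u, rfl⟩ := QuotientGroup.mk_surjective v
  -- compute
  have h1 : ∀ i : ℕ, φ' (x' ^ i) (QuotientGroup.mk u) = QuotientGroup.mk (MulAut.conjNormal (x ^ i) u) := by
    intro i
    have : ((x' ^ i : ↥L) : G ⧸ pCore p G) = QuotientGroup.mk (x ^ i) := by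
      rw [Subgroup.coe_pow]
      rfl
    show fqActQ (pCore p G) hBp ((x' ^ i : ↥L) : G ⧸ pCore p G) (QuotientGroup.mk u) = _
    rw [this, fqActQ_mk]
  have h2 : nprod (fun i => φ' (x' ^ i) (QuotientGroup.mk u)) (orderOf xb) =
      QuotientGroup.mk' (frattini ↥(pCore p G)) (nprod (fun i => MulAut.conjNormal (x ^ i) u) (orderOf xb)) := by
    rw [map_nprod]
    apply nprod_congr
    intro i _
    exact h1 i
  rw [h2] at hv
  have h3 : nprod (fun i => MulAut.conjNormal (x ^ i) u) (orderOf xb) ≠ 1 := by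
    intro h
    apply hv
    rw [h, map_one]
  have h4 : ((nprod (fun i => MulAut.conjNormal (x ^ i) u) (orderOf xb) : ↥(pCore p G)) : G) =
      nprod (fun i => x ^ i * (u : G) * (x ^ i)⁻¹) (orderOf xb) := by
    have := map_nprod (pCore p G).subtype (fun i => MulAut.conjNormal (x ^ i) u) (orderOf xb)
    rw [Subgroup.coe_subtype] at this
    rw [this]
    apply nprod_congr
    intro i _
    show (((MulAut.conjNormal (x ^ i) u : ↥(pCore p G))) : G) = _
    rw [MulAut.conjNormal_apply]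
  have h5 : nprod (fun i => x ^ i * (u : G) * (x ^ i)⁻¹) (orderOf xb) ≠ 1 := by
    rw [← h4]
    intro h
    exact h3 (Subtype.ext h)
  have h6 := mul_pow_eq_nprod (u : G) x (orderOf xb)
  by_cases hxo : x ^ orderOf xb = 1
  · refine ⟨(u : G) * x, ?_, ?_⟩
    · have hX : IsPGroup p (Subgroup.zpowers x) := by
        intro y
        obtain ⟨n, hn⟩ := Subgroup.mem_zpowers_iff.1 y.2
        refine ⟨k, Subtype.ext ?_⟩
        rw [Subgroup.coe_pow, Subgroup.coe_one, ← hn, ← zpow_natCast, ← zpow_mul, mul_comm, zpow_mul,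
          zpow_natCast, hk, one_zpow]
      have hsup : IsPGroup p ↥(Subgroup.zpowers x ⊔ pCore p G) := IsPGroup.to_sup_of_normal_right hX hBp
      have hmem : (u : G) * x ∈ Subgroup.zpowers x ⊔ pCore p G :=
        Subgroup.mul_mem _ (Subgroup.mem_sup_right u.2) (Subgroup.mem_sup_left (Subgroup.mem_zpowers x))
      obtain ⟨j, hj⟩ := hsup ⟨(u : G) * x, hmem⟩
      refine ⟨j, ?_⟩
      have := congrArg Subtype.val hj
      simpa using this
    · rw [h6, hxo, mul_one]
      exact h5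
  · exact ⟨x, ⟨k, hk⟩, hxo⟩

end Cfsg.Agent.H1.HHAb
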