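import Mathlib
import Cfsg.Agent.H1.HHAbD

set_option linter.style.haveILetI false
set_option linter.unusedVariables false

namespace Cfsg.Agent.H1.HHAb
open Cfsg Cfsg.Agent.Lib.Lead.PSolvable Cfsg.Agent.H1

universe u

section Lift
variable {G : Type u} [Group G] [Finite G]

/-- an `r`-subgroup of a quotient is the image of an `r`-subgroup -/
theorem exists_pgroup_map_eq (N : Subgroup G) [N.Normal] (r : ℕ) [Fact r.Prime] (U : Subgroup (G ⧸ N))
    (hU : IsPGroup r U) : ∃ V : Subgroup G, IsPGroup r V ∧ V.map (QuotientGroup.mk' N) = U := by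
  obtain ⟨S, hS⟩ := hU.exists_le_sylow
  obtain ⟨T, hT⟩ := Sylow.mapSurjective_surjective (QuotientGroup.mk'_surjective N) r S
  refine ⟨(T : Subgroup G) ⊓ U.comap (QuotientGroup.mk' N), T.isPGroup'.to_le inf_le_left, ?_⟩
  apply le_antisymm
  · rintro _ ⟨y, hy, rfl⟩
    exact hy.2
  · intro y hy
    have h1 : y ∈ (S : Subgroup (G ⧸ N)) := hS hy
    rw [← hT, Sylow.coe_mapSurjective] at h1
    obtain ⟨t, ht, rfl⟩ := h1
    exact ⟨t, ⟨ht, hy⟩, rfl⟩

theorem exists_pelement_lift (N : Subgroup G) [N.Normal] (r : ℕ) [Fact r.Prime] (y : G ⧸ N)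
    (hy : ∃ k, y ^ r ^ k = 1) : ∃ x : G, QuotientGroup.mk' N x = y ∧ ∃ k, x ^ r ^ k = 1 := by
  obtain ⟨k, hk⟩ := hy
  have hU : IsPGroup r (Subgroup.zpowers y) := by
    intro w
    obtain ⟨n, hn⟩ := Subgroup.mem_zpowers_iff.1 w.2
    refine ⟨k, Subtype.ext ?_⟩
    rw [Subgroup.coe_pow, Subgroup.coe_one, ← hn, ← zpow_natCast, ← zpow_mul, mul_comm, zpow_mul,
      zpow_natCast, hk, one_zpow]
  obtain ⟨V, hV, hVU⟩ := exists_pgroup_map_eq N r _ hU
  have h1 : y ∈ V.map (QuotientGroup.mk' N) := by rw [hVU]; exact Subgroup.mem_zpowers y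
  obtain ⟨x, hx, rfl⟩ := h1
  refine ⟨x, rfl, ?_⟩
  obtain ⟨j, hj⟩ := hV ⟨x, hx⟩
  refine ⟨j, ?_⟩
  have := congrArg Subtype.val hj
  simpa using this

end Lift

/-- abelian `q`-subgroups for all `q ≠ p` -/
def Hab (p : ℕ) (G : Type*) [Group G] : Prop :=
  ∀ (q : ℕ), q.Prime → q ≠ p → ∀ Q : Subgroup G, IsPGroup q Q → ∀ a ∈ Q, ∀ b ∈ Q, a * b = b * a

/-- `p`-elements have order dividing `p^n` -/
def Hexp (p n : ℕ) (G : Type*) [Group G] : Prop :=
  ∀ x : G, (∃ k, x ^ p ^ k = 1) → x ^ p ^ n = 1

theorem Hab.quotient {p : ℕ} {G : Type u} [Group G] [Finite G] (h : Hab p G) (N : Subgroup G) [N.Normal] :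
    Hab p (G ⧸ N) := by
  intro q hq hqp U hU a ha b hb
  haveI : Fact q.Prime := ⟨hq⟩
  obtain ⟨V, hV, rfl⟩ := exists_pgroup_map_eq N q U hU
  obtain ⟨a', ha', rfl⟩ := ha
  obtain ⟨b', hb', rfl⟩ := hb
  rw [← map_mul, ← map_mul, h q hq hqp V hV a' ha' b' hb']

theorem Hexp.quotient {p n : ℕ} [Fact p.Prime] {G : Type u} [Group G] [Finite G] (h : Hexp p n G)
    (N : Subgroup G) [N.Normal] : Hexp p n (G ⧸ N) := by
  intro y hy
  obtain ⟨x, rfl, hx⟩ := exists_pelement_lift N p y hy
  rw [← map_pow, h x hx, map_one]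

theorem plength_le_exp_aux {p : ℕ} [hp : Fact p.Prime] : ∀ (r : ℕ) (G : Type u) [Group G] [Finite G],
    Nat.card G ≤ r → IsPSolvable p G → Hab p G → ∀ n : ℕ, Hexp p n G → PLengthLE p n G := by
  intro r
  induction r with
  | zero =>
    intro G _ _ hcard
    exact absurd hcard (by have := Nat.card_pos (α := G); omega)
  | succ r ih =>
    intro G _ _ hcard hsol hab n hexp
    have hpp : p.Prime := hp.out
    by_cases hN : pPrimeCore p G = ⊥
    swap
    · -- divide by O_{p'}
      have hlt : Nat.card (G ⧸ pPrimeCore p G) < Nat.card G := by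
        have h1 := Subgroup.card_eq_card_quotient_mul_card_subgroup (pPrimeCore p G)
        have h2 : 1 < Nat.card (pPrimeCore p G) := by
          rw [Subgroup.one_lt_card_iff_ne_bot]; exact hN
        have h3 := Nat.card_pos (α := G ⧸ pPrimeCore p G)
        nlinarith
      have h1 := ih (G ⧸ pPrimeCore p G) (by omega) (IsPSolvable.quotient _ hsol) (hab.quotient _) n
        (hexp.quotient _)
      have h2 : PLengthLE p 0 ↥(pPrimeCore p G) := plength_zero_of_coprime (pPrimeCore_coprime p)
      have := plength_extension (pPrimeCore p G) h2 h1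
      rwa [zero_add] at this
    · by_cases htriv : Nat.card G = 1
      · have : Subsingleton G := (Nat.card_eq_one_iff_unique.mp htriv).1
        unfold PLengthLE
        exact Subsingleton.elim _ _
      haveI : Nontrivial G := by
        rw [← Finite.one_lt_card_iff_nontrivial]
        have := Nat.card_pos (α := G)
        omega
      have hB := pCore_ne_bot hsol hN
      have hBp : IsPGroup p ↥(pCore p G) := pCore_isPGroup p
      rcases n with _ | n
      · -- exponent 1: no `p`-elements
        exfalso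
        apply hB
        rw [eq_bot_iff]
        intro x hx
        obtain ⟨k, hk⟩ := hBp ⟨x, hx⟩
        have hk' : x ^ p ^ k = 1 := by
          have := congrArg Subtype.val hk
          simpa using this
        have := hexp x ⟨k, hk'⟩
        rw [pow_zero, pow_one] at this
        rw [Subgroup.mem_bot]; exact this
      have hlt : Nat.card (G ⧸ pCore p G) < Nat.card G := by
        have h1 := Subgroup.card_eq_card_quotient_mul_card_subgroup (pCore p G)
        have h2 : 1 < Nat.card (pCore p G) := by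
          rw [Subgroup.one_lt_card_iff_ne_bot]; exact hB
        have h3 := Nat.card_pos (α := G ⧸ pCore p G)
        nlinarith
      have habQ : Hab p (G ⧸ pCore p G) := hab.quotient _
      have hexpQ : Hexp p n (G ⧸ pCore p G) := by
        intro y hy
        obtain ⟨x, rfl, hx⟩ := exists_pelement_lift (pCore p G) p y hy
        by_cases hxB : x ∈ pCore p G
        · have : QuotientGroup.mk' (pCore p G) x = 1 := (QuotientGroup.eq_one_iff x).2 hxB
          rw [this, one_pow]
        obtain ⟨g, hg, hgo⟩ := key hsol hN habQ x hx hxB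
        obtain ⟨k, hk⟩ := hx
        have hxbk : (QuotientGroup.mk' (pCore p G) x) ^ p ^ k = 1 := by rw [← map_pow, hk, map_one]
        obtain ⟨m, hmk, hm⟩ := (Nat.dvd_prime_pow hpp).1 (orderOf_dvd_of_pow_eq_one hxbk)
        rw [hm] at hgo
        have hg1 := hexp g hg
        have hmn : m ≤ n := by
          by_contra hcon
          push Not at hcon
          apply hgo
          have : p ^ m = p ^ (n + 1) * p ^ (m - (n + 1)) := by
            rw [← pow_add]; congr 1; omega
          rw [this, pow_mul, hg1, one_pow]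
        have : p ^ n = p ^ m * p ^ (n - m) := by
          rw [← pow_add]; congr 1; omega
        rw [this, pow_mul, ← hm, pow_orderOf_eq_one, one_pow]
      have h1 := ih (G ⧸ pCore p G) (by omega) (IsPSolvable.quotient _ hsol) habQ n hexpQ
      have h2 : PLengthLE p 1 ↥(pCore p G) := plength_one_of_isPGroup hBp
      have := plength_extension (pCore p G) h2 h1
      rwa [add_comm] at this

end Cfsg.Agent.H1.HHAb
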