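import Mathlib

/-! Jordan-type decomposition of a nilpotent endomorphism into cyclic blocks (spanning form). -/

namespace Cfsg.Agent.H1.JordanNil
open Module

universe u

variable {K : Type*} [Field K]

theorem pow_add_apply_eq_zero {V : Type*} [AddCommGroup V] [Module K V] (X : Module.End K V) (s : ℕ)
    (hs : X ^ s = 0) (j : ℕ) (hj : s ≤ j) (v : V) : (X ^ j) v = 0 := by
  obtain ⟨t, rfl⟩ := Nat.exists_eq_add_of_le hj
  rw [add_comm, pow_add, Module.End.mul_apply, hs, LinearMap.zero_apply, map_zero]

theorem exists_solve {V : Type*} [AddCommGroup V] [Module K V] (X : Module.End K V) (s : ℕ)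
    (hs : X ^ s = 0) (v : V) (φ : V →ₗ[K] K)
    (hφ : φ ((X ^ (s - 1)) v) ≠ 0) (y : ℕ → K) :
    ∀ k ≤ s, ∃ c ∈ Submodule.span K (Set.range fun m : Fin s => (X ^ (m : ℕ)) v),
      ∀ j, s - k ≤ j → j < s → φ ((X ^ j) c) = y j := by
  intro k
  induction k with
  | zero =>
    intro _
    refine ⟨0, Submodule.zero_mem _, ?_⟩
    intro j h1 h2
    omega
  | succ k ih =>
    intro hk
    obtain ⟨c, hc, hcy⟩ := ih (by omega)
    set j₀ := s - (k + 1) with hj₀
    set α : K := (y j₀ - φ ((X ^ j₀) c)) / φ ((X ^ (s - 1)) v) with hα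
    refine ⟨c + α • (X ^ k) v, ?_, ?_⟩
    · apply Submodule.add_mem _ hc
      apply Submodule.smul_mem
      apply Submodule.subset_span
      exact ⟨⟨k, by omega⟩, rfl⟩
    · intro j h1 h2
      rw [map_add, map_add, map_smul, map_smul, ← Module.End.mul_apply, ← pow_add]
      by_cases hj : j = j₀
      · have h3 : j + k = s - 1 := by omega
        rw [h3, hj, hα, smul_eq_mul, div_mul_cancel₀ _ hφ]
        ring
      · have h3 : s ≤ j + k := by omega
        rw [pow_add_apply_eq_zero X s hs (j + k) h3, map_zero, smul_zero, add_zero]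
        apply hcy j (by omega) h2

theorem exists_complement {V : Type*} [AddCommGroup V] [Module K V] [FiniteDimensional K V]
    (X : Module.End K V) (s : ℕ) (hs : X ^ s = 0) (v : V)
    (hv : (X ^ (s - 1)) v ≠ 0) :
    ∃ W : Submodule K V, (∀ w ∈ W, X w ∈ W) ∧ finrank K W + s = finrank K V ∧
      Submodule.span K (Set.range fun m : Fin s => (X ^ (m : ℕ)) v) ⊔ W = ⊤ := by
  classical
  obtain ⟨φ, hφ⟩ : ∃ φ : V →ₗ[K] K, φ ((X ^ (s - 1)) v) ≠ 0 := by
    by_contra hcon
    push Not at hcon
    exact hv ((Module.forall_dual_apply_eq_zero_iff K _).mp hcon)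
  set Ψ : V →ₗ[K] (Fin s → K) := LinearMap.pi (fun j => φ ∘ₗ (X ^ (j : ℕ))) with hΨ
  have hΨa : ∀ (w : V) (j : Fin s), Ψ w j = φ ((X ^ (j : ℕ)) w) := fun w j => rfl
  have hsolve : ∀ y : Fin s → K, ∃ c ∈ Submodule.span K (Set.range fun m : Fin s => (X ^ (m : ℕ)) v),
      Ψ c = y := by
    intro y
    obtain ⟨c, hc, hcy⟩ := exists_solve X s hs v φ hφ
      (fun j => if h : j < s then y ⟨j, h⟩ else 0) s le_rfl
    refine ⟨c, hc, ?_⟩
    funext j
    rw [hΨa, hcy j (by omega) j.2, dif_pos j.2]
  refine ⟨LinearMap.ker Ψ, ?_, ?_, ?_⟩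
  · intro w hw
    rw [LinearMap.mem_ker] at hw ⊢
    funext j
    rw [hΨa]
    by_cases hj : (j : ℕ) + 1 < s
    · have := congrFun hw ⟨(j : ℕ) + 1, hj⟩
      rw [hΨa] at this
      rw [← Module.End.mul_apply, ← pow_succ]
      exact this
    · rw [← Module.End.mul_apply, ← pow_succ,
        pow_add_apply_eq_zero X s hs ((j : ℕ) + 1) (by have := j.2; omega), map_zero]
      rfl
  · have hsurj : LinearMap.range Ψ = ⊤ := by
      rw [LinearMap.range_eq_top]
      intro y
      obtain ⟨c, _, hc⟩ := hsolve y
      exact ⟨c, hc⟩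
    have h1 := LinearMap.finrank_range_add_finrank_ker Ψ
    rw [hsurj, finrank_top, Module.finrank_fin_fun] at h1
    omega
  · rw [eq_top_iff]
    intro w _
    obtain ⟨c, hc, hcw⟩ := hsolve (Ψ w)
    have : w = c + (w - c) := by abel
    rw [this]
    apply Submodule.add_mem
    · exact Submodule.mem_sup_left hc
    · apply Submodule.mem_sup_right
      rw [LinearMap.mem_ker, map_sub, hcw, sub_self]

theorem restrict_pow_apply {V : Type*} [AddCommGroup V] [Module K V] (X : Module.End K V)
    (W : Submodule K V) (hW : ∀ w ∈ W, X w ∈ W) (m : ℕ) (w : W) :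
    (((X.restrict hW) ^ m) w : V) = (X ^ m) (w : V) := by
  induction m generalizing w with
  | zero => simp
  | succ m ih =>
    rw [pow_succ, pow_succ, Module.End.mul_apply, Module.End.mul_apply, ih]
    rfl

theorem exists_jordan : ∀ (n : ℕ) (V : Type u) [AddCommGroup V] [Module K V] [FiniteDimensional K V]
    (X : Module.End K V), finrank K V = n → IsNilpotent X →
    ∃ (ι : Type) (_ : Fintype ι) (v : ι → V) (a : ι → ℕ),
      (∀ i, 1 ≤ a i) ∧ (∀ i, (X ^ a i) (v i) = 0) ∧ (∀ i, (X ^ (a i - 1)) (v i) ≠ 0) ∧
      Submodule.span K {w | ∃ i, ∃ m < a i, w = (X ^ m) (v i)} = ⊤ ∧ ∑ i, a i = n := by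
  intro n
  induction n using Nat.strong_induction_on with
  | _ n ih =>
    intro V _ _ _ X hn hX
    by_cases hn0 : n = 0
    · refine ⟨Empty, inferInstance, fun e => e.elim, fun e => e.elim, fun e => e.elim,
        fun e => e.elim, fun e => e.elim, ?_, ?_⟩
      · haveI : Subsingleton V := by
          rw [← Module.finrank_zero_iff (R := K), hn, hn0]
        exact Subsingleton.elim _ _
      · rw [hn0]; rfl
    · haveI : Nontrivial V := by
        rw [← Module.finrank_pos_iff (R := K), hn]
        omega
      classical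
      have hex : ∃ s, X ^ s = 0 := hX
      set s := Nat.find hex with hs_def
      have hs : X ^ s = 0 := Nat.find_spec hex
      have hs1 : 1 ≤ s := by
        by_contra hcon
        have h0 : s = 0 := by omega
        rw [h0, pow_zero] at hs
        exact one_ne_zero hs
      have hs' : X ^ (s - 1) ≠ 0 := Nat.find_min hex (by omega)
      obtain ⟨v, hv⟩ : ∃ v, (X ^ (s - 1)) v ≠ 0 := by
        by_contra hcon
        push Not at hcon
        apply hs'
        ext w
        rw [hcon w]
        rfl
      obtain ⟨W, hWX, hWdim, hWsup⟩ := exists_complement X s hs v hv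
      have hXW : IsNilpotent (X.restrict hWX) := by
        refine ⟨s, ?_⟩
        ext w
        rw [restrict_pow_apply, hs]
        rfl
      obtain ⟨ι', hι', v', a', ha1, ha2, ha3, hspan, hsum⟩ :=
        ih (finrank K W) (by omega) W (X.restrict hWX) rfl hXW
      refine ⟨Option ι', inferInstance, fun o => o.elim v (fun i => (v' i : V)),
        fun o => o.elim s a', ?_, ?_, ?_, ?_, ?_⟩
      · rintro (_ | i)
        · exact hs1
        · exact ha1 i
      · rintro (_ | i)
        · show (X ^ s) v = 0
          rw [hs]; rfl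
        · show (X ^ a' i) (v' i : V) = 0
          rw [← restrict_pow_apply X W hWX, ha2 i]
          rfl
      · rintro (_ | i)
        · exact hv
        · show (X ^ (a' i - 1)) (v' i : V) ≠ 0
          rw [← restrict_pow_apply X W hWX]
          intro h
          apply ha3 i
          exact Subtype.ext h
      · rw [eq_top_iff, ← hWsup]
        apply sup_le
        · rw [Submodule.span_le]
          rintro _ ⟨m, rfl⟩
          apply Submodule.subset_span
          exact ⟨none, m, m.2, rfl⟩
        · intro w hw
          have h1 : (⟨w, hw⟩ : W) ∈ Submodule.span K {w | ∃ i, ∃ m < a' i, w = ((X.restrict hWX) ^ m) (v' i)} := by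
            rw [hspan]; trivial
          have h2 : ∀ z : W, z ∈ Submodule.span K {w | ∃ i, ∃ m < a' i, w = ((X.restrict hWX) ^ m) (v' i)} →
              (z : V) ∈ Submodule.span K {w | ∃ (i : Option ι'), ∃ m < i.elim s a', w = (X ^ m) (i.elim v (fun i => (v' i : V)))} := by
            intro z hz
            induction hz using Submodule.span_induction with
            | mem z hz =>
              obtain ⟨i, m, hm, rfl⟩ := hz
              apply Submodule.subset_span
              refine ⟨some i, m, hm, ?_⟩
              rw [restrict_pow_apply]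
              rfl
            | zero => exact Submodule.zero_mem _
            | add x y _ _ hx hy => exact Submodule.add_mem _ hx hy
            | smul c x _ hx => exact Submodule.smul_mem _ c hx
          exact h2 _ h1
      · rw [Fintype.sum_option]
        show s + ∑ i, a' i = n
        rw [hsum]
        omega

end Cfsg.Agent.H1.JordanNil
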