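import Mathlib
import Cfsg.Agent.H1.JordanNilA

/-! Norm rank bound on `End V` for a unipotent element of `p`-power order, and the
critical linear algebra lemma for the modular Hall–Higman theorem. -/

namespace Cfsg.Agent.H1.JordanNil
open Module Finset

variable {K : Type*} [Field K] {V : Type*} [AddCommGroup V] [Module K V]

def adL (a : Module.End K V) : Module.End K (Module.End K V) := LinearMap.mulLeft K a
def adR (a : Module.End K V) : Module.End K (Module.End K V) := LinearMap.mulRight K a

@[simp] theorem adL_apply (a T : Module.End K V) : adL a T = a * T := rfl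
@[simp] theorem adR_apply (a T : Module.End K V) : adR a T = T * a := rfl

theorem adL_mul (a b : Module.End K V) : adL (a * b) = adL a * adL b := by
  ext T : 1
  simp [Module.End.mul_apply, mul_assoc]

theorem adR_mul (a b : Module.End K V) : adR (a * b) = adR b * adR a := by
  ext T : 1
  simp [Module.End.mul_apply, mul_assoc]

theorem adL_one : adL (1 : Module.End K V) = 1 := by
  ext T : 1
  simp

theorem adR_one : adR (1 : Module.End K V) = 1 := by
  ext T : 1
  simp

theorem adL_sub (a b : Module.End K V) : adL (a - b) = adL a - adL b := by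
  ext T : 1
  simp [sub_mul]

theorem adR_sub (a b : Module.End K V) : adR (a - b) = adR a - adR b := by
  ext T : 1
  simp [mul_sub]

theorem adL_pow (a : Module.End K V) (k : ℕ) : adL a ^ k = adL (a ^ k) := by
  induction k with
  | zero => rw [pow_zero, pow_zero, adL_one]
  | succ k ih => rw [pow_succ, pow_succ, ih, adL_mul]

theorem adR_pow (a : Module.End K V) (k : ℕ) : adR a ^ k = adR (a ^ k) := by
  induction k with
  | zero => rw [pow_zero, pow_zero, adR_one]
  | succ k ih => rw [pow_succ, pow_succ', ih, adR_mul]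

theorem adL_adR_comm (a b : Module.End K V) : Commute (adL a) (adR b) := by
  ext T : 1
  simp [Module.End.mul_apply, mul_assoc]

theorem adL_comm (a b : Module.End K V) (h : Commute a b) : Commute (adL a) (adL b) := by
  show adL a * adL b = adL b * adL a
  rw [← adL_mul, ← adL_mul, h.eq]

theorem geom_sum_eq_pow (p : ℕ) [Fact p.Prime] [CharP K p] {E : Type*} [Ring E] [Algebra K E]
    (z : E) (n : ℕ) :
    ∑ i ∈ range (p ^ n), z ^ i = (z - 1) ^ (p ^ n - 1) := by
  have hpoly : ∑ i ∈ range (p ^ n), (Polynomial.X : Polynomial K) ^ i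
      = (Polynomial.X - 1) ^ (p ^ n - 1) := by
    have h1 : (∑ i ∈ range (p ^ n), (Polynomial.X : Polynomial K) ^ i) * (Polynomial.X - 1)
        = (Polynomial.X - 1) ^ (p ^ n - 1) * (Polynomial.X - 1) := by
      rw [geom_sum_mul, ← pow_succ]
      have hP : p ^ n - 1 + 1 = p ^ n := Nat.sub_add_cancel (Nat.one_le_pow _ _ (Fact.out : p.Prime).pos)
      rw [hP, sub_pow_char_pow, one_pow]
    have hne : (Polynomial.X - 1 : Polynomial K) ≠ 0 := by
      have := Polynomial.X_sub_C_ne_zero (1 : K)
      rwa [map_one] at this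
    exact mul_right_cancel₀ hne h1
  have := congrArg (Polynomial.aeval z) hpoly
  simpa using this

def normMap (x xi : Module.End K V) (P : ℕ) : Module.End K (Module.End K V) :=
  ∑ i ∈ range P, (adL x * adR xi) ^ i

theorem normMap_apply (x xi : Module.End K V) (P : ℕ) (T : Module.End K V) :
    normMap x xi P T = ∑ i ∈ range P, x ^ i * T * xi ^ i := by
  rw [normMap, LinearMap.sum_apply]
  apply Finset.sum_congr rfl
  intro i _
  rw [(adL_adR_comm x xi).mul_pow, adL_pow, adR_pow, Module.End.mul_apply, adR_apply, adL_apply,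
    mul_assoc]

theorem normMap_comm (x xi : Module.End K V) (h1 : x * xi = 1) (h2 : xi * x = 1) (P : ℕ)
    (hxP : x ^ P = 1) (T : Module.End K V) : x * normMap x xi P T = normMap x xi P T * x := by
  have hxiP : xi ^ P = 1 := by
    have : x ^ P * xi ^ P = 1 := by
      rw [← (show Commute x xi from by rw [Commute, SemiconjBy, h1, h2]).mul_pow, h1, one_pow]
    rw [hxP, one_mul] at this
    exact this
  have hz : (adL x * adR xi) ^ P = 1 := by
    rw [(adL_adR_comm x xi).mul_pow, adL_pow, adR_pow, hxP, hxiP, adL_one, adR_one, one_mul]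
  have h3 : (adL x * adR xi - 1) * normMap x xi P = 0 := by
    rw [normMap, mul_geom_sum, hz, sub_self]
  have h4 : (adL x * adR xi) * normMap x xi P = normMap x xi P := by
    rw [sub_mul, one_mul, sub_eq_zero] at h3
    exact h3
  have h5 := congrArg (fun f => f T) h4
  simp only [Module.End.mul_apply, adL_apply, adR_apply] at h5
  calc x * normMap x xi P T = x * normMap x xi P T * (xi * x) := by rw [h2, mul_one]
    _ = (x * (normMap x xi P T * xi)) * x := by simp only [mul_assoc]
    _ = normMap x xi P T * x := by rw [h5]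

theorem normMap_comm_pow (x xi : Module.End K V) (h1 : x * xi = 1) (h2 : xi * x = 1) (P : ℕ)
    (hxP : x ^ P = 1) (T : Module.End K V) (m : ℕ) :
    (x - 1) ^ m * normMap x xi P T = normMap x xi P T * (x - 1) ^ m := by
  have h : Commute (x - 1) (normMap x xi P T) := by
    apply Commute.sub_left
    · exact normMap_comm x xi h1 h2 P hxP T
    · exact Commute.one_left _
  exact (h.pow_left m).eq

theorem normMap_apply_mem (p : ℕ) [Fact p.Prime] [CharP K p] (x xi : Module.End K V)
    (h1 : x * xi = 1) (h2 : xi * x = 1) (n : ℕ) (T : Module.End K V) (w : V) (a : ℕ)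
    (ha : a ≤ p ^ n) (ha1 : 1 ≤ a) (hw : ((x - 1) ^ a) w = 0) :
    normMap x xi (p ^ n) T w ∈ LinearMap.range ((x - 1) ^ (p ^ n - a)) := by
  have hcomm : Commute x xi := by rw [Commute, SemiconjBy, h1, h2]
  set X := x - 1 with hX
  set Y := xi - 1 with hY
  have hY' : Y = (-xi) * X := by
    rw [hX, hY, neg_mul, mul_sub, h2, mul_one]
    abel
  have hcX : Commute (-xi) X := by
    apply Commute.neg_left
    apply Commute.sub_right hcomm.symm (Commute.one_right _)
  have hYpow : ∀ k, a ≤ k → (Y ^ k) w = 0 := by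
    intro k hk
    rw [hY', hcX.mul_pow, Module.End.mul_apply]
    have hXk : (X ^ k) w = 0 := by
      obtain ⟨t, rfl⟩ := Nat.exists_eq_add_of_le hk
      rw [add_comm a t, pow_add, Module.End.mul_apply, hw, map_zero]
    rw [hXk, map_zero]
  have hz : adL x * adR xi - 1 = adL X + adL x * adR Y := by
    rw [hX, hY, adL_sub, adR_sub, adL_one, adR_one, mul_sub, mul_one]
    abel
  have hAB : Commute (adL X) (adL x * adR Y) := by
    apply Commute.mul_right
    · apply adL_comm
      apply Commute.sub_left (Commute.refl x) (Commute.one_left _)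
    · exact adL_adR_comm _ _
  have hN : normMap x xi (p ^ n) = ∑ m ∈ range (p ^ n - 1 + 1),
      adL X ^ m * (adL x * adR Y) ^ (p ^ n - 1 - m) * ((p ^ n - 1).choose m : Module.End K (Module.End K V)) := by
    rw [normMap, geom_sum_eq_pow (K := K) p, hz, hAB.add_pow]
  rw [hN, LinearMap.sum_apply, LinearMap.sum_apply]
  apply Submodule.sum_mem
  intro m hm
  rw [Finset.mem_range] at hm
  have hP1 : 1 ≤ p ^ n := Nat.one_le_pow _ _ (Fact.out : p.Prime).pos
  rw [(adL_adR_comm x Y).mul_pow, adL_pow, adL_pow, adR_pow]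
  have hcast : ((p ^ n - 1).choose m : Module.End K (Module.End K V))
      = (((p ^ n - 1).choose m : K)) • (1 : Module.End K (Module.End K V)) := by
    rw [Nat.cast_smul_eq_nsmul, nsmul_eq_mul, mul_one]
  rw [hcast, mul_smul_comm, mul_one, LinearMap.smul_apply, LinearMap.smul_apply]
  apply Submodule.smul_mem
  rw [Module.End.mul_apply, Module.End.mul_apply, adR_apply, adL_apply, adL_apply,
    Module.End.mul_apply, Module.End.mul_apply, Module.End.mul_apply]
  by_cases hk : a ≤ p ^ n - 1 - m
  · rw [hYpow _ hk, map_zero, map_zero, map_zero]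
    exact Submodule.zero_mem _
  · have hm' : p ^ n - a ≤ m := by omega
    obtain ⟨t, ht⟩ := Nat.exists_eq_add_of_le hm'
    rw [ht, pow_add, Module.End.mul_apply]
    exact LinearMap.mem_range_self _ _

theorem finrank_range_pow_le [FiniteDimensional K V] (X : Module.End K V) {ι : Type} [Fintype ι]
    (v : ι → V) (a : ι → ℕ) (hav : ∀ i, (X ^ a i) (v i) = 0)
    (hspan : Submodule.span K {w | ∃ i, ∃ m < a i, w = (X ^ m) (v i)} = ⊤) (c : ℕ) :
    finrank K (LinearMap.range (X ^ c)) ≤ ∑ i, (a i - c) := by
  classical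
  set b : (Σ i, Fin (a i - c)) → V := fun q => (X ^ (c + (q.2 : ℕ))) (v q.1) with hb
  have h1 : LinearMap.range (X ^ c) ≤ Submodule.span K (Set.range b) := by
    rw [LinearMap.range_eq_map, ← hspan, Submodule.map_span, Submodule.span_le]
    rintro _ ⟨_, ⟨i, m, hm, rfl⟩, rfl⟩
    rw [← Module.End.mul_apply, ← pow_add]
    by_cases hcm : c + m < a i
    · apply Submodule.subset_span
      exact ⟨⟨i, ⟨m, by omega⟩⟩, rfl⟩
    · obtain ⟨t, ht⟩ := Nat.exists_eq_add_of_le (not_lt.mp hcm)
      rw [ht, add_comm, pow_add, Module.End.mul_apply, hav, map_zero]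
      exact Submodule.zero_mem _
  calc finrank K (LinearMap.range (X ^ c)) ≤ finrank K (Submodule.span K (Set.range b)) :=
        Submodule.finrank_mono h1
    _ ≤ Fintype.card (Σ i, Fin (a i - c)) := finrank_range_le_card b
    _ = ∑ i, (a i - c) := by
      rw [Fintype.card_sigma]
      simp

theorem finrank_range_normMap_le (p : ℕ) [Fact p.Prime] [CharP K p] [FiniteDimensional K V]
    (x xi : Module.End K V)
    (h1 : x * xi = 1) (h2 : xi * x = 1) (n : ℕ) (hxP : x ^ (p ^ n) = 1) {ι : Type} [Fintype ι]
    (v : ι → V) (a : ι → ℕ) (ha1 : ∀ i, 1 ≤ a i) (haP : ∀ i, a i ≤ p ^ n)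
    (hav : ∀ i, ((x - 1) ^ a i) (v i) = 0)
    (hspan : Submodule.span K {w | ∃ i, ∃ m < a i, w = ((x - 1) ^ m) (v i)} = ⊤) :
    finrank K (LinearMap.range (normMap x xi (p ^ n)))
      ≤ ∑ j, finrank K (LinearMap.range ((x - 1) ^ (p ^ n - a j))) := by
  classical
  set Ψ : LinearMap.range (normMap x xi (p ^ n)) →ₗ[K]
      (∀ j : ι, LinearMap.range ((x - 1) ^ (p ^ n - a j))) :=
    LinearMap.pi (fun j => LinearMap.codRestrict _
      ((LinearMap.applyₗ (v j)).comp (Submodule.subtype _))
      (by
        rintro ⟨S, T, rfl⟩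
        exact normMap_apply_mem p x xi h1 h2 n T (v j) (a j) (haP j) (ha1 j) (hav j))) with hΨ
  have hinj : Function.Injective Ψ := by
    rw [← LinearMap.ker_eq_bot, LinearMap.ker_eq_bot']
    rintro ⟨S, T, rfl⟩ hS
    have hS' : ∀ j, normMap x xi (p ^ n) T (v j) = 0 := by
      intro j
      have := congrFun hS j
      exact congrArg Subtype.val this
    apply Subtype.ext
    show normMap x xi (p ^ n) T = 0
    apply LinearMap.ext_on hspan
    rintro _ ⟨i, m, _, rfl⟩
    rw [← Module.End.mul_apply, ← normMap_comm_pow x xi h1 h2 _ hxP, Module.End.mul_apply, hS' i,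
      map_zero, LinearMap.zero_apply]
  have := LinearMap.finrank_le_finrank_of_injective hinj
  rwa [Module.finrank_pi_fintype] at this

theorem cla_num (P : ℕ) (a b : ℕ) (ha1 : 1 ≤ a) (hb1 : 1 ≤ b) (ha : a + 1 ≤ P) (hb : b + 1 ≤ P) :
    P * (a - (P - b)) + 1 ≤ a * b := by
  by_cases h : a ≤ P - b
  · rw [Nat.sub_eq_zero_of_le h, mul_zero]
    nlinarith
  · push Not at h
    obtain ⟨u, hu⟩ : ∃ u, P = a + u := ⟨P - a, by omega⟩
    obtain ⟨w, hw⟩ : ∃ w, P = b + w := ⟨P - b, by omega⟩
    have hu1 : 1 ≤ u := by omega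
    have hw1 : 1 ≤ w := by omega
    have h3 : a - (P - b) + u + w = P := by omega
    have h4 : a - (P - b) + w = a := by omega
    have h5 : a - (P - b) + u = b := by omega
    set e := a - (P - b) with he
    have ha' : a = e + w := h4.symm
    have hb' : b = e + u := h5.symm
    have hP' : P = e + u + w := h3.symm
    rw [hP', ha', hb']
    nlinarith

theorem cla (p : ℕ) [Fact p.Prime] [CharP K p] {V : Type*} [AddCommGroup V] [Module K V]
    [FiniteDimensional K V] (x xi : Module.End K V)
    (h1 : x * xi = 1) (h2 : xi * x = 1) (n : ℕ) (hxP : x ^ (p ^ n) = 1)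
    (s : ℕ) (hs : (x - 1) ^ s = 0) (hsP : s + 1 ≤ p ^ n)
    (hN : (finrank K V) ^ 2 ≤ p ^ n * finrank K (LinearMap.range (normMap x xi (p ^ n))) + 1) :
    finrank K V ≤ 1 ∨ (finrank K V + 1 = p ^ n ∧ s + 1 = p ^ n) := by
  classical
  obtain ⟨ι, hι, v, a, ha1, hav, hav', hspan, hsum⟩ :=
    exists_jordan (K := K) (finrank K V) V (x - 1) rfl ⟨s, hs⟩
  have has : ∀ i, a i ≤ s := by
    intro i
    by_contra hcon
    push Not at hcon
    apply hav' i
    exact pow_add_apply_eq_zero (x - 1) s hs _ (by omega) _
  have haP : ∀ i, a i ≤ p ^ n := fun i => by have := has i; omega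
  have hf1 := finrank_range_normMap_le p x xi h1 h2 n hxP v a ha1 haP hav hspan
  have hf2 : ∀ j, finrank K (LinearMap.range ((x - 1) ^ (p ^ n - a j))) ≤ ∑ i, (a i - (p ^ n - a j)) :=
    fun j => finrank_range_pow_le (x - 1) v a hav hspan _
  set P := p ^ n with hP
  set d := finrank K V with hd
  set f := finrank K (LinearMap.range (normMap x xi P)) with hf
  have hf3 : f ≤ ∑ j, ∑ i, (a i - (P - a j)) := hf1.trans (Finset.sum_le_sum fun j _ => hf2 j)
  have hnum : ∀ i j, P * (a i - (P - a j)) + 1 ≤ a i * a j := fun i j =>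
    cla_num P (a i) (a j) (ha1 i) (ha1 j) (by have := has i; omega) (by have := has j; omega)
  have hf4 : P * f + Fintype.card ι * Fintype.card ι ≤ d * d := by
    calc P * f + Fintype.card ι * Fintype.card ι
        ≤ P * (∑ j, ∑ i, (a i - (P - a j))) + Fintype.card ι * Fintype.card ι := by
          have := Nat.mul_le_mul_left P hf3
          omega
      _ = ∑ j : ι, ∑ i : ι, (P * (a i - (P - a j)) + 1) := by
          rw [Finset.mul_sum]
          simp only [Finset.mul_sum, Finset.sum_add_distrib, Finset.sum_const, Finset.card_univ,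
            smul_eq_mul, mul_one]
      _ ≤ ∑ j : ι, ∑ i : ι, a i * a j :=
          Finset.sum_le_sum fun j _ => Finset.sum_le_sum fun i _ => hnum i j
      _ = d * d := by
          rw [← hsum, Finset.sum_mul_sum]
          rw [Finset.sum_comm]
  have hN' : d * d ≤ P * f + 1 := by rw [← sq]; exact hN
  have ht : Fintype.card ι ≤ 1 := by
    by_contra hcon
    push Not at hcon
    have : 2 * 2 ≤ Fintype.card ι * Fintype.card ι := Nat.mul_le_mul hcon hcon
    omega
  by_cases ht0 : Fintype.card ι = 0
  · left
    haveI : IsEmpty ι := Fintype.card_eq_zero_iff.mp ht0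
    rw [← hsum]
    simp
  · have ht1 : Fintype.card ι = 1 := by omega
    obtain ⟨i₀, hi₀⟩ := Fintype.card_eq_one_iff.mp ht1
    have hda : d = a i₀ := by
      rw [← hsum]
      rw [Finset.sum_eq_single i₀]
      · intro b _ hb
        exact absurd (hi₀ b) hb
      · intro h
        exact absurd (Finset.mem_univ _) h
    have hf5 : f ≤ a i₀ - (P - a i₀) := by
      have : ∑ j, ∑ i, (a i - (P - a j)) = a i₀ - (P - a i₀) := by
        rw [Finset.sum_eq_single i₀, Finset.sum_eq_single i₀]
        · intro b _ hb; exact absurd (hi₀ b) hb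
        · intro h; exact absurd (Finset.mem_univ _) h
        · intro b _ hb; exact absurd (hi₀ b) hb
        · intro h; exact absurd (Finset.mem_univ _) h
      rw [this] at hf3
      exact hf3
    have hds : d ≤ s := hda ▸ has i₀
    by_cases hle : a i₀ ≤ P - a i₀
    · left
      rw [Nat.sub_eq_zero_of_le hle] at hf5
      have hf0 : f = 0 := by omega
      rw [hf0, mul_zero] at hN'
      by_contra hcon
      push Not at hcon
      have : 2 * 2 ≤ d * d := Nat.mul_le_mul hcon hcon
      omega
    · right
      push Not at hle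
      rw [← hda] at hf5 hle
      obtain ⟨u, hu⟩ : ∃ u, P = d + u := ⟨P - d, by omega⟩
      have hu1 : 1 ≤ u := by omega
      have hfd : f + u ≤ d := by omega
      have h6 : d * d ≤ (d + u) * (d - u) + 1 := by
        calc d * d ≤ P * f + 1 := hN'
          _ ≤ (d + u) * (d - u) + 1 := by
            rw [hu]
            have : f ≤ d - u := by omega
            have := Nat.mul_le_mul_left (d + u) this
            omega
      have hud : u ≤ d := by omega
      obtain ⟨e, he⟩ : ∃ e, d = u + e := ⟨d - u, by omega⟩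
      have h7 : u = 1 := by
        by_contra hcon
        have hu2 : 2 ≤ u := by omega
        have h8 : d - u = e := by omega
        rw [h8, he] at h6
        nlinarith
      constructor <;> omega

end Cfsg.Agent.H1.JordanNil
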