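import Mathlib
import Cfsg.Agent.H1.JordanNilB
import Cfsg.Agent.H1.FrobFixA

/-! Modular Hall–Higman: the critical configuration gives `d² ≤ P·rank(norm) + 1`. -/

namespace Cfsg.Agent.H1.HHMod
open Module Cfsg.Agent.H1.JordanNil Cfsg.Agent.H1.FrobFree

universe u

variable {K : Type*} {G : Type*} {V : Type u} [Field K] [Group G] [AddCommGroup V] [Module K V]

/-- conjugation representation on `End V` -/
def adRep (ρ : Representation K G V) : Representation K G (Module.End K V) where
  toFun g := adL (ρ g) * adR (ρ g⁻¹)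
  map_one' := by rw [inv_one, map_one, adL_one, adR_one, one_mul]
  map_mul' a b := by
    rw [mul_inv_rev, map_mul, map_mul, adL_mul, adR_mul]
    rw [mul_assoc, ← mul_assoc (adL (ρ b)), (adL_adR_comm (ρ b) (ρ a⁻¹)).eq]
    simp only [mul_assoc]

theorem adRep_apply (ρ : Representation K G V) (g : G) (T : Module.End K V) :
    adRep ρ g T = ρ g * T * ρ g⁻¹ := by
  show (adL (ρ g) * adR (ρ g⁻¹)) T = _
  rw [Module.End.mul_apply, adR_apply, adL_apply, mul_assoc]

theorem rho_mul_inv (ρ : Representation K G V) (g : G) : ρ g * ρ g⁻¹ = 1 := by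
  rw [← map_mul, mul_inv_cancel, map_one]

theorem rho_inv_mul (ρ : Representation K G V) (g : G) : ρ g⁻¹ * ρ g = 1 := by
  rw [← map_mul, inv_mul_cancel, map_one]

theorem normMap_eq_sum_adRep (ρ : Representation K G V) (x : G) (P : ℕ) (T : Module.End K V) :
    normMap (ρ x) (ρ x⁻¹) P T = ∑ i ∈ Finset.range P, adRep ρ (x ^ i) T := by
  rw [normMap_apply]
  apply Finset.sum_congr rfl
  intro i _
  rw [adRep_apply, map_pow, ← inv_pow, map_pow]

theorem crit [Finite G] [FiniteDimensional K V]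
    (ρ : Representation K G V) (Q Z₀ : Subgroup G) [hQn : Q.Normal] [hZn : Z₀.Normal]
    [hQs : Group.IsSolvable Q] (hcard : (Nat.card Q : K) ≠ 0)
    (hschur : ∀ T : Module.End K V, (∀ q ∈ Q, ρ q * T = T * ρ q) → ∃ c : K, T = c • 1)
    (hZ : ∀ z ∈ Z₀, ∃ c : K, ρ z = c • 1)
    (x : G) (hxZ : ∀ i : ℕ, x ^ i ∈ Z₀ → x ^ i = 1)
    (hfpf : ∀ i : ℕ, x ^ i ≠ 1 → ∀ q ∈ Q, q * x ^ i * q⁻¹ * (x ^ i)⁻¹ ∈ Z₀ → q ∈ Z₀) :
    (finrank K V) ^ 2 ≤
      orderOf x * finrank K (LinearMap.range (normMap (ρ x) (ρ x⁻¹) (orderOf x))) + 1 := by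
  classical
  set π := QuotientGroup.mk' Z₀ with hπ
  have hπs : Function.Surjective π := QuotientGroup.mk'_surjective Z₀
  have hker : ∀ z ∈ Z₀, adRep ρ z = 1 := by
    intro z hz
    obtain ⟨c, hc⟩ := hZ z hz
    apply LinearMap.ext
    intro T
    have h2 : c • T = T * ρ z := by rw [hc, mul_smul_comm, mul_one]
    rw [adRep_apply, Module.End.one_apply, hc, smul_mul_assoc, one_mul, h2, mul_assoc,
      rho_mul_inv, mul_one]
  set ρ' : Representation K (G ⧸ Z₀) (Module.End K V) :=
    QuotientGroup.lift Z₀ (adRep ρ) (fun z hz => MonoidHom.mem_ker.mpr (hker z hz)) with hρ'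
  have hρ'mk : ∀ g : G, ρ' (π g) = adRep ρ g := fun g => rfl
  set Q' : Subgroup (G ⧸ Z₀) := Q.map π with hQ'
  haveI hQ'n : Q'.Normal := Subgroup.Normal.map hQn π hπs
  haveI hQ's : Group.IsSolvable Q' :=
    Group.isSolvable_of_surjective (f := π.subgroupMap Q) (π.subgroupMap_surjective Q)
  have hcard' : (Nat.card Q' : K) ≠ 0 := by
    have hdvd : Nat.card Q' ∣ Nat.card Q :=
      Subgroup.card_dvd_of_surjective (π.subgroupMap Q) (π.subgroupMap_surjective Q)
    obtain ⟨m, hm⟩ := hdvd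
    intro h0
    apply hcard
    rw [hm, Nat.cast_mul, h0, zero_mul]
  obtain ⟨M₁, M₂, hM₁, hdisj, hsup, hM₁inv, hM₂inv⟩ := fix_ker_decomp ρ' Q' hcard'
  -- M₁ consists of scalars
  have hM₁s : ∀ T ∈ M₁, ∃ c : K, T = c • 1 := by
    intro T hT
    apply hschur
    intro q hq
    have h1 := (hM₁ T).mp hT (π q) (Subgroup.mem_map_of_mem π hq)
    rw [hρ'mk, adRep_apply] at h1
    calc ρ q * T = ρ q * T * (ρ q⁻¹ * ρ q) := by rw [rho_inv_mul, mul_one]
      _ = (ρ q * T * ρ q⁻¹) * ρ q := by simp only [mul_assoc]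
      _ = T * ρ q := by rw [h1]
  have hM₁dim : finrank K M₁ ≤ 1 := by
    have h1 : M₁ ≤ Submodule.span K (Set.range (fun _ : Unit => (1 : Module.End K V))) := by
      intro T hT
      obtain ⟨c, rfl⟩ := hM₁s T hT
      apply Submodule.smul_mem
      apply Submodule.subset_span
      exact ⟨(), rfl⟩
    calc finrank K M₁ ≤ _ := Submodule.finrank_mono h1
      _ ≤ Fintype.card Unit := finrank_range_le_card _
      _ = 1 := rfl
  -- freeness of M₂
  set Hc : Subgroup (G ⧸ Z₀) := Subgroup.zpowers (π x) with hHc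
  obtain ⟨n, hn⟩ := exists_dser_eq_bot Q'
  have hfpf' : ∀ h ∈ Hc, h ≠ 1 → ∀ q ∈ Q', q * h = h * q → q = 1 := by
    intro h hh hne q' hq' hcomm
    rw [hHc, mem_zpowers_iff_mem_range_orderOf] at hh
    obtain ⟨i, _, rfl⟩ := Finset.mem_image.mp hh
    obtain ⟨q, hq, rfl⟩ := Subgroup.mem_map.mp hq'
    have hxi : x ^ i ≠ 1 := by
      intro h1
      apply hne
      show π x ^ i = 1
      rw [← map_pow, h1, map_one]
    have h2 : q * x ^ i * q⁻¹ * (x ^ i)⁻¹ ∈ Z₀ := by
      rw [← QuotientGroup.ker_mk' Z₀, MonoidHom.mem_ker]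
      show π (q * x ^ i * q⁻¹ * (x ^ i)⁻¹) = 1
      rw [map_mul, map_mul, map_mul, map_inv, map_inv, map_pow]
      have hc' : π q * π x ^ i = π x ^ i * π q := hcomm
      rw [hc', mul_inv_cancel_right, mul_inv_cancel]
    have h3 := hfpf i hxi q hq h2
    rw [← QuotientGroup.ker_mk' Z₀, MonoidHom.mem_ker] at h3
    exact h3
  have hCV : ∀ m : M₂, (∀ q ∈ Q', resRep ρ' M₂ hM₂inv q m = m) → m = 0 := by
    intro m hm
    have h1 : (m : Module.End K V) ∈ M₁ := by
      rw [hM₁]
      intro q hq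
      have := congrArg Subtype.val (hm q hq)
      rwa [resRep_apply] at this
    have h2 : (m : Module.End K V) ∈ M₁ ⊓ M₂ := ⟨h1, m.2⟩
    rw [hdisj, Submodule.mem_bot] at h2
    exact Subtype.ext h2
  obtain ⟨W, hWind, hWsup⟩ := free_main (k := K) Hc n M₂ (resRep ρ' M₂ hM₂inv) Q' hQ'n hn hcard'
    hfpf' hCV
  set σ : Hc → Module.End K M₂ := fun h => resRep ρ' M₂ hM₂inv (h : G ⧸ Z₀) with hσ
  have hσinj : ∀ h : Hc, Function.Injective (σ h) := by
    intro h a b hab
    have h1 : ∀ m : M₂, resRep ρ' M₂ hM₂inv ((h : G ⧸ Z₀)⁻¹) (σ h m) = m := by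
      intro m
      show resRep ρ' M₂ hM₂inv ((h : G ⧸ Z₀)⁻¹) (resRep ρ' M₂ hM₂inv (h : G ⧸ Z₀) m) = m
      rw [← Module.End.mul_apply, ← map_mul, inv_mul_cancel, map_one, Module.End.one_apply]
    rw [← h1 a, hab, h1]
  -- order of the image of x
  have hord : orderOf (π x) = orderOf x := by
    rw [orderOf_eq_orderOf_iff]
    intro k
    rw [← map_pow]
    constructor
    · intro h1
      apply hxZ
      rw [← QuotientGroup.ker_mk' Z₀, MonoidHom.mem_ker]
      exact h1
    · intro h1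
      rw [h1, map_one]
  have hfin : IsOfFinOrder (π x) := isOfFinOrder_of_finite _
  haveI : Fintype Hc := Fintype.ofFinite Hc
  have hcardHc : Fintype.card Hc = orderOf x := by
    rw [← Nat.card_eq_fintype_card, hHc, Nat.card_zpowers, hord]
  -- dimension of M₂
  have hdimM₂ : finrank K M₂ = orderOf x * finrank K W := by
    have hint := DirectSum.isInternal_submodule_of_iSupIndep_of_iSup_eq_top hWind hWsup
    have e := LinearEquiv.ofBijective (DirectSum.coeLinearMap fun h : Hc => W.map (σ h)) hint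
    rw [← e.finrank_eq, Module.finrank_directSum]
    have h1 : ∀ h : Hc, finrank K (W.map (σ h)) = finrank K W := fun h =>
      (Submodule.equivMapOfInjective (σ h) (hσinj h) W).finrank_eq.symm
    rw [Finset.sum_congr rfl (fun h _ => h1 h), Finset.sum_const, Finset.card_univ, hcardHc,
      smul_eq_mul]
  -- the norm is injective on W
  set N := normMap (ρ x) (ρ x⁻¹) (orderOf x) with hN
  have hNsum : ∀ m : M₂, N (m : Module.End K V) = ((∑ h : Hc, σ h m : M₂) : Module.End K V) := by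
    intro m
    rw [hN, normMap_eq_sum_adRep, Submodule.coe_sum]
    have h1 : ∑ h : Hc, ((σ h m : M₂) : Module.End K V)
        = ∑ i : Fin (orderOf (π x)), ρ' (π x ^ (i : ℕ)) (m : Module.End K V) := by
      symm
      apply Fintype.sum_equiv (finEquivZPowers hfin)
      intro i
      rw [finEquivZPowers_apply]
      rfl
    rw [h1, Fin.sum_univ_eq_sum_range (fun i => ρ' (π x ^ i) (m : Module.End K V)) (orderOf (π x)),
      hord]
    apply Finset.sum_congr rfl
    intro i _
    rw [← map_pow, hρ'mk]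
  have hrank : finrank K W ≤ finrank K (LinearMap.range N) := by
    set ν : W →ₗ[K] LinearMap.range N :=
      LinearMap.codRestrict (LinearMap.range N) (N ∘ₗ M₂.subtype ∘ₗ W.subtype)
        (fun w => LinearMap.mem_range_self _ _) with hν
    apply LinearMap.finrank_le_finrank_of_injective (f := ν)
    rw [injective_iff_map_eq_zero]
    intro w hw
    have h1 : N ((w : M₂) : Module.End K V) = 0 := congrArg Subtype.val hw
    rw [hNsum] at h1
    have h2 : ∑ h : Hc, σ h (w : M₂) = 0 := Subtype.ext h1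
    have h3 := forall_sum_of_iSupIndep hWind (fun h => σ h (w : M₂))
      (fun h => Submodule.mem_map_of_mem w.2) h2 1
    have h4 : σ 1 (w : M₂) = (w : M₂) := by
      show resRep ρ' M₂ hM₂inv ((1 : Hc) : G ⧸ Z₀) (w : M₂) = (w : M₂)
      rw [Subgroup.coe_one, map_one, Module.End.one_apply]
    rw [h4] at h3
    exact Subtype.ext h3
  have hdimE : finrank K (Module.End K V) = finrank K V * finrank K V := Module.finrank_linearMap K K V V
  have htop : finrank K (Module.End K V) ≤ finrank K M₁ + finrank K M₂ := by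
    rw [← finrank_top K (Module.End K V), ← hsup]
    exact Submodule.finrank_add_le_finrank_add_finrank M₁ M₂
  rw [sq, ← hdimE]
  calc finrank K (Module.End K V) ≤ finrank K M₁ + finrank K M₂ := htop
    _ ≤ 1 + orderOf x * finrank K W := by rw [hdimM₂]; omega
    _ ≤ 1 + orderOf x * finrank K (LinearMap.range N) := by
      have := Nat.mul_le_mul_left (orderOf x) hrank
      omega
    _ = _ := by ring

end Cfsg.Agent.H1.HHMod
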