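import Mathlib

/-! Irreducible representations of `q`-groups over an algebraically closed field have
`q`-power degree (Clifford / Blichfeldt argument). -/

namespace Cfsg.Agent.H1.HHMod
open Module

universe u v

variable {K : Type*} [Field K]

theorem schur_scalar [IsAlgClosed K] {G : Type*} [Group G] {V : Type*} [AddCommGroup V] [Module K V]
    [FiniteDimensional K V] [Nontrivial V] (ρ : Representation K G V) (S : Set G)
    (hirr : ∀ W : Submodule K V, (∀ g ∈ S, Submodule.map (ρ g) W ≤ W) → W = ⊥ ∨ W = ⊤)
    (T : Module.End K V) (hT : ∀ g ∈ S, ρ g * T = T * ρ g) : ∃ c : K, T = c • 1 := by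
  obtain ⟨c, hc⟩ := Module.End.exists_eigenvalue T
  refine ⟨c, ?_⟩
  have hE : Module.End.eigenspace T c ≠ ⊥ := hc
  have hinv : ∀ g ∈ S, Submodule.map (ρ g) (Module.End.eigenspace T c) ≤ Module.End.eigenspace T c := by
    rintro g hg _ ⟨v, hv, rfl⟩
    rw [SetLike.mem_coe, Module.End.mem_eigenspace_iff] at hv
    rw [Module.End.mem_eigenspace_iff, ← Module.End.mul_apply, ← hT g hg, Module.End.mul_apply, hv,
      map_smul]
  rcases hirr _ hinv with h | h
  · exact absurd h hE
  · ext v
    have : v ∈ Module.End.eigenspace T c := by rw [h]; trivial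
    rw [Module.End.mem_eigenspace_iff] at this
    rw [this, LinearMap.smul_apply, Module.End.one_apply]

/-- the action of a group on subspaces through a representation -/
@[instance_reducible]
def subAct {G : Type*} [Group G] {V : Type*} [AddCommGroup V] [Module K V]
    (ρ : Representation K G V) : MulAction G (Submodule K V) where
  smul g W := W.map (ρ g)
  one_smul W := by
    show W.map (ρ 1) = W
    rw [map_one]
    exact Submodule.map_id W
  mul_smul g h W := by
    show W.map (ρ (g * h)) = (W.map (ρ h)).map (ρ g)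
    rw [map_mul, Module.End.mul_eq_comp, Submodule.map_comp]

theorem inf_iSup_le_of_iSupIndep {V : Type*} [AddCommGroup V] [Module K V] {ι : Type*}
    (A B : ι → Submodule K V) (hA : iSupIndep A) (hBA : ∀ i, B i ≤ A i) (j : ι) :
    A j ⊓ ⨆ i, B i ≤ B j := by
  intro x hx
  obtain ⟨hx1, hx2⟩ := hx
  rw [SetLike.mem_coe] at hx1 hx2
  rw [iSup_split_single B j, Submodule.mem_sup] at hx2
  obtain ⟨b, hb, c, hc, rfl⟩ := hx2
  have hc' : c ∈ ⨆ (i) (_ : i ≠ j), A i := by
    have hle : (⨆ (i) (_ : i ≠ j), B i) ≤ ⨆ (i) (_ : i ≠ j), A i :=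
      iSup_mono fun i => iSup_mono fun _ => hBA i
    exact hle hc
  have hc2 : c ∈ A j := by
    have : c = (b + c) - b := by abel
    rw [this]
    exact Submodule.sub_mem _ hx1 (hBA j hb)
  have hdis := hA j
  have hc0 : c = 0 := by
    have : c ∈ A j ⊓ ⨆ (i) (_ : i ≠ j), A i := ⟨hc2, hc'⟩
    rw [hdis.eq_bot, Submodule.mem_bot] at this
    exact this
  rw [hc0, add_zero]
  exact hb

theorem rho_mul_inv' {G : Type*} [Group G] {V : Type*} [AddCommGroup V] [Module K V]
    (ρ : Representation K G V) (g : G) : ρ g * ρ g⁻¹ = 1 := by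
  rw [← map_mul, mul_inv_cancel, map_one]

theorem rho_inv_mul' {G : Type*} [Group G] {V : Type*} [AddCommGroup V] [Module K V]
    (ρ : Representation K G V) (g : G) : ρ g⁻¹ * ρ g = 1 := by
  rw [← map_mul, inv_mul_cancel, map_one]

theorem rho_inv_apply {G : Type*} [Group G] {V : Type*} [AddCommGroup V] [Module K V]
    (ρ : Representation K G V) (g : G) (v : V) : ρ g⁻¹ (ρ g v) = v := by
  rw [← Module.End.mul_apply, rho_inv_mul', Module.End.one_apply]

theorem rho_apply_inv {G : Type*} [Group G] {V : Type*} [AddCommGroup V] [Module K V]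
    (ρ : Representation K G V) (g : G) (v : V) : ρ g (ρ g⁻¹ v) = v := by
  rw [← Module.End.mul_apply, rho_mul_inv', Module.End.one_apply]

/-- image of an eigenspace under a representation element -/
theorem map_eigenspace {G : Type*} [Group G] {V : Type*} [AddCommGroup V] [Module K V]
    (ρ : Representation K G V) (g : G) (T : Module.End K V) (μ : K) :
    (Module.End.eigenspace T μ).map (ρ g) = Module.End.eigenspace (ρ g * T * ρ g⁻¹) μ := by
  ext v
  constructor
  · rintro ⟨w, hw, rfl⟩
    rw [SetLike.mem_coe, Module.End.mem_eigenspace_iff] at hw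
    rw [Module.End.mem_eigenspace_iff, Module.End.mul_apply, Module.End.mul_apply, rho_inv_apply, hw,
      map_smul]
  · intro hv
    rw [Module.End.mem_eigenspace_iff, Module.End.mul_apply, Module.End.mul_apply] at hv
    refine ⟨ρ g⁻¹ v, ?_, rho_apply_inv ρ g v⟩
    rw [SetLike.mem_coe, Module.End.mem_eigenspace_iff]
    have := congrArg (ρ g⁻¹) hv
    rw [rho_inv_apply, map_smul] at this
    exact this

theorem eigenspace_smul {V : Type*} [AddCommGroup V] [Module K V] (T : Module.End K V) (ζ μ : K)
    (hζ : ζ ≠ 0) : Module.End.eigenspace (ζ • T) μ = Module.End.eigenspace T (ζ⁻¹ * μ) := by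
  ext v
  rw [Module.End.mem_eigenspace_iff, Module.End.mem_eigenspace_iff, LinearMap.smul_apply]
  constructor
  · intro h
    rw [mul_smul, ← h, smul_smul, inv_mul_cancel₀ hζ, one_smul]
  · intro h
    rw [h, smul_smul, mul_inv_cancel_left₀ hζ]

end Cfsg.Agent.H1.HHMod
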