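import Mathlib
import Cfsg.Agent.H1.HHModC

/-! Degrees of irreducible representations of `q`-groups over an algebraically closed field. -/

namespace Cfsg.Agent.H1.HHMod
open Module

universe u v

variable {K : Type*} [Field K]

theorem degree_pow (q : ℕ) [hq : Fact q.Prime] [IsAlgClosed K] :
    ∀ (n : ℕ) (Q : Type u) [Group Q] [Finite Q], Nat.card Q = n → IsPGroup q Q →
    ∀ (V : Type v) [AddCommGroup V] [Module K V] [FiniteDimensional K V] [Nontrivial V]
      (ρ : Representation K Q V),
      (∀ W : Submodule K V, (∀ g : Q, Submodule.map (ρ g) W ≤ W) → W = ⊥ ∨ W = ⊤) →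
      ∃ b : ℕ, finrank K V = q ^ b := by
  intro n
  induction n using Nat.strong_induction_on with
  | _ n ih =>
  intro Q _ _ hn hQ V _ _ _ _ ρ hirr
  classical
  have hirr' : ∀ W : Submodule K V, (∀ g ∈ (Set.univ : Set Q), Submodule.map (ρ g) W ≤ W) →
      W = ⊥ ∨ W = ⊤ := fun W h => hirr W (fun g => h g (Set.mem_univ g))
  have hschur : ∀ T : Module.End K V, (∀ g, ρ g * T = T * ρ g) → ∃ c : K, T = c • 1 :=
    fun T hT => schur_scalar ρ Set.univ hirr' T (fun g _ => hT g)
  have hone : (1 : Module.End K V) ≠ 0 := one_ne_zero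
  by_cases hab : ∀ a b : Q, ρ a * ρ b = ρ b * ρ a
  · refine ⟨0, ?_⟩
    obtain ⟨v, hv⟩ := exists_ne (0 : V)
    have hsc : ∀ g, ∃ c : K, ρ g = c • 1 := fun g => hschur (ρ g) (fun h => hab h g)
    have hW := hirr (K ∙ v) (by
      rintro g _ ⟨w, hw, rfl⟩
      obtain ⟨c, hc⟩ := hsc g
      rw [hc, LinearMap.smul_apply, Module.End.one_apply]
      exact Submodule.smul_mem _ c hw)
    rcases hW with h | h
    · exfalso
      apply hv
      have : v ∈ K ∙ v := Submodule.mem_span_singleton_self v
      rw [h, Submodule.mem_bot] at this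
      exact this
    · rw [pow_zero, ← finrank_top K V, ← h, finrank_span_singleton hv]
  · push Not at hab
    obtain ⟨a₀, b₀, hab₀⟩ := hab
    have hsc0 : ∀ (g : Q) (c : K), ρ g = c • 1 → c ≠ 0 := by
      intro g c hc hc0
      apply hone
      rw [← rho_mul_inv' ρ g, hc, hc0, zero_smul, zero_mul]
    let Zs : Subgroup Q :=
      { carrier := {g | ∃ c : K, ρ g = c • 1}
        one_mem' := ⟨1, by rw [map_one, one_smul]⟩
        mul_mem' := by
          rintro a b ⟨c, hc⟩ ⟨d, hd⟩
          exact ⟨c * d, by rw [map_mul, hc, hd, smul_mul_smul_comm, mul_one]⟩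
        inv_mem' := by
          rintro a ⟨c, hc⟩
          refine ⟨c⁻¹, ?_⟩
          have h1 : c • ρ a⁻¹ = 1 := by
            rw [← rho_mul_inv' ρ a, hc, smul_mul_assoc, one_mul]
          rw [← h1, smul_smul, inv_mul_cancel₀ (hsc0 a c hc), one_smul] }
    have hZs : ∀ g, g ∈ Zs ↔ ∃ c : K, ρ g = c • 1 := fun g => Iff.rfl
    haveI hZn : Zs.Normal := ⟨by
      rintro a ⟨c, hc⟩ g
      refine ⟨c, ?_⟩
      rw [map_mul, map_mul, hc, mul_smul_comm, mul_one, smul_mul_assoc, rho_mul_inv']⟩
    have hZtop : Zs ≠ ⊤ := by
      intro htop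
      apply hab₀
      obtain ⟨c, hc⟩ := (hZs a₀).mp (by rw [htop]; trivial)
      rw [hc, smul_mul_assoc, one_mul, mul_smul_comm, mul_one]
    haveI : Nontrivial (Q ⧸ Zs) := QuotientGroup.nontrivial_iff.mpr hZtop
    have hQq : IsPGroup q (Q ⧸ Zs) := hQ.to_quotient Zs
    haveI := hQq.center_nontrivial
    obtain ⟨⟨c, hc⟩, hc1⟩ := exists_ne (1 : Subgroup.center (Q ⧸ Zs))
    obtain ⟨a, rfl⟩ := QuotientGroup.mk_surjective c
    have haZ : a ∉ Zs := by
      intro h
      apply hc1
      apply Subtype.ext
      exact (QuotientGroup.eq_one_iff a).mpr h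
    set T := ρ a with hT
    have hζ : ∀ g : Q, ∃ ζ : K, ζ ≠ 0 ∧ ρ g * T * ρ g⁻¹ = ζ • T := by
      intro g
      have h1 : (QuotientGroup.mk a : Q ⧸ Zs) = QuotientGroup.mk (g * a * g⁻¹) := by
        rw [QuotientGroup.mk_mul, QuotientGroup.mk_mul, QuotientGroup.mk_inv]
        have := (Subgroup.mem_center_iff.mp hc) (QuotientGroup.mk g)
        rw [this, mul_inv_cancel_right]
      have h2 := QuotientGroup.eq.mp h1
      obtain ⟨ζ, hζ⟩ := (hZs _).mp h2
      refine ⟨ζ, hsc0 _ ζ hζ, ?_⟩
      have h3 : ρ g * T * ρ g⁻¹ = ρ a * ρ (a⁻¹ * (g * a * g⁻¹)) := by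
        rw [hT, ← map_mul, ← map_mul, ← map_mul]
        congr 1
        group
      rw [h3, hζ, mul_smul_comm, mul_one]
    have hmapE : ∀ (g : Q) (μ : K), ∃ μ' : K,
        (Module.End.eigenspace T μ).map (ρ g) = Module.End.eigenspace T μ' := by
      intro g μ
      obtain ⟨ζ, hζ0, hζ1⟩ := hζ g
      exact ⟨ζ⁻¹ * μ, by rw [map_eigenspace, hζ1, eigenspace_smul T ζ μ hζ0]⟩
    obtain ⟨lam, hlam⟩ := Module.End.exists_eigenvalue T
    set E := Module.End.eigenspace T lam with hE
    have hEne : E ≠ ⊥ := hlam
    letI := subAct ρ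
    have hsm : ∀ (g : Q) (W : Submodule K V), g • W = W.map (ρ g) := fun g W => rfl
    haveI : Finite (MulAction.orbit Q E) := (Set.finite_range (fun g : Q => g • E)).to_subtype
    haveI : Fintype (MulAction.orbit Q E) := Fintype.ofFinite _
    have hO1 : ∀ W : MulAction.orbit Q E, ∃ μ : K, (W : Submodule K V) = Module.End.eigenspace T μ := by
      rintro ⟨W, g, rfl⟩
      exact hmapE g lam
    choose μf hμf using hO1
    have hμinj : Function.Injective μf := by
      intro W W' h
      apply Subtype.ext
      rw [hμf W, hμf W', h]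
    have hind : iSupIndep (fun W : MulAction.orbit Q E => (W : Submodule K V)) := by
      have := (Module.End.eigenspaces_iSupIndep T).comp hμinj
      have h2 : (fun W : MulAction.orbit Q E => (W : Submodule K V)) = Module.End.eigenspace T ∘ μf := by
        funext W
        exact hμf W
      rw [h2]
      exact this
    have hmemO : ∀ (g : Q) (W : MulAction.orbit Q E), g • (W : Submodule K V) ∈ MulAction.orbit Q E := by
      rintro g ⟨W, h, rfl⟩
      exact ⟨g * h, mul_smul g h E⟩
    have hsupO : ⨆ W : MulAction.orbit Q E, (W : Submodule K V) = ⊤ := by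
      rcases hirr (⨆ W : MulAction.orbit Q E, (W : Submodule K V)) (by
        intro g
        rw [Submodule.map_iSup]
        apply iSup_le
        intro W
        exact le_iSup_of_le (⟨g • (W : Submodule K V), hmemO g W⟩ : MulAction.orbit Q E) le_rfl) with h | h
      · exfalso
        apply hEne
        rw [eq_bot_iff, ← h]
        exact le_iSup_of_le (⟨E, MulAction.mem_orbit_self E⟩ : MulAction.orbit Q E) le_rfl
      · exact h
    have hρinj : ∀ g : Q, Function.Injective (ρ g) := by
      intro g v w hvw
      rw [← rho_inv_apply ρ g v, hvw, rho_inv_apply]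
    have hfr : finrank K V = Nat.card (MulAction.orbit Q E) * finrank K E := by
      have hint := DirectSum.isInternal_submodule_of_iSupIndep_of_iSup_eq_top hind hsupO
      have e := LinearEquiv.ofBijective
        (DirectSum.coeLinearMap fun W : MulAction.orbit Q E => (W : Submodule K V)) hint
      rw [← e.finrank_eq, Module.finrank_directSum]
      have h1 : ∀ W : MulAction.orbit Q E, finrank K (W : Submodule K V) = finrank K E := by
        rintro ⟨W, g, rfl⟩
        exact (Submodule.equivMapOfInjective (ρ g) (hρinj g) E).finrank_eq.symm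
      rw [Finset.sum_congr rfl (fun W _ => h1 W), Finset.sum_const, Finset.card_univ,
        smul_eq_mul, Nat.card_eq_fintype_card]
    obtain ⟨j, hj⟩ := hQ.card_orbit (α := Submodule K V) E
    set S : Subgroup Q := MulAction.stabilizer Q E with hS
    have hSE : ∀ g ∈ S, E.map (ρ g) = E := fun g hg => MulAction.mem_stabilizer_iff.mp hg
    have hSlt : Nat.card S < n := by
      have hle : Nat.card S ≤ Nat.card Q := Subgroup.card_le_card_group S
      have hne : Nat.card S ≠ Nat.card Q := by
        intro heq
        have htop : S = ⊤ := Subgroup.eq_top_of_card_eq S heq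
        have hEinv : ∀ g : Q, Submodule.map (ρ g) E ≤ E := by
          intro g
          rw [hSE g (by rw [htop]; trivial)]
        rcases hirr E hEinv with h | h
        · exact hEne h
        · apply haZ
          refine ⟨lam, ?_⟩
          ext v
          have : v ∈ E := by rw [h]; trivial
          rw [hE, Module.End.mem_eigenspace_iff] at this
          rw [← hT, this, LinearMap.smul_apply, Module.End.one_apply]
      omega
    have hSinv : ∀ g : S, ∀ v ∈ E, ρ (g : Q) v ∈ E := by
      intro g v hv
      have := hSE g.1 g.2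
      rw [← this]
      exact Submodule.mem_map_of_mem hv
    let ρS : Representation K S E :=
      { toFun := fun g => (ρ (g : Q)).restrict (hSinv g)
        map_one' := by
          ext v
          simp
        map_mul' := by
          intro g h
          ext v
          simp [LinearMap.restrict_apply] }
    have hρS : ∀ (g : S) (v : E), ((ρS g v : E) : V) = ρ (g : Q) (v : V) := fun g v => rfl
    haveI : Nontrivial E := (Submodule.nontrivial_iff_ne_bot).mpr hEne
    have hirrS : ∀ U' : Submodule K E, (∀ g : S, Submodule.map (ρS g) U' ≤ U') → U' = ⊥ ∨ U' = ⊤ := by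
      intro U' hU'
      by_cases hU0 : U' = ⊥
      · left; exact hU0
      right
      set U : Submodule K V := U'.map E.subtype with hU
      have hUE : U ≤ E := by
        rintro _ ⟨u, _, rfl⟩
        exact u.2
      have hUne : U ≠ ⊥ := by
        intro h
        apply hU0
        rw [eq_bot_iff]
        intro u hu
        have : (u : V) ∈ U := Submodule.mem_map_of_mem hu
        rw [h, Submodule.mem_bot] at this
        rw [Submodule.mem_bot]
        exact Subtype.ext this
      have hUt : ⨆ g : Q, U.map (ρ g) = ⊤ := by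
        rcases hirr (⨆ g : Q, U.map (ρ g)) (by
          intro g
          rw [Submodule.map_iSup]
          apply iSup_le
          intro h
          refine le_iSup_of_le (g * h) ?_
          rw [map_mul, Module.End.mul_eq_comp, Submodule.map_comp]) with h | h
        · exfalso
          apply hUne
          rw [eq_bot_iff, ← h]
          refine le_iSup_of_le 1 ?_
          rw [map_one]
          exact (Submodule.map_id U).ge
        · exact h
      set B : MulAction.orbit Q E → Submodule K V :=
        fun W => ⨆ (g : Q) (_ : g • E = (W : Submodule K V)), U.map (ρ g) with hB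
      have hBW : ∀ W, B W ≤ (W : Submodule K V) := by
        intro W
        apply iSup_le
        intro g
        apply iSup_le
        intro hg
        rw [← hg, hsm]
        exact Submodule.map_mono hUE
      have hBt : ⨆ W, B W = ⊤ := by
        rw [eq_top_iff, ← hUt]
        apply iSup_le
        intro g
        refine le_iSup_of_le (⟨g • E, MulAction.mem_orbit E g⟩ : MulAction.orbit Q E) ?_
        exact le_iSup_of_le g (le_iSup_of_le rfl le_rfl)
      have hEB : E ≤ B ⟨E, MulAction.mem_orbit_self E⟩ := by
        have := inf_iSup_le_of_iSupIndep (fun W : MulAction.orbit Q E => (W : Submodule K V)) B hind hBW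
          ⟨E, MulAction.mem_orbit_self E⟩
        rw [hBt, inf_top_eq] at this
        exact this
      have hBU : B ⟨E, MulAction.mem_orbit_self E⟩ ≤ U := by
        apply iSup_le
        intro g
        apply iSup_le
        intro hg
        have hgS : g ∈ S := MulAction.mem_stabilizer_iff.mpr hg
        rintro _ ⟨_, ⟨u, hu, rfl⟩, rfl⟩
        refine ⟨ρS ⟨g, hgS⟩ u, hU' ⟨g, hgS⟩ (Submodule.mem_map_of_mem hu), rfl⟩
      rw [eq_top_iff]
      intro e _
      have h1 : (e : V) ∈ U := hBU (hEB e.2)
      obtain ⟨u, hu, hue⟩ := h1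
      have : u = e := Subtype.ext hue
      rw [← this]
      exact hu
    obtain ⟨b', hb'⟩ := ih (Nat.card S) hSlt S rfl (hQ.to_subgroup S) E ρS hirrS
    refine ⟨j + b', ?_⟩
    rw [hfr, hj, hb', pow_add]

end Cfsg.Agent.H1.HHMod
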