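import Mathlib
import Cfsg.Agent.H1.HHModA
import Cfsg.Agent.H1.HHModD

/-! Modular Hall–Higman: critical configuration, main dichotomy. -/

namespace Cfsg.Agent.H1.HHMod
open Module Cfsg.Agent.H1.JordanNil Cfsg.Agent.H1.FrobFree

universe u

variable {K : Type*} {G : Type*} {V : Type u} [Field K] [Group G] [AddCommGroup V] [Module K V]

theorem crit_main (p : ℕ) [Fact p.Prime] [CharP K p] [Finite G] [FiniteDimensional K V]
    (ρ : Representation K G V) (Q Z₀ : Subgroup G) [hQn : Q.Normal] [hZn : Z₀.Normal]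
    [hQs : Group.IsSolvable Q] (hcard : (Nat.card Q : K) ≠ 0)
    (hschur : ∀ T : Module.End K V, (∀ q ∈ Q, ρ q * T = T * ρ q) → ∃ c : K, T = c • 1)
    (hZ : ∀ z ∈ Z₀, ∃ c : K, ρ z = c • 1)
    (x : G) (n : ℕ) (hord : orderOf x = p ^ n) (hxZ : ∀ i : ℕ, x ^ i ∈ Z₀ → x ^ i = 1)
    (hfpf : ∀ i : ℕ, x ^ i ≠ 1 → ∀ q ∈ Q, q * x ^ i * q⁻¹ * (x ^ i)⁻¹ ∈ Z₀ → q ∈ Z₀)
    (s : ℕ) (hs : (ρ x - 1) ^ s = 0) (hsP : s + 1 ≤ p ^ n) :
    finrank K V ≤ 1 ∨ (finrank K V + 1 = p ^ n ∧ s + 1 = p ^ n) := by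
  have h := crit ρ Q Z₀ hcard hschur hZ x hxZ hfpf
  rw [hord] at h
  exact cla p (ρ x) (ρ x⁻¹) (rho_mul_inv ρ x) (rho_inv_mul ρ x) n
    (by rw [← map_pow, ← hord, pow_orderOf_eq_one, map_one]) s hs hsP h

theorem sub_one_pow_eq_zero (p : ℕ) [Fact p.Prime] [CharP K p] (ρ : Representation K G V) (x : G)
    (n : ℕ) (hord : orderOf x = p ^ n) : (ρ x - 1) ^ (p ^ n) = 0 := by
  have hP : p ^ n - 1 + 1 = p ^ n := Nat.sub_add_cancel (Nat.one_le_pow _ _ (Fact.out : p.Prime).pos)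
  rw [← hP, pow_succ, ← geom_sum_eq_pow (K := K) p (ρ x) n, geom_sum_mul, ← map_pow, ← hord,
    pow_orderOf_eq_one, map_one, sub_self]

theorem eq_one_of_finrank_le_one (p : ℕ) [Fact p.Prime] [CharP K p] [FiniteDimensional K V]
    [Nontrivial V] (ρ : Representation K G V) (hfaith : Function.Injective ρ) (x : G)
    (n : ℕ) (hord : orderOf x = p ^ n) (hd : finrank K V ≤ 1) : x = 1 := by
  have hd1 : finrank K V = 1 := by
    have : 0 < finrank K V := Module.finrank_pos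
    omega
  have hE : finrank K (Module.End K V) = 1 := by
    rw [Module.finrank_linearMap K K V V, hd1]
  obtain ⟨c, hc⟩ := (finrank_eq_one_iff_of_nonzero' (1 : Module.End K V) one_ne_zero).mp hE (ρ x)
  have h1 : (ρ x) ^ (p ^ n) = 1 := by rw [← map_pow, ← hord, pow_orderOf_eq_one, map_one]
  rw [← hc, smul_pow, one_pow] at h1
  have h2 : c ^ (p ^ n) = 1 := by
    have h3 : (c ^ (p ^ n) - 1) • (1 : Module.End K V) = 0 := by
      rw [sub_smul, h1, one_smul, sub_self]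
    rcases smul_eq_zero.mp h3 with h4 | h4
    · exact sub_eq_zero.mp h4
    · exact absurd h4 one_ne_zero
  have h5 : (c - 1) ^ (p ^ n) = 0 := by
    rw [sub_pow_char_pow, one_pow, h2, sub_self]
  have h6 : c = 1 := sub_eq_zero.mp (pow_eq_zero_iff (Nat.pos_iff_ne_zero.mp (Nat.one_le_pow _ _ (Fact.out : p.Prime).pos)) |>.mp h5)
  apply hfaith
  rw [← hc, h6, one_smul, map_one]

end Cfsg.Agent.H1.HHMod
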