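import Mathlib
import Cfsg.Agent.H1.HHModB

/-! Sub- and quotient representations, and transfer of unipotence/nontriviality. -/

namespace Cfsg.Agent.H1.HHMod
open Module Cfsg.Agent.H1.FrobFree

variable {K : Type*} {G : Type*} {V : Type*} [Field K] [Group G] [AddCommGroup V] [Module K V]

/-- quotient representation -/
def quotRep (ρ : Representation K G V) (U : Submodule K V) (hU : ∀ a : G, ∀ v ∈ U, ρ a v ∈ U) :
    Representation K G (V ⧸ U) where
  toFun a := U.mapQ U (ρ a) (fun v hv => hU a v hv)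
  map_one' := by
    ext v
    simp
  map_mul' a b := by
    ext v
    simp

theorem quotRep_mk (ρ : Representation K G V) (U : Submodule K V)
    (hU : ∀ a : G, ∀ v ∈ U, ρ a v ∈ U) (a : G) (v : V) :
    quotRep ρ U hU a (Submodule.Quotient.mk v) = Submodule.Quotient.mk (ρ a v) := rfl

theorem resRep_sub_one_pow (ρ : Representation K G V) (U : Submodule K V)
    (hU : ∀ a : G, ∀ v ∈ U, ρ a v ∈ U) (x : G) (s : ℕ) (u : U) :
    ((((resRep ρ U hU x - 1) ^ s) u : U) : V) = ((ρ x - 1) ^ s) (u : V) := by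
  induction s generalizing u with
  | zero => simp
  | succ s ih =>
    rw [pow_succ, pow_succ, Module.End.mul_apply, Module.End.mul_apply, ih]
    congr 1

theorem quotRep_sub_one_pow (ρ : Representation K G V) (U : Submodule K V)
    (hU : ∀ a : G, ∀ v ∈ U, ρ a v ∈ U) (x : G) (s : ℕ) (v : V) :
    ((quotRep ρ U hU x - 1) ^ s) (Submodule.Quotient.mk v) =
      Submodule.Quotient.mk (((ρ x - 1) ^ s) v) := by
  induction s generalizing v with
  | zero => simp
  | succ s ih =>
    rw [pow_succ, pow_succ, Module.End.mul_apply, Module.End.mul_apply]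
    have h1 : (quotRep ρ U hU x - 1) (Submodule.Quotient.mk v) =
        Submodule.Quotient.mk ((ρ x - 1) v) := by
      rw [LinearMap.sub_apply, LinearMap.sub_apply, quotRep_mk, Module.End.one_apply,
        Module.End.one_apply, Submodule.Quotient.mk_sub]
    rw [h1, ih]

theorem resRep_sub_one_pow_eq_zero (ρ : Representation K G V) (U : Submodule K V)
    (hU : ∀ a : G, ∀ v ∈ U, ρ a v ∈ U) (x : G) (s : ℕ) (hs : (ρ x - 1) ^ s = 0) :
    (resRep ρ U hU x - 1) ^ s = 0 := by
  ext u
  rw [resRep_sub_one_pow, hs]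
  rfl

theorem quotRep_sub_one_pow_eq_zero (ρ : Representation K G V) (U : Submodule K V)
    (hU : ∀ a : G, ∀ v ∈ U, ρ a v ∈ U) (x : G) (s : ℕ) (hs : (ρ x - 1) ^ s = 0) :
    (quotRep ρ U hU x - 1) ^ s = 0 := by
  apply LinearMap.ext
  intro w
  obtain ⟨v, rfl⟩ := Submodule.Quotient.mk_surjective U w
  rw [quotRep_sub_one_pow, hs]
  simp

theorem eq_one_of_sq_zero (T : Module.End K V) (m : ℕ) (hm : (m : K) ≠ 0) (hT : T ^ m = 1)
    (hN : (T - 1) * (T - 1) = 0) : T = 1 := by
  set N := T - 1 with hNdef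
  have hTN : T = 1 + N := by rw [hNdef]; abel
  have hpow : ∀ k : ℕ, (1 + N) ^ k = 1 + (k : K) • N := by
    intro k
    induction k with
    | zero => simp
    | succ k ih =>
      rw [pow_succ, ih, add_mul, mul_add, mul_add, one_mul, mul_one, smul_mul_assoc, hN, smul_zero,
        add_zero, one_mul, Nat.cast_succ, add_smul, one_smul]
      abel
  rw [hTN, hpow m] at hT
  have h1 : (m : K) • N = 0 := by
    have := congrArg (fun z => z - 1) hT
    simpa using this
  rcases smul_eq_zero.mp h1 with h | h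
  · exact absurd h hm
  · rw [hTN, h, add_zero]

theorem resRep_or_quotRep_ne_one (ρ : Representation K G V) (U : Submodule K V)
    (hU : ∀ a : G, ∀ v ∈ U, ρ a v ∈ U) (c : G) (m : ℕ) (hm : (m : K) ≠ 0) (hcm : c ^ m = 1)
    (hc : ρ c ≠ 1) : resRep ρ U hU c ≠ 1 ∨ quotRep ρ U hU c ≠ 1 := by
  by_contra hcon
  push Not at hcon
  obtain ⟨h1, h2⟩ := hcon
  apply hc
  apply eq_one_of_sq_zero (ρ c) m hm (by rw [← map_pow, hcm, map_one])
  ext v
  rw [Module.End.mul_apply, LinearMap.zero_apply]
  have hv : (ρ c - 1) v ∈ U := by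
    have := congrArg (fun f => f (Submodule.Quotient.mk v)) h2
    simp only [quotRep_mk, Module.End.one_apply] at this
    rw [LinearMap.sub_apply, Module.End.one_apply, ← Submodule.Quotient.eq]
    exact this
  have h3 := congrArg (fun f => ((f ⟨(ρ c - 1) v, hv⟩ : U) : V)) h1
  simp only [Module.End.one_apply] at h3
  have h3' : ρ c ((ρ c - 1) v) = (ρ c - 1) v := h3
  rw [LinearMap.sub_apply (ρ c) 1 ((ρ c - 1) v), Module.End.one_apply, h3', sub_self]

end Cfsg.Agent.H1.HHMod
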