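import Mathlib
import Cfsg.Agent.S0027
import Cfsg.Agent.H2.ThreeSubgroups

/-! Group theory for the Hall–Higman reduction: a minimal `x`-invariant `q`-group not
centralized (modulo a kernel) by the element `y` of order `p` in `⟨x⟩` has all nontrivial
powers of `x` acting fixed-point-freely modulo the "central" part. -/

namespace Cfsg.Agent.H1.HHMod
open scoped commutatorElement

variable {G : Type*} [Group G]

theorem comm_mem_iff_mk_comm (N : Subgroup G) [N.Normal] (a b : G) :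
    ⁅a, b⁆ ∈ N ↔ (QuotientGroup.mk' N a) * (QuotientGroup.mk' N b) =
      (QuotientGroup.mk' N b) * (QuotientGroup.mk' N a) := by
  rw [← commutatorElement_eq_one_iff_mul_comm, ← map_commutatorElement, ← MonoidHom.mem_ker,
    QuotientGroup.ker_mk']

/-- if every element of `A` commutes with `y` modulo `N`, then `⁅A, ⟨y⟩⁆ ≤ N`. -/
theorem commutator_zpowers_le (N : Subgroup G) [N.Normal] (A : Subgroup G) (y : G)
    (h : ∀ g ∈ A, ⁅g, y⁆ ∈ N) : ⁅A, Subgroup.zpowers y⁆ ≤ N := by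
  rw [Subgroup.commutator_le]
  intro g hg u hu
  rw [comm_mem_iff_mk_comm]
  have h1 : QuotientGroup.mk' N u ∈ Subgroup.zpowers (QuotientGroup.mk' N y) := by
    obtain ⟨k, rfl⟩ := Subgroup.mem_zpowers_iff.mp hu
    rw [map_zpow]
    exact Subgroup.zpow_mem_zpowers _ k
  have h2 : Subgroup.zpowers (QuotientGroup.mk' N y) ≤
      Subgroup.centralizer ({QuotientGroup.mk' N g} : Set (G ⧸ N)) := by
    rw [Subgroup.zpowers_le, Subgroup.mem_centralizer_iff]
    intro w hw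
    rw [Set.mem_singleton_iff] at hw
    rw [hw]
    exact (comm_mem_iff_mk_comm N g y).mp (h g hg)
  have h3 := h2 h1
  rw [Subgroup.mem_centralizer_iff] at h3
  exact h3 _ rfl

/-- the element of order `p` of a cyclic `p`-group lies in every nontrivial subgroup. -/
theorem socle_mem_zpowers (p : ℕ) [hp : Fact p.Prime] (x : G) (n : ℕ) (hn : 1 ≤ n)
    (hxp : x ^ (p ^ n) = 1) (i : ℕ) (hi : x ^ i ≠ 1) :
    x ^ (p ^ (n - 1)) ∈ Subgroup.zpowers (x ^ i) := by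
  have hpp : p.Prime := hp.out
  -- write the order of x as p^k
  obtain ⟨k, hk, hkord⟩ := (Nat.dvd_prime_pow hpp).mp (orderOf_dvd_of_pow_eq_one hxp)
  -- i = p^a * m with p ∤ m
  have hi0 : i ≠ 0 := by
    rintro rfl
    exact hi (pow_zero x)
  obtain ⟨a, m, hm, rfl⟩ := Nat.exists_eq_pow_mul_and_not_dvd hi0 p hpp.ne_one
  have hak : a < k := by
    by_contra hcon
    push Not at hcon
    apply hi
    rw [pow_mul]
    have : x ^ p ^ a = 1 := by
      rw [← orderOf_dvd_iff_pow_eq_one, hkord]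
      exact pow_dvd_pow p hcon
    rw [this, one_pow]
  have hcop : Nat.Coprime m (p ^ k) := (Nat.Coprime.pow_right k ((Nat.Prime.coprime_iff_not_dvd hpp).mpr hm).symm)
  obtain ⟨m', hm'⟩ := Nat.exists_mul_mod_eq_one_of_coprime hcop (by
    have : 1 < p ^ k := Nat.one_lt_pow (by omega) hpp.one_lt
    exact this)
  -- (x^(p^a m))^(p^(n-1-a) m') = x^(p^(n-1) * (m m')) = x^(p^(n-1))
  refine Subgroup.mem_zpowers_iff.mpr ⟨((p ^ (n - 1 - a) * m' : ℕ) : ℤ), ?_⟩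
  rw [zpow_natCast, ← pow_mul]
  have h1 : p ^ a * m * (p ^ (n - 1 - a) * m') = p ^ (n - 1) * (m * m') := by
    have : p ^ (n - 1) = p ^ a * p ^ (n - 1 - a) := by
      rw [← pow_add]
      congr 1
      omega
    rw [this]
    ring
  rw [h1]
  -- m * m' ≡ 1 mod p^k
  have h2 : m * m' = 1 + p ^ k * (m * m' / p ^ k) := by
    have := Nat.mod_add_div (m * m') (p ^ k)
    omega
  rw [h2, mul_add, mul_one, pow_add]
  have h3 : x ^ (p ^ (n - 1) * (p ^ k * (m * m' / p ^ k))) = 1 := by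
    rw [← orderOf_dvd_iff_pow_eq_one, hkord]
    exact dvd_mul_of_dvd_right (dvd_mul_right _ _) _
  rw [h3, mul_one]

theorem fpf_of_minimal [Finite G] (p q : ℕ) [hp : Fact p.Prime] [hq : Fact q.Prime] (hpq : p ≠ q)
    (Q K₀ Z₀ : Subgroup G) [hQn : Q.Normal] [hKn : K₀.Normal] [hZn : Z₀.Normal] (hQ : IsPGroup q Q)
    (x : G) (n : ℕ) (hn : 1 ≤ n) (hxp : x ^ (p ^ n) = 1)
    (H1 : ∀ z ∈ Z₀, ∀ g : G, ⁅z, g⁆ ∈ K₀)
    (H2 : ∀ g ∈ Q, (∀ h ∈ Q, ⁅g, h⁆ ∈ K₀) → g ∈ Z₀)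
    (H3 : ∀ Q₁ : Subgroup G, Q₁ ≤ Q → Q₁ ≠ Q → (∀ g ∈ Q₁, x * g * x⁻¹ ∈ Q₁) →
      ∀ g ∈ Q₁, ⁅g, x ^ (p ^ (n - 1))⁆ ∈ K₀)
    (H4 : ∃ g ∈ Q, ⁅g, x ^ (p ^ (n - 1))⁆ ∉ K₀) :
    ∀ i : ℕ, x ^ i ≠ 1 → ∀ g ∈ Q, ⁅g, x ^ i⁆ ∈ Z₀ → g ∈ Z₀ := by
  classical
  have hpp : p.Prime := hp.out
  have hqp : q.Prime := hq.out
  set y := x ^ (p ^ (n - 1)) with hy
  set Y := Subgroup.zpowers y with hY
  have hxy : x * y = y * x := by
    rw [hy, ← pow_succ', ← pow_succ]
  -- coprimality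
  obtain ⟨k, hk⟩ := IsPGroup.iff_card.mp hQ
  have hYcard : Nat.card Y ∣ p ^ n := by
    rw [hY, Nat.card_zpowers]
    apply orderOf_dvd_of_pow_eq_one
    rw [hy, ← pow_mul, mul_comm, pow_mul, hxp, one_pow]
  have hcop : (Nat.card Y).Coprime (Nat.card Q) := by
    rw [hk]
    exact Nat.Coprime.coprime_dvd_left hYcard
      (Nat.Coprime.pow _ _ ((Nat.coprime_primes hpp hqp).mpr hpq))
  have hYQ : Y ≤ Subgroup.normalizer (Q : Set G) := by
    rw [Subgroup.normalizer_eq_top_iff.mpr hQn]; exact le_top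
  haveI hQsol : Group.IsSolvable Q := by
    haveI := hQ.isNilpotent
    exact IsNilpotent.to_isSolvable
  -- x-invariance helper
  have hconj_comm : ∀ g u : G, x * ⁅g, u⁆ * x⁻¹ = ⁅x * g * x⁻¹, x * u * x⁻¹⁆ := by
    intro g u
    simp only [commutatorElement_def]
    group
  have hxu : ∀ u ∈ Y, x * u * x⁻¹ = u := by
    intro u hu
    obtain ⟨j, rfl⟩ := Subgroup.mem_zpowers_iff.mp hu
    have : Commute x (y ^ j) := (show Commute x y from hxy).zpow_right j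
    rw [this.eq, mul_inv_cancel_right]
  -- (a) ⁅Q, Y⁆ = Q
  have hQY : ⁅Q, Y⁆ = Q := by
    by_contra hne
    have hle : ⁅Q, Y⁆ ≤ Q := Subgroup.commutator_le_left Q Y
    have hinv : ∀ g ∈ ⁅Q, Y⁆, x * g * x⁻¹ ∈ ⁅Q, Y⁆ := by
      intro g hg
      have : (⁅Q, Y⁆).map (MulAut.conj x).toMonoidHom ≤ ⁅Q, Y⁆ := by
        rw [Subgroup.map_commutator]
        apply Subgroup.commutator_mono
        · rintro _ ⟨a, ha, rfl⟩
          exact hQn.conj_mem a ha x
        · rintro _ ⟨u, hu, rfl⟩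
          show x * u * x⁻¹ ∈ Y
          rw [hxu u hu]
          exact hu
      exact this ⟨g, hg, rfl⟩
    have h3 := H3 ⁅Q, Y⁆ hle hne hinv
    have h4 : ⁅⁅Q, Y⁆, Y⁆ ≤ K₀ := commutator_zpowers_le K₀ ⁅Q, Y⁆ y h3
    rw [Cfsg.Agent.S0027.result Y Q hYQ hcop (Or.inr hQsol)] at h4
    obtain ⟨g, hg, hgy⟩ := H4
    exact hgy (h4 (Subgroup.commutator_mem_commutator hg (Subgroup.mem_zpowers y)))
  -- (b) proper x-invariant normal-in-Q subgroups are in Z₀
  have hb : ∀ N : Subgroup G, N ≤ Q → N ≠ Q → (∀ g ∈ N, x * g * x⁻¹ ∈ N) →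
      (∀ h ∈ Q, ∀ g ∈ N, h * g * h⁻¹ ∈ N) → N ≤ Z₀ := by
    intro N hNQ hNne hNx hNn
    have h1 : ⁅⁅Q, N⁆, Y⁆ ≤ K₀ := by
      have hQN : ⁅Q, N⁆ ≤ N := by
        rw [Subgroup.commutator_le]
        intro a ha b hb
        rw [commutatorElement_def]
        exact N.mul_mem (hNn a ha b hb) (N.inv_mem hb)
      exact (Subgroup.commutator_mono hQN le_rfl).trans
        (commutator_zpowers_le K₀ N y (H3 N hNQ hNne hNx))
    have h2 : ⁅⁅N, Y⁆, Q⁆ ≤ K₀ := by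
      have hNY : ⁅N, Y⁆ ≤ K₀ := commutator_zpowers_le K₀ N y (H3 N hNQ hNne hNx)
      exact (Subgroup.commutator_mono hNY le_rfl).trans (Subgroup.commutator_le_left K₀ Q)
    have h3 : ⁅⁅Y, Q⁆, N⁆ ≤ K₀ := Cfsg.Agent.H2.commutator_commutator_le_of_rotate h1 h2
    rw [Subgroup.commutator_comm Y Q, hQY] at h3
    intro g hg
    apply H2 g (hNQ hg)
    intro h hh
    have h4 : ⁅h, g⁆ ∈ K₀ := h3 (Subgroup.commutator_mem_commutator hh hg)
    have h5 : ⁅g, h⁆ = ⁅h, g⁆⁻¹ := (commutatorElement_inv h g).symm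
    rw [h5]
    exact K₀.inv_mem h4
  -- Q ≠ ⊥
  have hQbot : Q ≠ ⊥ := by
    intro h
    obtain ⟨g, hg, hgy⟩ := H4
    rw [h, Subgroup.mem_bot] at hg
    apply hgy
    rw [hg, commutatorElement_one_left]
    exact K₀.one_mem
  -- (c) ⁅Q,Q⁆ ≤ Z₀
  have hc : ⁅Q, Q⁆ ≤ Z₀ := by
    apply hb ⁅Q, Q⁆ (Subgroup.commutator_le_left Q Q)
    · intro heq
      haveI : Nontrivial Q := (Subgroup.nontrivial_iff_ne_bot Q).mpr hQbot
      have h1 := Group.IsSolvable.commutator_lt_top_of_nontrivial Q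
      have h2 : (commutator Q).map Q.subtype = Q := by
        rw [Subgroup.map_subtype_commutator, heq]
      have h3 : (commutator Q).map Q.subtype = (⊤ : Subgroup Q).map Q.subtype := by
        rw [h2, ← MonoidHom.range_eq_map, Subgroup.range_subtype]
      exact h1.ne (Subgroup.map_injective Q.subtype_injective h3)
    · intro g hg
      have : (⁅Q, Q⁆).map (MulAut.conj x).toMonoidHom ≤ ⁅Q, Q⁆ := by
        rw [Subgroup.map_commutator]
        apply Subgroup.commutator_mono <;>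
        · rintro _ ⟨a, ha, rfl⟩
          exact hQn.conj_mem a ha x
      exact this ⟨g, hg, rfl⟩
    · intro h hh g hg
      have : (⁅Q, Q⁆).map (MulAut.conj h).toMonoidHom ≤ ⁅Q, Q⁆ := by
        rw [Subgroup.map_commutator]
        apply Subgroup.commutator_mono <;>
        · rintro _ ⟨a, ha, rfl⟩
          exact hQn.conj_mem a ha h
      exact this ⟨g, hg, rfl⟩
  have hZ₀Q : Z₀ ≤ Q ∨ True := Or.inr trivial
  -- main
  intro i hi g hg hgi
  set u := x ^ i with hu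
  have hxu' : x * u = u * x := by rw [hu, ← pow_succ', ← pow_succ]
  set π := QuotientGroup.mk' Z₀ with hπ
  set D : Subgroup G := Q ⊓ (Subgroup.centralizer ({π u} : Set (G ⧸ Z₀))).comap π with hD
  have hDmem : ∀ a : G, a ∈ D ↔ a ∈ Q ∧ ⁅a, u⁆ ∈ Z₀ := by
    intro a
    rw [hD, Subgroup.mem_inf, Subgroup.mem_comap, Subgroup.mem_centralizer_iff, comm_mem_iff_mk_comm]
    constructor
    · rintro ⟨h1, h2⟩
      exact ⟨h1, (h2 _ rfl).symm⟩
    · rintro ⟨h1, h2⟩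
      refine ⟨h1, ?_⟩
      intro w hw
      rw [Set.mem_singleton_iff] at hw
      rw [hw]
      exact h2.symm
  have hgD : g ∈ D := (hDmem g).mpr ⟨hg, hgi⟩
  by_cases hDQ : D = Q
  · -- then ⁅Q, Y⁆ ≤ Z₀, contradiction
    exfalso
    have hyu : y ∈ Subgroup.zpowers u := socle_mem_zpowers p x n hn hxp i hi
    have h1 : ⁅Q, Subgroup.zpowers u⁆ ≤ Z₀ := by
      apply commutator_zpowers_le Z₀ Q u
      intro a ha
      have : a ∈ D := by rw [hDQ]; exact ha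
      exact ((hDmem a).mp this).2
    have h2 : ⁅Q, Y⁆ ≤ Z₀ :=
      (Subgroup.commutator_mono le_rfl (by rw [hY, Subgroup.zpowers_le]; exact hyu)).trans h1
    rw [hQY] at h2
    obtain ⟨a, ha, hay⟩ := H4
    exact hay (H1 a (h2 ha) y)
  · have hDle : D ≤ Q := inf_le_left
    apply hb D hDle hDQ
    · intro a ha
      rw [hDmem] at ha ⊢
      refine ⟨hQn.conj_mem a ha.1 x, ?_⟩
      have h1 : ⁅x * a * x⁻¹, u⁆ = x * ⁅a, u⁆ * x⁻¹ := by
        rw [hconj_comm]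
        congr 1
        rw [hxu', mul_inv_cancel_right]
      rw [h1]
      exact hZn.conj_mem _ ha.2 x
    · intro h hh a ha
      rw [hDmem] at ha ⊢
      refine ⟨hQn.conj_mem a ha.1 h, ?_⟩
      -- h a h⁻¹ = ⁅h, a⁆ * a with ⁅h,a⁆ ∈ Z₀
      have hha : ⁅h, a⁆ ∈ Z₀ := hc (Subgroup.commutator_mem_commutator hh ha.1)
      have h1 : h * a * h⁻¹ = ⁅h, a⁆ * a := by
        rw [commutatorElement_def]; group
      rw [h1, comm_mem_iff_mk_comm, map_mul]
      have h2 : π ⁅h, a⁆ = 1 := by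
        rw [← MonoidHom.mem_ker, QuotientGroup.ker_mk']
        exact hha
      rw [h2, one_mul]
      exact (comm_mem_iff_mk_comm Z₀ a u).mp ha.2
    · exact hgD

end Cfsg.Agent.H1.HHMod
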