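import Mathlib
import Cfsg.Agent.H1.HHModE
import Cfsg.Agent.H1.HHModG

/-! Core induction for Hall–Higman Theorem B: statement, and the reduction steps
(A: smaller `Q`, B: sub/quotient module). -/

namespace Cfsg.Agent.H1.HHMod
open Module Cfsg.Agent.H1.FrobFree Cfsg.Agent.H1.JordanNil
open scoped commutatorElement

universe u v w

def Concl (p q n s : ℕ) {G : Type*} [Group G] (Q : Subgroup G) : Prop :=
  p ^ n ≤ s ∨ ∃ n₀ m : ℕ, 1 ≤ n₀ ∧ n₀ ≤ n ∧ 1 ≤ m ∧ p ^ n₀ - 1 = q ^ m ∧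
    (¬ ∀ a ∈ Q, ∀ b ∈ Q, a * b = b * a) ∧ p ^ (n - n₀) * (p ^ n₀ - 1) ≤ s

def CoreStmt (p q : ℕ) (K : Type w) [Field K] (n N d : ℕ) : Prop :=
  ∀ (G : Type u) [Group G] [Finite G] (Q : Subgroup G) (x : G) (V : Type v) [AddCommGroup V]
    [Module K V] [FiniteDimensional K V] (ρ : Representation K G V),
    Nat.card Q = N → finrank K V = d → Q ⊔ Subgroup.zpowers x = ⊤ →
    IsPGroup q Q → (∀ g ∈ Q, x * g * x⁻¹ ∈ Q) → 1 ≤ n → x ^ (p ^ n) = 1 →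
    (∃ g ∈ Q, ρ ⁅g, x ^ (p ^ (n - 1))⁆ ≠ 1) →
    ∀ s, (ρ x - 1) ^ s = 0 → Concl p q n s Q

section
variable {G : Type*} [Group G]

theorem conj_pow_mem (Q : Subgroup G) (x : G) (h : ∀ g ∈ Q, x * g * x⁻¹ ∈ Q) (k : ℕ) :
    ∀ g ∈ Q, x ^ k * g * (x ^ k)⁻¹ ∈ Q := by
  induction k with
  | zero => intro g hg; simpa using hg
  | succ k ih =>
    intro g hg
    have := h _ (ih g hg)
    have e : x ^ (k + 1) * g * (x ^ (k + 1))⁻¹ = x * (x ^ k * g * (x ^ k)⁻¹) * x⁻¹ := by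
      rw [pow_succ']; group
    rw [e]; exact this

theorem conj_inv_mem (Q : Subgroup G) (x : G) (h : ∀ g ∈ Q, x * g * x⁻¹ ∈ Q) (m : ℕ) (hm : 1 ≤ m)
    (hx : x ^ m = 1) : ∀ g ∈ Q, x⁻¹ * g * x ∈ Q := by
  intro g hg
  have h1 : x⁻¹ = x ^ (m - 1) := by
    have : x ^ (m - 1) * x = 1 := by rw [← pow_succ, Nat.sub_add_cancel hm, hx]
    exact (eq_inv_of_mul_eq_one_left this).symm
  have := conj_pow_mem Q x h (m - 1) g hg
  rw [← h1, inv_inv] at this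
  exact this

theorem normal_of_gen (Q : Subgroup G) (x : G) (hgen : Q ⊔ Subgroup.zpowers x = ⊤)
    (h : ∀ g ∈ Q, x * g * x⁻¹ ∈ Q) (m : ℕ) (hm : 1 ≤ m) (hx : x ^ m = 1) : Q.Normal := by
  rw [← Subgroup.normalizer_eq_top_iff, eq_top_iff, ← hgen]
  apply sup_le
  · exact Subgroup.le_normalizer
  · rw [Subgroup.zpowers_le, Subgroup.mem_normalizer_iff]
    intro g
    constructor
    · exact h g
    · intro hg
      have := conj_inv_mem Q x h m hm hx _ hg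
      have e : x⁻¹ * (x * g * x⁻¹) * x = g := by group
      rw [e] at this
      exact this

theorem comm_mem_of_normal (Q : Subgroup G) [hQn : Q.Normal] (g y : G) (hg : g ∈ Q) :
    ⁅g, y⁆ ∈ Q := by
  rw [commutatorElement_def]
  have : g * y * g⁻¹ * y⁻¹ = g * (y * g⁻¹ * y⁻¹) := by group
  rw [this]
  exact Q.mul_mem hg (hQn.conj_mem _ (Q.inv_mem hg) y)

end

section Steps
variable {p q : ℕ} [hp : Fact p.Prime] [hq : Fact q.Prime] {K : Type w} [Field K] [CharP K p]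

theorem card_ne_zero_of_pgroup (hpq : p ≠ q) {G : Type*} [Group G] (g : G) (k : ℕ)
    (_hg : g ^ (q ^ k) = 1) : ((q ^ k : ℕ) : K) ≠ 0 := by
  rw [Nat.cast_pow]
  apply pow_ne_zero
  intro h
  have := (CharP.cast_eq_zero_iff K p q).mp h
  exact hpq ((Nat.prime_dvd_prime_iff_eq hp.out hq.out).mp this)

theorem stepB (hpq : p ≠ q) {n N d : ℕ} (hih : ∀ d' < d, CoreStmt.{u, v, w} p q K n N d')
    (G : Type u) [Group G] [Finite G] (Q : Subgroup G) (x : G) (V : Type v) [AddCommGroup V]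
    [Module K V] [FiniteDimensional K V] (ρ : Representation K G V)
    (hN : Nat.card Q = N) (hd : finrank K V = d) (hgen : Q ⊔ Subgroup.zpowers x = ⊤)
    (hQ : IsPGroup q Q) (hnorm : ∀ g ∈ Q, x * g * x⁻¹ ∈ Q) (hn : 1 ≤ n) (hxp : x ^ (p ^ n) = 1)
    (hact : ∃ g ∈ Q, ρ ⁅g, x ^ (p ^ (n - 1))⁆ ≠ 1)
    (s : ℕ) (hs : (ρ x - 1) ^ s = 0)
    (U : Submodule K V) (hU : ∀ a : G, ∀ v ∈ U, ρ a v ∈ U) (hU0 : U ≠ ⊥) (hU1 : U ≠ ⊤) :
    Concl p q n s Q := by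
  haveI hQn : Q.Normal := normal_of_gen Q x hgen hnorm (p ^ n) (Nat.one_le_pow _ _ hp.out.pos) hxp
  obtain ⟨g, hg, hc⟩ := hact
  set c := ⁅g, x ^ (p ^ (n - 1))⁆ with hcdef
  have hcQ : c ∈ Q := comm_mem_of_normal Q g _ hg
  obtain ⟨k, hk⟩ := hQ ⟨c, hcQ⟩
  have hck : c ^ (q ^ k) = 1 := by
    have := congrArg Subtype.val hk
    simpa using this
  have hm : ((q ^ k : ℕ) : K) ≠ 0 := card_ne_zero_of_pgroup hpq c k hck
  rcases resRep_or_quotRep_ne_one ρ U hU c (q ^ k) hm hck hc with h | h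
  · have hlt : finrank K U < d := by
      rw [← hd]
      exact Submodule.finrank_lt hU1
    exact hih _ hlt G Q x U (resRep ρ U hU) hN rfl hgen hQ hnorm hn hxp ⟨g, hg, h⟩ s
      (resRep_sub_one_pow_eq_zero ρ U hU x s hs)
  · have hlt : finrank K (V ⧸ U) < d := by
      rw [← hd]
      have h1 := Submodule.finrank_quotient_add_finrank U
      have h2 : 0 < finrank K U := by
        rw [Module.finrank_pos_iff]
        exact (Submodule.nontrivial_iff_ne_bot).mpr hU0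
      omega
    exact hih _ hlt G Q x (V ⧸ U) (quotRep ρ U hU) hN rfl hgen hQ hnorm hn hxp ⟨g, hg, h⟩ s
      (quotRep_sub_one_pow_eq_zero ρ U hU x s hs)

theorem stepA {n N : ℕ} (hih : ∀ N' < N, ∀ d', CoreStmt.{u, v, w} p q K n N' d')
    (G : Type u) [Group G] [Finite G] (Q : Subgroup G) (x : G) (V : Type v) [AddCommGroup V]
    [Module K V] [FiniteDimensional K V] (ρ : Representation K G V)
    (hN : Nat.card Q = N)
    (hQ : IsPGroup q Q) (hn : 1 ≤ n) (hxp : x ^ (p ^ n) = 1)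
    (s : ℕ) (hs : (ρ x - 1) ^ s = 0)
    (Q₁ : Subgroup G) (hQ₁ : Q₁ ≤ Q) (hne : Q₁ ≠ Q) (hinv : ∀ g ∈ Q₁, x * g * x⁻¹ ∈ Q₁)
    (hact₁ : ∃ g ∈ Q₁, ρ ⁅g, x ^ (p ^ (n - 1))⁆ ≠ 1) :
    Concl p q n s Q := by
  classical
  set H : Subgroup G := Q₁ ⊔ Subgroup.zpowers x with hH
  have hQ₁H : Q₁ ≤ H := le_sup_left
  have hxH : x ∈ H := (le_sup_right : Subgroup.zpowers x ≤ H) (Subgroup.mem_zpowers x)
  set x' : H := ⟨x, hxH⟩ with hx'
  set Q' : Subgroup H := Q₁.subgroupOf H with hQ'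
  set ρ' : Representation K H V := ρ.comp H.subtype with hρ'
  have hcard : Nat.card Q' < N := by
    rw [← hN, hQ', Nat.card_congr (Subgroup.subgroupOfEquivOfLe hQ₁H).toEquiv]
    have hle : Nat.card Q₁ ≤ Nat.card Q := Subgroup.card_le_of_le hQ₁
    have hne' : Nat.card Q₁ ≠ Nat.card Q := by
      intro heq
      exact hne (Subgroup.eq_of_le_of_card_ge hQ₁ heq.ge)
    omega
  have hzp : (Subgroup.zpowers x).subgroupOf H = Subgroup.zpowers x' := by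
    ext ⟨a, ha⟩
    rw [Subgroup.mem_subgroupOf, Subgroup.mem_zpowers_iff, Subgroup.mem_zpowers_iff]
    constructor
    · rintro ⟨k, hk⟩
      exact ⟨k, Subtype.ext (by simpa using hk)⟩
    · rintro ⟨k, hk⟩
      refine ⟨k, ?_⟩
      have := congrArg Subtype.val hk
      simpa using this
  have hgen' : Q' ⊔ Subgroup.zpowers x' = ⊤ := by
    rw [hQ', ← hzp, ← Subgroup.subgroupOf_sup hQ₁H le_sup_right, Subgroup.subgroupOf_self]
  have hQ'p : IsPGroup q Q' := (hQ.to_le hQ₁).comap_subtype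
  have hnorm' : ∀ g ∈ Q', x' * g * x'⁻¹ ∈ Q' := by
    intro g hg
    rw [hQ', Subgroup.mem_subgroupOf] at hg ⊢
    exact hinv _ hg
  have hxp' : x' ^ (p ^ n) = 1 := Subtype.ext (by simpa using hxp)
  have hact' : ∃ g ∈ Q', ρ' ⁅g, x' ^ (p ^ (n - 1))⁆ ≠ 1 := by
    obtain ⟨g, hg, hgc⟩ := hact₁
    refine ⟨⟨g, hQ₁H hg⟩, ?_, ?_⟩
    · rw [hQ', Subgroup.mem_subgroupOf]; exact hg
    · exact hgc
  have := hih _ hcard _ H Q' x' V ρ' rfl rfl hgen' hQ'p hnorm' hn hxp' hact' s hs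
  rcases this with h | ⟨n₀, m, h1, h2, h3, h4, h5, h6⟩
  · exact Or.inl h
  · refine Or.inr ⟨n₀, m, h1, h2, h3, h4, ?_, h6⟩
    intro hcomm
    apply h5
    intro a ha b hb
    rw [hQ', Subgroup.mem_subgroupOf] at ha hb
    exact Subtype.ext (hcomm _ (hQ₁ ha) _ (hQ₁ hb))

end Steps

end Cfsg.Agent.H1.HHMod
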