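import Mathlib
import Cfsg.Agent.H1.HHModH

/-! Hall–Higman Theorem B, case of a non-scalar commutant: shifting eigenspaces. -/

namespace Cfsg.Agent.H1.HHMod
open Module Cfsg.Agent.H1.FrobFree Cfsg.Agent.H1.JordanNil

variable {K : Type*} [Field K] {V : Type*} [AddCommGroup V] [Module K V]

theorem shift_eigenspace (X c : Module.End K V) (hXc : X * c = (c + 1) * X) (μ : K) (v : V)
    (hv : v ∈ Module.End.eigenspace c μ) : X v ∈ Module.End.eigenspace c (μ - 1) := by
  rw [Module.End.mem_eigenspace_iff] at hv ⊢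
  have h1 : c * X = X * c - X := by
    rw [hXc, add_mul, one_mul]; abel
  rw [← Module.End.mul_apply, h1, LinearMap.sub_apply, Module.End.mul_apply, hv, map_smul, sub_smul,
    one_smul]

theorem shift_pow_eigenspace (X c : Module.End K V) (hXc : X * c = (c + 1) * X) (i : ℕ) (μ : K)
    (v : V) (hv : v ∈ Module.End.eigenspace c μ) :
    (X ^ i) v ∈ Module.End.eigenspace c (μ - i) := by
  induction i generalizing μ v with
  | zero => simpa using hv
  | succ i ih =>
    rw [pow_succ, Module.End.mul_apply]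
    have := ih (μ - 1) (X v) (shift_eigenspace X c hXc μ v hv)
    have e : μ - 1 - (i : K) = μ - ((i + 1 : ℕ) : K) := by push_cast; ring
    rw [e] at this
    exact this

theorem sub_one_pow_char (p : ℕ) [Fact p.Prime] [CharP K p] (X : Module.End K V) :
    (X - 1) ^ p = X ^ p - 1 := by
  have hpoly : (Polynomial.X - 1 : Polynomial K) ^ p = Polynomial.X ^ p - 1 := by
    rw [sub_pow_char, one_pow]
  have := congrArg (Polynomial.aeval X) hpoly
  simpa using this

theorem lemL (p : ℕ) [hp : Fact p.Prime] [CharP K p] (X c : Module.End K V)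
    (hXc : X * c = (c + 1) * X) (s : ℕ) (hs : (X - 1) ^ s = 0) (μ₀ : K) (w : V)
    (hw : w ∈ Module.End.eigenspace c μ₀) : ((X ^ p - 1) ^ (s / p)) w = 0 := by
  have hpp : p.Prime := hp.out
  -- X^p preserves eigenspaces
  have h3 : ∀ m : ℕ, ∀ v ∈ Module.End.eigenspace c μ₀,
      ((X ^ p - 1) ^ m) v ∈ Module.End.eigenspace c μ₀ := by
    intro m
    induction m with
    | zero => intro v hv; simpa using hv
    | succ m ih =>
      intro v hv
      rw [pow_succ, Module.End.mul_apply]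
      apply ih
      rw [LinearMap.sub_apply, Module.End.one_apply]
      apply Submodule.sub_mem _ _ hv
      have := shift_pow_eigenspace X c hXc p μ₀ v hv
      rwa [CharP.cast_eq_zero K p, sub_zero] at this
  set u := ((X ^ p - 1) ^ (s / p)) w with hu
  have hu0 : u ∈ Module.End.eigenspace c μ₀ := h3 _ w hw
  -- the geometric sum kills u
  have h5 : (∑ i ∈ Finset.range p, X ^ i) u = 0 := by
    have h1 := geom_sum_eq_pow (K := K) p X 1
    rw [pow_one] at h1
    rw [h1, hu, ← Module.End.mul_apply, ← sub_one_pow_char p X, ← pow_mul, ← pow_add]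
    have hle : s ≤ p - 1 + p * (s / p) := by
      have := Nat.mod_add_div s p
      have := Nat.mod_lt s hpp.pos
      omega
    obtain ⟨t, ht⟩ := Nat.exists_eq_add_of_le hle
    rw [ht, pow_add, hs, zero_mul, LinearMap.zero_apply]
  have hp1 : p - 1 + 1 = p := Nat.sub_add_cancel hpp.one_le
  rw [← hp1, Finset.sum_range_succ', LinearMap.add_apply, pow_zero, Module.End.one_apply,
    LinearMap.sum_apply] at h5
  have h6 : u = -∑ i ∈ Finset.range (p - 1), (X ^ (i + 1)) u := by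
    rw [eq_neg_iff_add_eq_zero, add_comm]; exact h5
  have h7 : u ∈ ⨆ (μ : K) (_ : μ ≠ μ₀), Module.End.eigenspace c μ := by
    rw [h6]
    apply Submodule.neg_mem
    apply Submodule.sum_mem
    intro i hi
    rw [Finset.mem_range] at hi
    have hne : μ₀ - ((i + 1 : ℕ) : K) ≠ μ₀ := by
      intro h
      have h0 : ((i + 1 : ℕ) : K) = 0 := by
        have := sub_eq_self.mp h
        exact this
      have := (CharP.cast_eq_zero_iff K p (i + 1)).mp h0
      have := Nat.le_of_dvd (Nat.succ_pos i) this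
      omega
    exact (le_iSup₂ (f := fun (μ : K) (_ : μ ≠ μ₀) => Module.End.eigenspace c μ) _ hne)
      (shift_pow_eigenspace X c hXc (i + 1) μ₀ u hu0)
  have hind := Module.End.eigenspaces_iSupIndep c μ₀
  have : u ∈ Module.End.eigenspace c μ₀ ⊓ ⨆ (μ : K) (_ : μ ≠ μ₀), Module.End.eigenspace c μ :=
    ⟨hu0, h7⟩
  rw [hind.eq_bot, Submodule.mem_bot] at this
  exact this


section GroupPart
variable {G : Type*} [Group G]

theorem comm_inv (ρ : Representation K G V) (A : Module.End K V) (a : G)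
    (h : ρ a * A = A * ρ a) : ρ a⁻¹ * A = A * ρ a⁻¹ := by
  calc ρ a⁻¹ * A = ρ a⁻¹ * A * (ρ a * ρ a⁻¹) := by rw [rho_mul_inv, mul_one]
    _ = ρ a⁻¹ * (A * ρ a) * ρ a⁻¹ := by simp only [mul_assoc]
    _ = ρ a⁻¹ * (ρ a * A) * ρ a⁻¹ := by rw [h]
    _ = (ρ a⁻¹ * ρ a) * A * ρ a⁻¹ := by simp only [mul_assoc]
    _ = A * ρ a⁻¹ := by rw [rho_inv_mul, one_mul]

theorem comm_of_gen (ρ : Representation K G V) (Q : Subgroup G) (x : G)
    (hgen : Q ⊔ Subgroup.zpowers x = ⊤) (A : Module.End K V)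
    (hQ : ∀ g ∈ Q, ρ g * A = A * ρ g) (hx : ρ x * A = A * ρ x) : ∀ a : G, ρ a * A = A * ρ a := by
  let S : Subgroup G :=
    { carrier := {a | ρ a * A = A * ρ a}
      mul_mem' := by
        intro a b ha hb
        show ρ (a * b) * A = A * ρ (a * b)
        have ha' : ρ a * A = A * ρ a := ha
        have hb' : ρ b * A = A * ρ b := hb
        rw [map_mul, mul_assoc, hb', ← mul_assoc, ha', mul_assoc]
      one_mem' := by
        show ρ 1 * A = A * ρ 1
        rw [map_one, one_mul, mul_one]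
      inv_mem' := by
        intro a ha
        exact comm_inv ρ A a ha }
  have h1 : Q ⊔ Subgroup.zpowers x ≤ S := by
    apply sup_le
    · intro g hg; exact hQ g hg
    · rw [Subgroup.zpowers_le]; exact hx
  intro a
  have : a ∈ S := h1 (by rw [hgen]; trivial)
  exact this

theorem inv_of_gen (ρ : Representation K G V) (Q : Subgroup G) (x : G)
    (hgen : Q ⊔ Subgroup.zpowers x = ⊤) (U : Submodule K V)
    (hQ : ∀ g ∈ Q, ∀ v ∈ U, ρ g v ∈ U) (hx : ∀ v ∈ U, ρ x v ∈ U) (m : ℕ) (hm : 1 ≤ m)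
    (hxm : x ^ m = 1) : ∀ a : G, ∀ v ∈ U, ρ a v ∈ U := by
  let S : Subgroup G :=
    { carrier := {a | (∀ v ∈ U, ρ a v ∈ U) ∧ (∀ v ∈ U, ρ a⁻¹ v ∈ U)}
      mul_mem' := by
        rintro a b ⟨ha1, ha2⟩ ⟨hb1, hb2⟩
        refine ⟨?_, ?_⟩
        · intro v hv
          rw [map_mul, Module.End.mul_apply]
          exact ha1 _ (hb1 v hv)
        · intro v hv
          rw [mul_inv_rev, map_mul, Module.End.mul_apply]
          exact hb2 _ (ha2 v hv)
      one_mem' := by
        refine ⟨?_, ?_⟩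
        · intro v hv; rw [map_one]; exact hv
        · intro v hv; rw [inv_one, map_one]; exact hv
      inv_mem' := by
        rintro a ⟨ha1, ha2⟩
        refine ⟨ha2, ?_⟩
        rw [inv_inv]; exact ha1 }
  have hpow : ∀ k : ℕ, ∀ v ∈ U, ρ (x ^ k) v ∈ U := by
    intro k
    induction k with
    | zero => intro v hv; rw [pow_zero, map_one]; exact hv
    | succ k ih =>
      intro v hv
      rw [pow_succ, map_mul, Module.End.mul_apply]
      exact ih _ (hx v hv)
  have hxinv : x⁻¹ = x ^ (m - 1) := by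
    have : x ^ (m - 1) * x = 1 := by rw [← pow_succ, Nat.sub_add_cancel hm, hxm]
    exact (eq_inv_of_mul_eq_one_left this).symm
  have h1 : Q ⊔ Subgroup.zpowers x ≤ S := by
    apply sup_le
    · intro g hg
      exact ⟨hQ g hg, hQ g⁻¹ (Q.inv_mem hg)⟩
    · rw [Subgroup.zpowers_le]
      refine ⟨hx, ?_⟩
      rw [hxinv]
      exact hpow (m - 1)
  intro a
  have : a ∈ S := h1 (by rw [hgen]; trivial)
  exact this.1

theorem exists_shift [IsAlgClosed K] [FiniteDimensional K V] [Nontrivial V] (p : ℕ)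
    [hp : Fact p.Prime] [CharP K p]
    (ρ : Representation K G V) (Q : Subgroup G) (x : G) (hgen : Q ⊔ Subgroup.zpowers x = ⊤)
    (hnorm : ∀ g ∈ Q, x⁻¹ * g * x ∈ Q) (n : ℕ) (hord : orderOf x = p ^ n)
    (hirr : ∀ W : Submodule K V, (∀ a : G, ∀ v ∈ W, ρ a v ∈ W) → W = ⊥ ∨ W = ⊤)
    (T : Module.End K V) (hT : ∀ g ∈ Q, ρ g * T = T * ρ g) (hTs : ¬ ∃ c : K, T = c • 1) :
    ∃ c : Module.End K V, (∀ g ∈ Q, ρ g * c = c * ρ g) ∧ ρ x * c = (c + 1) * ρ x := by
  classical
  set Nd : Module.End K (Module.End K V) := adRep ρ x - 1 with hNd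
  have hnil : Nd ^ (p ^ n) = 0 := sub_one_pow_eq_zero p (adRep ρ) x n hord
  have hNdT : ∀ T : Module.End K V, Nd T = ρ x * T * ρ x⁻¹ - T := by
    intro T
    rw [hNd, LinearMap.sub_apply, adRep_apply, Module.End.one_apply]
  have hC : ∀ T : Module.End K V, (∀ g ∈ Q, ρ g * T = T * ρ g) →
      ∀ g ∈ Q, ρ g * Nd T = Nd T * ρ g := by
    intro T hT g hg
    rw [hNdT, mul_sub, sub_mul, hT g hg]
    congr 1
    have hg' := hnorm g hg
    have e1 : ρ g * ρ x = ρ x * ρ (x⁻¹ * g * x) := by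
      rw [← map_mul, ← map_mul]; congr 1; group
    have e2 : ρ (x⁻¹ * g * x) * ρ x⁻¹ = ρ x⁻¹ * ρ g := by
      rw [← map_mul, ← map_mul]; congr 1; group
    calc ρ g * (ρ x * T * ρ x⁻¹) = (ρ g * ρ x) * T * ρ x⁻¹ := by simp only [mul_assoc]
      _ = ρ x * (ρ (x⁻¹ * g * x) * T) * ρ x⁻¹ := by rw [e1]; simp only [mul_assoc]
      _ = ρ x * T * (ρ (x⁻¹ * g * x) * ρ x⁻¹) := by rw [hT _ hg']; simp only [mul_assoc]
      _ = ρ x * T * ρ x⁻¹ * ρ g := by rw [e2]; simp only [mul_assoc]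
  have hCk : ∀ k : ℕ, ∀ g ∈ Q, ρ g * (Nd ^ k) T = (Nd ^ k) T * ρ g := by
    intro k
    induction k with
    | zero => simpa using hT
    | succ k ih =>
      rw [pow_succ', Module.End.mul_apply]
      exact hC _ ih
  have hex : ∃ k, (Nd ^ k) T = 0 := ⟨p ^ n, by rw [hnil, LinearMap.zero_apply]⟩
  set k₀ := Nat.find hex with hk₀
  have hk₀spec : (Nd ^ k₀) T = 0 := Nat.find_spec hex
  have hT0 : T ≠ 0 := by
    intro h
    apply hTs
    exact ⟨0, by rw [h, zero_smul]⟩
  have hk₀0 : k₀ ≠ 0 := by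
    intro h
    rw [h, pow_zero, Module.End.one_apply] at hk₀spec
    exact hT0 hk₀spec
  set A := (Nd ^ (k₀ - 1)) T with hA
  have hA0 : A ≠ 0 := Nat.find_min hex (by omega : k₀ - 1 < k₀)
  have hNA : Nd A = 0 := by
    rw [hA, ← Module.End.mul_apply, ← pow_succ', Nat.sub_add_cancel (by omega : 1 ≤ k₀)]
    exact hk₀spec
  have hAx : ρ x * A = A * ρ x := by
    rw [hNdT, sub_eq_zero] at hNA
    calc ρ x * A = ρ x * A * (ρ x⁻¹ * ρ x) := by rw [rho_inv_mul, mul_one]
      _ = (ρ x * A * ρ x⁻¹) * ρ x := by simp only [mul_assoc]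
      _ = A * ρ x := by rw [hNA]
  have hAall := comm_of_gen ρ Q x hgen A (hCk _) hAx
  have hirr' : ∀ W : Submodule K V, (∀ g ∈ (Set.univ : Set G), Submodule.map (ρ g) W ≤ W) →
      W = ⊥ ∨ W = ⊤ := by
    intro W h
    apply hirr W
    intro a v hv
    exact h a (Set.mem_univ a) ⟨v, hv, rfl⟩
  obtain ⟨lam, hlam⟩ := schur_scalar ρ Set.univ hirr' A (fun g _ => hAall g)
  have hlam0 : lam ≠ 0 := by
    intro h
    apply hA0
    rw [hlam, h, zero_smul]
  have hk₀1 : k₀ ≠ 1 := by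
    intro h
    apply hTs
    refine ⟨lam, ?_⟩
    rw [← hlam, hA, h, Nat.sub_self, pow_zero, Module.End.one_apply]
  set B := (Nd ^ (k₀ - 2)) T with hB
  have hNB : Nd B = A := by
    rw [hB, hA, ← Module.End.mul_apply, ← pow_succ']
    congr 2
    omega
  refine ⟨lam⁻¹ • B, ?_, ?_⟩
  · intro g hg
    rw [mul_smul_comm, smul_mul_assoc, hCk _ g hg]
  · have h1 : Nd (lam⁻¹ • B) = 1 := by
      rw [map_smul, hNB, hlam, smul_smul, inv_mul_cancel₀ hlam0, one_smul]
    rw [hNdT, sub_eq_iff_eq_add] at h1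
    calc ρ x * (lam⁻¹ • B) = ρ x * (lam⁻¹ • B) * (ρ x⁻¹ * ρ x) := by rw [rho_inv_mul, mul_one]
      _ = (ρ x * (lam⁻¹ • B) * ρ x⁻¹) * ρ x := by simp only [mul_assoc]
      _ = (lam⁻¹ • B + 1) * ρ x := by rw [h1, add_comm]

end GroupPart

end Cfsg.Agent.H1.HHMod
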