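import Mathlib
import Cfsg.Agent.H1.HHModI

/-! Hall–Higman Theorem B: Maschke/Schur irreducibility, central-acting subgroup. -/

namespace Cfsg.Agent.H1.HHMod
open Module Cfsg.Agent.H1.FrobFree Cfsg.Agent.H1.JordanNil
open scoped commutatorElement

variable {K : Type*} [Field K] {V : Type*} [AddCommGroup V] [Module K V] {G : Type*} [Group G]

/-- Maschke + Schur: if the commutant of a `p'`-subgroup is the scalars, it acts irreducibly. -/
theorem irr_of_schur [Finite G] (ρ : Representation K G V) (Q : Subgroup G)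
    (hcard : (Nat.card Q : K) ≠ 0)
    (hschur : ∀ T : Module.End K V, (∀ g ∈ Q, ρ g * T = T * ρ g) → ∃ c : K, T = c • 1)
    (W : Submodule K V) (hW : ∀ g ∈ Q, ∀ v ∈ W, ρ g v ∈ W) : W = ⊥ ∨ W = ⊤ := by
  classical
  haveI : Fintype Q := Fintype.ofFinite Q
  obtain ⟨W', hW'⟩ := Submodule.exists_isCompl W
  set π₀ : Module.End K V := W.subtype ∘ₗ Submodule.projectionOnto W W' hW' with hπ₀
  have hπ₀mem : ∀ v, π₀ v ∈ W := by
    intro v
    rw [hπ₀, LinearMap.comp_apply]
    exact Submodule.coe_mem _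
  have hπ₀id : ∀ w ∈ W, π₀ w = w := by
    intro w hw
    rw [hπ₀, LinearMap.comp_apply]
    have := Submodule.projectionOnto_apply_left hW' ⟨w, hw⟩
    simp only at this
    rw [this]
    rfl
  set S : Module.End K V := ∑ g : Q, ρ (g : G) * π₀ * ρ ((g : G)⁻¹) with hS
  have hSmem : ∀ v, S v ∈ W := by
    intro v
    rw [hS, LinearMap.sum_apply]
    apply Submodule.sum_mem
    intro g _
    rw [Module.End.mul_apply, Module.End.mul_apply]
    exact hW _ g.2 _ (hπ₀mem _)
  have hSid : ∀ w ∈ W, S w = (Nat.card Q : K) • w := by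
    intro w hw
    rw [hS, LinearMap.sum_apply]
    have : ∀ g : Q, (ρ (g : G) * π₀ * ρ ((g : G)⁻¹)) w = w := by
      intro g
      rw [Module.End.mul_apply, Module.End.mul_apply, hπ₀id _ (hW _ (Q.inv_mem g.2) w hw),
        rho_apply_inv]
    rw [Finset.sum_congr rfl (fun g _ => this g), Finset.sum_const, Finset.card_univ,
      Nat.card_eq_fintype_card, Nat.cast_smul_eq_nsmul]
  have hScomm : ∀ h ∈ Q, ρ h * S = S * ρ h := by
    intro h hh
    have h1 : ρ h * S * ρ h⁻¹ = S := by
      rw [hS, Finset.mul_sum, Finset.sum_mul]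
      apply Fintype.sum_equiv (Equiv.mulLeft (⟨h, hh⟩ : Q))
      intro g
      rw [Equiv.coe_mulLeft]
      show ρ h * (ρ (g : G) * π₀ * ρ ((g : G)⁻¹)) * ρ h⁻¹ = ρ (h * (g : G)) * π₀ * ρ ((h * (g : G))⁻¹)
      rw [mul_inv_rev, map_mul, map_mul]
      simp only [mul_assoc]
    calc ρ h * S = ρ h * S * (ρ h⁻¹ * ρ h) := by rw [rho_inv_mul, mul_one]
      _ = (ρ h * S * ρ h⁻¹) * ρ h := by simp only [mul_assoc]
      _ = S * ρ h := by rw [h1]
  obtain ⟨c, hc⟩ := hschur S hScomm
  by_cases hc0 : c = 0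
  · left
    rw [eq_bot_iff]
    intro w hw
    have h1 := hSid w hw
    rw [hc, hc0, zero_smul, LinearMap.zero_apply] at h1
    rcases smul_eq_zero.mp h1.symm with h | h
    · exact absurd h hcard
    · rw [h]; exact Submodule.zero_mem _
  · right
    rw [eq_top_iff]
    intro v _
    have h1 := hSmem v
    rw [hc, LinearMap.smul_apply, Module.End.one_apply] at h1
    have := W.smul_mem c⁻¹ h1
    rwa [smul_smul, inv_mul_cancel₀ hc0, one_smul] at this

theorem scalar_of_finrank_le_one [FiniteDimensional K V] (hd : finrank K V ≤ 1)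
    (T : Module.End K V) : ∃ c : K, T = c • 1 := by
  rcases subsingleton_or_nontrivial V with h | h
  · refine ⟨0, ?_⟩
    ext v
    exact Subsingleton.elim _ _
  · have hd1 : finrank K V = 1 := by
      have : 0 < finrank K V := Module.finrank_pos
      omega
    have hE : finrank K (Module.End K V) = 1 := by
      rw [Module.finrank_linearMap K K V V, hd1]
    obtain ⟨c, hc⟩ := (finrank_eq_one_iff_of_nonzero' (1 : Module.End K V) one_ne_zero).mp hE T
    exact ⟨c, hc.symm⟩

theorem rho_comm_eq_one (ρ : Representation K G V) (a b : G) (h : ρ a * ρ b = ρ b * ρ a) :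
    ρ ⁅a, b⁆ = 1 := by
  rw [commutatorElement_def, map_mul, map_mul, map_mul, h, mul_assoc (ρ b), rho_mul_inv, mul_one,
    rho_mul_inv]

theorem rho_comm_of_comm_eq_one (ρ : Representation K G V) (a b : G) (h : ρ ⁅a, b⁆ = 1) :
    ρ a * ρ b = ρ b * ρ a := by
  have e : a * b = ⁅a, b⁆ * (b * a) := by rw [commutatorElement_def]; group
  rw [← map_mul, e, map_mul, h, one_mul, map_mul]

/-- elements acting centrally -/
def centSub (ρ : Representation K G V) : Subgroup G where
  carrier := {g | ∀ T : Module.End K V, ρ g * T = T * ρ g}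
  mul_mem' := by
    intro a b ha hb T
    have ha' := ha T
    have hb' := hb T
    rw [map_mul, mul_assoc, hb', ← mul_assoc, ha', mul_assoc]
  one_mem' := by
    intro T
    rw [map_one, one_mul, mul_one]
  inv_mem' := by
    intro a ha T
    exact comm_inv ρ T a (ha T)

theorem mem_centSub (ρ : Representation K G V) (g : G) :
    g ∈ centSub ρ ↔ ∀ T : Module.End K V, ρ g * T = T * ρ g := Iff.rfl

instance centSub_normal (ρ : Representation K G V) : (centSub ρ).Normal := by
  constructor
  intro g hg a T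
  have h1 : ρ (a * g * a⁻¹) = ρ g := by
    rw [map_mul, map_mul, ← (mem_centSub ρ g).mp hg (ρ a), mul_assoc, rho_mul_inv, mul_one]
  rw [h1]
  exact hg T

end Cfsg.Agent.H1.HHMod
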