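import Mathlib
import Cfsg.Agent.H1.HHModJ

/-! Hall–Higman Theorem B, case I: the commutant of `Q` is the scalars. -/

namespace Cfsg.Agent.H1.HHMod
open Module Cfsg.Agent.H1.FrobFree Cfsg.Agent.H1.JordanNil
open scoped commutatorElement

universe u v w

section CaseI
variable {p q : ℕ} [hp : Fact p.Prime] [hq : Fact q.Prime] {K : Type w} [Field K] [CharP K p]

theorem orderOf_eq_of_pow_ne_one {G : Type*} [Group G] (x : G) (n : ℕ) (hn : 1 ≤ n)
    (hxp : x ^ (p ^ n) = 1) (hy : x ^ (p ^ (n - 1)) ≠ 1) : orderOf x = p ^ n := by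
  obtain ⟨k, hk, hkord⟩ := (Nat.dvd_prime_pow hp.out).mp (orderOf_dvd_of_pow_eq_one hxp)
  rcases Nat.lt_or_ge k n with h | h
  · exfalso
    apply hy
    rw [← orderOf_dvd_iff_pow_eq_one, hkord]
    exact pow_dvd_pow p (by omega)
  · have : k = n := le_antisymm hk h
    rw [hkord, this]

theorem caseI (hpq : p ≠ q) [IsAlgClosed K] {n : ℕ}
    (G : Type u) [Group G] [Finite G] (Q : Subgroup G) (x : G) (V : Type v) [AddCommGroup V]
    [Module K V] [FiniteDimensional K V] (ρ : Representation K G V)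
    (hgen : Q ⊔ Subgroup.zpowers x = ⊤)
    (hQ : IsPGroup q Q) (hnorm : ∀ g ∈ Q, x * g * x⁻¹ ∈ Q) (hn : 1 ≤ n) (hxp : x ^ (p ^ n) = 1)
    (hact : ∃ g ∈ Q, ρ ⁅g, x ^ (p ^ (n - 1))⁆ ≠ 1)
    (s : ℕ) (hs : (ρ x - 1) ^ s = 0)
    (hmin : ∀ Q₁ : Subgroup G, Q₁ ≤ Q → Q₁ ≠ Q → (∀ g ∈ Q₁, x * g * x⁻¹ ∈ Q₁) →
      ∀ g ∈ Q₁, ρ ⁅g, x ^ (p ^ (n - 1))⁆ = 1)
    (hschur : ∀ T : Module.End K V, (∀ g ∈ Q, ρ g * T = T * ρ g) → ∃ c : K, T = c • 1) :
    Concl p q n s Q := by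
  classical
  have hpp : p.Prime := hp.out
  have hqp : q.Prime := hq.out
  haveI hQn : Q.Normal := normal_of_gen Q x hgen hnorm (p ^ n) (Nat.one_le_pow _ _ hpp.pos) hxp
  set y := x ^ (p ^ (n - 1)) with hy
  -- scalars commute with everything
  have hsc_comm : ∀ (A : Module.End K V) (c : K), A = c • 1 → ∀ T : Module.End K V, A * T = T * A := by
    intro A c hA T
    rw [hA, smul_mul_assoc, one_mul, mul_smul_comm, mul_one]
  obtain ⟨g₀, hg₀, hg₀y⟩ := hact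
  -- y ≠ 1
  have hy1 : y ≠ 1 := by
    intro h
    apply hg₀y
    rw [h, commutatorElement_one_right, map_one]
  have hord : orderOf x = p ^ n := orderOf_eq_of_pow_ne_one x n hn hxp hy1
  -- dimension at least 2
  have hd2 : ¬ finrank K V ≤ 1 := by
    intro hd
    apply hg₀y
    apply rho_comm_eq_one
    obtain ⟨c, hc⟩ := scalar_of_finrank_le_one hd (ρ g₀)
    exact hsc_comm _ c hc _
  haveI : Nontrivial V := by
    rw [← Module.finrank_pos_iff (R := K)]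
    omega
  -- Q is not abelian (in its action)
  have hnonab : ¬ ∀ a ∈ Q, ∀ b ∈ Q, a * b = b * a := by
    intro hab
    apply hg₀y
    apply rho_comm_eq_one
    obtain ⟨c, hc⟩ := hschur (ρ g₀) (by
      intro g hg
      rw [← map_mul, ← map_mul, hab g hg g₀ hg₀])
    exact hsc_comm _ c hc _
  by_cases hsP : s + 1 ≤ p ^ n
  swap
  · left; omega
  set K₀ : Subgroup G := MonoidHom.ker (ρ : G →* Module.End K V) with hK₀
  have hK₀mem : ∀ a : G, a ∈ K₀ ↔ ρ a = 1 := fun a => MonoidHom.mem_ker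
  set Z₀ : Subgroup G := Q ⊓ centSub ρ with hZ₀
  haveI hZn : Z₀.Normal := Subgroup.normal_inf_normal Q (centSub ρ)
  have H1 : ∀ z ∈ Z₀, ∀ g : G, ⁅z, g⁆ ∈ K₀ := by
    intro z hz g
    rw [hK₀mem]
    apply rho_comm_eq_one
    exact (mem_centSub ρ z).mp hz.2 (ρ g)
  have H2 : ∀ g ∈ Q, (∀ h ∈ Q, ⁅g, h⁆ ∈ K₀) → g ∈ Z₀ := by
    intro g hg h
    refine ⟨hg, ?_⟩
    show g ∈ centSub ρ
    rw [mem_centSub]
    obtain ⟨c, hc⟩ := hschur (ρ g) (by
      intro a ha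
      exact (rho_comm_of_comm_eq_one ρ g a ((hK₀mem _).mp (h a ha))).symm)
    exact hsc_comm _ c hc
  have H3 : ∀ Q₁ : Subgroup G, Q₁ ≤ Q → Q₁ ≠ Q → (∀ g ∈ Q₁, x * g * x⁻¹ ∈ Q₁) →
      ∀ g ∈ Q₁, ⁅g, x ^ (p ^ (n - 1))⁆ ∈ K₀ := by
    intro Q₁ h1 h2 h3 g hg
    rw [hK₀mem]
    exact hmin Q₁ h1 h2 h3 g hg
  have H4 : ∃ g ∈ Q, ⁅g, x ^ (p ^ (n - 1))⁆ ∉ K₀ := by
    refine ⟨g₀, hg₀, ?_⟩
    rw [hK₀mem]
    exact hg₀y
  have hfpf := fpf_of_minimal p q hpq Q K₀ Z₀ hQ x n hn hxp H1 H2 H3 H4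
  have hZ : ∀ z ∈ Z₀, ∃ c : K, ρ z = c • 1 := by
    intro z hz
    apply hschur
    intro g _
    exact ((mem_centSub ρ z).mp hz.2 (ρ g)).symm
  obtain ⟨k, hk⟩ := IsPGroup.iff_card.mp hQ
  have hxZ : ∀ i : ℕ, x ^ i ∈ Z₀ → x ^ i = 1 := by
    intro i hi
    have h1 : orderOf (x ^ i) ∣ q ^ k := by
      rw [← hk]
      have := Subgroup.orderOf_dvd_natCard Q hi.1
      exact this
    have h2 : orderOf (x ^ i) ∣ p ^ n := by
      apply orderOf_dvd_of_pow_eq_one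
      rw [← pow_mul, mul_comm, pow_mul, hxp, one_pow]
    have h3 : Nat.Coprime (q ^ k) (p ^ n) :=
      Nat.Coprime.pow _ _ ((Nat.coprime_primes hqp hpp).mpr (Ne.symm hpq))
    have := Nat.eq_one_of_dvd_coprimes h3 h1 h2
    exact orderOf_eq_one_iff.mp this
  have hcard : (Nat.card Q : K) ≠ 0 := by
    rw [hk, Nat.cast_pow]
    apply pow_ne_zero
    intro h
    have := (CharP.cast_eq_zero_iff K p q).mp h
    exact hpq ((Nat.prime_dvd_prime_iff_eq hpp hqp).mp this)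
  haveI hQsol : Group.IsSolvable Q := by
    haveI := hQ.isNilpotent
    exact IsNilpotent.to_isSolvable
  have hmain := crit_main p ρ Q Z₀ hcard hschur hZ x n hord hxZ
    (by
      intro i hi g hg hgi
      apply hfpf i hi g hg
      rw [commutatorElement_def]
      exact hgi) s hs hsP
  rcases hmain with h | ⟨h1, h2⟩
  · exact absurd h hd2
  · -- degree is a power of q
    have hirrQ : ∀ W : Submodule K V,
        (∀ g : Q, Submodule.map ((ρ.comp Q.subtype) g) W ≤ W) → W = ⊥ ∨ W = ⊤ := by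
      intro W hW
      apply irr_of_schur ρ Q hcard hschur W
      intro g hg v hv
      exact hW ⟨g, hg⟩ ⟨v, hv, rfl⟩
    obtain ⟨b, hb⟩ := degree_pow (K := K) q (Nat.card Q) Q rfl hQ V (ρ.comp Q.subtype) hirrQ
    have hb1 : 1 ≤ b := by
      by_contra hcon
      have : b = 0 := by omega
      rw [this, pow_zero] at hb
      exact hd2 hb.le
    right
    refine ⟨n, b, hn, le_rfl, hb1, ?_, hnonab, ?_⟩
    · rw [← hb]; omega
    · rw [Nat.sub_self, pow_zero, one_mul]; omega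

end CaseI

end Cfsg.Agent.H1.HHMod
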