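import Mathlib
import Cfsg.Agent.H1.HHModK

/-! Hall–Higman Theorem B, case II: a non-scalar commutant gives an imprimitivity-like shift. -/

namespace Cfsg.Agent.H1.HHMod
open Module Cfsg.Agent.H1.FrobFree Cfsg.Agent.H1.JordanNil
open scoped commutatorElement

universe u v w

theorem gen_sub {G : Type*} [Group G] (Q₁ : Subgroup G) (z : G) (H : Subgroup G)
    (hH : H = Q₁ ⊔ Subgroup.zpowers z) (hz : z ∈ H) :
    Q₁.subgroupOf H ⊔ Subgroup.zpowers (⟨z, hz⟩ : H) = ⊤ := by
  have hQ₁H : Q₁ ≤ H := by rw [hH]; exact le_sup_left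
  have hzH : Subgroup.zpowers z ≤ H := by rw [hH]; exact le_sup_right
  have hzp : (Subgroup.zpowers z).subgroupOf H = Subgroup.zpowers (⟨z, hz⟩ : H) := by
    ext ⟨a, ha⟩
    rw [Subgroup.mem_subgroupOf, Subgroup.mem_zpowers_iff, Subgroup.mem_zpowers_iff]
    constructor
    · rintro ⟨k, hk⟩
      exact ⟨k, Subtype.ext (by simpa using hk)⟩
    · rintro ⟨k, hk⟩
      refine ⟨k, ?_⟩
      have := congrArg Subtype.val hk
      simpa using this
  rw [← hzp, ← Subgroup.subgroupOf_sup hQ₁H hzH, ← hH, Subgroup.subgroupOf_self]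

theorem shift_inv_eigenspace {K : Type*} [Field K] {V : Type*} [AddCommGroup V] [Module K V]
    (X Xi c : Module.End K V) (h1 : X * Xi = 1) (h2 : Xi * X = 1)
    (hXc : X * c = (c + 1) * X) (μ : K) (v : V)
    (hv : v ∈ Module.End.eigenspace c (μ - 1)) : Xi v ∈ Module.End.eigenspace c μ := by
  rw [Module.End.mem_eigenspace_iff] at hv ⊢
  have e : c * Xi = Xi * (c + 1) := by
    calc c * Xi = (Xi * X) * c * Xi := by rw [h2, one_mul]
      _ = Xi * (X * c) * Xi := by simp only [mul_assoc]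
      _ = Xi * (c + 1) * (X * Xi) := by rw [hXc]; simp only [mul_assoc]
      _ = Xi * (c + 1) := by rw [h1, mul_one]
  rw [← Module.End.mul_apply, e, Module.End.mul_apply, LinearMap.add_apply, Module.End.one_apply, hv]
  have e2 : (μ - 1) • v + v = μ • v := by rw [sub_smul, one_smul, sub_add_cancel]
  rw [e2, map_smul]

section CaseII
variable {p q : ℕ} [hp : Fact p.Prime] [hq : Fact q.Prime] {K : Type w} [Field K] [CharP K p]

theorem caseII [IsAlgClosed K] {n : ℕ}
    (hih : ∀ n' < n, ∀ N' d', CoreStmt.{u, v, w} p q K n' N' d')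
    (G : Type u) [Group G] [Finite G] (Q : Subgroup G) (x : G) (V : Type v) [AddCommGroup V]
    [Module K V] [FiniteDimensional K V] (ρ : Representation K G V)
    (hgen : Q ⊔ Subgroup.zpowers x = ⊤)
    (hQ : IsPGroup q Q) (hnorm : ∀ g ∈ Q, x * g * x⁻¹ ∈ Q) (hn : 1 ≤ n) (hxp : x ^ (p ^ n) = 1)
    (hact : ∃ g ∈ Q, ρ ⁅g, x ^ (p ^ (n - 1))⁆ ≠ 1)
    (s : ℕ) (hs : (ρ x - 1) ^ s = 0)
    (hirr : ∀ W : Submodule K V, (∀ a : G, ∀ v ∈ W, ρ a v ∈ W) → W = ⊥ ∨ W = ⊤)
    (c : Module.End K V) (hcQ : ∀ g ∈ Q, ρ g * c = c * ρ g) (hcx : ρ x * c = (c + 1) * ρ x) :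
    Concl p q n s Q := by
  classical
  have hpp : p.Prime := hp.out
  obtain ⟨g₀, hg₀, hg₀y⟩ := hact
  haveI : Nontrivial V := by
    by_contra h
    rw [not_nontrivial_iff_subsingleton] at h
    apply hg₀y
    ext v
    exact Subsingleton.elim _ _
  obtain ⟨μ₀, hμ₀⟩ := Module.End.exists_eigenvalue c
  set V₀ := Module.End.eigenspace c μ₀ with hV₀
  have hV₀bot : V₀ ≠ ⊥ := hμ₀
  have hL := lemL p (ρ x) c hcx s hs μ₀
  have hQinv : ∀ μ : K, ∀ g ∈ Q, ∀ v ∈ Module.End.eigenspace c μ,
      ρ g v ∈ Module.End.eigenspace c μ := by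
    intro μ g hg v hv
    rw [Module.End.mem_eigenspace_iff] at hv ⊢
    rw [← Module.End.mul_apply, ← hcQ g hg, Module.End.mul_apply, hv, map_smul]
  rcases Nat.lt_or_ge n 2 with hn2 | hn2
  · have hn1 : n = 1 := by omega
    left
    rw [hn1, pow_one]
    by_contra hlt
    push Not at hlt
    obtain ⟨w, hw, hw0⟩ := Submodule.exists_mem_ne_zero_of_ne_bot hV₀bot
    have := hL w hw
    rw [Nat.div_eq_of_lt hlt, pow_zero, Module.End.one_apply] at this
    exact hw0 this
  · set y := x ^ (p ^ (n - 1)) with hy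
    set z := x ^ p with hz
    set G₁ : Subgroup G := Q ⊔ Subgroup.zpowers z with hG₁
    have hQG₁ : Q ≤ G₁ := le_sup_left
    have hzG₁ : z ∈ G₁ := (le_sup_right : Subgroup.zpowers z ≤ G₁) (Subgroup.mem_zpowers z)
    set z' : G₁ := ⟨z, hzG₁⟩ with hz'
    set Q' : Subgroup G₁ := Q.subgroupOf G₁ with hQ'
    set ρ' : Representation K G₁ V := ρ.comp G₁.subtype with hρ'
    have hgen' : Q' ⊔ Subgroup.zpowers z' = ⊤ := gen_sub Q z G₁ rfl hzG₁
    have hzpow : z ^ (p ^ (n - 1)) = 1 := by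
      rw [hz, ← pow_mul, ← pow_succ', Nat.sub_add_cancel hn, hxp]
    have hzy : z ^ (p ^ (n - 1 - 1)) = y := by
      rw [hz, hy, ← pow_mul, ← pow_succ']
      congr 2
      omega
    have hz'pow : z' ^ (p ^ (n - 1)) = 1 := Subtype.ext hzpow
    have hzshift : ∀ v ∈ V₀, ρ z v ∈ V₀ := by
      intro v hv
      have := shift_pow_eigenspace (ρ x) c hcx p μ₀ v hv
      rw [CharP.cast_eq_zero K p, sub_zero, ← map_pow] at this
      exact this
    have hinv' : ∀ a : G₁, ∀ v ∈ V₀, ρ' a v ∈ V₀ :=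
      inv_of_gen ρ' Q' z' hgen' V₀
        (fun g hg v hv => hQinv μ₀ g.1 (Subgroup.mem_subgroupOf.mp hg) v hv)
        (fun v hv => hzshift v hv) (p ^ (n - 1)) (Nat.one_le_pow _ _ hpp.pos) hz'pow
    set ρ₁ : Representation K G₁ V₀ := resRep ρ' V₀ hinv' with hρ₁
    have hQ'p : IsPGroup q Q' := hQ.comap_subtype
    have hnorm' : ∀ g ∈ Q', z' * g * z'⁻¹ ∈ Q' := by
      intro g hg
      rw [hQ', Subgroup.mem_subgroupOf] at hg ⊢
      exact conj_pow_mem Q x hnorm p _ hg
    have hxy : x * y = y * x := by rw [hy, ← pow_succ', ← pow_succ]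
    have hact' : ∃ g ∈ Q', ρ₁ ⁅g, z' ^ (p ^ (n - 1 - 1))⁆ ≠ 1 := by
      by_contra hcon
      push Not at hcon
      have hfix0 : ∀ g ∈ Q, ∀ v ∈ V₀, ρ ⁅g, y⁆ v = v := by
        intro g hg v hv
        have h1 := hcon ⟨g, hQG₁ hg⟩ (Subgroup.mem_subgroupOf.mpr hg)
        have h2 := congrArg (fun f => ((f ⟨v, hv⟩ : V₀) : V)) h1
        have e : ((ρ₁ ⁅(⟨g, hQG₁ hg⟩ : G₁), z' ^ (p ^ (n - 1 - 1))⁆ ⟨v, hv⟩ : V₀) : V)
            = ρ ⁅g, z ^ (p ^ (n - 1 - 1))⁆ v := rfl
        simp only [Module.End.one_apply] at h2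
        rw [e, hzy] at h2
        exact h2
      have hinvQ := conj_inv_mem Q x hnorm (p ^ n) (Nat.one_le_pow _ _ hpp.pos) hxp
      have hfixj : ∀ j : ℕ, ∀ g ∈ Q, ∀ v ∈ Module.End.eigenspace c (μ₀ - (j : K)),
          ρ ⁅g, y⁆ v = v := by
        intro j
        induction j with
        | zero =>
          intro g hg v hv
          rw [Nat.cast_zero, sub_zero] at hv
          exact hfix0 g hg v hv
        | succ j ih =>
          intro g hg v hv
          have hw : ρ x⁻¹ v ∈ Module.End.eigenspace c (μ₀ - (j : K)) := by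
            apply shift_inv_eigenspace (ρ x) (ρ x⁻¹) c (rho_mul_inv ρ x) (rho_inv_mul ρ x) hcx
            have e : μ₀ - (j : K) - 1 = μ₀ - ((j + 1 : ℕ) : K) := by push_cast; ring
            rw [e]; exact hv
          have h1 := ih (x⁻¹ * g * x) (hinvQ g hg) _ hw
          have e1 : ⁅g, y⁆ * x = x * ⁅x⁻¹ * g * x, y⁆ := by
            have hyx : x⁻¹ * y * x = y := by rw [mul_assoc, ← hxy, inv_mul_cancel_left]
            have : x * ⁅x⁻¹ * g * x, y⁆ * x⁻¹ = ⁅g, y⁆ := by
              have h3 : x * ⁅x⁻¹ * g * x, x⁻¹ * y * x⁆ * x⁻¹ = ⁅g, y⁆ := by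
                simp only [commutatorElement_def]; group
              rw [hyx] at h3
              exact h3
            rw [← this]; group
          have h2 : v = ρ x (ρ x⁻¹ v) := (rho_apply_inv ρ x v).symm
          rw [h2, ← Module.End.mul_apply, ← map_mul, e1, map_mul, Module.End.mul_apply, h1]
      set W' : Submodule K V := ⨆ j : ℕ, Module.End.eigenspace c (μ₀ - (j : K)) with hW'
      have hW'inv : ∀ a : G, ∀ v ∈ W', ρ a v ∈ W' := by
        apply inv_of_gen ρ Q x hgen W' _ _ (p ^ n) (Nat.one_le_pow _ _ hpp.pos) hxp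
        · intro g hg v hv
          have : W' ≤ W'.comap (ρ g) := by
            apply iSup_le
            intro j u hu
            exact (le_iSup (fun j : ℕ => Module.End.eigenspace c (μ₀ - (j : K))) j)
              (hQinv _ g hg u hu)
          exact this hv
        · intro v hv
          have : W' ≤ W'.comap (ρ x) := by
            apply iSup_le
            intro j u hu
            have h1 := shift_eigenspace (ρ x) c hcx _ u hu
            have e : μ₀ - (j : K) - 1 = μ₀ - ((j + 1 : ℕ) : K) := by push_cast; ring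
            rw [e] at h1
            exact (le_iSup (fun j : ℕ => Module.End.eigenspace c (μ₀ - (j : K))) (j + 1)) h1
          exact this hv
      have hW'top : W' = ⊤ := by
        rcases hirr W' hW'inv with h | h
        · exfalso
          apply hV₀bot
          rw [eq_bot_iff, ← h]
          have := le_iSup (fun j : ℕ => Module.End.eigenspace c (μ₀ - (j : K))) 0
          simpa using this
        · exact h
      apply hg₀y
      ext v
      have hv : v ∈ W' := by rw [hW'top]; trivial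
      rw [Module.End.one_apply]
      refine Submodule.iSup_induction (fun j : ℕ => Module.End.eigenspace c (μ₀ - (j : K)))
        (motive := fun v => ρ ⁅g₀, y⁆ v = v) hv ?_ ?_ ?_
      · intro j u hu
        exact hfixj j g₀ hg₀ u hu
      · exact map_zero _
      · intro a b ha hb
        rw [map_add, ha, hb]
    have hs' : (ρ₁ z' - 1) ^ (s / p) = 0 := by
      ext ⟨w, hw⟩
      rw [resRep_sub_one_pow]
      show ((ρ z - 1) ^ (s / p)) w = 0
      rw [hz, map_pow]
      exact hL w hw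
    have hres := hih (n - 1) (by omega) (Nat.card Q') (finrank K V₀) G₁ Q' z' V₀ ρ₁ rfl rfl hgen'
      hQ'p hnorm' (by omega) hz'pow hact' (s / p) hs'
    have hsp : p * (s / p) ≤ s := Nat.mul_div_le s p
    rcases hres with h | ⟨n₀, m, h1, h2, h3, h4, h5, h6⟩
    · left
      calc p ^ n = p * p ^ (n - 1) := by rw [← pow_succ', Nat.sub_add_cancel hn]
        _ ≤ p * (s / p) := Nat.mul_le_mul_left p h
        _ ≤ s := hsp
    · right
      refine ⟨n₀, m, h1, by omega, h3, h4, ?_, ?_⟩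
      · intro hcomm
        apply h5
        intro a ha b hb
        rw [hQ', Subgroup.mem_subgroupOf] at ha hb
        exact Subtype.ext (hcomm _ ha _ hb)
      · calc p ^ (n - n₀) * (p ^ n₀ - 1) = p * (p ^ (n - 1 - n₀) * (p ^ n₀ - 1)) := by
              rw [← mul_assoc, ← pow_succ']
              congr 2
              omega
          _ ≤ p * (s / p) := Nat.mul_le_mul_left p h6
          _ ≤ s := hsp

end CaseII

end Cfsg.Agent.H1.HHMod
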