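import Mathlib
import Cfsg.Agent.H1.HHModL

/-! Hall–Higman Theorem B: the core induction. -/

namespace Cfsg.Agent.H1.HHMod
open Module Cfsg.Agent.H1.FrobFree Cfsg.Agent.H1.JordanNil
open scoped commutatorElement

universe u v w

section Core
variable {p q : ℕ} [hp : Fact p.Prime] [hq : Fact q.Prime] {K : Type w} [Field K] [CharP K p]

theorem core_gen [IsAlgClosed K] (hpq : p ≠ q) : ∀ n N d, CoreStmt.{u, v, w} p q K n N d := by
  intro n
  induction n using Nat.strong_induction_on with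
  | _ n ihn =>
  intro N
  induction N using Nat.strong_induction_on with
  | _ N ihN =>
  intro d
  induction d using Nat.strong_induction_on with
  | _ d ihd =>
  intro G _ _ Q x V _ _ _ ρ hN hd hgen hQ hnorm hn hxp hact s hs
  classical
  have hpp : p.Prime := hp.out
  by_cases hA : ∃ Q₁ : Subgroup G, Q₁ ≤ Q ∧ Q₁ ≠ Q ∧ (∀ g ∈ Q₁, x * g * x⁻¹ ∈ Q₁) ∧
      ∃ g ∈ Q₁, ρ ⁅g, x ^ (p ^ (n - 1))⁆ ≠ 1
  · obtain ⟨Q₁, h1, h2, h3, h4⟩ := hA
    exact stepA (fun N' hN' d' => ihN N' hN' d') G Q x V ρ hN hQ hn hxp s hs Q₁ h1 h2 h3 h4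
  have hmin : ∀ Q₁ : Subgroup G, Q₁ ≤ Q → Q₁ ≠ Q → (∀ g ∈ Q₁, x * g * x⁻¹ ∈ Q₁) →
      ∀ g ∈ Q₁, ρ ⁅g, x ^ (p ^ (n - 1))⁆ = 1 := by
    intro Q₁ h1 h2 h3 g hg
    by_contra h
    exact hA ⟨Q₁, h1, h2, h3, g, hg, h⟩
  by_cases hB : ∃ U : Submodule K V, (∀ a : G, ∀ v ∈ U, ρ a v ∈ U) ∧ U ≠ ⊥ ∧ U ≠ ⊤
  · obtain ⟨U, h1, h2, h3⟩ := hB
    exact stepB hpq (fun d' hd' => ihd d' hd') G Q x V ρ hN hd hgen hQ hnorm hn hxp hact s hs U
      h1 h2 h3
  have hirr : ∀ W : Submodule K V, (∀ a : G, ∀ v ∈ W, ρ a v ∈ W) → W = ⊥ ∨ W = ⊤ := by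
    intro W hW
    by_contra h
    push Not at h
    exact hB ⟨W, hW, h.1, h.2⟩
  by_cases hC : ∀ T : Module.End K V, (∀ g ∈ Q, ρ g * T = T * ρ g) → ∃ c : K, T = c • 1
  · exact caseI hpq G Q x V ρ hgen hQ hnorm hn hxp hact s hs hmin hC
  · push Not at hC
    obtain ⟨T, hT, hTs⟩ := hC
    obtain ⟨g₀, hg₀, hg₀y⟩ := hact
    haveI : Nontrivial V := by
      by_contra h
      rw [not_nontrivial_iff_subsingleton] at h
      apply hg₀y
      ext v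
      exact Subsingleton.elim _ _
    have hy1 : x ^ (p ^ (n - 1)) ≠ 1 := by
      intro h
      apply hg₀y
      rw [h, commutatorElement_one_right, map_one]
    have hord : orderOf x = p ^ n := orderOf_eq_of_pow_ne_one x n hn hxp hy1
    have hinvQ := conj_inv_mem Q x hnorm (p ^ n) (Nat.one_le_pow _ _ hpp.pos) hxp
    obtain ⟨c, hcQ, hcx⟩ := exists_shift p ρ Q x hgen hinvQ n hord hirr T hT
      (by rintro ⟨c, hc⟩; exact hTs c hc)
    exact caseII (fun n' hn' N' d' => ihn n' hn' N' d') G Q x V ρ hgen hQ hnorm hn hxp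
      ⟨g₀, hg₀, hg₀y⟩ s hs hirr c hcQ hcx

/-- Hall–Higman Theorem B, core form. -/
theorem core [IsAlgClosed K] (hpq : p ≠ q) (G : Type u) [Group G] [Finite G] (Q : Subgroup G)
    (x : G) (V : Type v) [AddCommGroup V] [Module K V] [FiniteDimensional K V]
    (ρ : Representation K G V) (hQ : IsPGroup q Q) (hnorm : ∀ g ∈ Q, x * g * x⁻¹ ∈ Q)
    (n : ℕ) (hn : 1 ≤ n) (hxp : x ^ (p ^ n) = 1)
    (hact : ∃ g ∈ Q, ρ ⁅g, x ^ (p ^ (n - 1))⁆ ≠ 1) (s : ℕ) (hs : (ρ x - 1) ^ s = 0) :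
    Concl p q n s Q := by
  classical
  set H : Subgroup G := Q ⊔ Subgroup.zpowers x with hH
  have hQH : Q ≤ H := le_sup_left
  have hxH : x ∈ H := (le_sup_right : Subgroup.zpowers x ≤ H) (Subgroup.mem_zpowers x)
  set x' : H := ⟨x, hxH⟩ with hx'
  set Q' : Subgroup H := Q.subgroupOf H with hQ'
  set ρ' : Representation K H V := ρ.comp H.subtype with hρ'
  have hgen' : Q' ⊔ Subgroup.zpowers x' = ⊤ := gen_sub Q x H rfl hxH
  have hQ'p : IsPGroup q Q' := hQ.comap_subtype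
  have hnorm' : ∀ g ∈ Q', x' * g * x'⁻¹ ∈ Q' := by
    intro g hg
    rw [hQ', Subgroup.mem_subgroupOf] at hg ⊢
    exact hnorm _ hg
  have hxp' : x' ^ (p ^ n) = 1 := Subtype.ext (by simpa using hxp)
  have hact' : ∃ g ∈ Q', ρ' ⁅g, x' ^ (p ^ (n - 1))⁆ ≠ 1 := by
    obtain ⟨g, hg, hgc⟩ := hact
    refine ⟨⟨g, hQH hg⟩, ?_, ?_⟩
    · rw [hQ', Subgroup.mem_subgroupOf]; exact hg
    · exact hgc
  have := core_gen.{u, v, w} (K := K) hpq n (Nat.card Q') (finrank K V) H Q' x' V ρ' rfl rfl hgen'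
    hQ'p hnorm' hn hxp' hact' s hs
  rcases this with h | ⟨n₀, m, h1, h2, h3, h4, h5, h6⟩
  · exact Or.inl h
  · refine Or.inr ⟨n₀, m, h1, h2, h3, h4, ?_, h6⟩
    intro hcomm
    apply h5
    intro a ha b hb
    rw [hQ', Subgroup.mem_subgroupOf] at ha hb
    exact Subtype.ext (hcomm _ ha _ hb)

end Core

end Cfsg.Agent.H1.HHMod
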