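import Mathlib
import Cfsg.Agent.H1.HHModM
import Cfsg.Agent.H1.QuadThree
import Cfsg.Agent.H1.HHAbD

/-! Hall–Higman Theorem B: choice of the `q`-subgroup, base change to the algebraic closure. -/

namespace Cfsg.Agent.H1.HHMod
open scoped commutatorElement

theorem exists_q_sub {G : Type*} [Group G] [Finite G] (p : ℕ) [hp : Fact p.Prime]
    (hsol : Cfsg.IsPSolvable p G) (hOp : Cfsg.pCore p G = ⊥)
    (x : G) (n : ℕ) (hn : 1 ≤ n) (hord : orderOf x = p ^ n) :
    ∃ (q : ℕ) (_ : Fact q.Prime) (Q : Subgroup G), p ≠ q ∧ IsPGroup q Q ∧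
      (∀ g ∈ Q, x * g * x⁻¹ ∈ Q) ∧ ∃ g ∈ Q, ⁅g, x ^ (p ^ (n - 1))⁆ ≠ 1 := by
  classical
  have hpp : p.Prime := hp.out
  set R := Cfsg.pPrimeCore p G with hR
  haveI hRn : R.Normal := Cfsg.Agent.H1.pPrimeCore_normal p
  have hRcop : (Nat.card R).Coprime p := Cfsg.Agent.H1.pPrimeCore_coprime p
  set y := x ^ (p ^ (n - 1)) with hy
  have hyord : orderOf y = p := by
    rw [hy, orderOf_pow' x (pow_ne_zero _ hpp.ne_zero), hord, Nat.gcd_eq_right (pow_dvd_pow p (by omega))]
    have : p ^ n = p ^ (n - 1) * p := by rw [← pow_succ, Nat.sub_add_cancel hn]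
    rw [this, Nat.mul_div_cancel_left _ (pow_pos hpp.pos _)]
  have hyR : y ∉ R := by
    intro h
    have h1 : orderOf y ∣ Nat.card R := Subgroup.orderOf_dvd_natCard R h
    rw [hyord] at h1
    have := Nat.Coprime.eq_one_of_dvd hRcop.symm h1
    exact hpp.one_lt.ne' this
  have hyC : ¬ y ∈ Subgroup.centralizer (R : Set G) := by
    intro h
    exact hyR (Cfsg.Agent.H1.centralizer_pPrimeCore_le hsol hOp h)
  set X := Subgroup.zpowers x with hX
  have hXcard : Nat.card X = p ^ n := by rw [hX, Nat.card_zpowers, hord]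
  have hcop : (Nat.card X).Coprime (Nat.card R) := by
    rw [hXcard]
    exact Nat.Coprime.pow_left n hRcop.symm
  have hXs : Group.IsSolvable X := by
    haveI : IsMulCommutative X := by rw [hX]; infer_instance
    infer_instance
  obtain ⟨q, hq, P, hXP, hzP⟩ :=
    Cfsg.Agent.H1.HHAb.exists_invariant_sylow_not_centralized X R hcop hXs y hyC
  set Q : Subgroup G := (P : Subgroup R).map R.subtype with hQ
  have hQp : IsPGroup q Q := P.isPGroup'.map _
  have hQR : Q ≤ R := by
    rintro _ ⟨a, _, rfl⟩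
    exact a.2
  -- an element of Q not commuting with y
  have hex : ∃ g ∈ Q, ⁅g, y⁆ ≠ 1 := by
    by_contra hcon
    push Not at hcon
    apply hzP
    rw [Subgroup.mem_centralizer_iff]
    intro g hg
    have := hcon g hg
    rw [commutatorElement_eq_one_iff_mul_comm] at this
    exact this
  refine ⟨q, hq, Q, ?_, hQp, ?_, hex⟩
  · rintro rfl
    obtain ⟨g, hg, hgy⟩ := hex
    have hg1 : g ≠ 1 := by
      rintro rfl
      apply hgy
      rw [commutatorElement_one_left]
    obtain ⟨k, hk⟩ := (hQp.to_le le_rfl) ⟨g, hg⟩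
    have hk' : g ^ (p ^ k) = 1 := by
      have := congrArg Subtype.val hk
      simpa using this
    have h1 : orderOf g ∣ p ^ k := orderOf_dvd_of_pow_eq_one hk'
    have h2 : orderOf g ∣ Nat.card R := Subgroup.orderOf_dvd_natCard R (hQR hg)
    have h3 : Nat.Coprime (p ^ k) (Nat.card R) := Nat.Coprime.pow_left k hRcop.symm
    have := Nat.eq_one_of_dvd_coprimes h3 h1 h2
    exact hg1 (orderOf_eq_one_iff.mp this)
  · intro g hg
    have hx : x ∈ Subgroup.normalizer (Q : Set G) := hXP (Subgroup.mem_zpowers x)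
    rw [Subgroup.mem_normalizer_iff] at hx
    exact (hx g).mp hg


section BaseChange
open TensorProduct

variable {F : Type*} [Field F] {V : Type*} [AddCommGroup V] [Module F V]

/-- the base-changed tautological representation of a linear group -/
def bcRep (K : Type*) [Field K] [Algebra F K] (H : Subgroup (V ≃ₗ[F] V)) :
    Representation K H (K ⊗[F] V) where
  toFun h := (((h : V ≃ₗ[F] V) : V →ₗ[F] V)).baseChange K
  map_one' := by
    show ((1 : Module.End F V)).baseChange K = 1
    exact LinearMap.baseChange_one F V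
  map_mul' a b := by
    show (((a : V ≃ₗ[F] V) : Module.End F V) * ((b : V ≃ₗ[F] V) : Module.End F V)).baseChange K = _
    rw [LinearMap.baseChange_mul]

theorem bcRep_apply (K : Type*) [Field K] [Algebra F K] (H : Subgroup (V ≃ₗ[F] V)) (h : H) :
    bcRep K H h = (((h : V ≃ₗ[F] V) : V →ₗ[F] V)).baseChange K := rfl

theorem bcRep_injective (K : Type*) [Field K] [Algebra F K] (H : Subgroup (V ≃ₗ[F] V)) (h : H)
    (hh : bcRep K H h = 1) : h = 1 := by
  have h1 : (((h : V ≃ₗ[F] V) : V →ₗ[F] V)) = (1 : Module.End F V) := by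
    apply LinearMap.baseChangeHom_injective F (S := K) (M := V) (N := V)
    show (((h : V ≃ₗ[F] V) : V →ₗ[F] V)).baseChange K = (1 : Module.End F V).baseChange K
    rw [LinearMap.baseChange_one]
    exact hh
  apply Subtype.ext
  apply LinearEquiv.toLinearMap_injective
  exact h1

end BaseChange

end Cfsg.Agent.H1.HHMod
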