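import Mathlib
import Cfsg.Agent.H1.HHModN
import Cfsg.Agent.H1.HHAbE

/-! Theorem B applied to elementary abelian sections: the norm map is nonzero in the non-exceptional case. -/

namespace Cfsg.Agent.H1.HHMod
open Module Cfsg.Agent.H1.FrobFree Cfsg.Agent.H1.FrobFix Cfsg.Agent.H1.JordanNil Cfsg.Agent.H1.HHAb
open scoped commutatorElement TensorProduct

universe u

section BaseChangeG
variable {F : Type*} [Field F] {V : Type*} [AddCommGroup V] [Module F V] {A : Type*} [Group A]

/-- base change of a representation -/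
def bcRepG (K : Type*) [Field K] [Algebra F K] (ρ : Representation F A V) :
    Representation K A (K ⊗[F] V) where
  toFun a := (ρ a).baseChange K
  map_one' := by
    rw [map_one]
    exact LinearMap.baseChange_one F V
  map_mul' a b := by
    rw [map_mul, LinearMap.baseChange_mul]

theorem bcRepG_apply (K : Type*) [Field K] [Algebra F K] (ρ : Representation F A V) (a : A) :
    bcRepG K ρ a = (ρ a).baseChange K := rfl

theorem bcRepG_eq_one (K : Type*) [Field K] [Algebra F K] (ρ : Representation F A V) (a : A)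
    (h : bcRepG K ρ a = 1) : ρ a = 1 := by
  apply LinearMap.baseChangeHom_injective F (S := K) (M := V) (N := V)
  show (ρ a).baseChange K = (1 : Module.End F V).baseChange K
  rw [LinearMap.baseChange_one]
  exact h

end BaseChangeG

theorem norm_ne_one_B_module {A : Type*} [Group A] [Finite A] {H : Type u} [CommGroup H] [Finite H]
    (p : ℕ) [hp : Fact p.Prime] [Module (ZMod p) (Additive H)]
    (φ : A →* MulAut H) (x : A) (n : ℕ) (hn : 1 ≤ n) (hord : orderOf x = p ^ n)
    (q : ℕ) [hq : Fact q.Prime] (hpq : p ≠ q) (Q : Subgroup A) (hQ : IsPGroup q Q)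
    (hQx : ∀ g ∈ Q, x * g * x⁻¹ ∈ Q)
    (hnt : ∃ g ∈ Q, φ ⁅g, x ^ (p ^ (n - 1))⁆ ≠ 1)
    (hNE : (∃ n₀ m : ℕ, 1 ≤ n₀ ∧ 1 ≤ m ∧ p ^ n₀ - 1 = q ^ m) → ∀ a ∈ Q, ∀ b ∈ Q, a * b = b * a) :
    ∃ v : H, nprod (fun i => φ (x ^ i) v) (orderOf x) ≠ 1 := by
  classical
  have hpp : p.Prime := hp.out
  let ρ : A →* Module.End (ZMod p) (Additive H) :=
    { toFun := fun f => actLin p (φ f)
      map_one' := by
        refine LinearMap.ext fun v => ?_
        rw [actLin_apply, map_one, MulAut.one_apply, Module.End.one_apply]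
        rfl
      map_mul' := by
        intro f g
        refine LinearMap.ext fun v => ?_
        rw [Module.End.mul_apply, actLin_apply, actLin_apply, actLin_apply, map_mul, MulAut.mul_apply]
        rfl }
  have hρ : ∀ (f : A) (v : Additive H), ρ f v = Additive.ofMul (φ f (Additive.toMul v)) :=
    fun f v => rfl
  haveI : Finite (Additive H) := inferInstanceAs (Finite H)
  haveI : FiniteDimensional (ZMod p) (Additive H) := Module.Finite.of_finite
  by_contra hcon
  push Not at hcon
  -- the norm vanishes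
  have key : ∀ (w : Additive H) (m : ℕ), (∑ i ∈ Finset.range m, ρ (x ^ i) w) =
      Additive.ofMul (nprod (fun i => φ (x ^ i) (Additive.toMul w)) m) := by
    intro w m
    induction m with
    | zero => simp [nprod_zero]
    | succ m ih =>
      rw [Finset.sum_range_succ, ih, nprod_succ, hρ]
      rfl
  have hsum : ∑ i ∈ Finset.range (p ^ n), (ρ x) ^ i = 0 := by
    apply LinearMap.ext
    intro w
    rw [LinearMap.sum_apply, LinearMap.zero_apply]
    have h1 := key w (p ^ n)
    rw [← hord, hcon] at h1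
    rw [← hord]
    have h2 : ∑ d ∈ Finset.range (orderOf x), (ρ x ^ d) w =
        ∑ i ∈ Finset.range (orderOf x), (ρ (x ^ i)) w := by
      apply Finset.sum_congr rfl
      intro i _
      rw [map_pow]
    rw [h2, h1]
    rfl
  have hpow : (ρ x - 1) ^ (p ^ n - 1) = 0 := by
    rw [← geom_sum_eq_pow (K := ZMod p) p (ρ x) n]
    exact hsum
  set K := AlgebraicClosure (ZMod p) with hK
  set ρK := bcRepG K ρ with hρK
  have hs : (ρK x - 1) ^ (p ^ n - 1) = 0 := by
    show ((ρ x).baseChange K - 1) ^ (p ^ n - 1) = 0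
    rw [← LinearMap.baseChange_one (ZMod p) (Additive H), ← LinearMap.baseChange_sub,
      ← LinearMap.baseChange_pow, hpow, LinearMap.baseChange_zero]
  have hact : ∃ g ∈ Q, ρK ⁅g, x ^ (p ^ (n - 1))⁆ ≠ 1 := by
    obtain ⟨g, hg, hgy⟩ := hnt
    refine ⟨g, hg, ?_⟩
    intro h
    apply hgy
    have h1 := bcRepG_eq_one K ρ _ h
    ext v
    have h2 := congrArg (fun f => f (Additive.ofMul v)) h1
    simp only [Module.End.one_apply] at h2
    rw [hρ] at h2
    exact Additive.ofMul.injective h2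
  have hxp : x ^ (p ^ n) = 1 := by rw [← hord]; exact pow_orderOf_eq_one x
  have hc := core (K := K) hpq A Q x (K ⊗[ZMod p] Additive H) ρK hQ hQx n hn hxp hact (p ^ n - 1) hs
  rcases hc with h | ⟨n₀, m, h1, h2, h3, h4, h5, h6⟩
  · have := Nat.one_le_pow n p hpp.pos
    omega
  · exact h5 (hNE ⟨n₀, m, h1, h3, h4⟩)

/-- Theorem B in the form needed for exponent arguments: in the non-exceptional case the
norm map of `x` on an elementary abelian `p`-group is nonzero. -/
theorem norm_ne_one_B {A : Type*} [Group A] [Finite A] {H : Type u} [Group H] [Finite H]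
    (hcomm : ∀ a b : H, a * b = b * a) (p : ℕ) [hp : Fact p.Prime] (hexp : ∀ x : H, x ^ p = 1)
    (φ : A →* MulAut H) (x : A) (n : ℕ) (hn : 1 ≤ n) (hord : orderOf x = p ^ n)
    (q : ℕ) [hq : Fact q.Prime] (hpq : p ≠ q) (Q : Subgroup A) (hQ : IsPGroup q Q)
    (hQx : ∀ g ∈ Q, x * g * x⁻¹ ∈ Q)
    (hnt : ∃ g ∈ Q, φ ⁅g, x ^ (p ^ (n - 1))⁆ ≠ 1)
    (hNE : (∃ n₀ m : ℕ, 1 ≤ n₀ ∧ 1 ≤ m ∧ p ^ n₀ - 1 = q ^ m) → ∀ a ∈ Q, ∀ b ∈ Q, a * b = b * a) :
    ∃ v : H, nprod (fun i => φ (x ^ i) v) (orderOf x) ≠ 1 := by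
  classical
  letI : CommGroup H := { (inferInstance : Group H) with mul_comm := hcomm }
  letI : Module (ZMod p) (Additive H) := AddCommGroup.zmodModule (n := p) (by
    intro x
    show Additive.ofMul ((Additive.toMul x) ^ p) = 0
    rw [hexp]
    rfl)
  exact norm_ne_one_B_module p φ x n hn hord q hpq Q hQ hQx hnt hNE

end Cfsg.Agent.H1.HHMod
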