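import Mathlib
import Cfsg.Agent.H1.HHModP

/-! Theorem B and exponents: elements of larger order in `x O_p(G)`. -/

set_option linter.style.haveILetI false
set_option linter.unusedVariables false

namespace Cfsg.Agent.H1.HHMod
open Cfsg Cfsg.Agent.Lib.Lead.PSolvable Cfsg.Agent.H1 Cfsg.Agent.H1.HHAb Module
open scoped commutatorElement

universe u

/-- a nilpotent endomorphism with one-dimensional kernel, `g^P = 0`, `g^(P-1) ≠ 0`, lives on a
space of dimension `P`. -/
theorem finrank_eq_of_ker_one {K : Type*} [Field K] {V : Type*} [AddCommGroup V] [Module K V]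
    [FiniteDimensional K V] (g : Module.End K V) (P : ℕ) (hP : 1 ≤ P) (h0 : g ^ P = 0)
    (h1 : g ^ (P - 1) ≠ 0) (hk : finrank K (LinearMap.ker g) = 1) : finrank K V = P := by
  have hle : ∀ j : ℕ, finrank K (LinearMap.ker (g ^ (j + 1))) ≤ finrank K (LinearMap.ker (g ^ j)) + 1 := by
    intro j
    -- restrict g to ker g^(j+1) → ker g^j
    have hmaps : ∀ v ∈ LinearMap.ker (g ^ (j + 1)), g v ∈ LinearMap.ker (g ^ j) := by
      intro v hv
      rw [LinearMap.mem_ker] at hv ⊢
      rw [← Module.End.mul_apply, ← pow_succ]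
      exact hv
    set r : LinearMap.ker (g ^ (j + 1)) →ₗ[K] LinearMap.ker (g ^ j) :=
      (g.domRestrict (LinearMap.ker (g ^ (j + 1)))).codRestrict (LinearMap.ker (g ^ j))
        (fun v => hmaps v v.2) with hr
    have hrk := LinearMap.finrank_range_add_finrank_ker r
    have h2 : finrank K (LinearMap.ker r) ≤ 1 := by
      refine le_of_le_of_eq ?_ hk
      set ι : LinearMap.ker r →ₗ[K] LinearMap.ker g :=
        ((LinearMap.ker (g ^ (j + 1))).subtype.domRestrict (LinearMap.ker r)).codRestrict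
          (LinearMap.ker g) (fun v => by
            have := v.2
            rw [LinearMap.mem_ker] at this ⊢
            have h3 := congrArg Subtype.val this
            exact h3) with hι
      apply LinearMap.finrank_le_finrank_of_injective (f := ι)
      intro a b hab
      have := congrArg Subtype.val hab
      exact Subtype.ext (Subtype.ext this)
    have h3 : finrank K (LinearMap.range r) ≤ finrank K (LinearMap.ker (g ^ j)) :=
      Submodule.finrank_le _
    omega
  have hlt : ∀ j : ℕ, j < P → LinearMap.ker (g ^ j) ≠ LinearMap.ker (g ^ (j + 1)) := by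
    intro j hj heq
    have := Module.End.ker_pow_constant heq (P - j)
    rw [show j + (P - j) = P by omega, h0, LinearMap.ker_zero] at this
    apply h1
    have hj0 : g ^ j = 0 := LinearMap.ker_eq_top.mp this
    have : P - 1 = j + (P - 1 - j) := by omega
    rw [this, pow_add, hj0, zero_mul]
  have hmono : ∀ j : ℕ, LinearMap.ker (g ^ j) ≤ LinearMap.ker (g ^ (j + 1)) := by
    intro j v hv
    rw [LinearMap.mem_ker] at hv ⊢
    rw [pow_succ', Module.End.mul_apply, hv, map_zero]
  have hge : ∀ j : ℕ, j ≤ P → finrank K (LinearMap.ker (g ^ j)) = j := by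
    intro j
    induction j with
    | zero =>
      intro _
      rw [pow_zero, Module.End.one_eq_id, LinearMap.ker_id, finrank_bot]
    | succ j ih =>
      intro hj
      have h2 := ih (by omega)
      have h3 := hle j
      have h4 : finrank K (LinearMap.ker (g ^ j)) < finrank K (LinearMap.ker (g ^ (j + 1))) :=
        Submodule.finrank_lt_finrank_of_lt (lt_of_le_of_ne (hmono j) (hlt j (by omega)))
      omega
  have := hge P le_rfl
  rw [h0, LinearMap.ker_zero, finrank_top] at this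
  exact this


/-- non-exceptional hypothesis for Theorem B -/
def NE (p : ℕ) (G : Type*) [Group G] : Prop :=
  ∀ q : ℕ, q.Prime → q ≠ p → (∃ n₀ m : ℕ, 1 ≤ n₀ ∧ 1 ≤ m ∧ p ^ n₀ - 1 = q ^ m) →
    ∀ Q : Subgroup G, IsPGroup q Q → ∀ a ∈ Q, ∀ b ∈ Q, a * b = b * a

theorem NE.quotient {p : ℕ} {G : Type u} [Group G] [Finite G] (h : NE p G) (N : Subgroup G) [N.Normal] :
    NE p (G ⧸ N) := by
  intro q hq hqp hex U hU a ha b hb
  haveI : Fact q.Prime := ⟨hq⟩
  obtain ⟨V, hV, rfl⟩ := Cfsg.Agent.H1.HHAb.exists_pgroup_map_eq N q U hU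
  obtain ⟨a', ha', rfl⟩ := ha
  obtain ⟨b', hb', rfl⟩ := hb
  rw [← map_mul, ← map_mul, h q hq hqp hex V hV a' ha' b' hb']

/-- the key step with Theorem B: the norm of some element of `O_p(G)` is not in the Frattini
subgroup -/
theorem keyB_norm {G : Type u} [Group G] [Finite G] {p : ℕ} [hp : Fact p.Prime]
    (hsol : IsPSolvable p G) (hbot : pPrimeCore p G = ⊥)
    (hNE : NE p (G ⧸ pCore p G))
    (x : G) (hx : ∃ k, x ^ p ^ k = 1) (hxB : x ∉ pCore p G) :
    ∃ u : ↥(pCore p G), QuotientGroup.mk' (frattini ↥(pCore p G))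
      (nprod (fun i => MulAut.conjNormal (x ^ i) u) (orderOf (QuotientGroup.mk' (pCore p G) x))) ≠ 1 := by
  classical
  have hpp : p.Prime := hp.out
  have hBp : IsPGroup p ↥(pCore p G) := Cfsg.Agent.H1.pCore_isPGroup p
  have hc : Subgroup.centralizer ((pCore p G : Subgroup G) : Set G) ≤ pCore p G := centralizer_pCore_le hsol hbot
  have hBmax : ∀ N : Subgroup G, N.Normal → IsPGroup p ↥N → N ≤ pCore p G :=
    fun N hN hNp => Cfsg.Agent.H1.le_pCore hN hNp
  have hsolA : IsPSolvable p (G ⧸ pCore p G) := IsPSolvable.quotient (pCore p G) hsol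
  have hOpA : pCore p (G ⧸ pCore p G) = ⊥ := Cfsg.Agent.Lead.ExpSix.pCore_quotient_self_eq_bot (pCore p G) rfl
  set xb : G ⧸ pCore p G := QuotientGroup.mk' (pCore p G) x with hxb
  have hxb1 : xb ≠ 1 := by
    intro h
    exact hxB ((QuotientGroup.eq_one_iff x).1 h)
  obtain ⟨k, hk⟩ := hx
  have hxbk : xb ^ p ^ k = 1 := by rw [hxb, ← map_pow, hk, map_one]
  obtain ⟨m, hmk, hm⟩ := (Nat.dvd_prime_pow hpp).1 (orderOf_dvd_of_pow_eq_one hxbk)
  have hm1 : 1 ≤ m := by
    rcases Nat.eq_zero_or_pos m with h | h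
    · rw [h, pow_zero, orderOf_eq_one_iff] at hm
      exact absurd hm hxb1
    · exact h
  obtain ⟨q, hqf, Qb, hpq, hQbq, hQbx, hnt⟩ := exists_q_sub p hsolA hOpA xb m hm1 hm
  set φ := fqActQ (pCore p G) hBp with hφ
  have hnt' : ∃ g ∈ Qb, φ ⁅g, xb ^ (p ^ (m - 1))⁆ ≠ 1 := by
    obtain ⟨g, hg, hgy⟩ := hnt
    refine ⟨g, hg, ?_⟩
    intro h
    exact hgy (fqActQ_faithful (pCore p G) hBp hBmax hc _ h)
  obtain ⟨v, hv⟩ := norm_ne_one_B (fq_comm (pCore p G) hBp) p (fq_exp (pCore p G) hBp) φ xb m hm1 hm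
    q hpq Qb hQbq hQbx hnt' (fun hex => hNE q hqf.out (Ne.symm hpq) hex Qb hQbq)
  obtain ⟨u, rfl⟩ := QuotientGroup.mk_surjective v
  refine ⟨u, ?_⟩
  have h1 : ∀ i : ℕ, φ (xb ^ i) (QuotientGroup.mk u) = QuotientGroup.mk (MulAut.conjNormal (x ^ i) u) := by
    intro i
    have : xb ^ i = QuotientGroup.mk (x ^ i) := by
      rw [hxb]; rfl
    rw [this, hφ, fqActQ_mk]
  have h2 : nprod (fun i => φ (xb ^ i) (QuotientGroup.mk u)) (orderOf xb) =
      QuotientGroup.mk' (frattini ↥(pCore p G)) (nprod (fun i => MulAut.conjNormal (x ^ i) u) (orderOf xb)) := by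
    rw [map_nprod]
    apply nprod_congr
    intro i _
    exact h1 i
  rw [h2] at hv
  exact hv

/-- the key step with Theorem B -/
theorem keyB {G : Type u} [Group G] [Finite G] {p : ℕ} [hp : Fact p.Prime]
    (hsol : IsPSolvable p G) (hbot : pPrimeCore p G = ⊥)
    (hNE : NE p (G ⧸ pCore p G))
    (x : G) (hx : ∃ k, x ^ p ^ k = 1) (hxB : x ∉ pCore p G) :
    ∃ g : G, (∃ k, g ^ p ^ k = 1) ∧ g ^ orderOf (QuotientGroup.mk' (pCore p G) x) ≠ 1 := by
  classical
  have hBp : IsPGroup p ↥(pCore p G) := Cfsg.Agent.H1.pCore_isPGroup p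
  obtain ⟨u, hv⟩ := keyB_norm hsol hbot hNE x hx hxB
  obtain ⟨k, hk⟩ := hx
  set xb : G ⧸ pCore p G := QuotientGroup.mk' (pCore p G) x with hxb
  have h3 : nprod (fun i => MulAut.conjNormal (x ^ i) u) (orderOf xb) ≠ 1 := by
    intro h
    apply hv
    rw [h, map_one]
  have h4 : ((nprod (fun i => MulAut.conjNormal (x ^ i) u) (orderOf xb) : ↥(pCore p G)) : G) =
      nprod (fun i => x ^ i * (u : G) * (x ^ i)⁻¹) (orderOf xb) := by
    have := map_nprod (pCore p G).subtype (fun i => MulAut.conjNormal (x ^ i) u) (orderOf xb)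
    rw [Subgroup.coe_subtype] at this
    rw [this]
    apply nprod_congr
    intro i _
    show (((MulAut.conjNormal (x ^ i) u : ↥(pCore p G))) : G) = _
    rw [MulAut.conjNormal_apply]
  have h5 : nprod (fun i => x ^ i * (u : G) * (x ^ i)⁻¹) (orderOf xb) ≠ 1 := by
    rw [← h4]
    intro h
    exact h3 (Subtype.ext h)
  have h6 := mul_pow_eq_nprod (u : G) x (orderOf xb)
  by_cases hxo : x ^ orderOf xb = 1
  · refine ⟨(u : G) * x, ?_, ?_⟩
    · have hX : IsPGroup p (Subgroup.zpowers x) := by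
        intro y
        obtain ⟨n, hn⟩ := Subgroup.mem_zpowers_iff.1 y.2
        refine ⟨k, Subtype.ext ?_⟩
        rw [Subgroup.coe_pow, Subgroup.coe_one, ← hn, ← zpow_natCast, ← zpow_mul, mul_comm, zpow_mul,
          zpow_natCast, hk, one_zpow]
      have hsup : IsPGroup p ↥(Subgroup.zpowers x ⊔ pCore p G) := IsPGroup.to_sup_of_normal_right hX hBp
      have hmem : (u : G) * x ∈ Subgroup.zpowers x ⊔ pCore p G :=
        Subgroup.mul_mem _ (Subgroup.mem_sup_right u.2) (Subgroup.mem_sup_left (Subgroup.mem_zpowers x))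
      obtain ⟨j, hj⟩ := hsup ⟨(u : G) * x, hmem⟩
      refine ⟨j, ?_⟩
      have := congrArg Subtype.val hj
      simpa using this
    · rw [h6, hxo, mul_one]
      exact h5
  · exact ⟨x, ⟨k, hk⟩, hxo⟩

end Cfsg.Agent.H1.HHMod
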