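import Mathlib
import Cfsg.Agent.H1.HHModQ

/-! counting an elementary abelian group with a cyclic Jordan-block action -/

namespace Cfsg.Agent.H1.HHMod
open Module Cfsg.Agent.H1.FrobFree Cfsg.Agent.H1.FrobFix Cfsg.Agent.H1.JordanNil Cfsg.Agent.H1.HHAb

universe u

theorem actLin_pow {H : Type*} [CommGroup H] (ℓ : ℕ) [Module (ZMod ℓ) (Additive H)] (τ : MulAut H)
    (i : ℕ) : actLin ℓ (τ ^ i) = (actLin ℓ τ) ^ i := by
  induction i with
  | zero =>
    refine LinearMap.ext fun v => ?_
    rw [pow_zero, pow_zero, actLin_apply, MulAut.one_apply, Module.End.one_apply]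
    rfl
  | succ i ih =>
    refine LinearMap.ext fun v => ?_
    rw [pow_succ, pow_succ, Module.End.mul_apply, ← ih, actLin_apply, actLin_apply, actLin_apply,
      MulAut.mul_apply]
    rfl

/-- an elementary abelian `p`-group with an automorphism of order dividing `p` whose fixed points
have order `p` and whose norm map is nontrivial has order `p^p`. -/
theorem card_eq_of_fix {H : Type u} [CommGroup H] [Finite H] (p : ℕ) [hp : Fact p.Prime]
    [Module (ZMod p) (Additive H)] (τ : MulAut H) (hτ : τ ^ p = 1)
    (hfix : Nat.card {h : H // τ h = h} = p)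
    (hN : ∃ h : H, nprod (fun i => (τ ^ i) h) p ≠ 1) : Nat.card H = p ^ p := by
  classical
  have hpp : p.Prime := hp.out
  haveI : Finite (Additive H) := inferInstanceAs (Finite H)
  haveI : FiniteDimensional (ZMod p) (Additive H) := Module.Finite.of_finite
  set Tl : Module.End (ZMod p) (Additive H) := actLin p τ with hTl
  set g := Tl - 1 with hg
  have hTlp : Tl ^ p = 1 := by
    rw [hTl, ← actLin_pow, hτ]
    refine LinearMap.ext fun v => ?_
    rw [actLin_apply, MulAut.one_apply, Module.End.one_apply]
    rfl
  have hg0 : g ^ p = 0 := by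
    rw [hg, sub_one_pow_char p Tl, hTlp, sub_self]
  have hgsum : g ^ (p - 1) = ∑ i ∈ Finset.range p, Tl ^ i := by
    have := geom_sum_eq_pow (K := ZMod p) p Tl 1
    rw [pow_one] at this
    exact this.symm
  have key : ∀ (w : Additive H) (m : ℕ), (∑ i ∈ Finset.range m, (Tl ^ i) w) =
      Additive.ofMul (nprod (fun i => (τ ^ i) (Additive.toMul w)) m) := by
    intro w m
    induction m with
    | zero => simp [nprod_zero]
    | succ m ih =>
      rw [Finset.sum_range_succ, ih, nprod_succ, hTl, ← actLin_pow, actLin_apply]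
      rfl
  have hg1 : g ^ (p - 1) ≠ 0 := by
    obtain ⟨h, hh⟩ := hN
    intro h0
    apply hh
    have h1 := key (Additive.ofMul h) p
    rw [← LinearMap.sum_apply, ← hgsum, h0, LinearMap.zero_apply] at h1
    have : Additive.ofMul (nprod (fun i => (τ ^ i) h) p) = Additive.ofMul 1 := h1.symm
    exact Additive.ofMul.injective this
  have hker : Nat.card (LinearMap.ker g) = p := by
    refine Eq.trans ?_ hfix
    apply Nat.card_congr
    refine ⟨fun v => ⟨Additive.toMul (v : Additive H), ?_⟩, fun h => ⟨Additive.ofMul (h : H), ?_⟩, ?_, ?_⟩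
    · have h1 : g (v : Additive H) = 0 := LinearMap.mem_ker.mp v.2
      have h2 : Tl (v : Additive H) = (v : Additive H) := by
        have h3 : (Tl - 1) (v : Additive H) = 0 := h1
        rw [LinearMap.sub_apply, Module.End.one_apply, sub_eq_zero] at h3
        exact h3
      rw [hTl, actLin_apply] at h2
      exact Additive.ofMul.injective h2
    · rw [LinearMap.mem_ker]
      show (Tl - 1) (Additive.ofMul (h : H)) = 0
      rw [LinearMap.sub_apply, Module.End.one_apply, sub_eq_zero, hTl, actLin_apply]
      exact congrArg Additive.ofMul h.2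
    · intro v; rfl
    · intro h; rfl
  have hk1 : finrank (ZMod p) (LinearMap.ker g) = 1 := by
    have h1 := Module.natCard_eq_pow_finrank (K := ZMod p) (V := LinearMap.ker g)
    rw [hker, Nat.card_zmod] at h1
    have h2 : p ^ 1 = p ^ finrank (ZMod p) (LinearMap.ker g) := by rw [pow_one]; exact h1
    exact (Nat.pow_right_injective hpp.two_le h2).symm
  have hfr := finrank_eq_of_ker_one g p hpp.one_le hg0 hg1 hk1
  have h3 := Module.natCard_eq_pow_finrank (K := ZMod p) (V := Additive H)
  rw [hfr, Nat.card_zmod] at h3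
  exact h3

end Cfsg.Agent.H1.HHMod
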