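import Mathlib
import Cfsg.Agent.H1.HHModR

/-! recognizing `C_p ≀ C_p` from a minimality condition -/

set_option linter.style.haveILetI false
set_option linter.unusedVariables false

namespace Cfsg.Agent.H1.HHMod
open Module Cfsg.Agent.H1.HHAb

universe u

/-- the structure of `C_p ≀ C_p` in elementary terms -/
def WrStruct (p : ℕ) (W : Type*) [Group W] : Prop :=
  ∃ (B : Subgroup W) (t : W), B.Normal ∧ IsMulCommutative B ∧ (∀ b ∈ B, b ^ p = 1) ∧
    Nat.card B = p ^ p ∧ orderOf t = p ∧ t ∉ B ∧ Nat.card W = p ^ (p + 1) ∧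
    Nat.card ↥(B ⊓ Subgroup.centralizer ({t} : Set W)) = p

theorem wrStruct_of_min {W : Type u} [Group W] [Finite W] (p : ℕ) [hp : Fact p.Prime]
    (B : Subgroup W) [hBn : B.Normal]
    (hcomm : ∀ a ∈ B, ∀ b ∈ B, a * b = b * a) (hexp : ∀ b ∈ B, b ^ p = 1) (t₀ : W)
    (ht₀p : t₀ ^ p ∈ B) (ht₀ : t₀ ∉ B) (hgen : B ⊔ Subgroup.zpowers t₀ = ⊤)
    (h1 : ∃ b ∈ B, nprod (fun i => t₀ ^ i * b * (t₀ ^ i)⁻¹) p ≠ 1)
    (h2 : ∀ L : Subgroup W, L ≤ B → L.Normal → L ≠ ⊥ →
      ∀ b ∈ B, nprod (fun i => t₀ ^ i * b * (t₀ ^ i)⁻¹) p ∈ L) :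
    WrStruct p W := by
  classical
  have hpp : p.Prime := hp.out
  set N : W → W := fun b => nprod (fun i => t₀ ^ i * b * (t₀ ^ i)⁻¹) p with hN
  have hcjmem : ∀ b ∈ B, ∀ i : ℕ, t₀ ^ i * b * (t₀ ^ i)⁻¹ ∈ B := fun b hb i => hBn.conj_mem b hb _
  have hNmem : ∀ b ∈ B, N b ∈ B := fun b hb => nprod_mem B _ (hcjmem b hb) p
  have htp : ∀ b ∈ B, t₀ ^ p * b * (t₀ ^ p)⁻¹ = b := by
    intro b hb
    rw [hcomm _ ht₀p b hb, mul_inv_cancel_right]
  -- N is multiplicative on B
  have hNmul : ∀ a ∈ B, ∀ b ∈ B, N (a * b) = N a * N b := by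
    intro a ha b hb
    show nprod (fun i => t₀ ^ i * (a * b) * (t₀ ^ i)⁻¹) p = _
    have e : (fun i : ℕ => t₀ ^ i * (a * b) * (t₀ ^ i)⁻¹) =
        fun i => (t₀ ^ i * a * (t₀ ^ i)⁻¹) * (t₀ ^ i * b * (t₀ ^ i)⁻¹) := by
      funext i; group
    rw [e, nprod_mul]
    intro i j
    exact hcomm _ (hcjmem b hb i) _ (hcjmem a ha j)
  have hN1 : N 1 = 1 := by
    show nprod (fun i => t₀ ^ i * 1 * (t₀ ^ i)⁻¹) p = 1
    have e : (fun i : ℕ => t₀ ^ i * 1 * (t₀ ^ i)⁻¹) = fun _ => (1 : W) := by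
      funext i; group
    rw [e, nprod_one]
  have hNpow : ∀ b ∈ B, ∀ k : ℕ, N (b ^ k) = N b ^ k := by
    intro b hb k
    induction k with
    | zero => rw [pow_zero, pow_zero, hN1]
    | succ k ih => rw [pow_succ, pow_succ, hNmul _ (B.pow_mem hb k) b hb, ih]
  have hNinv : ∀ b ∈ B, N b⁻¹ = (N b)⁻¹ := by
    intro b hb
    have := hNmul b⁻¹ (B.inv_mem hb) b hb
    rw [inv_mul_cancel, hN1] at this
    exact eq_inv_of_mul_eq_one_left this.symm
  -- N b is fixed by t₀
  have hNfix : ∀ b ∈ B, t₀ * N b = N b * t₀ := by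
    intro b hb
    set f : ℕ → W := fun i => t₀ ^ i * b * (t₀ ^ i)⁻¹ with hf
    have hf0 : f 0 = b := by simp [hf]
    have hfp : f p = b := htp b hb
    have e1 : t₀ * N b * t₀⁻¹ = nprod (fun i => f (i + 1)) p := by
      have := map_nprod (MulAut.conj t₀).toMonoidHom f p
      have e : (MulAut.conj t₀).toMonoidHom (nprod f p) = t₀ * N b * t₀⁻¹ := rfl
      rw [← e, this]
      apply nprod_congr
      intro i _
      show t₀ * (t₀ ^ i * b * (t₀ ^ i)⁻¹) * t₀⁻¹ = t₀ ^ (i + 1) * b * (t₀ ^ (i + 1))⁻¹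
      rw [pow_succ']; group
    have e3 : f 0 * nprod (fun i => f (i + 1)) p = nprod f p * f p := by
      rw [← nprod_succ', nprod_succ]
    rw [hf0, hfp] at e3
    have e4 : nprod f p * b = b * nprod f p := hcomm _ (hNmem b hb) b hb
    rw [e4] at e3
    have e5 : nprod (fun i => f (i + 1)) p = N b := mul_left_cancel e3
    rw [e5] at e1
    calc t₀ * N b = (t₀ * N b * t₀⁻¹) * t₀ := by group
      _ = N b * t₀ := by rw [e1]
  obtain ⟨b₁, hb₁, hz1⟩ := h1
  set z := N b₁ with hz
  have hzB : z ∈ B := hNmem b₁ hb₁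
  have hzt : t₀ * z = z * t₀ := hNfix b₁ hb₁
  have hzp : z ^ p = 1 := hexp z hzB
  have hzord : orderOf z = p := orderOf_eq_prime hzp hz1
  -- the fixed points
  set C : Subgroup W := B ⊓ Subgroup.centralizer ({t₀} : Set W) with hC
  have hCmem : ∀ c : W, c ∈ C ↔ c ∈ B ∧ t₀ * c = c * t₀ := by
    intro c
    rw [hC, Subgroup.mem_inf, Subgroup.mem_centralizer_iff]
    constructor
    · rintro ⟨h1, h2⟩
      exact ⟨h1, h2 t₀ rfl⟩
    · rintro ⟨h1, h2⟩
      refine ⟨h1, ?_⟩
      intro w hw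
      rw [Set.mem_singleton_iff] at hw
      rw [hw]; exact h2
  have hzC : z ∈ C := (hCmem z).mpr ⟨hzB, hzt⟩
  have hcentral : ∀ c ∈ C, ∀ g : W, g * c = c * g := by
    intro c hc g
    have hc' := (hCmem c).mp hc
    have h3 : B ⊔ Subgroup.zpowers t₀ ≤ Subgroup.centralizer ({c} : Set W) := by
      apply sup_le
      · intro b hb
        rw [Subgroup.mem_centralizer_iff]
        intro w hw
        rw [Set.mem_singleton_iff] at hw
        rw [hw]
        exact hcomm c hc'.1 b hb
      · rw [Subgroup.zpowers_le, Subgroup.mem_centralizer_iff]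
        intro w hw
        rw [Set.mem_singleton_iff] at hw
        rw [hw]
        exact hc'.2.symm
    have h4 : g ∈ Subgroup.centralizer ({c} : Set W) := h3 (by rw [hgen]; trivial)
    rw [Subgroup.mem_centralizer_iff] at h4
    exact (h4 c rfl).symm
  have hCz : ∀ c ∈ C, c ≠ 1 → z ∈ Subgroup.zpowers c := by
    intro c hc hc1
    have hc' := (hCmem c).mp hc
    apply h2 (Subgroup.zpowers c) (by rw [Subgroup.zpowers_le]; exact hc'.1) ?_ ?_ b₁ hb₁
    · constructor
      intro n hn g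
      obtain ⟨k, rfl⟩ := Subgroup.mem_zpowers_iff.mp hn
      have h3 : Commute g c := hcentral c hc g
      have h4 : g * c ^ k * g⁻¹ = c ^ k := by
        rw [(h3.zpow_right k).eq, mul_inv_cancel_right]
      rw [h4]
      exact Subgroup.zpow_mem_zpowers c k
    · intro h
      apply hc1
      have : c ∈ Subgroup.zpowers c := Subgroup.mem_zpowers c
      rw [h, Subgroup.mem_bot] at this
      exact this
  have hCeq : C = Subgroup.zpowers z := by
    apply le_antisymm
    · intro c hc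
      by_cases hc1 : c = 1
      · rw [hc1]; exact Subgroup.one_mem _
      have hc' := (hCmem c).mp hc
      have hcord : orderOf c = p := orderOf_eq_prime (hexp c hc'.1) hc1
      have hle : Subgroup.zpowers z ≤ Subgroup.zpowers c := by
        rw [Subgroup.zpowers_le]; exact hCz c hc hc1
      have hcard : Nat.card (Subgroup.zpowers c) ≤ Nat.card (Subgroup.zpowers z) := by
        rw [Nat.card_zpowers, Nat.card_zpowers, hcord, hzord]
      have := Subgroup.eq_of_le_of_card_ge hle hcard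
      rw [this]
      exact Subgroup.mem_zpowers c
    · rw [Subgroup.zpowers_le]; exact hzC
  have hCcard : Nat.card C = p := by rw [hCeq, Nat.card_zpowers, hzord]
  -- the order of B
  have hBcard : Nat.card B = p ^ p := by
    letI : CommGroup ↥B := { (inferInstance : Group ↥B) with
      mul_comm := fun a b => Subtype.ext (hcomm a a.2 b b.2) }
    letI : Module (ZMod p) (Additive ↥B) := AddCommGroup.zmodModule (n := p) (by
      intro x
      show Additive.ofMul ((Additive.toMul x) ^ p) = 0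
      have : (Additive.toMul x) ^ p = 1 := Subtype.ext (hexp _ (Additive.toMul x).2)
      rw [this]
      rfl)
    set τ : MulAut ↥B := MulAut.conjNormal t₀ with hτ
    have hτi : ∀ (i : ℕ) (b : ↥B), (((τ ^ i) b : ↥B) : W) = t₀ ^ i * (b : W) * (t₀ ^ i)⁻¹ := by
      intro i b
      rw [hτ, ← map_pow, MulAut.conjNormal_apply]
    have hτp : τ ^ p = 1 := by
      ext b
      rw [hτi, MulAut.one_apply]
      exact htp b b.2
    have hfix : Nat.card {h : ↥B // τ h = h} = p := by
      rw [← hCcard]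
      apply Nat.card_congr
      refine ⟨fun h => ⟨(h : ↥B), ?_⟩, fun c => ⟨⟨(c : W), ((hCmem c).mp c.2).1⟩, ?_⟩, ?_, ?_⟩
      · rw [hCmem]
        refine ⟨(h : ↥B).2, ?_⟩
        have h3 := congrArg Subtype.val h.2
        have h4 := hτi 1 (h : ↥B)
        rw [pow_one, pow_one] at h4
        rw [h4] at h3
        calc t₀ * ((h : ↥B) : W) = (t₀ * ((h : ↥B) : W) * t₀⁻¹) * t₀ := by group
          _ = ((h : ↥B) : W) * t₀ := by rw [h3]
      · apply Subtype.ext
        have h4 := hτi 1 ⟨(c : W), ((hCmem c).mp c.2).1⟩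
        rw [pow_one, pow_one] at h4
        rw [h4]
        show t₀ * (c : W) * t₀⁻¹ = (c : W)
        rw [((hCmem c).mp c.2).2, mul_inv_cancel_right]
      · intro h; rfl
      · intro c; rfl
    have hNτ : ∃ h : ↥B, nprod (fun i => (τ ^ i) h) p ≠ 1 := by
      refine ⟨⟨b₁, hb₁⟩, ?_⟩
      intro h
      apply hz1
      have h3 := congrArg Subtype.val h
      have h4 := map_nprod B.subtype (fun i => (τ ^ i) (⟨b₁, hb₁⟩ : ↥B)) p
      rw [Subgroup.coe_subtype] at h4
      rw [h4] at h3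
      rw [← Subgroup.coe_one B, ← h3]
      apply nprod_congr
      intro i _
      exact (hτi i ⟨b₁, hb₁⟩).symm
    exact card_eq_of_fix p τ hτp hfix hNτ
  -- the element t
  have htpC : t₀ ^ p ∈ C := by
    rw [hCmem]
    refine ⟨ht₀p, ?_⟩
    rw [← pow_succ', ← pow_succ]
  rw [hCeq] at htpC
  obtain ⟨k, hk⟩ : ∃ k : ℕ, z ^ k = t₀ ^ p := by
    rw [mem_zpowers_iff_mem_range_orderOf] at htpC
    obtain ⟨k, _, hk⟩ := Finset.mem_image.mp htpC
    exact ⟨k, hk⟩
  set u := (b₁ ^ k)⁻¹ with hu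
  have huB : u ∈ B := B.inv_mem (B.pow_mem hb₁ k)
  set t := u * t₀ with ht
  have htB : t ∉ B := by
    intro h
    apply ht₀
    have : t₀ = u⁻¹ * t := by rw [ht]; group
    rw [this]
    exact B.mul_mem (B.inv_mem huB) h
  have htpow : t ^ p = 1 := by
    rw [ht, mul_pow_eq_nprod u t₀ p]
    show N u * t₀ ^ p = 1
    rw [hu, hNinv _ (B.pow_mem hb₁ k), hNpow b₁ hb₁ k, ← hk, inv_mul_cancel]
  have ht1 : t ≠ 1 := by
    intro h
    apply htB
    rw [h]; exact B.one_mem
  have htord : orderOf t = p := orderOf_eq_prime htpow ht1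
  have hCt : B ⊓ Subgroup.centralizer ({t} : Set W) = C := by
    ext c
    rw [hCmem, Subgroup.mem_inf, Subgroup.mem_centralizer_iff]
    constructor
    · rintro ⟨hcB, h3⟩
      refine ⟨hcB, ?_⟩
      have h4 := h3 t rfl
      rw [ht] at h4
      have h5 : c * u = u * c := hcomm c hcB u huB
      have h6 : u * (t₀ * c) = u * (c * t₀) := by
        calc u * (t₀ * c) = u * t₀ * c := by group
          _ = c * (u * t₀) := h4
          _ = (c * u) * t₀ := by group
          _ = u * (c * t₀) := by rw [h5]; group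
      exact mul_left_cancel h6
    · rintro ⟨hcB, h3⟩
      refine ⟨hcB, ?_⟩
      intro w hw
      rw [Set.mem_singleton_iff] at hw
      rw [hw, ht]
      have h5 : c * u = u * c := hcomm c hcB u huB
      calc u * t₀ * c = u * (t₀ * c) := by group
        _ = u * (c * t₀) := by rw [h3]
        _ = (u * c) * t₀ := by group
        _ = c * (u * t₀) := by rw [← h5]; group
  -- the order of W
  have hWcard : Nat.card W = p ^ (p + 1) := by
    have h3 := Subgroup.card_eq_card_quotient_mul_card_subgroup B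
    have h4 : Nat.card (W ⧸ B) = p := by
      set π := QuotientGroup.mk' B with hπ
      have h5 : Subgroup.zpowers (π t₀) = ⊤ := by
        have h6 : (B ⊔ Subgroup.zpowers t₀).map π = ⊤ := by
          rw [hgen, ← MonoidHom.range_eq_map, MonoidHom.range_eq_top]
          exact QuotientGroup.mk'_surjective B
        rw [Subgroup.map_sup, MonoidHom.map_zpowers] at h6
        have h7 : B.map π = ⊥ := by
          rw [eq_bot_iff]
          rintro _ ⟨b, hb, rfl⟩
          rw [Subgroup.mem_bot]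
          exact (QuotientGroup.eq_one_iff b).mpr hb
        rw [h7, bot_sup_eq] at h6
        exact h6
      have h8 : orderOf (π t₀) = p := by
        apply orderOf_eq_prime
        · rw [← map_pow]
          exact (QuotientGroup.eq_one_iff _).mpr ht₀p
        · intro h
          exact ht₀ ((QuotientGroup.eq_one_iff _).mp h)
      rw [← h8, ← Nat.card_zpowers, h5, Subgroup.card_top]
    rw [h3, h4, hBcard, pow_succ, mul_comm]
  refine ⟨B, t, hBn, ⟨⟨fun a b => Subtype.ext (hcomm a a.2 b b.2)⟩⟩, hexp, hBcard, htord, htB, hWcard, ?_⟩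
  rw [hCt, hCcard]

end Cfsg.Agent.H1.HHMod
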