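import Mathlib
import Cfsg.Agent.H1.HHModS

/-! a maximal normal subgroup with nonvanishing norm gives a `C_p ≀ C_p` quotient -/

set_option linter.style.haveILetI false
set_option linter.unusedVariables false

namespace Cfsg.Agent.H1.HHMod
open Module Cfsg.Agent.H1.HHAb

universe u

theorem exists_wr_quotient {P : Type u} [Group P] [Finite P] (p : ℕ) [hp : Fact p.Prime]
    (B Φ : Subgroup P) [hBn : B.Normal] [hΦn : Φ.Normal] (hΦB : Φ ≤ B)
    (hc : ∀ a ∈ B, ∀ b ∈ B, a * b * a⁻¹ * b⁻¹ ∈ Φ) (he : ∀ b ∈ B, b ^ p ∈ Φ)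
    (x : P) (hxp : x ^ p ∈ B) (hx : x ∉ B) (hgen : B ⊔ Subgroup.zpowers x = ⊤)
    (hu : ∃ u ∈ B, nprod (fun i => x ^ i * u * (x ^ i)⁻¹) p ∉ Φ) :
    ∃ (R : Subgroup P) (_ : R.Normal), WrStruct p (P ⧸ R) := by
  classical
  set 𝓡 : Set (Subgroup P) := {R | R.Normal ∧ Φ ≤ R ∧ R ≤ B ∧
    ∃ u ∈ B, nprod (fun i => x ^ i * u * (x ^ i)⁻¹) p ∉ R} with h𝓡
  have hfin : 𝓡.Finite := Set.toFinite 𝓡
  have hne : 𝓡.Nonempty := ⟨Φ, hΦn, le_rfl, hΦB, hu⟩
  obtain ⟨R, hRmax⟩ := hfin.exists_maximal hne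
  obtain ⟨hRn, hΦR, hRB, u, huB, huR⟩ := hRmax.prop
  haveI := hRn
  refine ⟨R, hRn, ?_⟩
  set π := QuotientGroup.mk' R with hπ
  have hπs : Function.Surjective π := QuotientGroup.mk'_surjective R
  set B' : Subgroup (P ⧸ R) := B.map π with hB'
  haveI hB'n : B'.Normal := Subgroup.Normal.map hBn π hπs
  have hπ1 : ∀ a : P, π a = 1 ↔ a ∈ R := fun a => QuotientGroup.eq_one_iff a
  have hNmap : ∀ b : P, nprod (fun i => π x ^ i * π b * (π x ^ i)⁻¹) p =
      π (nprod (fun i => x ^ i * b * (x ^ i)⁻¹) p) := by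
    intro b
    rw [map_nprod]
    apply nprod_congr
    intro i _
    rw [map_mul, map_mul, map_inv, map_pow]
  apply wrStruct_of_min p B' ?_ ?_ (π x) ?_ ?_ ?_ ?_ ?_
  · rintro _ ⟨a, ha, rfl⟩ _ ⟨b, hb, rfl⟩
    have h1 := hΦR (hc a ha b hb)
    rw [← hπ1, map_mul, map_mul, map_mul, map_inv, map_inv] at h1
    calc π a * π b = (π a * π b * (π a)⁻¹ * (π b)⁻¹) * (π b * π a) := by group
      _ = π b * π a := by rw [h1, one_mul]
  · rintro _ ⟨b, hb, rfl⟩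
    rw [← map_pow, hπ1]
    exact hΦR (he b hb)
  · rw [← map_pow]
    exact Subgroup.mem_map_of_mem π hxp
  · rintro ⟨b, hb, hbx⟩
    apply hx
    have h1 : π (b⁻¹ * x) = 1 := by rw [map_mul, map_inv, hbx, inv_mul_cancel]
    rw [hπ1] at h1
    have : x = b * (b⁻¹ * x) := by group
    rw [this]
    exact B.mul_mem hb (hRB h1)
  · rw [hB', ← MonoidHom.map_zpowers, ← Subgroup.map_sup, hgen, ← MonoidHom.range_eq_map,
      MonoidHom.range_eq_top]
    exact hπs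
  · refine ⟨π u, Subgroup.mem_map_of_mem π huB, ?_⟩
    rw [hNmap, Ne, hπ1]
    exact huR
  · intro L hLB hLn hLbot
    rintro _ ⟨b, hb, rfl⟩
    rw [hNmap]
    by_contra hcon
    set R' : Subgroup P := L.comap π with hR'
    have hRR' : R ≤ R' := by
      intro r hr
      rw [hR', Subgroup.mem_comap, (hπ1 r).mpr hr]
      exact L.one_mem
    have hR'mem : R' ∈ 𝓡 := by
      refine ⟨Subgroup.Normal.comap hLn π, hΦR.trans hRR', ?_, b, hb, hcon⟩
      intro a ha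
      have h1 : π a ∈ B' := hLB ha
      obtain ⟨b₂, hb₂, hb₂a⟩ := h1
      have h2 : π (b₂⁻¹ * a) = 1 := by rw [map_mul, map_inv, hb₂a, inv_mul_cancel]
      rw [hπ1] at h2
      have : a = b₂ * (b₂⁻¹ * a) := by group
      rw [this]
      exact B.mul_mem hb₂ (hRB h2)
    have h3 : R' ≤ R := hRmax.le_of_ge hR'mem hRR'
    apply hLbot
    rw [eq_bot_iff]
    intro l hl
    obtain ⟨a, rfl⟩ := hπs l
    rw [Subgroup.mem_bot, hπ1]
    exact h3 hl

end Cfsg.Agent.H1.HHMod
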