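import Mathlib
import Cfsg.Agent.H1.HHModT

/-! from a nonvanishing norm on the Frattini quotient of `O_p(G)` to a `C_p ≀ C_p` section -/

set_option linter.style.haveILetI false
set_option linter.unusedVariables false

namespace Cfsg.Agent.H1.HHMod
open Module Cfsg.Agent.H1.HHAb Cfsg.Agent.H1
open scoped commutatorElement

universe u

/-- some `p`-subgroup has a quotient with the structure of `C_p ≀ C_p` -/
def HasWr (p : ℕ) (G : Type*) [Group G] : Prop :=
  ∃ (K : Subgroup G), IsPGroup p K ∧ ∃ (R : Subgroup K) (_ : R.Normal), WrStruct p (K ⧸ R)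

theorem hasWr_of_norm {G : Type u} [Group G] [Finite G] (p : ℕ) [hp : Fact p.Prime]
    (B : Subgroup G) [hBn : B.Normal] (hB : IsPGroup p B)
    (x : G) (hx : ∃ k, x ^ p ^ k = 1) (hxp : x ^ p ∈ B) (hxB : x ∉ B)
    (hu : ∃ u : ↥B, QuotientGroup.mk' (frattini ↥B)
      (nprod (fun i => MulAut.conjNormal (x ^ i) u) p) ≠ 1) : HasWr p G := by
  classical
  obtain ⟨k, hk⟩ := hx
  set K : Subgroup G := B ⊔ Subgroup.zpowers x with hK
  have hBK : B ≤ K := le_sup_left
  have hxK : x ∈ K := (le_sup_right : Subgroup.zpowers x ≤ K) (Subgroup.mem_zpowers x)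
  have hKp : IsPGroup p K := by
    have hX : IsPGroup p (Subgroup.zpowers x) := by
      intro y
      obtain ⟨n, hn⟩ := Subgroup.mem_zpowers_iff.1 y.2
      refine ⟨k, Subtype.ext ?_⟩
      rw [Subgroup.coe_pow, Subgroup.coe_one, ← hn, ← zpow_natCast, ← zpow_mul, mul_comm, zpow_mul,
        zpow_natCast, hk, one_zpow]
    have := IsPGroup.to_sup_of_normal_right hX hB
    rwa [sup_comm] at this
  haveI hΦn : ((frattini ↥B).map B.subtype).Normal := frattini_map_normal B
  set ΦG : Subgroup G := (frattini ↥B).map B.subtype with hΦG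
  have hΦGB : ΦG ≤ B := Subgroup.map_subtype_le _
  have hΦmem : ∀ b : ↥B, (b : G) ∈ ΦG ↔ b ∈ frattini ↥B := by
    intro b
    constructor
    · rintro ⟨y, hy, hyb⟩
      have : y = b := Subtype.ext hyb
      rw [← this]; exact hy
    · intro h
      exact ⟨b, h, rfl⟩
  set B₁ : Subgroup K := B.subgroupOf K with hB₁
  set Φ₁ : Subgroup K := ΦG.subgroupOf K with hΦ₁
  haveI : B₁.Normal := Subgroup.Normal.subgroupOf hBn K
  haveI : Φ₁.Normal := Subgroup.Normal.subgroupOf hΦn K
  set x₁ : K := ⟨x, hxK⟩ with hx₁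
  obtain ⟨u, huN⟩ := hu
  have hres := exists_wr_quotient (P := ↥K) p B₁ Φ₁
    (by
      intro a ha
      rw [hB₁, Subgroup.mem_subgroupOf]
      rw [hΦ₁, Subgroup.mem_subgroupOf] at ha
      exact hΦGB ha)
    (by
      intro a ha b hb
      rw [hB₁, Subgroup.mem_subgroupOf] at ha hb
      rw [hΦ₁, Subgroup.mem_subgroupOf]
      have h1 : ⁅(⟨(a : G), ha⟩ : ↥B), ⟨(b : G), hb⟩⁆ ∈ frattini ↥B :=
        commutator_le_frattini hB (Subgroup.commutator_mem_commutator (Subgroup.mem_top _)
          (Subgroup.mem_top _))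
      have h2 := (hΦmem _).mpr h1
      exact h2)
    (by
      intro b hb
      rw [hB₁, Subgroup.mem_subgroupOf] at hb
      rw [hΦ₁, Subgroup.mem_subgroupOf]
      have h1 := pow_p_mem_frattini hB (⟨(b : G), hb⟩ : ↥B)
      have h2 := (hΦmem _).mpr h1
      exact h2)
    x₁
    (by
      rw [hB₁, Subgroup.mem_subgroupOf]
      exact hxp)
    (by
      rw [hB₁, Subgroup.mem_subgroupOf]
      exact hxB)
    (gen_sub B x K rfl hxK)
    (by
      refine ⟨⟨(u : G), hBK u.2⟩, ?_, ?_⟩
      · rw [hB₁, Subgroup.mem_subgroupOf]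
        exact u.2
      · rw [hΦ₁, Subgroup.mem_subgroupOf]
        intro hmem
        apply huN
        rw [QuotientGroup.mk'_apply, QuotientGroup.eq_one_iff, ← hΦmem]
        have e1 : ((nprod (fun i => MulAut.conjNormal (x ^ i) u) p : ↥B) : G) =
            nprod (fun i => x ^ i * (u : G) * (x ^ i)⁻¹) p := by
          have := map_nprod B.subtype (fun i => MulAut.conjNormal (x ^ i) u) p
          rw [Subgroup.coe_subtype] at this
          rw [this]
          apply nprod_congr
          intro i _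
          show (((MulAut.conjNormal (x ^ i) u : ↥B)) : G) = _
          rw [MulAut.conjNormal_apply]
        have e2 : ((nprod (fun i => x₁ ^ i * (⟨(u : G), hBK u.2⟩ : ↥K) * (x₁ ^ i)⁻¹) p : ↥K) : G) =
            nprod (fun i => x ^ i * (u : G) * (x ^ i)⁻¹) p := by
          have := map_nprod K.subtype (fun i => x₁ ^ i * (⟨(u : G), hBK u.2⟩ : ↥K) * (x₁ ^ i)⁻¹) p
          rw [Subgroup.coe_subtype] at this
          rw [this]
          apply nprod_congr
          intro i _
          rfl
        rw [e1, ← e2]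
        exact hmem)
  obtain ⟨R, hRn, hW⟩ := hres
  exact ⟨K, hKp, R, hRn, hW⟩

end Cfsg.Agent.H1.HHMod
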