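import Mathlib
import Cfsg.Agent.H1.HHModU
import Cfsg.Agent.Lib.Helper7.InvolvesLib

/-! transport of the `C_p ≀ C_p` structure, and passage to sections of a Sylow subgroup -/

set_option linter.style.haveILetI false
set_option linter.unusedVariables false

namespace Cfsg.Agent.H1.HHMod
open Module Cfsg.Agent.H1.HHAb Cfsg.Agent.H1 Cfsg Cfsg.Agent.Lib.Helper7
open scoped commutatorElement

universe u v

theorem WrStruct.of_mulEquiv {p : ℕ} {W : Type u} {W' : Type v} [Group W] [Group W'] (e : W ≃* W')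
    (h : WrStruct p W) : WrStruct p W' := by
  obtain ⟨B, t, hBn, hBc, hBe, hBcard, ht, htB, hW, hC⟩ := h
  refine ⟨B.map e.toMonoidHom, e t, Subgroup.Normal.map hBn _ e.surjective, ?_, ?_, ?_, ?_, ?_, ?_, ?_⟩
  · refine ⟨⟨?_⟩⟩
    rintro ⟨_, a, ha, rfl⟩ ⟨_, b, hb, rfl⟩
    apply Subtype.ext
    show e a * e b = e b * e a
    have := hBc.is_comm.comm (⟨a, ha⟩ : ↥B) ⟨b, hb⟩
    have h2 : a * b = b * a := congrArg Subtype.val this
    rw [← map_mul, ← map_mul, h2]
  · rintro _ ⟨b, hb, rfl⟩
    show e b ^ p = 1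
    rw [← map_pow, hBe b hb, map_one]
  · rw [← hBcard]
    exact Nat.card_congr (B.equivMapOfInjective e.toMonoidHom e.injective).symm.toEquiv
  · rw [← ht]
    exact MulEquiv.orderOf_eq e t
  · rintro ⟨b, hb, hbt⟩
    apply htB
    have : b = t := e.injective hbt
    rw [← this]; exact hb
  · rw [← hW]
    exact Nat.card_congr e.symm.toEquiv
  · rw [← hC]
    have hEq : B.map e.toMonoidHom ⊓ Subgroup.centralizer ({e t} : Set W') =
        (B ⊓ Subgroup.centralizer ({t} : Set W)).map e.toMonoidHom := by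
      ext w
      constructor
      · rintro ⟨⟨b, hb, rfl⟩, h2⟩
        refine ⟨b, ⟨hb, ?_⟩, rfl⟩
        have h2' : e.toMonoidHom b ∈ Subgroup.centralizer ({e t} : Set W') := h2
        show b ∈ Subgroup.centralizer ({t} : Set W)
        rw [Subgroup.mem_centralizer_iff] at h2' ⊢
        intro y hy
        rw [Set.mem_singleton_iff] at hy
        rw [hy]
        have := h2' (e t) rfl
        apply e.injective
        rw [map_mul, map_mul]
        exact this
      · rintro ⟨b, ⟨hb, h2⟩, rfl⟩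
        refine ⟨⟨b, hb, rfl⟩, ?_⟩
        have h2' : b ∈ Subgroup.centralizer ({t} : Set W) := h2
        show e.toMonoidHom b ∈ Subgroup.centralizer ({e t} : Set W')
        rw [Subgroup.mem_centralizer_iff] at h2' ⊢
        intro y hy
        rw [Set.mem_singleton_iff] at hy
        rw [hy]
        have := h2' t rfl
        show e t * e b = e b * e t
        rw [← map_mul, ← map_mul, this]
    rw [hEq]
    exact Nat.card_congr ((B ⊓ Subgroup.centralizer ({t} : Set W)).equivMapOfInjective
      e.toMonoidHom e.injective).symm.toEquiv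

theorem HasWr.of_quotient {p : ℕ} [Fact p.Prime] {G : Type u} [Group G] [Finite G] (N : Subgroup G)
    [N.Normal] (h : HasWr p (G ⧸ N)) : HasWr p G := by
  obtain ⟨Kb, hKb, Rb, hRbn, hW⟩ := h
  obtain ⟨K, hK, rfl⟩ := Cfsg.Agent.H1.HHAb.exists_pgroup_map_eq N p Kb hKb
  set f : ↥K →* ↥(K.map (QuotientGroup.mk' N)) := (QuotientGroup.mk' N).subgroupMap K with hf
  have hfs : Function.Surjective f := (QuotientGroup.mk' N).subgroupMap_surjective K
  haveI := hRbn
  set φ : ↥K →* (↥(K.map (QuotientGroup.mk' N)) ⧸ Rb) := (QuotientGroup.mk' Rb).comp f with hφ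
  have hφs : Function.Surjective φ := (QuotientGroup.mk'_surjective Rb).comp hfs
  refine ⟨K, hK, φ.ker, inferInstance, ?_⟩
  exact WrStruct.of_mulEquiv (QuotientGroup.quotientKerEquivOfSurjective φ hφs).symm hW

theorem HasWr.involves {p : ℕ} [Fact p.Prime] {G : Type u} [Group G] [Finite G] (h : HasWr p G)
    (P : Sylow p G) :
    ∃ (W : Type) (_ : Group W) (_ : Finite W), WrStruct p W ∧ Involves W ↥(P : Subgroup G) := by
  classical
  obtain ⟨K, hK, R, hRn, hW⟩ := h
  haveI := hRn
  haveI : Finite (↥K ⧸ R) := inferInstance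
  -- a copy in `Type`
  set n := Nat.card (↥K ⧸ R) with hn
  have e₀ : (↥K ⧸ R) ≃ {i : ℕ // i < n} := (Finite.equivFin _).trans Fin.equivSubtype
  letI : Group {i : ℕ // i < n} := Equiv.group e₀.symm
  haveI : Finite {i : ℕ // i < n} := Finite.of_equiv _ e₀
  have hmul : ∀ a b : {i : ℕ // i < n}, e₀.symm (a * b) = e₀.symm a * e₀.symm b := by
    intro a b
    show e₀.symm (e₀ (e₀.symm a * e₀.symm b)) = _
    exact e₀.symm_apply_apply _
  have e : {i : ℕ // i < n} ≃* (↥K ⧸ R) := MulEquiv.mk' e₀.symm hmul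
  refine ⟨{i : ℕ // i < n}, inferInstance, inferInstance, WrStruct.of_mulEquiv e.symm hW, ?_⟩
  -- K lies in a conjugate of P
  obtain ⟨P', hKP'⟩ := hK.exists_le_sylow
  obtain ⟨g, hg⟩ := MulAction.exists_smul_eq G P P'
  have h1 : Involves {i : ℕ // i < n} ↥K := by
    rw [involves_iff_exists_surjective]
    refine ⟨⊤, (e.symm.toMonoidHom.comp (QuotientGroup.mk' R)).comp
      (Subgroup.topEquiv : (⊤ : Subgroup ↥K) ≃* ↥K).toMonoidHom, ?_⟩
    exact (e.symm.surjective.comp (QuotientGroup.mk'_surjective R)).comp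
      (Subgroup.topEquiv : (⊤ : Subgroup ↥K) ≃* ↥K).surjective
  have h2 : Involves {i : ℕ // i < n} ↥(P' : Subgroup G) := involves_of_le hKP' h1
  rw [← hg] at h2
  exact involves_of_injective (Sylow.equivSMul P g).symm.toMonoidHom
    (Sylow.equivSMul P g).symm.injective h2

end Cfsg.Agent.H1.HHMod
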