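import Mathlib
import Cfsg.Agent.H1.HHModV

/-! `p`-length one for non-Fermat odd `p` without `C_p ≀ C_p` sections -/

set_option linter.style.haveILetI false
set_option linter.unusedVariables false

namespace Cfsg.Agent.H1.HHMod
open Module Cfsg.Agent.H1.HHAb Cfsg.Agent.H1 Cfsg Cfsg.Agent.Lib.Lead.PSolvable
open scoped commutatorElement

universe u v

/-- an odd prime `p` with `p^n₀ - 1` a prime power is a Fermat prime (and the other prime is `2`) -/
theorem fermat_of_pow_sub_one {p : ℕ} (hpp : p.Prime) (hp2 : p ≠ 2) {q : ℕ} (hq : q.Prime) {n₀ m : ℕ}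
    (h1 : 1 ≤ n₀) (h2 : 1 ≤ m) (h3 : p ^ n₀ - 1 = q ^ m) : q = 2 ∧ ∃ k : ℕ, p = 2 ^ k + 1 := by
  have hodd : Odd p := hpp.odd_of_ne_two hp2
  have hpn : Odd (p ^ n₀) := hodd.pow
  have hpos : 1 ≤ p ^ n₀ := Nat.one_le_pow _ _ hpp.pos
  have heven : Even (p ^ n₀ - 1) := by
    obtain ⟨c, hc⟩ := hpn
    exact ⟨c, by omega⟩
  rw [h3] at heven
  have h2q : 2 ∣ q := by
    have : 2 ∣ q ^ m := even_iff_two_dvd.mp heven
    exact Nat.Prime.dvd_of_dvd_pow Nat.prime_two this
  have hq2 : q = 2 := ((Nat.prime_dvd_prime_iff_eq Nat.prime_two hq).mp h2q).symm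
  refine ⟨hq2, ?_⟩
  have hdvd : p - 1 ∣ p ^ n₀ - 1 := by
    have := Nat.sub_dvd_pow_sub_pow p 1 n₀
    rwa [one_pow] at this
  rw [h3, hq2] at hdvd
  obtain ⟨k, _, hk⟩ := (Nat.dvd_prime_pow Nat.prime_two).mp hdvd
  refine ⟨k, ?_⟩
  have := hpp.one_le
  omega

theorem ne_of_not_fermat {p : ℕ} [hp : Fact p.Prime] (hp2 : p ≠ 2) (hnf : ¬ ∃ k : ℕ, p = 2 ^ k + 1)
    (G : Type*) [Group G] : NE p G := by
  intro q hq hqp hex
  obtain ⟨n₀, m, h1, h2, h3⟩ := hex
  exact absurd (fermat_of_pow_sub_one hp.out hp2 hq h1 h2 h3).2 hnf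

theorem plength_one_of_not_hasWr {p : ℕ} [hp : Fact p.Prime] (hp2 : p ≠ 2)
    (hnf : ¬ ∃ k : ℕ, p = 2 ^ k + 1) :
    ∀ (r : ℕ) (G : Type u) [Group G] [Finite G], Nat.card G ≤ r → IsPSolvable p G →
      ¬ HasWr p G → PLengthLE p 1 G := by
  intro r
  induction r with
  | zero =>
    intro G _ _ hcard
    exact absurd hcard (by have := Nat.card_pos (α := G); omega)
  | succ r ih =>
    intro G _ _ hcard hsol hwr
    have hpp : p.Prime := hp.out
    by_cases hN : pPrimeCore p G = ⊥
    swap
    · have hlt : Nat.card (G ⧸ pPrimeCore p G) < Nat.card G := by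
        have h1 := Subgroup.card_eq_card_quotient_mul_card_subgroup (pPrimeCore p G)
        have h2 : 1 < Nat.card (pPrimeCore p G) := by
          rw [Subgroup.one_lt_card_iff_ne_bot]; exact hN
        have h3 := Nat.card_pos (α := G ⧸ pPrimeCore p G)
        nlinarith
      have h1 := ih (G ⧸ pPrimeCore p G) (by omega) (IsPSolvable.quotient _ hsol)
        (fun h => hwr (HasWr.of_quotient _ h))
      have h2 : PLengthLE p 0 ↥(pPrimeCore p G) := plength_zero_of_coprime (pPrimeCore_coprime p)
      have := plength_extension (pPrimeCore p G) h2 h1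
      rwa [zero_add] at this
    · by_cases htriv : Nat.card G = 1
      · have : Subsingleton G := (Nat.card_eq_one_iff_unique.mp htriv).1
        unfold PLengthLE
        exact Subsingleton.elim _ _
      haveI : Nontrivial G := by
        rw [← Finite.one_lt_card_iff_nontrivial]
        have := Nat.card_pos (α := G)
        omega
      have hB := pCore_ne_bot hsol hN
      have hBp : IsPGroup p ↥(pCore p G) := pCore_isPGroup p
      have hcop : (Nat.card (G ⧸ pCore p G)).Coprime p := by
        by_contra hcon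
        have hdvd : p ∣ Nat.card (G ⧸ pCore p G) := by
          by_contra h
          exact hcon ((Nat.Prime.coprime_iff_not_dvd hpp).mpr h).symm
        obtain ⟨y, hy⟩ := exists_prime_orderOf_dvd_card' p hdvd
        have hyp0 : y ^ p = 1 := by
          have := pow_orderOf_eq_one y
          rwa [hy] at this
        have hyp : y ^ p ^ 1 = 1 := by rw [pow_one]; exact hyp0
        obtain ⟨x, hxy, hx⟩ := exists_pelement_lift (pCore p G) p y ⟨1, hyp⟩
        have hy1 : y ≠ 1 := by
          intro h
          rw [h, orderOf_one] at hy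
          exact hpp.one_lt.ne hy
        have hxB : x ∉ pCore p G := by
          intro h
          apply hy1
          rw [← hxy]
          exact (QuotientGroup.eq_one_iff x).2 h
        have hxp : x ^ p ∈ pCore p G := by
          rw [← QuotientGroup.eq_one_iff, QuotientGroup.mk_pow]
          have : (QuotientGroup.mk x : G ⧸ pCore p G) = y := hxy
          rw [this]
          exact hyp0
        obtain ⟨u, hu⟩ := keyB_norm hsol hN (ne_of_not_fermat hp2 hnf _) x hx hxB
        rw [hxy, hy] at hu
        exact hwr (hasWr_of_norm p (pCore p G) hBp x hx hxp hxB ⟨u, hu⟩)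
      have h1 : PLengthLE p 0 (G ⧸ pCore p G) := plength_zero_of_coprime hcop
      have h2 : PLengthLE p 1 ↥(pCore p G) := plength_one_of_isPGroup hBp
      have := plength_extension (pCore p G) h2 h1
      rwa [add_zero] at this

end Cfsg.Agent.H1.HHMod
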