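import Mathlib

/-! Transvection computations for the cyclic-normal-subgroup lemma of Hall–Higman. -/

set_option linter.style.haveILetI false
set_option linter.unusedVariables false

namespace Cfsg.Agent.H1.HHMod

section Transv
variable {K : Type*} [Field K] {V : Type*} [AddCommGroup V] [Module K V] {Γ : Type*} [Group Γ]
  (ρ : Γ →* Module.End K V)

/-- powers of a transvection -/
theorem transv_pow (r : Γ) (l : V →ₗ[K] K) (w : V) (h1 : ∀ v, ρ r v = v + l v • w) (hlw : l w = 0)
    (c : ℕ) (v : V) : ρ (r ^ c) v = v + ((c : K) * l v) • w := by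
  induction c generalizing v with
  | zero => simp
  | succ c ih =>
    rw [pow_succ, map_mul, Module.End.mul_apply, h1, ih]
    simp only [map_add, map_smul, hlw, smul_eq_mul, mul_zero, add_zero, Nat.cast_succ]
    module

/-- inverse of a transvection -/
theorem transv_inv (r : Γ) (l : V →ₗ[K] K) (w : V) (h1 : ∀ v, ρ r v = v + l v • w) (hlw : l w = 0)
    (v : V) : ρ r⁻¹ v = v - l v • w := by
  have hw : ρ r w = w := by rw [h1, hlw, zero_smul, add_zero]
  have hinv : ∀ x, ρ r⁻¹ (ρ r x) = x := by
    intro x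
    rw [← Module.End.mul_apply, ← map_mul, inv_mul_cancel, map_one, Module.End.one_apply]
  have hw' : ρ r⁻¹ w = w := by
    have := hinv w
    rwa [hw] at this
  have h2 := hinv v
  rw [h1, map_add, map_smul, hw'] at h2
  rw [eq_sub_iff_add_eq]
  exact h2

/-- the commutator of two transvections when `l' w = 0` -/
theorem transv_comm (r r' : Γ) (l l' : V →ₗ[K] K) (w w' : V)
    (h1 : ∀ v, ρ r v = v + l v • w) (h2 : ∀ v, ρ r' v = v + l' v • w')
    (hlw : l w = 0) (hlw' : l' w' = 0) (hb : l' w = 0) (v : V) :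
    ρ (r * r' * r⁻¹ * r'⁻¹) v = v + (l w' * l' v) • w := by
  rw [map_mul, map_mul, map_mul, Module.End.mul_apply, Module.End.mul_apply, Module.End.mul_apply,
    transv_inv ρ r' l' w' h2 hlw', transv_inv ρ r l w h1 hlw, h2, h1]
  simp only [map_add, map_sub, map_smul, hlw, hlw', hb, smul_eq_mul, mul_zero, sub_zero]
  module

/-- the Weyl element squared -/
theorem transv_weyl (r r' : Γ) (l l' : V →ₗ[K] K) (w w' : V)
    (h1 : ∀ v, ρ r v = v + l v • w) (h2 : ∀ v, ρ r' v = v + l' v • w')
    (hlw : l w = 0) (hlw' : l' w' = 0) (c : ℕ) (hc : (c : K) * l w' * l' w = -1) (v : V) :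
    ρ ((r * r' ^ c * r) ^ 2) v = v + (2 * (c : K) * l w' * l' v) • w + (2 * (c : K) * l' w * l v) • w' := by
  have hM : ∀ v, ρ (r * r' ^ c * r) v = v + (l v + (c : K) * l w' * l' v) • w +
      ((c : K) * (l' v + l' w * l v)) • w' := by
    intro v
    rw [map_mul, map_mul, Module.End.mul_apply, Module.End.mul_apply, h1, transv_pow ρ r' l' w' h2 hlw', h1]
    simp only [map_add, map_smul, hlw, smul_eq_mul, mul_zero, add_zero]
    linear_combination (norm := module) ((l v) * hc) • w
  rw [pow_two, map_mul, Module.End.mul_apply, hM, hM]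
  simp only [map_add, map_smul, hlw, hlw', smul_eq_mul, mul_zero, add_zero]
  linear_combination (norm := module) ((2 * l v + (c : K) * l w' * l' v) * hc) • w + ((2 * (c : K) * l' v + (c : K) * l' w * l v) * hc) • w'

/-- in characteristic two, the product of two non-commuting transvections has order three -/
theorem transv_cube (r r' : Γ) (l l' : V →ₗ[K] K) (w w' : V)
    (h1 : ∀ v, ρ r v = v + l v • w) (h2 : ∀ v, ρ r' v = v + l' v • w')
    (hlw : l w = 0) (hlw' : l' w' = 0) (ha : l w' = 1) (hb : l' w = 1) (h20 : (2 : K) = 0) (v : V) :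
    ρ ((r * r') ^ 3) v = v := by
  have hU : ∀ v, ρ (r * r') v = v + (l v + l' v) • w + l' v • w' := by
    intro v
    rw [map_mul, Module.End.mul_apply, h2, h1]
    simp only [map_add, map_smul, ha, smul_eq_mul, mul_one]
    module
  rw [pow_succ, pow_two, map_mul, map_mul, Module.End.mul_apply, Module.End.mul_apply, hU, hU, hU]
  simp only [map_add, map_smul, hlw, hlw', ha, hb, smul_eq_mul, mul_zero, add_zero, mul_one]
  linear_combination (norm := module) ((4 * l v + 6 * l' v) * h20) • w + ((2 * l v + 4 * l' v) * h20) • w'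

end Transv

end Cfsg.Agent.H1.HHMod
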