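import Mathlib
import Cfsg.Agent.H1.HHModX
import Cfsg.Agent.H1.HHModP

/-! A `p`-solvable linear group with `O_p = 1` containing a transvection: consequences. -/

set_option linter.style.haveILetI false
set_option linter.unusedVariables false

namespace Cfsg.Agent.H1.HHMod
open Cfsg Cfsg.Agent.H1 Cfsg.Agent.H1.HHAb Module Cfsg.Agent.H1.FrobFree Cfsg.Agent.H1.FrobFix Cfsg.Agent.H1.JordanNil
open scoped commutatorElement

universe u

/-- a `p`-element of a `q`-group is trivial -/
theorem eq_one_of_pow_prime_of_isPGroup {Γ : Type*} [Group Γ] {p q : ℕ} [hp : Fact p.Prime] [hq : Fact q.Prime]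
    (hpq : p ≠ q) (Q : Subgroup Γ) (hQ : IsPGroup q Q) (g : Γ) (hg : g ∈ Q) (hgp : g ^ p = 1) : g = 1 := by
  obtain ⟨k, hk⟩ := hQ ⟨g, hg⟩
  have hk' : g ^ q ^ k = 1 := by
    have := congrArg Subtype.val hk
    simpa using this
  have h1 : orderOf g ∣ p := orderOf_dvd_of_pow_eq_one hgp
  have h2 : orderOf g ∣ q ^ k := orderOf_dvd_of_pow_eq_one hk'
  have hcop : Nat.Coprime p (q ^ k) :=
    Nat.Coprime.pow_right k ((Nat.coprime_primes hp.out hq.out).2 hpq)
  have := Nat.eq_one_of_dvd_coprimes hcop h1 h2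
  exact orderOf_eq_one_iff.mp this

theorem zmod_two_eq_one : ∀ x : ZMod 2, x ≠ 0 → x = 1 := by decide

theorem zmod_two_two : (2 : ZMod 2) = 0 := by decide

/-- conjugating a transvection -/
theorem transv_conj {K : Type*} [Field K] {V : Type*} [AddCommGroup V] [Module K V] {Γ : Type*} [Group Γ]
    (ρ : Γ →* Module.End K V) (r : Γ) (l : V →ₗ[K] K) (w : V) (h1 : ∀ v, ρ r v = v + l v • w) (hlw : l w = 0)
    (g : Γ) :
    (∀ v, ρ (g * r * g⁻¹) v = v + (l ∘ₗ ρ g⁻¹) v • ρ g w) ∧ (l ∘ₗ ρ g⁻¹) (ρ g w) = 0 := by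
  have hinv : ∀ x, ρ g⁻¹ (ρ g x) = x := by
    intro x
    rw [← Module.End.mul_apply, ← map_mul, inv_mul_cancel, map_one, Module.End.one_apply]
  have hinv' : ∀ x, ρ g (ρ g⁻¹ x) = x := by
    intro x
    rw [← Module.End.mul_apply, ← map_mul, mul_inv_cancel, map_one, Module.End.one_apply]
  constructor
  · intro v
    rw [map_mul, map_mul, Module.End.mul_apply, Module.End.mul_apply, h1, map_add, map_smul, hinv']
    rfl
  · rw [LinearMap.comp_apply, hinv, hlw]

theorem transv_main_module {Γ : Type*} [Group Γ] {H : Type u} [CommGroup H]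
    (p : ℕ) [hp : Fact p.Prime] [Module (ZMod p) (Additive H)]
    (φ : Γ →* MulAut H) (hfaith : ∀ g, φ g = 1 → g = 1)
    (r : Γ) (hr : r ^ p = 1) (w : H) (hrw : ∀ v : H, ∃ j : ℤ, φ r v = w ^ j * v) (hw : φ r w = w)
    (q : ℕ) [hq : Fact q.Prime] (hpq : p ≠ q) (Q : Subgroup Γ) (hQ : IsPGroup q Q)
    (hQr : ∀ g ∈ Q, r * g * r⁻¹ ∈ Q) (s : Γ) (hs : s ∈ Q) (hsr : ⁅s, r⁆ ≠ 1) :
    (p ≠ 2 → (∀ v : H, nprod (fun i => φ (r ^ i) v) p = 1) ∧ ∃ z : Γ, z * r = r * z ∧ φ z w = w⁻¹) ∧
    (p = 2 → ∃ r' : Γ, r' ^ 2 = 1 ∧ (r * r') ^ 3 = 1 ∧ r * r' ≠ 1) := by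
  classical
  have hpp : p.Prime := hp.out
  let ρ : Γ →* Module.End (ZMod p) (Additive H) :=
    { toFun := fun f => actLin p (φ f)
      map_one' := by
        refine LinearMap.ext fun v => ?_
        rw [actLin_apply, map_one, MulAut.one_apply, Module.End.one_apply]
        rfl
      map_mul' := by
        intro f g
        refine LinearMap.ext fun v => ?_
        rw [Module.End.mul_apply, actLin_apply, actLin_apply, actLin_apply, map_mul, MulAut.mul_apply]
        rfl }
  have hρ : ∀ (f : Γ) (v : Additive H), ρ f v = Additive.ofMul (φ f (Additive.toMul v)) :=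
    fun f v => rfl
  have hρfaith : ∀ g : Γ, (∀ v, ρ g v = v) → g = 1 := by
    intro g hg
    apply hfaith
    ext v
    have := hg (Additive.ofMul v)
    rw [hρ] at this
    exact Additive.ofMul.injective this
  have hρinj : ∀ g g' : Γ, (∀ v, ρ g v = ρ g' v) → g = g' := by
    intro g g' hgg
    have : g * g'⁻¹ = 1 := by
      apply hρfaith
      intro v
      rw [map_mul, Module.End.mul_apply, hgg, ← Module.End.mul_apply, ← map_mul, mul_inv_cancel, map_one,
        Module.End.one_apply]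
    exact mul_inv_eq_one.mp this
  -- `s` and `r` do not commute
  have hsr' : s * r * s⁻¹ ≠ r := by
    intro h
    apply hsr
    rw [commutatorElement_def, h, mul_inv_cancel]
  have hr1 : r ≠ 1 := by
    rintro rfl
    apply hsr'
    group
  set w₀ : Additive H := Additive.ofMul w with hw₀
  have hw₀ne : w₀ ≠ 0 := by
    intro h0
    have hw1 : w = 1 := congrArg Additive.toMul h0
    apply hr1
    apply hfaith
    ext v
    obtain ⟨j, hj⟩ := hrw v
    rw [hj, hw1, one_zpow, one_mul, MulAut.one_apply]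
  have hmem : ∀ v, (ρ r - 1) v ∈ Submodule.span (ZMod p) {w₀} := by
    intro v
    obtain ⟨j, hj⟩ := hrw (Additive.toMul v)
    rw [LinearMap.sub_apply, Module.End.one_apply, hρ, hj, Submodule.mem_span_singleton]
    refine ⟨(j : ZMod p), ?_⟩
    rw [Int.cast_smul_eq_zsmul, ofMul_mul, ofMul_zpow, ofMul_toMul, add_sub_cancel_right]
  let l : Additive H →ₗ[ZMod p] ZMod p :=
    (LinearEquiv.coord (ZMod p) (Additive H) w₀ hw₀ne).toLinearMap ∘ₗ
      (LinearMap.codRestrict (Submodule.span (ZMod p) {w₀}) (ρ r - 1) hmem)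
  have h1 : ∀ v, ρ r v = v + l v • w₀ := by
    intro v
    have h := LinearEquiv.coord_apply_smul (ZMod p) (Additive H) w₀ hw₀ne
      (LinearMap.codRestrict (Submodule.span (ZMod p) {w₀}) (ρ r - 1) hmem v)
    have h' : l v • w₀ = (ρ r - 1) v := h
    rw [h', LinearMap.sub_apply, Module.End.one_apply, add_sub_cancel]
  have hrw₀ : ρ r w₀ = w₀ := by
    rw [hρ, hw₀, toMul_ofMul, hw]
  have hlw : l w₀ = 0 := by
    have := h1 w₀
    rw [hrw₀, left_eq_add, smul_eq_zero] at this
    exact this.resolve_right hw₀ne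
  -- the conjugates
  have hconj := fun g => transv_conj ρ r l w₀ h1 hlw g
  -- key: the pairing is non-degenerate on non-commuting conjugates
  have keyB : ∀ t ∈ Q, t * r * t⁻¹ ≠ r → l (ρ t⁻¹ w₀) ≠ 0 := by
    intro t ht htr hb
    obtain ⟨h2, hlw'⟩ := hconj t
    set r' := t * r * t⁻¹ with hr'
    have hb' : (l ∘ₗ ρ t⁻¹) w₀ = 0 := hb
    have hc := transv_comm ρ r r' l (l ∘ₗ ρ t⁻¹) w₀ (ρ t w₀) h1 h2 hlw hlw' hb'
    set c₀ := r * r' * r⁻¹ * r'⁻¹ with hc₀
    have hc' : ∀ v, ρ c₀ v = v + ((l (ρ t w₀)) • (l ∘ₗ ρ t⁻¹)) v • w₀ := by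
      intro v
      rw [hc v, LinearMap.smul_apply, smul_eq_mul]
    have hc0 : ((l (ρ t w₀)) • (l ∘ₗ ρ t⁻¹)) w₀ = 0 := by
      rw [LinearMap.smul_apply, hb', smul_zero]
    have hcp : c₀ ^ p = 1 := by
      apply hρfaith
      intro v
      rw [transv_pow ρ c₀ _ w₀ hc' hc0 p v, ZMod.natCast_self, zero_mul, zero_smul, add_zero]
    have hc₀Q : c₀ ∈ Q := by
      have : c₀ = (r * t * r⁻¹) * (r * (r * t⁻¹ * r⁻¹) * r⁻¹) * (r * t * r⁻¹) * t⁻¹ := by
        rw [hc₀, hr']; group
      rw [this]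
      exact Q.mul_mem (Q.mul_mem (Q.mul_mem (hQr _ ht) (hQr _ (hQr _ (Q.inv_mem ht)))) (hQr _ ht))
        (Q.inv_mem ht)
    have hc1 : c₀ = 1 := eq_one_of_pow_prime_of_isPGroup hpq Q hQ c₀ hc₀Q hcp
    have hcomm : r * r' = r' * r := by
      have : r * r' * r⁻¹ * r'⁻¹ = 1 := hc1
      calc r * r' = (r * r' * r⁻¹ * r'⁻¹) * r' * r := by group
        _ = r' * r := by rw [this, one_mul]
    set e₀ := r' * r⁻¹ with he₀
    have he₀Q : e₀ ∈ Q := by
      have : e₀ = t * (r * t⁻¹ * r⁻¹) := by rw [he₀, hr']; group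
      rw [this]
      exact Q.mul_mem ht (hQr _ (Q.inv_mem ht))
    have hr'p : r' ^ p = 1 := by
      rw [hr', conj_pow, hr, mul_one, mul_inv_cancel]
    have he₀p : e₀ ^ p = 1 := by
      have hcm : Commute r' r⁻¹ := (Commute.inv_right (show Commute r' r from hcomm.symm))
      rw [he₀, hcm.mul_pow, hr'p, inv_pow, hr, inv_one, one_mul]
    have he1 : e₀ = 1 := eq_one_of_pow_prime_of_isPGroup hpq Q hQ e₀ he₀Q he₀p
    apply htr
    rw [he₀, mul_inv_eq_one] at he1
    exact he1
  have hb : l (ρ s⁻¹ w₀) ≠ 0 := keyB s hs hsr'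
  have ha : l (ρ s w₀) ≠ 0 := by
    have := keyB s⁻¹ (Q.inv_mem hs) (by
      intro h
      apply hsr'
      rw [inv_inv] at h
      calc s * r * s⁻¹ = s * (s⁻¹ * r * s) * s⁻¹ := by rw [h]
        _ = r := by group)
    rwa [inv_inv] at this
  obtain ⟨h2, hlw'⟩ := hconj s
  set r' := s * r * s⁻¹ with hr'
  have hr'p : r' ^ p = 1 := by
    rw [hr', conj_pow, hr, mul_one, mul_inv_cancel]
  have hb'' : (l ∘ₗ ρ s⁻¹) w₀ = l (ρ s⁻¹ w₀) := rfl
  constructor
  · intro hp2
    have hp3 : 3 ≤ p := by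
      have := hpp.two_le
      omega
    constructor
    · -- the norm vanishes
      have hsq : (ρ r - 1) ^ 2 = 0 := by
        apply LinearMap.ext
        intro v
        rw [pow_two, Module.End.mul_apply, LinearMap.sub_apply, LinearMap.sub_apply, Module.End.one_apply,
          Module.End.one_apply, h1 v, add_sub_cancel_left, map_smul, hrw₀, sub_self, LinearMap.zero_apply]
      have hpow : (ρ r - 1) ^ (p - 1) = 0 := by
        have : p - 1 = 2 + (p - 3) := by omega
        rw [this, pow_add, hsq, zero_mul]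
      have hsum : ∑ i ∈ Finset.range p, (ρ r) ^ i = 0 := by
        have := geom_sum_eq_pow (K := ZMod p) p (ρ r) 1
        rw [pow_one] at this
        rw [this, hpow]
      have key : ∀ (x : Additive H) (m : ℕ), (∑ i ∈ Finset.range m, ρ (r ^ i) x) =
          Additive.ofMul (nprod (fun i => φ (r ^ i) (Additive.toMul x)) m) := by
        intro x m
        induction m with
        | zero => simp [nprod_zero]
        | succ m ih =>
          rw [Finset.sum_range_succ, ih, nprod_succ, hρ]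
          rfl
      intro v
      have h3 := key (Additive.ofMul v) p
      have h4 : ∑ i ∈ Finset.range p, ρ (r ^ i) (Additive.ofMul v) = 0 := by
        have := congrArg (fun f => f (Additive.ofMul v)) hsum
        simp only [LinearMap.sum_apply, LinearMap.zero_apply] at this
        rw [← this]
        apply Finset.sum_congr rfl
        intro i _
        rw [map_pow]
      rw [h4] at h3
      have := congrArg Additive.toMul h3
      simpa using this.symm
    · -- the Weyl element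
      set a := l (ρ s w₀) with ha'
      set b := l (ρ s⁻¹ w₀) with hb'
      set cK : ZMod p := -(a * b)⁻¹ with hcK
      have hcab : ((cK.val : ℕ) : ZMod p) * a * (l ∘ₗ ρ s⁻¹) w₀ = -1 := by
        rw [ZMod.natCast_zmod_val, hb'', hcK]
        field_simp
      have hz := transv_weyl ρ r r' l (l ∘ₗ ρ s⁻¹) w₀ (ρ s w₀) h1 h2 hlw hlw' cK.val hcab
      set z := (r * r' ^ cK.val * r) ^ 2 with hzdef
      refine ⟨z, ?_, ?_⟩
      · -- commutation
        apply hρinj
        intro v
        rw [map_mul, map_mul, Module.End.mul_apply, Module.End.mul_apply, hz, hz, h1, h1]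
        simp only [map_add, map_smul, hlw, smul_eq_mul, mul_zero, add_zero]
        module
      · have h5 := hz w₀
        rw [hlw, mul_zero, zero_smul, add_zero] at h5
        have h6 : ρ z w₀ = -w₀ := by
          rw [h5]
          linear_combination (norm := module) (2 * hcab) • w₀
        rw [hρ] at h6
        exact congrArg Additive.toMul h6
  · intro hp2
    subst hp2
    have hone : ∀ x : ZMod 2, x ≠ 0 → x = 1 := zmod_two_eq_one
    have ha1 : l (ρ s w₀) = 1 := hone _ ha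
    have hb1 : (l ∘ₗ ρ s⁻¹) w₀ = 1 := hone _ hb
    refine ⟨r', hr'p, ?_, ?_⟩
    · apply hρfaith
      intro v
      exact transv_cube ρ r r' l (l ∘ₗ ρ s⁻¹) w₀ (ρ s w₀) h1 h2 hlw hlw' ha1 hb1 zmod_two_two v
    · intro h
      have h7 : r' = r⁻¹ := eq_inv_of_mul_eq_one_right h
      have h8 : r⁻¹ = r := by
        rw [inv_eq_iff_mul_eq_one, ← pow_two, hr]
      exact hsr' (h7.trans h8)

/-- the transvection lemma for an elementary abelian `p`-group `H` written multiplicatively -/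
theorem transv_main {Γ : Type*} [Group Γ] {H : Type u} [Group H]
    (hcomm : ∀ a b : H, a * b = b * a) (p : ℕ) [hp : Fact p.Prime] (hexp : ∀ x : H, x ^ p = 1)
    (φ : Γ →* MulAut H) (hfaith : ∀ g, φ g = 1 → g = 1)
    (r : Γ) (hr : r ^ p = 1) (w : H) (hrw : ∀ v : H, ∃ j : ℤ, φ r v = w ^ j * v) (hw : φ r w = w)
    (q : ℕ) [hq : Fact q.Prime] (hpq : p ≠ q) (Q : Subgroup Γ) (hQ : IsPGroup q Q)
    (hQr : ∀ g ∈ Q, r * g * r⁻¹ ∈ Q) (s : Γ) (hs : s ∈ Q) (hsr : ⁅s, r⁆ ≠ 1) :
    (p ≠ 2 → (∀ v : H, nprod (fun i => φ (r ^ i) v) p = 1) ∧ ∃ z : Γ, z * r = r * z ∧ φ z w = w⁻¹) ∧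
    (p = 2 → ∃ r' : Γ, r' ^ 2 = 1 ∧ (r * r') ^ 3 = 1 ∧ r * r' ≠ 1) := by
  classical
  letI : CommGroup H := { (inferInstance : Group H) with mul_comm := hcomm }
  letI : Module (ZMod p) (Additive H) := AddCommGroup.zmodModule (n := p) (by
    intro x
    show Additive.ofMul ((Additive.toMul x) ^ p) = 0
    rw [hexp]
    rfl)
  exact transv_main_module p φ hfaith r hr w hrw hw q hpq Q hQ hQr s hs hsr

end Cfsg.Agent.H1.HHMod
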