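import Mathlib
import Cfsg.Agent.H1.HHModY
import Cfsg.Agent.H1.HHModQ
import Cfsg.Agent.H9.S4InvD
import Cfsg.Agent.S0444

/-! Cyclic normal subgroups of Sylow `p`-subgroups of `p`-solvable groups lie in `O_{p',p}`. -/

set_option linter.style.haveILetI false
set_option linter.unusedVariables false

namespace Cfsg.Agent.H1.HHMod
open Cfsg Cfsg.Agent.Lib.Lead.PSolvable Cfsg.Agent.H1 Cfsg.Agent.H1.HHAb Module
open scoped commutatorElement

universe u

/-- if `B` normalizes `⟨a⟩`, commutators of powers of `a` with `B` lie in `⟨a^n⟩`, `n` the order of `a` mod `B` -/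
theorem comm_mem_zpowers_pow {G : Type*} [Group G] (B : Subgroup G) [hBn : B.Normal] (a : G)
    (hN : B ≤ Subgroup.normalizer (Subgroup.zpowers a : Set G)) (i : ℕ) (u : G) (hu : u ∈ B) :
    a ^ i * u * (a ^ i)⁻¹ * u⁻¹ ∈ Subgroup.zpowers (a ^ orderOf (QuotientGroup.mk' B a)) := by
  set n := orderOf (QuotientGroup.mk' B a) with hn
  have huN := hN hu
  rw [Subgroup.mem_normalizer_iff] at huN
  have h1 : u * (a ^ i)⁻¹ * u⁻¹ ∈ Subgroup.zpowers a :=
    (huN _).1 (Subgroup.inv_mem _ (Subgroup.pow_mem _ (Subgroup.mem_zpowers a) i))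
  have h2 : a ^ i * u * (a ^ i)⁻¹ * u⁻¹ ∈ Subgroup.zpowers a := by
    have : a ^ i * u * (a ^ i)⁻¹ * u⁻¹ = a ^ i * (u * (a ^ i)⁻¹ * u⁻¹) := by group
    rw [this]
    exact Subgroup.mul_mem _ (Subgroup.pow_mem _ (Subgroup.mem_zpowers a) i) h1
  have h3 : a ^ i * u * (a ^ i)⁻¹ * u⁻¹ ∈ B :=
    B.mul_mem (hBn.conj_mem u hu (a ^ i)) (B.inv_mem hu)
  obtain ⟨e, he⟩ := Subgroup.mem_zpowers_iff.1 h2
  rw [← he] at h3 ⊢
  have h4 : (QuotientGroup.mk' B a) ^ e = 1 := by
    rw [← map_zpow]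
    exact (QuotientGroup.eq_one_iff _).2 h3
  have h5 : (n : ℤ) ∣ e := orderOf_dvd_iff_zpow_eq_one.2 h4
  obtain ⟨j, rfl⟩ := h5
  rw [Subgroup.mem_zpowers_iff]
  refine ⟨j, ?_⟩
  rw [zpow_mul, zpow_natCast]

/-- two involutions whose product has order three give an `S₃` -/
theorem s3_of_involutions {Γ : Type*} [Group Γ] (r r' : Γ) (hr : r ^ 2 = 1) (hr' : r' ^ 2 = 1)
    (h3 : (r * r') ^ 3 = 1) (hne : r * r' ≠ 1) :
    Nonempty (Subgroup.closure ({r, r'} : Set Γ) ≃* Equiv.Perm (Fin 3)) := by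
  have hr1 : r ≠ 1 := by
    rintro rfl
    apply hne
    rw [one_mul] at h3 ⊢
    calc r' = r' ^ 3 * (r' ^ 2)⁻¹ := by group
      _ = 1 := by rw [h3, hr', inv_one, mul_one]
  have hr'1 : r' ≠ 1 := by
    rintro rfl
    apply hne
    rw [mul_one] at h3 ⊢
    calc r = r ^ 3 * (r ^ 2)⁻¹ := by group
      _ = 1 := by rw [h3, hr, inv_one, mul_one]
  have hinv : r' * r = (r * r')⁻¹ := by
    rw [eq_inv_iff_mul_eq_one]
    calc r' * r * (r * r') = r' * (r ^ 2) * r' := by rw [pow_two]; simp only [mul_assoc]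
      _ = 1 := by rw [hr, mul_one, ← pow_two, hr']
  have hE : Cfsg.IsThreeTranspositionSet ({r, r'} : Set Γ) := by
    constructor
    · intro d hd
      rcases hd with rfl | hd
      · exact orderOf_eq_prime hr hr1
      · rw [Set.mem_singleton_iff] at hd
        subst hd
        exact orderOf_eq_prime hr' hr'1
    · intro d hd e he
      rcases hd with rfl | hd
      · rcases he with rfl | he
        · left; rw [← pow_two, hr, one_pow]
        · rw [Set.mem_singleton_iff] at he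
          subst he
          right; exact h3
      · rw [Set.mem_singleton_iff] at hd
        subst hd
        rcases he with rfl | he
        · right; rw [hinv, inv_pow, h3, inv_one]
        · rw [Set.mem_singleton_iff] at he
          subst he
          left; rw [← pow_two, hr', one_pow]
  apply Cfsg.Agent.S0444.result hE (Set.mem_insert _ _) (Set.mem_insert_of_mem _ rfl)
  intro hc
  apply hne
  have h2 : (r * r') ^ 2 = 1 := by rw [hc.mul_pow, hr, hr', one_mul]
  calc r * r' = (r * r') ^ 3 * ((r * r') ^ 2)⁻¹ := by group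
    _ = 1 := by rw [h3, h2, inv_one, mul_one]

/-- an `S₃` in `G / B`, `B` a normal self-centralizing `2`-subgroup, gives a section `S₄` of `G` -/
theorem involves_s4_of_quot {G : Type u} [Group G] [Finite G] (B : Subgroup G) [hBn : B.Normal]
    (hBp : IsPGroup 2 ↥B) (hc : Subgroup.centralizer (B : Set G) ≤ B) (r r' : G ⧸ B)
    (hr : r ^ 2 = 1) (hr' : r' ^ 2 = 1) (h3 : (r * r') ^ 3 = 1) (hne : r * r' ≠ 1) :
    Cfsg.Involves (Equiv.Perm (Fin 4)) G := by
  classical
  obtain ⟨e⟩ := s3_of_involutions r r' hr hr' h3 hne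
  obtain ⟨D, hD⟩ : ∃ D : Subgroup (G ⧸ B), D = Subgroup.closure ({r, r'} : Set (G ⧸ B)) := ⟨_, rfl⟩
  rw [← hD] at e
  obtain ⟨π, hπ⟩ : ∃ π : G →* G ⧸ B, π = QuotientGroup.mk' B := ⟨_, rfl⟩
  have hπs : Function.Surjective π := by rw [hπ]; exact QuotientGroup.mk'_surjective B
  obtain ⟨ψ, hψdef⟩ : ∃ ψ : ↥(D.comap π) →* Equiv.Perm (Fin 3), ψ = e.toMonoidHom.comp (π.subgroupComap D) :=
    ⟨_, rfl⟩
  have hψ : Function.Surjective ψ := by
    rw [hψdef]
    exact e.surjective.comp (π.subgroupComap_surjective_of_surjective D hπs)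
  obtain ⟨x, t, ⟨a, ha⟩, ⟨b, hb⟩, hinv, hψx⟩ := Cfsg.Agent.H9.S4Inv.exists_pair_aux ψ hψ
  refine Cfsg.Agent.H9.S4Inv.normalTwo (Nat.card B) G B rfl hBp (x : G) (t : G)
    ⟨a, by rw [← Subgroup.coe_pow, ha, Subgroup.coe_one]⟩
    ⟨b, by rw [← Subgroup.coe_pow, hb, Subgroup.coe_one]⟩
    (by rw [← Subgroup.coe_inv, ← Subgroup.coe_mul, ← Subgroup.coe_mul, hinv, Subgroup.coe_inv]) ?_
  intro hall
  apply hψx
  have hxC : (x : G) ∈ Subgroup.centralizer (B : Set G) := by
    rw [Subgroup.mem_centralizer_iff]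
    intro v hv
    exact (hall v hv).symm
  have hxB : (x : G) ∈ B := hc hxC
  have hπx : π (x : G) = 1 := by
    have h0 : ∀ g : G, g ∈ B → π g = 1 := by
      intro g hg
      rw [hπ]
      exact (QuotientGroup.eq_one_iff _).2 hg
    exact h0 _ hxB
  have : (π.subgroupComap D) x = 1 := by
    apply Subtype.ext
    exact hπx
  rw [hψdef, MonoidHom.comp_apply, this, map_one]

/-- the core of the cyclic-normal-subgroup lemma: a `p`-element `a` with `O_p(G) ≤ N(⟨a⟩)` lies in `O_p(G)`,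
when `O_{p'}(G) = 1` -/
theorem cyclic_le_pCore {G : Type u} [Group G] [Finite G] {p : ℕ} [hp : Fact p.Prime]
    (hsol : IsPSolvable p G) (hbot : pPrimeCore p G = ⊥)
    (a : G) (ha : ∃ k, a ^ p ^ k = 1)
    (hN : pCore p G ≤ Subgroup.normalizer (Subgroup.zpowers a : Set G))
    (h : p ≠ 2 ∨ ¬ Cfsg.Involves (Equiv.Perm (Fin 4)) G) : a ∈ pCore p G := by
  classical
  by_contra haB
  have hpp : p.Prime := hp.out
  have hBp : IsPGroup p ↥(pCore p G) := Cfsg.Agent.H1.pCore_isPGroup p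
  have hc : Subgroup.centralizer ((pCore p G : Subgroup G) : Set G) ≤ pCore p G := centralizer_pCore_le hsol hbot
  have hBmax : ∀ N : Subgroup G, N.Normal → IsPGroup p ↥N → N ≤ pCore p G :=
    fun N hN hNp => Cfsg.Agent.H1.le_pCore hN hNp
  have hsolA : IsPSolvable p (G ⧸ pCore p G) := IsPSolvable.quotient (pCore p G) hsol
  have hOpA : pCore p (G ⧸ pCore p G) = ⊥ := Cfsg.Agent.Lead.ExpSix.pCore_quotient_self_eq_bot (pCore p G) rfl
  set xb : G ⧸ pCore p G := QuotientGroup.mk' (pCore p G) a with hxb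
  have hxb1 : xb ≠ 1 := by
    intro h
    exact haB ((QuotientGroup.eq_one_iff a).1 h)
  obtain ⟨k, hk⟩ := ha
  have hxbk : xb ^ p ^ k = 1 := by rw [hxb, ← map_pow, hk, map_one]
  obtain ⟨m, hmk, hm⟩ := (Nat.dvd_prime_pow hpp).1 (orderOf_dvd_of_pow_eq_one hxbk)
  have hm1 : 1 ≤ m := by
    rcases Nat.eq_zero_or_pos m with h | h
    · rw [h, pow_zero, orderOf_eq_one_iff] at hm
      exact absurd hm hxb1
    · exact h
  set y : G := a ^ p ^ (m - 1) with hy
  set yb : G ⧸ pCore p G := xb ^ p ^ (m - 1) with hyb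
  have hyby : yb = QuotientGroup.mk' (pCore p G) y := by rw [hyb, hxb, hy, map_pow]
  have hppm : p ^ (m - 1) * p = p ^ m := by
    rw [← pow_succ]; congr 1; omega
  have hybp : yb ^ p = 1 := by
    rw [hyb, ← pow_mul, hppm, ← hm, pow_orderOf_eq_one]
  have hyb1 : yb ≠ 1 := by
    intro h
    have h1 : orderOf xb ∣ p ^ (m - 1) := orderOf_dvd_of_pow_eq_one h
    rw [hm] at h1
    have h2 := Nat.pow_dvd_pow_iff_le_right hpp.one_lt |>.1 h1
    omega
  have hybord : orderOf yb = p ^ 1 := by rw [pow_one]; exact orderOf_eq_prime hybp hyb1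
  obtain ⟨q, hqf, Q, hpq, hQq, hQy, s, hsQ, hsy⟩ := exists_q_sub p hsolA hOpA yb 1 le_rfl hybord
  rw [Nat.sub_self, pow_zero, pow_one] at hsy
  -- the vector `w`
  have hypa : y ^ p = a ^ p ^ m := by rw [hy, ← pow_mul, hppm]
  have hypB : y ^ p ∈ pCore p G := by
    rw [← QuotientGroup.eq_one_iff, ← QuotientGroup.mk'_apply, map_pow, ← hyby, hybp]
  set wB : ↥(pCore p G) := ⟨y ^ p, hypB⟩ with hwB
  set w : FQ (pCore p G) := QuotientGroup.mk wB with hw
  set φ := fqActQ (pCore p G) hBp with hφ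
  have hφy : ∀ u : ↥(pCore p G), φ yb (QuotientGroup.mk u) = QuotientGroup.mk (MulAut.conjNormal y u) := by
    intro u
    rw [hyby, hφ]
    exact fqActQ_mk (pCore p G) hBp y u
  have hrw : ∀ v : FQ (pCore p G), ∃ j : ℤ, φ yb v = w ^ j * v := by
    intro v
    obtain ⟨u, rfl⟩ := QuotientGroup.mk_surjective v
    have h1 := comm_mem_zpowers_pow (pCore p G) a hN (p ^ (m - 1)) (u : G) u.2
    rw [← hxb, hm, ← hypa, ← hy] at h1
    obtain ⟨j, hj⟩ := Subgroup.mem_zpowers_iff.1 h1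
    refine ⟨j, ?_⟩
    rw [hφy, hw, ← QuotientGroup.mk_zpow, ← QuotientGroup.mk_mul]
    congr 1
    apply Subtype.ext
    rw [MulAut.conjNormal_apply, Subgroup.coe_mul, Subgroup.coe_zpow, hwB]
    show y * (u : G) * y⁻¹ = (y ^ p) ^ j * (u : G)
    rw [hj]
    group
  have hww : φ yb w = w := by
    rw [hw, hφy]
    congr 1
    apply Subtype.ext
    rw [MulAut.conjNormal_apply, hwB]
    show y * y ^ p * y⁻¹ = y ^ p
    group
  have hfaith : ∀ g, φ g = 1 → g = 1 := fun g hg => fqActQ_faithful (pCore p G) hBp hBmax hc g hg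
  have hw1 : w ≠ 1 := by
    intro hw1
    apply hyb1
    apply hfaith
    ext v
    obtain ⟨j, hj⟩ := hrw v
    rw [hj, hw1, one_zpow, one_mul, MulAut.one_apply]
  obtain ⟨hodd, heven⟩ := transv_main (fq_comm (pCore p G) hBp) p (fq_exp (pCore p G) hBp) φ hfaith yb hybp w
    hrw hww q hpq Q hQq hQy s hsQ hsy
  by_cases hp2 : p = 2
  · -- the even case
    obtain ⟨r', hr'2, h3, hne⟩ := heven hp2
    have hS4 : ¬ Cfsg.Involves (Equiv.Perm (Fin 4)) G := by
      rcases h with h | h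
      · exact absurd hp2 h
      · exact h
    apply hS4
    subst hp2
    exact involves_s4_of_quot (pCore 2 G) hBp hc yb r' hybp hr'2 h3 hne
  · -- the odd case
    obtain ⟨hnorm, z, hzy, hzw⟩ := hodd hp2
    obtain ⟨g, rfl⟩ := QuotientGroup.mk_surjective z
    have huB : g * y * g⁻¹ * y⁻¹ ∈ pCore p G := by
      rw [← QuotientGroup.eq_one_iff, ← QuotientGroup.mk'_apply, map_mul, map_mul, map_mul, map_inv, map_inv,
        ← hyby, QuotientGroup.mk'_apply, hzy]
      group
    set uB : ↥(pCore p G) := ⟨g * y * g⁻¹ * y⁻¹, huB⟩ with huBdef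
    set NB : ↥(pCore p G) := nprod (fun i => MulAut.conjNormal (y ^ i) uB) p with hNB
    have h4 : (NB : G) = nprod (fun i => y ^ i * (g * y * g⁻¹ * y⁻¹) * (y ^ i)⁻¹) p := by
      have := map_nprod (pCore p G).subtype (fun i => MulAut.conjNormal (y ^ i) uB) p
      rw [Subgroup.coe_subtype] at this
      rw [hNB, this]
      apply nprod_congr
      intro i _
      show (((MulAut.conjNormal (y ^ i) uB : ↥(pCore p G))) : G) = _
      rw [MulAut.conjNormal_apply]
    have h5 : (QuotientGroup.mk NB : FQ (pCore p G)) = 1 := by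
      have h1 : ∀ i : ℕ, φ (yb ^ i) (QuotientGroup.mk uB) = QuotientGroup.mk (MulAut.conjNormal (y ^ i) uB) := by
        intro i
        have : yb ^ i = QuotientGroup.mk (y ^ i) := by
          rw [hyby]; rfl
        rw [this, hφ, fqActQ_mk]
      have h2 : nprod (fun i => φ (yb ^ i) (QuotientGroup.mk uB)) p =
          QuotientGroup.mk' (frattini ↥(pCore p G)) NB := by
        rw [hNB, map_nprod]
        apply nprod_congr
        intro i _
        exact h1 i
      rw [← QuotientGroup.mk'_apply, ← h2]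
      exact hnorm _
    have h6 := mul_pow_eq_nprod (g * y * g⁻¹ * y⁻¹) y p
    have h7 : g * y * g⁻¹ * y⁻¹ * y = g * y * g⁻¹ := by group
    rw [h7, conj_pow, ← h4] at h6
    have h8 : MulAut.conjNormal g wB = NB * wB := by
      apply Subtype.ext
      rw [MulAut.conjNormal_apply, Subgroup.coe_mul, hwB]
      exact h6
    have h9 : φ (QuotientGroup.mk g) w = w := by
      rw [hw, hφ, fqActQ_mk, h8, QuotientGroup.mk_mul, h5, one_mul]
    rw [hzw] at h9
    apply hw1
    have hw2 : w ^ 2 = 1 := by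
      rw [pow_two]
      nth_rewrite 1 [← h9]
      exact inv_mul_cancel w
    have hwp : w ^ p = 1 := fq_exp (pCore p G) hBp w
    have h10 : orderOf w ∣ 2 := orderOf_dvd_of_pow_eq_one hw2
    have h11 : orderOf w ∣ p := orderOf_dvd_of_pow_eq_one hwp
    have hcop : Nat.Coprime 2 p := (Nat.coprime_primes Nat.prime_two hpp).2 (Ne.symm hp2)
    exact orderOf_eq_one_iff.mp (Nat.eq_one_of_dvd_coprimes hcop h10 h11)

end Cfsg.Agent.H1.HHMod
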