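import Mathlib
import Cfsg.Agent.H1.MinNonPClosed

set_option autoImplicit false

namespace Cfsg.Agent.H1.HSubA

open scoped commutatorElement

/-- an automorphism of a finite cyclic group whose order is prime to `φ(|R|)` is trivial -/
theorem aut_eq_one_of_cyclic {R : Type*} [Group R] [Finite R] [IsCyclic R] (a : MulAut R) (o : ℕ)
    (ha : a ^ o = 1) (ho : o.Coprime (Nat.totient (Nat.card R))) : a = 1 := by
  have h1 : orderOf a ∣ o := orderOf_dvd_of_pow_eq_one ha
  have h2 : orderOf a ∣ Nat.totient (Nat.card R) := by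
    rw [← IsCyclic.card_mulAut R]
    exact orderOf_dvd_natCard a
  have h3 : orderOf a = 1 := Nat.eq_one_of_dvd_coprimes ho h1 h2
  exact orderOf_eq_one_iff.mp h3

variable {G : Type*} [Group G]

/-- an element normalizing a cyclic subgroup, of order prime to `φ(|C|)`, centralizes it -/
theorem conj_eq_of_normalizes_cyclic [Finite G] (C : Subgroup G) [IsCyclic C] (g : G)
    (hg : g ∈ Subgroup.normalizer (C : Set G))
    (ho : (orderOf g).Coprime (Nat.totient (Nat.card C))) : ∀ x ∈ C, g * x * g⁻¹ = x := by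
  intro x hx
  set a : MulAut C := C.normalizerMonoidHom ⟨g, hg⟩ with ha
  have h1 : a ^ orderOf g = 1 := by
    rw [ha, ← map_pow]
    have : (⟨g, hg⟩ : Subgroup.normalizer (C : Set G)) ^ orderOf g = 1 := by
      apply Subtype.ext
      simp [pow_orderOf_eq_one]
    rw [this, map_one]
  have h2 := aut_eq_one_of_cyclic a (orderOf g) h1 ho
  have h3 : a ⟨x, hx⟩ = ⟨x, hx⟩ := by rw [h2]; rfl
  have h4 := congrArg Subtype.val h3
  exact h4

/-- if `g` normalizes `Q` and a subgroup `B` of index `p` in `Q` (normal in `Q`), and the order of `g` is prime to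
`p - 1`, then `g` acts trivially on `Q / B` -/
theorem conj_mul_inv_mem_of_relIndex_prime [Finite G] {p : ℕ} [hp : Fact p.Prime] (Q B : Subgroup G)
    (hBQ : B ≤ Q) (hQB : Q ≤ Subgroup.normalizer (B : Set G)) (hidx : B.relIndex Q = p) (g : G)
    (hgQ : g ∈ Subgroup.normalizer (Q : Set G)) (hgB : g ∈ Subgroup.normalizer (B : Set G))
    (ho : (orderOf g).Coprime (p - 1)) : ∀ x ∈ Q, g * x * g⁻¹ * x⁻¹ ∈ B := by
  haveI hn : (B.subgroupOf Q).Normal := (Subgroup.normal_subgroupOf_iff_le_normalizer hBQ).mpr hQB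
  set e : MulAut Q := Q.normalizerMonoidHom ⟨g, hgQ⟩ with he
  have heval : ∀ y : Q, ((e y : Q) : G) = g * y * g⁻¹ := fun y => rfl
  have hmap : (B.subgroupOf Q).map (e : Q →* Q) = B.subgroupOf Q := by
    apply le_antisymm
    · rintro _ ⟨y, hy, rfl⟩
      rw [Subgroup.mem_subgroupOf]
      show ((e y : Q) : G) ∈ B
      rw [heval]
      exact (Subgroup.mem_normalizer_iff.mp hgB _).mp (Subgroup.mem_subgroupOf.mp hy)
    · intro y hy
      refine ⟨e.symm y, ?_, by simp⟩
      rw [SetLike.mem_coe, Subgroup.mem_subgroupOf]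
      have h1 : ((e (e.symm y) : Q) : G) ∈ B := by
        rw [MulEquiv.apply_symm_apply]; exact Subgroup.mem_subgroupOf.mp hy
      rw [heval] at h1
      exact (Subgroup.mem_normalizer_iff.mp hgB _).mpr h1
  set a : MulAut (Q ⧸ B.subgroupOf Q) := QuotientGroup.congr _ _ e hmap with ha
  have hcard : Nat.card (Q ⧸ B.subgroupOf Q) = p := by
    rw [← Subgroup.index_eq_card]; exact hidx
  haveI : IsCyclic (Q ⧸ B.subgroupOf Q) := isCyclic_of_prime_card hcard
  have hpow : ∀ n : ℕ, ∀ y : Q, (a ^ n) (QuotientGroup.mk y) = QuotientGroup.mk ((e ^ n) y) := by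
    intro n
    induction n with
    | zero => intro y; simp
    | succ n ih =>
      intro y
      rw [pow_succ', MulAut.mul_apply, ih, pow_succ', MulAut.mul_apply, ha, QuotientGroup.congr_mk]
  have he1 : e ^ orderOf g = 1 := by
    rw [he, ← map_pow]
    have : (⟨g, hgQ⟩ : Subgroup.normalizer (Q : Set G)) ^ orderOf g = 1 := by
      apply Subtype.ext
      simp [pow_orderOf_eq_one]
    rw [this, map_one]
  have ha1 : a ^ orderOf g = 1 := by
    ext y
    induction y using QuotientGroup.induction_on with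
    | H y => rw [hpow, he1]; rfl
  have h2 : a = 1 := by
    apply aut_eq_one_of_cyclic a (orderOf g) ha1
    rw [hcard, Nat.totient_prime hp.out]
    exact ho
  intro x hx
  have h3 : a (QuotientGroup.mk ⟨x, hx⟩) = QuotientGroup.mk ⟨x, hx⟩ := by rw [h2]; rfl
  rw [ha, QuotientGroup.congr_mk] at h3
  have h4 := QuotientGroup.eq.mp h3.symm
  rw [Subgroup.mem_subgroupOf] at h4
  have h5 : ((⟨x, hx⟩ : Q)⁻¹ * e ⟨x, hx⟩ : Q) = (x⁻¹ * (g * x * g⁻¹) : G) := by
    simp [heval]
  rw [h5] at h4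
  -- conjugate by x
  have h6 := (Subgroup.mem_normalizer_iff.mp (hQB hx) _).mp h4
  have e6 : x * (x⁻¹ * (g * x * g⁻¹)) * x⁻¹ = g * x * g⁻¹ * x⁻¹ := by group
  rwa [e6] at h6

/-- between a subgroup `K` of a finite `p`-group `Q` and `Q` there are subgroups of all intermediate orders -/
theorem exists_between [Finite G] {p : ℕ} [hp : Fact p.Prime] {K Q : Subgroup G} (hQ : IsPGroup p Q)
    (hKQ : K ≤ Q) {m : ℕ} (hK : Nat.card K ≤ p ^ m) (hm : p ^ m ≤ Nat.card Q) :
    ∃ F : Subgroup G, K ≤ F ∧ F ≤ Q ∧ Nat.card F = p ^ m := by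
  obtain ⟨k, hk⟩ := IsPGroup.iff_card.mp hQ
  obtain ⟨n, hn⟩ := IsPGroup.iff_card.mp (hQ.to_le hKQ)
  have hnm : n ≤ m := by
    rw [hn] at hK
    exact (Nat.pow_le_pow_iff_right hp.out.one_lt).mp hK
  have hmk : m ≤ k := by
    rw [hk] at hm
    exact (Nat.pow_le_pow_iff_right hp.out.one_lt).mp hm
  have hdvd : p ^ m ∣ Nat.card Q := by rw [hk]; exact pow_dvd_pow p hmk
  have hc : Nat.card (K.subgroupOf Q) = p ^ n := by
    rw [← hn]
    exact Nat.card_congr (Subgroup.subgroupOfEquivOfLe hKQ).toEquiv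
  obtain ⟨F', hF', hKF'⟩ := Sylow.exists_subgroup_card_pow_prime_le p hdvd (K.subgroupOf Q) hc hnm
  refine ⟨F'.map Q.subtype, ?_, ?_, ?_⟩
  · intro x hx
    exact ⟨⟨x, hKQ hx⟩, hKF' (Subgroup.mem_subgroupOf.mpr hx), rfl⟩
  · rintro _ ⟨y, -, rfl⟩
    exact y.2
  · rw [Subgroup.card_map_of_injective Q.subtype_injective, hF']

end Cfsg.Agent.H1.HSubA
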