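import Mathlib
import Cfsg.Agent.H1.HSubA
import Cfsg.Agent.H1.PGroup
import Cfsg.Agent.H1.Card
import Cfsg.Agent.S0026
import Cfsg.Agent.S0027
import Cfsg.Agent.Lib.Lead.OmegaFaithful

set_option autoImplicit false

namespace Cfsg.Agent.H1.HSubB

open Cfsg.Agent.H1.HSubA
open scoped commutatorElement

variable {G : Type*} [Group G]

/-- the family hypothesis: subgroups of `P` of order `p ^ d` (and `4` when `p ^ d = 2`) are strongly closed in `P` -/
def Fam (p d : ℕ) (P : Subgroup G) : Prop :=
  ∀ E : Subgroup G, E ≤ P → (Nat.card E = p ^ d ∨ (p ^ d = 2 ∧ Nat.card E = 4)) →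
    ∀ g x : G, x ∈ E → g * x * g⁻¹ ∈ P → g * x * g⁻¹ ∈ E

/-- `p'`-elements have order prime to `p - 1` -/
def Cop (p : ℕ) (G : Type*) [Group G] : Prop :=
  ∀ g : G, (orderOf g).Coprime p → (orderOf g).Coprime (p - 1)

theorem cop_totient {p : ℕ} [hp : Fact p.Prime] (hcop : Cop p G) {g : G} (hg : (orderOf g).Coprime p)
    (k : ℕ) : (orderOf g).Coprime (Nat.totient (p ^ k)) := by
  rcases Nat.eq_zero_or_pos k with h0 | h0
  · rw [h0, pow_zero, Nat.totient_one]; exact Nat.coprime_one_right _
  · rw [Nat.totient_prime_pow hp.out h0]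
    exact Nat.Coprime.mul_right (Nat.Coprime.pow_right _ hg) (hcop g hg)

theorem card_lt_of_lt [Finite G] {H K : Subgroup G} (h : H < K) : Nat.card H < Nat.card K := by
  by_contra hcon
  push Not at hcon
  exact h.ne (Subgroup.eq_of_le_of_card_ge h.le hcon)

theorem eq_of_lt_of_card [Finite G] {p : ℕ} [hp : Fact p.Prime] {d : ℕ} {E H F : Subgroup G}
    (hF : Nat.card F = p ^ (d + 1)) (hE : Nat.card E = p ^ d) (hEH : E < H) (hHF : H ≤ F) : H = F := by
  have h1 : Nat.card H ∣ p ^ (d + 1) := by rw [← hF]; exact Subgroup.card_dvd_of_le hHF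
  obtain ⟨j, hj, hj'⟩ := (Nat.dvd_prime_pow hp.out).mp h1
  have h2 := card_lt_of_lt hEH
  rw [hE, hj'] at h2
  have h3 : d < j := (Nat.pow_lt_pow_iff_right hp.out.one_lt).mp h2
  have h4 : j = d + 1 := by omega
  apply Subgroup.eq_of_le_of_card_ge hHF
  rw [hF, hj', h4]

theorem card_le_of_lt' [Finite G] {p : ℕ} [hp : Fact p.Prime] {d : ℕ} {H F : Subgroup G}
    (hF : Nat.card F = p ^ (d + 1)) (hHF : H < F) : Nat.card H ≤ p ^ d := by
  have h1 : Nat.card H ∣ p ^ (d + 1) := by rw [← hF]; exact Subgroup.card_dvd_of_le hHF.le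
  obtain ⟨j, hj, hj'⟩ := (Nat.dvd_prime_pow hp.out).mp h1
  have h2 := card_lt_of_lt hHF
  rw [hF, hj'] at h2
  have h3 : j < d + 1 := (Nat.pow_lt_pow_iff_right hp.out.one_lt).mp h2
  rw [hj']
  exact Nat.pow_le_pow_right hp.out.pos (by omega)

theorem mem_normalizer_sup [Finite G] {E₁ E₂ : Subgroup G} {g : G}
    (h1 : g ∈ Subgroup.normalizer (E₁ : Set G)) (h2 : g ∈ Subgroup.normalizer (E₂ : Set G)) :
    g ∈ Subgroup.normalizer ((E₁ ⊔ E₂ : Subgroup G) : Set G) := by
  apply mem_normalizer_of_conj_mem
  intro b hb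
  have : E₁ ⊔ E₂ ≤ (E₁ ⊔ E₂).comap (MulAut.conj g).toMonoidHom := by
    rw [sup_le_iff]
    constructor
    · intro y hy
      rw [Subgroup.mem_comap]
      exact Subgroup.mem_sup_left ((Subgroup.mem_normalizer_iff.mp h1 y).mp hy)
    · intro y hy
      rw [Subgroup.mem_comap]
      exact Subgroup.mem_sup_right ((Subgroup.mem_normalizer_iff.mp h2 y).mp hy)
  exact this hb

/-- Lemma A: `p'`-elements normalizing a large subgroup `Q ≤ P` centralize it -/
theorem centralizes_of_large [Finite G] {p : ℕ} [hp : Fact p.Prime] (P : Subgroup G) (hP : IsPGroup p P)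
    {d : ℕ} (hd : 1 ≤ d) (hfam : Fam p d P) (hcop : Cop p G)
    (Q : Subgroup G) (hQP : Q ≤ P) (hQc : p ^ (d + 1) ≤ Nat.card Q) (g : G)
    (hg : g ∈ Subgroup.normalizer (Q : Set G)) (hgp : (orderOf g).Coprime p) :
    g ∈ Subgroup.centralizer (Q : Set G) := by
  have hpp := hp.out
  have hQp : IsPGroup p Q := hP.to_le hQP
  apply Cfsg.Agent.Lib.Lead.OmegaFaithful.centralizes_of_fixes_small Q hQp g hg hgp
  intro x hxQ hsmall
  -- family members inside `Q` are normalized by every element normalizing `Q`
  have hnorm : ∀ E : Subgroup G, E ≤ Q → (Nat.card E = p ^ d ∨ (p ^ d = 2 ∧ Nat.card E = 4)) →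
      ∀ a : G, a ∈ Subgroup.normalizer (Q : Set G) → a ∈ Subgroup.normalizer (E : Set G) := by
    intro E hEQ hc a ha
    apply mem_normalizer_of_conj_mem
    intro b hb
    exact hfam E (hEQ.trans hQP) hc a b hb (hQP ((Subgroup.mem_normalizer_iff.mp ha b).mp (hEQ hb)))
  -- cyclic family members inside `Q` are centralized by `g`
  have hcyc : ∀ E : Subgroup G, E ≤ Q → (Nat.card E = p ^ d ∨ (p ^ d = 2 ∧ Nat.card E = 4)) →
      IsCyclic E → ∀ y ∈ E, g * y * g⁻¹ = y := by
    intro E hEQ hc hcy y hy
    haveI := hcy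
    obtain ⟨k, hk⟩ := IsPGroup.iff_card.mp (hQp.to_le hEQ)
    exact conj_eq_of_normalizes_cyclic E g (hnorm E hEQ hc g hg) (by rw [hk]; exact cop_totient hcop hgp k)
      y hy
  have hzx : Subgroup.zpowers x ≤ Q := Subgroup.zpowers_le.mpr hxQ
  by_cases h2 : p ^ d = 2
  · -- special case
    have hp2 : p = 2 := by
      have h1 : p ∣ 2 := by rw [← h2]; exact dvd_pow_self p (by omega)
      exact (Nat.prime_dvd_prime_iff_eq hpp Nat.prime_two).mp h1
    have hx4 : x ^ 4 = 1 := by
      rcases hsmall with h | ⟨_, h⟩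
      · rw [hp2] at h
        rw [show 4 = 2 * 2 from rfl, pow_mul, h, one_pow]
      · exact h
    have hord : orderOf x ∣ 2 ^ 2 := orderOf_dvd_of_pow_eq_one hx4
    obtain ⟨j, hj, hj'⟩ := (Nat.dvd_prime_pow Nat.prime_two).mp hord
    interval_cases j
    · rw [pow_zero, orderOf_eq_one_iff] at hj'
      rw [hj']; group
    · exact hcyc (Subgroup.zpowers x) hzx (Or.inl (by rw [Nat.card_zpowers, hj', h2]; rfl)) inferInstance x
        (Subgroup.mem_zpowers x)
    · exact hcyc (Subgroup.zpowers x) hzx (Or.inr ⟨h2, by rw [Nat.card_zpowers, hj']; rfl⟩) inferInstance x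
        (Subgroup.mem_zpowers x)
  · -- general case
    have hordle : orderOf x ≤ p ^ d := by
      rcases hsmall with h | ⟨hp2, h⟩
      · have h1 : orderOf x ∣ p := orderOf_dvd_of_pow_eq_one h
        calc orderOf x ≤ p := Nat.le_of_dvd hpp.pos h1
          _ = p ^ 1 := (pow_one p).symm
          _ ≤ p ^ d := Nat.pow_le_pow_right hpp.pos hd
      · have h1 : orderOf x ∣ 4 := orderOf_dvd_of_pow_eq_one h
        have hd2 : 2 ≤ d := by
          by_contra hcon
          have : d = 1 := by omega
          apply h2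
          rw [this, hp2, pow_one]
        calc orderOf x ≤ 4 := Nat.le_of_dvd (by norm_num) h1
          _ = p ^ 2 := by rw [hp2]; rfl
          _ ≤ p ^ d := Nat.pow_le_pow_right hpp.pos hd2
    have hpd : p ^ d ≤ p ^ (d + 1) := Nat.pow_le_pow_right hpp.pos (Nat.le_succ d)
    obtain ⟨F, hCF, hFQ, hFc⟩ := exists_between hQp hzx (m := d + 1)
      (by rw [Nat.card_zpowers]; exact hordle.trans hpd) hQc
    have hFp : IsPGroup p F := hQp.to_le hFQ
    by_cases hu : ∀ E₁ E₂ : Subgroup G, E₁ ≤ F → E₂ ≤ F → Nat.card E₁ = p ^ d → Nat.card E₂ = p ^ d → E₁ = E₂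
    · -- unique maximal subgroup: `F` is cyclic
      obtain ⟨E₁, hCE, hEF, hEc⟩ := exists_between hFp hCF (m := d)
        (by rw [Nat.card_zpowers]; exact hordle) (by rw [hFc]; exact hpd)
      have hex : ∃ y ∈ F, y ∉ E₁ := by
        by_contra hcon
        push Not at hcon
        have h1 : F ≤ E₁ := hcon
        have h3 := Subgroup.card_le_of_le h1
        rw [hFc, hEc] at h3
        have := (Nat.pow_le_pow_iff_right hpp.one_lt).mp h3
        omega
      obtain ⟨y, hyF, hyE⟩ := hex
      have hzy : Subgroup.zpowers y = F := by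
        by_contra hne
        have hlt : Subgroup.zpowers y < F := lt_of_le_of_ne (Subgroup.zpowers_le.mpr hyF) hne
        have hcard : Nat.card (Subgroup.zpowers y) ≤ p ^ d := card_le_of_lt' hFc hlt
        obtain ⟨E₂, hyE₂, hE₂F, hE₂c⟩ := exists_between hFp (Subgroup.zpowers_le.mpr hyF) hcard
          (by rw [hFc]; exact hpd)
        have h3 := hu E₁ E₂ hEF hE₂F hEc hE₂c
        apply hyE
        rw [h3]
        exact hyE₂ (Subgroup.mem_zpowers y)
      have hcy : IsCyclic E₁ := by
        have hle : E₁ ≤ Subgroup.zpowers y := by rw [hzy]; exact hEF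
        exact isCyclic_of_surjective (Subgroup.subgroupOfEquivOfLe hle).toMonoidHom
          (Subgroup.subgroupOfEquivOfLe hle).surjective
      exact hcyc E₁ (hEF.trans hFQ) (Or.inl hEc) hcy x (hCE (Subgroup.mem_zpowers x))
    · -- two distinct maximal subgroups
      push Not at hu
      obtain ⟨E₁, E₂, h1F, h2F, h1c, h2c, hne⟩ := hu
      have hsup : E₁ ⊔ E₂ = F := by
        apply eq_of_lt_of_card hFc h1c _ (sup_le h1F h2F)
        apply lt_of_le_of_ne le_sup_left
        intro heq
        have h3 : E₂ ≤ E₁ := by rw [heq]; exact le_sup_right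
        exact hne (Subgroup.eq_of_le_of_card_ge h3 (by rw [h1c, h2c])).symm
      have hnF : ∀ a : G, a ∈ Subgroup.normalizer (Q : Set G) → a ∈ Subgroup.normalizer (F : Set G) := by
        intro a ha
        rw [← hsup]
        exact mem_normalizer_sup (hnorm E₁ (h1F.trans hFQ) (Or.inl h1c) a ha)
          (hnorm E₂ (h2F.trans hFQ) (Or.inl h2c) a ha)
      set A := Subgroup.zpowers g with hA
      have hAQ : A ≤ Subgroup.normalizer (Q : Set G) := Subgroup.zpowers_le.mpr hg
      have hAF : A ≤ Subgroup.normalizer (F : Set G) := fun a ha => hnF a (hAQ ha)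
      have hcopA : (Nat.card A).Coprime (Nat.card F) := by
        rw [hA, Nat.card_zpowers, hFc]
        exact Nat.Coprime.pow_right _ hgp
      have hsolv : Group.IsSolvable A := by
        rw [hA]; infer_instance
      have h26 := Cfsg.Agent.S0026.result A F hAF hcopA (Or.inl hsolv)
      -- `[F, A] ≤ Φ(F)`
      have hcomm : ⁅F, A⁆ ≤ (frattini F).map F.subtype := by
        rw [Subgroup.commutator_le]
        intro y hy a ha
        have hyaF : ⁅y, a⁆ ∈ F := by
          rw [commutatorElement_def]
          have h3 : a * y⁻¹ * a⁻¹ ∈ F := (Subgroup.mem_normalizer_iff.mp (hAF ha) _).mp (F.inv_mem hy)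
          have e : y * a * y⁻¹ * a⁻¹ = y * (a * y⁻¹ * a⁻¹) := by group
          rw [e]; exact F.mul_mem hy h3
        refine ⟨⟨⁅y, a⁆, hyaF⟩, ?_, rfl⟩
        unfold frattini Order.radical
        rw [SetLike.mem_coe, Subgroup.mem_iInf]
        intro M'
        rw [Subgroup.mem_iInf]
        intro hM'
        obtain ⟨hM'n, hM'i⟩ := coatom_normal_index_of_pgroup (p := p) hFp M' hM'
        set E := M'.map F.subtype with hE
        have hEF : E ≤ F := by
          rintro _ ⟨m, -, rfl⟩; exact m.2
        have hsub : E.subgroupOf F = M' := by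
          rw [hE, Subgroup.subgroupOf, Subgroup.comap_map_eq_self_of_injective F.subtype_injective]
        have hidx : E.relIndex F = p := by
          rw [Subgroup.relIndex, hsub]; exact hM'i
        have hEc : Nat.card E = p ^ d := by
          have h3 := Cfsg.Agent.H1.card_eq_relIndex_mul_card hEF
          rw [hidx, hFc, pow_succ, mul_comm] at h3
          exact (Nat.eq_of_mul_eq_mul_left hpp.pos h3).symm
        have hFE : F ≤ Subgroup.normalizer (E : Set G) := by
          rw [← Subgroup.normal_subgroupOf_iff_le_normalizer hEF, hsub]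
          exact hM'n
        have haE : a ∈ Subgroup.normalizer (E : Set G) :=
          hnorm E (hEF.trans hFQ) (Or.inl hEc) a (hAQ ha)
        have hoa : (orderOf a).Coprime (p - 1) := by
          apply hcop
          exact Nat.Coprime.coprime_dvd_left (orderOf_dvd_of_mem_zpowers ha) hgp
        have h4 := conj_mul_inv_mem_of_relIndex_prime F E hEF hFE hidx a (hAF ha) haE hoa y hy
        have h5 : ⁅y, a⁆ ∈ E := by
          have e : ⁅y, a⁆ = (a * y * a⁻¹ * y⁻¹)⁻¹ := by rw [commutatorElement_def]; group
          rw [e]; exact E.inv_mem h4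
        obtain ⟨m, hm, hm'⟩ := h5
        have : m = ⟨⁅y, a⁆, hyaF⟩ := Subtype.ext hm'
        rw [← this]; exact hm
      -- conclude by the nongenerator property
      set C := F ⊓ Subgroup.centralizer (A : Set G) with hC
      have htop : C.subgroupOf F ⊔ frattini F = ⊤ := by
        rw [eq_top_iff]
        intro z _
        have hz : (z : G) ∈ ⁅F, A⁆ ⊔ C := by rw [h26]; exact z.2
        have hle : ⁅F, A⁆ ⊔ C ≤ (frattini F).map F.subtype ⊔ C := sup_le_sup_right hcomm C
        have hz2 := hle hz
        have h5 : ((frattini F).map F.subtype ⊔ C).subgroupOf F = frattini F ⊔ C.subgroupOf F := by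
          rw [Subgroup.subgroupOf_sup (by rintro _ ⟨m, -, rfl⟩; exact m.2) inf_le_left]
          congr 1
          rw [Subgroup.subgroupOf, Subgroup.comap_map_eq_self_of_injective F.subtype_injective]
        have h6 : z ∈ ((frattini F).map F.subtype ⊔ C).subgroupOf F := Subgroup.mem_subgroupOf.mpr hz2
        rw [h5, sup_comm] at h6
        exact h6
      have h7 := frattini_nongenerating htop
      have hFC : F ≤ C := by
        intro z hz
        have : (⟨z, hz⟩ : F) ∈ C.subgroupOf F := by rw [h7]; trivial
        exact Subgroup.mem_subgroupOf.mp this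
      have hxC := (hFC (hCF (Subgroup.mem_zpowers x))).2
      have h8 := Subgroup.mem_centralizer_iff.mp hxC g (Subgroup.mem_zpowers g)
      rw [h8]; group

/-- Lemma C: `[Q, g] ≤ Φ(P)` for `p'`-elements `g` normalizing `Q ≤ P` -/
theorem comm_zpowers_le_frattini_aux [Finite G] {p : ℕ} [hp : Fact p.Prime] (P : Subgroup G) (hP : IsPGroup p P)
    {d : ℕ} (hd : 1 ≤ d) (hdP : p ^ d < Nat.card P) (hfam : Fam p d P) (hcop : Cop p G) :
    ∀ n : ℕ, ∀ Q : Subgroup G, Nat.card Q = n → Q ≤ P → ∀ g : G, g ∈ Subgroup.normalizer (Q : Set G) →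
      (orderOf g).Coprime p → ⁅Q, Subgroup.zpowers g⁆ ≤ (frattini P).map P.subtype := by
  have hpp := hp.out
  intro n
  induction n using Nat.strong_induction_on with
  | _ n ih =>
    intro Q hQn hQP g hg hgp
    set A := Subgroup.zpowers g with hA
    have hAQ : A ≤ Subgroup.normalizer (Q : Set G) := Subgroup.zpowers_le.mpr hg
    have hQp : IsPGroup p Q := hP.to_le hQP
    obtain ⟨k, hk⟩ := IsPGroup.iff_card.mp hQp
    have hcopA : (Nat.card A).Coprime (Nat.card Q) := by
      rw [hA, Nat.card_zpowers, hk]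
      exact Nat.Coprime.pow_right _ hgp
    have hsolv : Group.IsSolvable A := by
      rw [hA]; infer_instance
    have hXQ : ⁅Q, A⁆ ≤ Q := Subgroup.le_normalizer_iff_commutator_le_left.mp hAQ
    by_cases hX : ⁅Q, A⁆ = Q
    · by_cases hbig : p ^ (d + 1) ≤ Nat.card Q
      · have hc := centralizes_of_large P hP hd hfam hcop Q hQP hbig g hg hgp
        have hQc : Q ≤ Subgroup.centralizer (A : Set G) := by
          intro y hy
          rw [Subgroup.mem_centralizer_iff]
          intro a ha
          obtain ⟨j, rfl⟩ := Subgroup.mem_zpowers_iff.mp ha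
          have h1 : Commute g y := (Subgroup.mem_centralizer_iff.mp hc y hy).symm
          exact (h1.zpow_left j).eq
        rw [Subgroup.commutator_eq_bot_iff_le_centralizer.mpr hQc]
        exact bot_le
      · push Not at hbig
        have hQd : Nat.card Q ≤ p ^ d := by
          rw [hk] at hbig ⊢
          have := (Nat.pow_lt_pow_iff_right hpp.one_lt).mp hbig
          exact Nat.pow_le_pow_right hpp.pos (by omega)
        -- `Q ≤ Φ(P)`
        have hQF : Q ≤ (frattini P).map P.subtype := by
          intro x hx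
          refine ⟨⟨x, hQP hx⟩, ?_, rfl⟩
          unfold frattini Order.radical
          rw [SetLike.mem_coe, Subgroup.mem_iInf]
          intro M'
          rw [Subgroup.mem_iInf]
          intro hM'
          by_contra hxM
          obtain ⟨hM'n, hM'i⟩ := coatom_normal_index_of_pgroup (p := p) hP M' hM'
          set M := M'.map P.subtype with hM
          have hMP : M ≤ P := by
            rintro _ ⟨m, -, rfl⟩; exact m.2
          have hsub : M.subgroupOf P = M' := by
            rw [hM, Subgroup.subgroupOf, Subgroup.comap_map_eq_self_of_injective P.subtype_injective]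
          have hxM2 : x ∉ M := by
            rintro ⟨m, hm, hm'⟩
            apply hxM
            have : m = ⟨x, hQP hx⟩ := Subtype.ext hm'
            rw [← this]; exact hm
          have hPM : P ≤ Subgroup.normalizer (M : Set G) := by
            rw [← Subgroup.normal_subgroupOf_iff_le_normalizer hMP, hsub]
            exact hM'n
          set B := Q ⊓ M with hB
          -- index of `B` in `Q`
          have hidx : B.relIndex Q = p := by
            rw [hB, Subgroup.inf_relIndex_left]
            have h1 : M.relIndex Q ∣ p := by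
              rw [← Subgroup.relIndex_subgroupOf hQP, hsub, ← hM'i]
              exact Subgroup.relIndex_dvd_index_of_normal M' (Q.subgroupOf P)
            rcases (Nat.dvd_prime hpp).mp h1 with h1 | h1
            · exfalso
              exact hxM2 (Subgroup.relIndex_eq_one.mp h1 hx)
            · exact h1
          have hBc : Nat.card B ≤ p ^ d := (Subgroup.card_le_of_le inf_le_left).trans hQd
          have hMc : p ^ d ≤ Nat.card M := by
            obtain ⟨n', hn'⟩ := IsPGroup.iff_card.mp hP
            have h3 := Cfsg.Agent.H1.card_eq_relIndex_mul_card hMP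
            have h4 : M.relIndex P = p := by
              rw [Subgroup.relIndex, hsub]; exact hM'i
            rw [h4, hn'] at h3
            rw [hn'] at hdP
            have h5 : d < n' := (Nat.pow_lt_pow_iff_right hpp.one_lt).mp hdP
            obtain ⟨n'', rfl⟩ : ∃ n'', n' = n'' + 1 := ⟨n' - 1, by omega⟩
            rw [pow_succ, mul_comm] at h3
            have h6 := Nat.eq_of_mul_eq_mul_left hpp.pos h3
            rw [← h6]
            exact Nat.pow_le_pow_right hpp.pos (by omega)
          obtain ⟨E, hBE, hEM, hEc⟩ := exists_between (hP.to_le hMP) (inf_le_right : B ≤ M) hBc hMc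
          have hBeq : B = E ⊓ Q := by
            apply le_antisymm
            · exact le_inf hBE inf_le_left
            · rw [hB]; exact le_inf inf_le_right (inf_le_left.trans hEM)
          have hAB : ∀ a ∈ A, a ∈ Subgroup.normalizer (B : Set G) := by
            intro a ha
            apply mem_normalizer_of_conj_mem
            intro b hb
            rw [hBeq] at hb ⊢
            have h1 : a * b * a⁻¹ ∈ Q := (Subgroup.mem_normalizer_iff.mp (hAQ ha) b).mp hb.2
            exact ⟨hfam E (hEM.trans hMP) (Or.inl hEc) a b hb.1 (hQP h1), h1⟩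
          have hQB : Q ≤ Subgroup.normalizer (B : Set G) := by
            intro y hy
            apply mem_normalizer_of_conj_mem
            intro b hb
            rw [hB] at hb ⊢
            refine ⟨Q.mul_mem (Q.mul_mem hy hb.1) (Q.inv_mem hy), ?_⟩
            exact (Subgroup.mem_normalizer_iff.mp (hPM (hQP hy)) b).mp hb.2
          have hle : ⁅Q, A⁆ ≤ B := by
            rw [Subgroup.commutator_le]
            intro y hy a ha
            have hoa : (orderOf a).Coprime (p - 1) := by
              apply hcop
              exact Nat.Coprime.coprime_dvd_left (orderOf_dvd_of_mem_zpowers ha) hgp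
            have h4 := conj_mul_inv_mem_of_relIndex_prime Q B inf_le_left hQB hidx a (hAQ ha) (hAB a ha)
              hoa y hy
            have e : ⁅y, a⁆ = (a * y * a⁻¹ * y⁻¹)⁻¹ := by rw [commutatorElement_def]; group
            rw [e]; exact B.inv_mem h4
          rw [hX] at hle
          exact hxM2 (hle hx).2
        exact hXQ.trans hQF
    · have hlt : ⁅Q, A⁆ < Q := lt_of_le_of_ne hXQ hX
      have hcard := card_lt_of_lt hlt
      rw [hQn] at hcard
      have hgX : g ∈ Subgroup.normalizer ((⁅Q, A⁆ : Subgroup G) : Set G) :=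
        Subgroup.normalizer_commutator_ge_right Q A (Subgroup.mem_zpowers g)
      have h1 := ih _ hcard ⁅Q, A⁆ rfl (hXQ.trans hQP) g hgX hgp
      have h27 := Cfsg.Agent.S0027.result A Q hAQ hcopA (Or.inl hsolv)
      rw [← hA, h27] at h1
      exact h1

theorem comm_zpowers_le_frattini [Finite G] {p : ℕ} [hp : Fact p.Prime] (P : Subgroup G) (hP : IsPGroup p P)
    {d : ℕ} (hd : 1 ≤ d) (hdP : p ^ d < Nat.card P) (hfam : Fam p d P) (hcop : Cop p G)
    (Q : Subgroup G) (hQP : Q ≤ P) (g : G) (hg : g ∈ Subgroup.normalizer (Q : Set G))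
    (hgp : (orderOf g).Coprime p) : ⁅Q, Subgroup.zpowers g⁆ ≤ (frattini P).map P.subtype :=
  comm_zpowers_le_frattini_aux P hP hd hdP hfam hcop _ Q rfl hQP g hg hgp
end Cfsg.Agent.H1.HSubB
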