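import Mathlib
import Cfsg.Agent.Lib.Lead.LocalControl
import Cfsg.Agent.H1.Frattini
import Cfsg.Agent.Lib.Helper7.Tate

set_option autoImplicit false
set_option linter.unusedSectionVars false

namespace Cfsg.Agent.H1.HSubC

open Cfsg Cfsg.Agent.Lib.Helper7 Cfsg.Agent.Lib.Lead.Conj Cfsg.Agent.Lib.Lead.ConjFamily Cfsg.Agent.S1963
  Cfsg.Agent.S1965 Cfsg.Agent.S1961 Cfsg.Agent.S1959 Cfsg.Agent.Lib.Lead.Frobenius
  Cfsg.Agent.Lib.Lead.LocalControl
open scoped commutatorElement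

universe u
variable {G : Type u} [Group G] [Finite G] {p : ℕ} [hp : Fact p.Prime] (S : Sylow p G)

/-- the elements of `N_G(U)` moving `U` only inside `Φ` -/
def W (U Φ : Subgroup G) : Subgroup G where
  carrier := {m | m ∈ Subgroup.normalizer (U : Set G) ∧ ∀ u ∈ U, u⁻¹ * (m⁻¹ * u * m) ∈ Φ}
  one_mem' := ⟨Subgroup.one_mem _, fun u _ => by simp⟩
  mul_mem' := by
    rintro m₁ m₂ ⟨h1, h1'⟩ ⟨h2, h2'⟩
    refine ⟨Subgroup.mul_mem _ h1 h2, fun u hu => ?_⟩
    have hu' : m₁⁻¹ * u * m₁ ∈ U := by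
      have := (Subgroup.mem_normalizer_iff.mp (Subgroup.inv_mem _ h1) u).mp hu
      rwa [inv_inv] at this
    have e : u⁻¹ * ((m₁ * m₂)⁻¹ * u * (m₁ * m₂)) =
        (u⁻¹ * (m₁⁻¹ * u * m₁)) * ((m₁⁻¹ * u * m₁)⁻¹ * (m₂⁻¹ * (m₁⁻¹ * u * m₁) * m₂)) := by group
    rw [e]
    exact Φ.mul_mem (h1' u hu) (h2' _ hu')
  inv_mem' := by
    rintro m ⟨h1, h1'⟩
    refine ⟨Subgroup.inv_mem _ h1, fun u hu => ?_⟩
    have hu' : m * u * m⁻¹ ∈ U := (Subgroup.mem_normalizer_iff.mp h1 u).mp hu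
    have h3 := Φ.inv_mem (h1' _ hu')
    have e : u⁻¹ * (m⁻¹⁻¹ * u * m⁻¹) = ((m * u * m⁻¹)⁻¹ * (m⁻¹ * (m * u * m⁻¹) * m))⁻¹ := by group
    rw [e]
    exact h3

theorem mem_W {U Φ : Subgroup G} {m : G} :
    m ∈ W U Φ ↔ m ∈ Subgroup.normalizer (U : Set G) ∧ ∀ u ∈ U, u⁻¹ * (m⁻¹ * u * m) ∈ Φ := Iff.rfl

/-- the local step -/
theorem local_step
    (hC : ∀ Q : Subgroup G, Q ≤ (S : Subgroup G) → ∀ g : G, g ∈ Subgroup.normalizer (Q : Set G) →
      (orderOf g).Coprime p → ⁅Q, Subgroup.zpowers g⁆ ≤ (frattini (S : Subgroup G)).map (S : Subgroup G).subtype)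
    {U : Subgroup G} (hU : U ∈ F0 S) {n : G} (hn : n ∈ Subgroup.normalizer (U : Set G)) :
    ∀ u ∈ U, u⁻¹ * (n⁻¹ * u * n) ∈ (frattini (S : Subgroup G)).map (S : Subgroup G).subtype := by
  set Φ := (frattini (S : Subgroup G)).map (S : Subgroup G).subtype with hΦ
  set N := Subgroup.normalizer (U : Set G) with hN
  have hUS : U ≤ (S : Subgroup G) := hU.1
  have hidx : ¬ p ∣ (((S : Subgroup G) ⊓ N).subgroupOf N).index := hU.2
  obtain ⟨r, hr, m, hm, hrm⟩ := Cfsg.Agent.Lib.Lead.PResidual.exists_mul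
    (((S : Subgroup G) ⊓ N).subgroupOf N) hidx ⟨n, hn⟩
  have hmW : (m : G) ∈ W U Φ := by
    have hle : Cfsg.pResidual p ↥N ≤ (W U Φ).subgroupOf N := by
      unfold Cfsg.pResidual
      rw [Subgroup.closure_le]
      intro y hy
      have hy' : Nat.Coprime (orderOf y) p := hy
      rw [SetLike.mem_coe, Subgroup.mem_subgroupOf, mem_W]
      refine ⟨y.2, fun u hu => ?_⟩
      have hyo : (orderOf (y : G)).Coprime p := by rwa [Subgroup.orderOf_coe]
      have h1 := hC U hUS y y.2 hyo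
      apply h1
      have e : u⁻¹ * ((y : G)⁻¹ * u * y) = ⁅u⁻¹, (y : G)⁻¹⁆ := by rw [commutatorElement_def]; group
      rw [e]
      exact Subgroup.commutator_mem_commutator (U.inv_mem hu)
        (Subgroup.inv_mem _ (Subgroup.mem_zpowers (y : G)))
    exact Subgroup.mem_subgroupOf.1 (hle hm)
  have hrS : (r : G) ∈ (S : Subgroup G) ⊓ N := Subgroup.mem_subgroupOf.1 hr
  have hrW : (r : G) ∈ W U Φ := by
    rw [mem_W]
    refine ⟨hrS.2, fun u hu => ?_⟩
    have h1 : ⁅(⟨u⁻¹, (S : Subgroup G).inv_mem (hUS hu)⟩ : (S : Subgroup G)),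
        (⟨(r : G)⁻¹, (S : Subgroup G).inv_mem hrS.1⟩ : (S : Subgroup G))⁆ ∈ frattini (S : Subgroup G) := by
      apply Cfsg.Agent.H1.commutator_le_frattini (p := p) S.isPGroup'
      exact Subgroup.commutator_mem_commutator (Subgroup.mem_top _) (Subgroup.mem_top _)
    refine ⟨_, h1, ?_⟩
    rw [commutatorElement_def]
    simp only [Subgroup.coe_subtype, Subgroup.coe_mul, Subgroup.coe_inv, inv_inv]
    group
  have hrm' : n = (r : G) * (m : G) := by
    have := congrArg Subtype.val hrm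
    simpa using this
  have hnW : n ∈ W U Φ := by rw [hrm']; exact (W U Φ).mul_mem hrW hmW
  exact hnW.2

/-- induction along an Alperin chain -/
theorem chain_step
    (hC : ∀ Q : Subgroup G, Q ≤ (S : Subgroup G) → ∀ g : G, g ∈ Subgroup.normalizer (Q : Set G) →
      (orderOf g).Coprime p → ⁅Q, Subgroup.zpowers g⁆ ≤ (frattini (S : Subgroup G)).map (S : Subgroup G).subtype) :
    ∀ (l : List (Subgroup G × G)) (A : Set G), DecL (F0 S) l A →
      ∀ a ∈ A, a⁻¹ * ((prodL l)⁻¹ * a * prodL l) ∈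
        (frattini (S : Subgroup G)).map (S : Subgroup G).subtype := by
  intro l
  induction l with
  | nil =>
    intro A _ a _
    simp
  | cons c l ih =>
    obtain ⟨T, x⟩ := c
    rintro A ⟨hT, hx, hAT, hdec⟩ a ha
    have h1 := local_step S hC hT hx a (hAT ha)
    have hb : x⁻¹ * a * x ∈ rc x A := ⟨a, ha, rfl⟩
    have h2 := ih (rc x A) hdec _ hb
    rw [prodL_cons]
    have e : a⁻¹ * ((x * prodL l)⁻¹ * a * (x * prodL l)) =
        (a⁻¹ * (x⁻¹ * a * x)) * ((x⁻¹ * a * x)⁻¹ * ((prodL l)⁻¹ * (x⁻¹ * a * x) * prodL l)) := by group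
    rw [e]
    exact Subgroup.mul_mem _ h1 h2

/-- the focal subgroup lies in the Frattini subgroup -/
theorem focal_le_frattini
    (hC : ∀ Q : Subgroup G, Q ≤ (S : Subgroup G) → ∀ g : G, g ∈ Subgroup.normalizer (Q : Set G) →
      (orderOf g).Coprime p → ⁅Q, Subgroup.zpowers g⁆ ≤ (frattini (S : Subgroup G)).map (S : Subgroup G).subtype) :
    (S : Subgroup G).focalSubgroup ≤ (frattini (S : Subgroup G)).map (S : Subgroup G).subtype := by
  rw [Subgroup.focalSubgroup_def, Subgroup.closure_le]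
  rintro z ⟨hzS, x, hxS, v, rfl⟩
  have hA : ({x⁻¹} : Set G) ⊆ ((S : Subgroup G) : Set G) := by
    rintro _ rfl; exact (S : Subgroup G).inv_mem hxS
  have hrc : rc v⁻¹ ({x⁻¹} : Set G) ⊆ ((S : Subgroup G) : Set G) := by
    rintro _ ⟨a, rfl, rfl⟩
    show v⁻¹⁻¹ * x⁻¹ * v⁻¹ ∈ (S : Subgroup G)
    have e : v⁻¹⁻¹ * x⁻¹ * v⁻¹ = x⁻¹ * ⁅x, v⁆ := by rw [commutatorElement_def]; group
    rw [e]
    exact (S : Subgroup G).mul_mem ((S : Subgroup G).inv_mem hxS) hzS
  obtain ⟨l, hl, hdec⟩ := alperin_F0 S ({x⁻¹} : Set G) v⁻¹ hA hrc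
  have h1 := chain_step S hC l _ hdec x⁻¹ rfl
  rw [hl] at h1
  have e : x⁻¹⁻¹ * (v⁻¹⁻¹ * x⁻¹ * v⁻¹) = ⁅x, v⁆ := by rw [commutatorElement_def]; group
  rw [e] at h1
  exact h1

/-- Tate: if the focal subgroup lies in the Frattini subgroup, there is a normal `p`-complement -/
theorem hasNormalPComplement_of_focal_le
    (h : (S : Subgroup G).focalSubgroup ≤ (frattini (S : Subgroup G)).map (S : Subgroup G).subtype) :
    Cfsg.HasNormalPComplement p G := by
  haveI : (S : Subgroup G).FiniteIndex := inferInstance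
  set K := (S : Subgroup G).transferFocal.ker with hK
  have h1 : K ⊓ (S : Subgroup G) = (S : Subgroup G).focalSubgroup :=
    Subgroup.ker_transferFocal_inf_eq_focalSubgroup S
  have h2 : Cfsg.HasNormalPComplement p ↥K :=
    Cfsg.Agent.Lib.Helper7.Tate.tate S K (by rw [h1]; exact h)
  have hq : IsPGroup p (G ⧸ K) := by
    have e := Subgroup.transferFocal.quotientKerMulEquivQuotientFocalSubroupOf S
    exact IsPGroup.of_equiv (S.isPGroup'.to_quotient _) e.symm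
  exact Cfsg.Agent.Lib.Lead.Frobenius.hasNormalPComplement_of_hasNormalPComplement K hq h2

end Cfsg.Agent.H1.HSubC
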