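import Mathlib
import Cfsg.Prelude.Def_Transfer
import Cfsg.Agent.H1.HSubB
import Cfsg.Agent.H1.HSubC
import Cfsg.Agent.H1.Schmidt

set_option autoImplicit false

namespace Cfsg.Agent.H1.HSubD

open Cfsg.Agent.H1.HSubA Cfsg.Agent.H1.HSubB Cfsg.Agent.H1.HSubC
open scoped commutatorElement

universe u
variable {G : Type u} [Group G] [Finite G] {p : ℕ} [hp : Fact p.Prime]

/-- `p'`-elements have order prime to `p - 1` when `p` is the smallest prime divisor -/
theorem cop_of_min (hmin : ∀ q : ℕ, q.Prime → q ∣ Nat.card G → p ≤ q) : Cop p G := by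
  intro g _
  apply Nat.Coprime.symm
  apply Nat.coprime_of_dvd
  intro q hq hq1 hq2
  have h1 : p ≤ q := hmin q hq (hq2.trans (orderOf_dvd_natCard g))
  have h2 : q ≤ p - 1 := Nat.le_of_dvd (by have := hp.out.two_le; omega) hq1
  have := hp.out.two_le
  omega

/-- an `ℋ`-subgroup of `P` is normal in `P` -/
theorem le_normalizer_of_H (P : Sylow p G) (E : Subgroup G) (hEP : E ≤ (P : Subgroup G))
    (hE : ∀ g : G, E.map (MulAut.conj g).toMonoidHom ⊓ Subgroup.normalizer (E : Set G) ≤ E) :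
    (P : Subgroup G) ≤ Subgroup.normalizer (E : Set G) := by
  set N₁ := Subgroup.normalizer (E : Set G) ⊓ (P : Subgroup G) with hN₁
  by_cases hN : N₁ = (P : Subgroup G)
  · rw [← hN]; exact inf_le_left
  · exfalso
    have hlt : N₁ < (P : Subgroup G) := lt_of_le_of_ne inf_le_right hN
    have hnil : Group.IsNilpotent (P : Subgroup G) := P.isPGroup'.isNilpotent
    have h1 := Cfsg.Agent.H1.lt_normalizer_inf_of_nilpotent N₁ (P : Subgroup G) hnil hlt
    obtain ⟨u, hu1, hu2⟩ := SetLike.exists_of_lt h1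
    apply hu2
    refine ⟨?_, hu1.2⟩
    apply mem_normalizer_of_conj_mem
    intro e he
    apply hE u
    refine ⟨⟨e, he, rfl⟩, ?_⟩
    have h3 : e ∈ N₁ := ⟨Subgroup.le_normalizer he, hEP he⟩
    exact ((Subgroup.mem_normalizer_iff.mp hu1.1 e).mp h3).1

theorem sc_of_H (P : Sylow p G) (E : Subgroup G) (hEP : E ≤ (P : Subgroup G))
    (hE : ∀ g : G, E.map (MulAut.conj g).toMonoidHom ⊓ Subgroup.normalizer (E : Set G) ≤ E) :
    ∀ g x : G, x ∈ E → g * x * g⁻¹ ∈ (P : Subgroup G) → g * x * g⁻¹ ∈ E := by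
  intro g x hx hgx
  apply hE g
  exact ⟨⟨x, hx, rfl⟩, le_normalizer_of_H P E hEP hE hgx⟩

theorem main (hdiv : p ∣ Nat.card G)
    (hmin : ∀ q : ℕ, q.Prime → q ∣ Nat.card G → p ≤ q) (P : Sylow p G)
    (h : IsCyclic ↥(P : Subgroup G) ∨ ∃ D : Subgroup G, D ≤ (P : Subgroup G) ∧ 1 < Nat.card D ∧ Nat.card D < Nat.card (P : Subgroup G) ∧
      ∀ E : Subgroup G, E ≤ (P : Subgroup G) → (Nat.card E = Nat.card D ∨ (Nat.card D = 2 ∧ Nat.card E = 4)) →
        ∀ g : G, E.map (MulAut.conj g).toMonoidHom ⊓ Subgroup.normalizer (E : Set G) ≤ E) :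
    Cfsg.HasNormalPComplement p G := by
  have hpp := hp.out
  rcases h with hcyc | ⟨D, hDP, hD1, hDlt, hD⟩
  · -- cyclic case
    have hne : Nat.card G ≠ 1 := by
      intro h1
      rw [h1] at hdiv
      exact hpp.one_lt.ne' (Nat.dvd_one.mp hdiv)
    have hmf : (Nat.card G).minFac = p := by
      apply le_antisymm
      · exact Nat.minFac_le_of_dvd hpp.two_le hdiv
      · exact hmin _ (Nat.minFac_prime hne) (Nat.minFac_dvd _)
    exact ⟨P, _, inferInstance, IsCyclic.isComplement' hmf hcyc⟩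
  · obtain ⟨d, hd⟩ := IsPGroup.iff_card.mp (P.isPGroup'.to_le hDP)
    have hd1 : 1 ≤ d := by
      by_contra hcon
      have : d = 0 := by omega
      rw [hd, this, pow_zero] at hD1
      exact lt_irrefl _ hD1
    have hfam : Fam p d (P : Subgroup G) := by
      intro E hEP hc
      apply sc_of_H P E hEP
      apply hD E hEP
      rw [hd]; exact hc
    have hcop := cop_of_min (G := G) hmin
    rw [hd] at hDlt
    apply hasNormalPComplement_of_focal_le P
    apply focal_le_frattini P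
    intro Q hQP g hg hgp
    exact comm_zpowers_le_frattini (P : Subgroup G) P.isPGroup' hd1 hDlt hfam hcop Q hQP g hg hgp

end Cfsg.Agent.H1.HSubD
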