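import Mathlib
import Cfsg.Agent.H1.Basic

/-! Groups all of whose maximal subgroups have prime index (helper1). -/

namespace Cfsg.Agent.H1

/-- if `N_G(P) ≤ M` then `[G:M] ≡ 1 mod p` -/
lemma index_modEq_one_of_normalizer_le {G : Type*} [Group G] [Finite G] {p : ℕ} [Fact p.Prime] (P : Sylow p G)
    (M : Subgroup G) (hNM : Subgroup.normalizer ((P : Subgroup G) : Set G) ≤ M) : M.index ≡ 1 [MOD p] := by
  have hPM : (P : Subgroup G) ≤ M := Subgroup.le_normalizer.trans hNM
  have h1 : (Subgroup.normalizer ((P : Subgroup G) : Set G)).index ≡ 1 [MOD p] := by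
    have e : Nat.card (Sylow p G) = (Subgroup.normalizer ((P : Subgroup G) : Set G)).index := P.card_eq_index_normalizer
    rw [← e]; exact card_sylow_modEq_one p G
  have h2 : (Subgroup.normalizer ((P : Subgroup G) : Set G)).relIndex M ≡ 1 [MOD p] := by
    have this : Nat.card (Sylow p M) = (Subgroup.normalizer (((P.subtype hPM : Sylow p M) : Subgroup M) : Set M)).index :=
      (P.subtype hPM).card_eq_index_normalizer
    rw [Sylow.coe_subtype, ← Subgroup.subgroupOf_normalizer_eq hPM] at this
    have h3 := card_sylow_modEq_one p M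
    rw [this] at h3
    exact h3
  have h3 := Subgroup.relIndex_mul_index hNM
  calc M.index = 1 * M.index := (one_mul _).symm
    _ ≡ (Subgroup.normalizer ((P : Subgroup G) : Set G)).relIndex M * M.index [MOD p] := Nat.ModEq.mul_right _ h2.symm
    _ = (Subgroup.normalizer ((P : Subgroup G) : Set G)).index := h3
    _ ≡ 1 [MOD p] := h1

theorem solvable_of_max_prime_index_aux.{u} : ∀ n : ℕ, ∀ (G : Type u) [Group G] [Finite G], Nat.card G = n →
    (∀ M : Subgroup G, IsCoatom M → M.index.Prime) → Group.IsSolvable G := by
  intro n
  induction n using Nat.strong_induction_on with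
  | _ n ih =>
    intro G _ _ hn h
    by_cases htriv : Nat.card G = 1
    · have : Subsingleton G := (Nat.card_eq_one_iff_unique.mp htriv).1
      infer_instance
    -- the largest prime divisor
    have hne : (Nat.card G).primeFactors.Nonempty := by
      rw [Nat.nonempty_primeFactors]
      have : 0 < Nat.card G := Nat.card_pos
      omega
    obtain ⟨p, hpmem, hpmax⟩ : ∃ p ∈ (Nat.card G).primeFactors, ∀ q ∈ (Nat.card G).primeFactors, q ≤ p :=
      ⟨_, Finset.max'_mem _ hne, fun q hq => Finset.le_max' _ q hq⟩
    have hp : p.Prime := Nat.prime_of_mem_primeFactors hpmem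
    have hpd : p ∣ Nat.card G := Nat.dvd_of_mem_primeFactors hpmem
    have : Fact p.Prime := ⟨hp⟩
    obtain P : Sylow p G := default
    -- P is normal
    have hPn : (P : Subgroup G).Normal := by
      rw [← Subgroup.normalizer_eq_top_iff]
      by_contra hne
      obtain ⟨M, hM, hNM⟩ := (eq_top_or_exists_le_coatom _).resolve_left hne
      have hq := h M hM
      have h1 := index_modEq_one_of_normalizer_le P M hNM
      have hqd : M.index ∣ Nat.card G := Subgroup.index_dvd_card M
      have hqle : M.index ≤ p := hpmax _ (Nat.mem_primeFactors.mpr ⟨hq, hqd, Nat.card_pos.ne'⟩)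
      -- M.index ≡ 1 mod p and 2 ≤ M.index ≤ p
      have h2 := hq.two_le
      rcases Nat.lt_or_ge M.index p with hlt | hge
      · have := Nat.ModEq.eq_of_lt_of_lt h1 hlt hp.one_lt
        omega
      · have heq : M.index = p := le_antisymm hqle hge
        rw [heq] at h1
        have : p % p = 1 % p := h1
        rw [Nat.mod_self, Nat.mod_eq_of_lt hp.one_lt] at this
        omega
    -- quotient
    have hPne : (P : Subgroup G) ≠ ⊥ := P.ne_bot_of_dvd_card hpd
    have hcardlt : Nat.card (G ⧸ (P : Subgroup G)) < n := by
      rw [← hn, ← Subgroup.index_eq_card, ← Subgroup.card_mul_index (P : Subgroup G)]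
      have h1 : 1 < Nat.card (P : Subgroup G) := by
        rw [Subgroup.one_lt_card_iff_ne_bot]; exact hPne
      have h2 : 0 < (P : Subgroup G).index := Nat.pos_of_ne_zero Subgroup.index_ne_zero_of_finite
      nlinarith
    have hQ : Group.IsSolvable (G ⧸ (P : Subgroup G)) := by
      apply ih _ hcardlt (G ⧸ (P : Subgroup G)) rfl
      intro M hM
      have h1 := Subgroup.isCoatom_comap_of_surjective (QuotientGroup.mk'_surjective (P : Subgroup G)) hM
      have h2 := h _ h1
      have h3 := Subgroup.index_comap_of_surjective (H := M) (QuotientGroup.mk'_surjective (P : Subgroup G))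
      rw [h3] at h2
      exact h2
    have hPs : Group.IsSolvable (P : Subgroup G) := by
      have := P.isPGroup'.isNilpotent
      infer_instance
    apply Group.isSolvable_of_ker_le_range (P : Subgroup G).subtype (QuotientGroup.mk' (P : Subgroup G))
    rw [QuotientGroup.ker_mk', Subgroup.range_subtype]

end Cfsg.Agent.H1
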