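import Mathlib
import Cfsg.Agent.H1.SupersolvableCLT
import Cfsg.Agent.Lib.Helper4.Sylow

set_option autoImplicit false
open scoped Pointwise commutatorElement

universe u

namespace Cfsg.Agent.H1

/-- a nontrivial finite supersolvable group has a normal subgroup whose order is the largest prime divisor -/
theorem exists_normal_card_maxPrime : ∀ n : ℕ, ∀ (G : Type u) [Group G] [Finite G], Nat.card G = n →
    SSReach (⊤ : Subgroup G) → ∀ p : ℕ, p.Prime → p ∣ Nat.card G →
    (∀ q : ℕ, q.Prime → q ∣ Nat.card G → q ≤ p) → ∃ R : Subgroup G, R.Normal ∧ Nat.card R = p := by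
  intro n
  induction n using Nat.strong_induction_on with
  | _ n ih =>
    intro G _ _ hn hss p hp hpG hmax
    haveI : Fact p.Prime := ⟨hp⟩
    rcases exists_normal_prime_of_reach hss with h | ⟨N, hN, hq, -⟩
    · exfalso
      have h1 : Nat.card G = 1 := by
        rw [← Subgroup.card_top (G := G), h, Subgroup.card_bot]
      rw [h1] at hpG
      exact hp.one_lt.ne' (Nat.dvd_one.mp hpG)
    · by_cases hqp : Nat.card N = p
      · exact ⟨N, hN, hqp⟩
      haveI := hN
      have hcard : Nat.card G = Nat.card (G ⧸ N) * Nat.card N := Subgroup.card_eq_card_quotient_mul_card_subgroup N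
      have hqG : Nat.card N ∣ Nat.card G := Subgroup.card_subgroup_dvd_card N
      have hqle : Nat.card N ≤ p := hmax _ hq hqG
      have hqlt : Nat.card N < p := lt_of_le_of_ne hqle hqp
      have hlt : Nat.card (G ⧸ N) < n := by
        rw [← hn, hcard]
        have h2 := hq.two_le
        have : 0 < Nat.card (G ⧸ N) := Nat.card_pos
        nlinarith
      have hss' : SSReach (⊤ : Subgroup (G ⧸ N)) := by
        have := hss.map (QuotientGroup.mk' N) (QuotientGroup.mk'_surjective N)
        rwa [Subgroup.map_top_of_surjective _ (QuotientGroup.mk'_surjective N)] at this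
      have hpQ : p ∣ Nat.card (G ⧸ N) := by
        rw [hcard] at hpG
        exact (Nat.Coprime.dvd_of_dvd_mul_right ((Nat.coprime_primes hp hq).mpr (Ne.symm hqp)) hpG)
      have hmaxQ : ∀ q : ℕ, q.Prime → q ∣ Nat.card (G ⧸ N) → q ≤ p := by
        intro q hq' hqd
        exact hmax q hq' (hqd.trans (Dvd.intro _ hcard.symm))
      obtain ⟨Mq, hMqn, hMqc⟩ := ih _ hlt (G ⧸ N) rfl hss' p hp hpQ hmaxQ
      set M : Subgroup G := Mq.comap (QuotientGroup.mk' N) with hM
      haveI hMn : M.Normal := hMqn.comap _
      have hMc : Nat.card M = p ^ 1 * Nat.card N := by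
        rw [hM, card_comap_mk, hMqc, pow_one]
      have hnd : ¬ p ∣ Nat.card N := by
        intro h
        have := (Nat.prime_dvd_prime_iff_eq hp hq).mp h
        exact hqp this.symm
      obtain ⟨P⟩ : Nonempty (Sylow p M) := inferInstance
      have hPc : Nat.card P = p ^ 1 := Lib.Helper4.Sylow.card_sylow_of_card_eq hMc hnd P
      have hnp : Nat.card (Sylow p M) = 1 := by
        have h1 : Nat.card (Sylow p M) ∣ Nat.card N := Lib.Helper4.Sylow.card_sylow_dvd_of_card_eq hMc hnd
        have h2 : Nat.card (Sylow p M) ≡ 1 [MOD p] := card_sylow_modEq_one p M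
        have h3 : Nat.card (Sylow p M) ≤ Nat.card N := Nat.le_of_dvd Nat.card_pos h1
        have h4 : Nat.card (Sylow p M) < p := lt_of_le_of_lt h3 hqlt
        have h5 := h2
        unfold Nat.ModEq at h5
        rw [Nat.mod_eq_of_lt h4, Nat.mod_eq_of_lt hp.one_lt] at h5
        exact h5
      haveI : Subsingleton (Sylow p M) := (Nat.card_eq_one_iff_unique.mp hnp).1
      haveI : (P : Subgroup M).Characteristic := Sylow.characteristic_of_subsingleton P
      refine ⟨(P : Subgroup M).map M.subtype, inferInstance, ?_⟩
      rw [Nat.card_congr ((P : Subgroup M).equivMapOfInjective M.subtype M.subtype_injective).toEquiv.symm]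
      rw [hPc, pow_one]

end Cfsg.Agent.H1

namespace Cfsg.Agent.H1

theorem sorted_chief_series : ∀ n : ℕ, ∀ (G : Type u) [Group G] [Finite G], Nat.card G = n →
    SSReach (⊤ : Subgroup G) → ∃ (m : ℕ) (H : Fin (m + 1) → Subgroup G), H 0 = ⊥ ∧ H (Fin.last m) = ⊤ ∧
      (∀ i, (H i).Normal) ∧
      (∀ i : Fin m, H i.castSucc ≤ H i.succ ∧ ((H i.castSucc).relIndex (H i.succ)).Prime) ∧
      ∀ i j : Fin m, i ≤ j → (H j.castSucc).relIndex (H j.succ) ≤ (H i.castSucc).relIndex (H i.succ) := by
  intro n
  induction n using Nat.strong_induction_on with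
  | _ n ih =>
    intro G _ _ hn hss
    by_cases h1 : Nat.card G = 1
    · haveI : Subsingleton G := (Nat.card_eq_one_iff_unique.mp h1).1
      refine ⟨0, fun _ => ⊥, rfl, Subsingleton.elim _ _, fun _ => inferInstance, fun i => i.elim0, fun i => i.elim0⟩
    · have hne : (Nat.card G).primeFactors.Nonempty := by
        rw [Nat.nonempty_primeFactors]
        have : 0 < Nat.card G := Nat.card_pos
        omega
      set p := (Nat.card G).primeFactors.max' hne with hpdef
      have hpmem : p ∈ (Nat.card G).primeFactors := Finset.max'_mem _ hne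
      have hp : p.Prime := Nat.prime_of_mem_primeFactors hpmem
      have hpG : p ∣ Nat.card G := Nat.dvd_of_mem_primeFactors hpmem
      have hmax : ∀ q : ℕ, q.Prime → q ∣ Nat.card G → q ≤ p := by
        intro q hq hqG
        apply Finset.le_max'
        exact Nat.mem_primeFactors.mpr ⟨hq, hqG, Nat.card_pos.ne'⟩
      obtain ⟨N, hN, hNc⟩ := exists_normal_card_maxPrime _ G rfl hss p hp hpG hmax
      haveI := hN
      have hcard : Nat.card G = Nat.card (G ⧸ N) * Nat.card N := Subgroup.card_eq_card_quotient_mul_card_subgroup N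
      have hlt : Nat.card (G ⧸ N) < n := by
        rw [← hn, hcard, hNc]
        have h2 := hp.two_le
        have : 0 < Nat.card (G ⧸ N) := Nat.card_pos
        nlinarith
      have hsurj := QuotientGroup.mk'_surjective N
      have hss' : SSReach (⊤ : Subgroup (G ⧸ N)) := by
        have := hss.map (QuotientGroup.mk' N) hsurj
        rwa [Subgroup.map_top_of_surjective _ hsurj] at this
      obtain ⟨m, Hq, hq0, hqlast, hqnorm, hqstep, hqmono⟩ := ih _ hlt (G ⧸ N) rfl hss'
      set K : Fin (m + 1) → Subgroup G := fun i => (Hq i).comap (QuotientGroup.mk' N) with hK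
      set H : Fin (m + 1 + 1) → Subgroup G := Fin.cons ⊥ K with hH
      have hH0 : H 0 = ⊥ := rfl
      have hHs : ∀ i : Fin (m + 1), H i.succ = K i := fun i => by rw [hH, Fin.cons_succ]
      have hrel0 : (H (0 : Fin (m + 1)).castSucc).relIndex (H (0 : Fin (m + 1)).succ) = p := by
        rw [hHs, Fin.castSucc_zero, hH0, Subgroup.relIndex_bot_left, hK]
        simp only
        rw [card_comap_mk, hq0, Subgroup.card_bot, one_mul, hNc]
      have hrels : ∀ j : Fin m, (H j.succ.castSucc).relIndex (H j.succ.succ) =
          (Hq j.castSucc).relIndex (Hq j.succ) := by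
        intro j
        rw [← Fin.succ_castSucc, hHs, hHs, hK]
        simp only
        rw [Subgroup.relIndex_comap, Subgroup.map_comap_eq_self_of_surjective hsurj]
      refine ⟨m + 1, H, hH0, ?_, ?_, ?_, ?_⟩
      · have : Fin.last (m + 1) = (Fin.last m).succ := rfl
        rw [this, hHs, hK]
        simp only
        rw [hqlast, Subgroup.comap_top]
      · intro i
        refine Fin.cases ?_ (fun j => ?_) i
        · rw [hH0]; infer_instance
        · rw [hHs, hK]
          simp only
          exact (hqnorm j).comap _
      · intro i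
        refine Fin.cases ?_ (fun j => ?_) i
        · refine ⟨?_, ?_⟩
          · rw [Fin.castSucc_zero, hH0]; exact bot_le
          · rw [hrel0]; exact hp
        · refine ⟨?_, ?_⟩
          · rw [← Fin.succ_castSucc, hHs, hHs, hK]
            simp only
            exact Subgroup.comap_mono (hqstep j).1
          · rw [hrels]; exact (hqstep j).2
      · intro i j
        refine Fin.cases ?_ (fun i' => ?_) i
        · intro _
          rw [hrel0]
          refine Fin.cases ?_ (fun j' => ?_) j
          · rw [hrel0]
          · rw [hrels]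
            apply hmax _ (hqstep j').2
            have h2 : (Hq j'.castSucc).relIndex (Hq j'.succ) ∣ Nat.card (Hq j'.succ) := Subgroup.relIndex_dvd_card _ _
            have h3 : Nat.card (Hq j'.succ) ∣ Nat.card (G ⧸ N) := Subgroup.card_subgroup_dvd_card _
            exact h2.trans (h3.trans (Dvd.intro _ hcard.symm))
        · refine Fin.cases ?_ (fun j' => ?_) j
          · intro h
            exact absurd h (by simp [Fin.le_def])
          · intro h
            rw [hrels, hrels]
            exact hqmono i' j' (Fin.succ_le_succ_iff.mp h)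

end Cfsg.Agent.H1
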