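import Mathlib
import Cfsg.Agent.Lib.Lead.Huppert
import Cfsg.Agent.H1.HSubB
import Cfsg.Agent.Lib.Lead.OmegaFaithful

set_option autoImplicit false

namespace Cfsg.Agent.H1.HSupA

open Cfsg.Agent.Lead.Huppert Cfsg.Agent.H1.HSubA Cfsg.Agent.H1.HSubB
open scoped commutatorElement

variable {Γ : Type*} [Group Γ]

/-- elements of the verbal subgroup of order prime to `q` centralize normal cyclic `q`-subgroups -/
theorem verbal_centralizes_cyclic [Finite Γ] {q : ℕ} [hq : Fact q.Prime] (C : Subgroup Γ) [hCn : C.Normal]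
    [hCc : IsCyclic C] (hC : IsPGroup q C) (g : Γ) (hgV : g ∈ verbal q Γ) (hgq : (orderOf g).Coprime q) :
    ∀ y ∈ C, g * y * g⁻¹ = y := by
  obtain ⟨k, hk⟩ := IsPGroup.iff_card.mp hC
  let ψ := IsCyclic.mulAutMulEquiv C
  let χ : Γ →* (ZMod (Nat.card C))ˣ := (ψ : MulAut C →* (ZMod (Nat.card C))ˣ).comp MulAut.conjNormal
  have hcardU : Nat.card (ZMod (Nat.card C))ˣ ∣ (q - 1) * q ^ k := by
    rw [← Nat.card_congr ψ.toEquiv, IsCyclic.card_mulAut, hk]
    rcases Nat.eq_zero_or_pos k with h0 | h0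
    · rw [h0, pow_zero, Nat.totient_one]; exact one_dvd _
    · rw [Nat.totient_prime_pow hq.out h0, mul_comm]
      exact Nat.mul_dvd_mul_left _ (pow_dvd_pow q (Nat.sub_le k 1))
  let T : Subgroup (ZMod (Nat.card C))ˣ := (powMonoidHom (q ^ k)).ker
  have hle : verbal q Γ ≤ T.comap χ := by
    apply Subgroup.normalClosure_le_normal
    rintro x (⟨a, b, rfl⟩ | ⟨a, rfl⟩)
    · rw [SetLike.mem_coe, Subgroup.mem_comap, map_commutatorElement]
      have : ⁅χ a, χ b⁆ = 1 := commutatorElement_eq_one_iff_commute.mpr (Commute.all _ _)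
      rw [this]; exact T.one_mem
    · rw [SetLike.mem_coe, Subgroup.mem_comap, map_pow, MonoidHom.mem_ker, powMonoidHom_apply, ← pow_mul]
      obtain ⟨c, hc⟩ := hcardU
      rw [hc, pow_mul, pow_card_eq_one', one_pow]
  have h1 : (χ g) ^ (q ^ k) = 1 := by
    have := hle hgV
    rw [Subgroup.mem_comap, MonoidHom.mem_ker, powMonoidHom_apply] at this
    exact this
  have h2 : (χ g) ^ orderOf g = 1 := by rw [← map_pow, pow_orderOf_eq_one, map_one]
  have h3 : orderOf (χ g) ∣ Nat.gcd (q ^ k) (orderOf g) :=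
    Nat.dvd_gcd (orderOf_dvd_of_pow_eq_one h1) (orderOf_dvd_of_pow_eq_one h2)
  have h4 : Nat.gcd (q ^ k) (orderOf g) = 1 := (Nat.Coprime.pow_right k hgq).symm
  rw [h4, Nat.dvd_one, orderOf_eq_one_iff] at h3
  have h5 : (MulAut.conjNormal g : MulAut C) = 1 := by
    apply ψ.injective
    rw [map_one]; exact h3
  intro y hy
  have h6 := congrArg (fun σ : MulAut C => ((σ ⟨y, hy⟩ : C) : Γ)) h5
  simpa [MulAut.conjNormal_apply] using h6

/-- elements of the verbal subgroup of order prime to `q` centralize a normal `q`-subgroup all of whose subgroups of a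
fixed intermediate order are normal -/
theorem verbal_centralizes [Finite Γ] {q : ℕ} [hq : Fact q.Prime] (Q : Subgroup Γ) [hQn : Q.Normal]
    (hQp : IsPGroup q Q) {d : ℕ} (hd : 1 ≤ d) (hdQ : q ^ d < Nat.card Q)
    (hfam : ∀ F : Subgroup Γ, F ≤ Q → (Nat.card F = q ^ d ∨ (q ^ d = 2 ∧ Nat.card F = 4)) → F.Normal)
    (g : Γ) (hgV : g ∈ verbal q Γ) (hgq : (orderOf g).Coprime q) :
    g ∈ Subgroup.centralizer (Q : Set Γ) := by
  have hpp := hq.out
  have hg : g ∈ Subgroup.normalizer (Q : Set Γ) := by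
    rw [Subgroup.normalizer_eq_top_iff.mpr hQn]; trivial
  apply Cfsg.Agent.Lib.Lead.OmegaFaithful.centralizes_of_fixes_small Q hQp g hg hgq
  intro x hxQ hsmall
  have hcyc : ∀ E : Subgroup Γ, E ≤ Q → (Nat.card E = q ^ d ∨ (q ^ d = 2 ∧ Nat.card E = 4)) →
      IsCyclic E → ∀ y ∈ E, g * y * g⁻¹ = y := by
    intro E hEQ hc hcy y hy
    haveI := hcy
    haveI := hfam E hEQ hc
    exact verbal_centralizes_cyclic E (hQp.to_le hEQ) g hgV hgq y hy
  have hzx : Subgroup.zpowers x ≤ Q := Subgroup.zpowers_le.mpr hxQ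
  obtain ⟨n, hn⟩ := IsPGroup.iff_card.mp hQp
  have hQc : q ^ (d + 1) ≤ Nat.card Q := by
    rw [hn] at hdQ ⊢
    have := (Nat.pow_lt_pow_iff_right hpp.one_lt).mp hdQ
    exact Nat.pow_le_pow_right hpp.pos (by omega)
  by_cases h2 : q ^ d = 2
  · -- special case
    have hp2 : q = 2 := by
      have h1 : q ∣ 2 := by rw [← h2]; exact dvd_pow_self q (by omega)
      exact (Nat.prime_dvd_prime_iff_eq hpp Nat.prime_two).mp h1
    have hx4 : x ^ 4 = 1 := by
      rcases hsmall with h | ⟨_, h⟩
      · rw [hp2] at h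
        rw [show 4 = 2 * 2 from rfl, pow_mul, h, one_pow]
      · exact h
    have hord : orderOf x ∣ 2 ^ 2 := orderOf_dvd_of_pow_eq_one hx4
    obtain ⟨j, hj, hj'⟩ := (Nat.dvd_prime_pow Nat.prime_two).mp hord
    interval_cases j
    · rw [pow_zero, orderOf_eq_one_iff] at hj'
      rw [hj']; group
    · exact hcyc (Subgroup.zpowers x) hzx (Or.inl (by rw [Nat.card_zpowers, hj', h2]; rfl)) inferInstance x
        (Subgroup.mem_zpowers x)
    · exact hcyc (Subgroup.zpowers x) hzx (Or.inr ⟨h2, by rw [Nat.card_zpowers, hj']; rfl⟩) inferInstance x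
        (Subgroup.mem_zpowers x)
  · -- general case
    have hordle : orderOf x ≤ q ^ d := by
      rcases hsmall with h | ⟨hp2, h⟩
      · have h1 : orderOf x ∣ q := orderOf_dvd_of_pow_eq_one h
        calc orderOf x ≤ q := Nat.le_of_dvd hpp.pos h1
          _ = q ^ 1 := (pow_one q).symm
          _ ≤ q ^ d := Nat.pow_le_pow_right hpp.pos hd
      · have h1 : orderOf x ∣ 4 := orderOf_dvd_of_pow_eq_one h
        have hd2 : 2 ≤ d := by
          by_contra hcon
          have : d = 1 := by omega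
          apply h2
          rw [this, hp2, pow_one]
        calc orderOf x ≤ 4 := Nat.le_of_dvd (by norm_num) h1
          _ = q ^ 2 := by rw [hp2]; rfl
          _ ≤ q ^ d := Nat.pow_le_pow_right hpp.pos hd2
    have hpd : q ^ d ≤ q ^ (d + 1) := Nat.pow_le_pow_right hpp.pos (Nat.le_succ d)
    obtain ⟨F, hCF, hFQ, hFc⟩ := exists_between hQp hzx (m := d + 1)
      (by rw [Nat.card_zpowers]; exact hordle.trans hpd) hQc
    have hFp : IsPGroup q F := hQp.to_le hFQ
    by_cases hu : ∀ E₁ E₂ : Subgroup Γ, E₁ ≤ F → E₂ ≤ F → Nat.card E₁ = q ^ d → Nat.card E₂ = q ^ d → E₁ = E₂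
    · -- unique maximal subgroup: `F` is cyclic
      obtain ⟨E₁, hCE, hEF, hEc⟩ := exists_between hFp hCF (m := d)
        (by rw [Nat.card_zpowers]; exact hordle) (by rw [hFc]; exact hpd)
      have hex : ∃ y ∈ F, y ∉ E₁ := by
        by_contra hcon
        push Not at hcon
        have h1 : F ≤ E₁ := hcon
        have h3 := Subgroup.card_le_of_le h1
        rw [hFc, hEc] at h3
        have := (Nat.pow_le_pow_iff_right hpp.one_lt).mp h3
        omega
      obtain ⟨y, hyF, hyE⟩ := hex
      have hzy : Subgroup.zpowers y = F := by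
        by_contra hne
        have hlt : Subgroup.zpowers y < F := lt_of_le_of_ne (Subgroup.zpowers_le.mpr hyF) hne
        have hcard : Nat.card (Subgroup.zpowers y) ≤ q ^ d := card_le_of_lt' hFc hlt
        obtain ⟨E₂, hyE₂, hE₂F, hE₂c⟩ := exists_between hFp (Subgroup.zpowers_le.mpr hyF) hcard
          (by rw [hFc]; exact hpd)
        have h3 := hu E₁ E₂ hEF hE₂F hEc hE₂c
        apply hyE
        rw [h3]
        exact hyE₂ (Subgroup.mem_zpowers y)
      have hcy : IsCyclic E₁ := by
        have hle : E₁ ≤ Subgroup.zpowers y := by rw [hzy]; exact hEF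
        exact isCyclic_of_surjective (Subgroup.subgroupOfEquivOfLe hle).toMonoidHom
          (Subgroup.subgroupOfEquivOfLe hle).surjective
      exact hcyc E₁ (hEF.trans hFQ) (Or.inl hEc) hcy x (hCE (Subgroup.mem_zpowers x))
    · -- two distinct maximal subgroups
      push Not at hu
      obtain ⟨E₁, E₂, h1F, h2F, h1c, h2c, hne⟩ := hu
      have hsup : E₁ ⊔ E₂ = F := by
        apply eq_of_lt_of_card hFc h1c _ (sup_le h1F h2F)
        apply lt_of_le_of_ne le_sup_left
        intro heq
        have h3 : E₂ ≤ E₁ := by rw [heq]; exact le_sup_right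
        exact hne (Subgroup.eq_of_le_of_card_ge h3 (by rw [h1c, h2c])).symm
      haveI hE₁n : E₁.Normal := hfam E₁ (h1F.trans hFQ) (Or.inl h1c)
      haveI hE₂n : E₂.Normal := hfam E₂ (h2F.trans hFQ) (Or.inl h2c)
      haveI hFn : F.Normal := by rw [← hsup]; infer_instance
      set A := Subgroup.zpowers g with hA
      have hAV : A ≤ verbal q Γ := Subgroup.zpowers_le.mpr hgV
      have hAF : A ≤ Subgroup.normalizer (F : Set Γ) := by
        rw [Subgroup.normalizer_eq_top_iff.mpr hFn]; exact le_top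
      have hcopA : (Nat.card A).Coprime (Nat.card F) := by
        rw [hA, Nat.card_zpowers, hFc]
        exact Nat.Coprime.pow_right _ hgq
      have hsolv : Group.IsSolvable A := by
        rw [hA]; infer_instance
      have h26 := Cfsg.Agent.S0026.result A F hAF hcopA (Or.inl hsolv)
      -- `[F, A] ≤ Φ(F)`
      have hcomm : ⁅F, A⁆ ≤ (frattini F).map F.subtype := by
        rw [Subgroup.commutator_le]
        intro y hy a ha
        have hyaF : ⁅y, a⁆ ∈ F := by
          rw [commutatorElement_def]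
          have h3 : a * y⁻¹ * a⁻¹ ∈ F := hFn.conj_mem _ (F.inv_mem hy) a
          have e : y * a * y⁻¹ * a⁻¹ = y * (a * y⁻¹ * a⁻¹) := by group
          rw [e]; exact F.mul_mem hy h3
        refine ⟨⟨⁅y, a⁆, hyaF⟩, ?_, rfl⟩
        unfold frattini Order.radical
        rw [SetLike.mem_coe, Subgroup.mem_iInf]
        intro M'
        rw [Subgroup.mem_iInf]
        intro hM'
        obtain ⟨hM'n, hM'i⟩ := coatom_normal_index_of_pgroup (p := q) hFp M' hM'
        set E := M'.map F.subtype with hE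
        have hEF : E ≤ F := by
          rintro _ ⟨m, -, rfl⟩; exact m.2
        have hsub : E.subgroupOf F = M' := by
          rw [hE, Subgroup.subgroupOf, Subgroup.comap_map_eq_self_of_injective F.subtype_injective]
        have hidx : E.relIndex F = q := by
          rw [Subgroup.relIndex, hsub]; exact hM'i
        have hEc : Nat.card E = q ^ d := by
          have h3 := Cfsg.Agent.H1.card_eq_relIndex_mul_card hEF
          rw [hidx, hFc, pow_succ, mul_comm] at h3
          exact (Nat.eq_of_mul_eq_mul_left hpp.pos h3).symm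
        haveI hEn : E.Normal := hfam E (hEF.trans hFQ) (Or.inl hEc)
        have h5 : ⁅y, a⁆ ∈ E := comm_mem_of_mem_Cn F E (verbal_le_Cn F E hidx (hAV ha)) hy
        obtain ⟨m, hm, hm'⟩ := h5
        have : m = ⟨⁅y, a⁆, hyaF⟩ := Subtype.ext hm'
        rw [← this]; exact hm
      -- conclude by the nongenerator property
      set C := F ⊓ Subgroup.centralizer (A : Set Γ) with hC
      have htop : C.subgroupOf F ⊔ frattini F = ⊤ := by
        rw [eq_top_iff]
        intro z _
        have hz : (z : Γ) ∈ ⁅F, A⁆ ⊔ C := by rw [h26]; exact z.2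
        have hle : ⁅F, A⁆ ⊔ C ≤ (frattini F).map F.subtype ⊔ C := sup_le_sup_right hcomm C
        have hz2 := hle hz
        have h5 : ((frattini F).map F.subtype ⊔ C).subgroupOf F = frattini F ⊔ C.subgroupOf F := by
          rw [Subgroup.subgroupOf_sup (by rintro _ ⟨m, -, rfl⟩; exact m.2) inf_le_left]
          congr 1
          rw [Subgroup.subgroupOf, Subgroup.comap_map_eq_self_of_injective F.subtype_injective]
        have h6 : z ∈ ((frattini F).map F.subtype ⊔ C).subgroupOf F := Subgroup.mem_subgroupOf.mpr hz2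
        rw [h5, sup_comm] at h6
        exact h6
      have h7 := frattini_nongenerating htop
      have hFC : F ≤ C := by
        intro z hz
        have : (⟨z, hz⟩ : F) ∈ C.subgroupOf F := by rw [h7]; trivial
        exact Subgroup.mem_subgroupOf.mp this
      have hxC := (hFC (hCF (Subgroup.mem_zpowers x))).2
      have h8 := Subgroup.mem_centralizer_iff.mp hxC g (Subgroup.mem_zpowers g)
      rw [h8]; group

/-- the action of the verbal subgroup on `Q` is through a `q`-group -/
theorem verbal_pow_centralizes [Finite Γ] {q : ℕ} [hq : Fact q.Prime] (Q : Subgroup Γ) [hQn : Q.Normal]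
    (hQp : IsPGroup q Q) {d : ℕ} (hd : 1 ≤ d) (hdQ : q ^ d < Nat.card Q)
    (hfam : ∀ F : Subgroup Γ, F ≤ Q → (Nat.card F = q ^ d ∨ (q ^ d = 2 ∧ Nat.card F = 4)) → F.Normal)
    (v : Γ) (hv : v ∈ verbal q Γ) : ∃ k : ℕ, v ^ q ^ k ∈ Subgroup.centralizer (Q : Set Γ) := by
  obtain ⟨k, m, hm, hkm⟩ := Nat.exists_eq_pow_mul_and_not_dvd (orderOf_pos v).ne' q hq.out.ne_one
  refine ⟨k, verbal_centralizes Q hQp hd hdQ hfam _ ((verbal q Γ).pow_mem hv _) ?_⟩
  have hord : orderOf (v ^ q ^ k) = m := by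
    rw [orderOf_pow_of_dvd (pow_ne_zero k hq.out.ne_zero) (Dvd.intro _ hkm.symm), hkm,
      Nat.mul_div_cancel_left _ (pow_pos hq.out.pos k)]
  rw [hord]
  exact (Nat.Coprime.symm ((Nat.Prime.coprime_iff_not_dvd hq.out).mpr hm))
end Cfsg.Agent.H1.HSupA
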