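import Mathlib
import Cfsg.Agent.H1.HSupA
import Cfsg.Agent.H1.Supersolvable
import Cfsg.Agent.H1.MinNonPClosed

set_option autoImplicit false

namespace Cfsg.Agent.H1.HSupB

open Cfsg.Agent.Lead.Huppert Cfsg.Agent.H1.HSubA Cfsg.Agent.H1.HSubB Cfsg.Agent.H1.HSupA
open scoped commutatorElement

universe u

/-- the verbal subgroup acts on `Q` through a `q`-group -/
def AP {Γ : Type*} [Group Γ] (q : ℕ) (Q : Subgroup Γ) : Prop :=
  ∀ v ∈ verbal q Γ, ∃ k : ℕ, v ^ q ^ k ∈ Subgroup.centralizer (Q : Set Γ)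

theorem verbal_le_centralizer_min_normal {Γ : Type*} [Group Γ] [Finite Γ] {q : ℕ} [hq : Fact q.Prime]
    (Q : Subgroup Γ) (hAP : AP q Q) (N : Subgroup Γ) [hNn : N.Normal] (hNQ : N ≤ Q) (hNq : IsPGroup q N)
    (hNb : N ≠ ⊥) (hmin : ∀ K : Subgroup Γ, K.Normal → K ≤ N → K = ⊥ ∨ K = N) :
    verbal q Γ ≤ Subgroup.centralizer (N : Set Γ) := by
  let φ : Γ →* MulAut N := MulAut.conjNormal
  set V' : Subgroup (MulAut N) := (verbal q Γ).map φ with hV'
  have hV'p : IsPGroup q V' := by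
    rintro ⟨a, v, hv, rfl⟩
    obtain ⟨k, hk⟩ := hAP v hv
    refine ⟨k, ?_⟩
    apply Subtype.ext
    show (φ v) ^ q ^ k = 1
    rw [← map_pow]
    ext y
    show ((MulAut.conjNormal (v ^ q ^ k) y : N) : Γ) = _
    rw [MulAut.conjNormal_apply]
    have h1 := Subgroup.mem_centralizer_iff.mp hk (y : Γ) (hNQ y.2)
    rw [← h1]; simp
  have hdvd : q ∣ Nat.card N := by
    rcases hNq.card_eq_or_dvd with h | h
    · exfalso; exact hNb (Subgroup.card_eq_one.mp h)
    · exact h
  have hfix1 : (1 : N) ∈ MulAction.fixedPoints V' N := by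
    intro a
    show ((a : MulAut N)) (1 : N) = 1
    exact map_one _
  obtain ⟨b, hb, hb1⟩ := hV'p.exists_fixed_point_of_prime_dvd_card_of_fixed_point N hdvd hfix1
  -- the fixed points of `verbal` on `N`
  haveI hCn : (Subgroup.centralizer ((verbal q Γ : Subgroup Γ) : Set Γ)).Normal := inferInstance
  set K := N ⊓ Subgroup.centralizer ((verbal q Γ : Subgroup Γ) : Set Γ) with hK
  have hKn : K.Normal := inferInstance
  have hbK : (b : Γ) ∈ K := by
    refine ⟨b.2, ?_⟩
    show (b : Γ) ∈ Subgroup.centralizer ((verbal q Γ : Subgroup Γ) : Set Γ)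
    rw [Subgroup.mem_centralizer_iff]
    intro v hv
    have h1 : (⟨φ v, v, hv, rfl⟩ : V') • b = b := hb _
    have h2 : ((φ v b : N) : Γ) = b := congrArg Subtype.val h1
    have h3 : ((φ v b : N) : Γ) = v * b * v⁻¹ := MulAut.conjNormal_apply v b
    rw [h3] at h2
    calc v * (b : Γ) = (v * b * v⁻¹) * v := by group
      _ = b * v := by rw [h2]
  have hKb : K ≠ ⊥ := by
    intro h
    rw [h, Subgroup.mem_bot] at hbK
    exact hb1 (Subtype.ext hbK.symm)
  have hKN := (hmin K hKn inf_le_left).resolve_left hKb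
  intro v hv
  rw [Subgroup.mem_centralizer_iff]
  intro y hy
  have : y ∈ K := by rw [hKN]; exact hy
  exact (Subgroup.mem_centralizer_iff.mp this.2 v hv).symm

theorem verbal_le_map {Γ Γ' : Type*} [Group Γ] [Group Γ'] (f : Γ →* Γ') (hf : Function.Surjective f) (q : ℕ) :
    verbal q Γ' ≤ (verbal q Γ).map f := by
  haveI : ((verbal q Γ).map f).Normal := Subgroup.Normal.map (verbal_normal q) f hf
  apply Subgroup.normalClosure_le_normal
  rintro x (⟨a, b, rfl⟩ | ⟨a, rfl⟩)
  · obtain ⟨a', rfl⟩ := hf a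
    obtain ⟨b', rfl⟩ := hf b
    refine ⟨⁅a', b'⁆, Subgroup.subset_normalClosure (Or.inl ⟨a', b', rfl⟩), map_commutatorElement f a' b'⟩
  · obtain ⟨a', rfl⟩ := hf a
    exact ⟨a' ^ (q - 1), Subgroup.subset_normalClosure (Or.inr ⟨a', rfl⟩), map_pow f a' _⟩

theorem AP_map {Γ : Type*} [Group Γ] {q : ℕ} (Q N : Subgroup Γ) [N.Normal] (hAP : AP q Q) :
    AP q (Q.map (QuotientGroup.mk' N)) := by
  intro v hv
  obtain ⟨v', hv', rfl⟩ := verbal_le_map (QuotientGroup.mk' N) (QuotientGroup.mk'_surjective N) q hv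
  obtain ⟨k, hk⟩ := hAP v' hv'
  refine ⟨k, ?_⟩
  rw [← map_pow, Subgroup.mem_centralizer_iff]
  rintro _ ⟨y, hy, rfl⟩
  rw [← map_mul, ← map_mul, Subgroup.mem_centralizer_iff.mp hk y hy]

theorem ssreach_of_AP_aux {q : ℕ} [hq : Fact q.Prime] : ∀ n : ℕ, ∀ (Γ : Type u) [Group Γ] [Finite Γ]
    (Q : Subgroup Γ) [Q.Normal], Nat.card Q = n → IsPGroup q Q → AP q Q → SSReach Q := by
  intro n
  induction n using Nat.strong_induction_on with
  | _ n ih =>
    intro Γ _ _ Q hQn hn hQp hAP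
    by_cases hQb : Q = ⊥
    · rw [hQb]; exact SSReach.bot
    obtain ⟨N, hNn, hNQ, hNb, hmin⟩ := exists_min_normal_le Q hQb
    haveI := hNn
    have hNq : IsPGroup q N := hQp.to_le hNQ
    have hVC := verbal_le_centralizer_min_normal Q hAP N hNQ hNq hNb hmin
    obtain ⟨hcomm, hexp⟩ := isElementaryAbelian_of_minimal_normal_pgroup N hNq hNb hmin
    have hab : ∀ x ∈ N, ∀ y ∈ N, x * y = y * x := by
      intro x hx y hy
      have := hcomm.is_comm.comm (⟨x, hx⟩ : N) ⟨y, hy⟩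
      exact congrArg Subtype.val this
    haveI hcyc : IsCyclic N := cyclic_of_abelian_action N hNb hab hexp hmin
      (fun g h => hVC (Subgroup.subset_normalClosure (Or.inl ⟨g, h, rfl⟩)))
      (fun g => hVC (Subgroup.subset_normalClosure (Or.inr ⟨g, rfl⟩)))
    have hNr : SSReach N := ssreach_of_isCyclic_normal N
    haveI hQ'n : (Q.map (QuotientGroup.mk' N)).Normal :=
      Subgroup.Normal.map inferInstance _ (QuotientGroup.mk'_surjective N)
    have hcard : Nat.card (Q.map (QuotientGroup.mk' N)) < n := by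
      have h1 : Nat.card (Q.map (QuotientGroup.mk' N)) = N.relIndex Q := by
        rw [← Subgroup.relIndex_ker, QuotientGroup.ker_mk']
      have h2 := Cfsg.Agent.H1.card_eq_relIndex_mul_card hNQ
      have h3 : 1 < Nat.card N := by
        rw [Subgroup.one_lt_card_iff_ne_bot]; exact hNb
      have h4 : 0 < N.relIndex Q := by
        rw [← h1]; exact Nat.card_pos
      rw [h1, ← hn, h2]
      nlinarith
    have h1 := ih _ hcard (Γ ⧸ N) (Q.map (QuotientGroup.mk' N)) rfl (hQp.map _) (AP_map Q N hAP)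
    have h2 := SSReach.comap_mk N hNr h1
    rwa [Subgroup.comap_map_eq, QuotientGroup.ker_mk', sup_of_le_left hNQ] at h2

/-- a normal `q`-subgroup all of whose subgroups of a fixed intermediate order are normal is reached by a normal series with
cyclic factors -/
theorem ssreach_of_family {Γ : Type u} [Group Γ] [Finite Γ] {q : ℕ} [hq : Fact q.Prime] (Q : Subgroup Γ)
    [hQn : Q.Normal] (hQp : IsPGroup q Q) {d : ℕ} (hd : 1 ≤ d) (hdQ : q ^ d < Nat.card Q)
    (hfam : ∀ F : Subgroup Γ, F ≤ Q → (Nat.card F = q ^ d ∨ (q ^ d = 2 ∧ Nat.card F = 4)) → F.Normal) :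
    SSReach Q :=
  ssreach_of_AP_aux _ Γ Q rfl hQp (fun v hv => verbal_pow_centralizes Q hQp hd hdQ hfam v hv)

end Cfsg.Agent.H1.HSupB
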