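import Mathlib
import Cfsg.Prelude.Def_SolvableStructure
import Cfsg.Agent.H1.HSupB
import Cfsg.Agent.H1.HSubD
import Cfsg.Agent.Lib.Lead.NormalPComplement
import Cfsg.Agent.Lib.Lead.PiCore
import Cfsg.Agent.H1.Schmidt

set_option autoImplicit false

namespace Cfsg.Agent.H1.HSupC

open Cfsg Cfsg.Agent.Lead.Huppert Cfsg.Agent.H1.HSubA Cfsg.Agent.H1.HSubB Cfsg.Agent.H1.HSupA
  Cfsg.Agent.H1.HSupB Cfsg.Agent.Lib.Lead.PiCore
open scoped commutatorElement

universe u
variable {G : Type u} [Group G] [Finite G]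

/-- the hypothesis on the Sylow subgroups of `E` -/
def Hyp (E : Subgroup G) : Prop :=
  ∀ (p : ℕ), p.Prime → ∀ P : Subgroup G, P ≤ E → IsPGroup p P → ¬ p ∣ P.relIndex E → ¬ IsCyclic ↥P →
      ∃ D : Subgroup G, D ≤ P ∧ 1 < Nat.card D ∧ Nat.card D < Nat.card P ∧
        ∀ F : Subgroup G, F ≤ P → (Nat.card F = Nat.card D ∨ (Nat.card D = 2 ∧ Nat.card F = 4)) →
          ∀ g : G, F.map (MulAut.conj g).toMonoidHom ⊓ Subgroup.normalizer (F : Set G) ≤ F

theorem subgroupOf_map_subtype' (E : Subgroup G) (F' : Subgroup E) : (F'.map E.subtype).subgroupOf E = F' := by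
  rw [Subgroup.subgroupOf, Subgroup.comap_map_eq_self_of_injective E.subtype_injective]

/-- `E` has a normal `p`-complement for its smallest prime divisor `p`, and this complement is normal in `G` -/
theorem exists_normal_complement (E : Subgroup G) [hEn : E.Normal] (hE : Hyp E) (hEb : E ≠ ⊥) :
    ∃ (p : ℕ) (K : Subgroup G), p.Prime ∧ K.Normal ∧ K ≤ E ∧ (Nat.card K).Coprime p ∧ p ∣ Nat.card E ∧
      (∃ k : ℕ, K.relIndex E = p ^ k) ∧ (∀ r : ℕ, r.Prime → r ∣ Nat.card E → p ≤ r) := by
  have hcard1 : Nat.card E ≠ 1 := fun h => hEb (Subgroup.card_eq_one.mp h)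
  set p := (Nat.card E).minFac with hp
  have hpp : p.Prime := Nat.minFac_prime hcard1
  haveI : Fact p.Prime := ⟨hpp⟩
  have hdiv : p ∣ Nat.card E := Nat.minFac_dvd _
  have hmin : ∀ r : ℕ, r.Prime → r ∣ Nat.card E → p ≤ r := fun r hr hrd => Nat.minFac_le_of_dvd hr.two_le hrd
  obtain P' : Sylow p E := default
  have hnpc : Cfsg.HasNormalPComplement p E := by
    apply Cfsg.Agent.H1.HSubD.main hdiv hmin P'
    by_cases hc : IsCyclic ↥(P' : Subgroup E)
    · exact Or.inl hc
    · right
      set P := (P' : Subgroup E).map E.subtype with hP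
      have hPE : P ≤ E := Subgroup.map_subtype_le _
      have hPp : IsPGroup p P := P'.isPGroup'.map _
      have hPidx : ¬ p ∣ P.relIndex E := by
        rw [Subgroup.relIndex, hP, subgroupOf_map_subtype']
        exact P'.not_dvd_index
      have hPnc : ¬ IsCyclic ↥P := by
        intro hcy
        apply hc
        let e := (P' : Subgroup E).equivMapOfInjective E.subtype E.subtype_injective
        exact isCyclic_of_surjective e.symm.toMonoidHom e.symm.surjective
      obtain ⟨D, hDP, hD1, hDlt, hD⟩ := hE p hpp P hPE hPp hPidx hPnc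
      have hcP : Nat.card P = Nat.card (P' : Subgroup E) :=
        Subgroup.card_map_of_injective E.subtype_injective
      have hcD : Nat.card (D.subgroupOf E) = Nat.card D :=
        Nat.card_congr (Subgroup.subgroupOfEquivOfLe (hDP.trans hPE)).toEquiv
      refine ⟨D.subgroupOf E, ?_, by rw [hcD]; exact hD1, by rw [hcD, ← hcP]; exact hDlt, ?_⟩
      · intro x hx
        obtain ⟨y, hy, hyx⟩ := hDP (Subgroup.mem_subgroupOf.mp hx)
        have : y = x := Subtype.ext hyx
        rw [← this]; exact hy
      · intro F' hF'P hF'c g' x hx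
        set F := F'.map E.subtype with hF
        have hFP : F ≤ P := Subgroup.map_mono hF'P
        have hcF : Nat.card F = Nat.card F' := Subgroup.card_map_of_injective E.subtype_injective
        have hFc : Nat.card F = Nat.card D ∨ (Nat.card D = 2 ∧ Nat.card F = 4) := by
          rw [hcF, ← hcD]; exact hF'c
        have h1 := hD F hFP hFc (g' : G)
        have h2 : (x : G) ∈ F.map (MulAut.conj (g' : G)).toMonoidHom ⊓ Subgroup.normalizer (F : Set G) := by
          obtain ⟨hx1, hx2⟩ := hx
          refine ⟨?_, ?_⟩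
          · obtain ⟨f, hf, rfl⟩ := hx1
            exact ⟨(f : G), ⟨f, hf, rfl⟩, by simp⟩
          · exact Subgroup.le_normalizer_map E.subtype ⟨x, hx2, rfl⟩
        obtain ⟨y, hy, hyx⟩ := h1 h2
        have : y = x := Subtype.ext hyx
        rw [← this]; exact hy
  rw [Cfsg.Agent.Lib.Lead.NormalPComplement.hasNormalPComplement_iff] at hnpc
  obtain ⟨N', hN'n, hN'c, k, hN'i⟩ := hnpc
  have hle : N' ≤ pPrimeCore p E := Cfsg.Agent.Lib.Lead.PiCore.le_pPrimeCore hN'n hN'c
  have hKc : (Nat.card (pPrimeCore p E)).Coprime p := Cfsg.Agent.Lib.Lead.PiCore.pPrimeCore_coprime hpp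
  haveI := Cfsg.Agent.Lib.Lead.PiCore.pPrimeCore_characteristic (G := E) hpp
  have hKn : ((pPrimeCore p E).map E.subtype).Normal := ConjAct.normal_of_characteristic_of_normal
  refine ⟨p, (pPrimeCore p E).map E.subtype, hpp, hKn, Subgroup.map_subtype_le _, ?_, hdiv, ?_, hmin⟩
  · rw [Subgroup.card_map_of_injective E.subtype_injective]; exact hKc
  · have h1 : (pPrimeCore p E).index ∣ p ^ k := by
      rw [← hN'i]; exact Subgroup.index_dvd_of_le hle
    obtain ⟨j, -, hj⟩ := (Nat.dvd_prime_pow hpp).mp h1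
    refine ⟨j, ?_⟩
    rw [Subgroup.relIndex, subgroupOf_map_subtype']
    exact hj

/-- an `ℋ`-subgroup of a nilpotent subgroup `P` is normal in `P` -/
theorem le_normalizer_of_H' (P F : Subgroup G) (hnil : Group.IsNilpotent P) (hFP : F ≤ P)
    (hF : ∀ g : G, F.map (MulAut.conj g).toMonoidHom ⊓ Subgroup.normalizer (F : Set G) ≤ F) :
    P ≤ Subgroup.normalizer (F : Set G) := by
  set N₁ := Subgroup.normalizer (F : Set G) ⊓ P with hN₁
  by_cases hN : N₁ = P
  · rw [← hN]; exact inf_le_left
  · exfalso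
    have hlt : N₁ < P := lt_of_le_of_ne inf_le_right hN
    have h1 := Cfsg.Agent.H1.lt_normalizer_inf_of_nilpotent N₁ P hnil hlt
    obtain ⟨u, hu1, hu2⟩ := SetLike.exists_of_lt h1
    apply hu2
    refine ⟨?_, hu1.2⟩
    apply mem_normalizer_of_conj_mem
    intro e he
    apply hF u
    refine ⟨⟨e, he, rfl⟩, ?_⟩
    have h3 : e ∈ N₁ := ⟨Subgroup.le_normalizer he, hFP he⟩
    exact ((Subgroup.mem_normalizer_iff.mp hu1.1 e).mp h3).1

theorem hyp_of_le (E K : Subgroup G) (hKE : K ≤ E) {p : ℕ} (hp : p.Prime) (hKc : (Nat.card K).Coprime p)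
    {k : ℕ} (hidx : K.relIndex E = p ^ k) (hE : Hyp E) : Hyp K := by
  intro r hr R hRK hRr hRidx hRnc
  apply hE r hr R (hRK.trans hKE) hRr _ hRnc
  intro hdvd
  rw [← Subgroup.relIndex_mul_relIndex R K E hRK hKE, hidx] at hdvd
  rcases (Nat.Prime.dvd_mul hr).mp hdvd with h | h
  · exact hRidx h
  · have hrp : r = p := (Nat.prime_dvd_prime_iff_eq hr hp).mp (hr.dvd_of_dvd_pow h)
    subst hrp
    apply hRnc
    haveI : Fact r.Prime := ⟨hr⟩
    obtain ⟨j, hj⟩ := IsPGroup.iff_card.mp hRr
    have h1 : Nat.card R ∣ Nat.card K := Subgroup.card_dvd_of_le hRK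
    have h2 : (Nat.card R).Coprime r := Nat.Coprime.coprime_dvd_left h1 hKc
    rw [hj] at h2
    have hj0 : j = 0 := by
      by_contra hne
      have := (Nat.coprime_pow_left_iff (Nat.pos_of_ne_zero hne) r r).mp h2
      rw [Nat.coprime_self] at this
      exact hr.one_lt.ne' this
    rw [hj0, pow_zero, Subgroup.card_eq_one] at hj
    rw [hj]
    infer_instance

theorem normal_sup_map (K : Subgroup G) [hKn : K.Normal] (L : Subgroup G) (hLK : L ⊔ K = ⊤) (R : Subgroup L)
    [hRn : R.Normal] : (K ⊔ R.map L.subtype).Normal := by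
  apply normal_of_sup_le_normalizer _ L K hLK
  · intro l hl
    apply mem_normalizer_sup
    · rw [Subgroup.normalizer_eq_top_iff.mpr hKn]; trivial
    · apply mem_normalizer_of_conj_mem
      rintro _ ⟨r, hr, rfl⟩
      exact ⟨⟨l, hl⟩ * r * ⟨l, hl⟩⁻¹, hRn.conj_mem r hr ⟨l, hl⟩, rfl⟩
  · exact le_sup_left.trans Subgroup.le_normalizer

theorem ssreach_of_hyp : ∀ n : ℕ, ∀ (E : Subgroup G) [E.Normal], Nat.card E = n → Hyp E → SSReach E := by
  intro n
  induction n using Nat.strong_induction_on with
  | _ n ih =>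
    intro E hEn hn hE
    by_cases hEb : E = ⊥
    · rw [hEb]; exact SSReach.bot
    obtain ⟨p, K, hpp, hKn, hKE, hKc, hdiv, ⟨k, hk⟩, hmin⟩ := exists_normal_complement E hE hEb
    haveI := hKn
    haveI : Fact p.Prime := ⟨hpp⟩
    have hcE := Cfsg.Agent.H1.card_eq_relIndex_mul_card hKE
    rw [hk] at hcE
    have hk1 : 1 ≤ k := by
      by_contra hcon
      have hk0 : k = 0 := by omega
      rw [hk0, pow_zero, one_mul] at hcE
      rw [hcE] at hdiv
      exact (Nat.Prime.coprime_iff_not_dvd hpp).mp hKc.symm hdiv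
    have hKlt : Nat.card K < n := by
      rw [← hn, hcE]
      have h1 : 2 ≤ p ^ k := by
        calc 2 ≤ p := hpp.two_le
          _ = p ^ 1 := (pow_one p).symm
          _ ≤ p ^ k := Nat.pow_le_pow_right hpp.pos hk1
      have h2 : 0 < Nat.card K := Nat.card_pos
      nlinarith
    have hKr : SSReach K := ih _ hKlt K rfl (hyp_of_le E K hKE hpp hKc hk hE)
    obtain P' : Sylow p E := default
    set P := (P' : Subgroup E).map E.subtype with hP
    have hPE : P ≤ E := Subgroup.map_subtype_le _
    have hPp : IsPGroup p P := P'.isPGroup'.map _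
    have hPidx : ¬ p ∣ P.relIndex E := by
      rw [Subgroup.relIndex, hP, subgroupOf_map_subtype']
      exact P'.not_dvd_index
    set L := Subgroup.normalizer (P : Set G) with hL
    have hLE : L ⊔ E = ⊤ := Sylow.normalizer_sup_eq_top P'
    have hKP : K ⊔ P = E := by
      apply le_antisymm (sup_le hKE hPE)
      rw [← Subgroup.relIndex_eq_one]
      have h1 : (K ⊔ P).relIndex E ∣ p ^ k := by
        rw [← hk]; exact Subgroup.relIndex_dvd_of_le_left E le_sup_left
      have h2 : (K ⊔ P).relIndex E ∣ P.relIndex E := Subgroup.relIndex_dvd_of_le_left E le_sup_right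
      obtain ⟨j, -, hj⟩ := (Nat.dvd_prime_pow hpp).mp h1
      rcases Nat.eq_zero_or_pos j with h0 | h0
      · rw [hj, h0, pow_zero]
      · exfalso
        apply hPidx
        refine dvd_trans ?_ h2
        rw [hj]; exact dvd_pow_self p (by omega)
    have hPL : P ≤ L := Subgroup.le_normalizer
    have hLK : L ⊔ K = ⊤ := by
      rw [← hLE, ← hKP, ← sup_assoc]
      exact (sup_of_le_left (hPL.trans le_sup_left)).symm
    haveI hQn : (P.subgroupOf L).Normal := Subgroup.normal_in_normalizer
    have hcQ : Nat.card (P.subgroupOf L) = Nat.card P :=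
      Nat.card_congr (Subgroup.subgroupOfEquivOfLe hPL).toEquiv
    have hQr : SSReach (P.subgroupOf L) := by
      by_cases hc : IsCyclic P
      · haveI : IsCyclic (P.subgroupOf L) :=
          isCyclic_of_surjective (Subgroup.subgroupOfEquivOfLe hPL).symm.toMonoidHom
            (Subgroup.subgroupOfEquivOfLe hPL).symm.surjective
        exact ssreach_of_isCyclic_normal _
      · obtain ⟨D, hDP, hD1, hDlt, hD⟩ := hE p hpp P hPE hPp hPidx hc
        obtain ⟨d, hd⟩ := IsPGroup.iff_card.mp (hPp.to_le hDP)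
        have hd1 : 1 ≤ d := by
          by_contra hcon
          have : d = 0 := by omega
          rw [hd, this, pow_zero] at hD1
          exact lt_irrefl _ hD1
        have hQp : IsPGroup p (P.subgroupOf L) := hPp.comap_subtype
        apply ssreach_of_family (P.subgroupOf L) hQp hd1 (by rw [hcQ, ← hd]; exact hDlt)
        intro F' hF'P hF'c
        set F := F'.map L.subtype with hF
        have hFL : F ≤ L := Subgroup.map_subtype_le _
        have hFP : F ≤ P := by
          rintro _ ⟨f, hf, rfl⟩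
          exact Subgroup.mem_subgroupOf.mp (hF'P hf)
        have hcF : Nat.card F = Nat.card F' := Subgroup.card_map_of_injective L.subtype_injective
        have hFc : Nat.card F = Nat.card D ∨ (Nat.card D = 2 ∧ Nat.card F = 4) := by
          rw [hcF, hd]; exact hF'c
        have hFH := hD F hFP hFc
        have hPF := le_normalizer_of_H' P F hPp.isNilpotent hFP hFH
        have hLF : L ≤ Subgroup.normalizer (F : Set G) := by
          intro l hl
          apply mem_normalizer_of_conj_mem
          intro f hf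
          apply hFH l
          refine ⟨⟨f, hf, rfl⟩, hPF ?_⟩
          exact (Subgroup.mem_normalizer_iff.mp hl f).mp (hFP hf)
        have h3 := (Subgroup.normal_subgroupOf_iff_le_normalizer hFL).mpr hLF
        rwa [hF, subgroupOf_map_subtype'] at h3
    -- transport the chain
    have key : ∀ R : Subgroup L, SSReach R → SSReach (K ⊔ R.map L.subtype) := by
      intro R hR
      induction hR with
      | bot => rw [Subgroup.map_bot, sup_bot_eq]; exact hKr
      | step R g _ hRn hRgn ih =>
        haveI := hRn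
        haveI := hRgn
        have h1 : (K ⊔ R.map L.subtype).Normal := normal_sup_map K L hLK R
        have h2 : (K ⊔ (R ⊔ Subgroup.zpowers g).map L.subtype).Normal :=
          normal_sup_map K L hLK (R ⊔ Subgroup.zpowers g)
        have e : K ⊔ (R ⊔ Subgroup.zpowers g).map L.subtype =
            (K ⊔ R.map L.subtype) ⊔ Subgroup.zpowers (g : G) := by
          rw [Subgroup.map_sup, MonoidHom.map_zpowers, ← sup_assoc]
          rfl
        rw [e] at h2 ⊢
        exact SSReach.step _ (g : G) ih h1 h2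
    have h4 := key _ hQr
    rwa [Subgroup.map_subgroupOf_eq_of_le hPL, hKP] at h4

theorem main (E : Subgroup G) [E.Normal] (hGE : Cfsg.IsSupersolvable (G ⧸ E)) (h : Hyp E) :
    Cfsg.IsSupersolvable G := by
  rw [isSupersolvable_iff_reach] at hGE ⊢
  have h1 := ssreach_of_hyp _ E rfl h
  have h2 := SSReach.comap_mk E h1 hGE
  rwa [Subgroup.comap_top] at h2

end Cfsg.Agent.H1.HSupC
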