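import Mathlib
import Cfsg.Agent.H1.Basic
import Cfsg.Agent.H1.FrattiniExtra
import Cfsg.Agent.S0043

/-! Solvable groups whose maximal subgroups are Hall subgroups (helper1). -/

namespace Cfsg.Agent.H1

/-- a Sylow subgroup of `G` whose image modulo `N ≤ Φ(G)` is normal is itself normal -/
lemma sylow_normal_of_map_normal_of_le_frattini {G : Type*} [Group G] [Finite G] {r : ℕ} [Fact r.Prime]
    (N : Subgroup G) [N.Normal] (hN : N ≤ frattini G) (R₀ : Sylow r G)
    (hn : ((R₀ : Subgroup G).map (QuotientGroup.mk' N)).Normal) : (R₀ : Subgroup G).Normal := by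
  obtain ⟨R, hR⟩ : ∃ R : Subgroup G, R = ((R₀ : Subgroup G).map (QuotientGroup.mk' N)).comap (QuotientGroup.mk' N) := ⟨_, rfl⟩
  have hRn : R.Normal := by rw [hR]; infer_instance
  have hReq : R = (R₀ : Subgroup G) ⊔ N := by
    rw [hR, Subgroup.comap_map_eq, QuotientGroup.ker_mk']
  have hle : (R₀ : Subgroup G) ≤ R := by rw [hReq]; exact le_sup_left
  have h1 := Sylow.normalizer_sup_eq_top (R₀.subtype hle)
  rw [Sylow.coe_subtype, Subgroup.subgroupOf_map_subtype, inf_eq_left.mpr hle] at h1
  have h2 : Subgroup.normalizer ((R₀ : Subgroup G) : Set G) ⊔ frattini G = ⊤ := by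
    rw [eq_top_iff, ← h1, hReq]
    apply sup_le le_sup_left
    apply sup_le
    · exact le_trans Subgroup.le_normalizer le_sup_left
    · exact le_trans hN le_sup_right
  exact Subgroup.normalizer_eq_top_iff.mp (frattini_nongenerating h2)

theorem exists_normal_sylow_of_max_hall_aux.{u} : ∀ n : ℕ, ∀ (G : Type u) [Group G] [Finite G] [Group.IsSolvable G] [Nontrivial G], Nat.card G = n →
    (∀ M : Subgroup G, IsCoatom M → (Nat.card M).Coprime M.index) →
    ∃ p : ℕ, p.Prime ∧ p ∣ Nat.card G ∧ ∀ P : Sylow p G, (P : Subgroup G).Normal := by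
  intro n
  induction n using Nat.strong_induction_on with
  | _ n ih =>
    intro G _ _ _ _ hn h
    have htop : (⊤ : Subgroup G) ≠ ⊥ := top_ne_bot
    obtain ⟨N, hNn, hNne, -, hNmin⟩ := exists_minimal_normal_le (⊤ : Subgroup G) htop
    obtain ⟨hab, p, hp, hpow⟩ := Cfsg.Agent.S0043.result N hNne hNmin
    have : Fact p.Prime := ⟨hp⟩
    have hpg : IsPGroup p N := by
      intro x
      refine ⟨1, ?_⟩
      rw [pow_one]
      apply Subtype.ext
      have := hpow x x.2
      simpa using this
    have hpN : p ∣ Nat.card N := by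
      obtain ⟨k, hk⟩ := hpg.exists_card_eq
      rw [hk]
      apply dvd_pow_self
      intro h0
      rw [h0, pow_zero, Subgroup.card_eq_one] at hk
      exact hNne hk
    have hpG : p ∣ Nat.card G := hpN.trans (Subgroup.card_subgroup_dvd_card N)
    by_cases hNΦ : N ≤ frattini G
    · -- Case B
      have hNtop : N ≠ ⊤ := by
        intro h1
        obtain ⟨M, hM⟩ := (eq_top_or_exists_le_coatom (⊥ : Subgroup G)).resolve_left (Ne.symm htop)
        have : frattini G ≤ M := frattini_le_coatom hM.1
        apply hM.1.1
        rw [eq_top_iff, ← h1]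
        exact hNΦ.trans this
      have hnt : Nontrivial (G ⧸ N) := by
        rw [← not_subsingleton_iff_nontrivial, QuotientGroup.subsingleton_iff]
        exact hNtop
      have hcardlt : Nat.card (G ⧸ N) < n := by
        rw [← hn, ← Subgroup.index_eq_card, ← Subgroup.card_mul_index N]
        have h1 : 1 < Nat.card N := by
          rw [Subgroup.one_lt_card_iff_ne_bot]; exact hNne
        have h2 : 0 < N.index := Nat.pos_of_ne_zero Subgroup.index_ne_zero_of_finite
        nlinarith
      have hsurj : Function.Surjective (QuotientGroup.mk' N) := QuotientGroup.mk'_surjective N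
      have hQ : ∀ M : Subgroup (G ⧸ N), IsCoatom M → (Nat.card M).Coprime M.index := by
        intro M hM
        have h1 := Subgroup.isCoatom_comap_of_surjective hsurj hM
        have h2 := h _ h1
        rw [Subgroup.index_comap_of_surjective (H := M) hsurj] at h2
        have h3 : Nat.card M ∣ Nat.card (M.comap (QuotientGroup.mk' N)) := by
          have := Subgroup.card_map_dvd (H := M.comap (QuotientGroup.mk' N)) (QuotientGroup.mk' N)
          rwa [Subgroup.map_comap_eq_self_of_surjective hsurj] at this
        exact Nat.Coprime.coprime_dvd_left h3 h2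
      obtain ⟨r, hr, hrd, hrn⟩ := ih _ hcardlt (G ⧸ N) rfl hQ
      have : Fact r.Prime := ⟨hr⟩
      refine ⟨r, hr, hrd.trans (Subgroup.card_dvd_of_surjective _ hsurj), ?_⟩
      intro R₀
      apply sylow_normal_of_map_normal_of_le_frattini N hNΦ R₀
      have := hrn (R₀.mapSurjective hsurj)
      rwa [Sylow.coe_mapSurjective] at this
    · -- Case A
      obtain ⟨M, hM, hNM⟩ := exists_coatom_not_le_of_not_le_frattini N hNΦ
      have hsup : N ⊔ M = ⊤ := sup_eq_top_of_coatom_not_le hM hNM
      have hDn : (N ⊓ M).Normal := inf_normal_of_abelian_normal_sup_eq_top N M hsup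
      have hD : N ⊓ M = ⊥ := by
        rcases hNmin (N ⊓ M) hDn inf_le_left with h1 | h1
        · exact h1
        · exact absurd (inf_eq_left.mp h1) hNM
      have hcompl : Subgroup.IsComplement' N M := by
        apply Subgroup.isComplement'_of_disjoint_and_mul_eq_univ (disjoint_iff.mpr hD)
        rw [← Subgroup.normal_mul, hsup, Subgroup.coe_top]
      have hidx : M.index = Nat.card N := hcompl.index_eq_card
      have hcop := h M hM
      rw [hidx] at hcop
      have hNidx : ¬ p ∣ N.index := by
        rw [hcompl.symm.index_eq_card]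
        intro hpM
        have := Nat.Coprime.eq_one_of_dvd (Nat.Coprime.coprime_dvd_right hpN hcop).symm hpM
        exact hp.one_lt.ne' this
      refine ⟨p, hp, hpG, ?_⟩
      intro P
      have hQn : ((hpg.toSylow hNidx : Sylow p G) : Subgroup G).Normal := by
        rw [hpg.toSylow_coe hNidx]; exact hNn
      obtain ⟨g, hg⟩ := MulAction.exists_smul_eq G (hpg.toSylow hNidx : Sylow p G) P
      rw [Sylow.smul_eq_of_normal] at hg
      rw [← hg]; exact hQn

end Cfsg.Agent.H1
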