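import Mathlib
import Cfsg.Agent.H1.Basic
import Cfsg.Agent.H1.BaerTrick
import Cfsg.Agent.H1.StemMeta
import Cfsg.Prelude.Def_KGroupFacts

set_option autoImplicit false

namespace Cfsg.Agent.H1

open Cfsg
open scoped commutatorElement

section genComm
variable {Γ : Type*} [Group Γ]

/-- if the generators commute modulo a normal subgroup `N`, then `Γ' ≤ N` -/
lemma commutator_le_of_closure (T : Set Γ) (hT : Subgroup.closure T = ⊤) (N : Subgroup Γ) [hN : N.Normal]
    (h : ∀ t ∈ T, ∀ t' ∈ T, ⁅t, t'⁆ ∈ N) : commutator Γ ≤ N := by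
  have hquot : ∀ g k : Γ, ⁅g, k⁆ ∈ N := by
    have hZ : (Subgroup.center (Γ ⧸ N)).comap (QuotientGroup.mk' N) = ⊤ := by
      rw [eq_top_iff, ← hT, Subgroup.closure_le]
      intro t ht
      rw [SetLike.mem_coe, Subgroup.mem_comap, Subgroup.mem_center_iff]
      intro q
      have hC : (Subgroup.centralizer {QuotientGroup.mk' N t}).comap (QuotientGroup.mk' N) = ⊤ := by
        rw [eq_top_iff, ← hT, Subgroup.closure_le]
        intro t' ht'
        rw [SetLike.mem_coe, Subgroup.mem_comap, Subgroup.mem_centralizer_iff]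
        intro y hy
        rw [Set.mem_singleton_iff] at hy
        subst hy
        have h1 := h t ht t' ht'
        rw [← QuotientGroup.eq_one_iff, ← QuotientGroup.mk'_apply, commutatorElement_def, map_mul, map_mul,
          map_mul, map_inv, map_inv] at h1
        calc (QuotientGroup.mk' N) t * (QuotientGroup.mk' N) t' =
            ((QuotientGroup.mk' N) t * (QuotientGroup.mk' N) t' * ((QuotientGroup.mk' N) t)⁻¹ *
              ((QuotientGroup.mk' N) t')⁻¹) * ((QuotientGroup.mk' N) t' * (QuotientGroup.mk' N) t) := by group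
          _ = (QuotientGroup.mk' N) t' * (QuotientGroup.mk' N) t := by rw [h1, one_mul]
      obtain ⟨g, rfl⟩ := QuotientGroup.mk'_surjective _ q
      have hg : g ∈ (Subgroup.centralizer {QuotientGroup.mk' N t}).comap (QuotientGroup.mk' N) := by
        rw [hC]; trivial
      rw [Subgroup.mem_comap, Subgroup.mem_centralizer_iff] at hg
      exact (hg _ rfl).symm
    intro g k
    have hg : g ∈ (Subgroup.center (Γ ⧸ N)).comap (QuotientGroup.mk' N) := by rw [hZ]; trivial
    rw [Subgroup.mem_comap, Subgroup.mem_center_iff] at hg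
    have h1 := hg (QuotientGroup.mk' N k)
    rw [← QuotientGroup.eq_one_iff, ← QuotientGroup.mk'_apply, commutatorElement_def, map_mul, map_mul, map_mul,
      map_inv, map_inv, ← h1]
    group
  rw [commutator_def, Subgroup.commutator_le]
  intro g _ k _
  exact hquot g k

lemma ClassTwo.comm_pow_right (hcl : ClassTwo Γ) (x y : Γ) (k : ℕ) : ⁅x, y ^ k⁆ = ⁅x, y⁆ ^ k := by
  induction k with
  | zero => simp
  | succ k ih => rw [pow_succ, hcl.comm_mul_right, ih, pow_succ]

end genComm

/-! ### the Heisenberg group over `ZMod m × ZMod n` -/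

/-- underlying type of the Heisenberg-type extension -/
structure Heis (m n : ℕ) (hnm : n ∣ m) where
  /-- first coordinate -/
  x : ZMod m
  /-- second coordinate -/
  y : ZMod n
  /-- central coordinate -/
  z : ZMod n

namespace Heis
variable {m n : ℕ} {hnm : n ∣ m}

lemma ext' {g h : Heis m n hnm} (h1 : g.x = h.x) (h2 : g.y = h.y) (h3 : g.z = h.z) : g = h := by
  cases g; cases h; simp_all

/-- the twisting map -/
def phi (hnm : n ∣ m) : ZMod m →+* ZMod n := ZMod.castHom hnm (ZMod n)

instance : Group (Heis m n hnm) where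
  mul g h := ⟨g.x + h.x, g.y + h.y, g.z + h.z + phi hnm g.x * h.y⟩
  one := ⟨0, 0, 0⟩
  inv g := ⟨-g.x, -g.y, -g.z + phi hnm g.x * g.y⟩
  mul_assoc a b c := by
    apply ext'
    · show a.x + b.x + c.x = a.x + (b.x + c.x); ring
    · show a.y + b.y + c.y = a.y + (b.y + c.y); ring
    · show a.z + b.z + phi hnm a.x * b.y + c.z + phi hnm (a.x + b.x) * c.y =
        a.z + (b.z + c.z + phi hnm b.x * c.y) + phi hnm a.x * (b.y + c.y)
      rw [map_add]; ring
  one_mul a := by
    apply ext'
    · show (0 : ZMod m) + a.x = a.x; ring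
    · show (0 : ZMod n) + a.y = a.y; ring
    · show (0 : ZMod n) + a.z + phi hnm 0 * a.y = a.z
      rw [map_zero]; ring
  mul_one a := by
    apply ext'
    · show a.x + (0 : ZMod m) = a.x; ring
    · show a.y + (0 : ZMod n) = a.y; ring
    · show a.z + (0 : ZMod n) + phi hnm a.x * 0 = a.z
      ring
  inv_mul_cancel a := by
    apply ext'
    · show -a.x + a.x = 0; ring
    · show -a.y + a.y = 0; ring
    · show -a.z + phi hnm a.x * a.y + a.z + phi hnm (-a.x) * a.y = 0
      rw [map_neg]; ring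

lemma mul_x (g h : Heis m n hnm) : (g * h).x = g.x + h.x := rfl
lemma mul_y (g h : Heis m n hnm) : (g * h).y = g.y + h.y := rfl
lemma mul_z (g h : Heis m n hnm) : (g * h).z = g.z + h.z + phi hnm g.x * h.y := rfl
lemma inv_x (g : Heis m n hnm) : (g⁻¹).x = -g.x := rfl
lemma inv_y (g : Heis m n hnm) : (g⁻¹).y = -g.y := rfl
lemma inv_z (g : Heis m n hnm) : (g⁻¹).z = -g.z + phi hnm g.x * g.y := rfl
lemma one_x : (1 : Heis m n hnm).x = 0 := rfl
lemma one_y : (1 : Heis m n hnm).y = 0 := rfl
lemma one_z : (1 : Heis m n hnm).z = 0 := rfl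

/-- the projection onto `ZMod m × ZMod n` -/
def proj (hnm : n ∣ m) : Heis m n hnm →* Multiplicative (ZMod m × ZMod n) where
  toFun g := Multiplicative.ofAdd (g.x, g.y)
  map_one' := rfl
  map_mul' _ _ := rfl

lemma proj_apply (g : Heis m n hnm) : proj hnm g = Multiplicative.ofAdd (g.x, g.y) := rfl

lemma proj_surjective : Function.Surjective (proj hnm) := by
  intro t
  exact ⟨⟨(Multiplicative.toAdd t).1, (Multiplicative.toAdd t).2, 0⟩, rfl⟩

lemma mem_ker_proj {g : Heis m n hnm} : g ∈ (proj hnm).ker ↔ g.x = 0 ∧ g.y = 0 := by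
  rw [MonoidHom.mem_ker, proj_apply]
  constructor
  · intro h
    have h1 : (g.x, g.y) = (0, 0) := Multiplicative.ofAdd.injective h
    exact ⟨congrArg Prod.fst h1, congrArg Prod.snd h1⟩
  · rintro ⟨h1, h2⟩
    rw [h1, h2]; rfl

/-- the central element `(0, 0, z)` -/
def cen (hnm : n ∣ m) (z : ZMod n) : Heis m n hnm := ⟨0, 0, z⟩

lemma cen_mul (z w : ZMod n) : cen hnm z * cen hnm w = cen hnm (z + w) := by
  apply ext'
  · show (0 : ZMod m) + 0 = 0; ring
  · show (0 : ZMod n) + 0 = 0; ring
  · show z + w + phi hnm 0 * 0 = z + w; ring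

lemma cen_mem_ker (z : ZMod n) : cen hnm z ∈ (proj hnm).ker := mem_ker_proj.2 ⟨rfl, rfl⟩

lemma cen_mem_center (z : ZMod n) : cen hnm z ∈ Subgroup.center (Heis m n hnm) := by
  rw [Subgroup.mem_center_iff]
  intro g
  apply ext'
  · show g.x + 0 = 0 + g.x; ring
  · show g.y + 0 = 0 + g.y; ring
  · show g.z + z + phi hnm g.x * 0 = z + g.z + phi hnm 0 * g.y
    rw [map_zero]; ring

lemma eq_cen_of_mem_ker {g : Heis m n hnm} (hg : g ∈ (proj hnm).ker) : g = cen hnm g.z := by
  obtain ⟨h1, h2⟩ := mem_ker_proj.1 hg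
  exact ext' h1 h2 rfl

lemma cen_one_eq_commutator : cen hnm (1 : ZMod n) = ⁅(⟨1, 0, 0⟩ : Heis m n hnm), ⟨0, 1, 0⟩⁆ := by
  rw [commutatorElement_def]
  apply ext'
  · simp only [mul_x, inv_x, cen]; ring
  · simp only [mul_y, inv_y, cen]; ring
  · simp only [mul_z, mul_x, inv_z, inv_x, inv_y, cen, phi, map_one, map_zero, map_add, map_neg]; ring

lemma cen_eq_pow [NeZero n] (z : ZMod n) : cen hnm z = (cen hnm (1 : ZMod n)) ^ z.val := by
  have h : ∀ k : ℕ, (cen hnm (1 : ZMod n)) ^ k = cen hnm (k : ZMod n) := by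
    intro k
    induction k with
    | zero => rw [pow_zero]; apply ext' <;> simp [cen, one_x, one_y, one_z]
    | succ k ih => rw [pow_succ, ih, cen_mul]; push_cast; rfl
  rw [h, ZMod.natCast_zmod_val]

lemma isStem [NeZero n] : Cfsg.IsStemExtension (proj hnm) := by
  refine ⟨proj_surjective, ?_, ?_⟩
  · intro g hg
    rw [eq_cen_of_mem_ker hg]
    exact cen_mem_center _
  · intro g hg
    rw [eq_cen_of_mem_ker hg, cen_eq_pow]
    apply pow_mem
    rw [cen_one_eq_commutator, commutator_def]
    exact Subgroup.commutator_mem_commutator (Subgroup.mem_top _) (Subgroup.mem_top _)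

/-- the kernel is `ZMod n` -/
def kerEquiv (hnm : n ∣ m) : (proj hnm).ker ≃* Multiplicative (ZMod n) where
  toFun k := Multiplicative.ofAdd k.1.z
  invFun t := ⟨cen hnm (Multiplicative.toAdd t), cen_mem_ker _⟩
  left_inv k := by
    apply Subtype.ext
    exact (eq_cen_of_mem_ker k.2).symm
  right_inv t := rfl
  map_mul' k l := by
    obtain ⟨k, hk⟩ := k
    obtain ⟨l, hl⟩ := l
    show Multiplicative.ofAdd (k * l).z = Multiplicative.ofAdd k.z * Multiplicative.ofAdd l.z
    rw [mul_z, (mem_ker_proj.1 hk).1, map_zero, zero_mul, add_zero]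
    rfl

instance [NeZero m] [NeZero n] : Finite (Heis m n hnm) := by
  have : Function.Injective (fun g : Heis m n hnm => (g.x, g.y, g.z)) := by
    intro g h hgh
    simp only [Prod.mk.injEq] at hgh
    exact ext' hgh.1 hgh.2.1 hgh.2.2
  exact Finite.of_injective _ this

end Heis

end Cfsg.Agent.H1
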