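import Mathlib
import Cfsg.Agent.H1.Basic
import Cfsg.Agent.S3979
import Cfsg.Prelude.Def_KGroupFacts

set_option autoImplicit false

namespace Cfsg.Agent.H1

open Cfsg
open scoped commutatorElement

/-- a finite abelian non-cyclic group has two independent characters modulo some prime -/
lemma exists_independent_characters {G : Type*} [CommGroup G] [Finite G] (hnc : ¬ IsCyclic G) :
    ∃ (p : ℕ) (_ : Fact p.Prime) (α β : G →* Multiplicative (ZMod p)) (g₁ g₂ : G),
      α g₁ = Multiplicative.ofAdd 1 ∧ β g₁ = 1 ∧ α g₂ = 1 ∧ β g₂ = Multiplicative.ofAdd 1 := by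
  classical
  obtain ⟨ι, _, n, hn1, ⟨e⟩⟩ := CommGroup.equiv_prod_multiplicative_zmod_of_finite G
  by_cases hco : Pairwise (Function.onFun Nat.Coprime n)
  · exfalso
    apply hnc
    let e2 : Multiplicative (ZMod (∏ i, n i)) ≃* G :=
      ((AddEquiv.toMultiplicative (ZMod.prodEquivPi n hco).toAddEquiv).trans
        (MulEquiv.piMultiplicative _)).trans e.symm
    exact isCyclic_of_surjective e2 e2.surjective
  · rw [Pairwise] at hco
    push Not at hco
    obtain ⟨i, j, hij, hnco⟩ := hco
    obtain ⟨p, hp, hpi, hpj⟩ := Nat.Prime.not_coprime_iff_dvd.1 hnco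
    have hpf : Fact p.Prime := ⟨hp⟩
    let ci : Multiplicative (ZMod (n i)) →* Multiplicative (ZMod p) :=
      AddMonoidHom.toMultiplicative (ZMod.castHom hpi (ZMod p)).toAddMonoidHom
    let cj : Multiplicative (ZMod (n j)) →* Multiplicative (ZMod p) :=
      AddMonoidHom.toMultiplicative (ZMod.castHom hpj (ZMod p)).toAddMonoidHom
    have hci : ci (Multiplicative.ofAdd 1) = Multiplicative.ofAdd 1 := by
      show Multiplicative.ofAdd ((ZMod.castHom hpi (ZMod p)) 1) = Multiplicative.ofAdd 1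
      rw [map_one]
    have hcj : cj (Multiplicative.ofAdd 1) = Multiplicative.ofAdd 1 := by
      show Multiplicative.ofAdd ((ZMod.castHom hpj (ZMod p)) 1) = Multiplicative.ofAdd 1
      rw [map_one]
    refine ⟨p, hpf, ci.comp ((Pi.evalMonoidHom _ i).comp e.toMonoidHom),
      cj.comp ((Pi.evalMonoidHom _ j).comp e.toMonoidHom),
      e.symm (Pi.mulSingle i (Multiplicative.ofAdd 1)), e.symm (Pi.mulSingle j (Multiplicative.ofAdd 1)), ?_, ?_, ?_, ?_⟩
    · show ci ((e (e.symm (Pi.mulSingle i (Multiplicative.ofAdd 1)))) i) = _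
      rw [e.apply_symm_apply, Pi.mulSingle_eq_same, hci]
    · show cj ((e (e.symm (Pi.mulSingle i (Multiplicative.ofAdd 1)))) j) = _
      rw [e.apply_symm_apply, Pi.mulSingle_eq_of_ne (Ne.symm hij), map_one]
    · show ci ((e (e.symm (Pi.mulSingle j (Multiplicative.ofAdd 1)))) i) = _
      rw [e.apply_symm_apply, Pi.mulSingle_eq_of_ne hij, map_one]
    · show cj ((e (e.symm (Pi.mulSingle j (Multiplicative.ofAdd 1)))) j) = _
      rw [e.apply_symm_apply, Pi.mulSingle_eq_same, hcj]

/-- underlying type of the central extension of `G` by `ZMod p` given by the cocycle `α(g) β(h)` -/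
structure HeisG (G : Type*) [CommGroup G] (p : ℕ) (α β : G →* Multiplicative (ZMod p)) where
  /-- base coordinate -/
  g : G
  /-- central coordinate -/
  z : ZMod p

namespace HeisG
variable {G : Type*} [CommGroup G] {p : ℕ} {α β : G →* Multiplicative (ZMod p)}

lemma ext' {a b : HeisG G p α β} (h1 : a.g = b.g) (h2 : a.z = b.z) : a = b := by
  cases a; cases b; simp_all

/-- additive value of a character -/
def av (γ : G →* Multiplicative (ZMod p)) (g : G) : ZMod p := Multiplicative.toAdd (γ g)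

lemma av_mul (γ : G →* Multiplicative (ZMod p)) (g h : G) : av γ (g * h) = av γ g + av γ h := by
  unfold av; rw [map_mul, toAdd_mul]

lemma av_one (γ : G →* Multiplicative (ZMod p)) : av γ 1 = 0 := by
  unfold av; rw [map_one, toAdd_one]

lemma av_inv (γ : G →* Multiplicative (ZMod p)) (g : G) : av γ g⁻¹ = - av γ g := by
  unfold av; rw [map_inv, toAdd_inv]

instance : Group (HeisG G p α β) where
  mul a b := ⟨a.g * b.g, a.z + b.z + av α a.g * av β b.g⟩
  one := ⟨1, 0⟩
  inv a := ⟨a.g⁻¹, -a.z + av α a.g * av β a.g⟩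
  mul_assoc a b c := by
    apply ext'
    · show a.g * b.g * c.g = a.g * (b.g * c.g); rw [mul_assoc]
    · show a.z + b.z + av α a.g * av β b.g + c.z + av α (a.g * b.g) * av β c.g =
        a.z + (b.z + c.z + av α b.g * av β c.g) + av α a.g * av β (b.g * c.g)
      rw [av_mul, av_mul]; ring
  one_mul a := by
    apply ext'
    · show 1 * a.g = a.g; rw [one_mul]
    · show (0 : ZMod p) + a.z + av α 1 * av β a.g = a.z
      rw [av_one]; ring
  mul_one a := by
    apply ext'
    · show a.g * 1 = a.g; rw [mul_one]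
    · show a.z + (0 : ZMod p) + av α a.g * av β 1 = a.z
      rw [av_one]; ring
  inv_mul_cancel a := by
    apply ext'
    · show a.g⁻¹ * a.g = 1; rw [inv_mul_cancel]
    · show -a.z + av α a.g * av β a.g + a.z + av α a.g⁻¹ * av β a.g = 0
      rw [av_inv]; ring

lemma mul_g (a b : HeisG G p α β) : (a * b).g = a.g * b.g := rfl
lemma mul_z (a b : HeisG G p α β) : (a * b).z = a.z + b.z + av α a.g * av β b.g := rfl
lemma inv_g (a : HeisG G p α β) : (a⁻¹).g = a.g⁻¹ := rfl
lemma inv_z (a : HeisG G p α β) : (a⁻¹).z = -a.z + av α a.g * av β a.g := rfl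
lemma one_g : (1 : HeisG G p α β).g = 1 := rfl
lemma one_z : (1 : HeisG G p α β).z = 0 := rfl

/-- the projection onto `G` -/
def proj (α β : G →* Multiplicative (ZMod p)) : HeisG G p α β →* G where
  toFun a := a.g
  map_one' := rfl
  map_mul' _ _ := rfl

lemma proj_apply (a : HeisG G p α β) : proj α β a = a.g := rfl

lemma mem_ker_proj {a : HeisG G p α β} : a ∈ (proj α β).ker ↔ a.g = 1 := by
  rw [MonoidHom.mem_ker, proj_apply]

/-- the central element `(1, z)` -/
def cen (α β : G →* Multiplicative (ZMod p)) (z : ZMod p) : HeisG G p α β := ⟨1, z⟩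

lemma cen_mul (z w : ZMod p) : cen α β z * cen α β w = cen α β (z + w) := by
  apply ext'
  · show (1 : G) * 1 = 1; rw [one_mul]
  · show z + w + av α 1 * av β 1 = z + w
    rw [av_one]; ring

lemma cen_mem_center (z : ZMod p) : cen α β z ∈ Subgroup.center (HeisG G p α β) := by
  rw [Subgroup.mem_center_iff]
  intro a
  apply ext'
  · show a.g * 1 = 1 * a.g; rw [mul_one, one_mul]
  · show a.z + z + av α a.g * av β 1 = z + a.z + av α 1 * av β a.g
    rw [av_one, av_one]; ring

lemma eq_cen_of_mem_ker {a : HeisG G p α β} (ha : a ∈ (proj α β).ker) : a = cen α β a.z :=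
  ext' (mem_ker_proj.1 ha) rfl

lemma cen_eq_pow [NeZero p] (z : ZMod p) : cen α β z = (cen α β (1 : ZMod p)) ^ z.val := by
  have h : ∀ k : ℕ, (cen α β (1 : ZMod p)) ^ k = cen α β (k : ZMod p) := by
    intro k
    induction k with
    | zero => rw [pow_zero]; apply ext' <;> simp [cen, one_g, one_z]
    | succ k ih => rw [pow_succ, ih, cen_mul]; push_cast; rfl
  rw [h, ZMod.natCast_zmod_val]

lemma cen_one_eq_commutator (g₁ g₂ : G) (h1 : av α g₁ = 1) (h2 : av β g₁ = 0) (h3 : av α g₂ = 0)
    (h4 : av β g₂ = 1) : cen α β (1 : ZMod p) = ⁅(⟨g₁, 0⟩ : HeisG G p α β), ⟨g₂, 0⟩⁆ := by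
  rw [commutatorElement_def]
  apply ext'
  · simp only [mul_g, inv_g, cen]
    rw [mul_comm g₁ g₂, mul_assoc, mul_assoc, mul_inv_cancel_left, mul_inv_cancel]
  · simp only [mul_z, mul_g, inv_z, inv_g, cen, av_mul, av_inv, h1, h2, h3, h4]; ring

lemma isStem [NeZero p] (g₁ g₂ : G) (h1 : av α g₁ = 1) (h2 : av β g₁ = 0) (h3 : av α g₂ = 0)
    (h4 : av β g₂ = 1) : Cfsg.IsStemExtension (proj α β) := by
  refine ⟨fun g => ⟨⟨g, 0⟩, rfl⟩, ?_, ?_⟩
  · intro a ha
    rw [eq_cen_of_mem_ker ha]
    exact cen_mem_center _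
  · intro a ha
    rw [eq_cen_of_mem_ker ha, cen_eq_pow]
    apply pow_mem
    rw [cen_one_eq_commutator g₁ g₂ h1 h2 h3 h4, commutator_def]
    exact Subgroup.commutator_mem_commutator (Subgroup.mem_top _) (Subgroup.mem_top _)

instance [Finite G] [NeZero p] : Finite (HeisG G p α β) := by
  have : Function.Injective (fun a : HeisG G p α β => (a.g, a.z)) := by
    intro a b hab
    simp only [Prod.mk.injEq] at hab
    exact ext' hab.1 hab.2
  exact Finite.of_injective _ this

end HeisG

end Cfsg.Agent.H1
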