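import Mathlib
import Cfsg.Agent.H1.Splitting
import Cfsg.Agent.Lib.Helper4.Nilpotent

set_option autoImplicit false

namespace Cfsg.Agent.H1.Hughes

open Finset

section ring

theorem sum_pow_mul {R : Type*} [Ring R] {p : ℕ} (hp : p.Prime) (b : R) (hb : b ^ p = 1) {k : ℕ}
    (hk0 : k ≠ 0) (hkp : k < p) :
    ∑ j ∈ range p, b ^ (j * k) = ∑ j ∈ range p, b ^ j := by
  have hcop : Nat.Coprime k p :=
    Nat.Coprime.symm ((Nat.Prime.coprime_iff_not_dvd hp).mpr
      (Nat.not_dvd_of_pos_of_lt (Nat.pos_of_ne_zero hk0) hkp))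
  have hinj : Set.InjOn (fun j : ℕ => (j * k) % p) (range p : Set ℕ) := by
    intro j₁ h₁ j₂ h₂ h
    have h₁' : j₁ < p := Finset.mem_range.mp h₁
    have h₂' : j₂ < p := Finset.mem_range.mp h₂
    have h3 : j₁ * k ≡ j₂ * k [MOD p] := h
    have h4 : j₁ ≡ j₂ [MOD p] := Nat.ModEq.cancel_right_of_coprime hcop.symm h3
    exact Nat.ModEq.eq_of_lt_of_lt h4 h₁' h₂'
  have himg : (range p).image (fun j : ℕ => (j * k) % p) = range p := by
    apply Finset.eq_of_subset_of_card_le
    · intro t ht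
      obtain ⟨j, -, rfl⟩ := Finset.mem_image.mp ht
      exact Finset.mem_range.mpr (Nat.mod_lt _ hp.pos)
    · rw [Finset.card_image_of_injOn hinj]
  calc ∑ j ∈ range p, b ^ (j * k) = ∑ j ∈ range p, b ^ ((j * k) % p) := by
        apply Finset.sum_congr rfl
        intro j _
        exact pow_eq_pow_mod (j * k) hb
    _ = ∑ t ∈ (range p).image (fun j : ℕ => (j * k) % p), b ^ t :=
        (Finset.sum_image hinj).symm
    _ = ∑ j ∈ range p, b ^ j := by rw [himg]

theorem end_sum_apply {A ι : Type*} [AddCommMonoid A] (s : Finset ι) (f : ι → AddMonoid.End A)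
    (v : A) : (∑ i ∈ s, f i) v = ∑ i ∈ s, f i v := by
  classical
  induction s using Finset.induction_on with
  | empty => simp
  | insert a s ha ih =>
    rw [Finset.sum_insert ha, Finset.sum_insert ha, ← ih]
    rfl

theorem ring_lemma {R : Type*} [Ring R] {p : ℕ} (hp : p.Prime) (a b : R) (hab : Commute a b)
    (hb : b ^ p = 1) (h3 : ∑ k ∈ range p, b ^ k = 0)
    (h4 : ∀ j, ∑ k ∈ range p, (a * b ^ j) ^ k = 0) : (p : R) = 0 := by
  have h5 : ∑ j ∈ range p, ∑ k ∈ range p, (a * b ^ j) ^ k = 0 :=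
    Finset.sum_eq_zero fun j _ => h4 j
  have h6 : ∀ j k : ℕ, (a * b ^ j) ^ k = a ^ k * b ^ (j * k) := by
    intro j k
    rw [(hab.pow_right j).mul_pow, ← pow_mul]
  simp only [h6] at h5
  rw [Finset.sum_comm] at h5
  simp only [← Finset.mul_sum] at h5
  rw [Finset.sum_eq_single 0] at h5
  · simpa using h5
  · intro k hk hk0
    rw [sum_pow_mul hp b hb hk0 (Finset.mem_range.mp hk), h3, mul_zero]
  · intro h
    exact absurd (Finset.mem_range.mpr hp.pos) h

end ring

section group

universe u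

variable {G : Type u} [Group G]

theorem prod_conj_eq (x h : G) (n : ℕ) :
    ((List.range n).map (fun i : ℕ => x ^ i * h * x⁻¹ ^ i)).prod = (h * x) ^ n * x⁻¹ ^ n := by
  induction n with
  | zero => simp
  | succ n ih =>
    rw [List.range_succ, List.map_append, List.prod_append, ih]
    simp only [List.map_cons, List.map_nil, List.prod_cons, List.prod_nil, mul_one]
    rw [pow_succ (h * x), pow_succ' x⁻¹]
    have e : x⁻¹ ^ n * x ^ n = 1 := by rw [inv_pow, inv_mul_cancel]
    calc (h * x) ^ n * x⁻¹ ^ n * (x ^ n * h * x⁻¹ ^ n)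
        = (h * x) ^ n * (x⁻¹ ^ n * x ^ n) * h * x⁻¹ ^ n := by simp only [mul_assoc]
      _ = (h * x) ^ n * (h * x) * (x⁻¹ * x⁻¹ ^ n) := by
          rw [e]; simp only [mul_assoc, mul_one, mul_inv_cancel_left]

theorem finset_prod_conj_eq (x h : G) (n : ℕ) :
    ((List.range n).map (fun i : ℕ => x ^ i * h * x⁻¹ ^ i)).prod = 1 ↔ (h * x) ^ n = x ^ n := by
  rw [prod_conj_eq, inv_pow, mul_inv_eq_one]

theorem hughes_nilpotent [Finite G] {p : ℕ} (hp : p.Prime) (H : Subgroup G) [H.Normal]
    (hout : ∀ g, g ∉ H → g ^ p = 1) (hH : H ≠ ⊤) : Group.IsNilpotent H := by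
  obtain ⟨x, hx⟩ : ∃ x, x ∉ H := by
    by_contra h
    push_neg at h
    exact hH (eq_top_iff.mpr fun g _ => h g)
  have hxp := hout x hx
  have hα : (MulAut.conjNormal x : MulAut H) ^ p = 1 := by
    rw [← map_pow, hxp, map_one]
  apply splits_isNilpotent hp _ (splits_of_mulAut (MulAut.conjNormal x : MulAut H) hα ?_)
  intro h
  apply Subtype.ext
  have hcoe : ∀ i : ℕ, (((MulAut.conjNormal x : MulAut H) ^ i) h : G) = x ^ i * h * x⁻¹ ^ i := by
    intro i
    rw [← map_pow, MulAut.conjNormal_apply, inv_pow]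
  rw [← Subgroup.coe_subtype, map_list_prod, List.map_map]
  have hfun : (⇑H.subtype ∘ fun i : ℕ => ((MulAut.conjNormal x : MulAut H) ^ i) h) =
      fun i : ℕ => x ^ i * (h : G) * x⁻¹ ^ i := by
    funext i
    exact hcoe i
  rw [hfun, map_one, finset_prod_conj_eq, hxp]
  apply hout
  intro hmem
  exact hx ((H.mul_mem_cancel_left h.2).mp hmem)

end group

section center

universe u

variable {G : Type u} [Group G] (H : Subgroup G) [H.Normal]

/-- the centre of `H` as a subgroup of `G` -/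
def ZH : Subgroup G := Subgroup.centralizer (H : Set G) ⊓ H

instance ZH_normal : (ZH H).Normal := by unfold ZH; infer_instance

omit [H.Normal] in
theorem ZH_comm (a b : ZH H) : a * b = b * a := by
  apply Subtype.ext
  have ha := (Subgroup.mem_inf.mp a.2).1
  have hb := (Subgroup.mem_inf.mp b.2).2
  rw [Subgroup.mem_centralizer_iff] at ha
  exact (ha b hb).symm

instance ZH_commGroup : CommGroup (ZH H) :=
  { (inferInstance : Group (ZH H)) with mul_comm := ZH_comm H }

/-- conjugation action on the centre of `H`, additively -/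
def Phi : G →* AddMonoid.End (Additive (ZH H)) where
  toFun g := MonoidHom.toAdditive ((MulAut.conjNormal g : MulAut (ZH H)).toMonoidHom)
  map_one' := by
    ext v
    rw [map_one]
    rfl
  map_mul' g g' := by
    ext v
    rw [map_mul]
    rfl

theorem Phi_apply_coe (g : G) (v : Additive (ZH H)) :
    (((Phi H g v).toMul : ZH H) : G) = g * (v.toMul : ZH H) * g⁻¹ := rfl

omit [H.Normal] in
theorem coe_prod_range (f : ℕ → ZH H) (n : ℕ) :
    ((∏ k ∈ range n, f k : ZH H) : G) = ((List.range n).map (fun k => (f k : G))).prod := by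
  induction n with
  | zero => simp
  | succ n ih =>
    rw [Finset.prod_range_succ, Subgroup.coe_mul, ih, List.range_succ, List.map_append,
      List.prod_append]
    simp

theorem Phi_norm {p : ℕ} (hout : ∀ g, g ∉ H → g ^ p = 1) (g : G) (hg : g ∉ H) :
    ∑ k ∈ range p, (Phi H g) ^ k = 0 := by
  refine DFunLike.ext _ _ fun v => ?_
  rw [end_sum_apply]
  simp only [← map_pow]
  have h1 : ∀ k : ℕ, Phi H (g ^ k) v =
      Additive.ofMul (MulAut.conjNormal (g ^ k) (v.toMul : ZH H) : ZH H) := fun k => rfl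
  simp only [h1]
  rw [← ofMul_prod]
  have h2 : (∏ k ∈ range p, (MulAut.conjNormal (g ^ k) (v.toMul : ZH H) : ZH H)) = 1 := by
    apply Subtype.ext
    rw [coe_prod_range]
    have hfun : (fun k : ℕ => ((MulAut.conjNormal (g ^ k) (v.toMul : ZH H) : ZH H) : G)) =
        fun k : ℕ => g ^ k * ((v.toMul : ZH H) : G) * g⁻¹ ^ k := by
      funext k
      rw [MulAut.conjNormal_apply, inv_pow]
    rw [hfun, OneMemClass.coe_one, finset_prod_conj_eq, hout g hg]
    apply hout
    intro hmem
    have hv : ((v.toMul : ZH H) : G) ∈ H := (Subgroup.mem_inf.mp (v.toMul : ZH H).2).2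
    exact hg ((H.mul_mem_cancel_left hv).mp hmem)
  rw [h2]
  rfl

theorem Phi_eq_one_of_mem (c : G) (hc : c ∈ H) : Phi H c = 1 := by
  refine DFunLike.ext _ _ fun v => ?_
  show Additive.ofMul (MulAut.conjNormal c (v.toMul : ZH H) : ZH H) = v
  have h1 : (MulAut.conjNormal c (v.toMul : ZH H) : ZH H) = v.toMul := by
    apply Subtype.ext
    rw [MulAut.conjNormal_apply]
    have hv := (Subgroup.mem_inf.mp (v.toMul : ZH H).2).1
    rw [Subgroup.mem_centralizer_iff] at hv
    rw [hv c hc, mul_inv_cancel_right]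
  rw [h1]
  rfl

theorem center_exp {p : ℕ} (hp : p.Prime) (hout : ∀ g, g ∉ H → g ^ p = 1) (y z : G) (hz : z ∉ H)
    (hyz : ∀ j : ℕ, y * z ^ j ∉ H) (hc : y * z * y⁻¹ * z⁻¹ ∈ H) (v : ZH H) : v ^ p = 1 := by
  have hab : Commute (Phi H y) (Phi H z) := by
    show Phi H y * Phi H z = Phi H z * Phi H y
    rw [← map_mul, ← map_mul]
    have : y * z = (y * z * y⁻¹ * z⁻¹) * (z * y) := by group
    rw [this, map_mul, Phi_eq_one_of_mem H _ hc, one_mul]
  have hb : (Phi H z) ^ p = 1 := by rw [← map_pow, hout z hz, map_one]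
  have h3 := Phi_norm H hout z hz
  have h4 : ∀ j, ∑ k ∈ range p, (Phi H y * Phi H z ^ j) ^ k = 0 := by
    intro j
    rw [← map_pow, ← map_mul]
    exact Phi_norm H hout _ (hyz j)
  have key := ring_lemma hp (Phi H y) (Phi H z) hab hb h3 h4
  have h5 := DFunLike.congr_fun key (Additive.ofMul v)
  rw [AddMonoid.End.natCast_apply] at h5
  have h6 : Additive.ofMul (v ^ p) = 0 := by rw [ofMul_pow]; exact h5
  exact h6

end center

section final

universe u

variable {G : Type u} [Group G] [Finite G]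

open Cfsg.Agent.Lib.Helper4.Nilpotent in
theorem hughes_index {p : ℕ} (hp : p.Prime) (H : Subgroup G) [H.Normal]
    (hout : ∀ g, g ∉ H → g ^ p = 1) (hH : H ≠ ⊤) (hG : ¬ IsPGroup p G) : H.index = p := by
  haveI : Fact p.Prime := ⟨hp⟩
  haveI hnil : Group.IsNilpotent H := hughes_nilpotent hp H hout hH
  have hQp : ∀ q : G ⧸ H, q ^ p = 1 := by
    intro q
    obtain ⟨g, rfl⟩ := QuotientGroup.mk_surjective q
    by_cases hg : g ∈ H
    · rw [(QuotientGroup.eq_one_iff g).mpr hg, one_pow]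
    · rw [← QuotientGroup.mk_pow, hout g hg]; rfl
  have hQ : IsPGroup p (G ⧸ H) := fun q => ⟨1, by rw [pow_one]; exact hQp q⟩
  obtain ⟨n, hn⟩ := IsPGroup.iff_card.mp hQ
  have hidx : H.index = p ^ n := by rw [Subgroup.index_eq_card]; exact hn
  by_contra hne
  have hn0 : n ≠ 0 := by
    intro h0
    rw [h0, pow_zero] at hidx
    exact hH (Subgroup.index_eq_one.mp hidx)
  have hn1 : n ≠ 1 := by
    intro h1
    rw [h1, pow_one] at hidx
    exact hne hidx
  have hn2 : 2 ≤ n := by omega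
  have hcard_lt : p < Nat.card (G ⧸ H) := by
    rw [hn]
    calc p = p ^ 1 := (pow_one p).symm
    _ < p ^ n := Nat.pow_lt_pow_right hp.one_lt (by omega)
  haveI : Nontrivial (G ⧸ H) := by
    rw [← Finite.one_lt_card_iff_nontrivial]
    exact lt_trans hp.one_lt hcard_lt
  haveI := hQ.center_nontrivial
  obtain ⟨zb, hzbc, hzb1⟩ := (Subgroup.nontrivial_iff_exists_ne_one _).mp
    (inferInstance : Nontrivial (Subgroup.center (G ⧸ H)))
  have hzp : Subgroup.zpowers zb ≠ ⊤ := by
    intro htop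
    have h1 : Nat.card (Subgroup.zpowers zb) = orderOf zb := Nat.card_zpowers zb
    rw [htop, Subgroup.card_top] at h1
    have h2 : orderOf zb ≤ p := Nat.le_of_dvd hp.pos (orderOf_dvd_of_pow_eq_one (hQp zb))
    omega
  obtain ⟨yb, hyb⟩ : ∃ yb, yb ∉ Subgroup.zpowers zb := by
    by_contra h
    push_neg at h
    exact hzp (eq_top_iff.mpr fun g _ => h g)
  obtain ⟨y, rfl⟩ := QuotientGroup.mk_surjective yb
  obtain ⟨z, rfl⟩ := QuotientGroup.mk_surjective zb
  have hz : z ∉ H := fun hz => hzb1 ((QuotientGroup.eq_one_iff z).mpr hz)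
  have hyz : ∀ j : ℕ, y * z ^ j ∉ H := by
    intro j hmem
    apply hyb
    have h1 : ((y * z ^ j : G) : G ⧸ H) = 1 := (QuotientGroup.eq_one_iff _).mpr hmem
    rw [QuotientGroup.mk_mul, QuotientGroup.mk_pow] at h1
    have h2 : (y : G ⧸ H) = ((z : G ⧸ H) ^ j)⁻¹ := eq_inv_of_mul_eq_one_left h1
    rw [h2]
    exact Subgroup.inv_mem _ (Subgroup.pow_mem _ (Subgroup.mem_zpowers _) j)
  have hc : y * z * y⁻¹ * z⁻¹ ∈ H := by
    rw [← QuotientGroup.eq_one_iff]
    rw [Subgroup.mem_center_iff] at hzbc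
    have h1 := hzbc (y : G ⧸ H)
    rw [QuotientGroup.mk_mul, QuotientGroup.mk_mul, QuotientGroup.mk_mul, QuotientGroup.mk_inv,
      QuotientGroup.mk_inv, h1]
    group
  have hexp := center_exp H hp hout y z hz hyz hc
  -- a prime `r ≠ p` dividing the order of `H`
  obtain ⟨r, hr, hrd, hrp⟩ : ∃ r : ℕ, r.Prime ∧ r ∣ Nat.card H ∧ r ≠ p := by
    by_contra h
    push_neg at h
    have h1 : Nat.card H = p ^ (Nat.card H).primeFactorsList.length :=
      Nat.eq_prime_pow_of_unique_prime_dvd Nat.card_pos.ne' (fun {d} hd hdd => h d hd hdd)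
    apply hG
    apply IsPGroup.of_card (n := (Nat.card H).primeFactorsList.length + n)
    rw [← H.card_mul_index, hidx, h1, ← pow_add]
    congr 1
    rw [← h1]
  haveI : Fact r.Prime := ⟨hr⟩
  let R : Sylow r H := default
  have hRne : (R : Subgroup H) ≠ ⊥ := R.ne_bot_of_dvd_card hrd
  haveI : Nontrivial ↥(R : Subgroup H) := (Subgroup.nontrivial_iff_ne_bot _).mpr hRne
  haveI := R.isPGroup'.center_nontrivial
  obtain ⟨w, hwc, hw1⟩ := (Subgroup.nontrivial_iff_exists_ne_one _).mp
    (inferInstance : Nontrivial (Subgroup.center ↥(R : Subgroup H)))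
  have hwcen : (w : H) ∈ Subgroup.center H := by
    apply mem_center_of_mem_center_sylow R (w : H) w.2
    intro x hx
    rw [Subgroup.mem_center_iff] at hwc
    have := hwc ⟨x, hx⟩
    exact congrArg Subtype.val this
  have hwZ : ((w : H) : G) ∈ ZH H := by
    refine Subgroup.mem_inf.mpr ⟨?_, (w : H).2⟩
    rw [Subgroup.mem_centralizer_iff]
    intro h hh
    rw [Subgroup.mem_center_iff] at hwcen
    have := hwcen ⟨h, hh⟩
    exact congrArg Subtype.val this
  have h1 := hexp ⟨((w : H) : G), hwZ⟩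
  have h2 : w ^ p = 1 := by
    apply Subtype.ext
    apply Subtype.ext
    have := congrArg Subtype.val h1
    simpa using this
  obtain ⟨k, hk⟩ := R.isPGroup' w
  have h3 : orderOf w ∣ p := orderOf_dvd_of_pow_eq_one h2
  have h4 : orderOf w ∣ r ^ k := orderOf_dvd_of_pow_eq_one hk
  have h5 : Nat.Coprime p (r ^ k) :=
    Nat.Coprime.pow_right _ ((Nat.coprime_primes hp hr).mpr (Ne.symm hrp))
  have h6 : orderOf w = 1 := Nat.eq_one_of_dvd_coprimes h5 h3 h4
  exact hw1 (orderOf_eq_one_iff.mp h6)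

theorem main (p : ℕ) (hp : p.Prime) (hG : ¬ IsPGroup p G)
    (hH : Subgroup.closure {g : G | g ^ p ≠ 1} ≠ ⊤) :
    Group.IsNilpotent (Subgroup.closure {g : G | g ^ p ≠ 1}) ∧
      (Subgroup.closure {g : G | g ^ p ≠ 1}).index = p := by
  set H := Subgroup.closure {g : G | g ^ p ≠ 1} with hHdef
  haveI hHn : H.Normal := by
    constructor
    intro n hn g
    have hle : H.map (MulAut.conj g).toMonoidHom ≤ H := by
      rw [hHdef, MonoidHom.map_closure, Subgroup.closure_le]
      rintro _ ⟨s, hs, rfl⟩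
      apply Subgroup.subset_closure
      show (g * s * g⁻¹) ^ p ≠ 1
      rw [conj_pow]
      intro h
      apply hs
      have : s ^ p = g⁻¹ * (g * s ^ p * g⁻¹) * g := by group
      rw [this, h]; group
    exact hle ⟨n, hn, rfl⟩
  have hout : ∀ g, g ∉ H → g ^ p = 1 := by
    intro g hg
    by_contra h
    exact hg (Subgroup.subset_closure h)
  exact ⟨hughes_nilpotent hp H hout hH, hughes_index hp H hout hH hG⟩

end final

end Cfsg.Agent.H1.Hughes
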