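import Mathlib
import Cfsg.Prelude.Def_Transfer
import Cfsg.Agent.H1.OddCentralizers
import Cfsg.Agent.H1.MinNonPClosed

set_option autoImplicit false

namespace Cfsg.Agent.H1

open scoped commutatorElement

section
variable {H : Type*} [Group H] [Finite H]

theorem invol_fix_two_structure (U : Subgroup H) (w : H) (hw : orderOf w = 2)
    (hwU : w ∈ Subgroup.normalizer (U : Set H)) (y : H) (hy : y ≠ 1) (hyU : y ∈ U)
    (hfix : ∀ u ∈ U, w * u * w⁻¹ = u ↔ (u = 1 ∨ u = y))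
    (V : Subgroup H) (hVU : V ≤ U) (hVn : (V.subgroupOf U).Normal) (hVw : ∀ v ∈ V, w * v * w⁻¹ ∈ V)
    (hVe : Cfsg.IsElementaryAbelian 2 V) (hVc : ¬ IsCyclic ↥V) (hyV : y ∈ V) :
    ¬ 2 ∣ V.relIndex U ∧ Nat.card ↥V = 4 ∧ ⁅U, U⁆ ≤ V := by
  obtain ⟨hVcomm, hVexp⟩ := hVe
  have hww : w * w = 1 := by rw [← pow_two, ← hw]; exact pow_orderOf_eq_one w
  have hwinv : w⁻¹ = w := inv_eq_of_mul_eq_one_right hww
  have hcomm : ∀ a ∈ V, ∀ b ∈ V, a * b = b * a := by
    intro a ha b hb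
    have := hVcomm.is_comm.comm (⟨a, ha⟩ : V) ⟨b, hb⟩
    exact congrArg Subtype.val this
  have hsq : ∀ a ∈ V, a * a = 1 := fun a ha => by rw [← pow_two]; exact hVexp a ha
  have hinvV : ∀ a ∈ V, a⁻¹ = a := fun a ha => inv_eq_of_mul_eq_one_right (hsq a ha)
  -- θ v = v * w v w⁻¹ is fixed by w
  have hθfix : ∀ v ∈ V, v * (w * v * w⁻¹) = 1 ∨ v * (w * v * w⁻¹) = y := by
    intro v hv
    have h1 : v * (w * v * w⁻¹) ∈ V := V.mul_mem hv (hVw v hv)
    apply (hfix _ (hVU h1)).1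
    calc w * (v * (w * v * w⁻¹)) * w⁻¹ = (w * v * w⁻¹) * ((w * w) * v * (w * w)⁻¹) := by group
      _ = (w * v * w⁻¹) * v := by rw [hww]; group
      _ = v * (w * v * w⁻¹) := hcomm _ (hVw v hv) _ hv
  -- card V ≤ 4
  let θ : V →* V := MonoidHom.mk' (fun v => ⟨(v : H) * (w * v * w⁻¹), V.mul_mem v.2 (hVw v v.2)⟩) (by
    intro a b
    apply Subtype.ext
    show (a : H) * b * (w * (a * b) * w⁻¹) = (a : H) * (w * a * w⁻¹) * ((b : H) * (w * b * w⁻¹))
    have e : w * ((a : H) * b) * w⁻¹ = (w * a * w⁻¹) * (w * b * w⁻¹) := by group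
    rw [e]
    have c1 := hcomm _ b.2 _ (hVw a a.2)
    calc (a : H) * b * ((w * a * w⁻¹) * (w * b * w⁻¹))
        = (a : H) * ((b : H) * (w * a * w⁻¹)) * (w * b * w⁻¹) := by group
      _ = (a : H) * ((w * a * w⁻¹) * b) * (w * b * w⁻¹) := by rw [c1]
      _ = (a : H) * (w * a * w⁻¹) * ((b : H) * (w * b * w⁻¹)) := by group)
  have hpair : ∀ S : Subgroup V, (∀ s ∈ S, (s : H) = 1 ∨ (s : H) = y) → Nat.card S ≤ 2 := by
    intro S hS
    have h1 : (S : Set V) ⊆ {1, ⟨y, hyV⟩} := by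
      intro s hs
      rcases hS s hs with h | h
      · left; exact Subtype.ext h
      · right; exact Subtype.ext h
    have h2 : Nat.card S = (S : Set V).ncard := by
      rw [← Nat.card_coe_set_eq]; rfl
    rw [h2]
    calc (S : Set V).ncard ≤ ({1, ⟨y, hyV⟩} : Set V).ncard := Set.ncard_le_ncard h1 (Set.toFinite _)
      _ ≤ 2 := (Set.ncard_insert_le _ _).trans (by rw [Set.ncard_singleton])
  have hker : Nat.card θ.ker ≤ 2 := by
    apply hpair
    intro s hs
    rw [MonoidHom.mem_ker] at hs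
    have h1 : (s : H) * (w * s * w⁻¹) = 1 := congrArg Subtype.val hs
    apply (hfix _ (hVU s.2)).1
    have h2 : w * s * w⁻¹ = (s : H)⁻¹ := by
      rw [eq_inv_iff_mul_eq_one, ← h1]
      exact hcomm _ (hVw s s.2) _ s.2
    rw [h2, hinvV _ s.2]
  have hrange : Nat.card θ.range ≤ 2 := by
    apply hpair
    rintro _ ⟨v, rfl⟩
    exact hθfix v v.2
  have hcardV : Nat.card V ≤ 4 := by
    have h1 : Nat.card V = Nat.card θ.ker * Nat.card θ.range := by
      rw [← Subgroup.index_ker, Subgroup.card_mul_index]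
    rw [h1]
    calc Nat.card θ.ker * Nat.card θ.range ≤ 2 * 2 := Nat.mul_le_mul hker hrange
      _ = 4 := by norm_num
  have hcard4 : Nat.card V = 4 := by
    have hpos : 0 < Nat.card V := Nat.card_pos
    rcases Nat.lt_or_ge (Nat.card V) 4 with hlt | hge
    · exfalso
      apply hVc
      interval_cases h : Nat.card V
      · have : Subsingleton V := (Nat.card_eq_one_iff_unique.1 h).1
        exact isCyclic_of_subsingleton
      · haveI : Fact (Nat.Prime 2) := ⟨Nat.prime_two⟩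
        exact isCyclic_of_prime_card (p := 2) h
      · haveI : Fact (Nat.Prime 3) := ⟨Nat.prime_three⟩
        exact isCyclic_of_prime_card (p := 3) h
    · omega
  -- an element a ∈ V with w a w⁻¹ = a y
  obtain ⟨a, haV, haw⟩ : ∃ a ∈ V, w * a * w⁻¹ = a * y := by
    have hex : ∃ a : V, (a : H) ≠ 1 ∧ (a : H) ≠ y := by
      by_contra hcon
      push Not at hcon
      have h1 := hpair ⊤ (fun s _ => by
        by_cases h : (s : H) = 1
        · left; exact h
        · right; exact hcon s h)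
      rw [Subgroup.card_top, hcard4] at h1
      omega
    obtain ⟨a, ha1, hay⟩ := hex
    refine ⟨a, a.2, ?_⟩
    rcases hθfix a a.2 with h | h
    · exfalso
      have h2 : w * a * w⁻¹ = (a : H) := by
        have : w * a * w⁻¹ = (a : H)⁻¹ := by
          rw [eq_inv_iff_mul_eq_one, ← h]
          exact hcomm _ (hVw a a.2) _ a.2
        rw [this, hinvV _ a.2]
      rcases (hfix _ (hVU a.2)).1 h2 with h3 | h3
      · exact ha1 h3
      · exact hay h3
    · calc w * a * w⁻¹ = (a : H)⁻¹ * ((a : H) * (w * a * w⁻¹)) := by group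
        _ = a * y := by rw [h, hinvV _ a.2]
  obtain ⟨N, hN⟩ : ∃ N, N = Subgroup.normalizer (V : Set H) := ⟨_, rfl⟩
  have hVN : V ≤ N := hN ▸ Subgroup.le_normalizer
  have hV'n : (V.subgroupOf N).Normal := by rw [hN]; exact Subgroup.normal_in_normalizer
  have hUN : U ≤ N := by
    rw [hN]; exact (Subgroup.normal_subgroupOf_iff_le_normalizer hVU).1 hVn
  have hwN : w ∈ N := by rw [hN]; exact mem_normalizer_of_conj_mem V w hVw
  let π := QuotientGroup.mk' (V.subgroupOf N)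
  have hπ1 : ∀ g : N, π g = 1 ↔ (g : H) ∈ V := by
    intro g
    rw [QuotientGroup.mk'_apply, QuotientGroup.eq_one_iff, Subgroup.mem_subgroupOf]
  obtain ⟨Ub, hUb⟩ : ∃ Ub, Ub = (U.subgroupOf N).map π := ⟨_, rfl⟩
  let wh : N := ⟨w, hwN⟩
  have hwb : π wh * π wh = 1 := by
    rw [← map_mul]
    have : wh * wh = 1 := Subtype.ext hww
    rw [this, map_one]
  have hwbN : π wh ∈ Subgroup.normalizer (Ub : Set (↥N ⧸ V.subgroupOf N)) := by
    rw [hUb]
    apply Subgroup.le_normalizer_map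
    apply Subgroup.mem_map_of_mem
    rw [Subgroup.mem_normalizer_iff]
    intro n
    rw [Subgroup.mem_subgroupOf, Subgroup.mem_subgroupOf]
    exact Subgroup.mem_normalizer_iff.1 hwU (n : H)
  -- fixed cosets are trivial
  have key : ∀ u : N, (u : H) ∈ U → π wh * π u * (π wh)⁻¹ = π u → (u : H) ∈ V := by
    intro u hu hfixed
    have h1 : π (u⁻¹ * (wh * u * wh⁻¹)) = 1 := by
      rw [map_mul, map_mul, map_mul, map_inv, map_inv, hfixed, inv_mul_cancel]
    have hv₀ : (u : H)⁻¹ * (w * u * w⁻¹) ∈ V := by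
      have := (hπ1 _).1 h1
      simpa using this
    obtain ⟨v₀, hv₀def⟩ : ∃ v₀, v₀ = (u : H)⁻¹ * (w * u * w⁻¹) := ⟨_, rfl⟩
    rw [← hv₀def] at hv₀
    have h2 : w * v₀ * w⁻¹ = v₀ := by
      have e1 : v₀ * (w * v₀ * w⁻¹) = 1 := by
        rw [hv₀def]
        calc (u : H)⁻¹ * (w * u * w⁻¹) * (w * ((u : H)⁻¹ * (w * u * w⁻¹)) * w⁻¹)
            = (u : H)⁻¹ * (w * u * w⁻¹) * (w * (u : H)⁻¹ * w⁻¹) * ((w * w) * u * (w * w)⁻¹) := by
              group
          _ = 1 := by rw [hww]; group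
      have : w * v₀ * w⁻¹ = v₀⁻¹ := by
        rw [eq_inv_iff_mul_eq_one, ← e1]
        exact hcomm _ (hVw v₀ hv₀) _ hv₀
      rw [this, hinvV _ hv₀]
    have hwu : w * u * w⁻¹ = (u : H) * v₀ := by rw [hv₀def]; group
    rcases (hfix _ (hVU hv₀)).1 h2 with h3 | h3
    · rw [h3, mul_one] at hwu
      rcases (hfix _ hu).1 hwu with h4 | h4
      · rw [h4]; exact V.one_mem
      · rw [h4]; exact hyV
    · rw [h3] at hwu
      have h5 : w * ((u : H) * a) * w⁻¹ = (u : H) * a := by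
        have e : w * ((u : H) * a) * w⁻¹ = (w * u * w⁻¹) * (w * a * w⁻¹) := by group
        rw [e, hwu, haw]
        have c := hcomm y hyV a haV
        calc (u : H) * y * (a * y) = (u : H) * (y * a) * y := by group
          _ = (u : H) * (a * y) * y := by rw [c]
          _ = (u : H) * a * (y * y) := by group
          _ = (u : H) * a := by rw [hsq y hyV, mul_one]
      rcases (hfix _ (U.mul_mem hu (hVU haV))).1 h5 with h4 | h4
      · have : (u : H) = a⁻¹ := eq_inv_of_mul_eq_one_left h4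
        rw [this]; exact V.inv_mem haV
      · have : (u : H) = y * a⁻¹ := by rw [← h4]; group
        rw [this]; exact V.mul_mem hyV (V.inv_mem haV)
  have hfixb : ∀ s ∈ Ub, π wh * s * (π wh)⁻¹ = s → s = 1 := by
    intro s hs hfixed
    rw [hUb] at hs
    obtain ⟨u, hu, rfl⟩ := Subgroup.mem_map.1 hs
    exact (hπ1 u).2 (key u (Subgroup.mem_subgroupOf.1 hu) hfixed)
  have hinv := fpf_invol_inverts Ub (π wh) hwb hwbN hfixb
  have hmemUb : ∀ u : N, (u : H) ∈ U → π u ∈ Ub := by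
    intro u hu
    rw [hUb]; exact Subgroup.mem_map_of_mem π (Subgroup.mem_subgroupOf.2 hu)
  refine ⟨?_, hcard4, ?_⟩
  · intro h2
    have hidx : V.relIndex U = Nat.card (↥U ⧸ V.subgroupOf U) := by
      rw [Subgroup.relIndex, Subgroup.index_eq_card]
    rw [hidx] at h2
    haveI : Fact (Nat.Prime 2) := ⟨Nat.prime_two⟩
    obtain ⟨q, hq⟩ := exists_prime_orderOf_dvd_card' 2 h2
    obtain ⟨u, rfl⟩ := QuotientGroup.mk_surjective q
    have hq1 : (u : ↥U ⧸ V.subgroupOf U) ≠ 1 := by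
      intro h; rw [h, orderOf_one] at hq; omega
    have hq2 : (u : ↥U ⧸ V.subgroupOf U) ^ 2 = 1 := by rw [← hq]; exact pow_orderOf_eq_one _
    have huV : (u : H) ∉ V := by
      intro h
      apply hq1
      rw [QuotientGroup.eq_one_iff, Subgroup.mem_subgroupOf]; exact h
    have huuV : (u : H) * u ∈ V := by
      rw [← QuotientGroup.mk_pow, QuotientGroup.eq_one_iff, Subgroup.mem_subgroupOf, pow_two] at hq2
      exact hq2
    let un : N := ⟨(u : H), hUN u.2⟩
    have hs2 : π un * π un = 1 := by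
      rw [← map_mul]; exact (hπ1 _).2 huuV
    have hsinv : (π un)⁻¹ = π un := inv_eq_of_mul_eq_one_right hs2
    have h3 := hinv _ (hmemUb un u.2)
    rw [hsinv] at h3
    exact huV ((hπ1 un).1 (hfixb _ (hmemUb un u.2) h3))
  · rw [Subgroup.commutator_le]
    intro u₁ hu₁ u₂ hu₂
    let n₁ : N := ⟨u₁, hUN hu₁⟩
    let n₂ : N := ⟨u₂, hUN hu₂⟩
    have hc : π n₁ * π n₂ = π n₂ * π n₁ := by
      have h1 := hinv _ (hmemUb n₁ hu₁)
      have h2 := hinv _ (hmemUb n₂ hu₂)
      have h12 := hinv _ (Ub.mul_mem (hmemUb n₁ hu₁) (hmemUb n₂ hu₂))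
      have e : π wh * (π n₁ * π n₂) * (π wh)⁻¹ =
          (π wh * π n₁ * (π wh)⁻¹) * (π wh * π n₂ * (π wh)⁻¹) := by group
      rw [e, h1, h2] at h12
      have h3 : (π n₂ * π n₁)⁻¹ = (π n₁ * π n₂)⁻¹ := by rw [mul_inv_rev, h12]
      exact (inv_injective h3).symm
    have h1 : π (n₁ * n₂ * n₁⁻¹ * n₂⁻¹) = 1 := by
      rw [map_mul, map_mul, map_mul, map_inv, map_inv, hc]; group
    have := (hπ1 _).1 h1
    rw [commutatorElement_def]
    simpa using this

end

end Cfsg.Agent.H1
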