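import Mathlib
import Cfsg.Agent.H1.Basic
import Cfsg.Agent.H1.SylowMore
import Cfsg.Agent.H1.BaerSuzuki
import Cfsg.Agent.H1.Dihedral
import Cfsg.Agent.H1.Card

/-! Consequences of Baer–Suzuki for involutions (helper1). -/

set_option autoImplicit false
open scoped Pointwise commutatorElement

namespace Cfsg.Agent.H1

/-- an involution outside every normal 2-subgroup inverts a nontrivial element of odd order -/
theorem invol_inverts_odd {G : Type*} [Group G] [Finite G] (t : G) (ht : orderOf t = 2) (hO : ∀ N : Subgroup G, N.Normal → IsPGroup 2 N → t ∉ N) : ∃ h : G, h ≠ 1 ∧ Odd (orderOf h) ∧ t * h * t⁻¹ = h⁻¹ := by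
  haveI : Fact (Nat.Prime 2) := ⟨Nat.prime_two⟩
  have hX : IsPGroup 2 (Subgroup.zpowers t) := IsPGroup.of_card (n := 1) (by rw [Nat.card_zpowers, ht, pow_one])
  have hex : ∃ g : G, ¬ IsPGroup 2 ↥(Subgroup.zpowers t ⊔ MulAut.conj g • Subgroup.zpowers t) := by
    by_contra hall
    push Not at hall
    obtain ⟨N, hNn, hNp, hXN⟩ := baer_suzuki (Subgroup.zpowers t) hX hall
    exact hO N hNn hNp (hXN (Subgroup.mem_zpowers t))
  obtain ⟨g, hg⟩ := hex
  obtain ⟨s, hsdef⟩ : ∃ s, s = g * t * g⁻¹ := ⟨_, rfl⟩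
  have hs : orderOf s = 2 := by
    rw [hsdef, ← ht]
    exact orderOf_injective (MulAut.conj g).toMonoidHom (MulAut.conj g).injective t
  have hsmul : MulAut.conj g • Subgroup.zpowers t = Subgroup.zpowers s := by
    rw [conj_smul_eq_map, MonoidHom.map_zpowers, hsdef]; rfl
  rw [hsmul] at hg
  obtain ⟨d, hd⟩ : ∃ d, d = t * s := ⟨_, rfl⟩
  have hconj : t * d * t⁻¹ = d⁻¹ := by rw [hd]; exact pair_conj ht hs
  have hle : Subgroup.zpowers t ⊔ Subgroup.zpowers s ≤ Subgroup.zpowers d ⊔ Subgroup.zpowers t := by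
    refine sup_le le_sup_right (Subgroup.zpowers_le.mpr ?_)
    have : s = t⁻¹ * d := by rw [hd]; group
    rw [this]
    exact mul_mem (Subgroup.mem_sup_right (inv_mem (Subgroup.mem_zpowers t))) (Subgroup.mem_sup_left (Subgroup.mem_zpowers d))
  have hnorm : Subgroup.zpowers t ≤ Subgroup.normalizer ((Subgroup.zpowers d : Subgroup G) : Set G) := by
    rw [Subgroup.zpowers_le]
    apply mem_normalizer_of_map_conj_le
    rw [MonoidHom.map_zpowers]
    show Subgroup.zpowers (t * d * t⁻¹) ≤ _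
    rw [hconj, Subgroup.zpowers_inv]
  have hn0 : orderOf d ≠ 0 := (orderOf_pos d).ne'
  obtain ⟨k, m, hm, hkm⟩ := Nat.exists_eq_two_pow_mul_odd hn0
  refine ⟨d ^ (2 ^ k), ?_, ?_, ?_⟩
  · intro h1
    apply hg
    apply IsPGroup.to_le _ hle
    have hord : orderOf d ∣ 2 ^ k := orderOf_dvd_of_pow_eq_one h1
    have h2 := card_sup_mul_card_inf (Subgroup.zpowers t) (Subgroup.zpowers d) hnorm
    rw [Nat.card_zpowers, Nat.card_zpowers, ht] at h2
    have h3 : Nat.card (Subgroup.zpowers d ⊔ Subgroup.zpowers t : Subgroup G) ∣ 2 ^ (k + 1) := by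
      rw [sup_comm]
      refine (Dvd.intro _ h2).trans ?_
      rw [pow_succ, mul_comm]
      exact Nat.mul_dvd_mul_right hord 2
    obtain ⟨j, -, hj⟩ := (Nat.dvd_prime_pow Nat.prime_two).mp h3
    exact IsPGroup.of_card hj
  · have : orderOf (d ^ (2 ^ k)) = m := by
      rw [orderOf_pow_of_dvd (pow_ne_zero _ two_ne_zero) (Dvd.intro _ hkm.symm), hkm,
        Nat.mul_div_cancel_left _ (pow_pos two_pos k)]
    rw [this]; exact hm
  · rw [← conj_pow, hconj, inv_pow]

end Cfsg.Agent.H1
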