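import Mathlib
import Cfsg.Agent.Lib.Helper4.LinAct
import Cfsg.Agent.Lib.Helper4.FS
import Cfsg.Agent.Lib.helper3.Irr13
import Cfsg.Agent.Lib.helper3.Degrees
import Cfsg.Agent.H1.Frattini
import Cfsg.Agent.H1.PGroup

set_option linter.style.haveILetI false

namespace Cfsg.Agent.H1.SqRoots

open Cfsg
open Cfsg.Agent.Lib.helper3.Irr Cfsg.Agent.Lib.helper3.Lin Cfsg.Agent.Lib.helper3.CharBasic
open Cfsg.Agent.Lib.Helper4.LinAct Cfsg.Agent.Lib.Helper4.FS Cfsg.Agent.Lib.helper3.Central
open scoped ComplexConjugate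

/-- orbit-wise divisibility of the sum of an invariant function -/
theorem dvd_sum_of_orbit {Λ X : Type*} [Group Λ] [MulAction Λ X] [Fintype X] (c : X → ℤ)
    (hc : ∀ (g : Λ) (x : X), c (g • x) = c x) (m : ℤ)
    (h : ∀ x, m ∣ (Nat.card (MulAction.orbit Λ x) : ℤ) * c x) : m ∣ ∑ x, c x := by
  classical
  letI : Fintype (Quotient (MulAction.orbitRel Λ X)) := Fintype.ofFinite _
  rw [← Finset.sum_fiberwise (Finset.univ) (fun x => (Quotient.mk (MulAction.orbitRel Λ X) x)) c]
  apply Finset.dvd_sum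
  intro q _
  induction q using Quotient.inductionOn with
  | _ x0 =>
  have hmem : ∀ x ∈ Finset.univ.filter
      (fun x => Quotient.mk (MulAction.orbitRel Λ X) x = Quotient.mk (MulAction.orbitRel Λ X) x0),
      c x = c x0 := by
    intro x hx
    rw [Finset.mem_filter] at hx
    have : x ∈ MulAction.orbit Λ x0 := by
      have := Quotient.exact hx.2
      exact (MulAction.orbitRel_apply).mp this
    obtain ⟨g, rfl⟩ := this
    exact hc g x0
  rw [Finset.sum_congr rfl hmem, Finset.sum_const, nsmul_eq_mul]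
  have hcard : (Finset.univ.filter
      (fun x => Quotient.mk (MulAction.orbitRel Λ X) x = Quotient.mk (MulAction.orbitRel Λ X) x0)).card
      = Nat.card (MulAction.orbit Λ x0) := by
    rw [Nat.card_eq_fintype_card, ← Fintype.card_subtype]
    apply Fintype.card_congr
    refine Equiv.subtypeEquivRight (fun x => ?_)
    constructor
    · intro hx
      exact (MulAction.orbitRel_apply).mp (Quotient.exact hx)
    · intro hx
      exact Quotient.sound ((MulAction.orbitRel_apply).mpr hx)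
  rw [hcard]
  exact h x0

variable {G : Type*} [Group G]

/-- the real linear characters -/
def lam (G : Type*) [Group G] : Subgroup (G →* ℂˣ) where
  carrier := {μ | ∀ g, μ g ^ 2 = 1}
  one_mem' := fun g => by rw [MonoidHom.one_apply, one_pow]
  mul_mem' := fun {a b} ha hb g => by rw [MonoidHom.mul_apply, mul_pow, ha g, hb g, one_mul]
  inv_mem' := fun {a} ha g => by rw [MonoidHom.inv_apply, inv_pow, ha g, inv_one]

theorem mem_lam (μ : G →* ℂˣ) : μ ∈ lam G ↔ ∀ g, μ g ^ 2 = 1 := Iff.rfl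

theorem isPGroup_lam : IsPGroup 2 (lam G) := by
  intro μ
  refine ⟨1, ?_⟩
  apply Subtype.ext
  ext g
  have := (mem_lam (μ : G →* ℂˣ)).mp μ.2 g
  simpa using congrArg Units.val this

theorem card_quot_le_card_lam [Finite G] (hG : IsPGroup 2 G) :
    Nat.card (G ⧸ frattini G) ≤ Nat.card (lam G) := by
  haveI : Fact (Nat.Prime 2) := ⟨Nat.prime_two⟩
  have hcomm : IsMulCommutative (G ⧸ frattini G) :=
    Subgroup.Normal.quotient_commutative_iff_commutator_le.mpr (Cfsg.Agent.H1.commutator_le_frattini hG)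
  have hbot : commutator (G ⧸ frattini G) = ⊥ := by
    rw [commutator_def, Subgroup.commutator_eq_bot_iff_le_centralizer]
    intro x _
    rw [Subgroup.mem_centralizer_iff]
    intro y _
    exact hcomm.is_comm.comm y x
  have h1 : Nat.card ((G ⧸ frattini G) →* ℂˣ) = Nat.card (G ⧸ frattini G) := by
    rw [card_hom_eq_index, hbot, Subgroup.index_bot]
  rw [← h1]
  let f : ((G ⧸ frattini G) →* ℂˣ) → lam G := fun ν =>
    ⟨ν.comp (QuotientGroup.mk' (frattini G)), by
      rw [mem_lam]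
      intro g
      rw [MonoidHom.comp_apply, ← map_pow, ← map_pow]
      have : g ^ 2 ∈ frattini G := Cfsg.Agent.H1.pow_p_mem_frattini hG g
      have h1 : (QuotientGroup.mk' (frattini G)) (g ^ 2) = 1 := (QuotientGroup.eq_one_iff _).mpr this
      rw [h1, map_one]⟩
  apply Nat.card_le_card_of_injective f
  intro ν ν' h
  have h' : ν.comp (QuotientGroup.mk' (frattini G)) = ν'.comp (QuotientGroup.mk' (frattini G)) :=
    congrArg Subtype.val h
  exact (MonoidHom.cancel_right (QuotientGroup.mk'_surjective _)).mp h'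

theorem fsInd_smul [Fintype G] (μ : G →* ℂˣ) (hμ : μ ∈ lam G) (χ : IrrCharacter G) :
    fsInd ((μ • χ : IrrCharacter G) : G → ℂ) = fsInd (χ : G → ℂ) := by
  unfold fsInd
  congr 1
  apply Finset.sum_congr rfl
  intro s _
  rw [Cfsg.Agent.Lib.Helper4.LinAct.smul_apply]
  have : fn μ (s * s) = 1 := by
    rw [fn_apply, map_mul, ← pow_two, (mem_lam μ).mp hμ s, Units.val_one]
  rw [this, one_mul]

theorem main {G : Type*} [Group G] [Finite G] (hG : IsPGroup 2 G) (k : ℕ)
    (hgen : 2 ^ (2 * k + 1) ≤ Nat.card (G ⧸ frattini G)) :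
    2 ^ (k + 1) ∣ Nat.card {x : G // x ^ 2 = 1} := by
  classical
  letI : Fintype G := Fintype.ofFinite G
  haveI : Fact (Nat.Prime 2) := ⟨Nat.prime_two⟩
  obtain ⟨d, hd⟩ := IsPGroup.iff_card.mp (isPGroup_lam (G := G))
  have hdk : 2 * k + 1 ≤ d := by
    have h1 := card_quot_le_card_lam hG
    have h2 : 2 ^ (2 * k + 1) ≤ 2 ^ d := hgen.trans (h1.trans_eq hd)
    exact (Nat.pow_le_pow_iff_right (by norm_num)).mp h2
  obtain ⟨m, hm⟩ := IsPGroup.iff_card.mp hG
  have hterm : ∀ χ : IrrCharacter G, ∃ c : ℤ, (c : ℂ) = fsInd (χ : G → ℂ) * (χ : G → ℂ) 1 ∧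
      (2 ^ (k + 1) : ℤ) ∣ (Nat.card (MulAction.orbit (lam G) χ) : ℤ) * c := by
    intro χ
    obtain ⟨n, hn1, hndvd, hnpos⟩ := irr_degree_dvd_card χ.2
    rw [hm] at hndvd
    obtain ⟨a, -, rfl⟩ := (Nat.dvd_prime_pow Nat.prime_two).mp hndvd
    have hos : Nat.card (MulAction.orbit (lam G) χ) * Nat.card (MulAction.stabilizer (lam G) χ)
        = Nat.card (lam G) := by
      rw [Nat.card_coe_set_eq, ← MulAction.index_stabilizer, mul_comm]
      exact Subgroup.card_mul_index _
    rw [hd] at hos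
    obtain ⟨o, -, ho⟩ := (Nat.dvd_prime_pow Nat.prime_two).mp (Dvd.intro _ hos)
    obtain ⟨s, -, hs⟩ := (Nat.dvd_prime_pow Nat.prime_two).mp (Dvd.intro_left _ hos)
    have hosd : o + s = d := by
      rw [ho, hs, ← pow_add] at hos
      exact Nat.pow_right_injective (le_refl 2) hos
    have hstab_le : (Nat.card (MulAction.stabilizer (lam G) χ) : ℝ) ≤ 2 ^ (2 * a) := by
      have h1 := card_le_sq_of_fixed ((MulAction.stabilizer (lam G) χ).map (lam G).subtype) χ (by
        rintro μ ⟨ν, hν, rfl⟩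
        exact hν)
      rw [Nat.card_congr ((MulAction.stabilizer (lam G) χ).equivMapOfInjective (lam G).subtype
        (Subgroup.subtype_injective _)).toEquiv.symm] at h1
      rw [hn1] at h1
      refine h1.trans (le_of_eq ?_)
      rw [Complex.norm_natCast]
      push_cast
      rw [← pow_mul, mul_comm]
    have hs2a : s ≤ 2 * a := by
      rw [hs] at hstab_le
      have : (2 : ℕ) ^ s ≤ 2 ^ (2 * a) := by exact_mod_cast hstab_le
      exact (Nat.pow_le_pow_iff_right (by norm_num)).mp this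
    have hexp : k + 1 ≤ o + a := by omega
    rcases fsInd_cases χ.2 with ⟨h0, -⟩ | ⟨h1 | h1, -⟩
    · exact ⟨0, by rw [h0]; simp, by simp⟩
    · refine ⟨(2 : ℤ) ^ a, by rw [h1, hn1]; push_cast; ring, ?_⟩
      rw [ho]
      push_cast
      rw [← pow_add]
      exact pow_dvd_pow 2 hexp
    · refine ⟨-(2 : ℤ) ^ a, by rw [h1, hn1]; push_cast; ring, ?_⟩
      rw [ho]
      push_cast
      rw [mul_neg, dvd_neg, ← pow_add]
      exact pow_dvd_pow 2 hexp
  choose c hc1 hc2 using hterm
  have hinv : ∀ (μ : lam G) (χ : IrrCharacter G), c (μ • χ) = c χ := by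
    intro μ χ
    have h : ((c (μ • χ) : ℤ) : ℂ) = ((c χ : ℤ) : ℂ) := by
      rw [hc1, hc1]
      have e1 : (μ • χ : IrrCharacter G) = ((μ : G →* ℂˣ) • χ : IrrCharacter G) := rfl
      rw [e1, fsInd_smul (μ : G →* ℂˣ) μ.2 χ, smul_apply_one]
    exact_mod_cast h
  have hsum : (∑ χ : IrrCharacter G, c χ : ℤ) = (Nat.card {x : G // x ^ 2 = 1} : ℤ) := by
    have h := card_sqrt_eq_sum (1 : G)
    have e : Nat.card {s : G // s * s = 1} = Nat.card {x : G // x ^ 2 = 1} := by
      apply Nat.card_congr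
      exact Equiv.subtypeEquivRight (fun x => by rw [pow_two])
    rw [e] at h
    have h2 : ((∑ χ : IrrCharacter G, c χ : ℤ) : ℂ) = ((Nat.card {x : G // x ^ 2 = 1} : ℤ) : ℂ) := by
      push_cast
      rw [Finset.sum_congr rfl (fun χ _ => hc1 χ), ← h]
    exact_mod_cast h2
  have hdvd := dvd_sum_of_orbit (Λ := lam G) c hinv (2 ^ (k + 1)) hc2
  rw [hsum] at hdvd
  exact_mod_cast hdvd

end Cfsg.Agent.H1.SqRoots
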