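import Mathlib
import Cfsg.Agent.H1.SqRoots

set_option autoImplicit false
set_option linter.style.haveILetI false

namespace Cfsg.Agent.H1.IrrTwo

open Cfsg
open Cfsg.Agent.Lib.helper3.Irr Cfsg.Agent.Lib.Helper4.LinAct
open scoped ComplexConjugate

variable {P : Type*} [Group P]

/-- under the hypothesis, a real element is an involution or trivial -/
lemma sq_eq_one_of_isConj_inv
    (hirr : ∀ y : P, Subgroup.normalizer ((Subgroup.zpowers y : Subgroup P) : Set P) ≤
      Subgroup.centralizer {y}) {y : P} (h : IsConj y y⁻¹) : y * y = 1 := by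
  obtain ⟨g, hg⟩ := isConj_iff.mp h
  have hg' : g⁻¹ * y * g = y⁻¹ := by
    have : y = g⁻¹ * y⁻¹ * g := by rw [← hg]; group
    calc g⁻¹ * y * g = (g⁻¹ * y⁻¹ * g)⁻¹ := by group
      _ = y⁻¹ := by rw [← this]
  have hn : g ∈ Subgroup.normalizer ((Subgroup.zpowers y : Subgroup P) : Set P) := by
    rw [Subgroup.mem_normalizer_iff]
    intro h
    constructor
    · rintro ⟨k, rfl⟩
      refine ⟨-k, ?_⟩
      show y ^ (-k) = g * y ^ k * g⁻¹
      have : g * y ^ k * g⁻¹ = (g * y * g⁻¹) ^ k := by
        have := map_zpow (MulAut.conj g) y k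
        simpa [MulAut.conj_apply] using this
      rw [this, hg, inv_zpow, zpow_neg]
    · rintro ⟨k, hk⟩
      refine ⟨-k, ?_⟩
      have hk' : g * h * g⁻¹ = y ^ k := hk.symm
      have h1 : h = g⁻¹ * (y ^ k) * g := by rw [← hk']; group
      have h2 : g⁻¹ * y ^ k * g = (g⁻¹ * y * g) ^ k := by
        have := map_zpow (MulAut.conj g⁻¹) y k
        simpa [MulAut.conj_apply] using this
      show y ^ (-k) = h
      rw [h1, h2, hg', inv_zpow, zpow_neg]
  have hc := hirr y hn
  rw [Subgroup.mem_centralizer_singleton_iff] at hc
  have h3 : g * y * g⁻¹ = y := by rw [hc]; group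
  rw [h3] at hg
  calc y * y = y * y⁻¹ := by rw [← hg]
    _ = 1 := mul_inv_cancel y

theorem main [Finite P] (hP : IsPGroup 2 P)
    (hirr : ∀ y : P, Subgroup.normalizer ((Subgroup.zpowers y : Subgroup P) : Set P) ≤
      Subgroup.centralizer {y}) :
    Nat.card (P ⧸ frattini P) ≤
      Nat.card {c : ConjClasses P // ∃ y : P, ConjClasses.mk y = c ∧ orderOf y = 2} + 1 ∧
    Nat.card (P ⧸ frattini P) ≤ Nat.card (Subgroup.closure {y : P | orderOf y = 2}) := by
  classical
  have h1 := SqRoots.card_quot_le_card_lam hP
  -- real linear characters are real irreducible characters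
  have h2 : Nat.card (SqRoots.lam P) ≤
      Nat.card {χ : IrrCharacter P // ∀ g : P, ((χ : P → ℂ) g).im = 0} := by
    let f : SqRoots.lam P → {χ : IrrCharacter P // ∀ g : P, ((χ : P → ℂ) g).im = 0} :=
      fun μ => ⟨lin (μ : P →* ℂˣ), by
        intro g
        show (fn (μ : P →* ℂˣ) g).im = 0
        rw [fn_apply]
        have h := (SqRoots.mem_lam (μ : P →* ℂˣ)).mp μ.2 g
        have h' : (((μ : P →* ℂˣ) g : ℂˣ) : ℂ) * (((μ : P →* ℂˣ) g : ℂˣ) : ℂ) = 1 := by
          have := congrArg Units.val h
          rw [Units.val_pow_eq_pow_val, Units.val_one, pow_two] at this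
          exact this
        rcases mul_self_eq_one_iff.mp h' with h3 | h3
        · rw [h3]; simp
        · rw [h3]; simp⟩
    apply Nat.card_le_card_of_injective f
    intro μ ν h
    have h' : lin (μ : P →* ℂˣ) = lin (ν : P →* ℂˣ) := congrArg Subtype.val h
    exact Subtype.ext (lin_injective h')
  have h3 := card_real_irr_eq_card_real_classes (G := P)
  -- real classes: the identity and the involution classes
  set S := {c : ConjClasses P // ∃ y : P, ConjClasses.mk y = c ∧ orderOf y = 2} with hS
  have h4 : Nat.card {C : ConjClasses P // IsRealClass C} ≤ Nat.card S + 1 := by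
    rw [← Finite.card_option]
    let f : {C : ConjClasses P // IsRealClass C} → Option S := fun C =>
      if h : (C : ConjClasses P) = ConjClasses.mk 1 then none else
        some ⟨C, by
          obtain ⟨y, hy⟩ := ConjClasses.exists_rep (C : ConjClasses P)
          refine ⟨y, hy, ?_⟩
          have hreal : IsConj y y⁻¹ := C.2 y hy
          have hsq := sq_eq_one_of_isConj_inv hirr hreal
          have hy1 : y ≠ 1 := by
            rintro rfl
            exact h hy.symm
          have hdvd : orderOf y ∣ 2 := orderOf_dvd_of_pow_eq_one (by rw [pow_two]; exact hsq)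
          rcases (Nat.dvd_prime Nat.prime_two).mp hdvd with h5 | h5
          · exact absurd (orderOf_eq_one_iff.mp h5) hy1
          · exact h5⟩
    apply Nat.card_le_card_of_injective f
    intro C D hCD
    by_cases hC : (C : ConjClasses P) = ConjClasses.mk 1
    · by_cases hD : (D : ConjClasses P) = ConjClasses.mk 1
      · exact Subtype.ext (hC.trans hD.symm)
      · simp only [f, dif_pos hC, dif_neg hD] at hCD
        exact absurd hCD (by simp)
    · by_cases hD : (D : ConjClasses P) = ConjClasses.mk 1
      · simp only [f, dif_neg hC, dif_pos hD] at hCD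
        exact absurd hCD (by simp)
      · simp only [f, dif_neg hC, dif_neg hD, Option.some.injEq] at hCD
        have h6 := congrArg Subtype.val hCD
        exact Subtype.ext h6
  have hfirst : Nat.card (P ⧸ frattini P) ≤ Nat.card S + 1 :=
    h1.trans (h2.trans (h3.le.trans h4))
  refine ⟨hfirst, hfirst.trans ?_⟩
  -- each involution class gives an involution
  rw [← Finite.card_option]
  have hch : ∀ c : S, ∃ y : P, ConjClasses.mk y = (c : ConjClasses P) ∧ orderOf y = 2 := fun c => c.2
  choose r hr1 hr2 using hch
  let f : Option S → Subgroup.closure {y : P | orderOf y = 2} := fun o =>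
    match o with
    | none => 1
    | some c => ⟨r c, Subgroup.subset_closure (hr2 c)⟩
  apply Nat.card_le_card_of_injective f
  intro a b hab
  have hne : ∀ c : S, r c ≠ 1 := by
    intro c h
    have := hr2 c
    rw [h, orderOf_one] at this
    exact absurd this (by norm_num)
  match a, b with
  | none, none => rfl
  | none, some c =>
    have : (1 : P) = r c := congrArg Subtype.val hab
    exact absurd this.symm (hne c)
  | some c, none =>
    have : r c = (1 : P) := congrArg Subtype.val hab
    exact absurd this (hne c)
  | some c, some d =>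
    have : r c = r d := congrArg Subtype.val hab
    have h5 : (c : ConjClasses P) = d := by rw [← hr1 c, ← hr1 d, this]
    rw [Subtype.ext h5]

end Cfsg.Agent.H1.IrrTwo
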