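import Mathlib
import Cfsg.Prelude.Def_Local
import Cfsg.Prelude.Def_IsolatedElements
import Cfsg.Agent.H2.Layer
import Cfsg.Agent.Lib.Helper7.Isolated
import Cfsg.Agent.Lib.Helper4.LBalB
import Cfsg.Agent.H1.Cores

/-!
(Q1) of S3049 (helper1): an isolated non-central element of order `p` (with `O_{p'}(G) = 1`)
fails to centralize some component.
-/

set_option autoImplicit false

namespace Cfsg.Agent.H2.Iso2

universe u
variable {G : Type u} [Group G] [Finite G] {p : ℕ} [Fact p.Prime]

/-- (Q1) some component is not centralized by `x`. -/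
theorem exists_component_not_centralized (hcore : Cfsg.pPrimeCore p G = ⊥) (x : G)
    (hx : orderOf x = p) (hiso : Cfsg.IsIsolated x) (hnc : x ∉ Subgroup.center G) :
    ∃ K : Subgroup G, Cfsg.IsComponent K ∧ ¬ ∀ k ∈ K, x * k = k * x := by
  classical
  by_contra hcon
  push_neg at hcon
  have hpp : p.Prime := Fact.out
  -- the layer centralizes x
  have h1 : Cfsg.layer G ≤ Subgroup.centralizer ({x} : Set G) := by
    apply Cfsg.Agent.H2.layer_le_centralizer_of_forall
    intro L hL k hk
    rw [Subgroup.mem_centralizer_iff]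
    intro h hh
    rw [Set.mem_singleton_iff] at hh
    subst hh
    exact hcon L hL k hk
  -- x centralizes O_p(G)
  set U := Cfsg.pCore p G with hU
  haveI hUn : U.Normal := Cfsg.Agent.H1.pCore_normal p
  have hUp : IsPGroup p ↥U := Cfsg.Agent.H1.pCore_isPGroup p
  have hzp : IsPGroup p ↥(Subgroup.zpowers x) := by
    apply IsPGroup.of_card (n := 1)
    rw [Nat.card_zpowers, hx, pow_one]
  have hRp : IsPGroup p ↥(U ⊔ Subgroup.zpowers x) := IsPGroup.to_sup_of_normal_left hUp hzp
  have hxR : x ∈ U ⊔ Subgroup.zpowers x :=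
    (le_sup_right : Subgroup.zpowers x ≤ _) (Subgroup.mem_zpowers x)
  have hxcR := Cfsg.Agent.Lib.Helper7.isIsolated_centralizes_of_mem_pGroup hiso _ hRp hxR
  have h2 : U ≤ Subgroup.centralizer ({x} : Set G) := by
    intro y hy
    rw [Subgroup.mem_centralizer_iff]
    intro h hh
    rw [Set.mem_singleton_iff] at hh
    subst hh
    have := Subgroup.mem_centralizer_iff.mp hxcR y ((le_sup_left : U ≤ _) hy)
    exact this.symm
  -- so F* centralizes x
  have hF : Cfsg.fittingSubgroup G = U := Cfsg.Agent.Lib.Helper4.LBal.fittingSubgroup_eq_pCore hcore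
  set Fs := Cfsg.generalizedFittingSubgroup G with hFs
  have h3 : Fs ≤ Subgroup.centralizer ({x} : Set G) := by
    rw [hFs]
    unfold Cfsg.generalizedFittingSubgroup
    rw [hF]
    exact sup_le h1 h2
  have hxC : x ∈ Subgroup.centralizer (Fs : Set G) := by
    rw [Subgroup.mem_centralizer_iff]
    intro y hy
    have := Subgroup.mem_centralizer_iff.mp (h3 hy) x (Set.mem_singleton x)
    exact this.symm
  have hxF : x ∈ Fs := Cfsg.Agent.H2.centralizer_generalizedFittingSubgroup_le hxC
  haveI hFn : Fs.Normal := Cfsg.Agent.H2.generalizedFittingSubgroup_normal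
  haveI hCn : (Subgroup.centralizer (Fs : Set G)).Normal := Subgroup.normal_centralizer
  apply hnc
  rw [Subgroup.mem_center_iff]
  intro g
  have hgC : g * x * g⁻¹ ∈ Subgroup.centralizer (Fs : Set G) := hCn.conj_mem x hxC g
  have hcomm : Commute x (g * x * g⁻¹) := by
    have := Subgroup.mem_centralizer_iff.mp hgC x hxF
    exact this
  have := hiso g hcomm
  calc g * x = g * x * g⁻¹ * g := by group
    _ = x * g := by rw [this]

end Cfsg.Agent.H2.Iso2
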