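import Mathlib
import Cfsg.Agent.H1.Dihedral

namespace Cfsg.Agent.H1

/-- two elements of `p`-power order can be conjugated into a common `p`-subgroup -/
lemma exists_conj_mem_pgroup {K : Type*} [Group K] [Finite K] (p : ℕ) [Fact p.Prime] (a b : K)
    (ha : IsPGroup p (Subgroup.zpowers a)) (hb : IsPGroup p (Subgroup.zpowers b)) :
    ∃ d : K, ∃ Q : Subgroup K, IsPGroup p Q ∧ a ∈ Q ∧ d * b * d⁻¹ ∈ Q := by
  obtain ⟨R, hR⟩ := ha.exists_le_sylow
  obtain ⟨R', hR'⟩ := hb.exists_le_sylow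
  obtain ⟨d, hd⟩ := MulAction.exists_smul_eq K R' R
  refine ⟨d, R, R.isPGroup', hR (Subgroup.mem_zpowers a), ?_⟩
  have h1 : b ∈ (R' : Subgroup K) := hR' (Subgroup.mem_zpowers b)
  have h2 := Subgroup.smul_mem_pointwise_smul b (MulAut.conj d) (R' : Subgroup K) h1
  have h2' : MulAut.conj d • b ∈ ((d • R' : Sylow p K) : Subgroup K) := by
    rw [Sylow.coe_subgroup_smul]; exact h2
  rw [hd] at h2'
  simpa [MulAut.smul_def] using h2'

lemma isPGroup_zpowers_of_invol {K : Type*} [Group K] {a : K} (ha : orderOf a = 2) :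
    IsPGroup 2 (Subgroup.zpowers a) := by
  apply IsPGroup.of_card (n := 1)
  rw [Nat.card_zpowers, ha, pow_one]

/-- An isolated involution `u` of a Sylow 2-subgroup `P` is the only conjugate of itself in any
2-subgroup containing it. -/
lemma isolated_unique_in_two_group {G : Type*} [Group G] [Finite G] (P : Sylow 2 G) (u : G) (_huP : u ∈ P)
    (hiso : ∀ g : G, g * u * g⁻¹ ∈ P → g * u * g⁻¹ = u) (Q : Subgroup G) (hQ : IsPGroup 2 Q)
    (huQ : u ∈ Q) (k : G) (hk : k * u * k⁻¹ ∈ Q) : k * u * k⁻¹ = u := by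
  have : Fact (Nat.Prime 2) := ⟨Nat.prime_two⟩
  obtain ⟨R, hR⟩ := hQ.exists_le_sylow
  obtain ⟨h, hh⟩ := MulAction.exists_smul_eq G R P
  have key : ∀ w ∈ (R : Subgroup G), h * w * h⁻¹ ∈ P := by
    intro w hw
    have h2 := Subgroup.smul_mem_pointwise_smul w (MulAut.conj h) (R : Subgroup G) hw
    have h2' : MulAut.conj h • w ∈ ((h • R : Sylow 2 G) : Subgroup G) := by
      rw [Sylow.coe_subgroup_smul]; exact h2
    rw [hh] at h2'
    have h2'' : h * w * h⁻¹ ∈ (P : Subgroup G) := by simpa [MulAut.smul_def] using h2'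
    exact h2''
  have h1 := hiso h (key u (hR huQ))
  have h2 := key _ (hR hk)
  have h3 : h * (k * u * k⁻¹) * h⁻¹ = (h * k) * u * (h * k)⁻¹ := by group
  rw [h3] at h2
  have h4 := hiso (h * k) h2
  have h5 : h * (k * u * k⁻¹) * h⁻¹ = h * u * h⁻¹ := by rw [h3, h4, h1]
  exact mul_left_cancel (mul_right_cancel h5)

/-- two commuting involutions generate a 2-group -/
lemma isPGroup_closure_commuting_invol {G : Type*} [Group G] {t z : G} (ht : orderOf t = 2)
    (hz : orderOf z = 2) (hc : Commute t z) : IsPGroup 2 (Subgroup.closure ({t, z} : Set G)) := by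
  rintro ⟨g, hg⟩
  refine ⟨1, ?_⟩
  rw [pow_one]
  apply Subtype.ext
  rw [Subgroup.coe_pow, Subgroup.coe_one]
  rw [mem_closure_pair_iff ht hz] at hg
  have htz : (t * z) ^ 2 = 1 := by
    rw [hc.mul_pow, (invol_iff.mp ht).1, (invol_iff.mp hz).1, one_mul]
  obtain ⟨k, rfl | rfl⟩ := hg
  · rw [← zpow_natCast, ← zpow_mul, mul_comm, zpow_mul, zpow_natCast, htz, one_zpow]
  · exact (invol_iff.mp (pair_orderOf_mul_zpow ht hz k)).1

end Cfsg.Agent.H1
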