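import Mathlib
import Cfsg.Agent.H1.Basic

/-! Ito's theorem on products of two abelian subgroups (helper1). -/

namespace Cfsg.Agent.H1
open scoped commutatorElement

lemma comm_mul_left_of_commute {G : Type*} [Group G] (a₃ b₃ b : G) (h : b₃ * b = b * b₃) :
    ⁅a₃ * b₃, b⁆ = ⁅a₃, b⁆ := by
  rw [commutatorElement_def, commutatorElement_def]
  have h1 : a₃ * b₃ * b * (a₃ * b₃)⁻¹ * b⁻¹ = a₃ * (b₃ * b * b₃⁻¹) * a₃⁻¹ * b⁻¹ := by group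
  rw [h1, h, mul_inv_cancel_right]

lemma comm_mul_right_of_commute {G : Type*} [Group G] (a₃ b₂ a₂ : G) (h : a₂ * a₃ = a₃ * a₂) :
    ⁅a₃, b₂ * a₂⁆ = ⁅a₃, b₂⁆ := by
  rw [commutatorElement_def, commutatorElement_def]
  have h1 : a₃ * (b₂ * a₂) * a₃⁻¹ * (b₂ * a₂)⁻¹ = a₃ * b₂ * (a₂ * a₃⁻¹ * a₂⁻¹) * b₂⁻¹ := by group
  have h2 : a₂ * a₃⁻¹ * a₂⁻¹ = a₃⁻¹ := by
    have : a₂ * a₃⁻¹ = a₃⁻¹ * a₂ := (show Commute a₂ a₃ from h).inv_right.eq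
    rw [this, mul_inv_cancel_right]
  rw [h1, h2]

lemma conj_comm {G : Type*} [Group G] (g x y : G) : g * ⁅x, y⁆ * g⁻¹ = ⁅g * x * g⁻¹, g * y * g⁻¹⁆ := by
  simp only [commutatorElement_def]; group

/-- Itô: if `G = AB` with `A`, `B` abelian then `⁅A,B⁆` is abelian and contains `G'` -/
theorem ito_aux {G : Type*} [Group G] (A B : Subgroup G) [hA : IsMulCommutative A] [hB : IsMulCommutative B] (hAB : ∀ g : G, ∃ a ∈ A, ∃ b ∈ B, g = a * b) :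
    IsMulCommutative (⁅A, B⁆ : Subgroup G) ∧ commutator G ≤ ⁅A, B⁆ := by
  have hBA : ∀ g : G, ∃ b ∈ B, ∃ a ∈ A, g = b * a := by
    intro g
    obtain ⟨a, ha, b, hb, h⟩ := hAB g⁻¹
    refine ⟨b⁻¹, inv_mem hb, a⁻¹, inv_mem ha, ?_⟩
    rw [← mul_inv_rev, ← h, inv_inv]
  -- key identity
  have key : ∀ a ∈ A, ∀ b ∈ B, ∀ a₁ ∈ A, ∀ b₁ ∈ B,
      (a₁ * b₁) * ⁅a, b⁆ * (a₁ * b₁)⁻¹ = (b₁ * a₁) * ⁅a, b⁆ * (b₁ * a₁)⁻¹ := by
    intro a ha b hb a₁ ha₁ b₁ hb₁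
    obtain ⟨a₃, ha₃, b₃, hb₃, h3⟩ := hAB (b₁ * a * b₁⁻¹)
    obtain ⟨b₂, hb₂, a₂, ha₂, h2⟩ := hBA (a₁ * b * a₁⁻¹)
    have e1 : b₁ * b * b₁⁻¹ = b := by rw [setLike_mul_comm hb₁ hb, mul_inv_cancel_right]
    have e2 : a₁ * a₃ * a₁⁻¹ = a₃ := by rw [setLike_mul_comm ha₁ ha₃, mul_inv_cancel_right]
    have e3 : a₁ * a * a₁⁻¹ = a := by rw [setLike_mul_comm ha₁ ha, mul_inv_cancel_right]
    have e4 : b₁ * b₂ * b₁⁻¹ = b₂ := by rw [setLike_mul_comm hb₁ hb₂, mul_inv_cancel_right]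
    have L : (a₁ * b₁) * ⁅a, b⁆ * (a₁ * b₁)⁻¹ = ⁅a₃, b₂⁆ := by
      have : (a₁ * b₁) * ⁅a, b⁆ * (a₁ * b₁)⁻¹ = a₁ * (b₁ * ⁅a, b⁆ * b₁⁻¹) * a₁⁻¹ := by group
      rw [this, conj_comm b₁, e1, h3, comm_mul_left_of_commute a₃ b₃ b (setLike_mul_comm hb₃ hb),
        conj_comm a₁, e2, h2, comm_mul_right_of_commute a₃ b₂ a₂ (setLike_mul_comm ha₂ ha₃)]
    have R : (b₁ * a₁) * ⁅a, b⁆ * (b₁ * a₁)⁻¹ = ⁅a₃, b₂⁆ := by
      have : (b₁ * a₁) * ⁅a, b⁆ * (b₁ * a₁)⁻¹ = b₁ * (a₁ * ⁅a, b⁆ * a₁⁻¹) * b₁⁻¹ := by group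
      rw [this, conj_comm a₁, e3, h2, comm_mul_right_of_commute a b₂ a₂ (setLike_mul_comm ha₂ ha),
        conj_comm b₁, e4, h3, comm_mul_left_of_commute a₃ b₃ b₂ (setLike_mul_comm hb₃ hb₂)]
    rw [L, R]
  -- commutators commute
  have hcc : ∀ a ∈ A, ∀ b ∈ B, ∀ a₁ ∈ A, ∀ b₁ ∈ B, ⁅a₁, b₁⁆ * ⁅a, b⁆ = ⁅a, b⁆ * ⁅a₁, b₁⁆ := by
    intro a ha b hb a₁ ha₁ b₁ hb₁
    have h := key a ha b hb a₁⁻¹ (inv_mem ha₁) b₁⁻¹ (inv_mem hb₁)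
    -- (b₁⁻¹a₁⁻¹)⁻¹ (a₁⁻¹ b₁⁻¹) = a₁ b₁ a₁⁻¹ b₁⁻¹
    have h1 : ⁅a₁, b₁⁆ * ⁅a, b⁆ * (⁅a₁, b₁⁆)⁻¹ = ⁅a, b⁆ := by
      have e : ⁅a₁, b₁⁆ * ⁅a, b⁆ * (⁅a₁, b₁⁆)⁻¹ =
          (b₁⁻¹ * a₁⁻¹)⁻¹ * ((a₁⁻¹ * b₁⁻¹) * ⁅a, b⁆ * (a₁⁻¹ * b₁⁻¹)⁻¹) * (b₁⁻¹ * a₁⁻¹) := by
        rw [commutatorElement_def a₁ b₁]; group
      rw [e, h]; group
    calc ⁅a₁, b₁⁆ * ⁅a, b⁆ = (⁅a₁, b₁⁆ * ⁅a, b⁆ * (⁅a₁, b₁⁆)⁻¹) * ⁅a₁, b₁⁆ := by group
      _ = ⁅a, b⁆ * ⁅a₁, b₁⁆ := by rw [h1]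
  have hcomm : IsMulCommutative (⁅A, B⁆ : Subgroup G) := by
    rw [Subgroup.commutator_def]
    apply Subgroup.isMulCommutative_closure
    rintro _ ⟨a₁, ha₁, b₁, hb₁, rfl⟩ _ ⟨a, ha, b, hb, rfl⟩
    exact hcc a ha b hb a₁ ha₁ b₁ hb₁
  refine ⟨hcomm, ?_⟩
  -- ⁅A,B⁆ is normal
  have hmemAB : ∀ a ∈ A, ∀ b ∈ B, ⁅a, b⁆ ∈ ⁅A, B⁆ := fun a ha b hb => Subgroup.commutator_mem_commutator ha hb
  have hnA : A ≤ Subgroup.normalizer ((⁅A, B⁆ : Subgroup G) : Set G) := by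
    rw [Subgroup.le_normalizer_iff]
    intro x hx k hk
    rw [Subgroup.commutator_def] at hk
    induction hk using Subgroup.closure_induction with
    | mem c hc =>
      obtain ⟨y, hy, z, hz, rfl⟩ := hc
      have e : x * ⁅y, z⁆ * x⁻¹ = ⁅x * y, z⁆ * (⁅x, z⁆)⁻¹ := by
        simp only [commutatorElement_def]; group
      rw [e]
      exact mul_mem (hmemAB _ (mul_mem hx hy) z hz) (inv_mem (hmemAB x hx z hz))
    | one => simp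
    | mul c d _ _ hc hd =>
      have : x * (c * d) * x⁻¹ = (x * c * x⁻¹) * (x * d * x⁻¹) := by group
      rw [this]; exact mul_mem hc hd
    | inv c _ hc =>
      have : x * c⁻¹ * x⁻¹ = (x * c * x⁻¹)⁻¹ := by group
      rw [this]; exact inv_mem hc
  have hnB : B ≤ Subgroup.normalizer ((⁅A, B⁆ : Subgroup G) : Set G) := by
    rw [Subgroup.le_normalizer_iff]
    intro x hx k hk
    rw [Subgroup.commutator_def] at hk
    induction hk using Subgroup.closure_induction with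
    | mem c hc =>
      obtain ⟨y, hy, z, hz, rfl⟩ := hc
      have e : x * ⁅y, z⁆ * x⁻¹ = (⁅y, x⁆)⁻¹ * ⁅y, x * z⁆ := by
        simp only [commutatorElement_def]; group
      rw [e]
      exact mul_mem (inv_mem (hmemAB y hy x hx)) (hmemAB y hy _ (mul_mem hx hz))
    | one => simp
    | mul c d _ _ hc hd =>
      have : x * (c * d) * x⁻¹ = (x * c * x⁻¹) * (x * d * x⁻¹) := by group
      rw [this]; exact mul_mem hc hd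
    | inv c _ hc =>
      have : x * c⁻¹ * x⁻¹ = (x * c * x⁻¹)⁻¹ := by group
      rw [this]; exact inv_mem hc
  have hsup : A ⊔ B = ⊤ := by
    rw [eq_top_iff]
    intro g _
    obtain ⟨a, ha, b, hb, rfl⟩ := hAB g
    exact mul_mem (Subgroup.mem_sup_left ha) (Subgroup.mem_sup_right hb)
  have hn : (⁅A, B⁆ : Subgroup G).Normal := by
    rw [← Subgroup.normalizer_eq_top_iff, eq_top_iff, ← hsup]
    exact sup_le hnA hnB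
  rw [← Subgroup.Normal.quotient_commutative_iff_commutator_le]
  have hclosure : Subgroup.closure ((QuotientGroup.mk' ⁅A, B⁆) '' ((A : Set G) ∪ (B : Set G))) = ⊤ := by
    rw [← MonoidHom.map_closure, Subgroup.closure_union, Subgroup.closure_eq, Subgroup.closure_eq, hsup,
      ← MonoidHom.range_eq_map, MonoidHom.range_eq_top]
    exact QuotientGroup.mk'_surjective _
  have hc : IsMulCommutative (Subgroup.closure ((QuotientGroup.mk' ⁅A, B⁆) '' ((A : Set G) ∪ (B : Set G)))) := by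
    apply Subgroup.isMulCommutative_closure
    have hab : ∀ a ∈ A, ∀ b ∈ B, QuotientGroup.mk' ⁅A, B⁆ a * QuotientGroup.mk' ⁅A, B⁆ b =
        QuotientGroup.mk' ⁅A, B⁆ b * QuotientGroup.mk' ⁅A, B⁆ a := by
      intro a ha b hb
      rw [← commutatorElement_eq_one_iff_mul_comm, ← map_commutatorElement]
      exact (QuotientGroup.eq_one_iff _).mpr (hmemAB a ha b hb)
    rintro _ ⟨a, (ha | ha), rfl⟩ _ ⟨b, (hb | hb), rfl⟩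
    · rw [← map_mul, ← map_mul, setLike_mul_comm ha hb]
    · exact hab a ha b hb
    · exact (hab b hb a ha).symm
    · rw [← map_mul, ← map_mul, setLike_mul_comm ha hb]
  rw [hclosure] at hc
  constructor; constructor
  intro a b
  have := hc
  exact setLike_mul_comm (Subgroup.mem_top a) (Subgroup.mem_top b)

end Cfsg.Agent.H1
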