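import Mathlib
import Cfsg.Agent.Lib.helper3.SP36
import Cfsg.Agent.S4437

set_option autoImplicit false
set_option linter.style.haveILetI false
open Cfsg

/-!
# Piece E of S4637: the inertial quotient of a block with Klein four defect group

Pure group theory: `kleinFour_inertial`; block wrapper: `pieceE`.
-/

namespace Cfsg.Agent.H1.KE

open Cfsg Cfsg.Agent.Lib.helper3.Block Cfsg.Agent.Lib.helper3.LocalM

section grp

variable {G : Type*} [Group G] [Fintype G]

theorem conj_mem_of_mem_normalizer (P : Subgroup G) {t : G}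
    (ht : t ∈ Subgroup.normalizer (P : Set G)) {y : G} (hy : y ∈ P) : t * y * t⁻¹ ∈ P :=
  (Subgroup.mem_normalizer_iff.mp ht y).mp hy

/-- In a Klein four group, the three involutions. -/
theorem kf_cases (P : Subgroup G) (hV : IsKleinFour P) {x y z : G} (hx : x ∈ P) (hy : y ∈ P)
    (hz : z ∈ P) (hx1 : x ≠ 1) (hy1 : y ≠ 1) (hxy : x ≠ y) (hz1 : z ≠ 1) (hzx : z ≠ x)
    (hzy : z ≠ y) : z = x * y := by
  have h := @IsKleinFour.eq_mul_of_ne_all ↥P _ hV ⟨x, hx⟩ ⟨y, hy⟩ ⟨z, hz⟩
    (by intro h; exact hx1 (congrArg Subtype.val h))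
    (by intro h; exact hy1 (congrArg Subtype.val h))
    (by intro h; exact hxy (congrArg Subtype.val h))
    (by intro h; exact hz1 (congrArg Subtype.val h))
    (by intro h; exact hzx (congrArg Subtype.val h))
    (by intro h; exact hzy (congrArg Subtype.val h))
  exact congrArg Subtype.val h

theorem kf_mul_self (P : Subgroup G) (hV : IsKleinFour P) {x : G} (hx : x ∈ P) : x * x = 1 := by
  have h := @IsKleinFour.mul_self ↥P _ hV ⟨x, hx⟩
  exact congrArg Subtype.val h

theorem kf_comm (P : Subgroup G) (hV : IsKleinFour P) {x y : G} (hx : x ∈ P) (hy : y ∈ P) :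
    x * y = y * x := by
  have h := mul_comm_of_exponent_two (@IsKleinFour.exponent_two ↥P _ hV) (⟨x, hx⟩ : ↥P) ⟨y, hy⟩
  exact congrArg Subtype.val h

/-- If `t` normalizes the four-group `P` and fixes a non-identity element, then `t * t`
centralizes `P`. -/
theorem sq_mem_centralizer (P : Subgroup G) (hV : IsKleinFour P) {t : G}
    (ht : t ∈ Subgroup.normalizer (P : Set G)) {x : G} (hx : x ∈ P) (hx1 : x ≠ 1)
    (htx : t * x * t⁻¹ = x) : t * t ∈ Subgroup.centralizer (P : Set G) := by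
  rw [Subgroup.mem_centralizer_iff]
  intro y hy
  have hy : y ∈ P := hy
  -- enough: (t*t) * y * (t*t)⁻¹ = y
  suffices h : t * (t * y * t⁻¹) * t⁻¹ = y by
    have h2 : t * t * y = y * (t * t) := by
      calc t * t * y = t * (t * y * t⁻¹) * t⁻¹ * (t * t) := by group
        _ = y * (t * t) := by rw [h]
    exact h2.symm
  by_cases hy1 : y = 1
  · subst hy1; group
  by_cases hyx : y = x
  · subst hyx; rw [htx, htx]
  set y' := t * y * t⁻¹ with hy'
  have hy'P : y' ∈ P := conj_mem_of_mem_normalizer P ht hy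
  have hy'1 : y' ≠ 1 := by
    intro h
    apply hy1
    have : y = t⁻¹ * y' * t := by rw [hy']; group
    rw [this, h]; group
  have hy'x : y' ≠ x := by
    intro h
    apply hyx
    have h1 : y = t⁻¹ * y' * t := by rw [hy']; group
    have h2 : x = t⁻¹ * x * t := by
      calc x = t⁻¹ * (t * x * t⁻¹) * t := by group
        _ = t⁻¹ * x * t := by rw [htx]
    rw [h1, h, ← h2]
  by_cases hy'y : y' = y
  · rw [hy'y]; exact hy'y
  · have hxy : x ≠ y := fun h => hyx h.symm
    have h3 : y' = x * y := kf_cases P hV hx hy hy'P hx1 hy1 hxy hy'1 hy'x hy'y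
    rw [h3]
    have h4 : t * (x * y) * t⁻¹ = (t * x * t⁻¹) * (t * y * t⁻¹) := by group
    rw [h4, htx, ← hy', h3, ← mul_assoc, kf_mul_self P hV hx, one_mul]

theorem centralizer_subgroupOf_normal (P T : Subgroup G)
    (hTN : T ≤ Subgroup.normalizer (P : Set G)) :
    ((Subgroup.centralizer (P : Set G)).subgroupOf T).Normal := by
  rw [← conjAut_ker P T hTN]
  infer_instance

/-- Freeness. -/
theorem free_of_odd (P : Subgroup G) (hV : IsKleinFour P) (T : Subgroup G)
    (hTN : T ≤ Subgroup.normalizer (P : Set G))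
    (hodd : ¬ 2 ∣ (Subgroup.centralizer (P : Set G)).relIndex T) {t : G} (ht : t ∈ T) {x : G}
    (hx : x ∈ P) (hx1 : x ≠ 1) (htx : t * x * t⁻¹ = x) :
    t ∈ Subgroup.centralizer (P : Set G) := by
  haveI := centralizer_subgroupOf_normal P T hTN
  have hsq := sq_mem_centralizer P hV (hTN ht) hx hx1 htx
  have hpow : t ^ ((Subgroup.centralizer (P : Set G)).relIndex T)
      ∈ Subgroup.centralizer (P : Set G) := by
    have := Subgroup.pow_index_mem ((Subgroup.centralizer (P : Set G)).subgroupOf T) (⟨t, ht⟩ : ↥T)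
    rw [Subgroup.mem_subgroupOf] at this
    show t ^ ((Subgroup.centralizer (P : Set G)).subgroupOf T).index ∈ _
    simpa using this
  set e := (Subgroup.centralizer (P : Set G)).relIndex T with he
  obtain ⟨k, hk⟩ : ∃ k, e = 2 * k + 1 := by
    have : e % 2 = 1 := by omega
    exact ⟨e / 2, by omega⟩
  have h1 : (t * t) ^ k ∈ Subgroup.centralizer (P : Set G) := Subgroup.pow_mem _ hsq k
  have h2 : t = t ^ e * ((t * t) ^ k)⁻¹ := by
    rw [hk, pow_succ, ← pow_two, ← pow_mul]
    group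
  rw [h2]
  exact Subgroup.mul_mem _ hpow (Subgroup.inv_mem _ h1)

/-- The set of non-identity elements of a four-group has three elements. -/
theorem ncard_ne_one (P : Subgroup G) (hV : IsKleinFour P) :
    ({y : ↥P | y ≠ 1} : Set ↥P).ncard = 3 := by
  classical
  haveI : Finite ↥P := inferInstance
  have h4 : Nat.card ↥P = 4 := @IsKleinFour.card_four ↥P _ hV
  have h1 : ({y : ↥P | y ≠ 1} : Set ↥P) = ({1} : Set ↥P)ᶜ := by
    ext y; simp
  rw [h1, Set.ncard_compl, Set.ncard_singleton, h4]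

/-- Pure group theory behind piece E. -/
theorem kleinFour_inertial (P : Subgroup G) (hV : IsKleinFour P) (T : Subgroup G)
    (hTN : T ≤ Subgroup.normalizer (P : Set G)) (e : ℕ)
    (he : (Subgroup.centralizer (P : Set G)).relIndex T = e) (hodd : ¬ 2 ∣ e) :
    (e = 1 ∨ e = 3) ∧
      (∀ t ∈ T, ∀ x ∈ P, x ≠ 1 → t * x * t⁻¹ = x → t ∈ Subgroup.centralizer (P : Set G)) ∧
      (e = 1 → T ≤ Subgroup.centralizer (P : Set G)) ∧
      (e = 3 → ∀ x ∈ P, x ≠ 1 → ∀ y ∈ P, y ≠ 1 → ∃ t ∈ T, t * x * t⁻¹ = y) := by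
  classical
  have hfree : ∀ t ∈ T, ∀ x ∈ P, x ≠ 1 → t * x * t⁻¹ = x →
      t ∈ Subgroup.centralizer (P : Set G) := by
    intro t ht x hx hx1 htx
    exact free_of_odd P hV T hTN (by rw [he]; exact hodd) ht hx hx1 htx
  letI act : MulAction ↥T ↥P := MulAction.compHom ↥P (conjAut P T hTN)
  have hsmul : ∀ (t : ↥T) (y : ↥P), ((t • y : ↥P) : G) = (t : G) * (y : G) * (t : G)⁻¹ :=
    fun t y => rfl
  have hstab : ∀ x : ↥P, x ≠ 1 →
      MulAction.stabilizer ↥T x = (Subgroup.centralizer (P : Set G)).subgroupOf T := by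
    intro x hx1
    have hx1' : (x : G) ≠ 1 := fun h => hx1 (Subtype.ext h)
    ext t
    rw [MulAction.mem_stabilizer_iff, Subgroup.mem_subgroupOf]
    constructor
    · intro h
      have h2 : (t : G) * (x : G) * (t : G)⁻¹ = (x : G) := by
        have := congrArg Subtype.val h
        rwa [hsmul] at this
      exact hfree t t.2 x x.2 hx1' h2
    · intro h
      apply Subtype.ext
      rw [hsmul]
      rw [Subgroup.mem_centralizer_iff] at h
      have h3 := h (x : G) x.2
      rw [← h3]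
      group
  have horb : ∀ x : ↥P, x ≠ 1 → (MulAction.orbit ↥T x).ncard = e := by
    intro x hx1
    rw [← MulAction.index_stabilizer, hstab x hx1]
    exact he
  have hsub : ∀ x : ↥P, x ≠ 1 → MulAction.orbit ↥T x ⊆ ({y : ↥P | y ≠ 1} : Set ↥P) := by
    intro x hx1 y hy
    obtain ⟨t, rfl⟩ := hy
    show t • x ≠ 1
    intro h
    apply hx1
    have h2 : (t : G) * (x : G) * (t : G)⁻¹ = 1 := by
      have := congrArg Subtype.val h
      rwa [hsmul] at this
    apply Subtype.ext
    have : (x : G) = (t : G)⁻¹ * ((t : G) * (x : G) * (t : G)⁻¹) * (t : G) := by group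
    rw [this, h2]
    simp
  have h3 := ncard_ne_one P hV
  have hfin : ({y : ↥P | y ≠ 1} : Set ↥P).Finite := Set.toFinite _
  -- a non-identity element exists
  have hex : ∃ x : ↥P, x ≠ 1 := by
    by_contra hne
    push Not at hne
    have : ({y : ↥P | y ≠ 1} : Set ↥P) = ∅ := by
      ext y; simp [hne y]
    rw [this, Set.ncard_empty] at h3
    omega
  obtain ⟨x0, hx0⟩ := hex
  have hle : e ≤ 3 := by
    rw [← horb x0 hx0, ← h3]
    exact Set.ncard_le_ncard (hsub x0 hx0) hfin
  have he13 : e = 1 ∨ e = 3 := by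
    have h0 : e ≠ 0 := by
      rintro rfl
      exact hodd (dvd_zero 2)
    have h2 : e ≠ 2 := by
      rintro rfl
      exact hodd (dvd_refl 2)
    omega
  refine ⟨he13, hfree, ?_, ?_⟩
  · intro h1
    rw [← he] at h1
    exact Subgroup.relIndex_eq_one.mp h1
  · intro h3e x hx hx1 y hy hy1
    have hx1' : (⟨x, hx⟩ : ↥P) ≠ 1 := fun h => hx1 (congrArg Subtype.val h)
    have hy1' : (⟨y, hy⟩ : ↥P) ≠ 1 := fun h => hy1 (congrArg Subtype.val h)
    have heq : MulAction.orbit ↥T (⟨x, hx⟩ : ↥P) = ({y : ↥P | y ≠ 1} : Set ↥P) := by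
      apply Set.eq_of_subset_of_ncard_le (hsub _ hx1') _ hfin
      rw [horb _ hx1', h3, h3e]
    have hmem : (⟨y, hy⟩ : ↥P) ∈ MulAction.orbit ↥T (⟨x, hx⟩ : ↥P) := by
      rw [heq]; exact hy1'
    obtain ⟨t, ht⟩ := hmem
    refine ⟨(t : G), t.2, ?_⟩
    have := congrArg Subtype.val ht
    simp only [] at this
    rw [hsmul] at this
    exact this

end grp

section blk

variable {G : Type*} [Group G] [Fintype G] {M : Ideal AlgInt}

/-- Piece E of S4637. -/
theorem pieceE (hM : IsPModular 2 M) (B : Set (IrrCharacter G)) (hB : IsPBlock M B)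
    (P : Subgroup G) (hPD : IsDefectGroup 2 M B P) (hV : IsKleinFour P)
    (c : Set (IrrCharacter (Subgroup.centralizer (P : Set G))))
    (hc : IsInducedBlock M (Subgroup.centralizer (P : Set G)) c B) (T : Subgroup G)
    (hT : ∀ g : G, g ∈ T ↔ (g ∈ Subgroup.normalizer (P : Set G) ∧
      StabilizesBlock (Subgroup.centralizer (P : Set G)) c g)) (e : ℕ)
    (he : (Subgroup.centralizer (P : Set G)).relIndex T = e) :
    (e = 1 ∨ e = 3) ∧
      (∀ t ∈ T, ∀ x ∈ P, x ≠ 1 → t * x * t⁻¹ = x → t ∈ Subgroup.centralizer (P : Set G)) ∧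
      (e = 1 → T ≤ Subgroup.centralizer (P : Set G)) ∧
      (e = 3 → ∀ x ∈ P, x ≠ 1 → ∀ y ∈ P, y ≠ 1 → ∃ t ∈ T, t * x * t⁻¹ = y) := by
  classical
  haveI : Fintype ↥(Subgroup.centralizer (P : Set G)) := Fintype.ofFinite _
  haveI hMp := isPrime_of_isPModular hM
  haveI hp : Fact (2 : ℕ).Prime := ⟨Nat.prime_two⟩
  have hP : IsPGroup 2 P := isPGroup_of_isDefectGroup hPD
  have hPC : P ≤ Subgroup.centralizer (P : Set G) := by
    intro x hx
    rw [Subgroup.mem_centralizer_iff]
    intro y hy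
    exact kf_comm P hV hy hx
  have hCN : Subgroup.centralizer (P : Set G) ≤ Subgroup.normalizer (P : Set G) :=
    Subgroup.centralizer_le_normalizer _
  have hcP := isDefectGroup_of_induced_le_normalizer hM P (Subgroup.centralizer (P : Set G)) hP hPC
    hCN B hB hPD c hc
  have hH : Subgroup.centralizer (P : Set G) = P ⊔ Subgroup.centralizer (P : Set G) :=
    (sup_eq_right.mpr hPC).symm
  have hT' : ∀ g : G, g ∈ T ↔ (g ∈ Subgroup.normalizer (P : Set G) ∧ ∀ θ ∈ c,
      ∀ θ' : Cfsg.IrrCharacter (Subgroup.centralizer (P : Set G)),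
      (∀ h h' : (Subgroup.centralizer (P : Set G)), (h' : G) = g * h * g⁻¹ →
        (θ' : (Subgroup.centralizer (P : Set G)) → ℂ) h'
          = (θ : (Subgroup.centralizer (P : Set G)) → ℂ) h) → θ' ∈ c) := by
    intro g
    rw [hT g]
    constructor
    · rintro ⟨h1, h2⟩
      exact ⟨h1, (stabilizesBlock_iff_forall _ c g h2.1).mp h2⟩
    · rintro ⟨h1, h2⟩
      exact ⟨h1, (stabilizesBlock_iff_forall _ c g
        (normalizer_le_normalizer_centralizer P h1)).mpr h2⟩
  have hndvd := (Cfsg.Agent.S4437.result 2 M hM P hP (Subgroup.centralizer (P : Set G)) hH c hc.1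
    hcP B hc T hT').mp hPD
  have hTN : T ≤ Subgroup.normalizer (P : Set G) := fun g hg => ((hT g).mp hg).1
  exact kleinFour_inertial P hV T hTN e he (by rw [← he]; exact hndvd)

end blk

end Cfsg.Agent.H1.KE
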