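import Mathlib

/-! S3299 piece C (helper1): the centralizer of `C_E(u)` in the normalizer-part. -/

set_option autoImplicit false

namespace Cfsg.Agent.LES99C

theorem cent_cent {G : Type*} [Group G] (E : Subgroup G) (z u y : G)
    (hzE : z ∈ E) (hz1 : z ≠ 1) (hz2 : z * z = 1) (hzc : ∀ a ∈ E, a * z = z * a)
    (hcomm : ∀ a ∈ E, ∀ b ∈ E, a * b = b * a ∨ a * b = z * (b * a))
    (hsq : ∀ a ∈ E, a * a = 1 ∨ a * a = z)
    (hcen : ∀ w ∈ E, (∀ a ∈ E, a * w = w * a) → w = 1 ∨ w = z)
    (hcent : Subgroup.centralizer (E : Set G) ≤ E)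
    (huE : u ∈ E) (hu2 : u * u = 1) (hu1 : u ≠ 1) (huz : u ≠ z)
    (hyE : ∀ a ∈ E, y * a * y⁻¹ ∈ E) (hyz : y * z = z * y)
    (hyP : ∀ c ∈ E, c * u = u * c → y * c = c * y) :
    y = 1 ∨ y = z ∨ y = u ∨ y = u * z := by
  have hzinv : z⁻¹ = z := inv_eq_of_mul_eq_one_right hz2
  have huinv : u⁻¹ = u := inv_eq_of_mul_eq_one_right hu2
  -- x0 not commuting with u
  obtain ⟨x0, hx0E, hx0u⟩ : ∃ x0 ∈ E, x0 * u ≠ u * x0 := by
    by_contra hcon
    push Not at hcon
    rcases hcen u huE hcon with h | h
    · exact hu1 h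
    · exact huz h
  have hx0u' : x0 * u = z * (u * x0) := by
    rcases hcomm x0 hx0E u huE with h | h
    · exact absurd h hx0u
    · exact h
  have hzu : u * z = z * u := hzc u huE
  have hzx0 : x0 * z = z * x0 := hzc x0 hx0E
  have hux0 : u * x0 = z * (x0 * u) := by
    rw [hx0u', ← mul_assoc, hz2, one_mul]
  -- a central element criterion: commuting with x0 and with C_E(u) gives commuting with E
  have key : ∀ w : G, w * x0 = x0 * w → (∀ p ∈ E, p * u = u * p → w * p = p * w) →
      ∀ a ∈ E, w * a = a * w := by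
    intro w hwx hwp a ha
    rcases hcomm a ha u huE with h | h
    · exact hwp a ha h
    · -- x0⁻¹ * a commutes with u
      have h1 : (x0⁻¹ * a) * u = u * (x0⁻¹ * a) := by
        have e1 : x0⁻¹ * u = z * (u * x0⁻¹) := by
          have : u = x0⁻¹ * (z * (u * x0)) := by rw [← hx0u']; group
          calc x0⁻¹ * u = x0⁻¹ * u * x0 * x0⁻¹ := by group
            _ = z * (u * x0⁻¹) := by
              have h3 : x0⁻¹ * u * x0 = z * u := by
                have : x0⁻¹ * (x0 * u) = x0⁻¹ * (z * (u * x0)) := by rw [hx0u']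
                have hz' : x0⁻¹ * z = z * x0⁻¹ := by
                  have := hzc x0⁻¹ (E.inv_mem hx0E)
                  exact this
                calc x0⁻¹ * u * x0 = x0⁻¹ * (u * x0) := by group
                  _ = x0⁻¹ * (z * (x0 * u)) := by rw [hux0]
                  _ = (x0⁻¹ * z) * (x0 * u) := by group
                  _ = (z * x0⁻¹) * (x0 * u) := by rw [hz']
                  _ = z * u := by group
              rw [h3]; group
        calc (x0⁻¹ * a) * u = x0⁻¹ * (a * u) := by group
          _ = x0⁻¹ * (z * (u * a)) := by rw [h]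
          _ = (x0⁻¹ * z) * (u * a) := by group
          _ = (z * x0⁻¹) * (u * a) := by rw [hzc x0⁻¹ (E.inv_mem hx0E)]
          _ = z * ((x0⁻¹ * u) * a) := by group
          _ = z * ((z * (u * x0⁻¹)) * a) := by rw [e1]
          _ = (z * z) * (u * (x0⁻¹ * a)) := by group
          _ = u * (x0⁻¹ * a) := by rw [hz2, one_mul]
      have h2 := hwp (x0⁻¹ * a) (E.mul_mem (E.inv_mem hx0E) ha) h1
      have hwx' : w * x0⁻¹ = x0⁻¹ * w := by
        calc w * x0⁻¹ = x0⁻¹ * (x0 * w) * x0⁻¹ := by group
          _ = x0⁻¹ * (w * x0) * x0⁻¹ := by rw [hwx]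
          _ = x0⁻¹ * w := by group
      calc w * a = x0 * (x0⁻¹ * w) * a := by group
        _ = x0 * (w * x0⁻¹) * a := by rw [hwx']
        _ = x0 * (w * (x0⁻¹ * a)) := by group
        _ = x0 * ((x0⁻¹ * a) * w) := by rw [h2]
        _ = a * w := by group
  -- elements commuting with all of E and lying in E are 1 or z
  have central : ∀ w : G, (∀ a ∈ E, w * a = a * w) → w = 1 ∨ w = z := by
    intro w hw
    have hwE : w ∈ E := hcent (by
      rw [Subgroup.mem_centralizer_iff]
      intro a ha
      exact (hw a ha).symm)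
    exact hcen w hwE (fun a ha => (hw a ha).symm)
  -- the element c
  set x1 := y * x0 * y⁻¹ with hx1
  have hx1E : x1 ∈ E := hyE x0 hx0E
  set c := x0⁻¹ * x1 with hc
  have hcE : c ∈ E := E.mul_mem (E.inv_mem hx0E) hx1E
  have hyzinv : y * z * y⁻¹ = z := by rw [hyz]; group
  -- c commutes with C_E(u)
  have hcP : ∀ p ∈ E, p * u = u * p → c * p = p * c := by
    intro p hp hpu
    have hyp := hyP p hp hpu
    have hyp' : y * p * y⁻¹ = p := by rw [hyp]; group
    rcases hcomm x0 hx0E p hp with h | h
    · have h1 : x1 * p = p * x1 := by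
        calc x1 * p = y * x0 * y⁻¹ * (y * p * y⁻¹) := by rw [hyp']
          _ = y * (x0 * p) * y⁻¹ := by group
          _ = y * (p * x0) * y⁻¹ := by rw [h]
          _ = (y * p * y⁻¹) * (y * x0 * y⁻¹) := by group
          _ = p * x1 := by rw [hyp']
      have h0 : x0⁻¹ * p = p * x0⁻¹ := by
        calc x0⁻¹ * p = x0⁻¹ * (p * x0) * x0⁻¹ := by group
          _ = x0⁻¹ * (x0 * p) * x0⁻¹ := by rw [h]
          _ = p * x0⁻¹ := by group
      calc c * p = x0⁻¹ * (x1 * p) := by rw [hc]; group
        _ = x0⁻¹ * (p * x1) := by rw [h1]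
        _ = (x0⁻¹ * p) * x1 := by group
        _ = (p * x0⁻¹) * x1 := by rw [h0]
        _ = p * c := by rw [hc]; group
    · have h1 : x1 * p = z * (p * x1) := by
        calc x1 * p = y * x0 * y⁻¹ * (y * p * y⁻¹) := by rw [hyp']
          _ = y * (x0 * p) * y⁻¹ := by group
          _ = y * (z * (p * x0)) * y⁻¹ := by rw [h]
          _ = (y * z * y⁻¹) * ((y * p * y⁻¹) * (y * x0 * y⁻¹)) := by group
          _ = z * (p * x1) := by rw [hyzinv, hyp']
      have hzp : p * z = z * p := hzc p hp
      have h0 : x0⁻¹ * p = z * (p * x0⁻¹) := by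
        have e : x0⁻¹ * (x0 * p) * x0⁻¹ = x0⁻¹ * (z * (p * x0)) * x0⁻¹ := by rw [h]
        have hz' : x0⁻¹ * z = z * x0⁻¹ := hzc x0⁻¹ (E.inv_mem hx0E)
        have e2 : p * x0⁻¹ = z * (x0⁻¹ * p) := by
          calc p * x0⁻¹ = x0⁻¹ * (x0 * p) * x0⁻¹ := by group
            _ = x0⁻¹ * (z * (p * x0)) * x0⁻¹ := e
            _ = (x0⁻¹ * z) * p := by group
            _ = (z * x0⁻¹) * p := by rw [hz']
            _ = z * (x0⁻¹ * p) := by group
        rw [e2, ← mul_assoc, hz2, one_mul]
      calc c * p = x0⁻¹ * (x1 * p) := by rw [hc]; group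
        _ = x0⁻¹ * (z * (p * x1)) := by rw [h1]
        _ = (x0⁻¹ * z) * (p * x1) := by group
        _ = (z * x0⁻¹) * (p * x1) := by rw [hzc x0⁻¹ (E.inv_mem hx0E)]
        _ = z * ((x0⁻¹ * p) * x1) := by group
        _ = z * ((z * (p * x0⁻¹)) * x1) := by rw [h0]
        _ = (z * z) * (p * (x0⁻¹ * x1)) := by group
        _ = p * c := by rw [hz2, one_mul]
  -- y commutes with C_E(u)
  -- classify c
  have hc4 : c = 1 ∨ c = z ∨ c = u ∨ c = u * z := by
    rcases hcomm c hcE x0 hx0E with h | h
    · rcases central c (key c h hcP) with h1 | h1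
      · exact Or.inl h1
      · exact Or.inr (Or.inl h1)
    · -- u * c commutes with x0
      have h1 : (u * c) * x0 = x0 * (u * c) := by
        calc (u * c) * x0 = u * (c * x0) := by group
          _ = u * (z * (x0 * c)) := by rw [h]
          _ = (u * z) * (x0 * c) := by group
          _ = (z * u) * (x0 * c) := by rw [hzu]
          _ = z * ((u * x0) * c) := by group
          _ = z * ((z * (x0 * u)) * c) := by rw [hux0]
          _ = (z * z) * (x0 * (u * c)) := by group
          _ = x0 * (u * c) := by rw [hz2, one_mul]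
      have h2 : ∀ p ∈ E, p * u = u * p → (u * c) * p = p * (u * c) := by
        intro p hp hpu
        calc (u * c) * p = u * (c * p) := by group
          _ = u * (p * c) := by rw [hcP p hp hpu]
          _ = (u * p) * c := by group
          _ = (p * u) * c := by rw [hpu]
          _ = p * (u * c) := by group
      rcases central (u * c) (key (u * c) h1 h2) with h3 | h3
      · right; right; left
        calc c = u⁻¹ * (u * c) := by group
          _ = u := by rw [h3, huinv, mul_one]
      · right; right; right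
        calc c = u⁻¹ * (u * c) := by group
          _ = u * z := by rw [h3, huinv]
  -- x1 = x0 * c
  have hx1c : x1 = x0 * c := by rw [hc]; group
  -- squares
  have hsqx : x1 * x1 = x0 * x0 := by
    have : x1 * x1 = y * (x0 * x0) * y⁻¹ := by rw [hx1]; group
    rw [this]
    rcases hsq x0 hx0E with h | h
    · rw [h]; group
    · rw [h, hyzinv]
  have hbad : (x0 * u) * (x0 * u) = z * (x0 * x0) := by
    calc (x0 * u) * (x0 * u) = x0 * (u * x0) * u := by group
      _ = x0 * (z * (x0 * u)) * u := by rw [hux0]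
      _ = (x0 * z) * x0 * (u * u) := by group
      _ = (z * x0) * x0 * 1 := by rw [hzx0, hu2]
      _ = z * (x0 * x0) := by group
  rcases hc4 with h | h | h | h
  · -- c = 1 : y commutes with x0
    have hyx : y * x0 = x0 * y := by
      have : x1 = x0 := by rw [hx1c, h, mul_one]
      calc y * x0 = (y * x0 * y⁻¹) * y := by group
        _ = x0 * y := by rw [← hx1, this]
    rcases central y (key y hyx hyP) with h1 | h1
    · exact Or.inl h1
    · exact Or.inr (Or.inl h1)
  · -- c = z
    have hx1z : y * x0 * y⁻¹ = x0 * z := by rw [← hx1, hx1c, h]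
    have huy : (u * y) * x0 = x0 * (u * y) := by
      calc (u * y) * x0 = u * (y * x0 * y⁻¹) * y := by group
        _ = u * (x0 * z) * y := by rw [hx1z]
        _ = (u * x0) * z * y := by group
        _ = (z * (x0 * u)) * z * y := by rw [hux0]
        _ = z * x0 * (u * z) * y := by group
        _ = z * x0 * (z * u) * y := by rw [hzu]
        _ = z * (x0 * z) * u * y := by group
        _ = z * (z * x0) * u * y := by rw [hzx0]
        _ = (z * z) * x0 * (u * y) := by group
        _ = x0 * (u * y) := by rw [hz2, one_mul]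
    have huyP : ∀ p ∈ E, p * u = u * p → (u * y) * p = p * (u * y) := by
      intro p hp hpu
      calc (u * y) * p = u * (y * p) := by group
        _ = u * (p * y) := by rw [hyP p hp hpu]
        _ = (u * p) * y := by group
        _ = (p * u) * y := by rw [hpu]
        _ = p * (u * y) := by group
    rcases central (u * y) (key (u * y) huy huyP) with h1 | h1
    · right; right; left
      calc y = u⁻¹ * (u * y) := by group
        _ = u := by rw [h1, huinv, mul_one]
    · right; right; right
      calc y = u⁻¹ * (u * y) := by group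
        _ = u * z := by rw [h1, huinv]
  · -- c = u: contradiction
    exfalso
    rw [hx1c, h, hbad] at hsqx
    apply hz1
    calc z = z * (x0 * x0) * (x0 * x0)⁻¹ := by group
      _ = 1 := by rw [hsqx]; group
  · -- c = u * z: contradiction
    exfalso
    have hbad2 : (x0 * (u * z)) * (x0 * (u * z)) = z * (x0 * x0) := by
      calc (x0 * (u * z)) * (x0 * (u * z)) = (x0 * u) * (z * x0) * (u * z) := by group
        _ = (x0 * u) * (x0 * z) * (u * z) := by rw [hzx0]
        _ = (x0 * u) * x0 * (z * u) * z := by group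
        _ = (x0 * u) * x0 * (u * z) * z := by rw [hzu]
        _ = ((x0 * u) * (x0 * u)) * (z * z) := by group
        _ = z * (x0 * x0) := by rw [hbad, hz2, mul_one]
    rw [hx1c, h, hbad2] at hsqx
    apply hz1
    calc z = z * (x0 * x0) * (x0 * x0)⁻¹ := by group
      _ = 1 := by rw [hsqx]; group

end Cfsg.Agent.LES99C
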