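import Cfsg.Agent.Lib.Lead.LargeES
import Cfsg.Agent.H1.CoprimeFix
import Cfsg.Agent.H1.MinNonPClosed

/-!
# S5428, piece (P1): coprime action on an extraspecial 2-group keeps the form nondegenerate (helper1)
-/

set_option autoImplicit false
set_option linter.unusedVariables false
set_option linter.unusedSectionVars false
set_option linter.style.haveILetI false

namespace Cfsg.Agent.H1.LESA

open Cfsg.Agent.Lead.ES2 Cfsg.Agent.Lead.LargeES
open scoped Pointwise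

/-- elements of `Q` have order dividing four -/
theorem LES_pow_four {G : Type*} [Group G] {Q : Subgroup G} {z : G} (hQ : LES Q z)
    (a : G) (ha : a ∈ Q) : a ^ 4 = 1 := by
  have h : a ^ 4 = (a * a) * (a * a) := by rw [show (4 : ℕ) = 2 + 2 from rfl, pow_add, pow_two]
  rw [h]
  rcases hQ.sq a ha with h | h <;> rw [h]
  · simp
  · exact hQ.zz

/-- an element of odd order whose fourth power is trivial is trivial -/
theorem eq_one_of_odd_of_pow_four {G : Type*} [Group G] [Finite G] (A : Subgroup G)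
    (hAodd : Odd (Nat.card ↥A)) (a : G) (ha : a ∈ A) (h4 : a ^ 4 = 1) : a = 1 := by
  have h1 : orderOf a ∣ Nat.card ↥A := by
    have := orderOf_dvd_natCard (⟨a, ha⟩ : ↥A)
    rwa [Subgroup.orderOf_mk] at this
  have h2 : orderOf a ∣ 4 := orderOf_dvd_of_pow_eq_one h4
  have h3 : orderOf a ∣ Nat.gcd (Nat.card ↥A) 4 := Nat.dvd_gcd h1 h2
  have h5 : Nat.gcd (Nat.card ↥A) 4 = 1 := by
    have : Nat.Coprime (Nat.card ↥A) (2 ^ 2) := Nat.Coprime.pow_right 2 hAodd.coprime_two_right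
    simpa using this
  rw [h5, Nat.dvd_one, orderOf_eq_one_iff] at h3
  exact h3

/-- (P1) coprime action: the centre of `C_Q(A)` is `{1, z}`. -/
theorem fixed_center {G : Type*} [Group G] [Finite G] {Q : Subgroup G} {z : G} (hQ : LES Q z)
    (A : Subgroup G) (hAodd : Odd (Nat.card ↥A)) (hAz : ∀ a ∈ A, a * z = z * a)
    (x : G) (hxQ : x ∈ Q) (hxA : ∀ a ∈ A, a * x = x * a)
    (hx : ∀ r ∈ Q, (∀ a ∈ A, a * r = r * a) → x * r = r * x) : x = 1 ∨ x = z := by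
  classical
  haveI : Fact (Nat.Prime 2) := ⟨Nat.prime_two⟩
  apply hQ.cent
  -- `N = C_Q(x)`
  set N : Subgroup G := Q ⊓ Subgroup.centralizer ({x} : Set G) with hN
  have hmemN : ∀ q : G, q ∈ N ↔ q ∈ Q ∧ q * x = x * q := by
    intro q
    rw [hN, Subgroup.mem_inf, Subgroup.mem_centralizer_singleton_iff]
  by_contra hcon
  push Not at hcon
  obtain ⟨q₀, hq₀Q, hq₀⟩ := hcon
  have hq₀N : q₀ ∉ N := fun h => hq₀ ((hmemN q₀).1 h).2
  -- `A` normalizes `Q`
  have hAQ : ∀ a ∈ A, ∀ q ∈ Q, a * q * a⁻¹ ∈ Q := fun a ha q hq => hQ.norm a (hAz a ha) q hq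
  -- `A` normalizes `N`
  have hconjN : ∀ a ∈ A, ∀ q ∈ N, a * q * a⁻¹ ∈ N := by
    intro a ha q hq
    rw [hmemN] at hq ⊢
    refine ⟨hAQ a ha q hq.1, ?_⟩
    have h1 := hxA a ha
    have h2 : a⁻¹ * x = x * a⁻¹ := by
      calc a⁻¹ * x = a⁻¹ * (x * a) * a⁻¹ := by group
        _ = a⁻¹ * (a * x) * a⁻¹ := by rw [h1]
        _ = x * a⁻¹ := by group
    calc a * q * a⁻¹ * x = a * q * (a⁻¹ * x) := by group
      _ = a * q * (x * a⁻¹) := by rw [h2]
      _ = a * (q * x) * a⁻¹ := by group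
      _ = a * (x * q) * a⁻¹ := by rw [hq.2]
      _ = (a * x) * q * a⁻¹ := by group
      _ = (x * a) * q * a⁻¹ := by rw [h1]
      _ = x * (a * q * a⁻¹) := by group
  have hAN : A ≤ Subgroup.normalizer (N : Set G) := by
    intro a ha
    exact Cfsg.Agent.H1.mem_normalizer_of_conj_mem N a (fun q hq => hconjN a ha q hq)
  -- elements of `Q` outside `N` conjugate `x` to `z * x`
  have hout : ∀ q ∈ Q, q ∉ N → q * x * q⁻¹ = z * x := by
    intro q hq hqN
    rcases hQ.comm q hq x hxQ with h | h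
    · exfalso; apply hqN; rw [hmemN]; refine ⟨hq, ?_⟩
      calc q * x = (q * x * q⁻¹ * x⁻¹) * (x * q) := by group
        _ = x * q := by rw [h, one_mul]
    · calc q * x * q⁻¹ = (q * x * q⁻¹ * x⁻¹) * x := by group
        _ = z * x := by rw [h]
  have hzx : z * x = x * z := (hQ.zc x hxQ).symm
  have hzinv : z⁻¹ = z := inv_eq_of_mul_eq_one_right hQ.zz
  -- the coset `q₀ N` is `A`-invariant
  have hfix : ∀ a ∈ A, q₀⁻¹ * (a * q₀ * a⁻¹) ∈ N := by
    intro a ha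
    have hq₁Q : a * q₀ * a⁻¹ ∈ Q := hAQ a ha q₀ hq₀Q
    have hq₁N : a * q₀ * a⁻¹ ∉ N := by
      intro h
      apply hq₀N
      have := hconjN a⁻¹ (A.inv_mem ha) _ h
      have e : a⁻¹ * (a * q₀ * a⁻¹) * a⁻¹⁻¹ = q₀ := by group
      rwa [e] at this
    rw [hmemN]
    refine ⟨Q.mul_mem (Q.inv_mem hq₀Q) hq₁Q, ?_⟩
    have h0 := hout q₀ hq₀Q hq₀N
    have h1 := hout _ hq₁Q hq₁N
    -- `q₀⁻¹ * (z * x) * q₀ = x`
    have h0' : q₀⁻¹ * (z * x) * q₀ = x := by rw [← h0]; group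
    have h1' : (a * q₀ * a⁻¹) * x = z * x * (a * q₀ * a⁻¹) := by
      calc (a * q₀ * a⁻¹) * x = ((a * q₀ * a⁻¹) * x * (a * q₀ * a⁻¹)⁻¹) * (a * q₀ * a⁻¹) := by group
        _ = z * x * (a * q₀ * a⁻¹) := by rw [h1]
    calc q₀⁻¹ * (a * q₀ * a⁻¹) * x = q₀⁻¹ * ((a * q₀ * a⁻¹) * x) := by group
      _ = q₀⁻¹ * (z * x * (a * q₀ * a⁻¹)) := by rw [h1']
      _ = (q₀⁻¹ * (z * x) * q₀) * (q₀⁻¹ * (a * q₀ * a⁻¹)) := by group
      _ = x * (q₀⁻¹ * (a * q₀ * a⁻¹)) := by rw [h0']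
  -- `N` is a 2-group
  have hNp : IsPGroup 2 ↥N := by
    intro ⟨q, hq⟩
    refine ⟨2, ?_⟩
    apply Subtype.ext
    rw [Subgroup.coe_pow]
    exact LES_pow_four hQ q ((hmemN q).1 hq).1
  have hcop : (Nat.card ↥A).Coprime (Nat.card ↥N) := by
    obtain ⟨k, hk⟩ := IsPGroup.iff_card.1 hNp
    rw [hk]
    exact Nat.Coprime.pow_right k hAodd.coprime_two_right
  have hsolv : Group.IsSolvable ↥A ∨ Group.IsSolvable ↥N := by
    right
    haveI := hNp.isNilpotent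
    infer_instance
  obtain ⟨d, hd, hnorm⟩ :=
    Cfsg.Agent.H1.exists_mul_normalizes_of_coset_fixed A N hAN hcop hsolv q₀ hfix
  set y := q₀ * d with hy
  have hyQ : y ∈ Q := Q.mul_mem hq₀Q ((hmemN d).1 hd).1
  have hyN : y ∉ N := by
    intro h
    apply hq₀N
    have := N.mul_mem h (N.inv_mem hd)
    have e : y * d⁻¹ = q₀ := by rw [hy]; group
    rwa [e] at this
  -- `y` centralizes `A`
  have hyA : ∀ a ∈ A, a * y = y * a := by
    intro a ha
    -- `y * a⁻¹ * y⁻¹ ∈ A`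
    have h1 : y * a⁻¹ * y⁻¹ ∈ A := by
      have : y * a⁻¹ * y⁻¹ ∈ MulAut.conj y • A := by
        rw [Subgroup.mem_pointwise_smul_iff_inv_smul_mem]
        simp only [MulAut.smul_def, MulAut.inv_apply, MulAut.conj_symm_apply]
        have e : y⁻¹ * (y * a⁻¹ * y⁻¹) * y = a⁻¹ := by group
        rw [e]; exact A.inv_mem ha
      rwa [hnorm] at this
    -- the commutator lies in `A ⊓ Q`
    have h2 : a * y * a⁻¹ * y⁻¹ ∈ A := by
      have e : a * y * a⁻¹ * y⁻¹ = a * (y * a⁻¹ * y⁻¹) := by group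
      rw [e]; exact A.mul_mem ha h1
    have h3 : a * y * a⁻¹ * y⁻¹ ∈ Q := Q.mul_mem (hAQ a ha y hyQ) (Q.inv_mem hyQ)
    have h4 := eq_one_of_odd_of_pow_four A hAodd _ h2 (LES_pow_four hQ _ h3)
    calc a * y = (a * y * a⁻¹ * y⁻¹) * (y * a) := by group
      _ = y * a := by rw [h4, one_mul]
  apply hyN
  rw [hmemN]
  exact ⟨hyQ, (hx y hyQ hyA).symm⟩

end Cfsg.Agent.H1.LESA
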