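import Mathlib
import Cfsg.Prelude.Def_Solvable
import Cfsg.Agent.H1.Cores
import Cfsg.Agent.H1.SylowMore
import Cfsg.Agent.H1.MinNonPClosed
import Cfsg.Agent.Lib.Helper7.SubnormalClosure

set_option autoImplicit false
set_option linter.unusedVariables false
set_option linter.unusedSectionVars false
set_option linter.style.haveILetI false

namespace Cfsg.Agent.H1

open scoped Pointwise

section subnormalizer
variable {G : Type*} [Group G] [Finite G] {p : ℕ} [Fact p.Prime]

/-- `O_p(X)` as a subgroup of `G` -/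
def OpIn (p : ℕ) (X : Subgroup G) : Subgroup G := (Cfsg.pCore p ↥X).map X.subtype

lemma OpIn_le (X : Subgroup G) : OpIn p X ≤ X := Subgroup.map_subtype_le _

lemma OpIn_isPGroup (X : Subgroup G) : IsPGroup p (OpIn p X) := (pCore_isPGroup p).map _

lemma le_normalizer_OpIn (X : Subgroup G) : X ≤ Subgroup.normalizer (OpIn p X : Set G) := by
  intro n hn
  apply mem_normalizer_of_conj_mem
  rintro _ ⟨z, hz, rfl⟩
  exact ⟨⟨n, hn⟩ * z * ⟨n, hn⟩⁻¹,
    (inferInstance : (Cfsg.pCore p ↥X).Normal).conj_mem z hz ⟨n, hn⟩, rfl⟩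

lemma le_OpIn {T X : Subgroup G} (hTX : T ≤ X) (hXT : X ≤ Subgroup.normalizer (T : Set G))
    (hT : IsPGroup p T) : T ≤ OpIn p X := by
  have hn : (T.subgroupOf X).Normal := (Subgroup.normal_subgroupOf_iff_le_normalizer hTX).2 hXT
  have hp : IsPGroup p (T.subgroupOf X) := hT.comap_subtype
  have := le_pCore hn hp
  intro t ht
  exact ⟨⟨t, hTX ht⟩, this (Subgroup.mem_subgroupOf.2 ht), rfl⟩

lemma normalizer_le_normalizer_OpIn (X : Subgroup G) :
    Subgroup.normalizer (X : Set G) ≤ Subgroup.normalizer (OpIn p X : Set G) := by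
  intro g hg
  apply mem_normalizer_of_conj_mem
  have hT : (OpIn p X).map (MulAut.conj g).toMonoidHom ≤ OpIn p X := by
    apply le_OpIn
    · rintro _ ⟨r, hr, rfl⟩
      show g * r * g⁻¹ ∈ X
      exact (Subgroup.mem_normalizer_iff.1 hg r).1 (OpIn_le X hr)
    · intro h hh
      apply mem_normalizer_of_conj_mem
      rintro _ ⟨r, hr, rfl⟩
      have hh' : g⁻¹ * h * g ∈ X := by
        have := (Subgroup.mem_normalizer_iff.1 (Subgroup.inv_mem _ hg) h).1 hh
        simpa using this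
      have hr' : (g⁻¹ * h * g) * r * (g⁻¹ * h * g)⁻¹ ∈ OpIn p X :=
        (Subgroup.mem_normalizer_iff.1 (le_normalizer_OpIn X hh') r).1 hr
      refine ⟨_, hr', ?_⟩
      show g * ((g⁻¹ * h * g) * r * (g⁻¹ * h * g)⁻¹) * g⁻¹ = h * (g * r * g⁻¹) * h⁻¹
      group
    · exact (OpIn_isPGroup X).map _
  intro b hb
  exact hT ⟨b, hb, rfl⟩

lemma OpIn_le_pCore_of_isSubnormal {K : Subgroup G} (hK : K.IsSubnormal) :
    OpIn p K ≤ Cfsg.pCore p G := by
  induction hK with
  | top =>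
    have hn : (OpIn p (⊤ : Subgroup G)).Normal := by
      rw [← Subgroup.normalizer_eq_top_iff]
      exact top_le_iff.1 (le_normalizer_OpIn ⊤)
    exact le_pCore hn (OpIn_isPGroup ⊤)
  | step H K hle hKsn hN ih =>
    have hKN : K ≤ Subgroup.normalizer (H : Set G) :=
      (Subgroup.normal_subgroupOf_iff_le_normalizer hle).1 hN
    have : OpIn p H ≤ OpIn p K :=
      le_OpIn ((OpIn_le H).trans hle) (hKN.trans (normalizer_le_normalizer_OpIn H)) (OpIn_isPGroup H)
    exact this.trans ih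

/-- a subnormal `p`-subgroup lies in `O_p` -/
lemma le_pCore_of_isSubnormal {A : Subgroup G} (hA : A.IsSubnormal) (hp : IsPGroup p A) :
    A ≤ Cfsg.pCore p G := by
  have : A ≤ OpIn p A := le_OpIn le_rfl Subgroup.le_normalizer hp
  exact this.trans (OpIn_le_pCore_of_isSubnormal hA)

/-- a `p`-subgroup `H ≤ X` is subnormal in `X` iff it lies in `O_p(X)` -/
lemma isSubnormal_subgroupOf_iff {H X : Subgroup G} (hHX : H ≤ X) (hH : IsPGroup p H) :
    (H.subgroupOf X).IsSubnormal ↔ H ≤ OpIn p X := by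
  constructor
  · intro h
    have := le_pCore_of_isSubnormal (G := ↥X) h hH.comap_subtype
    intro x hx
    exact ⟨⟨x, hHX hx⟩, this (Subgroup.mem_subgroupOf.2 hx), rfl⟩
  · intro h
    have hle : H.subgroupOf X ≤ Cfsg.pCore p ↥X := by
      intro x hx
      obtain ⟨y, hy, hyx⟩ := h (Subgroup.mem_subgroupOf.1 hx)
      have : y = x := Subtype.ext hyx
      rwa [← this]
    refine Subgroup.IsSubnormal.trans hle ?_ (Subgroup.Normal.isSubnormal inferInstance)
    exact Cfsg.Agent.Lib.Helper7.isSubnormal_of_isPGroup (p := p) (pCore_isPGroup p) _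

lemma sub_of_radical {H R : Subgroup G} (hHR : H ≤ R) (hR : IsPGroup p R) {g : G}
    (hg : g ∈ Subgroup.normalizer (R : Set G)) :
    (H.subgroupOf (H ⊔ Subgroup.zpowers g)).IsSubnormal := by
  set X := H ⊔ Subgroup.zpowers g with hX
  have hHX : H ≤ X := le_sup_left
  have hXN : X ≤ Subgroup.normalizer (R : Set G) :=
    sup_le (hHR.trans Subgroup.le_normalizer) (by rw [Subgroup.zpowers_le]; exact hg)
  rw [isSubnormal_subgroupOf_iff hHX (hR.to_le hHR)]
  have : R ⊓ X ≤ OpIn p X := by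
    apply le_OpIn inf_le_right
    · intro x hx
      apply mem_normalizer_of_conj_mem
      rintro b ⟨hbR, hbX⟩
      exact ⟨(Subgroup.mem_normalizer_iff.1 (hXN hx) b).1 hbR,
        X.mul_mem (X.mul_mem hx hbX) (X.inv_mem hx)⟩
    · exact hR.to_le inf_le_left
  exact (le_inf hHR hHX).trans this

lemma exists_radical {H : Subgroup G} {g : G} (R₀ : Subgroup G) (hR₀ : IsPGroup p R₀) (hH : H ≤ R₀)
    (hg : g ∈ Subgroup.normalizer (R₀ : Set G)) :
    ∃ R : Subgroup G, H ≤ R ∧ OpIn p (Subgroup.normalizer (R : Set G)) = R ∧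
      g ∈ Subgroup.normalizer (R : Set G) := by
  let 𝓡 := {R : Subgroup G // IsPGroup p R ∧ H ≤ R ∧ g ∈ Subgroup.normalizer (R : Set G)}
  haveI : Nonempty 𝓡 := ⟨⟨R₀, hR₀, hH, hg⟩⟩
  obtain ⟨⟨R, hRp, hHR, hgR⟩, hmax⟩ := Finite.exists_max (fun R : 𝓡 => Nat.card R.1)
  set R' := OpIn p (Subgroup.normalizer (R : Set G)) with hR'
  have hle : R ≤ R' := le_OpIn Subgroup.le_normalizer le_rfl hRp
  have hgR' : g ∈ Subgroup.normalizer (R' : Set G) :=
    normalizer_le_normalizer_OpIn _ (Subgroup.le_normalizer hgR)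
  have hcard := hmax ⟨R', OpIn_isPGroup _, hHR.trans hle, hgR'⟩
  have heq : R = R' := Subgroup.eq_of_le_of_card_ge hle hcard
  exact ⟨R, hHR, heq.symm, hgR⟩

lemma sInf_sylow_le_radical {H R : Subgroup G} (hHR : H ≤ R)
    (hrad : OpIn p (Subgroup.normalizer (R : Set G)) = R) :
    sInf {K : Subgroup G | ∃ Q : Sylow p G, H ≤ (Q : Subgroup G) ∧ K = (Q : Subgroup G)} ≤ R := by
  have hRp : IsPGroup p R := hrad ▸ OpIn_isPGroup _
  set T := sInf {K : Subgroup G | ∃ Q : Sylow p G, R ≤ (Q : Subgroup G) ∧ K = (Q : Subgroup G)} with hT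
  have h1 : sInf {K : Subgroup G | ∃ Q : Sylow p G, H ≤ (Q : Subgroup G) ∧ K = (Q : Subgroup G)} ≤ T := by
    apply sInf_le_sInf
    rintro K ⟨Q, hQ, rfl⟩
    exact ⟨Q, hHR.trans hQ, rfl⟩
  refine h1.trans ?_
  have hRT : R ≤ T := le_sInf (by rintro K ⟨Q, hQ, rfl⟩; exact hQ)
  have hTp : IsPGroup p T := by
    obtain ⟨Q, hQ⟩ := hRp.exists_le_sylow
    exact Q.isPGroup'.to_le (sInf_le ⟨Q, hQ, rfl⟩)
  have hNT : Subgroup.normalizer (R : Set G) ≤ Subgroup.normalizer (T : Set G) := by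
    intro n hn
    apply mem_normalizer_of_conj_mem
    intro x hx
    rw [hT, Subgroup.mem_sInf]
    rintro K ⟨Q, hQ, rfl⟩
    have hRQ' : R ≤ ((n⁻¹ • Q : Sylow p G) : Subgroup G) := by
      intro r hr
      have : n⁻¹⁻¹ * r * n⁻¹ ∈ Q := by
        rw [inv_inv]
        exact hQ ((Subgroup.mem_normalizer_iff.1 hn r).1 hr)
      exact (mem_sylow_smul n⁻¹ r Q).2 this
    have hx' : x ∈ ((n⁻¹ • Q : Sylow p G) : Subgroup G) :=
      (Subgroup.mem_sInf.1 hx) _ ⟨n⁻¹ • Q, hRQ', rfl⟩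
    have := (mem_sylow_smul n⁻¹ x Q).1 hx'
    rwa [inv_inv] at this
  have hTN : T ⊓ Subgroup.normalizer (R : Set G) ≤ R := by
    have : T ⊓ Subgroup.normalizer (R : Set G) ≤ OpIn p (Subgroup.normalizer (R : Set G)) := by
      apply le_OpIn inf_le_right
      · intro n hn
        apply mem_normalizer_of_conj_mem
        rintro b ⟨hbT, hbN⟩
        exact ⟨(Subgroup.mem_normalizer_iff.1 (hNT hn) b).1 hbT,
          Subgroup.mul_mem _ (Subgroup.mul_mem _ hn hbN) (Subgroup.inv_mem _ hn)⟩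
      · exact hTp.to_le inf_le_left
    rwa [hrad] at this
  -- normalizer condition in the `p`-group `T`
  by_contra hne
  have hlt : R.subgroupOf T < ⊤ := by
    rw [lt_top_iff_ne_top]
    intro h
    rw [Subgroup.subgroupOf_eq_top] at h
    exact hne h
  haveI : Group.IsNilpotent ↥T := hTp.isNilpotent
  have hnc := Group.normalizerCondition_of_isNilpotent (G := ↥T) (R.subgroupOf T) hlt
  obtain ⟨y, hyN, hyR⟩ := SetLike.exists_of_lt hnc
  apply hyR
  rw [Subgroup.mem_subgroupOf]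
  apply hTN
  refine ⟨y.2, ?_⟩
  apply mem_normalizer_of_conj_mem
  intro r hr
  have h2 := (Subgroup.mem_normalizer_iff.1 hyN ⟨r, hRT hr⟩).1 (Subgroup.mem_subgroupOf.2 hr)
  rw [Subgroup.mem_subgroupOf] at h2
  simpa using h2

end subnormalizer

end Cfsg.Agent.H1
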