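import Cfsg.Agent.H2.LESBasic
import Cfsg.Agent.H2.Equivariant
import Cfsg.Agent.H1.Subnormalizer

/-!
# S5426, piece (R3): the case `O₂(G) ≠ 1` (helper1)
-/

set_option autoImplicit false
set_option linter.unusedVariables false
set_option linter.unusedSectionVars false
set_option linter.style.haveILetI false

namespace Cfsg.Agent.H2.LES

universe u
variable {G : Type u} [Group G] [Finite G] {Q : Subgroup G} {z : G}

/-- (R3) the case `O₂(G) ≠ 1`: `M = ⟨z^G⟩` is abelian and `F*(G) = O₂(G)`. -/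
theorem Ctx.case_two_core (c : Ctx Q z) (h : Cfsg.pCore 2 G ≠ ⊥) :
    IsMulCommutative ↥(Subgroup.normalClosure ({z} : Set G)) ∧
      Cfsg.generalizedFittingSubgroup G = Cfsg.pCore 2 G := by
  classical
  haveI : Fact (Nat.Prime 2) := ⟨Nat.prime_two⟩
  set R : Subgroup G := Cfsg.pCore 2 G with hR
  haveI hRn : R.Normal := Cfsg.Agent.H1.pCore_normal 2
  have hRp : IsPGroup 2 ↥R := Cfsg.Agent.H1.pCore_isPGroup 2
  -- `A = Z(R)` as a subgroup of `G`
  set A : Subgroup G := (Subgroup.center ↥R).map R.subtype with hA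
  have hAn : A.Normal := Cfsg.Agent.H2.map_subtype_center_normal R
  have hAp : IsPGroup 2 ↥A := (hRp.to_subgroup (Subgroup.center ↥R)).map _
  have hA1 : A ≠ ⊥ := by
    haveI : Nontrivial ↥R := by
      rw [Subgroup.nontrivial_iff_ne_bot]; exact h
    haveI := hRp.center_nontrivial
    intro hbot
    have : Subgroup.center ↥R = ⊥ := by
      rw [hA] at hbot
      exact (Subgroup.map_eq_bot_iff_of_injective _ R.subtype_injective).1 hbot
    exact (Subgroup.nontrivial_iff_ne_bot _).1 inferInstance this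
  have hzA : z ∈ A := by
    apply c.z_mem_of_two_group A hAp hA1
    rw [Subgroup.normalizer_eq_top_iff.2 hAn]; exact le_top
  have hzR : z ∈ R := ((Cfsg.Agent.H2.mem_map_subtype_center_iff R z).1 hzA).1
  refine ⟨?_, ?_⟩
  · -- `M ≤ A` and `A` is commutative
    have hMA : Subgroup.normalClosure ({z} : Set G) ≤ A :=
      Subgroup.normalClosure_le_normal (by simpa using hzA)
    refine ⟨⟨?_⟩⟩
    rintro ⟨a, ha⟩ ⟨b, hb⟩
    apply Subtype.ext
    have ha' := (Cfsg.Agent.H2.mem_map_subtype_center_iff R a).1 (hMA ha)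
    have hb' := (Cfsg.Agent.H2.mem_map_subtype_center_iff R b).1 (hMA hb)
    exact hb'.2 a ha'.1
  · -- no components
    set E : Subgroup G := Cfsg.layer G with hE
    haveI hEn : E.Normal := Cfsg.Agent.H2.layer_normal
    have hfit : Cfsg.fittingSubgroup G = R := c.fitting_eq
    have hER : ∀ e ∈ E, ∀ r ∈ R, e * r = r * e := by
      have := Cfsg.Agent.H2.layer_commutator_fittingSubgroup (G := G)
      rw [hfit] at this
      exact (Cfsg.Agent.H2.commutator_eq_bot_iff_forall_commute _ _).1 this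
    -- `E` normalizes `Q`
    have hEQ : ∀ e ∈ E, ∀ a ∈ Q, e * a * e⁻¹ ∈ Q := fun e he a ha =>
      c.norm e (hER e he z hzR) a ha
    -- `[E, Q] ≤ E ⊓ Q`
    have hcomm_le : ⁅E, Q⁆ ≤ E ⊓ Q := by
      rw [Subgroup.commutator_le]
      intro e he a ha
      refine ⟨?_, ?_⟩
      · -- e * a * e⁻¹ * a⁻¹ ∈ E
        have : a * e⁻¹ * a⁻¹ ∈ E := hEn.conj_mem _ (E.inv_mem he) a
        have h2 := E.mul_mem he this
        rw [commutatorElement_def]
        have h3 : e * a * e⁻¹ * a⁻¹ = e * (a * e⁻¹ * a⁻¹) := by group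
        rw [h3]; exact h2
      · rw [commutatorElement_def]
        exact Q.mul_mem (hEQ e he a ha) (Q.inv_mem ha)
    -- `E ⊓ Q ≤ R`
    have hEQR : E ⊓ Q ≤ R := by
      apply Cfsg.Agent.H1.le_pCore_of_isSubnormal
      · -- subnormal: normal in `E`, `E` normal in `G`
        have hEs : E.IsSubnormal := hEn.isSubnormal
        have hle : E ⊓ Q ≤ E := inf_le_left
        have hnorm : ((E ⊓ Q).subgroupOf E).Normal := by
          rw [Subgroup.normal_subgroupOf_iff_le_normalizer hle]
          intro e he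
          apply Cfsg.Agent.H1.mem_normalizer_of_conj_mem
          rintro x ⟨hx1, hx2⟩
          exact ⟨E.mul_mem (E.mul_mem he hx1) (E.inv_mem he), hEQ e he x hx2⟩
        exact Subgroup.IsSubnormal.step _ _ hle hEs hnorm
      · exact c.pgrp.to_le inf_le_right
    -- `[[E,Q],E] = 1`
    have h1 : ⁅⁅E, Q⁆, E⁆ = ⊥ := by
      rw [Cfsg.Agent.H2.commutator_eq_bot_iff_forall_commute]
      intro x hx e he
      exact (hER e he x (hEQR (hcomm_le hx))).symm
    have h2 : ⁅⁅Q, E⁆, E⁆ = ⊥ := by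
      rw [Subgroup.commutator_comm Q E]; exact h1
    have h3 : ⁅⁅E, E⁆, Q⁆ = ⊥ :=
      Subgroup.commutator_commutator_eq_bot_of_rotate h1 h2
    have hno : ∀ K : Subgroup G, ¬ Cfsg.IsComponent K := by
      intro K hK
      have hKE : K ≤ E := Cfsg.Agent.H2.component_le_layer hK
      have hKK : ⁅K, K⁆ = K := Cfsg.Agent.H2.quasisimple_commutator_eq hK.2
      have hKc : ∀ k ∈ K, ∀ a ∈ Q, k * a = a * k := by
        have h4 : ⁅K, Q⁆ = ⊥ := by
          rw [eq_bot_iff, ← h3]
          calc ⁅K, Q⁆ = ⁅⁅K, K⁆, Q⁆ := by rw [hKK]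
            _ ≤ ⁅⁅E, E⁆, Q⁆ :=
              Subgroup.commutator_mono (Subgroup.commutator_mono hKE hKE) le_rfl
        exact (Cfsg.Agent.H2.commutator_eq_bot_iff_forall_commute _ _).1 h4
      -- `K` is commutative, hence solvable
      have hKz : ∀ k ∈ K, k = 1 ∨ k = z := fun k hk => c.cent k (hKc k hk)
      have hsol : Group.IsSolvable ↥K := by
        apply Group.isSolvable_of_comm
        rintro ⟨a, ha⟩ ⟨b, hb⟩
        apply Subtype.ext
        show a * b = b * a
        rcases hKz a ha with rfl | rfl <;> rcases hKz b hb with rfl | rfl <;> simp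
      exact Cfsg.Agent.H2.quasisimple_not_isSolvable hK.2 hsol
    have hE1 : E = ⊥ := by
      rw [hE, Cfsg.layer]
      have : {K : Subgroup G | Cfsg.IsComponent K} = ∅ := by
        ext K; simp [hno K]
      rw [this, sSup_empty]
    show Cfsg.layer G ⊔ Cfsg.fittingSubgroup G = R
    rw [← hE, hE1, bot_sup_eq, hfit]

end Cfsg.Agent.H2.LES
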