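import Mathlib
import Cfsg.Agent.H1.BaerSuzuki
import Cfsg.Agent.H1.NormalRankTwo
import Cfsg.Agent.H1.SylowMore
import Cfsg.Agent.H1.CliffordRestrict

set_option autoImplicit false

namespace Cfsg.Agent.H1

section
variable {G : Type*} [Group G] [Finite G]

theorem maximal_invariant_pgroup_iff (p : ℕ) [Fact p.Prime] (hp2 : p ≠ 2) (Q : Subgroup G)
    (hQ : IsPGroup p ↥Q) (y : G) (hy : orderOf y = 2)
    (hyQ : y ∈ Subgroup.normalizer (Q : Set G)) :
    (∀ R : Subgroup G, IsPGroup p ↥R → Q ≤ R → y ∈ Subgroup.normalizer (R : Set G) → R = Q) ↔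
    ∀ x : G, x ∈ Subgroup.normalizer (Q : Set G) → x ∉ Q → x ^ p ∈ Q →
      (y * x * y⁻¹ * x ∉ Q ∧ y * x * y⁻¹ * x⁻¹ ∉ Q) := by
  have hpp : p.Prime := Fact.out
  have hyy : y * y = 1 := by rw [← pow_two, ← hy]; exact pow_orderOf_eq_one y
  have hyinv : y⁻¹ = y := inv_eq_of_mul_eq_one_right hyy
  constructor
  · intro hmax x hxN hxQ hxp
    by_contra hcon
    have hcon' : y * x * y⁻¹ * x ∈ Q ∨ y * x * y⁻¹ * x⁻¹ ∈ Q := by
      by_contra h
      push Not at h
      exact hcon h
    -- R = Q ⊔ ⟨x⟩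
    have hxpg : IsPGroup p (Subgroup.zpowers x) := by
      obtain ⟨k, hk⟩ := hQ ⟨x ^ p, hxp⟩
      have hk' : (x ^ p) ^ p ^ k = 1 := by
        have := congrArg Subtype.val hk
        simpa using this
      apply IsPGroup.of_card (n := (Nat.card (Subgroup.zpowers x)).factorization p)
      have hd : orderOf x ∣ p ^ (k + 1) := by
        apply orderOf_dvd_of_pow_eq_one
        rw [pow_succ', pow_mul]; exact hk'
      obtain ⟨j, -, hj⟩ := (Nat.dvd_prime_pow hpp).1 hd
      rw [Nat.card_zpowers, hj, hpp.factorization_pow]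
      simp
    have hR : IsPGroup p (Q ⊔ Subgroup.zpowers x : Subgroup G) :=
      IsPGroup.to_sup_of_normal_left' hQ hxpg (Subgroup.zpowers_le.2 hxN)
    have hyR : y ∈ Subgroup.normalizer ((Q ⊔ Subgroup.zpowers x : Subgroup G) : Set G) := by
      apply mem_normalizer_of_map_conj_le
      rw [Subgroup.map_sup]
      apply sup_le
      · rw [(map_conj_eq_self_iff y Q).2 hyQ]; exact le_sup_left
      · rw [MonoidHom.map_zpowers, Subgroup.zpowers_le]
        simp only [MulEquiv.coe_toMonoidHom, MulAut.conj_apply]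
        rcases hcon' with h | h
        · have : y * x * y⁻¹ = (y * x * y⁻¹ * x) * x⁻¹ := by group
          rw [this]
          exact Subgroup.mul_mem _ (Subgroup.mem_sup_left h)
            (Subgroup.mem_sup_right (Subgroup.inv_mem _ (Subgroup.mem_zpowers x)))
        · have : y * x * y⁻¹ = (y * x * y⁻¹ * x⁻¹) * x := by group
          rw [this]
          exact Subgroup.mul_mem _ (Subgroup.mem_sup_left h)
            (Subgroup.mem_sup_right (Subgroup.mem_zpowers x))
    have := hmax _ hR le_sup_left hyR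
    apply hxQ
    rw [← this]
    exact Subgroup.mem_sup_right (Subgroup.mem_zpowers x)
  · intro hcond R hRp hQR hyR
    by_contra hne
    have hlt : Q < R := lt_of_le_of_ne hQR (Ne.symm hne)
    obtain ⟨N, hN⟩ : ∃ N, N = Subgroup.normalizer (Q : Set G) := ⟨_, rfl⟩
    have hlt2 := lt_normalizer_inf_of_pgroup Q R hRp hlt
    rw [← hN] at hlt2 hyQ
    obtain ⟨m₀, hm₀M, hm₀Q⟩ := SetLike.exists_of_lt hlt2
    have hQN : Q ≤ N := hN ▸ Subgroup.le_normalizer
    have hQ'n : (Q.subgroupOf N).Normal := by rw [hN]; exact Subgroup.normal_in_normalizer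
    -- y normalizes N ⊓ R
    have hyM : ∀ m ∈ N ⊓ R, y * m * y⁻¹ ∈ N ⊓ R := by
      intro m hm
      refine Subgroup.mem_inf.2 ⟨?_, ?_⟩
      · exact N.mul_mem (N.mul_mem hyQ (Subgroup.mem_inf.1 hm).1) (N.inv_mem hyQ)
      · exact (Subgroup.mem_normalizer_iff.1 hyR m).1 (Subgroup.mem_inf.1 hm).2
    -- quotient
    let π := QuotientGroup.mk' (Q.subgroupOf N)
    have hπ1 : ∀ g : N, π g = 1 ↔ (g : G) ∈ Q := by
      intro g
      rw [QuotientGroup.mk'_apply, QuotientGroup.eq_one_iff, Subgroup.mem_subgroupOf]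
    obtain ⟨Mb, hMb⟩ : ∃ Mb, Mb = ((N ⊓ R).subgroupOf N).map π := ⟨_, rfl⟩
    have hMbp : IsPGroup p Mb := by
      rw [hMb]
      exact ((hRp.to_le inf_le_right).comap_subtype).map π
    have hMbne : (⊤ : Subgroup Mb) ≠ ⊥ := by
      intro h
      apply hm₀Q
      have h1 : π ⟨m₀, (Subgroup.mem_inf.1 hm₀M).1⟩ ∈ Mb := by
        rw [hMb]
        exact Subgroup.mem_map_of_mem π (Subgroup.mem_subgroupOf.2 hm₀M)
      have h2 : (⟨_, h1⟩ : Mb) ∈ (⊤ : Subgroup Mb) := Subgroup.mem_top _
      rw [h, Subgroup.mem_bot] at h2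
      have h3 := congrArg Subtype.val h2
      exact (hπ1 _).1 h3
    obtain ⟨z, -, hzc, hzo⟩ := exists_central_order_p hMbp ⊤ hMbne
    -- z as an element of the quotient
    have hzMb : (z : ↥N ⧸ Q.subgroupOf N) ∈ ((N ⊓ R).subgroupOf N).map π := by
      rw [← hMb]; exact z.2
    obtain ⟨t, htM, htz⟩ := Subgroup.mem_map.1 hzMb
    have htM' : (t : G) ∈ N ⊓ R := Subgroup.mem_subgroupOf.1 htM
    have hz1 : π t ≠ 1 := by
      rw [htz]
      intro h
      have : z = 1 := Subtype.ext h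
      rw [this, orderOf_one] at hzo
      exact hpp.one_lt.ne hzo
    have hzp : (π t) ^ p = 1 := by
      rw [htz, ← Subgroup.coe_pow, ← hzo, pow_orderOf_eq_one]; rfl
    have hzcomm : ∀ m : N, (m : G) ∈ N ⊓ R → Commute (π m) (π t) := by
      intro m hm
      have h1 : π m ∈ Mb := by
        rw [hMb]; exact Subgroup.mem_map_of_mem π (Subgroup.mem_subgroupOf.2 hm)
      have h2 := Subgroup.mem_center_iff.1 hzc ⟨π m, h1⟩
      have h3 := congrArg Subtype.val h2
      rw [htz]
      exact h3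
    -- elements
    let yh : N := ⟨y, hyQ⟩
    have hyb : π yh * π yh = 1 := by
      rw [← map_mul]
      have : yh * yh = 1 := Subtype.ext hyy
      rw [this, map_one]
    have hybinv : (π yh)⁻¹ = π yh := inv_eq_of_mul_eq_one_right hyb
    obtain ⟨sb, hsb⟩ : ∃ sb, sb = π yh * π t * (π yh)⁻¹ := ⟨_, rfl⟩
    have hscomm : Commute sb (π t) := by
      have h1 : ((yh * t * yh⁻¹ : N) : G) ∈ N ⊓ R := by
        simp only [Subgroup.coe_mul, Subgroup.coe_inv]
        exact hyM _ htM'
      have h2 := hzcomm _ h1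
      rw [map_mul, map_mul, map_inv] at h2
      rw [hsb]; exact h2
    -- apply hypothesis to t
    have htQ : (t : G) ∉ Q := fun h => hz1 ((hπ1 t).2 h)
    have htp : (t : G) ^ p ∈ Q := by
      have : π (t ^ p) = 1 := by rw [map_pow, hzp]
      have := (hπ1 _).1 this
      simpa using this
    have ht1 := (hcond (t : G) (hN ▸ t.2) htQ htp).1
    -- u = y t y⁻¹ t
    let u : N := yh * t * yh⁻¹ * t
    have hπu : π u = sb * π t := by
      rw [hsb]; simp only [u, map_mul, map_inv]
    have huQ : (u : G) ∉ Q := by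
      have : (u : G) = y * t * y⁻¹ * t := rfl
      rw [this]; exact ht1
    have hup : (u : G) ^ p ∈ Q := by
      have h1 : π (u ^ p) = 1 := by
        rw [map_pow, hπu, hscomm.mul_pow, hzp, mul_one, hsb, conj_pow, hzp]
        simp
      have := (hπ1 _).1 h1
      simpa using this
    have hu2 := (hcond (u : G) (hN ▸ u.2) huQ hup).2
    apply hu2
    have h1 : π (yh * u * yh⁻¹ * u⁻¹) = 1 := by
      have e0 : π (yh * u * yh⁻¹ * u⁻¹) = π yh * π u * (π yh)⁻¹ * (π u)⁻¹ := by
        rw [map_mul, map_mul, map_mul, map_inv, map_inv]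
      rw [e0, hπu]
      have e1 : π yh * (sb * π t) * (π yh)⁻¹ = (π yh * sb * (π yh)⁻¹) * (π yh * π t * (π yh)⁻¹) := by
        group
      have e2 : π yh * sb * (π yh)⁻¹ = π t := by
        rw [hsb, hybinv]
        calc π yh * (π yh * π t * π yh) * π yh = (π yh * π yh) * π t * (π yh * π yh) := by group
          _ = π t := by rw [hyb, one_mul, mul_one]
      rw [e1, e2, ← hsb, hscomm.eq.symm]
      group
    have := (hπ1 _).1 h1
    simpa using this

end

end Cfsg.Agent.H1
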