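import Mathlib
import Cfsg.Prelude.Def_SolvableStructure
import Cfsg.Prelude.Def_Transfer
import Cfsg.Agent.H1.Cores
import Cfsg.Agent.H1.SylowMore
import Cfsg.Agent.H1.MinNonPClosed
import Cfsg.Agent.H1.CoprimeAction
import Cfsg.Agent.Lib.Helper4.Nilpotent
import Cfsg.Agent.S0071
import Cfsg.Agent.S0086

set_option autoImplicit false
set_option linter.unusedVariables false
set_option linter.unusedSectionVars false
set_option linter.style.haveILetI false

namespace Cfsg.Agent.H1

open scoped Pointwise

section maxNilp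
variable {G : Type*} [Group G]

lemma isNilpotent_of_le' {A B : Subgroup G} (hAB : A ≤ B) (hB : Group.IsNilpotent B) :
    Group.IsNilpotent A := by
  haveI := hB
  have : Group.IsNilpotent ↥(A.subgroupOf B) := inferInstance
  exact Group.nilpotent_of_mulEquiv (Subgroup.subgroupOfEquivOfLe hAB)

lemma isNilpotent_sup_of_commute (A B : Subgroup G) (hA : Group.IsNilpotent A) (hB : Group.IsNilpotent B)
    (comm : ∀ a ∈ A, ∀ b ∈ B, a * b = b * a) : Group.IsNilpotent ↥(A ⊔ B) := by
  haveI := hA
  haveI := hB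
  have hcomm : ∀ (a : ↥A) (b : ↥B), Commute (A.subtype a) (B.subtype b) := fun a b => comm a.1 a.2 b.1 b.2
  have hrange : (MonoidHom.noncommCoprod A.subtype B.subtype hcomm).range = A ⊔ B := by
    rw [MonoidHom.noncommCoprod_range, Subgroup.range_subtype, Subgroup.range_subtype]
  have h1 : Group.IsNilpotent ↥(MonoidHom.noncommCoprod A.subtype B.subtype hcomm).range :=
    Group.nilpotent_of_surjective (MonoidHom.noncommCoprod A.subtype B.subtype hcomm).rangeRestrict
      (MonoidHom.noncommCoprod A.subtype B.subtype hcomm).rangeRestrict_surjective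
  rw [hrange] at h1
  exact h1

/-- in a nilpotent subgroup, elements of coprime orders commute -/
lemma commute_of_mem_nilpotent [Finite G] {L : Subgroup G} (hL : Group.IsNilpotent L) {a b : G} (ha : a ∈ L)
    (hb : b ∈ L) (hc : (orderOf a).Coprime (orderOf b)) : a * b = b * a := by
  haveI := hL
  have := Cfsg.Agent.Lib.Helper4.Nilpotent.commute_of_coprime_orderOf ↥L ⟨a, ha⟩ ⟨b, hb⟩
    (by rw [Subgroup.orderOf_mk, Subgroup.orderOf_mk]; exact hc)
  exact congrArg Subtype.val this

lemma isNilpotent_of_forall_commute {K : Subgroup G} (h : ∀ a ∈ K, ∀ b ∈ K, a * b = b * a) :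
    Group.IsNilpotent K := by
  have hab : IsMulCommutative K := ⟨⟨fun a b => Subtype.ext (h a.1 a.2 b.1 b.2)⟩⟩
  open scoped IsMulCommutative in
  exact CommGroup.isNilpotent

/-- Dedekind-type: if `A` normalizes `B`, `B ≤ K`, `A ⊓ K = ⊥` and `B ⊔ A = ⊤`, then `K ≤ B`. -/
lemma le_of_sup_eq_top {A B K : Subgroup G} (hAB : A ≤ Subgroup.normalizer (B : Set G)) (hBK : B ≤ K)
    (hdisj : A ⊓ K = ⊥) (htop : B ⊔ A = ⊤) : K ≤ B := by
  intro x hx
  have hx' : x ∈ B ⊔ A := by rw [htop]; exact Subgroup.mem_top x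
  obtain ⟨b, hb, a, ha, rfl⟩ := (mem_sup_of_le_normalizer B A hAB).1 hx'
  have haK : a ∈ K := by
    have : a = b⁻¹ * (b * a) := by group
    rw [this]; exact K.mul_mem (K.inv_mem (hBK hb)) hx
  have : a ∈ A ⊓ K := ⟨ha, haK⟩
  rw [hdisj, Subgroup.mem_bot] at this
  rw [this, mul_one]; exact hb

/-- Dedekind-type: if `B` normalizes `A`, `B ≤ K`, `A ⊓ K = ⊥` and `A ⊔ B = ⊤`, then `K ≤ B`. -/
lemma le_of_sup_eq_top' {A B K : Subgroup G} (hBA : B ≤ Subgroup.normalizer (A : Set G)) (hBK : B ≤ K)
    (hdisj : A ⊓ K = ⊥) (htop : A ⊔ B = ⊤) : K ≤ B := by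
  intro x hx
  have hx' : x ∈ A ⊔ B := by rw [htop]; exact Subgroup.mem_top x
  obtain ⟨a, ha, b, hb, rfl⟩ := (mem_sup_of_le_normalizer A B hBA).1 hx'
  have haK : a ∈ K := by
    have : a = (a * b) * b⁻¹ := by group
    rw [this]; exact K.mul_mem hx (K.inv_mem (hBK hb))
  have : a ∈ A ⊓ K := ⟨ha, haK⟩
  rw [hdisj, Subgroup.mem_bot] at this
  rw [this, one_mul]; exact hb

end maxNilp

section maxNilp2
variable {G : Type*} [Group G] [Finite G] {p : ℕ}

/-- the structure `G = Z × K` obtained from an element of order `p` centralizing a non-nilpotent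
`p'`-coatom -/
lemma structure_of_central_elt (hp : p.Prime)
    (hA : ∀ L : Subgroup G, L ≠ ⊤ → p ∣ Nat.card L → Group.IsNilpotent L)
    (K : Subgroup G) (hK : IsCoatom K) (hKn : ¬ Group.IsNilpotent K) (hKp : ¬ p ∣ Nat.card K)
    (y : G) (hy : orderOf y = p) (hyK : ∀ k ∈ K, y * k = k * y) :
    ∃ Z K : Subgroup G, Z.Normal ∧ K.Normal ∧ Z ⊓ K = ⊥ ∧ Z ⊔ K = ⊤ ∧ Nat.card Z = p ∧
      Cfsg.IsMinimalNonNilpotent K ∧ ¬ p ∣ Nat.card K := by
  haveI := Fact.mk hp
  set Z := Subgroup.zpowers y with hZ
  have hZcard : Nat.card Z = p := by rw [hZ, Nat.card_zpowers, hy]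
  have hcop : (Nat.card Z).Coprime (Nat.card K) := by
    rw [hZcard]; exact (Nat.Prime.coprime_iff_not_dvd hp).2 hKp
  have hdisj : Z ⊓ K = ⊥ := Subgroup.inf_eq_bot_of_coprime hcop
  have hZK : ∀ z ∈ Z, ∀ k ∈ K, z * k = k * z := by
    intro z hz k hk
    obtain ⟨m, rfl⟩ := Subgroup.mem_zpowers_iff.1 hz
    exact ((show Commute y k from hyK k hk).zpow_left m).eq
  have hZnil : Group.IsNilpotent Z := isNilpotent_of_forall_commute (by
    intro a ha b hb
    obtain ⟨m, rfl⟩ := Subgroup.mem_zpowers_iff.1 ha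
    obtain ⟨n, rfl⟩ := Subgroup.mem_zpowers_iff.1 hb
    exact ((Commute.refl y).zpow_zpow m n).eq)
  have hpZ : ∀ L : Subgroup G, Z ≤ L → p ∣ Nat.card L := by
    intro L hL
    rw [← hZcard]
    exact Subgroup.card_dvd_of_le hL
  -- `Z ⊔ K₁` is proper for `K₁ < K`
  have hprop : ∀ K₁ : Subgroup G, K₁ ≤ K → K₁ ≠ K → Group.IsNilpotent K₁ := by
    intro K₁ hle hne
    have hne' : Z ⊔ K₁ ≠ ⊤ := by
      intro h
      apply hne
      refine le_antisymm hle (le_of_sup_eq_top' ?_ hle hdisj h)
      intro k hk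
      apply mem_normalizer_of_conj_mem
      intro z hz
      rw [← hZK z hz k (hle hk), mul_inv_cancel_right]
      exact hz
    exact isNilpotent_of_le' le_sup_right (hA _ hne' (hpZ _ le_sup_left))
  have hsup : Z ⊔ K = ⊤ := by
    by_contra h
    exact hKn (isNilpotent_of_le' le_sup_right (hA _ h (hpZ _ le_sup_left)))
  have hKnorm : K.Normal := by
    rw [← Subgroup.normalizer_eq_top_iff, ← top_le_iff, ← hsup]
    refine sup_le ?_ Subgroup.le_normalizer
    intro z hz
    apply mem_normalizer_of_conj_mem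
    intro k hk
    rw [hZK z hz k hk, mul_inv_cancel_right]
    exact hk
  have hZnorm : Z.Normal := by
    rw [← Subgroup.normalizer_eq_top_iff, ← top_le_iff, ← hsup]
    refine sup_le Subgroup.le_normalizer ?_
    intro k hk
    apply mem_normalizer_of_conj_mem
    intro z hz
    rw [← hZK z hz k hk, mul_inv_cancel_right]
    exact hz
  refine ⟨Z, K, hZnorm, hKnorm, hdisj, hsup, hZcard, ⟨hKn, ?_⟩, hKp⟩
  intro H' hH'
  have h1 : Group.IsNilpotent ↥(H'.map K.subtype) := by
    apply hprop _ (Subgroup.map_subtype_le H')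
    intro h
    apply hH'
    rw [eq_top_iff]
    intro x _
    have hx : (x : G) ∈ H'.map K.subtype := by rw [h]; exact x.2
    obtain ⟨x', hx', hxx⟩ := hx
    have : x' = x := Subtype.ext hxx
    rwa [← this]
  haveI := h1
  exact Group.nilpotent_of_mulEquiv (H'.equivMapOfInjective K.subtype K.subtype_injective).symm

/-- main direction -/
theorem max_nilpotent_structure (hp : p.Prime) (hpG : p ∣ Nat.card G)
    (hH : ∀ M : Subgroup G, IsCoatom M → p ∣ Nat.card M → Group.IsNilpotent M)
    (hn : ¬ Group.IsNilpotent G) (hm : ¬ Cfsg.IsMinimalNonNilpotent G) :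
    ∃ Z K : Subgroup G, Z.Normal ∧ K.Normal ∧ Z ⊓ K = ⊥ ∧ Z ⊔ K = ⊤ ∧ Nat.card Z = p ∧
      Cfsg.IsMinimalNonNilpotent K ∧ ¬ p ∣ Nat.card K := by
  haveI := Fact.mk hp
  -- Claim A
  have hA : ∀ L : Subgroup G, L ≠ ⊤ → p ∣ Nat.card L → Group.IsNilpotent L := by
    intro L hL hpL
    obtain ⟨M, hM, hLM⟩ := (eq_top_or_exists_le_coatom L).resolve_left hL
    exact isNilpotent_of_le' hLM (hH M hM (hpL.trans (Subgroup.card_dvd_of_le hLM)))
  -- a non-nilpotent coatom
  obtain ⟨K, hK, hKn⟩ : ∃ K : Subgroup G, IsCoatom K ∧ ¬ Group.IsNilpotent K := by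
    unfold Cfsg.IsMinimalNonNilpotent at hm
    push_neg at hm
    obtain ⟨H₀, hH₀, hH₀n⟩ := hm hn
    obtain ⟨M, hM, hLM⟩ := (eq_top_or_exists_le_coatom H₀).resolve_left hH₀
    exact ⟨M, hM, fun h => hH₀n (isNilpotent_of_le' hLM h)⟩
  have hKp : ¬ p ∣ Nat.card K := fun h => hKn (hH K hK h)
  have hKord : ∀ k ∈ K, (orderOf k).Coprime p := by
    intro k hk
    rw [Nat.coprime_comm, Nat.Prime.coprime_iff_not_dvd hp]
    intro h
    apply hKp
    have : orderOf k ∣ Nat.card K := by
      have := orderOf_dvd_natCard (⟨k, hk⟩ : K)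
      rwa [Subgroup.orderOf_mk] at this
    exact h.trans this
  -- it suffices to find an element of order `p` centralizing `K`
  suffices h : ∃ y : G, orderOf y = p ∧ ∀ k ∈ K, y * k = k * y by
    obtain ⟨y, hy, hyK⟩ := h
    exact structure_of_central_elt hp hA K hK hKn hKp y hy hyK
  by_cases hN : ∃ N₀ : Subgroup G, N₀.Normal ∧ IsPGroup p N₀ ∧ N₀ ≠ ⊥
  · -- Case 1
    obtain ⟨N₀, hN₀n, hN₀p, hN₀⟩ := hN
    haveI := hN₀n
    have hpN : p ∣ Nat.card N₀ := by
      rcases hN₀p.card_eq_or_dvd with h | h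
      · exact absurd (Subgroup.card_eq_one.1 h) hN₀
      · exact h
    obtain ⟨⟨y, hyN⟩, hy⟩ := exists_prime_orderOf_dvd_card' p hpN
    rw [Subgroup.orderOf_mk] at hy
    refine ⟨y, hy, ?_⟩
    intro k hk
    have hcopNK : (Nat.card N₀).Coprime (Nat.card K) := by
      obtain ⟨n, hn⟩ := hN₀p.exists_card_eq
      rw [hn]
      exact Nat.Coprime.pow_left _ ((Nat.Prime.coprime_iff_not_dvd hp).2 hKp)
    have hdisj : N₀ ⊓ K = ⊥ := Subgroup.inf_eq_bot_of_coprime hcopNK
    have hne' : N₀ ⊔ Subgroup.zpowers k ≠ ⊤ := by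
      intro h
      apply hKn
      have hle : Subgroup.zpowers k ≤ K := by rw [Subgroup.zpowers_le]; exact hk
      have h1 : K ≤ Subgroup.zpowers k := by
        refine le_of_sup_eq_top' ?_ hle hdisj h
        rw [Subgroup.normalizer_eq_top_iff.2 hN₀n]
        exact le_top
      apply isNilpotent_of_forall_commute
      intro a ha b hb
      have ha := h1 ha
      have hb := h1 hb
      obtain ⟨m, rfl⟩ := Subgroup.mem_zpowers_iff.1 ha
      obtain ⟨n, rfl⟩ := Subgroup.mem_zpowers_iff.1 hb
      exact ((Commute.refl k).zpow_zpow m n).eq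
    have hLnil := hA _ hne' (hpN.trans (Subgroup.card_dvd_of_le le_sup_left))
    refine commute_of_mem_nilpotent hLnil (le_sup_left (a := N₀) hyN)
      ((le_sup_right : Subgroup.zpowers k ≤ _) (Subgroup.mem_zpowers k)) ?_
    rw [hy, Nat.coprime_comm]
    exact hKord k hk
  · -- Case 2: no nontrivial normal `p`-subgroup
    push_neg at hN
    obtain ⟨y, hy⟩ := exists_prime_orderOf_dvd_card' p hpG
    have hZp : IsPGroup p (Subgroup.zpowers y) := by
      apply IsPGroup.of_card (n := 1)
      rw [Nat.card_zpowers, hy, pow_one]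
    obtain ⟨P, hyP⟩ := hZp.exists_le_sylow
    have hyP' : y ∈ (P : Subgroup G) := hyP (Subgroup.mem_zpowers y)
    -- Frobenius
    have hfrob : ∀ Q : Subgroup G, Q ≤ (P : Subgroup G) → ∀ g ∈ Subgroup.normalizer (Q : Set G),
        Nat.Coprime (orderOf g) p → g ∈ Subgroup.centralizer (Q : Set G) := by
      intro Q hQP g hg hgp
      by_cases hQ : Q = ⊥
      · subst hQ
        rw [Subgroup.mem_centralizer_iff]
        intro x hx
        have : x = 1 := hx
        subst this
        simp
      · have hQp : IsPGroup p Q := P.isPGroup'.to_le hQP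
        have hNtop : Subgroup.normalizer (Q : Set G) ≠ ⊤ := by
          intro h
          exact hQ (hN Q (Subgroup.normalizer_eq_top_iff.1 h) hQp)
        have hpQ : p ∣ Nat.card Q := by
          rcases hQp.card_eq_or_dvd with h | h
          · exact absurd (Subgroup.card_eq_one.1 h) hQ
          · exact h
        have hNnil := hA _ hNtop (hpQ.trans (Subgroup.card_dvd_of_le Subgroup.le_normalizer))
        rw [Subgroup.mem_centralizer_iff]
        intro x hx
        have hxo : (orderOf x).Coprime (orderOf g) := by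
          obtain ⟨n, hn⟩ := (IsPGroup.iff_orderOf.1 hQp) ⟨x, hx⟩
          rw [Subgroup.orderOf_mk] at hn
          rw [hn]
          exact Nat.Coprime.pow_left _ hgp.symm
        exact commute_of_mem_nilpotent hNnil (Subgroup.le_normalizer hx) hg hxo
    obtain ⟨N, hNn, hNc⟩ := (Cfsg.Agent.S0071.result P).2 hfrob
    haveI := hNn
    have hKN : K ≤ N := by
      intro k hk
      rw [Cfsg.Agent.S0086.result P N hNc k]
      exact hKord k hk
    have hNtop : N ≠ ⊤ := by
      intro h
      have h1 := hNc.card_mul_card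
      rw [h, Subgroup.card_top] at h1
      have hpos : 0 < Nat.card G := Nat.card_pos
      have h2 : Nat.card (P : Subgroup G) = 1 := by
        have : Nat.card G * Nat.card (P : Subgroup G) = Nat.card G * 1 := by rw [h1, mul_one]
        exact Nat.eq_of_mul_eq_mul_left hpos this
      have : y = 1 := by
        have := (Subgroup.card_eq_one.1 h2) ▸ hyP'
        simpa using this
      rw [this, orderOf_one] at hy
      exact hp.one_lt.ne hy
    have hKeq : K = N := by
      by_contra h
      exact hNtop (hK.2 N (lt_of_le_of_ne hKN h))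
    subst hKeq
    -- `|P| = p`
    have hyK : y ∉ K := by
      intro h
      have := hKord y h
      rw [hy] at this
      exact hp.one_lt.ne' ((Nat.coprime_self p).1 this)
    have hsupy : Subgroup.zpowers y ⊔ K = ⊤ := by
      apply hK.2
      refine lt_of_le_of_ne le_sup_right ?_
      intro h
      apply hyK
      rw [h]
      exact (le_sup_left : Subgroup.zpowers y ≤ _) (Subgroup.mem_zpowers y)
    have hPcard : Nat.card (P : Subgroup G) = p := by
      have h1 := hNc.card_mul_card
      have h2 := card_sup_dvd_of_normal (Subgroup.zpowers y) K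
      rw [hsupy, Subgroup.card_top, ← h1, Nat.card_zpowers, hy, mul_comm] at h2
      have hpos : 0 < Nat.card K := Nat.card_pos
      have h3 : Nat.card (P : Subgroup G) ∣ p := Nat.dvd_of_mul_dvd_mul_right hpos h2
      rcases (Nat.dvd_prime hp).1 h3 with h | h
      · exfalso
        have : y = 1 := by
          have := (Subgroup.card_eq_one.1 h) ▸ hyP'
          simpa using this
        rw [this, orderOf_one] at hy
        exact hp.one_lt.ne hy
      · exact h
    have hPeq : (P : Subgroup G) = Subgroup.zpowers y := by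
      symm
      apply Subgroup.eq_of_le_of_card_ge hyP
      rw [hPcard, Nat.card_zpowers, hy]
    -- the centralizer of `y` contains a Sylow subgroup for every prime
    have hcent : Subgroup.centralizer ({y} : Set G) = ⊤ := by
      apply eq_top_of_forall_sylow_le
      intro q hq
      by_cases hqp : q = p
      · subst hqp
        refine ⟨P, ?_⟩
        rw [hPeq]
        intro x hx
        obtain ⟨m, rfl⟩ := Subgroup.mem_zpowers_iff.1 hx
        rw [Subgroup.mem_centralizer_iff]
        intro z hz
        rw [Set.mem_singleton_iff] at hz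
        subst hz
        exact ((Commute.refl z).zpow_right m).eq
      · obtain ⟨R⟩ : Nonempty (Sylow q G) := inferInstance
        have hRK : (R : Subgroup G) ≤ K := by
          intro x hx
          rw [Cfsg.Agent.S0086.result P K hNc x]
          obtain ⟨n, hn⟩ := (IsPGroup.iff_orderOf.1 R.isPGroup') ⟨x, hx⟩
          rw [Subgroup.orderOf_mk] at hn
          rw [hn]
          exact Nat.Coprime.pow_left _ ((Nat.coprime_primes hq.out hp).2 hqp)
        have hfr : Subgroup.normalizer ((R : Subgroup G) : Set G) ⊔ K = ⊤ :=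
          Sylow.normalizer_sup_eq_top' R hRK
        -- `p` divides the order of the normalizer
        have hpNR : p ∣ Nat.card (Subgroup.normalizer ((R : Subgroup G) : Set G)) := by
          have h2 := card_sup_dvd_of_normal (Subgroup.normalizer ((R : Subgroup G) : Set G)) K
          rw [hfr, Subgroup.card_top] at h2
          rcases (Nat.Prime.dvd_mul hp).1 (hpG.trans h2) with h | h
          · exact h
          · exact absurd h hKp
        obtain ⟨⟨y', hy'N⟩, hy'⟩ := exists_prime_orderOf_dvd_card' p hpNR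
        rw [Subgroup.orderOf_mk] at hy'
        -- `R ⊔ ⟨y'⟩` is proper
        have hy'K : y' ∉ K := by
          intro h
          have := hKord y' h
          rw [hy'] at this
          exact hp.one_lt.ne' ((Nat.coprime_self p).1 this)
        have hcopRZ : (Nat.card (Subgroup.zpowers y')).Coprime (Nat.card K) := by
          rw [Nat.card_zpowers, hy']
          exact (Nat.Prime.coprime_iff_not_dvd hp).2 hKp
        have hdisj' : Subgroup.zpowers y' ⊓ K = ⊥ := Subgroup.inf_eq_bot_of_coprime hcopRZ
        have hne' : (R : Subgroup G) ⊔ Subgroup.zpowers y' ≠ ⊤ := by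
          intro h
          apply hKn
          have h1 : K ≤ (R : Subgroup G) := by
            refine le_of_sup_eq_top ?_ hRK hdisj' h
            rw [Subgroup.zpowers_le]
            exact hy'N
          exact isNilpotent_of_le' h1 R.isPGroup'.isNilpotent
        have hLnil := hA _ hne' (by
          have : p ∣ Nat.card (Subgroup.zpowers y') := by rw [Nat.card_zpowers, hy']
          exact this.trans (Subgroup.card_dvd_of_le le_sup_right))
        have hy'R : ∀ x ∈ (R : Subgroup G), y' * x = x * y' := by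
          intro x hx
          refine commute_of_mem_nilpotent hLnil
            ((le_sup_right : Subgroup.zpowers y' ≤ _) (Subgroup.mem_zpowers y'))
            (le_sup_left (a := (R : Subgroup G)) hx) ?_
          rw [hy']
          obtain ⟨n, hn⟩ := (IsPGroup.iff_orderOf.1 R.isPGroup') ⟨x, hx⟩
          rw [Subgroup.orderOf_mk] at hn
          rw [hn]
          exact Nat.Coprime.pow_right _ ((Nat.coprime_primes hp hq.out).2 (Ne.symm hqp))
        -- conjugate `⟨y'⟩` to `⟨y⟩`
        have hZ'p : IsPGroup p (Subgroup.zpowers y') := by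
          apply IsPGroup.of_card (n := 1)
          rw [Nat.card_zpowers, hy', pow_one]
        obtain ⟨P', hy'P'⟩ := hZ'p.exists_le_sylow
        have hP'eq : (P' : Subgroup G) = Subgroup.zpowers y' := by
          symm
          apply Subgroup.eq_of_le_of_card_ge hy'P'
          rw [Nat.card_zpowers, hy']
          exact le_of_eq (((Sylow.card_eq_multiplicity P').trans (Sylow.card_eq_multiplicity P).symm).trans hPcard)
        obtain ⟨g, hg⟩ := MulAction.exists_smul_eq G P' P
        -- `g y' g⁻¹ ∈ P = ⟨y⟩`, so `y ∈ g ⟨y'⟩ g⁻¹`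
        have hyg : g⁻¹ * y * g ∈ (P' : Subgroup G) := by
          have : y ∈ ((g • P' : Sylow p G) : Subgroup G) := by rw [hg]; exact hyP'
          exact (mem_sylow_smul g y P').1 this
        rw [hP'eq] at hyg
        obtain ⟨m, hm⟩ := Subgroup.mem_zpowers_iff.1 hyg
        refine ⟨g • R, ?_⟩
        intro x hx
        have hx' : g⁻¹ * x * g ∈ (R : Subgroup G) := (mem_sylow_smul g x R).1 hx
        have h1 : y' ^ m * (g⁻¹ * x * g) = (g⁻¹ * x * g) * y' ^ m :=
          ((show Commute y' (g⁻¹ * x * g) from hy'R _ hx').zpow_left m).eq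
        rw [hm] at h1
        rw [Subgroup.mem_centralizer_iff]
        intro z hz
        rw [Set.mem_singleton_iff] at hz
        subst hz
        have h2 : g * (g⁻¹ * z * g * (g⁻¹ * x * g)) * g⁻¹ = g * ((g⁻¹ * x * g) * (g⁻¹ * z * g)) * g⁻¹ := by
          rw [h1]
        have e1 : g * (g⁻¹ * z * g * (g⁻¹ * x * g)) * g⁻¹ = z * x := by group
        have e2 : g * ((g⁻¹ * x * g) * (g⁻¹ * z * g)) * g⁻¹ = x * z := by group
        rw [e1, e2] at h2
        exact h2
    refine ⟨y, hy, ?_⟩
    intro k hk
    have : k ∈ Subgroup.centralizer ({y} : Set G) := by rw [hcent]; exact Subgroup.mem_top k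
    rw [Subgroup.mem_centralizer_iff] at this
    exact this y rfl

end maxNilp2

end Cfsg.Agent.H1
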