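import Mathlib
import Cfsg.Agent.H1.MinNonPClosed

set_option autoImplicit false
open scoped Pointwise commutatorElement

namespace Cfsg.Agent.H1

universe u

lemma sup_eq_top_of_index_prime {G : Type*} [Group G] [Finite G] (A H : Subgroup G) (hA : A.index.Prime)
    (hH : ¬ H ≤ A) : A ⊔ H = ⊤ := by
  have h1 : (A ⊔ H).index ∣ A.index := Subgroup.index_dvd_of_le le_sup_left
  rcases (Nat.dvd_prime hA).mp h1 with h2 | h2
  · exact Subgroup.index_eq_one.mp h2
  · exfalso; apply hH
    have h3 := Subgroup.card_mul_index A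
    have h4 := Subgroup.card_mul_index (A ⊔ H)
    rw [h2, ← h3] at h4
    have h5 : Nat.card (A ⊔ H : Subgroup G) = Nat.card A := Nat.eq_of_mul_eq_mul_right hA.pos h4
    have h6 : A = A ⊔ H := Subgroup.eq_of_le_of_card_ge le_sup_left h5.le
    rw [h6]; exact le_sup_right

/-- a group all of whose elements commute is `p`-closed -/
lemma isPClosed_of_comm {K : Type*} [Group K] (p : ℕ) (h : ∀ a b : K, a * b = b * a) : Cfsg.IsPClosed p K := by
  intro S
  constructor
  intro s hs g
  rw [h g s, mul_inv_cancel_right]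
  exact hs

end Cfsg.Agent.H1

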