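import Mathlib
import Cfsg.Prelude.Def_Transfer
import Cfsg.Prelude.Def_PLocal
import Cfsg.Agent.S0659
import Cfsg.Agent.H1.Splitting
import Cfsg.Agent.H1.ZJLocal
import Cfsg.Agent.Lib.Helper4.GT
import Cfsg.Agent.Lib.Lead.NormalPComplement

set_option autoImplicit false
set_option linter.style.haveILetI false
set_option linter.unusedVariables false

namespace Cfsg.Agent.H1

section nilmax

/-- a `p`-subgroup which is a Sylow subgroup of its normalizer is a Sylow subgroup of the group -/
theorem not_dvd_index_of_not_dvd_relIndex_normalizer {G : Type*} [Group G] [Finite G] {p : ℕ}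
    [Fact p.Prime] (Q : Subgroup G) (hQ : IsPGroup p Q)
    (h : ¬ p ∣ Q.relIndex (Subgroup.normalizer (Q : Set G))) : ¬ p ∣ Q.index := by
  intro hdvd
  obtain ⟨n, hn⟩ := IsPGroup.iff_card.mp hQ
  have h1 : p ^ (n + 1) ∣ Nat.card G := by
    rw [← Q.card_mul_index, hn, pow_succ]
    exact Nat.mul_dvd_mul_left _ hdvd
  have h2 := Sylow.prime_dvd_card_quotient_normalizer h1 hn
  apply h
  rw [← Subgroup.index_eq_card] at h2
  exact h2

universe u

theorem derivedSeries_le_of_isSolvable_quotient {G : Type*} [Group G] (K : Subgroup G) [K.Normal]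
    (h : Group.IsSolvable (G ⧸ K)) : ∃ n, derivedSeries G n ≤ K := by
  obtain ⟨n, hn⟩ := h.solvable
  refine ⟨n, ?_⟩
  have h1 := map_derivedSeries_le_derivedSeries (QuotientGroup.mk' K) n
  rw [hn, le_bot_iff] at h1
  intro x hx
  have h2 : QuotientGroup.mk' K x ∈ (derivedSeries G n).map (QuotientGroup.mk' K) :=
    Subgroup.mem_map_of_mem _ hx
  rw [h1, Subgroup.mem_bot, QuotientGroup.mk'_apply, QuotientGroup.eq_one_iff] at h2
  exact h2

theorem isSolvable_quotient_of_derivedSeries_le {G : Type*} [Group G] (K : Subgroup G) [K.Normal]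
    {n : ℕ} (h : derivedSeries G n ≤ K) : Group.IsSolvable (G ⧸ K) := by
  refine ⟨⟨n, ?_⟩⟩
  rw [← map_derivedSeries_eq (QuotientGroup.mk'_surjective K) n, eq_bot_iff]
  rintro _ ⟨x, hx, rfl⟩
  rw [Subgroup.mem_bot, QuotientGroup.mk'_apply, QuotientGroup.eq_one_iff]
  exact h hx

/-- **Thompson**: a finite group with a nilpotent maximal subgroup of odd order is solvable -/
theorem isSolvable_of_nilpotent_maximal_odd_aux :
    ∀ n : ℕ, ∀ (G : Type u) [Group G] [Finite G], Nat.card G = n → ∀ M : Subgroup G, IsCoatom M →
      Group.IsNilpotent ↥M → Odd (Nat.card ↥M) → Group.IsSolvable G := by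
  intro n
  induction n using Nat.strong_induction_on with
  | _ n ih =>
  intro G _ _ hn M hmax hnil hodd
  haveI := hnil
  by_cases hA : ∃ N : Subgroup G, N.Normal ∧ N ≠ ⊥ ∧ N ≤ M
  · -- pass to the quotient
    obtain ⟨N, hNn, hNb, hNM⟩ := hA
    haveI := hNn
    have hs := QuotientGroup.mk'_surjective N
    have hlt : Nat.card (G ⧸ N) < n := by
      rw [← hn]; exact Cfsg.Agent.Lib.Helper4.GT.card_quotient_lt N hNb
    have hcomap : (M.map (QuotientGroup.mk' N)).comap (QuotientGroup.mk' N) = M := by
      rw [Subgroup.comap_map_eq, QuotientGroup.ker_mk']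
      exact sup_eq_left.mpr hNM
    have hcoatom : IsCoatom (M.map (QuotientGroup.mk' N)) := by
      constructor
      · intro htop
        apply hmax.1
        rw [← hcomap, htop, Subgroup.comap_top]
      · intro L hL
        have h1 : M ≤ L.comap (QuotientGroup.mk' N) := by
          rw [← hcomap]; exact Subgroup.comap_mono hL.le
        have h2 : L.comap (QuotientGroup.mk' N) ≠ M := by
          intro h3
          apply hL.ne
          rw [← Subgroup.map_comap_eq_self_of_surjective hs L, h3]
        have h4 : L.comap (QuotientGroup.mk' N) = ⊤ := hmax.2 _ (lt_of_le_of_ne h1 (Ne.symm h2))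
        rw [← Subgroup.map_comap_eq_self_of_surjective hs L, h4, Subgroup.map_top_of_surjective _ hs]
    have hsurj : Function.Surjective ((QuotientGroup.mk' N).subgroupMap M) :=
      (QuotientGroup.mk' N).subgroupMap_surjective M
    have hnil' : Group.IsNilpotent ↥(M.map (QuotientGroup.mk' N)) :=
      Group.nilpotent_of_surjective _ hsurj
    have hodd' : Odd (Nat.card ↥(M.map (QuotientGroup.mk' N))) :=
      Odd.of_dvd_nat hodd (Subgroup.card_map_dvd M (QuotientGroup.mk' N))
    haveI : Group.IsSolvable (G ⧸ N) := ih _ hlt (G ⧸ N) rfl _ hcoatom hnil' hodd'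
    haveI : Group.IsSolvable ↥N :=
      Group.isSolvable_of_isSolvable_injective (Subgroup.inclusion_injective hNM)
    apply Group.isSolvable_of_ker_le_range N.subtype (QuotientGroup.mk' N)
    rw [QuotientGroup.ker_mk', Subgroup.range_subtype]
  · -- the core of `M` is trivial
    have hcore : ∀ N : Subgroup G, N.Normal → N ≤ M → N = ⊥ := by
      intro N hN1 hN2
      by_contra hN3
      exact hA ⟨N, hN1, hN3, hN2⟩
    by_cases hMb : M = ⊥
    · -- `G` is cyclic
      apply Group.isSolvable_of_comm
      intro a b
      by_cases ha : a = 1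
      · rw [ha, one_mul, mul_one]
      · have h1 : (⊥ : Subgroup G) < Subgroup.zpowers a := by
          rw [bot_lt_iff_ne_bot]
          intro h2
          exact ha (Subgroup.zpowers_eq_bot.mp h2)
        have h3 : Subgroup.zpowers a = ⊤ := hmax.2 _ (hMb ▸ h1)
        have hb : b ∈ Subgroup.zpowers a := by rw [h3]; exact Subgroup.mem_top b
        obtain ⟨k, rfl⟩ := hb
        exact (Commute.self_zpow a k).eq
    · -- normal `p`-complements for the primes dividing `|M|`
      have key : ∀ p ∈ (Nat.card ↥M).primeFactors, ∃ K : Subgroup G, K.Normal ∧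
          (Nat.card ↥K).Coprime p ∧ ∃ k : ℕ, K.index = p ^ k := by
        intro p hp
        have hpp : p.Prime := Nat.prime_of_mem_primeFactors hp
        have hpd : p ∣ Nat.card ↥M := Nat.dvd_of_mem_primeFactors hp
        haveI : Fact p.Prime := ⟨hpp⟩
        have hp2 : p ≠ 2 := by
          rintro rfl
          exact (Nat.not_even_iff_odd.mpr hodd) (even_iff_two_dvd.mpr hpd)
        have PM : Sylow p ↥M := default
        haveI hPMn : (PM : Subgroup ↥M).Normal := inferInstance
        obtain ⟨Q, hQdef⟩ : ∃ Q : Subgroup G, Q = (PM : Subgroup ↥M).map M.subtype := ⟨_, rfl⟩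
        have hQp : IsPGroup p ↥Q := by rw [hQdef]; exact PM.isPGroup'.map _
        have hQM : Q ≤ M := by rw [hQdef]; exact Subgroup.map_subtype_le _
        have hQne : Q ≠ ⊥ := by
          rw [hQdef]
          intro h1
          exact PM.ne_bot_of_dvd_card hpd
            ((Subgroup.map_eq_bot_iff_of_injective _ M.subtype_injective).mp h1)
        have hMNQ : M ≤ Subgroup.normalizer (Q : Set G) := by
          rw [hQdef]; exact le_normalizer_map_subtype_of_normal M (PM : Subgroup ↥M)
        have hNQ : Subgroup.normalizer (Q : Set G) = M := by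
          rcases hmax.le_iff.mp hMNQ with h1 | h1
          · exfalso
            exact hQne (hcore Q (Subgroup.normalizer_eq_top_iff.mp h1) hQM)
          · exact h1
        have hidx : ¬ p ∣ Q.index := by
          apply not_dvd_index_of_not_dvd_relIndex_normalizer Q hQp
          rw [hNQ, hQdef]
          have h1 : ((PM : Subgroup ↥M).map M.subtype).relIndex M = (PM : Subgroup ↥M).index := by
            unfold Subgroup.relIndex Subgroup.subgroupOf
            rw [Subgroup.comap_map_eq_self_of_injective M.subtype_injective]
          rw [h1]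
          exact PM.not_dvd_index
        obtain ⟨PG, hPG⟩ : ∃ PG : Sylow p G, (PG : Subgroup G) = Q :=
          ⟨hQp.toSylow hidx, IsPGroup.toSylow_coe _ _⟩
        have hNW : Subgroup.normalizer (Cfsg.centerThompsonAOf Q : Set G) = M := by
          have h1 : M ≤ Subgroup.normalizer (Cfsg.centerThompsonAOf Q : Set G) :=
            hMNQ.trans (normalizer_le_normalizer_zj Q)
          rcases hmax.le_iff.mp h1 with h2 | h2
          · exfalso
            exact zj_ne_bot Q hQp hQne (hcore _ (Subgroup.normalizer_eq_top_iff.mp h2)
              ((centerThompsonAOf_le Q).trans hQM))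
          · exact h2
        have h3 : Cfsg.HasNormalPComplement p
            ↥(Subgroup.normalizer (Cfsg.centerThompsonAOf (PG : Subgroup G) : Set G)) := by
          rw [hPG, hNW]
          exact hasNormalPComplement_of_isNilpotent p
        have h4 := Cfsg.Agent.S0659.result hp2 PG h3
        rw [Cfsg.Agent.Lib.Lead.NormalPComplement.hasNormalPComplement_iff] at h4
        exact h4
      choose Kf hKf using key
      obtain ⟨K, hKdef⟩ : ∃ K : Subgroup G,
          K = ⨅ q : {q // q ∈ (Nat.card ↥M).primeFactors}, Kf q.1 q.2 := ⟨_, rfl⟩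
      haveI hKn : K.Normal := by
        rw [hKdef]
        exact Subgroup.normal_iInf_normal (fun q => (hKf q.1 q.2).1)
      have hKle : ∀ q (hq : q ∈ (Nat.card ↥M).primeFactors), K ≤ Kf q hq := by
        intro q hq
        rw [hKdef]
        exact iInf_le (fun q : {q // q ∈ (Nat.card ↥M).primeFactors} => Kf q.1 q.2) ⟨q, hq⟩
      -- `K ∩ M = 1`
      have hKM : K ⊓ M = ⊥ := by
        rw [eq_bot_iff]
        intro y hy
        rw [Subgroup.mem_inf] at hy
        rw [Subgroup.mem_bot]
        by_contra hy1
        have hord : orderOf y ≠ 1 := fun h => hy1 (orderOf_eq_one_iff.mp h)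
        obtain ⟨q, hq, hqd⟩ := Nat.exists_prime_and_dvd hord
        have hyM : orderOf y ∣ Nat.card ↥M := by
          have h1 := orderOf_dvd_natCard (⟨y, hy.2⟩ : ↥M)
          rwa [Subgroup.orderOf_mk] at h1
        have hqM : q ∈ (Nat.card ↥M).primeFactors :=
          Nat.mem_primeFactors.mpr ⟨hq, hqd.trans hyM, Nat.card_pos.ne'⟩
        have hyK : y ∈ Kf q hqM := hKle q hqM hy.1
        have hyK' : orderOf y ∣ Nat.card ↥(Kf q hqM) := by
          have h1 := orderOf_dvd_natCard (⟨y, hyK⟩ : ↥(Kf q hqM))
          rwa [Subgroup.orderOf_mk] at h1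
        have hcop := (hKf q hqM).2.1
        exact (Nat.Prime.coprime_iff_not_dvd hq).mp hcop.symm (hqd.trans hyK')
      -- a central element of `M` of prime order
      haveI : Nontrivial ↥M := (Subgroup.nontrivial_iff_ne_bot M).mpr hMb
      have hZne := Group.IsNilpotent.center_ne_bot (G := ↥M)
      obtain ⟨r, hr, hrd⟩ : ∃ r, r.Prime ∧ r ∣ Nat.card ↥(Subgroup.center ↥M) := by
        apply Nat.exists_prime_and_dvd
        intro h1
        exact hZne (Subgroup.card_eq_one.mp h1)
      haveI : Fact r.Prime := ⟨hr⟩
      obtain ⟨z, hz⟩ := exists_prime_orderOf_dvd_card' r hrd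
      obtain ⟨x, hxdef⟩ : ∃ x : G, x = ((z : ↥M) : G) := ⟨_, rfl⟩
      have hxM : x ∈ M := by rw [hxdef]; exact (z : ↥M).2
      have hxr : x ^ r = 1 := by
        have h1 : z ^ r = 1 := by rw [← hz]; exact pow_orderOf_eq_one z
        have h2 := congrArg (fun w : ↥(Subgroup.center ↥M) => ((w : ↥M) : G)) h1
        simpa [hxdef] using h2
      have hx1 : x ≠ 1 := by
        intro h1
        have h2 : z = 1 := by
          apply Subtype.ext
          apply Subtype.ext
          rw [← hxdef, h1]; rfl
        rw [h2, orderOf_one] at hz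
        exact hr.one_lt.ne hz
      have hxc : ∀ m ∈ M, m * x = x * m := by
        intro m hm
        have h1 := Subgroup.mem_center_iff.mp z.2 ⟨m, hm⟩
        have h2 := congrArg Subtype.val h1
        rw [hxdef]; exact h2
      -- `x` acts without fixed points on `K`
      have hfpf : ∀ k : ↥K, (MulAut.conjNormal x : MulAut ↥K) k = k → k = 1 := by
        intro k hk
        have hk' : x * (k : G) * x⁻¹ = k := by
          have h1 := congrArg Subtype.val hk
          rw [MulAut.conjNormal_apply] at h1
          exact h1
        obtain ⟨C, hCdef⟩ : ∃ C : Subgroup G, C = K ⊓ Subgroup.centralizer {x} := ⟨_, rfl⟩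
        have hkC : (k : G) ∈ C := by
          rw [hCdef, Subgroup.mem_inf]
          refine ⟨k.2, ?_⟩
          rw [Subgroup.mem_centralizer_iff]
          intro y hy
          rw [Set.mem_singleton_iff.mp hy]
          calc x * (k : G) = x * (k : G) * x⁻¹ * x := by group
            _ = (k : G) * x := by rw [hk']
        rcases hmax.le_iff.mp (le_sup_left : M ≤ M ⊔ C) with h1 | h1
        · -- `x` is central in `G`
          exfalso
          have hxcent : ∀ g : G, g * x = x * g := by
            intro g
            have hg : g ∈ M ⊔ C := by rw [h1]; exact Subgroup.mem_top g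
            have hle : M ⊔ C ≤ Subgroup.centralizer {x} := by
              apply sup_le
              · intro m hm
                rw [Subgroup.mem_centralizer_iff]
                intro y hy
                rw [Set.mem_singleton_iff.mp hy]
                exact (hxc m hm).symm
              · rw [hCdef]; exact inf_le_right
            have h2 := Subgroup.mem_centralizer_iff.mp (hle hg) x rfl
            exact h2.symm
          have hzn : (Subgroup.zpowers x).Normal := by
            constructor
            intro y hy g
            obtain ⟨j, rfl⟩ := hy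
            have e : g * x ^ j * g⁻¹ = x ^ j := by
              have hc : Commute g x := hxcent g
              have h3 : g * x ^ j = x ^ j * g := (hc.zpow_right j).eq
              rw [h3, mul_inv_cancel_right]
            rw [e]; exact Subgroup.zpow_mem_zpowers x j
          have h4 := hcore _ hzn (Subgroup.zpowers_le.mpr hxM)
          exact hx1 (Subgroup.zpowers_eq_bot.mp h4)
        · have hCM : C ≤ M := by rw [← h1]; exact le_sup_right
          have h5 : (k : G) ∈ K ⊓ M := Subgroup.mem_inf.mpr ⟨k.2, hCM hkC⟩
          rw [hKM, Subgroup.mem_bot] at h5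
          exact Subtype.ext h5
      have hα : (MulAut.conjNormal x : MulAut ↥K) ^ r = 1 := by
        rw [← map_pow, hxr, map_one]
      haveI hKnil : Group.IsNilpotent ↥K :=
        splits_isNilpotent hr _ (splits_of_fixedPointFree (MulAut.conjNormal x : MulAut ↥K) hα hfpf)
      -- `G ⧸ K` is solvable
      have hder : ∀ q (hq : q ∈ (Nat.card ↥M).primeFactors), ∃ m, derivedSeries G m ≤ Kf q hq := by
        intro q hq
        obtain ⟨hn', -, k, hk⟩ := hKf q hq
        haveI := hn'
        haveI : Fact q.Prime := ⟨Nat.prime_of_mem_primeFactors hq⟩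
        have hpg : IsPGroup q (G ⧸ Kf q hq) := by
          apply IsPGroup.of_card (n := k)
          rw [← Subgroup.index_eq_card, hk]
        haveI : Group.IsNilpotent (G ⧸ Kf q hq) := hpg.isNilpotent
        exact derivedSeries_le_of_isSolvable_quotient _ inferInstance
      choose mf hmf using hder
      obtain ⟨m₀, hm₀⟩ : ∃ m₀, ∀ q (hq : q ∈ (Nat.card ↥M).primeFactors), mf q hq ≤ m₀ := by
        refine ⟨((Nat.card ↥M).primeFactors.attach.sup (fun q => mf q.1 q.2)), ?_⟩
        intro q hq
        exact Finset.le_sup (f := fun q : {q // q ∈ (Nat.card ↥M).primeFactors} => mf q.1 q.2)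
          (Finset.mem_attach _ ⟨q, hq⟩)
      have hderK : derivedSeries G m₀ ≤ K := by
        rw [hKdef]
        apply le_iInf
        intro q
        exact (derivedSeries_antitone G (hm₀ q.1 q.2)).trans (hmf q.1 q.2)
      haveI : Group.IsSolvable (G ⧸ K) := isSolvable_quotient_of_derivedSeries_le K hderK
      apply Group.isSolvable_of_ker_le_range K.subtype (QuotientGroup.mk' K)
      rw [QuotientGroup.ker_mk', Subgroup.range_subtype]

theorem isSolvable_of_nilpotent_maximal_odd {G : Type u} [Group G] [Finite G] (M : Subgroup G)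
    (hmax : IsCoatom M) (hnil : Group.IsNilpotent ↥M) (hodd : Odd (Nat.card ↥M)) :
    Group.IsSolvable G :=
  isSolvable_of_nilpotent_maximal_odd_aux (Nat.card G) G rfl M hmax hnil hodd

end nilmax

end Cfsg.Agent.H1
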