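import Mathlib
import Cfsg.Agent.H1.MaxNilpotent
import Cfsg.Agent.H1.CentMax
import Cfsg.Prelude.Def_Transfer

set_option autoImplicit false

namespace Cfsg.Agent.H1.NilpCover

open scoped Pointwise

variable {G : Type*} [Group G]

/-- a minimal cover by proper subgroups, all of them nilpotent -/
structure IsCover (𝓐 : Finset (Subgroup G)) : Prop where
  proper : ∀ A ∈ 𝓐, A ≠ ⊤
  cover : ∀ g : G, ∃ A ∈ 𝓐, g ∈ A
  minimal : ∀ 𝓑 : Finset (Subgroup G),
    (∀ A ∈ 𝓑, A ≠ ⊤) ∧ (∀ g : G, ∃ A ∈ 𝓑, g ∈ A) → 𝓐.card ≤ 𝓑.card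
  nilp : ∀ A ∈ 𝓐, Group.IsNilpotent ↥A

/-- a proper subgroup contains at most one member of a minimal cover -/
theorem IsCover.eq_of_le {𝓐 : Finset (Subgroup G)} (h : IsCover 𝓐) {M : Subgroup G} (hM : M ≠ ⊤)
    {A B : Subgroup G} (hA : A ∈ 𝓐) (hB : B ∈ 𝓐) (hAM : A ≤ M) (hBM : B ≤ M) : A = B := by
  classical
  by_contra hne
  have h1 : 𝓐.card ≤ (insert M (𝓐.filter (fun C => ¬ C ≤ M))).card := by
    apply h.minimal
    constructor
    · intro C hC
      rcases Finset.mem_insert.mp hC with rfl | hC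
      · exact hM
      · exact h.proper C (Finset.mem_filter.mp hC).1
    · intro g
      obtain ⟨C, hC, hgC⟩ := h.cover g
      by_cases hCM : C ≤ M
      · exact ⟨M, Finset.mem_insert_self _ _, hCM hgC⟩
      · exact ⟨C, Finset.mem_insert_of_mem (Finset.mem_filter.mpr ⟨hC, hCM⟩), hgC⟩
  have h2 : (insert M (𝓐.filter (fun C => ¬ C ≤ M))).card ≤
      (𝓐.filter (fun C => ¬ C ≤ M)).card + 1 := Finset.card_insert_le _ _
  have h3 : (𝓐.filter (fun C => C ≤ M)).card + (𝓐.filter (fun C => ¬ C ≤ M)).card = 𝓐.card :=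
    Finset.card_filter_add_card_filter_not _
  have h4 : 2 ≤ (𝓐.filter (fun C => C ≤ M)).card := by
    have hsub : ({A, B} : Finset (Subgroup G)) ⊆ 𝓐.filter (fun C => C ≤ M) := by
      intro C hC
      rcases Finset.mem_insert.mp hC with rfl | hC
      · exact Finset.mem_filter.mpr ⟨hA, hAM⟩
      · rw [Finset.mem_singleton] at hC; subst hC
        exact Finset.mem_filter.mpr ⟨hB, hBM⟩
    calc 2 = ({A, B} : Finset (Subgroup G)).card := (Finset.card_pair hne).symm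
      _ ≤ _ := Finset.card_le_card hsub
  omega

/-- splitting an element into its `p`-part and `p'`-part -/
theorem exists_p_decomp [Finite G] (p : ℕ) [hp : Fact p.Prime] (c : G) :
    ∃ c₁ c₂ : G, c₁ ∈ Subgroup.zpowers c ∧ c₂ ∈ Subgroup.zpowers c ∧ c = c₁ * c₂ ∧
      (∃ k, orderOf c₁ = p ^ k) ∧ (orderOf c₂).Coprime p := by
  set n := orderOf c with hn
  have hn0 : n ≠ 0 := (orderOf_pos c).ne'
  set k := n.factorization p with hk
  set m := n / p ^ k with hm
  have hnm : p ^ k * m = n := Nat.ordProj_mul_ordCompl_eq_self n p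
  have hcop : Nat.Coprime (p ^ k) m := (Nat.coprime_ordCompl hp.out hn0).pow_left k
  obtain ⟨u, v, huv⟩ := Nat.isCoprime_iff_coprime.mpr hcop
  refine ⟨c ^ (v * (m : ℤ)), c ^ (u * ((p ^ k : ℕ) : ℤ)), ⟨_, rfl⟩, ⟨_, rfl⟩, ?_, ?_, ?_⟩
  · rw [← zpow_add, add_comm, huv, zpow_one]
  · have h1 : (c ^ (v * (m : ℤ))) ^ (p ^ k) = 1 := by
      rw [← zpow_natCast, ← zpow_mul, mul_assoc, mul_comm (m : ℤ), ← Nat.cast_mul, hnm, mul_comm,
        zpow_mul, zpow_natCast, hn, pow_orderOf_eq_one, one_zpow]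
    exact (Nat.dvd_prime_pow hp.out).mp (orderOf_dvd_of_pow_eq_one h1) |>.imp fun j hj => hj.2
  · have h1 : (c ^ (u * ((p ^ k : ℕ) : ℤ))) ^ m = 1 := by
      rw [← zpow_natCast, ← zpow_mul, mul_assoc, ← Nat.cast_mul, hnm, mul_comm,
        zpow_mul, zpow_natCast, hn, pow_orderOf_eq_one, one_zpow]
    have h2 : orderOf (c ^ (u * ((p ^ k : ℕ) : ℤ))) ∣ m := orderOf_dvd_of_pow_eq_one h1
    exact Nat.Coprime.coprime_dvd_left h2 (Nat.coprime_ordCompl hp.out hn0).symm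

/-- a `p`-element normalizing a Sylow `p`-subgroup lies in it -/
theorem mem_sylow_of_normalizer {p : ℕ} [Fact p.Prime] (P : Sylow p G) {y : G}
    (hy : y ∈ Subgroup.normalizer ((P : Subgroup G) : Set G)) (hyp : ∃ k, orderOf y = p ^ k) :
    y ∈ (P : Subgroup G) := by
  obtain ⟨k, hk⟩ := hyp
  have h1 : IsPGroup p ↥(Subgroup.zpowers y) := by
    apply IsPGroup.of_card (n := k)
    rw [Nat.card_zpowers, hk]
  have h2 : IsPGroup p ↥(Subgroup.zpowers y ⊔ (P : Subgroup G)) :=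
    h1.to_sup_of_normal_right' P.2 ((Subgroup.zpowers_le).mpr hy)
  have h3 := P.is_maximal' h2 le_sup_right
  rw [← h3]
  exact Subgroup.mem_sup_left (Subgroup.mem_zpowers y)

/-- in a finite nilpotent group the `p`-elements lie in every Sylow `p`-subgroup -/
theorem mem_sylow_of_nilpotent {X : Type*} [Group X] [Finite X] [Group.IsNilpotent X] {r : ℕ}
    [Fact r.Prime] (R : Sylow r X) (w : X) (hw : ∃ a, orderOf w = r ^ a) : w ∈ R := by
  obtain ⟨a, ha⟩ := hw
  have h1 : IsPGroup r ↥(Subgroup.zpowers w) := by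
    apply IsPGroup.of_card (n := a)
    rw [Nat.card_zpowers, ha]
  obtain ⟨R', hR'⟩ := h1.exists_le_sylow
  obtain ⟨g, hg⟩ := MulAction.exists_smul_eq X R R'
  rw [Sylow.smul_eq_of_normal] at hg
  rw [hg]
  exact hR' (Subgroup.mem_zpowers w)

section Main

variable [Finite G] {p : ℕ} [hp : Fact p.Prime]

/-- if one Sylow `p`-subgroup is abelian then all `p`-subgroups are -/
theorem comm_of_isPGroup (P : Sylow p G)
    (hab : ∀ a ∈ (P : Subgroup G), ∀ b ∈ (P : Subgroup G), a * b = b * a)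
    (Q : Subgroup G) (hQ : IsPGroup p Q) : ∀ a ∈ Q, ∀ b ∈ Q, a * b = b * a := by
  intro a ha b hb
  obtain ⟨P', hQP'⟩ := hQ.exists_le_sylow
  obtain ⟨g, hg⟩ := MulAction.exists_smul_eq G P P'
  have ha' : a ∈ ((g • P : Sylow p G) : Subgroup G) := hg ▸ hQP' ha
  have hb' : b ∈ ((g • P : Sylow p G) : Subgroup G) := hg ▸ hQP' hb
  have key : ∀ x, x ∈ ((g • P : Sylow p G) : Subgroup G) → g⁻¹ * x * g ∈ (P : Subgroup G) := by
    intro x hx
    rw [Sylow.coe_subgroup_smul, Subgroup.mem_pointwise_smul_iff_inv_smul_mem] at hx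
    simpa [MulAut.smul_def, MulAut.conj_inv_apply] using hx
  have h1 := hab _ (key a ha') _ (key b hb')
  have h2 : g⁻¹ * a * g * (g⁻¹ * b * g) = g⁻¹ * (a * b) * g := by group
  have h3 : g⁻¹ * b * g * (g⁻¹ * a * g) = g⁻¹ * (b * a) * g := by group
  rw [h2, h3] at h1
  exact mul_left_cancel (mul_right_cancel h1)

/-- a `p`-element of a nilpotent subgroup commutes with the whole subgroup, when `p`-subgroups
are abelian -/
theorem comm_of_pElement
    (habp : ∀ Q : Subgroup G, IsPGroup p Q → ∀ a ∈ Q, ∀ b ∈ Q, a * b = b * a)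
    {A : Subgroup G} (hA : Group.IsNilpotent A) {x : G} (hxA : x ∈ A)
    (hx : ∃ k, orderOf x = p ^ k) : ∀ a ∈ A, x * a = a * x := by
  intro a ha
  obtain ⟨a₁, a₂, ha₁, ha₂, haeq, hk₁, hcop⟩ := exists_p_decomp p a
  have hle : Subgroup.zpowers a ≤ A := (Subgroup.zpowers_le).mpr ha
  have ha₁A : a₁ ∈ A := hle ha₁
  have ha₂A : a₂ ∈ A := hle ha₂
  have h2 : x * a₂ = a₂ * x := by
    apply commute_of_mem_nilpotent hA hxA ha₂A
    obtain ⟨k, hk⟩ := hx
    rw [hk]
    exact (Nat.Coprime.pow_right k hcop).symm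
  haveI := hA
  obtain ⟨S⟩ : Nonempty (Sylow p ↥A) := inferInstance
  have hxS : (⟨x, hxA⟩ : ↥A) ∈ S :=
    mem_sylow_of_nilpotent S _ (by rw [Subgroup.orderOf_mk]; exact hx)
  have ha₁S : (⟨a₁, ha₁A⟩ : ↥A) ∈ S :=
    mem_sylow_of_nilpotent S _ (by rw [Subgroup.orderOf_mk]; exact hk₁)
  have hQ : IsPGroup p ((S : Subgroup ↥A).map A.subtype) := S.2.map _
  have h1 : x * a₁ = a₁ * x :=
    habp _ hQ x ⟨⟨x, hxA⟩, hxS, rfl⟩ a₁ ⟨⟨a₁, ha₁A⟩, ha₁S, rfl⟩
  rw [haeq, ← mul_assoc, h1, mul_assoc, h2, mul_assoc]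

variable {𝓐 : Finset (Subgroup G)}

/-- a nontrivial `p`-element lies in exactly one member of the cover -/
theorem IsCover.uniq (h : IsCover 𝓐) (hZ : Subgroup.center G = ⊥) (P : Sylow p G)
    (hab : ∀ a ∈ (P : Subgroup G), ∀ b ∈ (P : Subgroup G), a * b = b * a)
    {x : G} (hx1 : x ≠ 1) (hxp : ∃ k, orderOf x = p ^ k) {A B : Subgroup G}
    (hA : A ∈ 𝓐) (hB : B ∈ 𝓐) (hxA : x ∈ A) (hxB : x ∈ B) : A = B := by
  have habp := comm_of_isPGroup P hab
  have hM : Subgroup.centralizer ({x} : Set G) ≠ ⊤ := by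
    intro h'
    apply hx1
    have : x ∈ Subgroup.center G := by
      rw [Subgroup.mem_center_iff]
      intro g
      have hg : g ∈ Subgroup.centralizer ({x} : Set G) := h' ▸ Subgroup.mem_top g
      exact Subgroup.mem_centralizer_singleton_iff.mp hg
    rw [hZ] at this
    exact Subgroup.mem_bot.mp this
  refine h.eq_of_le hM hA hB ?_ ?_
  · intro a ha
    rw [Subgroup.mem_centralizer_singleton_iff]
    exact (comm_of_pElement habp (h.nilp A hA) hxA hxp a ha).symm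
  · intro a ha
    rw [Subgroup.mem_centralizer_singleton_iff]
    exact (comm_of_pElement habp (h.nilp B hB) hxB hxp a ha).symm

theorem orderOf_of_mem_sylow (P : Sylow p G) {x : G} (hx : x ∈ (P : Subgroup G)) :
    ∃ k, orderOf x = p ^ k := by
  obtain ⟨k, hk⟩ := P.2 ⟨x, hx⟩
  have h1 : x ^ p ^ k = 1 := congrArg Subtype.val hk
  obtain ⟨j, -, hj⟩ := (Nat.dvd_prime_pow hp.out).mp (orderOf_dvd_of_pow_eq_one h1)
  exact ⟨j, hj⟩

/-- if no member contains the abelian Sylow subgroup `P`, then `P` has exponent `p` and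
order larger than `p` -/
theorem IsCover.exponent_of_not_le (h : IsCover 𝓐) (hZ : Subgroup.center G = ⊥) (P : Sylow p G)
    (hab : ∀ a ∈ (P : Subgroup G), ∀ b ∈ (P : Subgroup G), a * b = b * a)
    (hPne : (P : Subgroup G) ≠ ⊥)
    (hno : ∀ A ∈ 𝓐, ¬ (P : Subgroup G) ≤ A) :
    (∀ x ∈ (P : Subgroup G), x ^ p = 1) ∧ p < Nat.card (P : Subgroup G) := by
  have hexp : ∀ x ∈ (P : Subgroup G), x ^ p = 1 := by
    intro x hxP
    by_contra hxp
    obtain ⟨A, hA, hxA⟩ := h.cover x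
    obtain ⟨y, hyP, hyA⟩ := SetLike.not_le_iff_exists.mp (hno A hA)
    obtain ⟨B, hB, hyB⟩ := h.cover y
    have hy1 : y ≠ 1 := fun h1 => hyA (h1 ▸ A.one_mem)
    -- a power of `y` of order `p`
    obtain ⟨k, hk⟩ := orderOf_of_mem_sylow P hyP
    have hk0 : k ≠ 0 := by
      intro h0
      rw [h0, pow_zero, orderOf_eq_one_iff] at hk
      exact hy1 hk
    have hpy : p ∣ orderOf y := by rw [hk]; exact dvd_pow_self p hk0
    obtain ⟨y₁, hy₁z, hy₁o⟩ := CentMax.exists_prime_order_pow hp.out hpy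
    have hy₁P : y₁ ∈ (P : Subgroup G) := ((Subgroup.zpowers_le).mpr hyP) hy₁z
    have hy₁B : y₁ ∈ B := ((Subgroup.zpowers_le).mpr hyB) hy₁z
    have hy₁1 : y₁ ≠ 1 := by
      intro h1
      rw [h1, orderOf_one] at hy₁o
      exact hp.out.ne_one hy₁o.symm
    have hy₁p : ∃ k, orderOf y₁ = p ^ k := ⟨1, by rw [hy₁o, pow_one]⟩
    have hAB : A ≠ B := fun hAB => hyA (hAB ▸ hyB)
    have hy₁A : y₁ ∉ A := fun hy₁A => hAB (h.uniq hZ P hab hy₁1 hy₁p hA hB hy₁A hy₁B)
    -- the product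
    obtain ⟨C, hC, hxyC⟩ := h.cover (x * y₁)
    have hcomm : Commute x y₁ := hab x hxP y₁ hy₁P
    have hpow : (x * y₁) ^ p = x ^ p := by
      rw [hcomm.mul_pow, ← hy₁o, pow_orderOf_eq_one, mul_one]
    have hxpC : x ^ p ∈ C := hpow ▸ C.pow_mem hxyC p
    have hxpA : x ^ p ∈ A := A.pow_mem hxA p
    have hxpp : ∃ k, orderOf (x ^ p) = p ^ k :=
      orderOf_of_mem_sylow P ((P : Subgroup G).pow_mem hxP p)
    have hCA : C = A := h.uniq hZ P hab hxp hxpp hC hA hxpC hxpA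
    apply hy₁A
    have : y₁ = x⁻¹ * (x * y₁) := by group
    rw [this]
    exact A.mul_mem (A.inv_mem hxA) (hCA ▸ hxyC)
  refine ⟨hexp, ?_⟩
  -- the order of `P` is not `p`
  obtain ⟨n, hn⟩ := P.2.exists_card_eq
  have hn0 : n ≠ 0 := by
    intro h0
    rw [h0, pow_zero] at hn
    exact hPne (Subgroup.card_eq_one.mp hn)
  have hn1 : n ≠ 1 := by
    intro h1
    rw [h1, pow_one] at hn
    obtain ⟨⟨x, hxP⟩, hx1⟩ := (Subgroup.ne_bot_iff_exists_ne_one).mp hPne
    obtain ⟨A, hA, hxA⟩ := h.cover x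
    apply hno A hA
    have hx1' : x ≠ 1 := fun h1 => hx1 (Subtype.ext h1)
    have hox : orderOf x = p := by
      have := orderOf_dvd_of_pow_eq_one (hexp x hxP)
      rcases (Nat.dvd_prime hp.out).mp this with h1 | h1
      · exact absurd (orderOf_eq_one_iff.mp h1) hx1'
      · exact h1
    have hzp : Subgroup.zpowers x = (P : Subgroup G) := by
      apply Subgroup.eq_of_le_of_card_ge ((Subgroup.zpowers_le).mpr hxP)
      rw [Nat.card_zpowers, hox, hn]
    rw [← hzp]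
    exact (Subgroup.zpowers_le).mpr hxA
  rw [hn]
  calc p = p ^ 1 := (pow_one p).symm
    _ < p ^ n := Nat.pow_lt_pow_right hp.out.one_lt (by omega)

theorem IsCover.centralizer_eq (h : IsCover 𝓐) (hZ : Subgroup.center G = ⊥) (P : Sylow p G)
    (hab : ∀ a ∈ (P : Subgroup G), ∀ b ∈ (P : Subgroup G), a * b = b * a)
    (hPne : (P : Subgroup G) ≠ ⊥) {A : Subgroup G} (hA : A ∈ 𝓐) (hPA : (P : Subgroup G) ≤ A) :
    Subgroup.centralizer ((P : Subgroup G) : Set G) = A := by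
  have habp := comm_of_isPGroup P hab
  apply le_antisymm
  · intro c hc
    obtain ⟨c₁, c₂, hc₁, hc₂, hceq, hk₁, hcop⟩ := exists_p_decomp p c
    have hle : Subgroup.zpowers c ≤ Subgroup.centralizer ((P : Subgroup G) : Set G) :=
      (Subgroup.zpowers_le).mpr hc
    have hc₁P : c₁ ∈ (P : Subgroup G) :=
      mem_sylow_of_normalizer P (Subgroup.centralizer_le_normalizer _ (hle hc₁)) hk₁
    obtain ⟨⟨x, hxP⟩, hx1⟩ := (Subgroup.ne_bot_iff_exists_ne_one).mp hPne
    have hx1' : x ≠ 1 := fun h1 => hx1 (Subtype.ext h1)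
    have hcm : Commute x c₂ := (Subgroup.mem_centralizer_iff.mp (hle hc₂)) x hxP
    obtain ⟨k, hk⟩ := orderOf_of_mem_sylow P hxP
    obtain ⟨B, hB, hxcB⟩ := h.cover (x * c₂)
    have hxB : x ∈ B := ((Subgroup.zpowers_le).mpr hxcB)
      (CentMax.mem_zpowers_mul_of_coprime hcm (by rw [hk]; exact (Nat.Coprime.pow_right k hcop).symm))
    have hBA : B = A := h.uniq hZ P hab hx1' ⟨k, hk⟩ hB hA hxB (hPA hxP)
    have hc₂A : c₂ ∈ A := by
      have : c₂ = x⁻¹ * (x * c₂) := by group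
      rw [this]
      exact A.mul_mem (A.inv_mem (hPA hxP)) (hBA ▸ hxcB)
    rw [hceq]
    exact A.mul_mem (hPA hc₁P) hc₂A
  · intro a ha
    rw [Subgroup.mem_centralizer_iff]
    intro x hxP
    exact comm_of_pElement habp (h.nilp A hA) (hPA hxP) (orderOf_of_mem_sylow P hxP) a ha

/-- abelian Sylow subgroups with the same centralizer coincide -/
theorem sylow_eq_of_centralizer_eq (P P' : Sylow p G)
    (hab' : ∀ a ∈ (P' : Subgroup G), ∀ b ∈ (P' : Subgroup G), a * b = b * a)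
    (hc : Subgroup.centralizer ((P' : Subgroup G) : Set G) =
      Subgroup.centralizer ((P : Subgroup G) : Set G)) : P' = P := by
  have hle : (P' : Subgroup G) ≤ P := by
    intro y hy
    have h1 : y ∈ Subgroup.centralizer ((P' : Subgroup G) : Set G) := by
      rw [Subgroup.mem_centralizer_iff]
      intro x hx
      exact hab' x hx y hy
    rw [hc] at h1
    exact mem_sylow_of_normalizer P (Subgroup.centralizer_le_normalizer _ h1)
      (orderOf_of_mem_sylow P' hy)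
  exact Sylow.ext (P'.is_maximal' P.2 hle).symm

theorem conj_mem_smul (P : Sylow p G) (g : G) {x : G} (hx : x ∈ (P : Subgroup G)) :
    g * x * g⁻¹ ∈ ((g • P : Sylow p G) : Subgroup G) := by
  rw [Sylow.coe_subgroup_smul]
  have := Subgroup.smul_mem_pointwise_smul x (MulAut.conj g) (P : Subgroup G) hx
  simpa [MulAut.smul_def] using this

/-- the main structural statement -/
theorem IsCover.core (h : IsCover 𝓐) (hZ : Subgroup.center G = ⊥)
    (habAll : ∀ P' : Sylow p G, ∀ a ∈ (P' : Subgroup G), ∀ b ∈ (P' : Subgroup G), a * b = b * a)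
    (hgood : ∀ P' : Sylow p G, ¬ ((∀ x ∈ (P' : Subgroup G), x ^ p = 1) ∧
      p < Nat.card (P' : Subgroup G)))
    (P : Sylow p G) (hnn : ¬ (P : Subgroup G).Normal) :
    Subgroup.centralizer ((P : Subgroup G) : Set G) ∈ 𝓐 ∧
    (∀ M : Subgroup G, M ≠ ⊤ → Subgroup.centralizer ((P : Subgroup G) : Set G) ≤ M →
      M ≤ Subgroup.normalizer ((P : Subgroup G) : Set G)) ∧
    IsCoatom (Subgroup.normalizer ((P : Subgroup G) : Set G)) ∧
    (∀ g : G, g ∉ Subgroup.normalizer ((P : Subgroup G) : Set G) →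
        ¬ p ∣ Nat.card ↥(Subgroup.normalizer ((P : Subgroup G) : Set G) ⊓
          (Subgroup.normalizer ((P : Subgroup G) : Set G)).map (MulAut.conj g).toMonoidHom)) := by
  have hne : ∀ P' : Sylow p G, (P' : Subgroup G) ≠ ⊥ := by
    intro P' hbot
    apply hnn
    have h1 : Nat.card (P : Subgroup G) = Nat.card (P' : Subgroup G) := by
      rw [Sylow.card_eq_multiplicity, Sylow.card_eq_multiplicity]
    rw [hbot, Subgroup.card_bot] at h1
    rw [Subgroup.card_eq_one.mp h1]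
    infer_instance
  have hcent : ∀ P' : Sylow p G, Subgroup.centralizer ((P' : Subgroup G) : Set G) ∈ 𝓐 := by
    intro P'
    by_cases hex : ∃ A ∈ 𝓐, (P' : Subgroup G) ≤ A
    · obtain ⟨A, hA, hPA⟩ := hex
      rw [h.centralizer_eq hZ P' (habAll P') (hne P') hA hPA]
      exact hA
    · push_neg at hex
      exact absurd (h.exponent_of_not_le hZ P' (habAll P') (hne P') hex) (hgood P')
  have hNtop : Subgroup.normalizer ((P : Subgroup G) : Set G) ≠ ⊤ := by
    intro h1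
    exact hnn (Subgroup.normalizer_eq_top_iff.mp h1)
  have hPC : (P : Subgroup G) ≤ Subgroup.centralizer ((P : Subgroup G) : Set G) := by
    intro y hy
    rw [Subgroup.mem_centralizer_iff]
    intro x hx
    exact habAll P x hx y hy
  have h2 : ∀ M : Subgroup G, M ≠ ⊤ → Subgroup.centralizer ((P : Subgroup G) : Set G) ≤ M →
      M ≤ Subgroup.normalizer ((P : Subgroup G) : Set G) := by
    intro M hM hCM m hm
    have hle : Subgroup.centralizer (((m • P : Sylow p G) : Subgroup G) : Set G) ≤ M := by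
      intro c hc
      have h3 : m⁻¹ * c * m ∈ Subgroup.centralizer ((P : Subgroup G) : Set G) := by
        rw [Subgroup.mem_centralizer_iff]
        intro x hx
        have h4 := (Subgroup.mem_centralizer_iff.mp hc) _ (conj_mem_smul P m hx)
        calc x * (m⁻¹ * c * m) = m⁻¹ * (m * x * m⁻¹ * c) * m := by group
          _ = m⁻¹ * (c * (m * x * m⁻¹)) * m := by rw [h4]
          _ = m⁻¹ * c * m * x := by group
      have h5 : c = m * (m⁻¹ * c * m) * m⁻¹ := by group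
      rw [h5]
      exact M.mul_mem (M.mul_mem hm (hCM h3)) (M.inv_mem hm)
    have h6 := h.eq_of_le hM (hcent (m • P)) (hcent P) hle hCM
    have h7 := sylow_eq_of_centralizer_eq P (m • P) (habAll _) h6
    exact Sylow.smul_eq_iff_mem_normalizer.mp h7
  refine ⟨hcent P, h2, ⟨hNtop, fun M hlt => ?_⟩, ?_⟩
  · by_contra hM
    have := h2 M hM ((Subgroup.centralizer_le_normalizer _).trans hlt.le)
    exact absurd (lt_of_lt_of_le hlt this) (lt_irrefl _)
  · intro g hg hdvd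
    obtain ⟨y, hy⟩ := exists_prime_orderOf_dvd_card' p hdvd
    obtain ⟨y, hyN⟩ := y
    rw [Subgroup.orderOf_mk] at hy
    obtain ⟨hy1, hy2⟩ := Subgroup.mem_inf.mp hyN
    have hyp : ∃ k, orderOf y = p ^ k := ⟨1, by rw [hy, pow_one]⟩
    have hyP : y ∈ (P : Subgroup G) := mem_sylow_of_normalizer P hy1 hyp
    obtain ⟨n, hnN, hny⟩ := hy2
    have hny' : g * n * g⁻¹ = y := by simpa using hny
    have hnp : ∃ k, orderOf n = p ^ k := by
      have : orderOf n = orderOf y := by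
        rw [← hny']
        have h8 := orderOf_injective (MulAut.conj g).toMonoidHom (MulAut.conj g).injective n
        simpa using h8.symm
      rw [this]; exact hyp
    have hnP : n ∈ (P : Subgroup G) := mem_sylow_of_normalizer P hnN hnp
    have hyP' : y ∈ ((g • P : Sylow p G) : Subgroup G) := hny' ▸ conj_mem_smul P g hnP
    have hy1' : y ≠ 1 := by
      intro h1
      rw [h1, orderOf_one] at hy
      exact hp.out.ne_one hy.symm
    have hyC : y ∈ Subgroup.centralizer ((P : Subgroup G) : Set G) := hPC hyP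
    have hyC' : y ∈ Subgroup.centralizer (((g • P : Sylow p G) : Subgroup G) : Set G) := by
      rw [Subgroup.mem_centralizer_iff]
      intro x hx
      exact habAll _ x hx y hyP'
    have h6 := h.uniq hZ P (habAll P) hy1' hyp (hcent (g • P)) (hcent P) hyC' hyC
    have h7 := sylow_eq_of_centralizer_eq P (g • P) (habAll _) h6
    exact hg (Sylow.smul_eq_iff_mem_normalizer.mp h7)

/-- passing from one Sylow subgroup to all of them -/
theorem all_of_one (P : Sylow p G)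
    (hab : ∀ a ∈ (P : Subgroup G), ∀ b ∈ (P : Subgroup G), a * b = b * a)
    (hE : ¬ ((∀ x ∈ (P : Subgroup G), x ^ p = 1) ∧ p < Nat.card (P : Subgroup G))) :
    (∀ P' : Sylow p G, ∀ a ∈ (P' : Subgroup G), ∀ b ∈ (P' : Subgroup G), a * b = b * a) ∧
    (∀ P' : Sylow p G, ¬ ((∀ x ∈ (P' : Subgroup G), x ^ p = 1) ∧
      p < Nat.card (P' : Subgroup G))) := by
  refine ⟨fun P' => comm_of_isPGroup P hab P' P'.2, fun P' hP' => hE ⟨?_, ?_⟩⟩
  · intro x hx
    obtain ⟨g, hg⟩ := MulAction.exists_smul_eq G P P'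
    have h1 : g * x * g⁻¹ ∈ (P' : Subgroup G) := hg ▸ conj_mem_smul P g hx
    have h2 := hP'.1 _ h1
    rw [conj_pow] at h2
    have h3 : x ^ p = g⁻¹ * (g * x ^ p * g⁻¹) * g := by group
    rw [h3, h2]; group
  · have h1 : Nat.card (P : Subgroup G) = Nat.card (P' : Subgroup G) := by
      rw [Sylow.card_eq_multiplicity, Sylow.card_eq_multiplicity]
    rw [h1]; exact hP'.2

theorem main1 (hZ : Subgroup.center G = ⊥) (𝓐 : Finset (Subgroup G))
    (h𝓐 : ((∀ A ∈ 𝓐, A ≠ ⊤) ∧ (∀ g : G, ∃ A ∈ 𝓐, g ∈ A)) ∧ (∀ 𝓑 : Finset (Subgroup G), (∀ A ∈ 𝓑, A ≠ ⊤) ∧ (∀ g : G, ∃ A ∈ 𝓑, g ∈ A) → 𝓐.card ≤ 𝓑.card) ∧ (∀ A ∈ 𝓐, Group.IsNilpotent ↥A))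
    (P : Sylow p G) (hab : IsMulCommutative ↥(P : Subgroup G))
    (hnn : ¬ (P : Subgroup G).Normal) :
    (Cfsg.IsElementaryAbelian p (P : Subgroup G) ∧ p < Nat.card ↥(P : Subgroup G)) ∨
    (∃ A ∈ 𝓐, (P : Subgroup G) ≤ A ∧ ¬ p ∣ ((P : Subgroup G).subgroupOf A).index ∧
      IsCoatom (Subgroup.normalizer ((P : Subgroup G) : Set G)) ∧
      (∀ g : G, g ∉ Subgroup.normalizer ((P : Subgroup G) : Set G) →
        ¬ p ∣ Nat.card ↥(Subgroup.normalizer ((P : Subgroup G) : Set G) ⊓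
          (Subgroup.normalizer ((P : Subgroup G) : Set G)).map (MulAut.conj g).toMonoidHom)) ∧
      Subgroup.centralizer ((P : Subgroup G) : Set G) = A) := by
  have h : IsCover 𝓐 := ⟨h𝓐.1.1, h𝓐.1.2, h𝓐.2.1, h𝓐.2.2⟩
  have hab' : ∀ a ∈ (P : Subgroup G), ∀ b ∈ (P : Subgroup G), a * b = b * a := by
    intro a ha b hb
    exact congrArg Subtype.val (hab.is_comm.comm (⟨a, ha⟩ : ↥(P : Subgroup G)) ⟨b, hb⟩)
  by_cases hE : (∀ x ∈ (P : Subgroup G), x ^ p = 1) ∧ p < Nat.card (P : Subgroup G)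
  · exact Or.inl ⟨⟨hab, hE.1⟩, hE.2⟩
  · right
    obtain ⟨habAll, hgood⟩ := all_of_one P hab' hE
    obtain ⟨h1, -, h3, h4⟩ := h.core hZ habAll hgood P hnn
    have hPC : (P : Subgroup G) ≤ Subgroup.centralizer ((P : Subgroup G) : Set G) := by
      intro y hy
      rw [Subgroup.mem_centralizer_iff]
      intro x hx
      exact hab' x hx y hy
    refine ⟨_, h1, hPC, ?_, h3, h4, rfl⟩
    intro hdvd
    apply P.not_dvd_index
    have h5 := Subgroup.relIndex_mul_index hPC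
    rw [← h5]
    exact Dvd.dvd.mul_right hdvd _

theorem main2 (hZ : Subgroup.center G = ⊥) (𝓐 : Finset (Subgroup G))
    (h𝓐 : ((∀ A ∈ 𝓐, A ≠ ⊤) ∧ (∀ g : G, ∃ A ∈ 𝓐, g ∈ A)) ∧ (∀ 𝓑 : Finset (Subgroup G), (∀ A ∈ 𝓑, A ≠ ⊤) ∧ (∀ g : G, ∃ A ∈ 𝓑, g ∈ A) → 𝓐.card ≤ 𝓑.card) ∧ (∀ A ∈ 𝓐, Group.IsNilpotent ↥A))
    (P : Sylow p G)
    (hP : IsCyclic ↥(P : Subgroup G) ∨ (IsMulCommutative ↥(P : Subgroup G) ∧
      ¬ Cfsg.IsElementaryAbelian p (P : Subgroup G)))
    (hnn : ¬ (P : Subgroup G).Normal) :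
    Group.IsNilpotent ↥(Subgroup.centralizer ((P : Subgroup G) : Set G)) ∧
      IsCoatom (Subgroup.normalizer ((P : Subgroup G) : Set G)) ∧
      ∀ M : Subgroup G, IsCoatom M → Subgroup.centralizer ((P : Subgroup G) : Set G) ≤ M →
        M = Subgroup.normalizer ((P : Subgroup G) : Set G) := by
  have h : IsCover 𝓐 := ⟨h𝓐.1.1, h𝓐.1.2, h𝓐.2.1, h𝓐.2.2⟩
  have hab' : ∀ a ∈ (P : Subgroup G), ∀ b ∈ (P : Subgroup G), a * b = b * a := by
    intro a ha b hb
    rcases hP with hc | ⟨hc, -⟩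
    · obtain ⟨g, hg⟩ := hc.exists_generator
      obtain ⟨i, hi⟩ := Subgroup.mem_zpowers_iff.mp (hg ⟨a, ha⟩)
      obtain ⟨j, hj⟩ := Subgroup.mem_zpowers_iff.mp (hg ⟨b, hb⟩)
      have : (⟨a, ha⟩ : ↥(P : Subgroup G)) * ⟨b, hb⟩ = ⟨b, hb⟩ * ⟨a, ha⟩ := by
        rw [← hi, ← hj]
        exact (Commute.refl g).zpow_zpow i j
      exact congrArg Subtype.val this
    · exact congrArg Subtype.val (hc.is_comm.comm (⟨a, ha⟩ : ↥(P : Subgroup G)) ⟨b, hb⟩)
  have hE : ¬ ((∀ x ∈ (P : Subgroup G), x ^ p = 1) ∧ p < Nat.card (P : Subgroup G)) := by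
    rintro ⟨hE1, hE2⟩
    rcases hP with hc | ⟨hc, hne⟩
    · obtain ⟨g, hg⟩ := hc.exists_generator
      have h1 : orderOf g = Nat.card ↥(P : Subgroup G) := orderOf_eq_card_of_forall_mem_zpowers hg
      have h2 : g ^ p = 1 := Subtype.ext (hE1 g g.2)
      have h3 := Nat.le_of_dvd hp.out.pos (orderOf_dvd_of_pow_eq_one h2)
      omega
    · exact hne ⟨hc, hE1⟩
  obtain ⟨habAll, hgood⟩ := all_of_one P hab' hE
  obtain ⟨h1, h2, h3, -⟩ := h.core hZ habAll hgood P hnn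
  refine ⟨h.nilp _ h1, h3, fun M hM hCM => ?_⟩
  have hle := h2 M hM.1 hCM
  by_contra hne
  exact h3.1 (hM.2 _ (lt_of_le_of_ne hle hne))

end Main

end Cfsg.Agent.H1.NilpCover
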