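import Mathlib
import Cfsg.Agent.H1.NilpCover

set_option autoImplicit false

namespace Cfsg.Agent.H1.NilpAlt

open Equiv Equiv.Perm

section Abstract

variable {Γ : Type*} [Group Γ] [Finite Γ]

/-- the abstract refutation: a Sylow subgroup of prime order with a proper overgroup of its
centralizer which does not normalize it -/
theorem no_cover {n : ℕ} (ι : Γ →* Perm (Fin n)) (hι : Function.Injective ι)
    (hZ : Subgroup.center Γ = ⊥) {q : ℕ} [hq : Fact q.Prime] (s : Γ) (hs : orderOf (ι s) = q)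
    (hq2 : ¬ q ^ 2 ∣ Nat.card Γ) (M : Subgroup Γ) (hM : M ≠ ⊤)
    (hC : ∀ g : Γ, ι g * ι s = ι s * ι g → g ∈ M) (m : Γ) (hmM : m ∈ M)
    (hm : ∀ k : ℕ, (ι s) ^ k ≠ ι m * ι s * (ι m)⁻¹) :
    ¬ ∃ 𝓐 : Finset (Subgroup Γ), ((∀ A ∈ 𝓐, A ≠ ⊤) ∧ (∀ g : Γ, ∃ A ∈ 𝓐, g ∈ A)) ∧
      (∀ 𝓑 : Finset (Subgroup Γ), (∀ A ∈ 𝓑, A ≠ ⊤) ∧ (∀ g : Γ, ∃ A ∈ 𝓑, g ∈ A) →
        𝓐.card ≤ 𝓑.card) ∧ (∀ A ∈ 𝓐, Group.IsNilpotent ↥A) := by
  rintro ⟨𝓐, h𝓐⟩
  have h : NilpCover.IsCover 𝓐 := ⟨h𝓐.1.1, h𝓐.1.2, h𝓐.2.1, h𝓐.2.2⟩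
  have hs' : orderOf s = q := by rw [← orderOf_injective ι hι s]; exact hs
  have hcardH : Nat.card (Subgroup.zpowers s) = q := by rw [Nat.card_zpowers, hs']
  have hcard0 : Nat.card Γ ≠ 0 := Nat.card_pos.ne'
  have hfac : (Nat.card Γ).factorization q = 1 := by
    have h1 : q ∣ Nat.card Γ := by rw [← hs']; exact orderOf_dvd_natCard s
    have h2 : 1 ≤ (Nat.card Γ).factorization q := by
      rw [← hq.out.pow_dvd_iff_le_factorization hcard0]; simpa using h1
    have h3 : ¬ 2 ≤ (Nat.card Γ).factorization q := by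
      rw [← hq.out.pow_dvd_iff_le_factorization hcard0]; exact hq2
    omega
  let P : Sylow q Γ := Sylow.ofCard (Subgroup.zpowers s) (by rw [hcardH, hfac, pow_one])
  have hP : (P : Subgroup Γ) = Subgroup.zpowers s := Sylow.coe_ofCard _ _
  have hsP : s ∈ (P : Subgroup Γ) := by rw [hP]; exact Subgroup.mem_zpowers s
  have hab : ∀ a ∈ (P : Subgroup Γ), ∀ b ∈ (P : Subgroup Γ), a * b = b * a := by
    intro a ha b hb
    rw [hP] at ha hb
    obtain ⟨i, rfl⟩ := Subgroup.mem_zpowers_iff.mp ha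
    obtain ⟨j, rfl⟩ := Subgroup.mem_zpowers_iff.mp hb
    rw [← zpow_add, ← zpow_add, add_comm]
  have hE : ¬ ((∀ x ∈ (P : Subgroup Γ), x ^ q = 1) ∧ q < Nat.card (P : Subgroup Γ)) := by
    rintro ⟨-, h2⟩
    rw [hP, hcardH] at h2
    exact lt_irrefl _ h2
  obtain ⟨habAll, hgood⟩ := NilpCover.all_of_one P hab hE
  have hconj : m * s * m⁻¹ ∉ Subgroup.zpowers s := by
    intro hmem
    rw [← mem_powers_iff_mem_zpowers] at hmem
    obtain ⟨k, hk⟩ := (Submonoid.mem_powers_iff _ _).mp hmem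
    apply hm k
    rw [← map_pow, hk]; simp
  have hnn : ¬ (P : Subgroup Γ).Normal := by
    intro hN
    apply hconj
    rw [← hP]
    exact hN.conj_mem s hsP m
  obtain ⟨-, h2, -, -⟩ := h.core hZ habAll hgood P hnn
  have hCM : Subgroup.centralizer ((P : Subgroup Γ) : Set Γ) ≤ M := by
    intro g hg
    apply hC
    rw [Subgroup.mem_centralizer_iff] at hg
    have := hg s hsP
    rw [← map_mul, ← map_mul, this]
  have h3 := h2 M hM hCM hmM
  rw [Subgroup.mem_normalizer_iff] at h3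
  apply hconj
  have h4 := (h3 s).mp hsP
  rw [← hP]
  exact h4

end Abstract

section PermLemmas

variable {n : ℕ}

theorem sign_eq_one_of_odd (σ : Perm (Fin n)) (h : Odd (orderOf σ)) : Perm.sign σ = 1 := by
  have h1 : orderOf (Perm.sign σ) ∣ orderOf σ := orderOf_map_dvd _ σ
  have h2 : orderOf (Perm.sign σ) ∣ 2 := orderOf_dvd_of_pow_eq_one (Int.units_sq _)
  have h3 : orderOf (Perm.sign σ) ∣ Nat.gcd (orderOf σ) 2 := Nat.dvd_gcd h1 h2
  have h4 : Nat.gcd (orderOf σ) 2 = 1 := Nat.coprime_two_right.mpr h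
  rw [h4, Nat.dvd_one, orderOf_eq_one_iff] at h3
  exact h3

theorem center_perm_eq_bot (hn : 3 ≤ n) : Subgroup.center (Perm (Fin n)) = ⊥ := by
  rw [eq_bot_iff]
  intro z hz
  rw [Subgroup.mem_bot]
  by_contra hne
  obtain ⟨a, ha⟩ : ∃ a, z a ≠ a := by
    by_contra hall
    push_neg at hall
    exact hne (Equiv.ext hall)
  obtain ⟨c, -, hc⟩ := Finset.exists_mem_notMem_of_card_lt_card
    (s := ({a, z a} : Finset (Fin n))) (t := Finset.univ) (by
      rw [Finset.card_univ, Fintype.card_fin]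
      exact lt_of_le_of_lt Finset.card_le_two (by omega))
  have hca : c ≠ a := by intro h; apply hc; simp [h]
  have hcb : c ≠ z a := by intro h; apply hc; rw [h]; simp
  have h1 := (Subgroup.mem_center_iff.mp hz) (swap (z a) c)
  have h2 := congrArg (fun f : Perm (Fin n) => f a) h1
  simp only [Perm.mul_apply] at h2
  rw [swap_apply_left, swap_apply_of_ne_of_ne (Ne.symm ha) (Ne.symm hca)] at h2
  exact hcb h2

theorem pow_eq_one_of_fix {σ : Perm (Fin n)} {q : ℕ} (hq : q.Prime) (hσ : orderOf σ = q)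
    {y : Fin n} (hy : σ y ≠ y) {d : ℕ} (hd : (σ ^ d) y = y) : σ ^ d = 1 := by
  by_cases hdvd : q ∣ d
  · rw [← hσ] at hdvd; exact orderOf_dvd_iff_pow_eq_one.mp hdvd
  · exfalso
    have hcop : Nat.Coprime d (orderOf σ) := by
      rw [hσ]; exact (Nat.Coprime.symm ((Nat.Prime.coprime_iff_not_dvd hq).mpr hdvd))
    obtain ⟨t, ht⟩ := exists_pow_eq_self_of_coprime hcop
    have h1 : ((σ ^ d) ^ t) y = y := pow_apply_eq_self_of_apply_eq_self hd t
    rw [ht] at h1
    exact hy h1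

end PermLemmas

section General

variable {Γ : Type*} [Group Γ] {n : ℕ}

/-- the elements preserving the fixed point set of `σ` -/
def fixStab (ι : Γ →* Perm (Fin n)) (σ : Perm (Fin n)) : Subgroup Γ where
  carrier := {g | ∀ y, σ y = y ↔ σ (ι g y) = ι g y}
  one_mem' := by intro y; simp
  mul_mem' := by
    intro g h hg hh y
    rw [map_mul, Perm.mul_apply]
    exact (hh y).trans (hg _)
  inv_mem' := by
    intro g hg y
    have := hg ((ι g)⁻¹ y)
    rw [Perm.inv_def, Equiv.apply_symm_apply] at this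
    rw [map_inv, Perm.inv_def]
    exact this.symm

theorem mem_fixStab (ι : Γ →* Perm (Fin n)) (σ : Perm (Fin n)) (g : Γ) :
    g ∈ fixStab ι σ ↔ ∀ y, σ y = y ↔ σ (ι g y) = ι g y := Iff.rfl

theorem general [Finite Γ] (hn : 6 ≤ n) (ι : Γ →* Perm (Fin n)) (hι : Function.Injective ι)
    (hA : alternatingGroup (Fin n) ≤ ι.range) (hZ : Subgroup.center Γ = ⊥) :
    ¬ ∃ 𝓐 : Finset (Subgroup Γ), ((∀ A ∈ 𝓐, A ≠ ⊤) ∧ (∀ g : Γ, ∃ A ∈ 𝓐, g ∈ A)) ∧
      (∀ 𝓑 : Finset (Subgroup Γ), (∀ A ∈ 𝓑, A ≠ ⊤) ∧ (∀ g : Γ, ∃ A ∈ 𝓑, g ∈ A) →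
        𝓐.card ≤ 𝓑.card) ∧ (∀ A ∈ 𝓐, Group.IsNilpotent ↥A) := by
  obtain ⟨q, hqp, hq1, hq2⟩ := Nat.exists_prime_lt_and_le_two_mul (n / 2) (by omega)
  haveI : Fact q.Prime := ⟨hqp⟩
  have hq5 : 5 ≤ q := by
    by_contra hlt
    have h4 : q = 4 := by omega
    rw [h4] at hqp; norm_num at hqp
  have hn2q : n < 2 * q := by omega
  have hqn : q + 1 ≤ n := by
    by_contra hlt
    have hqn' : q = n := by omega
    have h2 : 2 ∣ q := by omega
    have := (Nat.prime_dvd_prime_iff_eq Nat.prime_two hqp).mp h2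
    omega
  have hcard1 : Nat.card Γ = Nat.card ι.range :=
    Nat.card_congr (MonoidHom.ofInjective hι).toEquiv
  have hcardΓ : Nat.card Γ ∣ n.factorial := by
    rw [hcard1]
    have h2 := Subgroup.card_subgroup_dvd_card ι.range
    rwa [Nat.card_perm, Nat.card_fin] at h2
  have hqΓ : q ∣ Nat.card Γ := by
    rw [hcard1]
    haveI : Nontrivial (Fin n) := Fin.nontrivial_iff_two_le.mpr (by omega)
    have h2 : Nat.card (alternatingGroup (Fin n)) ∣ Nat.card ι.range := Subgroup.card_dvd_of_le hA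
    refine Dvd.dvd.trans ?_ h2
    have h3 : 2 * Nat.card (alternatingGroup (Fin n)) = n.factorial := by
      rw [two_mul_nat_card_alternatingGroup, Nat.card_perm, Nat.card_fin]
    have h4 : q ∣ 2 * Nat.card (alternatingGroup (Fin n)) := by
      rw [h3]; exact (Nat.Prime.dvd_factorial hqp).mpr (by omega)
    have hcop : Nat.Coprime q 2 := by
      rw [Nat.coprime_two_right]
      rcases hqp.eq_two_or_odd' with h | h
      · omega
      · exact h
    exact hcop.dvd_of_dvd_mul_left h4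
  have hq2Γ : ¬ q ^ 2 ∣ Nat.card Γ := by
    intro hdvd
    have h1 : q ^ 2 ∣ n.factorial := hdvd.trans hcardΓ
    rw [Nat.Prime.pow_dvd_factorial_iff hqp (b := 2)
      (Nat.log_lt_of_lt_pow (by omega) (by nlinarith))] at h1
    have h2 : n / q = 1 := Nat.div_eq_of_lt_le (by omega) (by omega)
    simp [h2] at h1
  obtain ⟨s, hs⟩ := exists_prime_orderOf_dvd_card' (G := Γ) q hqΓ
  set σ : Perm (Fin n) := ι s with hσdef
  have hσ : orderOf σ = q := by rw [hσdef, orderOf_injective ι hι s]; exact hs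
  have hσ1 : σ ≠ 1 := by
    intro h1; rw [h1, orderOf_one] at hσ; omega
  obtain ⟨a, ha⟩ : ∃ a, σ a ≠ a := by
    by_contra hall; push_neg at hall; exact hσ1 (Equiv.ext hall)
  obtain ⟨b, hb⟩ : ∃ b, σ b = b := by
    apply Equiv.Perm.exists_fixed_point_of_prime (p := q) (n := 1)
    · rw [Fintype.card_fin]
      intro hdvd
      obtain ⟨t, rfl⟩ := hdvd
      have ht1 : t < 2 := by
        by_contra hge
        push_neg at hge
        nlinarith
      have ht2 : 1 < t := by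
        by_contra hle
        push_neg at hle
        nlinarith
      omega
    · rw [pow_one, ← hσ]; exact pow_orderOf_eq_one σ
  -- the orbit points
  set x : ℕ → Fin n := fun i => (σ ^ i) a with hxdef
  have hstep : ∀ i, σ (x i) = x (i + 1) := by
    intro i
    simp only [hxdef]
    rw [← Perm.mul_apply, ← pow_succ']
  have hxs : ∀ i, σ (x i) ≠ x i := by
    intro i h
    apply ha
    have h1 : (σ ^ i) (σ a) = (σ ^ i) a := by
      rw [← Perm.mul_apply, ← pow_succ, pow_succ', Perm.mul_apply]; exact h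
    exact (σ ^ i).injective h1
  have hd : ∀ i j : ℕ, i < j → j < q → x i ≠ x j := by
    intro i j hij hj h
    have h1 : (σ ^ (j - i)) (x i) = x i := by
      simp only [hxdef]
      rw [← Perm.mul_apply, ← pow_add, Nat.sub_add_cancel hij.le]; exact h.symm
    have h2 := pow_eq_one_of_fix hqp hσ (hxs i) h1
    have h3 : q ∣ j - i := by rw [← hσ]; exact orderOf_dvd_of_pow_eq_one h2
    have := Nat.le_of_dvd (by omega) h3
    omega
  have hbx : ∀ i, b ≠ x i := by
    intro i h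
    apply hxs i
    rw [← h]; exact hb
  have h01 := hd 0 1 (by omega) (by omega)
  have h02 := hd 0 2 (by omega) (by omega)
  have h03 := hd 0 3 (by omega) (by omega)
  have h04 := hd 0 4 (by omega) (by omega)
  have h12 := hd 1 2 (by omega) (by omega)
  have h13 := hd 1 3 (by omega) (by omega)
  have h14 := hd 1 4 (by omega) (by omega)
  have h23 := hd 2 3 (by omega) (by omega)
  have h24 := hd 2 4 (by omega) (by omega)
  have h34 := hd 3 4 (by omega) (by omega)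
  -- the three-cycle
  set m₀ : Perm (Fin n) := swap (x 0) (x 1) * swap (x 1) (x 2) with hm₀def
  have hm0 : m₀ (x 0) = x 1 := by
    rw [hm₀def, Perm.mul_apply, swap_apply_of_ne_of_ne h01 h02, swap_apply_left]
  have hm1 : m₀ (x 1) = x 2 := by
    rw [hm₀def, Perm.mul_apply, swap_apply_left, swap_apply_of_ne_of_ne h02.symm h12.symm]
  have hm2 : m₀ (x 2) = x 0 := by
    rw [hm₀def, Perm.mul_apply, swap_apply_right, swap_apply_right]
  have hmo : ∀ y, y ≠ x 0 → y ≠ x 1 → y ≠ x 2 → m₀ y = y := by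
    intro y h0 h1 h2
    rw [hm₀def, Perm.mul_apply, swap_apply_of_ne_of_ne h1 h2, swap_apply_of_ne_of_ne h0 h1]
  have hm₀A : m₀ ∈ alternatingGroup (Fin n) := by
    rw [mem_alternatingGroup, hm₀def, map_mul, sign_swap h01, sign_swap h12]
    decide
  obtain ⟨m, hm⟩ := hA hm₀A
  -- the element moving a fixed point
  set t₀ : Perm (Fin n) := swap b (x 1) * swap (x 0) b with ht₀def
  have ht0 : t₀ b = x 0 := by
    rw [ht₀def, Perm.mul_apply, swap_apply_right, swap_apply_of_ne_of_ne (hbx 0).symm h01]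
  have ht₀A : t₀ ∈ alternatingGroup (Fin n) := by
    rw [mem_alternatingGroup, ht₀def, map_mul, sign_swap (hbx 1), sign_swap (hbx 0).symm]
    decide
  obtain ⟨t, ht⟩ := hA ht₀A
  refine no_cover ι hι hZ s hσ hq2Γ (fixStab ι σ) ?_ ?_ m ?_ ?_
  · intro htop
    have h1 : t ∈ fixStab ι σ := by rw [htop]; trivial
    rw [mem_fixStab] at h1
    have h2 := (h1 b).mp hb
    rw [ht, ht0] at h2
    exact hxs 0 h2
  · intro g hg
    rw [mem_fixStab]
    intro y
    constructor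
    · intro hy
      have h1 : (σ * ι g) y = (ι g * σ) y := by rw [hg]
      rw [Perm.mul_apply, Perm.mul_apply, hy] at h1
      exact h1
    · intro hy
      have h1 : (ι g * σ) y = (σ * ι g) y := by rw [hg]
      rw [Perm.mul_apply, Perm.mul_apply, hy] at h1
      exact (ι g).injective h1
  · rw [mem_fixStab, hm]
    intro y
    by_cases h0 : y = x 0
    · rw [h0, hm0]; exact iff_of_false (hxs 0) (hxs 1)
    by_cases h1 : y = x 1
    · rw [h1, hm1]; exact iff_of_false (hxs 1) (hxs 2)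
    by_cases h2 : y = x 2
    · rw [h2, hm2]; exact iff_of_false (hxs 2) (hxs 0)
    rw [hmo y h0 h1 h2]
  · intro k hk
    rw [hm] at hk
    have hinv3 : m₀⁻¹ (x 3) = x 3 := by
      rw [Perm.inv_eq_iff_eq]; exact (hmo _ h03.symm h13.symm h23.symm).symm
    have hinv0 : m₀⁻¹ (x 0) = x 2 := by
      rw [Perm.inv_eq_iff_eq]; exact hm2.symm
    have e3 : (σ ^ k) (x 3) = x 4 := by
      rw [hk, Perm.mul_apply, Perm.mul_apply, hinv3, hstep 3]
      exact hmo _ h04.symm h14.symm h24.symm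
    have hσk : σ ^ k = σ := by
      rcases Nat.eq_zero_or_pos k with h0 | hpos
      · rw [h0, pow_zero, Perm.one_apply] at e3
        exact absurd e3 h34
      · obtain ⟨k', rfl⟩ : ∃ k', k = k' + 1 := ⟨k - 1, by omega⟩
        have h1 : (σ ^ k') (x 4) = x 4 := by
          rw [pow_succ, Perm.mul_apply, hstep 3] at e3
          exact e3
        have h2 := pow_eq_one_of_fix hqp hσ (hxs 4) h1
        rw [pow_succ, h2, one_mul]
    rw [hσk] at hk
    have e0 := congrArg (fun f : Perm (Fin n) => f (x 0)) hk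
    simp only [Perm.mul_apply] at e0
    rw [hinv0, hstep 0, hstep 2, hmo _ h03.symm h13.symm h23.symm] at e0
    exact h13 e0

end General

section Small

set_option maxRecDepth 100000 in
theorem comm4 : ∀ g : Perm (Fin 4), g * c[(0 : Fin 4), 1, 2] = c[(0 : Fin 4), 1, 2] * g →
    ∃ k : Fin 3, g = c[(0 : Fin 4), 1, 2] ^ (k : ℕ) := by
  decide

set_option maxRecDepth 100000 in
theorem comm5 : ∀ g : Perm (Fin 5), g * (finRotate 5) = (finRotate 5) * g →
    ∃ k : Fin 5, g = (finRotate 5) ^ (k : ℕ) := by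
  decide

set_option maxRecDepth 100000 in
theorem comm5' : ∀ g : Perm (Fin 5), g * c[(0 : Fin 5), 1, 2] = c[(0 : Fin 5), 1, 2] * g →
    g 4 = 4 ∨ ∃ k : Fin 3, g = c[(0 : Fin 5), 1, 2] ^ (k : ℕ) * swap 3 4 := by
  decide

theorem sym4 : ¬ ∃ 𝓐 : Finset (Subgroup (Perm (Fin 4))),
    ((∀ A ∈ 𝓐, A ≠ ⊤) ∧ (∀ g : Perm (Fin 4), ∃ A ∈ 𝓐, g ∈ A)) ∧
      (∀ 𝓑 : Finset (Subgroup (Perm (Fin 4))), (∀ A ∈ 𝓑, A ≠ ⊤) ∧
        (∀ g : Perm (Fin 4), ∃ A ∈ 𝓑, g ∈ A) → 𝓐.card ≤ 𝓑.card) ∧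
      (∀ A ∈ 𝓐, Group.IsNilpotent ↥A) := by
  haveI : Fact (Nat.Prime 3) := ⟨Nat.prime_three⟩
  have hσ : orderOf (c[(0 : Fin 4), 1, 2]) = 3 := orderOf_eq_prime (by decide) (by decide)
  have hμ : orderOf (c[(0 : Fin 4), 1, 3]) = 3 := orderOf_eq_prime (by decide) (by decide)
  refine no_cover (q := 3) (MonoidHom.id _) Function.injective_id
    (center_perm_eq_bot (by norm_num)) (c[(0 : Fin 4), 1, 2]) hσ ?_
    (alternatingGroup (Fin 4)) ?_ ?_ (c[(0 : Fin 4), 1, 3]) ?_ ?_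
  · rw [Nat.card_perm, Nat.card_fin]; decide
  · intro h
    have h1 : swap (0 : Fin 4) 1 ∈ alternatingGroup (Fin 4) := by rw [h]; trivial
    rw [mem_alternatingGroup, sign_swap (by decide)] at h1
    exact absurd h1 (by decide)
  · intro g hg
    simp only [MonoidHom.id_apply] at hg
    obtain ⟨k, rfl⟩ := comm4 g hg
    rw [mem_alternatingGroup, map_pow, sign_eq_one_of_odd _ (by rw [hσ]; decide), one_pow]
  · rw [mem_alternatingGroup]
    exact sign_eq_one_of_odd _ (by rw [hμ]; decide)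
  · intro k hk
    simp only [MonoidHom.id_apply] at hk
    have h1 : (c[(0 : Fin 4), 1, 2] ^ k) 3 = 3 :=
      pow_apply_eq_self_of_apply_eq_self (by decide) k
    rw [hk] at h1
    revert h1
    decide

theorem sym5 : ¬ ∃ 𝓐 : Finset (Subgroup (Perm (Fin 5))),
    ((∀ A ∈ 𝓐, A ≠ ⊤) ∧ (∀ g : Perm (Fin 5), ∃ A ∈ 𝓐, g ∈ A)) ∧
      (∀ 𝓑 : Finset (Subgroup (Perm (Fin 5))), (∀ A ∈ 𝓑, A ≠ ⊤) ∧
        (∀ g : Perm (Fin 5), ∃ A ∈ 𝓑, g ∈ A) → 𝓐.card ≤ 𝓑.card) ∧
      (∀ A ∈ 𝓐, Group.IsNilpotent ↥A) := by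
  haveI : Fact (Nat.Prime 5) := ⟨Nat.prime_five⟩
  have hσ : orderOf (finRotate 5) = 5 := orderOf_eq_prime (by decide) (by decide)
  have hμ : orderOf (c[(0 : Fin 5), 1, 2]) = 3 := orderOf_eq_prime (by decide) (by decide)
  refine no_cover (q := 5) (MonoidHom.id _) Function.injective_id
    (center_perm_eq_bot (by norm_num)) (finRotate 5) hσ ?_
    (alternatingGroup (Fin 5)) ?_ ?_ (c[(0 : Fin 5), 1, 2]) ?_ ?_
  · rw [Nat.card_perm, Nat.card_fin]; decide
  · intro h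
    have h1 : swap (0 : Fin 5) 1 ∈ alternatingGroup (Fin 5) := by rw [h]; trivial
    rw [mem_alternatingGroup, sign_swap (by decide)] at h1
    exact absurd h1 (by decide)
  · intro g hg
    simp only [MonoidHom.id_apply] at hg
    obtain ⟨k, rfl⟩ := comm5 g hg
    rw [mem_alternatingGroup, map_pow, sign_eq_one_of_odd _ (by rw [hσ]; decide), one_pow]
  · rw [mem_alternatingGroup]
    exact sign_eq_one_of_odd _ (by rw [hμ]; decide)
  · intro k hk
    simp only [MonoidHom.id_apply] at hk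
    rw [← pow_mod_orderOf, hσ] at hk
    have h1 : ∀ j : Fin 5, (finRotate 5) ^ (j : ℕ) ≠
        c[(0 : Fin 5), 1, 2] * finRotate 5 * (c[(0 : Fin 5), 1, 2])⁻¹ := by decide
    exact h1 ⟨k % 5, Nat.mod_lt _ (by norm_num)⟩ hk

theorem alt5 : ¬ ∃ 𝓐 : Finset (Subgroup ↥(alternatingGroup (Fin 5))),
    ((∀ A ∈ 𝓐, A ≠ ⊤) ∧ (∀ g : ↥(alternatingGroup (Fin 5)), ∃ A ∈ 𝓐, g ∈ A)) ∧
      (∀ 𝓑 : Finset (Subgroup ↥(alternatingGroup (Fin 5))), (∀ A ∈ 𝓑, A ≠ ⊤) ∧
        (∀ g : ↥(alternatingGroup (Fin 5)), ∃ A ∈ 𝓑, g ∈ A) → 𝓐.card ≤ 𝓑.card) ∧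
      (∀ A ∈ 𝓐, Group.IsNilpotent ↥A) := by
  haveI : Fact (Nat.Prime 3) := ⟨Nat.prime_three⟩
  have hσ : orderOf (c[(0 : Fin 5), 1, 2]) = 3 := orderOf_eq_prime (by decide) (by decide)
  have hμ : orderOf (c[(0 : Fin 5), 1, 3]) = 3 := orderOf_eq_prime (by decide) (by decide)
  have hν : orderOf (c[(0 : Fin 5), 1, 4]) = 3 := orderOf_eq_prime (by decide) (by decide)
  have hσA : c[(0 : Fin 5), 1, 2] ∈ alternatingGroup (Fin 5) := by
    rw [mem_alternatingGroup]; exact sign_eq_one_of_odd _ (by rw [hσ]; decide)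
  have hμA : c[(0 : Fin 5), 1, 3] ∈ alternatingGroup (Fin 5) := by
    rw [mem_alternatingGroup]; exact sign_eq_one_of_odd _ (by rw [hμ]; decide)
  have hνA : c[(0 : Fin 5), 1, 4] ∈ alternatingGroup (Fin 5) := by
    rw [mem_alternatingGroup]; exact sign_eq_one_of_odd _ (by rw [hν]; decide)
  refine no_cover (q := 3) (alternatingGroup (Fin 5)).subtype Subtype.val_injective
    (alternatingGroup.center_eq_bot (by rw [Nat.card_fin]; norm_num))
    ⟨c[(0 : Fin 5), 1, 2], hσA⟩ hσ ?_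
    ((MulAction.stabilizer (Perm (Fin 5)) (4 : Fin 5)).comap (alternatingGroup (Fin 5)).subtype)
    ?_ ?_ ⟨c[(0 : Fin 5), 1, 3], hμA⟩ ?_ ?_
  · rw [nat_card_alternatingGroup, Nat.card_fin]; decide
  · intro h
    have h1 : (⟨c[(0 : Fin 5), 1, 4], hνA⟩ : ↥(alternatingGroup (Fin 5))) ∈
        (MulAction.stabilizer (Perm (Fin 5)) (4 : Fin 5)).comap
          (alternatingGroup (Fin 5)).subtype := by rw [h]; trivial
    rw [Subgroup.mem_comap, MulAction.mem_stabilizer_iff] at h1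
    change c[(0 : Fin 5), 1, 4] 4 = 4 at h1
    revert h1
    decide
  · intro g hg
    rw [Subgroup.mem_comap, MulAction.mem_stabilizer_iff]
    rcases comm5' _ hg with h4 | ⟨k, hk⟩
    · exact h4
    · exfalso
      have h1 : Perm.sign ((alternatingGroup (Fin 5)).subtype g) = 1 :=
        mem_alternatingGroup.mp g.2
      rw [hk, map_mul, map_pow, sign_eq_one_of_odd _ (by rw [hσ]; decide), one_pow, one_mul,
        sign_swap (by decide)] at h1
      exact absurd h1 (by decide)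
  · rw [Subgroup.mem_comap, MulAction.mem_stabilizer_iff]
    change c[(0 : Fin 5), 1, 3] 4 = 4
    decide
  · intro k hk
    have h1 : (c[(0 : Fin 5), 1, 2] ^ k) 3 = 3 :=
      pow_apply_eq_self_of_apply_eq_self (by decide) k
    change c[(0 : Fin 5), 1, 2] ^ k = c[(0 : Fin 5), 1, 3] * c[(0 : Fin 5), 1, 2] *
      (c[(0 : Fin 5), 1, 3])⁻¹ at hk
    rw [hk] at h1
    revert h1
    decide

end Small

end Cfsg.Agent.H1.NilpAlt
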