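import Mathlib
import Cfsg.Agent.H1.Cores
import Cfsg.Agent.Lib.Helper4.Nilpotent

set_option autoImplicit false
open scoped Pointwise commutatorElement

namespace Cfsg.Agent.H1

universe u

/-- a non-cyclic finite `p`-group has two elements of the same order separated by a normal subgroup -/
lemma exists_separated_same_order {P : Type*} [Group P] [Finite P] {p : ℕ} [Fact p.Prime] (hP : IsPGroup p P)
    (hnc : ¬ IsCyclic P) : ∃ (x y : P) (M : Subgroup P), M.Normal ∧ y ∈ M ∧ x ∉ M ∧ orderOf x = orderOf y := by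
  have hp : p.Prime := Fact.out
  have hnil : Group.IsNilpotent P := hP.isNilpotent
  have hnt : Nontrivial P := by
    by_contra h
    rw [not_nontrivial_iff_subsingleton] at h
    exact hnc inferInstance
  -- the set of elements outside some coatom
  have hex : ∃ n : ℕ, ∃ x : P, orderOf x = n ∧ ∃ M : Subgroup P, IsCoatom M ∧ x ∉ M := by
    obtain ⟨M, hM⟩ : ∃ M : Subgroup P, IsCoatom M := by
      rcases eq_top_or_exists_le_coatom (⊥ : Subgroup P) with h | ⟨M, hM, -⟩
      · exact absurd h bot_ne_top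
      · exact ⟨M, hM⟩
    obtain ⟨x, -, hx⟩ := SetLike.exists_of_lt hM.lt_top
    exact ⟨_, x, rfl, M, hM, hx⟩
  classical
  obtain ⟨x, hxo, M, hM, hxM⟩ := Nat.find_spec hex
  have hmin : ∀ z : P, ∀ M' : Subgroup P, IsCoatom M' → z ∉ M' → orderOf x ≤ orderOf z := by
    intro z M' hM' hz
    rw [hxo]
    exact Nat.find_min' hex ⟨z, rfl, M', hM', hz⟩
  have hMn : M.Normal := Subgroup.NormalizerCondition.normal_of_coatom M Group.normalizerCondition_of_isNilpotent hM
  have hzt : Subgroup.zpowers x ≠ ⊤ := by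
    intro h
    apply hnc
    refine ⟨x, fun y => ?_⟩
    have : y ∈ Subgroup.zpowers x := by rw [h]; trivial
    exact this
  obtain ⟨M₂, hM₂, hxM₂⟩ := (eq_top_or_exists_le_coatom (Subgroup.zpowers x)).resolve_left hzt
  have hx₂ : x ∈ M₂ := hxM₂ (Subgroup.mem_zpowers x)
  have hne : ¬ M ≤ M₂ := by
    intro h
    have : M = M₂ := by
      by_contra hne
      exact hM₂.lt_top.ne (hM.2 M₂ (lt_of_le_of_ne h hne))
    rw [this] at hxM
    exact hxM hx₂
  obtain ⟨m, hmM, hmM₂⟩ := SetLike.not_le_iff_exists.mp hne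
  have hle := hmin m M₂ hM₂ hmM₂
  obtain ⟨j, hj⟩ := IsPGroup.iff_orderOf.mp hP x
  obtain ⟨i, hi⟩ := IsPGroup.iff_orderOf.mp hP m
  rw [hj, hi] at hle
  have hji : j ≤ i := (Nat.pow_le_pow_iff_right hp.one_lt).mp hle
  refine ⟨x, m ^ p ^ (i - j), M, hMn, M.pow_mem hmM _, hxM, ?_⟩
  rw [hj, orderOf_pow_of_dvd (pow_pos hp.pos _).ne', hi]
  · rw [Nat.pow_div (Nat.sub_le i j) hp.pos]
    congr 1; omega
  · rw [hi]; exact pow_dvd_pow p (Nat.sub_le i j)

/-- in a finite nilpotent group conjugation on a Sylow subgroup is induced by an element of it -/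
lemma exists_conj_eq_of_nilpotent {G : Type*} [Group G] [Finite G] [Group.IsNilpotent G] {p : ℕ} [Fact p.Prime]
    (P : Sylow p G) (g : G) : ∃ u ∈ (P : Subgroup G), ∀ a ∈ (P : Subgroup G), g * a * g⁻¹ = u * a * u⁻¹ := by
  have hp : p.Prime := Fact.out
  have hPn : (P : Subgroup G).Normal := by
    have h03 : ∀ (q : ℕ) (_ : Fact q.Prime) (Q : Sylow q G), (Q : Subgroup G).Normal :=
      ((Group.isNilpotent_of_finite_tfae (G := G)).out 0 3).mp ‹Group.IsNilpotent G›
    exact h03 p inferInstance P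
  have htop : (P : Subgroup G) ⊔ Subgroup.centralizer ((P : Subgroup G) : Set G) = ⊤ := by
    apply eq_top_of_forall_sylow_le
    intro q hq
    by_cases hqp : q = p
    · subst hqp
      exact ⟨P, le_sup_left⟩
    · obtain ⟨Q⟩ : Nonempty (Sylow q G) := inferInstance
      refine ⟨Q, le_trans ?_ le_sup_right⟩
      intro x hx
      rw [Subgroup.mem_centralizer_iff]
      intro a ha
      obtain ⟨i, hi⟩ := (IsPGroup.iff_orderOf.mp Q.isPGroup') ⟨x, hx⟩
      obtain ⟨j, hj⟩ := (IsPGroup.iff_orderOf.mp P.isPGroup') ⟨a, ha⟩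
      rw [Subgroup.orderOf_mk] at hi hj
      apply Cfsg.Agent.Lib.Helper4.Nilpotent.commute_of_coprime_orderOf G
      rw [hi, hj]
      exact Nat.Coprime.pow _ _ ((Nat.coprime_primes hp hq.out).mpr (Ne.symm hqp))
  have hg : g ∈ (P : Subgroup G) ⊔ Subgroup.centralizer ((P : Subgroup G) : Set G) := by rw [htop]; trivial
  rw [← SetLike.mem_coe, Subgroup.normal_mul] at hg
  obtain ⟨u, hu, c, hc, rfl⟩ := hg
  refine ⟨u, hu, ?_⟩
  intro a ha
  rw [SetLike.mem_coe, Subgroup.mem_centralizer_iff] at hc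
  have := hc a ha
  rw [mul_inv_rev]
  calc u * c * a * (c⁻¹ * u⁻¹) = u * (c * a * c⁻¹) * u⁻¹ := by group
    _ = u * a * u⁻¹ := by rw [← this, mul_inv_cancel_right]

end Cfsg.Agent.H1

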