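import Mathlib
import Cfsg.Prelude.Def_Characters
import Cfsg.Prelude.Def_Blocks

set_option autoImplicit false
set_option linter.style.haveILetI false
set_option linter.unusedSectionVars false

/-!
# S4581, Claim C'' — shared definitions (helper1)

`G` solvable, `P ∈ Syl₂(G)` self-normalizing, `A ⊴ G`, `α` a `P`-invariant linear character of `A`
of `2`-power order.  Then the number `L A α` of odd-degree irreducible characters of `G` over `α`
equals the number `R P A α` of linear characters of `P` agreeing with `α` on `P ⊓ A`.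
-/

namespace Cfsg.Agent.H1.OddCount

open Cfsg
open scoped Classical

universe u

variable {G : Type u} [Group G] [Fintype G]

/-- `χ` lies over `α`. -/
def Over (A : Subgroup G) (α : A → ℂ) (χ : G → ℂ) : Prop :=
  classInner (fun a : A => χ a) α ≠ 0

/-- `ν` (a function on `P`) agrees with `α` on `P ⊓ A`. -/
def Agree (P A : Subgroup G) (α : A → ℂ) (ν : P → ℂ) : Prop :=
  ∀ a : A, ∀ h : (a : G) ∈ P, ν ⟨a, h⟩ = α a

/-- number of odd-degree irreducible characters of `G` over `α`. -/
noncomputable def L (A : Subgroup G) (α : A → ℂ) : ℕ :=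
  Nat.card {χ : IrrCharacter G // Odd (charDegree (χ : G → ℂ)) ∧ Over A α (χ : G → ℂ)}

/-- number of linear characters of `P` agreeing with `α` on `P ⊓ A`. -/
noncomputable def R (P A : Subgroup G) (α : A → ℂ) : ℕ :=
  Nat.card {ν : IrrCharacter ↥P // (ν : P → ℂ) 1 = 1 ∧ Agree P A α (ν : P → ℂ)}

/-- `α` is invariant under conjugation by the elements of `H`. -/
def InvUnder (H A : Subgroup G) (α : A → ℂ) : Prop :=
  ∀ g ∈ H, ∀ a : A, ∀ h : g * (a : G) * g⁻¹ ∈ A, α ⟨g * (a : G) * g⁻¹, h⟩ = α a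

/-- The datum of Claim C''. -/
structure Datum (P : Sylow 2 G) (A : Subgroup G) (α : A → ℂ) : Prop where
  normal : A.Normal
  selfNorm : Subgroup.normalizer ((P : Subgroup G) : Set G) = (P : Subgroup G)
  irr : IsIrrCharacter A α
  lin : α 1 = 1
  inv : InvUnder (P : Subgroup G) A α
  pow2 : ∀ a : A, ∃ k : ℕ, α a ^ 2 ^ k = 1

/-- `β` is a `P`-invariant linear character of `B` extending `α`. -/
def Good (P : Sylow 2 G) (A B : Subgroup G) (α : A → ℂ) (β : B → ℂ) : Prop :=
  IsIrrCharacter B β ∧ β 1 = 1 ∧ Agree B A α β ∧ InvUnder (P : Subgroup G) B β ∧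
    ∀ b : B, ∃ k : ℕ, β b ^ 2 ^ k = 1

/-- `B/A` is an elementary abelian `r`-group (`A ≤ B`). -/
def ElemFactor (A B : Subgroup G) (r : ℕ) : Prop :=
  A ≤ B ∧ (∀ x ∈ B, ∀ y ∈ B, x * y * x⁻¹ * y⁻¹ ∈ A) ∧ ∀ x ∈ B, x ^ r ∈ A

/-- A function on `A` seen as a function on `A` inside a larger subgroup `T` (defeq to helper3's
`subFun`). -/
def subF (A T : Subgroup G) (α : A → ℂ) : A.subgroupOf T → ℂ :=
  fun x => α ⟨(x : T), Subgroup.mem_subgroupOf.mp x.2⟩

end Cfsg.Agent.H1.OddCount
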