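import Mathlib
import Cfsg.Agent.H1.OddCount0
import Cfsg.Agent.Lib.helper3.Irr2
import Cfsg.Agent.Lib.helper3.Irr11
import Cfsg.Agent.Lib.helper3.Inflate2

set_option autoImplicit false
set_option linter.style.haveILetI false
set_option linter.unusedSectionVars false

/-!
# S4581, Claim C'' — main induction and Corollary C, from the pieces (helper1)
-/

namespace Cfsg.Agent.H1.OddCount

open Cfsg
open scoped Classical

universe u

/-! ### The pieces, as statements -/

def Step0Stmt : Prop :=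
  ∀ (G : Type u) [Group G] [Fintype G] (P : Sylow 2 G) (A : Subgroup G) (α : A → ℂ),
    Datum P A α → ∀ (T : Subgroup G),
    (∀ g : G, g ∈ T ↔ ∀ a : A, ∀ h' : g * (a : G) * g⁻¹ ∈ A, α ⟨g * (a : G) * g⁻¹, h'⟩ = α a) →
    ∃ hPT : (P : Subgroup G) ≤ T,
      Datum (P.subtype hPT) (A.subgroupOf T) (subF A T α) ∧
      InvUnder ⊤ (A.subgroupOf T) (subF A T α) ∧
      L (A.subgroupOf T) (subF A T α) = L A α ∧
      R ((P.subtype hPT : Sylow 2 ↥T) : Subgroup ↥T) (A.subgroupOf T) (subF A T α)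
        = R (P : Subgroup G) A α

def TopStmt : Prop :=
  ∀ (G : Type u) [Group G] [Fintype G] (P : Sylow 2 G) (A : Subgroup G) (α : A → ℂ),
    Datum P A α → A = ⊤ → L A α = 1 ∧ R (P : Subgroup G) A α = 1

def FactorStmt : Prop :=
  ∀ (G : Type u) [Group G] [Fintype G] [Group.IsSolvable G] (A : Subgroup G), A.Normal → A ≠ ⊤ →
    ∃ (B : Subgroup G) (r : ℕ), B.Normal ∧ r.Prime ∧ ElemFactor A B r ∧ A ≠ B

def OverGoodStmt : Prop :=
  ∀ (G : Type u) [Group G] [Fintype G] (P : Sylow 2 G) (A B : Subgroup G) (α : A → ℂ),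
    A.Normal → B.Normal → A ≤ B → ∀ (β : B → ℂ), Good P A B α β → ∀ (χ : IrrCharacter G),
    Over B β (χ : G → ℂ) → Over A α (χ : G → ℂ)

def LOddStmt : Prop :=
  ∀ (G : Type u) [Group G] [Fintype G] (P : Sylow 2 G) (A : Subgroup G) (α : A → ℂ),
    Datum P A α → InvUnder ⊤ A α → ∀ (B : Subgroup G), B.Normal → ∀ (r : ℕ), r.Prime →
    ElemFactor A B r → r ≠ 2 → ∀ (χ : IrrCharacter G), Odd (charDegree (χ : G → ℂ)) →
    Over A α (χ : G → ℂ) → ∃! β : B → ℂ, Good P A B α β ∧ Over B β (χ : G → ℂ)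

def LEvenStmt : Prop :=
  ∀ (G : Type u) [Group G] [Fintype G] (P : Sylow 2 G) (A : Subgroup G) (α : A → ℂ),
    Datum P A α → InvUnder ⊤ A α → ∀ (B : Subgroup G), B.Normal →
    ElemFactor A B 2 → ∀ (χ : IrrCharacter G), Odd (charDegree (χ : G → ℂ)) →
    Over A α (χ : G → ℂ) → ∃! β : B → ℂ, Good P A B α β ∧ Over B β (χ : G → ℂ)

def ROddStmt : Prop :=
  ∀ (G : Type u) [Group G] [Fintype G] (P : Sylow 2 G) (A : Subgroup G) (α : A → ℂ),
    Datum P A α → InvUnder ⊤ A α → ∀ (B : Subgroup G), B.Normal → ∀ (r : ℕ), r.Prime →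
    ElemFactor A B r → r ≠ 2 → ∀ (ν : IrrCharacter ↥(P : Subgroup G)),
    (ν : ↥(P : Subgroup G) → ℂ) 1 = 1 →
    Agree (P : Subgroup G) A α (ν : ↥(P : Subgroup G) → ℂ) →
    ∃! β : B → ℂ, Good P A B α β ∧ Agree (P : Subgroup G) B β (ν : ↥(P : Subgroup G) → ℂ)

def REvenStmt : Prop :=
  ∀ (G : Type u) [Group G] [Fintype G] (P : Sylow 2 G) (A : Subgroup G) (α : A → ℂ),
    Datum P A α → InvUnder ⊤ A α → ∀ (B : Subgroup G), B.Normal →
    ElemFactor A B 2 → ∀ (ν : IrrCharacter ↥(P : Subgroup G)),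
    (ν : ↥(P : Subgroup G) → ℂ) 1 = 1 →
    Agree (P : Subgroup G) A α (ν : ↥(P : Subgroup G) → ℂ) →
    ∃! β : B → ℂ, Good P A B α β ∧ Agree (P : Subgroup G) B β (ν : ↥(P : Subgroup G) → ℂ)

variable {G : Type u} [Group G] [Fintype G]

theorem good_datum {P : Sylow 2 G} {A B : Subgroup G} {α : A → ℂ} {β : B → ℂ}
    (h : Datum P A α) (hB : B.Normal) (hβ : Good P A B α β) : Datum P B β :=
  ⟨hB, h.selfNorm, hβ.1, hβ.2.1, hβ.2.2.2.1, hβ.2.2.2.2⟩

theorem agree_of_good {P : Sylow 2 G} {A B : Subgroup G} {α : A → ℂ} {β : B → ℂ} (hAB : A ≤ B)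
    (hβ : Good P A B α β) {Q : Subgroup G} {ν : Q → ℂ} (hν : Agree Q B β ν) : Agree Q A α ν := by
  intro a ha
  have h1 := hν ⟨(a : G), hAB a.2⟩ ha
  rw [h1]
  exact hβ.2.2.1 a (hAB a.2)

instance good_finite (P : Sylow 2 G) (A B : Subgroup G) (α : A → ℂ) :
    Finite {β : B → ℂ // Good P A B α β} := by
  haveI : Finite (IrrCharacter B) := Cfsg.Agent.Lib.helper3.Irr.irr_finite
  apply Finite.of_injective (fun β : {β : B → ℂ // Good P A B α β} =>
    (⟨β.1, β.2.1⟩ : IrrCharacter B))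
  intro a b hab
  apply Subtype.ext
  exact congrArg (fun x : IrrCharacter B => (x : B → ℂ)) hab

/-- generic counting: if every `x` with `p x` has a unique good `β` with `q β x`, then the `p`-count
is the sum of the `q β`-counts. -/
theorem card_eq_sum {X I : Type*} [Finite X] [Fintype I] (p : X → Prop) (q : I → X → Prop)
    (hqp : ∀ i x, q i x → p x) (hex : ∀ x, p x → ∃! i, q i x) :
    Nat.card {x : X // p x} = ∑ i : I, Nat.card {x : X // q i x} := by
  rw [← Nat.card_sigma]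
  symm
  apply Nat.card_congr
  refine Equiv.ofBijective (fun s : (Σ i : I, {x : X // q i x}) =>
    (⟨s.2.1, hqp s.1 s.2.1 s.2.2⟩ : {x : X // p x})) ⟨?_, ?_⟩
  · rintro ⟨i, x, hx⟩ ⟨j, y, hy⟩ hxy
    have hxy' : x = y := congrArg Subtype.val hxy
    subst hxy'
    have hij : i = j := (hex x (hqp i x hx)).unique hx hy
    subst hij
    rfl
  · rintro ⟨x, hx⟩
    obtain ⟨i, hi, -⟩ := hex x hx
    exact ⟨⟨i, x, hi⟩, rfl⟩

theorem L_eq_sum (hog : OverGoodStmt.{u}) (P : Sylow 2 G) (A B : Subgroup G) (α : A → ℂ)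
    (hA : A.Normal) (hB : B.Normal) (hAB : A ≤ B)
    (hex : ∀ χ : IrrCharacter G, Odd (charDegree (χ : G → ℂ)) → Over A α (χ : G → ℂ) →
      ∃! β : B → ℂ, Good P A B α β ∧ Over B β (χ : G → ℂ)) :
    ∃ _ : Fintype {β : B → ℂ // Good P A B α β},
      L A α = ∑ β : {β : B → ℂ // Good P A B α β}, L B β.1 := by
  haveI : Finite (IrrCharacter G) := Cfsg.Agent.Lib.helper3.Irr.irr_finite
  letI : Fintype {β : B → ℂ // Good P A B α β} := Fintype.ofFinite _
  refine ⟨inferInstance, ?_⟩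
  unfold L
  apply card_eq_sum (X := IrrCharacter G) (I := {β : B → ℂ // Good P A B α β})
    (fun χ => Odd (charDegree (χ : G → ℂ)) ∧ Over A α (χ : G → ℂ))
    (fun β χ => Odd (charDegree (χ : G → ℂ)) ∧ Over B β.1 (χ : G → ℂ))
  · rintro β χ ⟨h1, h2⟩
    exact ⟨h1, hog G P A B α hA hB hAB β.1 β.2 χ h2⟩
  · rintro χ ⟨h1, h2⟩
    obtain ⟨β, ⟨hβ1, hβ2⟩, huniq⟩ := hex χ h1 h2
    refine ⟨⟨β, hβ1⟩, ⟨h1, hβ2⟩, ?_⟩
    rintro ⟨β', hβ'⟩ ⟨-, h3⟩
    apply Subtype.ext
    exact huniq β' ⟨hβ', h3⟩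

theorem R_eq_sum (P : Sylow 2 G) (A B : Subgroup G) (α : A → ℂ) (hAB : A ≤ B)
    (hex : ∀ ν : IrrCharacter ↥(P : Subgroup G), (ν : ↥(P : Subgroup G) → ℂ) 1 = 1 →
      Agree (P : Subgroup G) A α (ν : ↥(P : Subgroup G) → ℂ) →
      ∃! β : B → ℂ, Good P A B α β ∧ Agree (P : Subgroup G) B β (ν : ↥(P : Subgroup G) → ℂ))
    [Fintype {β : B → ℂ // Good P A B α β}] :
    R (P : Subgroup G) A α = ∑ β : {β : B → ℂ // Good P A B α β}, R (P : Subgroup G) B β.1 := by
  haveI : Finite (IrrCharacter ↥(P : Subgroup G)) := Cfsg.Agent.Lib.helper3.Irr.irr_finite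
  unfold R
  apply card_eq_sum (X := IrrCharacter ↥(P : Subgroup G)) (I := {β : B → ℂ // Good P A B α β})
    (fun ν => (ν : ↥(P : Subgroup G) → ℂ) 1 = 1 ∧
      Agree (P : Subgroup G) A α (ν : ↥(P : Subgroup G) → ℂ))
    (fun β ν => (ν : ↥(P : Subgroup G) → ℂ) 1 = 1 ∧
      Agree (P : Subgroup G) B β.1 (ν : ↥(P : Subgroup G) → ℂ))
  · rintro β ν ⟨h1, h2⟩
    exact ⟨h1, agree_of_good hAB β.2 h2⟩
  · rintro ν ⟨h1, h2⟩
    obtain ⟨β, ⟨hβ1, hβ2⟩, huniq⟩ := hex ν h1 h2
    refine ⟨⟨β, hβ1⟩, ⟨h1, hβ2⟩, ?_⟩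
    rintro ⟨β', hβ'⟩ ⟨-, h3⟩
    apply Subtype.ext
    exact huniq β' ⟨hβ', h3⟩

/-- the inertia subgroup of `α` -/
def inertia (A : Subgroup G) (hA : A.Normal) (α : A → ℂ) : Subgroup G where
  carrier := {g | ∀ a : A, α ⟨g * (a : G) * g⁻¹, hA.conj_mem a a.2 g⟩ = α a}
  one_mem' := by
    intro a
    congr 1
    apply Subtype.ext
    simp
  mul_mem' := by
    intro x y hx hy a
    have h1 := hy a
    have h2 := hx ⟨y * (a : G) * y⁻¹, hA.conj_mem a a.2 y⟩
    rw [← h1, ← h2]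
    congr 1
    apply Subtype.ext
    simp [mul_assoc]
  inv_mem' := by
    intro x hx a
    have h1 := hx ⟨x⁻¹ * (a : G) * x⁻¹⁻¹, hA.conj_mem a a.2 x⁻¹⟩
    rw [← h1]
    congr 1
    apply Subtype.ext
    simp [mul_assoc]

theorem mem_inertia (A : Subgroup G) (hA : A.Normal) (α : A → ℂ) (g : G) :
    g ∈ inertia A hA α ↔
      ∀ a : A, ∀ h' : g * (a : G) * g⁻¹ ∈ A, α ⟨g * (a : G) * g⁻¹, h'⟩ = α a := by
  constructor
  · intro h a _
    exact h a
  · intro h a
    exact h a _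

theorem main (h0 : Step0Stmt.{u}) (htop : TopStmt.{u}) (hfac : FactorStmt.{u})
    (hog : OverGoodStmt.{u}) (hLo : LOddStmt.{u}) (hLe : LEvenStmt.{u}) (hRo : ROddStmt.{u})
    (hRe : REvenStmt.{u}) :
    ∀ (n : ℕ) (G : Type u) [Group G] [Fintype G] [Group.IsSolvable G] (P : Sylow 2 G)
      (A : Subgroup G) (α : A → ℂ), Datum P A α → A.index = n → L A α = R (P : Subgroup G) A α := by
  intro n
  induction n using Nat.strong_induction_on with
  | _ n ih =>
    intro G _ _ _ P A α h hn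
    have hA := h.normal
    set T := inertia A hA α with hTdef
    by_cases hT : T = ⊤
    · -- `α` is `G`-invariant
      have hinv : InvUnder ⊤ A α := by
        intro g _ a h'
        have : g ∈ T := hT ▸ Subgroup.mem_top g
        exact (mem_inertia A hA α g).1 this a h'
      by_cases hAtop : A = ⊤
      · obtain ⟨h1, h2⟩ := htop G P A α h hAtop
        rw [h1, h2]
      · obtain ⟨B, r, hB, hr, hf, hne⟩ := hfac G A hA hAtop
        have hAB : A ≤ B := hf.1
        have hlt : A < B := lt_of_le_of_ne hAB hne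
        have hidx : B.index < n := by
          rw [← hn]
          exact Subgroup.index_strictAnti hlt
        have hexL : ∀ χ : IrrCharacter G, Odd (charDegree (χ : G → ℂ)) → Over A α (χ : G → ℂ) →
            ∃! β : B → ℂ, Good P A B α β ∧ Over B β (χ : G → ℂ) := by
          intro χ h1 h2
          by_cases hr2 : r = 2
          · subst hr2
            exact hLe G P A α h hinv B hB hf χ h1 h2
          · exact hLo G P A α h hinv B hB r hr hf hr2 χ h1 h2
        have hexR : ∀ ν : IrrCharacter ↥(P : Subgroup G), (ν : ↥(P : Subgroup G) → ℂ) 1 = 1 →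
            Agree (P : Subgroup G) A α (ν : ↥(P : Subgroup G) → ℂ) →
            ∃! β : B → ℂ, Good P A B α β ∧
              Agree (P : Subgroup G) B β (ν : ↥(P : Subgroup G) → ℂ) := by
          intro ν h1 h2
          by_cases hr2 : r = 2
          · subst hr2
            exact hRe G P A α h hinv B hB hf ν h1 h2
          · exact hRo G P A α h hinv B hB r hr hf hr2 ν h1 h2
        obtain ⟨inst, hL⟩ := L_eq_sum hog P A B α hA hB hAB hexL
        rw [hL, R_eq_sum P A B α hAB hexR]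
        apply Finset.sum_congr rfl
        intro β _
        exact ih B.index hidx G P B β.1 (good_datum h hB β.2) rfl
    · -- pass to the inertia group
      obtain ⟨hPT, hdat, -, hL, hR⟩ := h0 G P A α h T (mem_inertia A hA α)
      rw [← hL, ← hR]
      have hAT : A ≤ T := by
        intro a ha
        rw [hTdef]
        intro b
        have hcf := Cfsg.Agent.Lib.helper3.Irr.isClassFunction_of_isCharacter
          (Cfsg.Agent.Lib.helper3.Irr.isCharacter_of_isIrrCharacter h.irr)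
        have := hcf b ⟨a, ha⟩
        rw [← this]
        rfl
      have hidx : (A.subgroupOf T).index < n := by
        rw [← hn]
        have h1 : A.relIndex T * T.index = A.index := Subgroup.relIndex_mul_index hAT
        have h2 : T.index ≠ 1 := by
          intro h
          exact hT (Subgroup.index_eq_one.1 h)
        have h3 : T.index ≠ 0 := Subgroup.index_ne_zero_of_finite
        have h4 : A.relIndex T ≠ 0 := by
          intro h
          rw [h, zero_mul] at h1
          exact (Subgroup.index_ne_zero_of_finite (H := A)) h1.symm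
        show A.relIndex T < A.index
        rw [← h1]
        have : 2 ≤ T.index := by omega
        nlinarith [Nat.pos_of_ne_zero h4]
      exact ih _ hidx ↥T (P.subtype hPT) (A.subgroupOf T) (subF A T α) hdat rfl

end Cfsg.Agent.H1.OddCount
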