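import Mathlib
import Cfsg.Agent.H1.OddCount1
import Cfsg.Agent.Lib.helper3.Irr9
import Cfsg.Agent.Lib.helper3.IndFun

set_option autoImplicit false
set_option linter.style.haveILetI false
set_option linter.unusedSectionVars false

/-!
# S4581, Corollary C from Claim C'' (helper1)
-/

namespace Cfsg.Agent.H1.OddCount

open Cfsg
open scoped Classical ComplexConjugate

universe u

theorem over_bot' {G : Type u} [Group G] [Fintype G] (A : Subgroup G) (hA : A = ⊥)
    (χ : IrrCharacter G) : Over A (fun _ => (1 : ℂ)) (χ : G → ℂ) := by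
  unfold Over
  rw [Cfsg.Agent.Lib.helper3.IndFun.classInner_apply]
  obtain ⟨n, hn, h1⟩ := Cfsg.Agent.Lib.helper3.Irr.exists_pos_nat_apply_one χ.2
  have hsub : ∀ b : A, b = 1 := by
    intro b
    apply Subtype.ext
    have h2 : (b : G) ∈ (⊥ : Subgroup G) := hA ▸ b.2
    rw [Subgroup.mem_bot.1 h2]
    rfl
  rw [Finset.sum_eq_single (1 : A)]
  · have hc : (Nat.card A : ℂ) = 1 := by
      rw [hA, Subgroup.card_bot]
      simp
    rw [hc, Subgroup.coe_one, h1]
    simp only [inv_one, one_mul, map_one, mul_one, ne_eq, Nat.cast_eq_zero]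
    exact hn.ne'
  · intro b _ hb
    exact absurd (hsub b) hb
  · intro h
    exact absurd (Finset.mem_univ _) h

theorem over_bot {G : Type u} [Group G] [Fintype G] (χ : IrrCharacter G) :
    Over (⊥ : Subgroup G) (fun _ => (1 : ℂ)) (χ : G → ℂ) := over_bot' ⊥ rfl χ

theorem corollary
    (hmain : ∀ (n : ℕ) (G : Type u) [Group G] [Fintype G] [Group.IsSolvable G] (P : Sylow 2 G)
      (A : Subgroup G) (α : A → ℂ), Datum P A α → A.index = n → L A α = R (P : Subgroup G) A α)
    {G : Type u} [Group G] [Finite G] [Group.IsSolvable G] (P : Sylow 2 G)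
    (hN : Subgroup.normalizer ((P : Subgroup G) : Set G) = (P : Subgroup G)) :
    Nat.card {χ : IrrCharacter G // Odd (charDegree (χ : G → ℂ))}
      = (commutator (P : Subgroup G)).index := by
  letI : Fintype G := Fintype.ofFinite G
  have hdat : Datum P (⊥ : Subgroup G) (fun _ => (1 : ℂ)) := by
    refine ⟨Subgroup.normal_bot, hN, Cfsg.Agent.Lib.helper3.Irr.isIrrCharacter_one, rfl, ?_, ?_⟩
    · intro g _ a h
      rfl
    · intro a
      exact ⟨0, by simp⟩
  have h1 := hmain _ G P ⊥ (fun _ => (1 : ℂ)) hdat rfl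
  have hL : L (⊥ : Subgroup G) (fun _ => (1 : ℂ))
      = Nat.card {χ : IrrCharacter G // Odd (charDegree (χ : G → ℂ))} := by
    unfold L
    apply Nat.card_congr
    exact Equiv.subtypeEquivRight (fun χ => and_iff_left (over_bot χ))
  have hR : R (P : Subgroup G) (⊥ : Subgroup G) (fun _ => (1 : ℂ))
      = (commutator (P : Subgroup G)).index := by
    rw [← Cfsg.Agent.Lib.helper3.Irr.card_linear_eq_index_commutator]
    unfold R
    apply Nat.card_congr
    refine Equiv.subtypeEquivRight (fun ν => ?_)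
    constructor
    · intro h
      exact h.1
    · intro h
      refine ⟨h, ?_⟩
      intro a ha
      have ha1 : (a : G) = 1 := Subgroup.mem_bot.1 a.2
      have : (⟨(a : G), ha⟩ : ↥(P : Subgroup G)) = 1 := Subtype.ext ha1
      rw [this, h]
  rw [← hL, h1, hR]

end Cfsg.Agent.H1.OddCount
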