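import Mathlib
import Cfsg.Agent.H1.OddCount2
import Cfsg.Agent.Lib.Helper5.OddCntA
import Cfsg.Agent.Lib.Helper5.OddCntB
import Cfsg.Agent.Lib.Helper7.OddCntC
import Cfsg.Agent.Lib.Helper7.OddCntF
import Cfsg.Agent.Lib.Helper4.OddCntD
import Cfsg.Agent.Lib.Helper6.OddCntE2

set_option autoImplicit false
set_option linter.style.haveILetI false
set_option linter.unusedSectionVars false

/-!
# S4581, Corollary C: `N_G(P) = P`, `G` solvable ⇒ `#Irr_{2'}(G) = |P : P'|` (helper1 + team)
-/

namespace Cfsg.Agent.H1.OddCount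

open Cfsg
open scoped Classical

universe u

theorem card_odd_eq_index_commutator {G : Type u} [Group G] [Finite G] [Group.IsSolvable G]
    (P : Sylow 2 G)
    (hN : Subgroup.normalizer ((P : Subgroup G) : Set G) = (P : Subgroup G)) :
    Nat.card {χ : IrrCharacter G // Odd (charDegree (χ : G → ℂ))}
      = (commutator (P : Subgroup G)).index :=
  corollary
    (main
      (fun G _ _ P A α h T hT => Cfsg.Agent.Lib.Helper5.OddCnt.step0 P A α h T hT)
      (fun G _ _ P A α h hA => Cfsg.Agent.Lib.Helper5.OddCnt.top_case P A α h hA)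
      (fun G _ _ _ A hA hne => Cfsg.Agent.Lib.Helper7.OddCnt.exists_factor A hA hne)
      (fun G _ _ P A B α hA hB hAB β hβ χ hover =>
        Cfsg.Agent.Lib.Helper5.OddCnt.over_of_good P A B α hA hB hAB β hβ χ hover)
      (fun G _ _ P A α h hinv B hB r hr hf hodd χ hχ hover =>
        Cfsg.Agent.Lib.Helper6.OddCnt.existsUnique_good_over_odd P A α h hinv B hB r hr hf hodd χ
          hχ hover)
      (fun G _ _ P A α h hinv B hB hf χ hχ hover =>
        Cfsg.Agent.Lib.Helper4.OddCnt.existsUnique_good_over_even P A α h hinv B hB hf χ hχ hover)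
      (fun G _ _ P A α h hinv B hB r hr hf hodd ν hν hag =>
        Cfsg.Agent.Lib.Helper6.OddCnt.existsUnique_good_agree_odd P A α h hinv B hB r hr hf hodd ν
          hν hag)
      (fun G _ _ P A α h hinv B hB hf ν hν hag =>
        Cfsg.Agent.Lib.Helper7.OddCnt.existsUnique_good_agree_even P A α h hinv B hB hf ν hν hag))
    P hN

end Cfsg.Agent.H1.OddCount
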