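import Mathlib
import Cfsg.Agent.Lib.Helper4.MinNormal

set_option autoImplicit false

namespace Cfsg.Agent.H1.OnanScott

open Cfsg.Agent.Lib.Helper4.MinNormal

variable {G : Type*} [Group G]

/-- the subgroup `S · C_G(S)` -/
def prodCent (S : Subgroup G) : Subgroup G where
  carrier := {n | ∃ s ∈ S, s⁻¹ * n ∈ Subgroup.centralizer (S : Set G)}
  one_mem' := ⟨1, S.one_mem, by simp⟩
  mul_mem' := by
    rintro a b ⟨s, hs, hsa⟩ ⟨t, ht, htb⟩
    refine ⟨s * t, S.mul_mem hs ht, ?_⟩
    have hc : t⁻¹ * (s⁻¹ * a) = (s⁻¹ * a) * t⁻¹ :=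
      (Subgroup.mem_centralizer_iff.mp hsa) t⁻¹ (S.inv_mem ht)
    have e : (s * t)⁻¹ * (a * b) = (s⁻¹ * a) * (t⁻¹ * b) := by
      calc (s * t)⁻¹ * (a * b) = (t⁻¹ * (s⁻¹ * a)) * b := by group
        _ = ((s⁻¹ * a) * t⁻¹) * b := by rw [hc]
        _ = (s⁻¹ * a) * (t⁻¹ * b) := by group
    rw [e]
    exact Subgroup.mul_mem _ hsa htb
  inv_mem' := by
    rintro a ⟨s, hs, hsa⟩
    refine ⟨s⁻¹, S.inv_mem hs, ?_⟩
    have hc : s * (s⁻¹ * a)⁻¹ = (s⁻¹ * a)⁻¹ * s :=
      (Subgroup.mem_centralizer_iff.mp (Subgroup.inv_mem _ hsa)) s hs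
    have e : s⁻¹⁻¹ * a⁻¹ = (s⁻¹ * a)⁻¹ := by
      calc s⁻¹⁻¹ * a⁻¹ = (s * (s⁻¹ * a)⁻¹) * s⁻¹ := by group
        _ = ((s⁻¹ * a)⁻¹ * s) * s⁻¹ := by rw [hc]
        _ = (s⁻¹ * a)⁻¹ := by group
    rw [e]
    exact Subgroup.inv_mem _ hsa

lemma mem_prodCent {S : Subgroup G} {n : G} :
    n ∈ prodCent S ↔ ∃ s ∈ S, s⁻¹ * n ∈ Subgroup.centralizer (S : Set G) := Iff.rfl

lemma le_prodCent (S : Subgroup G) : S ≤ prodCent S := by
  intro s hs
  exact ⟨s, hs, by simp⟩

lemma centralizer_le_prodCent (S : Subgroup G) :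
    Subgroup.centralizer (S : Set G) ≤ prodCent S := by
  intro c hc
  exact ⟨1, S.one_mem, by simpa using hc⟩

lemma proj_unique {S : Subgroup G} (hZ : S ⊓ Subgroup.centralizer (S : Set G) = ⊥)
    {n s t : G} (hs : s ∈ S) (ht : t ∈ S)
    (hsn : s⁻¹ * n ∈ Subgroup.centralizer (S : Set G))
    (htn : t⁻¹ * n ∈ Subgroup.centralizer (S : Set G)) : s = t := by
  have h1 : s⁻¹ * t ∈ Subgroup.centralizer (S : Set G) := by
    have := Subgroup.mul_mem _ hsn (Subgroup.inv_mem _ htn)
    have e : s⁻¹ * n * (t⁻¹ * n)⁻¹ = s⁻¹ * t := by group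
    rwa [e] at this
  have h2 : s⁻¹ * t ∈ S ⊓ Subgroup.centralizer (S : Set G) :=
    ⟨S.mul_mem (S.inv_mem hs) ht, h1⟩
  rw [hZ, Subgroup.mem_bot] at h2
  exact (inv_mul_eq_one.mp h2)

/-- projection of `N ≤ S·C(S)` onto `S` -/
noncomputable def projHom (S N : Subgroup G)
    (hZ : S ⊓ Subgroup.centralizer (S : Set G) = ⊥) (hN : N ≤ prodCent S) : N →* S :=
  MonoidHom.mk' (fun n => ⟨Classical.choose (hN n.2), (Classical.choose_spec (hN n.2)).1⟩) (by
    intro a b
    apply Subtype.ext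
    have ha := Classical.choose_spec (hN a.2)
    have hb := Classical.choose_spec (hN b.2)
    have hab := Classical.choose_spec (hN (a * b).2)
    set s := Classical.choose (hN a.2)
    set t := Classical.choose (hN b.2)
    set u := Classical.choose (hN (a * b).2)
    show u = s * t
    refine proj_unique hZ hab.1 (S.mul_mem ha.1 hb.1) hab.2 ?_
    have hc : t⁻¹ * (s⁻¹ * (a : G)) = (s⁻¹ * (a : G)) * t⁻¹ :=
      (Subgroup.mem_centralizer_iff.mp ha.2) t⁻¹ (S.inv_mem hb.1)
    have e : (s * t)⁻¹ * ((a * b : N) : G) = (s⁻¹ * (a : G)) * (t⁻¹ * (b : G)) := by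
      calc (s * t)⁻¹ * ((a * b : N) : G) = (t⁻¹ * (s⁻¹ * (a : G))) * (b : G) := by
            rw [Subgroup.coe_mul]; group
        _ = ((s⁻¹ * (a : G)) * t⁻¹) * (b : G) := by rw [hc]
        _ = (s⁻¹ * (a : G)) * (t⁻¹ * (b : G)) := by group
    rw [e]
    exact Subgroup.mul_mem _ ha.2 hb.2)

variable {S N : Subgroup G} (hZ : S ⊓ Subgroup.centralizer (S : Set G) = ⊥) (hN : N ≤ prodCent S)

lemma projHom_spec (n : N) :
    ((projHom S N hZ hN n : S) : G)⁻¹ * (n : G) ∈ Subgroup.centralizer (S : Set G) :=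
  (Classical.choose_spec (hN n.2)).2

lemma projHom_eq_of (n : N) {s : G} (hs : s ∈ S)
    (hsn : s⁻¹ * (n : G) ∈ Subgroup.centralizer (S : Set G)) :
    ((projHom S N hZ hN n : S) : G) = s :=
  proj_unique hZ (projHom S N hZ hN n).2 hs (projHom_spec hZ hN n) hsn

lemma projHom_of_mem (n : N) (hn : (n : G) ∈ S) : ((projHom S N hZ hN n : S) : G) = n :=
  projHom_eq_of hZ hN n hn (by simp)

lemma projHom_of_centralizer (n : N) (hn : (n : G) ∈ Subgroup.centralizer (S : Set G)) :
    projHom S N hZ hN n = 1 := by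
  apply Subtype.ext
  rw [projHom_eq_of hZ hN n S.one_mem (by simpa using hn)]
  rfl

lemma projHom_eq_one_iff (n : N) :
    projHom S N hZ hN n = 1 ↔ (n : G) ∈ Subgroup.centralizer (S : Set G) := by
  constructor
  · intro h
    have := projHom_spec hZ hN n
    rw [h] at this
    simpa using this
  · exact projHom_of_centralizer hZ hN n


/-! ### conjugation -/

abbrev cj (g : G) (S : Subgroup G) : Subgroup G := S.map (MulAut.conj g).toMonoidHom

lemma conj_mem_cj {S : Subgroup G} (g : G) {x : G} (hx : x ∈ S) : g * x * g⁻¹ ∈ cj g S := by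
  rw [mem_map_conj]
  have e : g⁻¹ * (g * x * g⁻¹) * g = x := by group
  rwa [e]

lemma conj_mem_centralizer_cj {S : Subgroup G} (g : G) {c : G}
    (hc : c ∈ Subgroup.centralizer (S : Set G)) :
    g * c * g⁻¹ ∈ Subgroup.centralizer ((cj g S : Subgroup G) : Set G) := by
  rw [Subgroup.mem_centralizer_iff]
  intro y hy
  have hy' : g⁻¹ * y * g ∈ S := (mem_map_conj S g y).mp hy
  have h := (Subgroup.mem_centralizer_iff.mp hc) _ hy'
  calc y * (g * c * g⁻¹) = g * ((g⁻¹ * y * g) * c) * g⁻¹ := by group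
    _ = g * (c * (g⁻¹ * y * g)) * g⁻¹ := by rw [h]
    _ = g * c * g⁻¹ * y := by group

lemma projHom_conj (g : G) (hZ' : cj g S ⊓ Subgroup.centralizer ((cj g S : Subgroup G) : Set G) = ⊥)
    (hN' : N ≤ prodCent (cj g S)) (n n' : N) (hn' : (n' : G) = g * (n : G) * g⁻¹) :
    ((projHom (cj g S) N hZ' hN' n' : cj g S) : G)
      = g * ((projHom S N hZ hN n : S) : G) * g⁻¹ := by
  apply projHom_eq_of hZ' hN' n' (conj_mem_cj g (projHom S N hZ hN n).2)
  have h := conj_mem_centralizer_cj g (projHom_spec hZ hN n)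
  have e : (g * ((projHom S N hZ hN n : S) : G) * g⁻¹)⁻¹ * (n' : G)
      = g * (((projHom S N hZ hN n : S) : G)⁻¹ * (n : G)) * g⁻¹ := by
    rw [hn']; group
  rw [e]
  exact h

/-! ### families -/

structure IsFam (N : Subgroup G) {I : Type*} (Sub : I → Subgroup G) : Prop where
  le : ∀ i, Sub i ≤ N
  comm : ∀ i j, i ≠ j → Sub j ≤ Subgroup.centralizer (Sub i : Set G)
  hZ : ∀ i, Sub i ⊓ Subgroup.centralizer (Sub i : Set G) = ⊥
  hN : ∀ i, N ≤ prodCent (Sub i)
  inj : ∀ n ∈ N, (∀ i, n ∈ Subgroup.centralizer (Sub i : Set G)) → n = 1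
  simple : ∀ i, IsSimpleGroup (Sub i)

namespace IsFam

variable {N : Subgroup G} {I : Type*} {Sub : I → Subgroup G} (F : IsFam N Sub)

/-- the `i`-th projection -/
noncomputable def π (i : I) : N →* Sub i := projHom (Sub i) N (F.hZ i) (F.hN i)

lemma π_self (i : I) (n : N) (hn : (n : G) ∈ Sub i) : ((F.π i n : Sub i) : G) = n :=
  projHom_of_mem (F.hZ i) (F.hN i) n hn

lemma π_other {i j : I} (hij : i ≠ j) (n : N) (hn : (n : G) ∈ Sub j) : F.π i n = 1 :=
  projHom_of_centralizer (F.hZ i) (F.hN i) n (F.comm i j hij hn)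

lemma π_eq_one_iff (i : I) (n : N) :
    F.π i n = 1 ↔ (n : G) ∈ Subgroup.centralizer (Sub i : Set G) :=
  projHom_eq_one_iff (F.hZ i) (F.hN i) n

lemma eq_one_of_π (n : N) (h : ∀ i, F.π i n = 1) : n = 1 := by
  apply Subtype.ext
  exact F.inj n n.2 (fun i => (F.π_eq_one_iff i n).mp (h i))

lemma ext_π (n n' : N) (h : ∀ i, F.π i n = F.π i n') : n = n' := by
  have : n⁻¹ * n' = 1 := by
    apply F.eq_one_of_π
    intro i
    rw [map_mul, map_inv, h i, inv_mul_cancel]
  exact inv_mul_eq_one.mp this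

/-- the coordinate isomorphism -/
noncomputable def coordHom {T : Type*} [Group T] (ψ : ∀ i, Sub i ≃* T) : N →* (I → T) :=
  MonoidHom.pi (fun i => (ψ i).toMonoidHom.comp (F.π i))

lemma coordHom_apply {T : Type*} [Group T] (ψ : ∀ i, Sub i ≃* T) (n : N) (i : I) :
    F.coordHom ψ n i = ψ i (F.π i n) := rfl

lemma coordHom_injective {T : Type*} [Group T] (ψ : ∀ i, Sub i ≃* T) :
    Function.Injective (F.coordHom ψ) := by
  intro n n' h
  apply F.ext_π
  intro i
  have := congrFun h i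
  rw [coordHom_apply, coordHom_apply] at this
  exact (ψ i).injective this

lemma coordHom_surjective [Finite I] {T : Type*} [Group T] (ψ : ∀ i, Sub i ≃* T) :
    Function.Surjective (F.coordHom ψ) := by
  classical
  rw [← MonoidHom.range_eq_top]
  rw [eq_top_iff, ← Subgroup.pi_top (Set.univ : Set I), Subgroup.pi_le_iff]
  intro i
  rintro _ ⟨t, -, rfl⟩
  let s : Sub i := (ψ i).symm t
  refine ⟨⟨(s : G), F.le i s.2⟩, ?_⟩
  funext j
  rw [coordHom_apply]
  by_cases hji : j = i
  · subst hji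
    have : F.π j ⟨(s : G), F.le j s.2⟩ = s := by
      apply Subtype.ext
      exact F.π_self j ⟨(s : G), F.le j s.2⟩ s.2
    rw [this]
    simp [s]
  · rw [F.π_other hji ⟨(s : G), F.le i s.2⟩ s.2]
    simp [MonoidHom.mulSingle_apply, Pi.mulSingle_eq_of_ne hji]

noncomputable def coordEquiv [Finite I] {T : Type*} [Group T] (ψ : ∀ i, Sub i ≃* T) :
    N ≃* (I → T) :=
  MulEquiv.ofBijective (F.coordHom ψ) ⟨F.coordHom_injective ψ, F.coordHom_surjective ψ⟩

lemma coordEquiv_apply [Finite I] {T : Type*} [Group T] (ψ : ∀ i, Sub i ≃* T) (n : N) (i : I) :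
    F.coordEquiv ψ n i = ψ i (F.π i n) := rfl

end IsFam


/-! ### the family of a non-abelian minimal normal subgroup -/

section build

variable [Finite G] (N : Subgroup G) [N.Normal]
  (hmin : ∀ M : Subgroup G, M.Normal → M ≤ N → M = ⊥ ∨ M = N)

/-- index type: the conjugates of `S` -/
abbrev Idx (S : Subgroup G) : Type _ := {X : Subgroup G // ∃ g : G, X = cj g S}

omit [Finite G] in
lemma mem_centralizer_of_forall {ι : Type*} (A : ι → Subgroup G) {x : G}
    (h : ∀ j, x ∈ Subgroup.centralizer (A j : Set G)) :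
    x ∈ Subgroup.centralizer ((⨆ j, A j : Subgroup G) : Set G) := by
  have hle : (⨆ j, A j) ≤ Subgroup.centralizer ({x} : Set G) := by
    refine iSup_le fun j => ?_
    intro y hy
    rw [Subgroup.mem_centralizer_iff]
    intro z hz
    rw [Set.mem_singleton_iff] at hz
    subst hz
    exact ((Subgroup.mem_centralizer_iff.mp (h j)) y hy).symm
  rw [Subgroup.mem_centralizer_iff]
  intro y hy
  have := (Subgroup.mem_centralizer_iff.mp (hle hy)) x (Set.mem_singleton x)
  exact this.symm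

include hmin in
lemma center_eq_bot (hnab : ¬ IsMulCommutative N) :
    N ⊓ Subgroup.centralizer (N : Set G) = ⊥ := by
  have hnorm : (N ⊓ Subgroup.centralizer (N : Set G)).Normal := inferInstance
  rcases hmin _ hnorm inf_le_left with h | h
  · exact h
  · exfalso
    apply hnab
    have hle : N ≤ Subgroup.centralizer (N : Set G) := by
      have h2 : N ⊓ Subgroup.centralizer (N : Set G) ≤ Subgroup.centralizer (N : Set G) :=
        inf_le_right
      rwa [h] at h2
    refine ⟨⟨fun a b => ?_⟩⟩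
    apply Subtype.ext
    exact ((Subgroup.mem_centralizer_iff.mp (hle a.2)) b b.2).symm

include hmin in
theorem isFam_of_minNormalIn (hnab : ¬ IsMulCommutative N) {S : Subgroup G}
    (hS : MinNormalIn N S) : IsFam N (fun i : Idx S => i.1) := by
  have hconj : ∀ i : Idx S, MinNormalIn N i.1 := by
    intro i
    obtain ⟨g, h⟩ := i.2
    rw [h]
    exact hS.map_conj g
  have hsup : (⨆ i : Idx S, i.1) = N := by
    apply le_antisymm
    · exact iSup_le fun i => (hconj i).1
    · rw [← iSup_map_conj_eq N hmin hS]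
      refine iSup_le fun h => ?_
      exact le_iSup (fun i : Idx S => i.1) ⟨cj h S, ⟨h, rfl⟩⟩
  have hcomm : ∀ i j : Idx S, i ≠ j → j.1 ≤ Subgroup.centralizer (i.1 : Set G) := by
    intro i j hij y hy
    have hnle : ¬ i.1 ≤ j.1 := by
      intro hle
      rcases (hconj j).2.2.2 i.1 hle (hconj i).2.2.1 with h | h
      · exact (hconj i).2.1 h
      · exact hij (Subtype.ext h)
    have hd := (hconj i).disjoint_of_not_le (hconj j).2.2.1 hnle
    rw [Subgroup.mem_centralizer_iff]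
    intro x hx
    exact commute_of_disjoint (hconj i).1 (hconj j).1 (hconj i).2.2.1 (hconj j).2.2.1 hd x hx y hy
  have hZN := center_eq_bot N hmin hnab
  have hcent : ∀ x ∈ N, (∀ i : Idx S, x ∈ Subgroup.centralizer (i.1 : Set G)) → x = 1 := by
    intro x hx h
    have h1 := mem_centralizer_of_forall (fun i : Idx S => i.1) h
    rw [hsup] at h1
    have : x ∈ N ⊓ Subgroup.centralizer (N : Set G) := ⟨hx, h1⟩
    rw [hZN, Subgroup.mem_bot] at this
    exact this
  refine ⟨fun i => (hconj i).1, hcomm, ?_, ?_, hcent, fun i => (hconj i).isSimpleGroup N hmin⟩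
  · intro i
    rw [eq_bot_iff]
    intro x hx
    rw [Subgroup.mem_bot]
    apply hcent x ((hconj i).1 hx.1)
    intro j
    by_cases hji : j = i
    · subst hji; exact hx.2
    · exact hcomm j i hji hx.1
  · intro i
    rw [← hsup]
    refine iSup_le fun j => ?_
    by_cases hji : j = i
    · subst hji; exact le_prodCent _
    · exact (hcomm i j (fun h => hji h.symm)).trans (centralizer_le_prodCent _)

end build


/-! ### the conjugation action on the index set -/

section action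

variable (S : Subgroup G)

lemma cj_one (X : Subgroup G) : cj 1 X = X := by
  ext y
  rw [mem_map_conj]
  simp

lemma cj_cj (X : Subgroup G) (g h : G) : cj g (cj h X) = cj (g * h) X :=
  map_conj_map_conj X h g

/-- the action of `g` on the index set -/
def act (g : G) (i : Idx S) : Idx S :=
  ⟨cj g i.1, by
    obtain ⟨g', h⟩ := i.2
    exact ⟨g * g', by rw [h, cj_cj]⟩⟩

lemma act_val (g : G) (i : Idx S) : (act S g i).1 = cj g i.1 := rfl

lemma act_act (g h : G) (i : Idx S) : act S g (act S h i) = act S (g * h) i :=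
  Subtype.ext (cj_cj i.1 g h)

lemma act_one (i : Idx S) : act S 1 i = i := Subtype.ext (cj_one i.1)

lemma act_inv_act (g : G) (i : Idx S) : act S g⁻¹ (act S g i) = i := by
  rw [act_act, inv_mul_cancel, act_one]

lemma act_act_inv (g : G) (i : Idx S) : act S g (act S g⁻¹ i) = i := by
  rw [act_act, mul_inv_cancel, act_one]

/-- `act g` as an equivalence -/
def actEquiv (g : G) : Idx S ≃ Idx S where
  toFun := act S g
  invFun := act S g⁻¹
  left_inv := act_inv_act S g
  right_inv := act_act_inv S g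

lemma act_transitive (i j : Idx S) : ∃ g : G, act S g i = j := by
  obtain ⟨g₁, h₁⟩ := i.2
  obtain ⟨g₂, h₂⟩ := j.2
  refine ⟨g₂ * g₁⁻¹, Subtype.ext ?_⟩
  rw [act_val, h₁, h₂, cj_cj, inv_mul_cancel_right]

lemma act_of_normalizes (i : Idx S) {n : G}
    (hn : n ∈ Subgroup.normalizer ((i.1 : Subgroup G) : Set G)) : act S n i = i :=
  Subtype.ext ((mem_normalizer_iff_map_conj i.1 n).mp hn)

instance : Nonempty (Idx S) := ⟨⟨S, 1, (cj_one S).symm⟩⟩

end action


/-! ### analysis of a maximal subgroup `Γ` -/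

section analysis

variable [Finite G] {N : Subgroup G} [hNn : N.Normal] {S : Subgroup G}
  (F : IsFam N (fun i : Idx S => i.1)) (Γ : Subgroup G)

/-- conjugation inside the normal subgroup `N` -/
def conjN (g : G) (n : N) : N := ⟨g * (n : G) * g⁻¹, hNn.conj_mem n n.2 g⟩

omit [Finite G] in
lemma π_conj (g : G) (i : Idx S) (n : N) :
    ((F.π (act S g i) (conjN g n) : (act S g i).1) : G) = g * ((F.π i n : i.1) : G) * g⁻¹ :=
  projHom_conj (F.hZ i) (F.hN i) g (F.hZ (act S g i)) (F.hN (act S g i)) n (conjN g n) rfl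

/-- `D = N ∩ Γ` as a subgroup of `N` -/
abbrev DD : Subgroup N := Γ.subgroupOf N

omit [Finite G] in
lemma conjN_mem_DD {h : G} (hh : h ∈ Γ) {d : N} (hd : d ∈ DD (N := N) Γ) :
    conjN h d ∈ DD (N := N) Γ := by
  rw [Subgroup.mem_subgroupOf] at hd ⊢
  exact Γ.mul_mem (Γ.mul_mem hh hd) (Γ.inv_mem hh)

omit [Finite G] in
lemma conjN_conjN_inv (h : G) (n : N) : conjN h (conjN h⁻¹ n) = n := by
  apply Subtype.ext
  show h * (h⁻¹ * (n : G) * h⁻¹⁻¹) * h⁻¹ = n
  group

omit [Finite G] in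
/-- equivariance of the images of `D` -/
lemma map_π_act {h : G} (hh : h ∈ Γ) (i : Idx S) {n : N}
    (hn : F.π i n ∈ (DD (N := N) Γ).map (F.π i)) :
    F.π (act S h i) (conjN h n) ∈ (DD (N := N) Γ).map (F.π (act S h i)) := by
  obtain ⟨d, hd, hdn⟩ := hn
  refine ⟨conjN h d, conjN_mem_DD Γ hh hd, ?_⟩
  apply Subtype.ext
  rw [π_conj, π_conj, hdn]

include F in
theorem case1 (hΓ : IsCoatom Γ)
    (hmin : ∀ M : Subgroup G, M.Normal → M ≤ N → M = ⊥ ∨ M = N)
    (htrans : ∀ i j : Idx S, ∃ h ∈ Γ, act S h i = j) (i₀ : Idx S)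
    (hi₀ : (DD (N := N) Γ).map (F.π i₀) ≠ ⊤) :
    (∀ i, (DD (N := N) Γ).map (F.π i) ≠ ⊤) ∧
      ∀ n : N, (n : G) ∈ Γ ↔ ∀ i, F.π i n ∈ (DD (N := N) Γ).map (F.π i) := by
  classical
  -- surjectivity of π
  have hsurj : ∀ (i : Idx S) (s : i.1), ∃ n : N, F.π i n = s := by
    intro i s
    refine ⟨⟨(s : G), F.le i s.2⟩, ?_⟩
    apply Subtype.ext
    exact F.π_self i ⟨(s : G), F.le i s.2⟩ s.2
  have hall : ∀ i, (DD (N := N) Γ).map (F.π i) ≠ ⊤ := by
    intro i htop
    apply hi₀
    obtain ⟨h, hh, hact⟩ := htrans i i₀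
    rw [eq_top_iff]
    intro s _
    -- s ∈ S_{i₀} = S_{act h i}
    obtain ⟨n, hn⟩ := hsurj i₀ s
    have h1 : F.π i (conjN h⁻¹ n) ∈ (DD (N := N) Γ).map (F.π i) := by
      rw [htop]; trivial
    have h2 := map_π_act F Γ hh i h1
    rw [conjN_conjN_inv] at h2
    rw [hact] at h2
    rw [← hn]
    exact h2
  refine ⟨hall, ?_⟩
  -- the subgroup R of N
  let RN : Subgroup N := ⨅ i, ((DD (N := N) Γ).map (F.π i)).comap (F.π i)
  have hRN : ∀ n : N, n ∈ RN ↔ ∀ i, F.π i n ∈ (DD (N := N) Γ).map (F.π i) := by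
    intro n
    simp only [RN, Subgroup.mem_iInf, Subgroup.mem_comap]
  have hDR : DD (N := N) Γ ≤ RN := by
    intro d hd
    rw [hRN]
    intro i
    exact Subgroup.mem_map_of_mem _ hd
  let RG : Subgroup G := RN.map N.subtype
  have hRGN : RG ≤ N := by
    rintro _ ⟨n, -, rfl⟩
    exact n.2
  have hΓR : Γ ≤ Subgroup.normalizer (RG : Set G) := by
    intro h hh
    apply Subgroup.mem_normalizer_fintype
    rintro _ ⟨n, hn, rfl⟩
    refine ⟨conjN h n, ?_, rfl⟩
    rw [SetLike.mem_coe, hRN] at hn ⊢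
    intro j
    have := map_π_act F Γ hh (act S h⁻¹ j) (hn (act S h⁻¹ j))
    rw [act_act_inv] at this
    exact this
  have hRD : RN ≤ DD (N := N) Γ := by
    rcases hΓ.le_iff.mp hΓR with htop | heq
    · -- RG normal in G
      have hnorm : RG.Normal := Subgroup.normalizer_eq_top_iff.mp htop
      rcases hmin RG hnorm hRGN with hb | hN'
      · intro n hn
        have : (n : G) ∈ RG := ⟨n, hn, rfl⟩
        rw [hb, Subgroup.mem_bot] at this
        have hn1 : n = 1 := Subtype.ext this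
        rw [hn1]; exact Subgroup.one_mem _
      · exfalso
        apply hi₀
        rw [eq_top_iff]
        intro s _
        obtain ⟨n, hn⟩ := hsurj i₀ s
        have hnR : (n : G) ∈ RG := by rw [hN']; exact n.2
        obtain ⟨n', hn', hnn'⟩ := hnR
        have : n' = n := Subtype.ext hnn'
        rw [this, SetLike.mem_coe, hRN] at hn'
        rw [← hn]
        exact hn' i₀
    · intro n hn
      rw [Subgroup.mem_subgroupOf]
      have h1 : (n : G) ∈ RG := ⟨n, hn, rfl⟩
      have h2 : RG ≤ Subgroup.normalizer (RG : Set G) := Subgroup.le_normalizer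
      rw [heq] at h2
      exact h2 h1
  intro n
  rw [← hRN]
  constructor
  · intro hn
    exact hDR (Subgroup.mem_subgroupOf.mpr hn)
  · intro hn
    exact Subgroup.mem_subgroupOf.mp (hRD hn)


/-! #### the subdirect case -/

/-- `i ~ j` iff the projections have the same kernel on `D` -/
def rel (i j : Idx S) : Prop := ∀ d ∈ DD (N := N) Γ, F.π i d = 1 ↔ F.π j d = 1

omit [Finite G] hNn in
lemma rel_refl (i : Idx S) : rel F Γ i i := fun _ _ => Iff.rfl

omit [Finite G] hNn in
lemma rel_symm {i j : Idx S} (h : rel F Γ i j) : rel F Γ j i := fun d hd => (h d hd).symm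

omit [Finite G] hNn in
lemma rel_trans {i j k : Idx S} (h₁ : rel F Γ i j) (h₂ : rel F Γ j k) : rel F Γ i k :=
  fun d hd => (h₁ d hd).trans (h₂ d hd)

omit [Finite G] hNn in
lemma map_normal (hsub : ∀ i, (DD (N := N) Γ).map (F.π i) = ⊤) (i : Idx S) (L : Subgroup N)
    (hnorm : ∀ d ∈ DD (N := N) Γ, ∀ l ∈ L, d * l * d⁻¹ ∈ L) : (L.map (F.π i)).Normal := by
  constructor
  rintro _ ⟨l, hl, rfl⟩ s
  have hs : s ∈ (DD (N := N) Γ).map (F.π i) := by rw [hsub]; trivial
  obtain ⟨d, hd, rfl⟩ := hs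
  exact ⟨d * l * d⁻¹, hnorm d hd l hl, by simp [map_mul, map_inv]⟩

omit [Finite G] hNn in
lemma map_eq_top_of_ne (hsub : ∀ i, (DD (N := N) Γ).map (F.π i) = ⊤) (i : Idx S) (L : Subgroup N)
    (hnorm : ∀ d ∈ DD (N := N) Γ, ∀ l ∈ L, d * l * d⁻¹ ∈ L) {l : N} (hl : l ∈ L)
    (hne : F.π i l ≠ 1) : L.map (F.π i) = ⊤ := by
  haveI := F.simple i
  rcases (map_normal F Γ hsub i L hnorm).eq_bot_or_eq_top with h | h
  · exfalso
    apply hne
    have : F.π i l ∈ L.map (F.π i) := Subgroup.mem_map_of_mem _ hl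
    rw [h, Subgroup.mem_bot] at this
    exact this
  · exact h

omit [Finite G] hNn in
include F in
/-- a nontrivial element of `S_i` does not commute with everything -/
lemma exists_not_commute (i : Idx S) {x : i.1} (hx : x ≠ 1) : ∃ s : i.1, s * x ≠ x * s := by
  by_contra hcon
  push Not at hcon
  apply hx
  have h1 : (x : G) ∈ i.1 ⊓ Subgroup.centralizer ((i.1 : Subgroup G) : Set G) := by
    rw [Subgroup.mem_inf]
    refine ⟨x.2, ?_⟩
    rw [Subgroup.mem_centralizer_iff]
    intro y hy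
    have := hcon ⟨y, hy⟩
    exact congrArg Subtype.val this
  rw [F.hZ i, Subgroup.mem_bot] at h1
  exact Subtype.ext h1

omit [Finite G] hNn in
lemma exists_sep (hsub : ∀ i, (DD (N := N) Γ).map (F.π i) = ⊤) {i j : Idx S}
    (hij : ¬ rel F Γ i j) : ∃ u ∈ DD (N := N) Γ, F.π j u = 1 ∧ F.π i u ≠ 1 := by
  by_contra hno
  push Not at hno
  -- K_j ⊆ K_i
  unfold rel at hij
  push Not at hij
  obtain ⟨d, hd, hdd⟩ := hij
  have hd1 : F.π i d = 1 ∧ F.π j d ≠ 1 := by
    by_cases h1 : F.π j d = 1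
    · exfalso
      have h2 := hno d hd h1
      rcases hdd with ⟨_, h⟩ | ⟨h, _⟩
      · exact h h1
      · exact h h2
    · rcases hdd with ⟨h, _⟩ | ⟨h, h'⟩
      · exact ⟨h, h1⟩
      · exact absurd h' h1
  -- the kernel of π i on D
  let K : Subgroup N := DD (N := N) Γ ⊓ (F.π i).ker
  have hKn : ∀ d' ∈ DD (N := N) Γ, ∀ l ∈ K, d' * l * d'⁻¹ ∈ K := by
    intro d' hd' l hl
    rw [Subgroup.mem_inf] at hl ⊢
    refine ⟨Subgroup.mul_mem _ (Subgroup.mul_mem _ hd' hl.1) (Subgroup.inv_mem _ hd'), ?_⟩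
    rw [MonoidHom.mem_ker, map_mul, map_mul, map_inv, MonoidHom.mem_ker.mp hl.2]
    simp
  have htop := map_eq_top_of_ne F Γ hsub j K hKn (l := d)
    (Subgroup.mem_inf.mpr ⟨hd, MonoidHom.mem_ker.mpr hd1.1⟩) hd1.2
  -- then π i kills D
  have hkill : ∀ d' ∈ DD (N := N) Γ, F.π i d' = 1 := by
    intro d' hd'
    have : F.π j d' ∈ K.map (F.π j) := by rw [htop]; trivial
    obtain ⟨k, hk, hkd⟩ := Subgroup.mem_map.mp this
    rw [Subgroup.mem_inf] at hk
    have h1 : F.π j (d' * k⁻¹) = 1 := by rw [map_mul, map_inv, hkd, mul_inv_cancel]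
    have h2 := hno (d' * k⁻¹) (Subgroup.mul_mem _ hd' (Subgroup.inv_mem _ hk.1)) h1
    rw [map_mul, map_inv, MonoidHom.mem_ker.mp hk.2, inv_one, mul_one] at h2
    exact h2
  -- contradiction with surjectivity
  haveI := F.simple i
  obtain ⟨x, hx⟩ := exists_ne (1 : i.1)
  have : x ∈ (DD (N := N) Γ).map (F.π i) := by rw [hsub]; trivial
  obtain ⟨d', hd', rfl⟩ := this
  exact hx (hkill d' hd')

omit [Finite G] hNn in
lemma exists_sep_finset (hsub : ∀ i, (DD (N := N) Γ).map (F.π i) = ⊤) (i : Idx S) :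
    ∀ J : Finset (Idx S), (∀ j ∈ J, ¬ rel F Γ i j) →
      ∃ d ∈ DD (N := N) Γ, (∀ j ∈ J, F.π j d = 1) ∧ F.π i d ≠ 1 := by
  classical
  intro J
  induction J using Finset.induction_on with
  | empty =>
    intro _
    haveI := F.simple i
    obtain ⟨x, hx⟩ := exists_ne (1 : i.1)
    have : x ∈ (DD (N := N) Γ).map (F.π i) := by rw [hsub]; trivial
    obtain ⟨d', hd', rfl⟩ := this
    exact ⟨d', hd', by simp, hx⟩
  | insert j₀ J' hj₀ ih =>
    intro hJ
    obtain ⟨d', hd', hd'J, hd'i⟩ := ih (fun j hj => hJ j (Finset.mem_insert_of_mem hj))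
    obtain ⟨u, hu, huj, hui⟩ := exists_sep F Γ hsub (hJ j₀ (Finset.mem_insert_self _ _))
    let L : Subgroup N := DD (N := N) Γ ⊓ ⨅ j ∈ J', (F.π j).ker
    have hL : ∀ l : N, l ∈ L ↔ l ∈ DD (N := N) Γ ∧ ∀ j ∈ J', F.π j l = 1 := by
      intro l
      simp only [L, Subgroup.mem_inf, Subgroup.mem_iInf, MonoidHom.mem_ker]
    have hLn : ∀ d ∈ DD (N := N) Γ, ∀ l ∈ L, d * l * d⁻¹ ∈ L := by
      intro d hd l hl
      rw [hL] at hl ⊢
      refine ⟨Subgroup.mul_mem _ (Subgroup.mul_mem _ hd hl.1) (Subgroup.inv_mem _ hd), ?_⟩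
      intro j hj
      rw [map_mul, map_mul, map_inv, hl.2 j hj]
      simp
    have htop := map_eq_top_of_ne F Γ hsub i L hLn (l := d') ((hL d').mpr ⟨hd', hd'J⟩) hd'i
    obtain ⟨s, hs⟩ := exists_not_commute F i hui
    have : s ∈ L.map (F.π i) := by rw [htop]; trivial
    obtain ⟨d, hdL, rfl⟩ := Subgroup.mem_map.mp this
    rw [hL] at hdL
    refine ⟨d * u * d⁻¹ * u⁻¹, ?_, ?_, ?_⟩
    · exact Subgroup.mul_mem _ (Subgroup.mul_mem _ (Subgroup.mul_mem _ hdL.1 hu)
        (Subgroup.inv_mem _ hdL.1)) (Subgroup.inv_mem _ hu)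
    · intro j hj
      rcases Finset.mem_insert.mp hj with rfl | hj'
      · simp [map_mul, map_inv, huj]
      · simp [map_mul, map_inv, hdL.2 j hj']
    · intro h
      apply hs
      rw [map_mul, map_mul, map_mul, map_inv, map_inv] at h
      have h2 : F.π i d * F.π i u = F.π i u * F.π i d := by
        have := congrArg (fun z => z * (F.π i u * F.π i d)) h
        simpa [mul_assoc] using this
      exact h2

omit hNn in
lemma exists_diag (hsub : ∀ i, (DD (N := N) Γ).map (F.π i) = ⊤) (i : Idx S) (s : i.1) :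
    ∃ d ∈ DD (N := N) Γ, F.π i d = s ∧ ∀ j, ¬ rel F Γ i j → F.π j d = 1 := by
  classical
  haveI : Fintype (Idx S) := Fintype.ofFinite _
  obtain ⟨d', hd', hd'J, hd'i⟩ := exists_sep_finset F Γ hsub i
    (Finset.univ.filter (fun j => ¬ rel F Γ i j)) (fun j hj => (Finset.mem_filter.mp hj).2)
  let L : Subgroup N := DD (N := N) Γ ⊓ ⨅ j, ⨅ (_ : ¬ rel F Γ i j), (F.π j).ker
  have hL : ∀ l : N, l ∈ L ↔ l ∈ DD (N := N) Γ ∧ ∀ j, ¬ rel F Γ i j → F.π j l = 1 := by
    intro l
    simp only [L, Subgroup.mem_inf, Subgroup.mem_iInf, MonoidHom.mem_ker]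
  have hLn : ∀ d ∈ DD (N := N) Γ, ∀ l ∈ L, d * l * d⁻¹ ∈ L := by
    intro d hd l hl
    rw [hL] at hl ⊢
    refine ⟨Subgroup.mul_mem _ (Subgroup.mul_mem _ hd hl.1) (Subgroup.inv_mem _ hd), ?_⟩
    intro j hj
    rw [map_mul, map_mul, map_inv, hl.2 j hj]
    simp
  have hd'L : d' ∈ L := by
    rw [hL]
    exact ⟨hd', fun j hj => hd'J j (Finset.mem_filter.mpr ⟨Finset.mem_univ _, hj⟩)⟩
  have htop := map_eq_top_of_ne F Γ hsub i L hLn hd'L hd'i
  have : s ∈ L.map (F.π i) := by rw [htop]; trivial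
  obtain ⟨d, hdL, rfl⟩ := Subgroup.mem_map.mp this
  rw [hL] at hdL
  exact ⟨d, hdL.1, rfl, hdL.2⟩


omit [Finite G] in
lemma exists_mulEquiv_of_ker {D₀ A B : Type*} [Group D₀] [Group A] [Group B] (f : D₀ →* A)
    (g : D₀ →* B) (hf : Function.Surjective f) (hg : Function.Surjective g)
    (h : ∀ d, f d = 1 ↔ g d = 1) : ∃ φ : A ≃* B, ∀ d, φ (f d) = g d := by
  let φ₁ : A →* B := f.liftOfSurjective hf ⟨g, fun d hd => by
    rw [MonoidHom.mem_ker] at hd ⊢; exact (h d).mp hd⟩
  let φ₂ : B →* A := g.liftOfSurjective hg ⟨f, fun d hd => by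
    rw [MonoidHom.mem_ker] at hd ⊢; exact (h d).mpr hd⟩
  have h1 : ∀ d, φ₁ (f d) = g d := fun d =>
    MonoidHom.liftOfRightInverse_comp_apply _ _ (Function.rightInverse_surjInv hf) ⟨g, _⟩ d
  have h2 : ∀ d, φ₂ (g d) = f d := fun d =>
    MonoidHom.liftOfRightInverse_comp_apply _ _ (Function.rightInverse_surjInv hg) ⟨f, _⟩ d
  refine ⟨MonoidHom.toMulEquiv φ₁ φ₂ ?_ ?_, ?_⟩
  · ext a
    obtain ⟨d, rfl⟩ := hf a
    simp [h1, h2]
  · ext b
    obtain ⟨d, rfl⟩ := hg b
    simp [h1, h2]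
  · intro d
    exact h1 d

/-- the setoid of `rel` -/
def relSetoid : Setoid (Idx S) := ⟨rel F Γ, ⟨rel_refl F Γ, rel_symm F Γ, rel_trans F Γ⟩⟩

/-- a representative of the class of `i` -/
noncomputable def rep (i : Idx S) : Idx S := (Quotient.mk (relSetoid F Γ) i).out

omit [Finite G] hNn in
lemma rep_rel (i : Idx S) : rel F Γ (rep F Γ i) i :=
  Quotient.exact (s := relSetoid F Γ) (Quotient.out_eq _)

omit [Finite G] hNn in
lemma rep_eq {i j : Idx S} (h : rel F Γ i j) : rep F Γ i = rep F Γ j := by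
  unfold rep
  rw [Quotient.sound (s := relSetoid F Γ) h]

omit [Finite G] hNn in
lemma rep_eq_iff {i j : Idx S} : rep F Γ i = rep F Γ j ↔ rel F Γ i j := by
  constructor
  · intro h
    have h1 := rel_symm F Γ (rep_rel F Γ i)
    have h2 := rep_rel F Γ j
    rw [h] at h1
    exact rel_trans F Γ h1 h2
  · exact rep_eq F Γ

omit [Finite G] hNn in
lemma exists_aiso (hsub : ∀ i, (DD (N := N) Γ).map (F.π i) = ⊤) (i : Idx S) :
    ∃ φ : i.1 ≃* (rep F Γ i).1, ∀ d ∈ DD (N := N) Γ, φ (F.π i d) = F.π (rep F Γ i) d := by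
  have hsurj : ∀ j : Idx S, Function.Surjective ((F.π j).comp (DD (N := N) Γ).subtype) := by
    intro j s
    have : s ∈ (DD (N := N) Γ).map (F.π j) := by rw [hsub]; trivial
    obtain ⟨d, hd, rfl⟩ := Subgroup.mem_map.mp this
    exact ⟨⟨d, hd⟩, rfl⟩
  obtain ⟨φ, hφ⟩ := exists_mulEquiv_of_ker ((F.π i).comp (DD (N := N) Γ).subtype)
    ((F.π (rep F Γ i)).comp (DD (N := N) Γ).subtype) (hsurj i) (hsurj _)
    (fun d => (rel_symm F Γ (rep_rel F Γ i)) d.1 d.2)
  exact ⟨φ, fun d hd => hφ ⟨d, hd⟩⟩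

theorem case2_core (hsub : ∀ i, (DD (N := N) Γ).map (F.π i) = ⊤) {T : Type*} [Group T]
    (ψ₀ : ∀ i : Idx S, i.1 ≃* T) :
    ∃ ψ : ∀ i : Idx S, i.1 ≃* T, ∀ n : N, (n : G) ∈ Γ ↔
      ∀ i j, rel F Γ i j → ψ i (F.π i n) = ψ j (F.π j n) := by
  classical
  haveI : Fintype (Idx S) := Fintype.ofFinite _
  choose A hA using exists_aiso F Γ hsub
  let ψ : ∀ i : Idx S, i.1 ≃* T := fun i => (A i).trans (ψ₀ (rep F Γ i))
  have hψD : ∀ d ∈ DD (N := N) Γ, ∀ i, ψ i (F.π i d) = ψ₀ (rep F Γ i) (F.π (rep F Γ i) d) := by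
    intro d hd i
    show ψ₀ (rep F Γ i) (A i (F.π i d)) = _
    rw [hA i d hd]
  have key : ∀ (n : N) (r r' : Idx S), r = r' → ψ₀ r (F.π r n) = ψ₀ r' (F.π r' n) := by
    rintro n r _ rfl; rfl
  have hfwd : ∀ d ∈ DD (N := N) Γ, ∀ i j, rel F Γ i j → ψ i (F.π i d) = ψ j (F.π j d) := by
    intro d hd i j hij
    rw [hψD d hd i, hψD d hd j]
    exact key d _ _ (rep_eq F Γ hij)
  refine ⟨ψ, fun n => ⟨fun hn => hfwd n (Subgroup.mem_subgroupOf.mpr hn), ?_⟩⟩
  -- the converse, by induction on the support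
  have hback : ∀ k : ℕ, ∀ n : N, (Finset.univ.filter (fun i => F.π i n ≠ 1)).card = k →
      (∀ i j, rel F Γ i j → ψ i (F.π i n) = ψ j (F.π j n)) → n ∈ DD (N := N) Γ := by
    intro k
    induction k using Nat.strong_induction_on with
    | _ k ih =>
      intro n hk hcomp
      by_cases hempty : Finset.univ.filter (fun i => F.π i n ≠ 1) = ∅
      · have : n = 1 := by
          apply F.eq_one_of_π
          intro i
          by_contra hne
          have : i ∈ Finset.univ.filter (fun i => F.π i n ≠ 1) :=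
            Finset.mem_filter.mpr ⟨Finset.mem_univ _, hne⟩
          rw [hempty] at this
          exact absurd this (Finset.notMem_empty _)
        rw [this]; exact Subgroup.one_mem _
      · obtain ⟨i, hi⟩ := Finset.nonempty_iff_ne_empty.mpr hempty
        have hine : F.π i n ≠ 1 := (Finset.mem_filter.mp hi).2
        obtain ⟨δ, hδ, hδi, hδj⟩ := exists_diag F Γ hsub i (F.π i n)
        have hδcomp := hfwd δ hδ
        -- components of δ
        have hδsame : ∀ a, rel F Γ i a → F.π a δ = F.π a n := by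
          intro a hia
          apply (ψ a).injective
          rw [← hδcomp i a hia, ← hcomp i a hia, hδi]
        set n' : N := δ⁻¹ * n with hn'
        have hn'a : ∀ a, rel F Γ i a → F.π a n' = 1 := by
          intro a hia
          rw [hn', map_mul, map_inv, hδsame a hia, inv_mul_cancel]
        have hn'b : ∀ a, ¬ rel F Γ i a → F.π a n' = F.π a n := by
          intro a hia
          rw [hn', map_mul, map_inv, hδj a hia, inv_one, one_mul]
        have hcomp' : ∀ a b, rel F Γ a b → ψ a (F.π a n') = ψ b (F.π b n') := by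
          intro a b hab
          rw [hn', map_mul, map_mul, map_inv, map_inv, map_mul, map_mul, map_inv, map_inv,
            hδcomp a b hab, hcomp a b hab]
        have hss : Finset.univ.filter (fun a => F.π a n' ≠ 1) ⊂
            Finset.univ.filter (fun a => F.π a n ≠ 1) := by
          rw [Finset.ssubset_iff_of_subset]
          · refine ⟨i, hi, ?_⟩
            intro hmem
            exact (Finset.mem_filter.mp hmem).2 (hn'a i (rel_refl F Γ i))
          · intro a ha
            have ha' := (Finset.mem_filter.mp ha).2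
            refine Finset.mem_filter.mpr ⟨Finset.mem_univ _, ?_⟩
            by_cases hia : rel F Γ i a
            · exact absurd (hn'a a hia) ha'
            · rwa [hn'b a hia] at ha'
        have hlt := Finset.card_lt_card hss
        rw [hk] at hlt
        have hn'D := ih _ hlt n' rfl hcomp'
        have : n = δ * n' := by rw [hn']; group
        rw [this]
        exact Subgroup.mul_mem _ hδ hn'D
  intro hcomp
  exact Subgroup.mem_subgroupOf.mp (hback _ n rfl hcomp)


omit [Finite G] in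
lemma π_act_eq_one_iff (g : G) (i : Idx S) (n : N) :
    F.π (act S g i) (conjN g n) = 1 ↔ F.π i n = 1 := by
  rw [Subtype.ext_iff, Subtype.ext_iff, π_conj]
  exact conj_eq_one_iff

omit [Finite G] in
lemma rel_act {h : G} (hh : h ∈ Γ) {i j : Idx S} (hij : rel F Γ i j) :
    rel F Γ (act S h i) (act S h j) := by
  intro d hd
  have hd₀ : conjN h⁻¹ d ∈ DD (N := N) Γ := conjN_mem_DD Γ (Γ.inv_mem hh) hd
  have e : conjN h (conjN h⁻¹ d) = d := conjN_conjN_inv h d
  rw [← e, π_act_eq_one_iff, π_act_eq_one_iff]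
  exact hij _ hd₀

omit [Finite G] in
lemma rel_act_iff {h : G} (hh : h ∈ Γ) (i j : Idx S) :
    rel F Γ i j ↔ rel F Γ (act S h i) (act S h j) := by
  constructor
  · exact rel_act F Γ hh
  · intro h'
    have := rel_act F Γ (Γ.inv_mem hh) h'
    rwa [act_inv_act, act_inv_act] at this

omit [Finite G] in
lemma card_cls_act {h : G} (hh : h ∈ Γ) (i : Idx S) :
    Nat.card {j // rel F Γ (act S h i) j} = Nat.card {j // rel F Γ i j} :=
  (Nat.card_congr (Equiv.subtypeEquiv (actEquiv S h) (fun j => rel_act_iff F Γ hh i j))).symm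

end analysis

/-! ### the main theorem, abstractly -/

section main

/-- A copy of `Fin n` in `Type` that carries no algebraic instances. -/
structure Carrier (n : ℕ) : Type where
  /-- the underlying element of `Fin n` -/
  val : Fin n

/-- `Carrier n` is equivalent to `Fin n`. -/
def Carrier.equivFin (n : ℕ) : Carrier n ≃ Fin n where
  toFun := Carrier.val
  invFun := Carrier.mk
  left_inv := fun _ => rfl
  right_inv := fun _ => rfl

variable [Finite G] (N : Subgroup G) [hNn : N.Normal]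

theorem main_abstract (hN : N ≠ ⊥)
    (hmin : ∀ M : Subgroup G, M.Normal → M ≤ N → M = ⊥ ∨ M = N)
    (hnab : ¬ IsMulCommutative N) (Γ : Subgroup G) (hΓ : IsCoatom Γ) (hNΓ : ¬ N ≤ Γ) :
    ∃ (T : Type) (_ : Group T) (m : ℕ) (e : N ≃* (Fin m → T)), IsSimpleGroup T ∧
      ¬ IsMulCommutative T ∧ 0 < m ∧
      ((∃ K : Fin m → Subgroup T, (∀ i, K i ≠ ⊤) ∧ ∀ n : N, (n : G) ∈ Γ ↔ ∀ i, e n i ∈ K i) ∨
        (∃ (k : ℕ) (c : Fin m → Fin m), 2 ≤ k ∧
          (∀ j : Fin m, Nat.card {i : Fin m // c i = j} = k ∨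
            Nat.card {i : Fin m // c i = j} = 0) ∧
          ∀ n : N, (n : G) ∈ Γ ↔ ∀ i j : Fin m, c i = c j → e n i = e n j)) := by
  classical
  obtain ⟨S, hS⟩ := exists_minNormalIn N hN
  have F := isFam_of_minNormalIn N hmin hnab hS
  haveI hSsimple : IsSimpleGroup S := hS.isSimpleGroup N hmin
  -- the type T
  let eqv : Carrier (Nat.card S) ≃ S :=
    (Carrier.equivFin (Nat.card S)).trans (Finite.equivFin S).symm
  letI : Group (Carrier (Nat.card S)) := eqv.group
  let ψS : S ≃* Carrier (Nat.card S) := eqv.mulEquiv.symm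
  have hψ₀ : ∀ i : Idx S, Nonempty (i.1 ≃* Carrier (Nat.card S)) := by
    intro i
    obtain ⟨g, hg⟩ := i.2
    exact ⟨(MulEquiv.subgroupCongr hg).trans
      ((S.equivMapOfInjective _ (MulAut.conj g).injective).symm.trans ψS)⟩
  let ψ₀ : ∀ i : Idx S, i.1 ≃* Carrier (Nat.card S) := fun i => Classical.choice (hψ₀ i)
  have hTsimple : IsSimpleGroup (Carrier (Nat.card S)) := ψS.symm.isSimpleGroup
  let i₀ : Idx S := ⟨S, 1, (cj_one S).symm⟩
  have hTnc : ¬ IsMulCommutative (Carrier (Nat.card S)) := by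
    intro hc
    have hS1 : S ≤ Subgroup.centralizer (S : Set G) := by
      intro x hx
      rw [Subgroup.mem_centralizer_iff]
      intro y hy
      have h1 : ψS ⟨y, hy⟩ * ψS ⟨x, hx⟩ = ψS ⟨x, hx⟩ * ψS ⟨y, hy⟩ := hc.is_comm.comm _ _
      rw [← map_mul, ← map_mul] at h1
      exact congrArg Subtype.val (ψS.injective h1)
    have h2 := F.hZ i₀
    have h3 : S ⊓ Subgroup.centralizer (S : Set G) = S := inf_eq_left.mpr hS1
    have h4 : S = ⊥ := by
      have : (i₀.1 : Subgroup G) = S := rfl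
      rw [this] at h2
      rw [← h3]; exact h2
    exact hS.2.1 h4
  let m := Nat.card (Idx S)
  have hm : 0 < m := Nat.card_pos
  let ι : Fin m ≃ Idx S := (Finite.equivFin (Idx S)).symm
  -- G = Γ N
  have hsup : Γ ⊔ N = ⊤ := by
    apply hΓ.2
    apply lt_of_le_of_ne le_sup_left
    intro h
    apply hNΓ
    rw [h]; exact le_sup_right
  have hnorm : ∀ i : Idx S, N ≤ Subgroup.normalizer ((i.1 : Subgroup G) : Set G) := by
    intro i
    obtain ⟨g, hg⟩ := i.2
    rw [hg]
    exact (hS.map_conj g).2.2.1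
  have htrans : ∀ i j : Idx S, ∃ h ∈ Γ, act S h i = j := by
    intro i j
    obtain ⟨g, hg⟩ := act_transitive S i j
    have : g ∈ Γ ⊔ N := by rw [hsup]; trivial
    obtain ⟨h, hh, n, hn, rfl⟩ := Subgroup.mem_sup_of_normal_right.mp this
    refine ⟨h, hh, ?_⟩
    rw [← hg, ← act_act, act_of_normalizes S i (hnorm i hn)]
  refine ⟨Carrier (Nat.card S), inferInstance, m, ?_⟩
  by_cases hcase : ∃ i₁ : Idx S, (DD (N := N) Γ).map (F.π i₁) ≠ ⊤
  · -- case 1
    obtain ⟨i₁, hi₁⟩ := hcase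
    obtain ⟨hall, hmem⟩ := case1 F Γ hΓ hmin htrans i₁ hi₁
    let e : N ≃* (Fin m → Carrier (Nat.card S)) :=
      (F.coordEquiv ψ₀).trans (MulEquiv.arrowCongr ι.symm (MulEquiv.refl _))
    have he : ∀ (n : N) (a : Fin m), e n a = ψ₀ (ι a) (F.π (ι a) n) := fun n a => rfl
    refine ⟨e, hTsimple, hTnc, hm, Or.inl ?_⟩
    refine ⟨fun a => ((DD (N := N) Γ).map (F.π (ι a))).map (ψ₀ (ι a)).toMonoidHom, ?_, ?_⟩
    · intro a htop
      apply hall (ι a)
      rw [eq_top_iff]
      intro s _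
      have htop' : ((DD (N := N) Γ).map (F.π (ι a))).map (ψ₀ (ι a)).toMonoidHom = ⊤ := htop
      have : ψ₀ (ι a) s ∈ ((DD (N := N) Γ).map (F.π (ι a))).map (ψ₀ (ι a)).toMonoidHom := by
        rw [htop']; trivial
      obtain ⟨s', hs', hss'⟩ := Subgroup.mem_map.mp this
      have : s' = s := (ψ₀ (ι a)).injective hss'
      rw [← this]; exact hs'
    · intro n
      rw [hmem]
      constructor
      · intro h a
        rw [he]
        exact Subgroup.mem_map_of_mem _ (h (ι a))
      · intro h i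
        have := h (ι.symm i)
        rw [he] at this
        obtain ⟨s', hs', hss'⟩ := Subgroup.mem_map.mp this
        have h2 : s' = F.π (ι (ι.symm i)) n := (ψ₀ (ι (ι.symm i))).injective hss'
        rw [h2] at hs'
        have key : ∀ r r' : Idx S, r = r' →
            F.π r n ∈ (DD (N := N) Γ).map (F.π r) → F.π r' n ∈ (DD (N := N) Γ).map (F.π r') := by
          rintro r _ rfl h; exact h
        exact key _ _ (ι.apply_symm_apply i) hs'
  · -- case 2
    push Not at hcase
    obtain ⟨ψ, hψ⟩ := case2_core F Γ hcase ψ₀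
    let e : N ≃* (Fin m → Carrier (Nat.card S)) :=
      (F.coordEquiv ψ).trans (MulEquiv.arrowCongr ι.symm (MulEquiv.refl _))
    have he : ∀ (n : N) (a : Fin m), e n a = F.coordEquiv ψ n (ι a) := fun n a => rfl
    let c : Fin m → Fin m := fun a => ι.symm (rep F Γ (ι a))
    have hc : ∀ a b : Fin m, c a = c b ↔ rel F Γ (ι a) (ι b) := by
      intro a b
      show ι.symm _ = ι.symm _ ↔ _
      rw [ι.symm.injective.eq_iff, rep_eq_iff]
    let κ := Nat.card {j // rel F Γ i₀ j}
    have hκ : ∀ i : Idx S, Nat.card {j // rel F Γ i j} = κ := by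
      intro i
      obtain ⟨h, hh, hact⟩ := htrans i₀ i
      rw [← hact]
      exact card_cls_act F Γ hh i₀
    have hcompat : ∀ n : N, (n : G) ∈ Γ ↔ ∀ a b : Fin m, c a = c b → e n a = e n b := by
      intro n
      rw [hψ]
      constructor
      · intro h a b hab
        rw [he, he]
        exact h (ι a) (ι b) ((hc a b).mp hab)
      · intro h i j hij
        have hab : c (ι.symm i) = c (ι.symm j) := by
          rw [hc, ι.apply_symm_apply, ι.apply_symm_apply]; exact hij
        have := h (ι.symm i) (ι.symm j) hab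
        rw [he, he, ι.apply_symm_apply, ι.apply_symm_apply] at this
        exact this
    refine ⟨e, hTsimple, hTnc, hm, Or.inr ⟨κ, c, ?_, ?_, hcompat⟩⟩
    · -- κ ≥ 2
      by_contra hlt
      push Not at hlt
      have hκ1 : κ = 1 := by
        have : 0 < κ := by
          haveI : Nonempty {j // rel F Γ i₀ j} := ⟨⟨i₀, rel_refl F Γ i₀⟩⟩
          exact Nat.card_pos
        omega
      have hsing : ∀ i j : Idx S, rel F Γ i j → i = j := by
        intro i j hij
        have h1 : Nat.card {j // rel F Γ i j} = 1 := by rw [hκ i, hκ1]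
        rw [Nat.card_eq_one_iff_unique] at h1
        obtain ⟨hsub, _⟩ := h1
        have := hsub.elim ⟨i, rel_refl F Γ i⟩ ⟨j, hij⟩
        exact congrArg Subtype.val this
      apply hNΓ
      intro n hn
      have := (hcompat ⟨n, hn⟩).mpr (by
        intro a b hab
        have : a = b := ι.injective (hsing _ _ ((hc a b).mp hab))
        rw [this])
      exact this
    · intro j
      by_cases hj : rep F Γ (ι j) = ι j
      · left
        rw [← hκ (ι j)]
        apply Nat.card_congr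
        refine Equiv.subtypeEquiv ι (fun a => ?_)
        show ι.symm (rep F Γ (ι a)) = j ↔ _
        rw [Equiv.symm_apply_eq, ← hj, rep_eq_iff, hj]
        exact ⟨rel_symm F Γ, rel_symm F Γ⟩
      · right
        haveI : IsEmpty {i : Fin m // c i = j} := by
          constructor
          rintro ⟨a, ha⟩
          apply hj
          have h1 : rep F Γ (ι a) = ι j := by
            have : ι.symm (rep F Γ (ι a)) = j := ha
            rw [Equiv.symm_apply_eq] at this
            exact this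
          rw [← h1]
          exact rep_eq F Γ (rep_rel F Γ (ι a))
        exact Nat.card_of_isEmpty

end main

end Cfsg.Agent.H1.OnanScott
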