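import Mathlib

set_option autoImplicit false

namespace Cfsg.Agent.H1.SylNumA

variable {G : Type*} [Group G] [Finite G] {p : ℕ} [Fact p.Prime]

omit [Finite G] [Fact (Nat.Prime p)] in
/-- a `p`-subgroup normalizing a Sylow `p`-subgroup lies in it -/
theorem le_sylow_of_le_normalizer {Q : Subgroup G} (hQ : IsPGroup p Q) (P : Sylow p G)
    (h : Q ≤ Subgroup.normalizer ((P : Subgroup G) : Set G)) : Q ≤ P := by
  have := hQ.inf_normalizer_sylow P
  have h2 : Q ≤ Q ⊓ (P : Subgroup G) := this ▸ le_inf le_rfl h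
  exact h2.trans inf_le_right

omit [Finite G] [Fact (Nat.Prime p)] in
/-- two Sylow subgroups, one contained in the other, are equal -/
theorem sylow_eq_of_le {P Q : Sylow p G} (h : (P : Subgroup G) ≤ Q) : P = Q :=
  Sylow.ext (P.is_maximal' Q.isPGroup' h).symm

/-- **quotient lemma**: a normal subgroup normalizing every Sylow `p`-subgroup does not change their number -/
theorem card_sylow_quotient (K : Subgroup G) [K.Normal]
    (hK : ∀ P : Sylow p G, K ≤ Subgroup.normalizer ((P : Subgroup G) : Set G)) :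
    Nat.card (Sylow p (G ⧸ K)) = Nat.card (Sylow p G) := by
  have hf : Function.Surjective (QuotientGroup.mk' K) := QuotientGroup.mk'_surjective K
  have hsurj := Sylow.mapSurjective_surjective hf p
  have hinj : Function.Injective (Sylow.mapSurjective hf : Sylow p G → Sylow p (G ⧸ K)) := by
    intro P Q hPQ
    have h1 : (P : Subgroup G).map (QuotientGroup.mk' K) = (Q : Subgroup G).map (QuotientGroup.mk' K) := by
      have := congrArg (fun S : Sylow p (G ⧸ K) => (S : Subgroup (G ⧸ K))) hPQ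
      simpa using this
    have h2 := congrArg (Subgroup.comap (QuotientGroup.mk' K)) h1
    rw [Subgroup.comap_map_eq, Subgroup.comap_map_eq, QuotientGroup.ker_mk'] at h2
    have h3 : (Q : Subgroup G) ≤ (P : Subgroup G) ⊔ K := h2 ▸ le_sup_left
    have h4 : (P : Subgroup G) ⊔ K ≤ Subgroup.normalizer ((P : Subgroup G) : Set G) :=
      sup_le Subgroup.le_normalizer (hK P)
    have h5 : (Q : Subgroup G) ≤ P := le_sylow_of_le_normalizer Q.isPGroup' P (h3.trans h4)
    exact (sylow_eq_of_le h5).symm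
  exact (Nat.card_congr (Equiv.ofBijective _ ⟨hinj, hsurj⟩)).symm

omit [Finite G] [Fact (Nat.Prime p)] in
/-- a subgroup containing all Sylow `p`-subgroups has the same number of them -/
theorem card_sylow_of_le (N : Subgroup G) (hN : ∀ P : Sylow p G, (P : Subgroup G) ≤ N) :
    Nat.card (Sylow p N) = Nat.card (Sylow p G) := by
  let φ : Sylow p G → Sylow p N := fun P => P.subtype (hN P)
  have hinj : Function.Injective φ := fun P Q h => Sylow.subtype_injective h
  have hsurj : Function.Surjective φ := by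
    intro Q
    obtain ⟨P, hP⟩ := (Q.isPGroup'.map N.subtype).exists_le_sylow
    refine ⟨P, ?_⟩
    have h1 : (Q : Subgroup N) ≤ (φ P : Subgroup N) := by
      intro x hx
      change x ∈ (P : Subgroup G).subgroupOf N
      rw [Subgroup.mem_subgroupOf]
      exact hP ⟨x, hx, rfl⟩
    exact (sylow_eq_of_le h1).symm
  exact (Nat.card_congr (Equiv.ofBijective φ ⟨hinj, hsurj⟩)).symm

/-- a normal subgroup of index prime to `p` contains every Sylow `p`-subgroup -/
theorem sylow_le_of_normal_of_not_dvd_index (N : Subgroup G) [N.Normal] (hN : ¬ p ∣ N.index)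
    (P : Sylow p G) : (P : Subgroup G) ≤ N := by
  rw [← Subgroup.relIndex_eq_one]
  have h1 : N.relIndex P ∣ N.index := Subgroup.relIndex_dvd_index_of_normal N P
  have h2 : N.relIndex P ∣ Nat.card (P : Subgroup G) := by
    rw [Subgroup.relIndex]
    exact Subgroup.index_dvd_card _
  obtain ⟨k, hk⟩ := IsPGroup.iff_card.mp P.isPGroup'
  rw [hk] at h2
  obtain ⟨j, _, hj⟩ := (Nat.dvd_prime_pow Fact.out).mp h2
  rcases j with _ | j
  · simpa using hj
  · exfalso
    apply hN
    rw [hj] at h1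
    exact (dvd_pow_self p (Nat.succ_ne_zero j)).trans h1

/-- **Brodkey**: with abelian Sylow `p`-subgroups, some intersection of two of them lies in all of them -/
theorem brodkey
    (hab : ∀ P : Sylow p G, ∀ a ∈ (P : Subgroup G), ∀ b ∈ (P : Subgroup G), a * b = b * a) :
    ∃ S T : Sylow p G, ∀ R : Sylow p G, (S : Subgroup G) ⊓ T ≤ R := by
  obtain ⟨⟨S, T⟩, hmin⟩ := Finite.exists_min
    (fun ST : Sylow p G × Sylow p G => Nat.card ↥((ST.1 : Subgroup G) ⊓ ST.2))
  refine ⟨S, T, fun R => ?_⟩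
  set D : Subgroup G := (S : Subgroup G) ⊓ T with hD
  -- abelian Sylows normalize `D`
  have hnorm : ∀ P : Sylow p G, D ≤ P → (P : Subgroup G) ≤ Subgroup.normalizer (D : Set G) := by
    intro P hDP s hs
    rw [Subgroup.mem_normalizer_iff]
    intro h
    constructor
    · intro hh
      have : s * h * s⁻¹ = h := by
        rw [hab P s hs h (hDP hh)]; group
      rw [this]; exact hh
    · intro hh
      have h1 : s * (s * h * s⁻¹) = (s * h * s⁻¹) * s := hab P s hs _ (hDP hh)
      have h2 : h = s * h * s⁻¹ := by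
        have h3 : s * (s * h * s⁻¹) = s * h := by rw [h1]; group
        exact (mul_left_cancel h3).symm
      rw [h2]; exact hh
  have hSN := hnorm S inf_le_left
  have hTN := hnorm T inf_le_right
  set N : Subgroup G := Subgroup.normalizer (D : Set G) with hN
  -- conjugate `R ⊓ N` into `S` inside `N`
  obtain ⟨S₁, hS₁⟩ := ((R.isPGroup'.to_le (inf_le_left : (R : Subgroup G) ⊓ N ≤ R)).comap_subtype
    (K := N)).exists_le_sylow
  obtain ⟨n, hn⟩ := MulAction.exists_smul_eq N S₁ (S.subtype hSN)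
  have hconj : ∀ x ∈ (R : Subgroup G) ⊓ N, (n : G) * x * (n : G)⁻¹ ∈ (S : Subgroup G) := by
    intro x hx
    have hxN : x ∈ N := hx.2
    have h1 : (⟨x, hxN⟩ : N) ∈ (S₁ : Subgroup N) := hS₁ (by
      rw [Subgroup.mem_comap] 
      exact hx)
    have h2 : n * ⟨x, hxN⟩ * n⁻¹ ∈ ((n • S₁ : Sylow p N) : Subgroup N) := by
      rw [Sylow.smul_def, Sylow.pointwise_smul_def]
      exact ⟨_, h1, rfl⟩
    rw [hn] at h2
    exact h2
  -- the conjugate Sylow subgroup
  set R' : Sylow p G := (n : G) • R with hR'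
  have hR'mem : ∀ x : G, x ∈ (R' : Subgroup G) ↔ (n : G)⁻¹ * x * (n : G) ∈ (R : Subgroup G) := by
    intro x
    rw [hR', Sylow.smul_def, Sylow.pointwise_smul_def, Subgroup.mem_pointwise_smul_iff_inv_smul_mem]
    simp [MulAut.smul_def]
  have hle : (R' : Subgroup G) ⊓ T ≤ D := by
    intro x hx
    refine ⟨?_, hx.2⟩
    have hxN : x ∈ N := hTN hx.2
    have h1 : (n : G)⁻¹ * x * (n : G) ∈ (R : Subgroup G) ⊓ N :=
      ⟨(hR'mem x).mp hx.1, N.mul_mem (N.mul_mem (N.inv_mem n.2) hxN) n.2⟩
    have := hconj _ h1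
    have e : (n : G) * ((n : G)⁻¹ * x * (n : G)) * (n : G)⁻¹ = x := by group
    rwa [e] at this
  have hcard : Nat.card D ≤ Nat.card ↥((R' : Subgroup G) ⊓ T) := hmin (R', T)
  have heq : (R' : Subgroup G) ⊓ T = D := Subgroup.eq_of_le_of_card_ge hle hcard
  intro d hd
  have h1 : (n : G) * d * (n : G)⁻¹ ∈ D := (Subgroup.mem_normalizer_iff.mp n.2 d).mp hd
  have h2 : (n : G) * d * (n : G)⁻¹ ∈ (R' : Subgroup G) := (heq ▸ h1 : _ ∈ (R' : Subgroup G) ⊓ T).1
  have h3 := (hR'mem _).mp h2
  have e : (n : G)⁻¹ * ((n : G) * d * (n : G)⁻¹) * (n : G) = d := by group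
  rwa [e] at h3

end Cfsg.Agent.H1.SylNumA
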