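import Mathlib
import Cfsg.Agent.H1.SylNumA

set_option autoImplicit false

namespace Cfsg.Agent.H1.SylNumB

open SylNumA

variable {G : Type*} [Group G] [Finite G] {p : ℕ} [Fact p.Prime]

omit [Fact (Nat.Prime p)] in
/-- faithful action on the Sylow `p`-subgroups embeds `G` in a symmetric group -/
theorem card_dvd_factorial (hfaith : ∀ g : G, (∀ Q : Sylow p G, g • Q = Q) → g = 1) :
    Nat.card G ∣ (Nat.card (Sylow p G)).factorial := by
  classical
  haveI : Fintype (Sylow p G) := Fintype.ofFinite _
  have hinj : Function.Injective (MulAction.toPermHom G (Sylow p G)) := by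
    rw [injective_iff_map_eq_one]
    intro g hg
    apply hfaith
    intro Q
    have := congrArg (fun σ : Equiv.Perm (Sylow p G) => σ Q) hg
    simpa using this
  have h1 := Subgroup.card_dvd_of_injective _ hinj
  rwa [Nat.card_perm] at h1

/-- with a faithful action and `p³ ∤ n_p !`, the Sylow `p`-subgroups have order `p` as soon as `n_p < p²`
and `n_p ≠ 1` -/
theorem card_sylow_eq_prime (hfaith : ∀ g : G, (∀ Q : Sylow p G, g • Q = Q) → g = 1)
    (hfact : ¬ p ^ 3 ∣ (Nat.card (Sylow p G)).factorial) (hlt : Nat.card (Sylow p G) < p ^ 2)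
    (hne : Nat.card (Sylow p G) ≠ 1) (P : Sylow p G) : Nat.card (P : Subgroup G) = p := by
  have hp : p.Prime := Fact.out
  obtain ⟨k, hk'⟩ : ∃ k, k = (Nat.card G).factorization p := ⟨_, rfl⟩
  have hcardeq : ∀ Q : Sylow p G, Nat.card (Q : Subgroup G) = p ^ k := by
    intro Q
    rw [hk']
    exact Sylow.card_eq_multiplicity Q
  have hk := hcardeq P
  have hk3 : k < 3 := by
    by_contra h
    push Not at h
    apply hfact
    calc p ^ 3 ∣ p ^ k := pow_dvd_pow p h
      _ ∣ Nat.card G := hk ▸ Subgroup.card_subgroup_dvd_card _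
      _ ∣ _ := card_dvd_factorial hfaith
  -- Sylow subgroups are abelian
  have hab : ∀ Q : Sylow p G, ∀ a ∈ (Q : Subgroup G), ∀ b ∈ (Q : Subgroup G), a * b = b * a := by
    intro Q a ha b hb
    have hQ := hcardeq Q
    have hcomm : ∀ x y : (Q : Subgroup G), x * y = y * x := by
      interval_cases k
      · rw [pow_zero] at hQ
        haveI : Subsingleton (Q : Subgroup G) := (Nat.card_eq_one_iff_unique.mp hQ).1
        intro x y; exact Subsingleton.elim _ _
      · rw [pow_one] at hQ
        haveI : IsCyclic (Q : Subgroup G) := isCyclic_of_prime_card hQ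
        intro x y
        exact (IsCyclic.isMulCommutative (α := (Q : Subgroup G))).is_comm.comm x y
      · exact fun x y => (IsPGroup.isMulCommutative_of_card_eq_prime_sq hQ).is_comm.comm x y
    exact congrArg Subtype.val (hcomm ⟨a, ha⟩ ⟨b, hb⟩)
  obtain ⟨S, T, hST⟩ := brodkey hab
  have hbot : (S : Subgroup G) ⊓ T = ⊥ := by
    rw [eq_bot_iff]
    intro g hg
    rw [Subgroup.mem_bot]
    apply hfaith
    intro Q
    rw [Sylow.smul_eq_iff_mem_normalizer]
    exact Subgroup.le_normalizer (hST Q hg)
  -- the orbit of `T` under `S`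
  have hinj : Function.Injective (fun s : (S : Subgroup G) => (s : G) • T) := by
    intro s s' h
    have h1 : ((s' : G)⁻¹ * (s : G)) • T = T := by
      have : (s : G) • T = (s' : G) • T := h
      rw [mul_smul, this, inv_smul_smul]
    rw [Sylow.smul_eq_iff_mem_normalizer] at h1
    have h2 : (s' : G)⁻¹ * (s : G) ∈ (S : Subgroup G) ⊓ T := by
      rw [← S.isPGroup'.inf_normalizer_sylow T]
      exact ⟨Subgroup.mul_mem _ (Subgroup.inv_mem _ s'.2) s.2, h1⟩
    rw [hbot, Subgroup.mem_bot, inv_mul_eq_one] at h2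
    exact Subtype.ext h2.symm
  have hle := Nat.card_le_card_of_injective _ hinj
  rw [hcardeq S] at hle
  have hk2 : k < 2 := by
    by_contra h
    push Not at h
    have : p ^ 2 ≤ p ^ k := Nat.pow_le_pow_right hp.pos h
    omega
  have hk0 : k ≠ 0 := by
    rintro rfl
    apply hne
    rw [Nat.card_eq_one_iff_unique]
    refine ⟨⟨fun Q Q' => ?_⟩, ⟨P⟩⟩
    apply Sylow.ext
    have h1 := hcardeq Q
    have h2 := hcardeq Q'
    rw [pow_zero, Subgroup.card_eq_one] at h1 h2
    rw [h1, h2]
  have : k = 1 := by omega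
  rw [hk, this, pow_one]

/-- distinct Sylow subgroups of prime order meet trivially -/
theorem inf_eq_bot_of_ne (hcard : ∀ Q : Sylow p G, Nat.card (Q : Subgroup G) = p) {P Q : Sylow p G}
    (hPQ : Q ≠ P) : (P : Subgroup G) ⊓ Q = ⊥ := by
  have hp : p.Prime := Fact.out
  have h1 : Nat.card ↥((P : Subgroup G) ⊓ Q) ∣ p := by
    have := Subgroup.card_dvd_of_le (inf_le_left : (P : Subgroup G) ⊓ Q ≤ P)
    rwa [hcard P] at this
  rcases (Nat.dvd_prime hp).mp h1 with h | h
  · exact Subgroup.card_eq_one.mp h
  · exfalso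
    apply hPQ
    have h2 : (P : Subgroup G) ⊓ Q = P :=
      Subgroup.eq_of_le_of_card_ge inf_le_left (by rw [h, hcard P])
    have h3 : (P : Subgroup G) ≤ Q := h2 ▸ inf_le_right
    exact (sylow_eq_of_le h3).symm

/-- a `p`-element fixing two distinct Sylow subgroups of prime order is trivial -/
theorem eq_one_of_pow_eq_one_of_fixes (hcard : ∀ Q : Sylow p G, Nat.card (Q : Subgroup G) = p)
    {P Q : Sylow p G} (hPQ : Q ≠ P) (g : G) (hgp : g ^ p = 1) (hP : g • P = P) (hQ : g • Q = Q) :
    g = 1 := by
  by_contra hg1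
  have hord : orderOf g = p := orderOf_eq_prime hgp hg1
  have hpg : IsPGroup p (Subgroup.zpowers g) := by
    apply IsPGroup.of_card (n := 1)
    rw [Nat.card_zpowers, hord, pow_one]
  have h1 : Subgroup.zpowers g ≤ P := by
    apply le_sylow_of_le_normalizer hpg
    rw [Subgroup.zpowers_le]
    exact Sylow.smul_eq_iff_mem_normalizer.mp hP
  have h2 : Subgroup.zpowers g ≤ Q := by
    apply le_sylow_of_le_normalizer hpg
    rw [Subgroup.zpowers_le]
    exact Sylow.smul_eq_iff_mem_normalizer.mp hQ
  have h3 : g ∈ (P : Subgroup G) ⊓ Q := ⟨h1 (Subgroup.mem_zpowers g), h2 (Subgroup.mem_zpowers g)⟩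
  rw [inf_eq_bot_of_ne hcard hPQ, Subgroup.mem_bot] at h3
  exact hg1 h3

/-- **free action of the centralizer**: with `2p + 1` Sylow subgroups of order `p` and a faithful action,
an element centralizing `P` and fixing another Sylow subgroup is trivial -/
theorem eq_one_of_centralizes_of_fixes (hfaith : ∀ g : G, (∀ Q : Sylow p G, g • Q = Q) → g = 1)
    (hn : Nat.card (Sylow p G) = 2 * p + 1)
    (hcard : ∀ Q : Sylow p G, Nat.card (Q : Subgroup G) = p) (P Q : Sylow p G) (hPQ : Q ≠ P) (g : G)
    (hg : g ∈ Subgroup.centralizer ((P : Subgroup G) : Set G)) (hgQ : g • Q = Q) : g = 1 := by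
  classical
  haveI : Fintype (Sylow p G) := Fintype.ofFinite _
  haveI : Fintype ↥(P : Subgroup G) := Fintype.ofFinite _
  have hp : p.Prime := Fact.out
  have hgP : g • P = P :=
    Sylow.smul_eq_iff_mem_normalizer.mpr (Subgroup.centralizer_le_normalizer _ hg)
  have hcomm : ∀ x ∈ (P : Subgroup G), ∀ R : Sylow p G, g • x • R = x • g • R := by
    intro x hx R
    rw [← mul_smul, ← mul_smul, Subgroup.mem_centralizer_iff.mp hg x hx]
  have hxP : ∀ x ∈ (P : Subgroup G), x • P = P := fun x hx =>
    Sylow.smul_eq_iff_mem_normalizer.mpr (Subgroup.le_normalizer hx)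
  have hxp : ∀ x ∈ (P : Subgroup G), x ^ p = 1 := by
    intro x hx
    have : (⟨x, hx⟩ : (P : Subgroup G)) ^ Nat.card (P : Subgroup G) = 1 := pow_card_eq_one'
    rw [hcard P] at this
    exact congrArg Subtype.val this
  have hfix : ∀ x ∈ (P : Subgroup G), ∀ R : Sylow p G, R ≠ P → x • R = R → x = 1 :=
    fun x hx R hR hxR => eq_one_of_pow_eq_one_of_fixes hcard hR x (hxp x hx) (hxP x hx) hxR
  -- orbits
  have horb_inj : ∀ R : Sylow p G, R ≠ P →
      Function.Injective (fun x : ↥(P : Subgroup G) => (x : G) • R) := by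
    intro R hR x x' h
    have h1 : ((x' : G)⁻¹ * (x : G)) • R = R := by
      have : (x : G) • R = (x' : G) • R := h
      rw [mul_smul, this, inv_smul_smul]
    have h2 := hfix _ (Subgroup.mul_mem _ (Subgroup.inv_mem _ x'.2) x.2) R hR h1
    rw [inv_mul_eq_one] at h2
    exact Subtype.ext h2.symm
  have horb_card : ∀ R : Sylow p G, R ≠ P →
      ((Finset.univ : Finset ↥(P : Subgroup G)).image (fun x : ↥(P : Subgroup G) => (x : G) • R)).card = p := by
    intro R hR
    rw [Finset.card_image_of_injective _ (horb_inj R hR), Finset.card_univ, ← Nat.card_eq_fintype_card,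
      hcard P]
  have horb_notP : ∀ R : Sylow p G, R ≠ P →
      P ∉ (Finset.univ : Finset ↥(P : Subgroup G)).image (fun x : ↥(P : Subgroup G) => (x : G) • R) := by
    intro R hR hmem
    obtain ⟨x, _, hx⟩ := Finset.mem_image.mp hmem
    apply hR
    have : R = (x : G)⁻¹ • P := eq_inv_smul_iff.mpr hx
    rw [this, hxP _ (Subgroup.inv_mem _ x.2)]
  -- `g` fixes the orbit of `Q` pointwise
  have hgA : ∀ x ∈ (P : Subgroup G), g • x • Q = x • Q := fun x hx => by rw [hcomm x hx, hgQ]
  -- key: `g ^ p` fixes every point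
  have hpow : ∀ R : Sylow p G, (g ^ p) • R = R := by
    intro R
    by_cases hRP : R = P
    · rw [hRP]
      exact Sylow.smul_eq_iff_mem_normalizer.mpr
        (Subgroup.pow_mem _ (Sylow.smul_eq_iff_mem_normalizer.mp hgP) p)
    by_cases hRA : R ∈ (Finset.univ : Finset ↥(P : Subgroup G)).image (fun x : ↥(P : Subgroup G) => (x : G) • Q)
    · obtain ⟨x, _, rfl⟩ := Finset.mem_image.mp hRA
      have : ∀ k : ℕ, (g ^ k) • (x : G) • Q = (x : G) • Q := by
        intro k
        induction k with
        | zero => simp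
        | succ k ih => rw [pow_succ, mul_smul, hgA x x.2, ih]
      exact this p
    -- the third orbit
    set A := (Finset.univ : Finset ↥(P : Subgroup G)).image (fun x : ↥(P : Subgroup G) => (x : G) • Q) with hA
    set B := (Finset.univ : Finset ↥(P : Subgroup G)).image (fun x : ↥(P : Subgroup G) => (x : G) • R) with hB
    have hdisj : Disjoint (insert P A) B := by
      rw [Finset.disjoint_left]
      intro S hS hSB
      obtain ⟨x', _, hx'⟩ := Finset.mem_image.mp hSB
      rcases Finset.mem_insert.mp hS with rfl | hSA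
      · exact horb_notP R hRP hSB
      · obtain ⟨x, _, hx⟩ := Finset.mem_image.mp hSA
        apply hRA
        refine Finset.mem_image.mpr ⟨x'⁻¹ * x, Finset.mem_univ _, ?_⟩
        have : ((x' : G)⁻¹ * (x : G)) • Q = R := by
          rw [mul_smul, hx, ← hx', inv_smul_smul]
        exact this
    have hcardU : (insert P A ∪ B).card = Fintype.card (Sylow p G) := by
      rw [Finset.card_union_of_disjoint hdisj, Finset.card_insert_of_notMem (horb_notP Q hPQ),
        horb_card Q hPQ, horb_card R hRP, ← Nat.card_eq_fintype_card, hn]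
      ring
    have huniv : insert P A ∪ B = Finset.univ := Finset.eq_univ_of_card _ hcardU
    have hgR : g • R ∈ insert P A ∪ B := huniv ▸ Finset.mem_univ _
    have hginvP : g⁻¹ • P = P := by
      conv_lhs => rw [← hgP]
      rw [inv_smul_smul]
    have hginvQ : g⁻¹ • Q = Q := by
      conv_lhs => rw [← hgQ]
      rw [inv_smul_smul]
    rcases Finset.mem_union.mp hgR with h | h
    · exfalso
      rcases Finset.mem_insert.mp h with h | h
      · apply hRP
        have : R = g⁻¹ • P := eq_inv_smul_iff.mpr h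
        rw [this, hginvP]
      · obtain ⟨x, _, hx⟩ := Finset.mem_image.mp h
        apply hRA
        refine Finset.mem_image.mpr ⟨x, Finset.mem_univ _, ?_⟩
        have h1 : R = g⁻¹ • (x : G) • Q := by
          have : (x : G) • Q = g • R := hx
          rw [this, inv_smul_smul]
        have h2 : g⁻¹ • (x : G) • Q = (x : G) • Q := by
          have := hgA x x.2
          conv_lhs => rw [← this]
          rw [inv_smul_smul]
        rw [h1, h2]
    · obtain ⟨y, _, hy⟩ := Finset.mem_image.mp h
      have hy' : g • R = (y : G) • R := hy.symm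
      have : ∀ k : ℕ, (g ^ k) • R = ((y : G) ^ k) • R := by
        intro k
        induction k with
        | zero => simp
        | succ k ih =>
          rw [pow_succ', mul_smul, ih, hcomm _ (Subgroup.pow_mem _ y.2 k), hy', ← mul_smul, ← pow_succ]
      rw [this p, hxp _ y.2, one_smul]
  have hgp : g ^ p = 1 := hfaith _ hpow
  exact eq_one_of_pow_eq_one_of_fixes hcard hPQ g hgp hgP hgQ

omit [Finite G] in
/-- `N(R)/C(R)` for a Sylow subgroup of prime order `q` has order dividing `q - 1` -/
theorem relIndex_centralizer_normalizer_dvd {q : ℕ} [Fact q.Prime] (R : Sylow q G)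
    (hR : Nat.card (R : Subgroup G) = q) :
    (Subgroup.centralizer ((R : Subgroup G) : Set G)).relIndex
      (Subgroup.normalizer ((R : Subgroup G) : Set G)) ∣ q - 1 := by
  haveI : Finite (R : Subgroup G) := Nat.finite_of_card_ne_zero (by
    rw [hR]; exact (Fact.out : q.Prime).ne_zero)
  have hcyc : IsCyclic (R : Subgroup G) := isCyclic_of_prime_card hR
  have key := Subgroup.card_dvd_of_injective _
    (QuotientGroup.kerLift_injective (R : Subgroup G).normalizerMonoidHom)
  rw [Subgroup.normalizerMonoidHom_ker, ← Subgroup.index, ← Subgroup.relIndex] at key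
  rw [hcyc.card_mulAut, hR, Nat.totient_prime Fact.out] at key
  exact key

/-- the centralizer of a Sylow subgroup has order `p` or `2p` -/
theorem card_centralizer (hfaith : ∀ g : G, (∀ Q : Sylow p G, g • Q = Q) → g = 1)
    (hn : Nat.card (Sylow p G) = 2 * p + 1)
    (hcard : ∀ Q : Sylow p G, Nat.card (Q : Subgroup G) = p) (P : Sylow p G) :
    Nat.card (Subgroup.centralizer ((P : Subgroup G) : Set G)) = p ∨
      Nat.card (Subgroup.centralizer ((P : Subgroup G) : Set G)) = 2 * p := by
  classical
  have hp : p.Prime := Fact.out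
  set C := Subgroup.centralizer ((P : Subgroup G) : Set G) with hC
  -- `P ≤ C`
  have hPC : (P : Subgroup G) ≤ C := by
    haveI : IsCyclic (P : Subgroup G) := isCyclic_of_prime_card (hcard P)
    intro x hx
    rw [hC, Subgroup.mem_centralizer_iff]
    intro y hy
    have := (IsCyclic.isMulCommutative (α := (P : Subgroup G))).is_comm.comm ⟨y, hy⟩ ⟨x, hx⟩
    exact congrArg Subtype.val this
  have hdvd : p ∣ Nat.card C := hcard P ▸ Subgroup.card_dvd_of_le hPC
  -- another Sylow subgroup
  obtain ⟨Q, hQ⟩ : ∃ Q : Sylow p G, Q ≠ P := by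
    by_contra hcon
    push Not at hcon
    have : Nat.card (Sylow p G) = 1 := by
      rw [Nat.card_eq_one_iff_unique]
      exact ⟨⟨fun a b => (hcon a).trans (hcon b).symm⟩, ⟨P⟩⟩
    have := hp.two_le
    omega
  -- the orbit map is injective and misses `P`
  let φ : C → {R : Sylow p G // R ≠ P} := fun c => ⟨(c : G) • Q, by
    intro h
    apply hQ
    have h1 : Q = (c : G)⁻¹ • P := eq_inv_smul_iff.mpr h
    have h2 : (c : G)⁻¹ • P = P := Sylow.smul_eq_iff_mem_normalizer.mpr
      (Subgroup.centralizer_le_normalizer _ (C.inv_mem c.2))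
    rw [h1, h2]⟩
  have hφ : Function.Injective φ := by
    intro c c' h
    have h0 : (c : G) • Q = (c' : G) • Q := congrArg Subtype.val h
    have h1 : ((c' : G)⁻¹ * (c : G)) • Q = Q := by
      rw [mul_smul, h0, inv_smul_smul]
    have h2 := eq_one_of_centralizes_of_fixes hfaith hn hcard P Q hQ _
      (C.mul_mem (C.inv_mem c'.2) c.2) h1
    rw [inv_mul_eq_one] at h2
    exact Subtype.ext h2.symm
  have hle := Nat.card_le_card_of_injective φ hφ
  have hcompl : Nat.card {R : Sylow p G // R ≠ P} = 2 * p := by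
    haveI : Fintype (Sylow p G) := Fintype.ofFinite _
    rw [Nat.card_eq_fintype_card, Fintype.card_subtype_compl, Fintype.card_subtype_eq,
      ← Nat.card_eq_fintype_card, hn]
    omega
  rw [hcompl] at hle
  obtain ⟨m, hm⟩ := hdvd
  have hpos : 0 < Nat.card C := Nat.card_pos
  have hm1 : m = 1 ∨ m = 2 := by
    have h1 : m ≠ 0 := by rintro rfl; omega
    have h2 : p * m ≤ p * 2 := by rw [← hm]; omega
    have := Nat.le_of_mul_le_mul_left h2 hp.pos
    omega
  rcases hm1 with rfl | rfl
  · left; omega
  · right; omega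

end Cfsg.Agent.H1.SylNumB
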