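import Mathlib
import Cfsg.Agent.H1.SylNumB

set_option autoImplicit false

namespace Cfsg.Agent.H1.SylNumC

open SylNumA SylNumB

/-- an involution of a set of `2p + 1` points (`p` odd) with exactly one fixed point is an odd permutation -/
theorem sign_eq_neg_one {Ω : Type*} [Fintype Ω] [DecidableEq Ω] {p : ℕ} (hodd : Odd p)
    (hΩ : Fintype.card Ω = 2 * p + 1) (σ : Equiv.Perm Ω) (hσ2 : σ ^ 2 = 1) (P : Ω) (hP : σ P = P)
    (hfix : ∀ R : Ω, R ≠ P → σ R ≠ R) : Equiv.Perm.sign σ = -1 := by
  have hp0 : 0 < p := hodd.pos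
  have hσ1 : σ ≠ 1 := by
    intro h
    -- there is a point other than `P`
    have : ∃ R : Ω, R ≠ P := by
      by_contra hcon
      push Not at hcon
      have : Fintype.card Ω ≤ 1 := Fintype.card_le_one_iff.mpr (fun a b => (hcon a).trans (hcon b).symm)
      omega
    obtain ⟨R, hR⟩ := this
    exact hfix R hR (by rw [h]; rfl)
  have hord : orderOf σ = 2 := orderOf_eq_prime hσ2 hσ1
  obtain ⟨n, hn⟩ := Equiv.Perm.cycleType_prime_order (σ := σ) (by rw [hord]; exact Nat.prime_two)
  rw [hord] at hn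
  have hsupp : σ.support = Finset.univ.erase P := by
    ext R
    rw [Equiv.Perm.mem_support, Finset.mem_erase]
    constructor
    · intro h
      exact ⟨fun hRP => h (hRP ▸ hP), Finset.mem_univ _⟩
    · intro h
      exact hfix R h.1
  have hsum : σ.cycleType.sum = 2 * p := by
    rw [Equiv.Perm.sum_cycleType, hsupp, Finset.card_erase_of_mem (Finset.mem_univ _),
      Finset.card_univ, hΩ]
    omega
  rw [hn, Multiset.sum_replicate, smul_eq_mul] at hsum
  have hn1 : n + 1 = p := by omega
  rw [Equiv.Perm.sign_of_cycleType, hn, Multiset.sum_replicate, Multiset.card_replicate, smul_eq_mul,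
    hn1]
  have : Odd (p * 2 + p) := by
    obtain ⟨k, hk⟩ := hodd
    exact ⟨3 * k + 1, by omega⟩
  exact this.neg_one_pow

variable {G : Type*} [Group G] [Finite G] {p : ℕ} [Fact p.Prime]

omit [Fact (Nat.Prime p)] in
/-- an involution fixing exactly one Sylow subgroup produces a normal subgroup of index `2` -/
theorem exists_index_two (hodd : Odd p) (hn : Nat.card (Sylow p G) = 2 * p + 1) (z : G) (hz2 : z ^ 2 = 1)
    (P : Sylow p G) (hP : z • P = P) (hfix : ∀ R : Sylow p G, R ≠ P → z • R ≠ R) :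
    ∃ M : Subgroup G, M.Normal ∧ M.index = 2 := by
  classical
  haveI : Fintype (Sylow p G) := Fintype.ofFinite _
  let f : G →* ℤˣ := (Equiv.Perm.sign).comp (MulAction.toPermHom G (Sylow p G))
  have hfz : f z = -1 := by
    apply sign_eq_neg_one hodd (by rw [← Nat.card_eq_fintype_card, hn]) _ _ P hP hfix
    rw [← map_pow, hz2, map_one]
  refine ⟨f.ker, inferInstance, ?_⟩
  rw [Subgroup.index_ker]
  have hsurj : Function.Surjective f := by
    intro u
    rcases Int.units_eq_one_or u with rfl | rfl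
    · exact ⟨1, map_one f⟩
    · exact ⟨z, hfz⟩
  rw [Nat.card_congr (MonoidHom.range_eq_top.mpr hsurj ▸ Subgroup.topEquiv.toEquiv : f.range ≃ ℤˣ)]
  simp

end Cfsg.Agent.H1.SylNumC
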