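import Mathlib
import Cfsg.Agent.H1.SylNumC

set_option autoImplicit false

namespace Cfsg.Agent.H1.SylNumD

open SylNumA SylNumB SylNumC

universe u

/-- minimality hypothesis: no smaller group (in the same universe) has exactly `n` Sylow `p`-subgroups -/
def MinCE (p n : ℕ) (G : Type u) [Group G] : Prop :=
  ∀ (H : Type u) [Group H] [Finite H], Nat.card H < Nat.card G → Nat.card (Sylow p H) ≠ n

variable {G : Type u} [Group G] [Finite G] {p n : ℕ} [Fact p.Prime]

/-- in a minimal counterexample the action on the Sylow subgroups is faithful -/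
theorem faithful_of_min (hn : Nat.card (Sylow p G) = n) (hmin : MinCE p n G) :
    ∀ g : G, (∀ Q : Sylow p G, g • Q = Q) → g = 1 := by
  set K : Subgroup G := (MulAction.toPermHom G (Sylow p G)).ker with hK
  have hKn : ∀ P : Sylow p G, K ≤ Subgroup.normalizer ((P : Subgroup G) : Set G) := by
    intro P k hk
    apply Sylow.smul_eq_iff_mem_normalizer.mp
    have : MulAction.toPermHom G (Sylow p G) k = 1 := hk
    have := congrArg (fun σ : Equiv.Perm (Sylow p G) => σ P) this
    simpa using this
  have hq := card_sylow_quotient K hKn
  have hcard := Subgroup.card_eq_card_quotient_mul_card_subgroup K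
  have hK1 : Nat.card K = 1 := by
    by_contra h
    have hpos : 0 < Nat.card K := Nat.card_pos
    have hpos' : 0 < Nat.card (G ⧸ K) := Nat.card_pos
    have hlt : Nat.card (G ⧸ K) < Nat.card G := by
      rw [hcard]
      have : 2 ≤ Nat.card K := by omega
      nlinarith
    exact hmin (G ⧸ K) hlt (hq.trans hn)
  intro g hg
  have : g ∈ K := by
    rw [hK, MonoidHom.mem_ker]
    apply Equiv.ext
    intro Q
    simpa using hg Q
  rw [Subgroup.card_eq_one] at hK1
  rw [hK1] at this
  exact Subgroup.mem_bot.mp this

/-- **(A)**: in a minimal counterexample a normal subgroup of index prime to `p` is everything -/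
theorem eq_top_of_min (hn : Nat.card (Sylow p G) = n) (hmin : MinCE p n G) (M : Subgroup G) [M.Normal]
    (hM : ¬ p ∣ M.index) : M = ⊤ := by
  by_contra hne
  have h1 := card_sylow_of_le M (fun P => sylow_le_of_normal_of_not_dvd_index M hM P)
  have hlt : Nat.card M < Nat.card G := by
    have h2 := Subgroup.card_mul_index M
    have h3 : M.index ≠ 1 := fun h => hne (Subgroup.index_eq_one.mp h)
    have h4 : M.index ≠ 0 := Subgroup.index_ne_zero_of_finite
    have hpos : 0 < Nat.card M := Nat.card_pos
    have : 2 ≤ M.index := by omega
    nlinarith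
  exact hmin M hlt (h1.trans hn)

omit [Fact p.Prime] in
/-- **Burnside transfer**: a Sylow subgroup central in its normalizer has a normal complement -/
theorem exists_normal_of_transfer {q : ℕ} [Fact q.Prime] (R : Sylow q G)
    (hR : Subgroup.normalizer ((R : Subgroup G) : Set G) ≤ Subgroup.centralizer ((R : Subgroup G) : Set G)) :
    ∃ K : Subgroup G, K.Normal ∧ K.index = Nat.card (R : Subgroup G) := by
  refine ⟨(MonoidHom.transferSylow R hR).ker, inferInstance, ?_⟩
  exact (MonoidHom.ker_transferSylow_isComplement' R hR).symm.index_eq_card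

end Cfsg.Agent.H1.SylNumD
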