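import Mathlib
import Cfsg.Agent.H1.SylNumD
import Cfsg.Agent.H1.Card

set_option autoImplicit false

namespace Cfsg.Agent.H1.SylNumE

open SylNumA SylNumB SylNumC SylNumD

universe u

instance fact7 : Fact (Nat.Prime 7) := ⟨by norm_num⟩
instance fact5 : Fact (Nat.Prime 5) := ⟨by norm_num⟩
instance fact2 : Fact (Nat.Prime 2) := ⟨Nat.prime_two⟩

/-- a Sylow `q`-subgroup has order `q` when `q` exactly divides the group order -/
theorem card_sylow_of_card_eq {G : Type*} [Group G] [Finite G] {q m : ℕ} [Fact q.Prime] (S : Sylow q G)
    (h : Nat.card G = q * m) (hm : ¬ q ∣ m) : Nat.card (S : Subgroup G) = q := by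
  have hq : q.Prime := Fact.out
  obtain ⟨k, hk⟩ := IsPGroup.iff_card.mp S.isPGroup'
  have h1 := Subgroup.card_mul_index (S : Subgroup G)
  have h2 := S.not_dvd_index
  rw [hk, h] at h1
  rcases k with _ | _ | k
  · exfalso
    rw [pow_zero, one_mul] at h1
    exact h2 (h1 ▸ dvd_mul_right q m)
  · rw [hk, pow_one]
  · exfalso
    apply hm
    have h3 : q * (q ^ (k + 1) * (S : Subgroup G).index) = q * m := by
      rw [← h1]; ring
    have h4 := Nat.eq_of_mul_eq_mul_left hq.pos h3
    rw [← h4, pow_succ]
    exact ⟨q ^ k * (S : Subgroup G).index, by ring⟩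

theorem no_min (G : Type u) [Group G] [Finite G] (hn : Nat.card (Sylow 7 G) = 15)
    (hmin : MinCE 7 15 G) : False := by
  have hfaith := faithful_of_min hn hmin
  have hfact : ¬ 7 ^ 3 ∣ (Nat.card (Sylow 7 G)).factorial := by
    rw [hn]; decide
  have hcard : ∀ Q : Sylow 7 G, Nat.card (Q : Subgroup G) = 7 := fun Q =>
    card_sylow_eq_prime hfaith hfact (by rw [hn]; norm_num) (by rw [hn]; norm_num) Q
  have hA := fun (M : Subgroup G) [M.Normal] (hM : ¬ 7 ∣ M.index) => eq_top_of_min hn hmin M hM
  obtain ⟨P⟩ := (Sylow.nonempty : Nonempty (Sylow 7 G))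
  have hn' : Nat.card (Sylow 7 G) = 2 * 7 + 1 := hn
  set C := Subgroup.centralizer ((P : Subgroup G) : Set G) with hCdef
  set N := Subgroup.normalizer ((P : Subgroup G) : Set G) with hNdef
  have hC := card_centralizer hfaith hn' hcard P
  have hCN : C ≤ N := Subgroup.centralizer_le_normalizer _
  have hNidx : N.index = 15 := by
    rw [← hn]; exact (Sylow.card_eq_index_normalizer P).symm
  have hG : Nat.card G = 15 * Nat.card N := by
    rw [← Subgroup.card_mul_index N, hNidx, mul_comm]
  have hNC : Nat.card N = C.relIndex N * Nat.card C := Cfsg.Agent.H1.card_eq_relIndex_mul_card hCN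
  have hd : C.relIndex N ∣ 6 := relIndex_centralizer_normalizer_dvd P (hcard P)
  have hCc : Nat.card C = 7 ∨ Nat.card C = 14 := hC
  rcases hCc with hC7 | hC14
  · -- `|C| = 7`
    have hd' : C.relIndex N = 1 ∨ C.relIndex N = 2 ∨ C.relIndex N = 3 ∨ C.relIndex N = 6 := by
      have : C.relIndex N ∈ Nat.divisors 6 := Nat.mem_divisors.mpr ⟨hd, by norm_num⟩
      have h6 : Nat.divisors 6 = {1, 2, 3, 6} := by decide
      rw [h6] at this
      simpa using this
    have hGd : Nat.card G = 105 * C.relIndex N := by rw [hG, hNC, hC7]; ring
    by_cases heven : Even (C.relIndex N)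
    · -- `|G| = 2 · odd`: a Sylow 2-subgroup of order 2 has a normal complement
      have hG2 : Nat.card G = 210 ∨ Nat.card G = 630 := by
        rcases hd' with h | h | h | h <;> rw [h] at heven hGd
        · exact absurd heven (by decide)
        · left; omega
        · exact absurd heven (by decide)
        · right; omega
      have hmf : (Nat.card G).minFac = 2 := by
        rcases hG2 with h | h <;> rw [h] <;> decide
      obtain ⟨S⟩ := (Sylow.nonempty : Nonempty (Sylow 2 G))
      have hS : Nat.card (S : Subgroup G) = 2 := by
        rcases hG2 with h | h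
        · exact card_sylow_of_card_eq S (m := 105) (by rw [h]) (by decide)
        · exact card_sylow_of_card_eq S (m := 315) (by rw [h]) (by decide)
      have hScyc : IsCyclic (S : Subgroup G) := isCyclic_of_prime_card hS
      have hcomp := IsCyclic.isComplement' hmf hScyc
      have hidx := hcomp.symm.index_eq_card
      rw [hS] at hidx
      have htop := hA _ (by rw [hidx]; norm_num)
      rw [htop, Subgroup.index_top] at hidx
      omega
    · -- `|G|` odd: a Sylow 5-subgroup is central in its normalizer
      have hG2 : Nat.card G = 105 ∨ Nat.card G = 315 := by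
        rcases hd' with h | h | h | h <;> rw [h] at heven hGd
        · left; omega
        · exact absurd (by decide) heven
        · right; omega
        · exact absurd (by decide) heven
      obtain ⟨R⟩ := (Sylow.nonempty : Nonempty (Sylow 5 G))
      have hR : Nat.card (R : Subgroup G) = 5 := by
        rcases hG2 with h | h
        · exact card_sylow_of_card_eq R (m := 21) (by rw [h]) (by decide)
        · exact card_sylow_of_card_eq R (m := 63) (by rw [h]) (by decide)
      have h4 := relIndex_centralizer_normalizer_dvd R hR
      have hodd : Odd (Nat.card G) := by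
        rcases hG2 with h | h <;> rw [h] <;> decide
      have h5 : (Subgroup.centralizer ((R : Subgroup G) : Set G)).relIndex
          (Subgroup.normalizer ((R : Subgroup G) : Set G)) ∣ Nat.card G :=
        (Subgroup.relIndex_dvd_card _ _).trans (Subgroup.card_subgroup_dvd_card _)
      have h6 : (Subgroup.centralizer ((R : Subgroup G) : Set G)).relIndex
          (Subgroup.normalizer ((R : Subgroup G) : Set G)) = 1 := by
        have hodd' : Odd ((Subgroup.centralizer ((R : Subgroup G) : Set G)).relIndex
          (Subgroup.normalizer ((R : Subgroup G) : Set G))) := Odd.of_dvd_nat hodd h5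
        have hmem : (Subgroup.centralizer ((R : Subgroup G) : Set G)).relIndex
          (Subgroup.normalizer ((R : Subgroup G) : Set G)) ∈ Nat.divisors 4 :=
          Nat.mem_divisors.mpr ⟨h4, by norm_num⟩
        have h44 : Nat.divisors 4 = {1, 2, 4} := by decide
        rw [h44] at hmem
        simp only [Finset.mem_insert, Finset.mem_singleton] at hmem
        rcases hmem with h | h | h
        · exact h
        · rw [h] at hodd'; exact absurd hodd' (by decide)
        · rw [h] at hodd'; exact absurd hodd' (by decide)
      rw [Subgroup.relIndex_eq_one] at h6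
      obtain ⟨K, hKn, hKi⟩ := exists_normal_of_transfer R h6
      rw [hR] at hKi
      haveI := hKn
      have htop := hA K (by rw [hKi]; norm_num)
      rw [htop, Subgroup.index_top] at hKi
      omega
  · -- `|C| = 14`: an involution with a single fixed point
    obtain ⟨z, hz⟩ := exists_prime_orderOf_dvd_card' (G := C) 2 (by rw [hC14]; norm_num)
    have hz2 : (z : G) ^ 2 = 1 := by
      have : z ^ 2 = 1 := by rw [← hz]; exact pow_orderOf_eq_one z
      exact congrArg Subtype.val this
    have hz1 : (z : G) ≠ 1 := by
      intro h
      have : z = 1 := Subtype.ext h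
      rw [this, orderOf_one] at hz
      omega
    have hzP : (z : G) • P = P :=
      Sylow.smul_eq_iff_mem_normalizer.mpr (hCN z.2)
    have hzfix : ∀ R : Sylow 7 G, R ≠ P → (z : G) • R ≠ R := by
      intro R hR hzR
      exact hz1 (eq_one_of_centralizes_of_fixes hfaith hn' hcard P R hR z z.2 hzR)
    obtain ⟨M, hMn, hMi⟩ := exists_index_two (p := 7) (by decide) hn' z hz2 P hzP hzfix
    haveI := hMn
    have htop := hA M (by rw [hMi]; norm_num)
    rw [htop, Subgroup.index_top] at hMi
    omega

/-- **no finite group has exactly 15 Sylow 7-subgroups** -/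
theorem main : ∀ (n : ℕ) (G : Type u) [Group G] [Finite G], Nat.card G = n →
    Nat.card (Sylow 7 G) ≠ 15 := by
  intro n
  induction n using Nat.strong_induction_on with
  | _ n ih =>
    intro G _ _ hG hn
    apply no_min G hn
    intro H _ _ hlt
    exact ih (Nat.card H) (hG ▸ hlt) H rfl

end Cfsg.Agent.H1.SylNumE
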