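import Mathlib
import Cfsg.Agent.H1.SylNumE

set_option autoImplicit false

namespace Cfsg.Agent.H1.SimpOrdA

open SylNumA SylNumB SylNumC SylNumD SylNumE

universe u

variable {G : Type u} [Group G] [Finite G]

omit [Finite G] in
/-- in a simple group a Sylow subgroup of prime order (not the whole group) is not normal -/
theorem card_sylow_ne_one [IsSimpleGroup G] {q m : ℕ} [Fact q.Prime] (hG : Nat.card G = q * m)
    (hm : m ≠ 1) (X : Sylow q G) (hX : Nat.card (X : Subgroup G) = q) : Nat.card (Sylow q G) ≠ 1 := by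
  intro h1
  have hq : q.Prime := Fact.out
  haveI : Subsingleton (Sylow q G) := (Nat.card_eq_one_iff_unique.mp h1).1
  haveI : (X : Subgroup G).Normal := Sylow.normal_of_subsingleton X
  rcases (inferInstance : (X : Subgroup G).Normal).eq_bot_or_eq_top with h | h
  · rw [h, Subgroup.card_bot] at hX
    exact hq.one_lt.ne' hX.symm
  · rw [h, Subgroup.card_top, hG] at hX
    have : q * m = q * 1 := by rw [mul_one]; exact hX
    exact hm (Nat.eq_of_mul_eq_mul_left hq.pos this)

/-- Burnside's transfer theorem in a simple group -/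
theorem transfer_false [IsSimpleGroup G] {q m : ℕ} [Fact q.Prime] (hG : Nat.card G = q * m)
    (hm : m ≠ 1) (X : Sylow q G) (hX : Nat.card (X : Subgroup G) = q)
    (hNC : Subgroup.normalizer ((X : Subgroup G) : Set G) ≤
      Subgroup.centralizer ((X : Subgroup G) : Set G)) : False := by
  have hq : q.Prime := Fact.out
  obtain ⟨K, hKn, hKi⟩ := exists_normal_of_transfer X hNC
  rw [hX] at hKi
  rcases hKn.eq_bot_or_eq_top with h | h
  · rw [h, Subgroup.index_bot, hG] at hKi
    have : q * m = q * 1 := by rw [mul_one]; exact hKi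
    exact hm (Nat.eq_of_mul_eq_mul_left hq.pos this)
  · rw [h, Subgroup.index_top] at hKi
    exact hq.one_lt.ne' hKi.symm

/-- numerical data on the normalizer and centralizer of a Sylow subgroup of prime order in a simple
group -/
theorem centralizer_data [IsSimpleGroup G] {q m : ℕ} [Fact q.Prime] (hG : Nat.card G = q * m)
    (hm : m ≠ 1) (X : Sylow q G) (hX : Nat.card (X : Subgroup G) = q) :
    ∃ d : ℕ, d ∣ q - 1 ∧ d ≠ 1 ∧
      d * Nat.card (Subgroup.centralizer ((X : Subgroup G) : Set G)) =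
        Nat.card (Subgroup.normalizer ((X : Subgroup G) : Set G)) ∧
      Nat.card (Sylow q G) * Nat.card (Subgroup.normalizer ((X : Subgroup G) : Set G)) = q * m ∧
      Nat.card (Sylow q G) % q = 1 ∧ Nat.card (Sylow q G) ∣ m ∧ Nat.card (Sylow q G) ≠ 1 := by
  have hq : q.Prime := Fact.out
  set C := Subgroup.centralizer ((X : Subgroup G) : Set G) with hC
  set N := Subgroup.normalizer ((X : Subgroup G) : Set G) with hN
  have hCN : C ≤ N := Subgroup.centralizer_le_normalizer _
  refine ⟨C.relIndex N, relIndex_centralizer_normalizer_dvd X hX, ?_, ?_, ?_, ?_, ?_,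
    card_sylow_ne_one hG hm X hX⟩
  · intro h1
    rw [Subgroup.relIndex_eq_one] at h1
    exact transfer_false hG hm X hX h1
  · exact (Cfsg.Agent.H1.card_eq_relIndex_mul_card hCN).symm
  · have h1 : Nat.card (Sylow q G) = N.index := Sylow.card_eq_index_normalizer X
    rw [h1, mul_comm, Subgroup.card_mul_index, hG]
  · have := card_sylow_modEq_one q G
    rw [Nat.ModEq, Nat.mod_eq_of_lt hq.one_lt] at this
    exact this
  · have h1 := Sylow.card_dvd_index X
    have h2 := Subgroup.card_mul_index (X : Subgroup G)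
    rw [hX, hG] at h2
    have h3 : (X : Subgroup G).index = m := Nat.eq_of_mul_eq_mul_left hq.pos h2
    rwa [h3] at h1

/-- divisors of `27 a b` -/
theorem dvd_cases27 {n a b : ℕ} (ha : a.Prime) (hb : b.Prime) (h : n ∣ 27 * (a * b)) :
    ∃ i j k, (i = 1 ∨ i = 3 ∨ i = 9 ∨ i = 27) ∧ (j = 1 ∨ j = a) ∧ (k = 1 ∨ k = b) ∧
      n = i * (j * k) := by
  obtain ⟨i, jk, hi, hjk, rfl⟩ := (Nat.dvd_mul).mp h
  obtain ⟨j, k, hj, hk, rfl⟩ := (Nat.dvd_mul).mp hjk
  refine ⟨i, j, k, ?_, (Nat.dvd_prime ha).mp hj, (Nat.dvd_prime hb).mp hk, rfl⟩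
  have hmem : i ∈ Nat.divisors 27 := Nat.mem_divisors.mpr ⟨hi, by norm_num⟩
  have h27 : Nat.divisors 27 = {1, 3, 9, 27} := by decide
  rw [h27] at hmem
  simpa using hmem

end Cfsg.Agent.H1.SimpOrdA
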