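import Mathlib
import Cfsg.Agent.H1.SimpOrdA
import Cfsg.Agent.S0071

set_option autoImplicit false

namespace Cfsg.Agent.H1.OrdA

open SylNumA SylNumB SylNumC SylNumD SylNumE SimpOrdA

universe u

variable {G : Type u} [Group G] [Finite G]

instance fact3 : Fact (Nat.Prime 3) := ⟨by norm_num⟩
instance fact7 : Fact (Nat.Prime 7) := ⟨by norm_num⟩
instance fact13 : Fact (Nat.Prime 13) := ⟨by norm_num⟩
instance fact409 : Fact (Nat.Prime 409) := ⟨by norm_num⟩

/-- from `d c = q t` with `q ∣ c` -/
theorem arith_aux {d c q t : ℕ} (hq : 0 < q) (h : d * c = q * t) (hqc : q ∣ c) :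
    ∃ c', c = q * c' ∧ d * c' = t := by
  obtain ⟨c', rfl⟩ := hqc
  refine ⟨c', rfl, ?_⟩
  have : q * (d * c') = q * t := by rw [← h]; ring
  exact Nat.eq_of_mul_eq_mul_left hq this

omit [Finite G] in
theorem card_dvd_centralizer {q : ℕ} [Fact q.Prime] (X : Sylow q G)
    (hX : Nat.card (X : Subgroup G) = q) :
    q ∣ Nat.card (Subgroup.centralizer ((X : Subgroup G) : Set G)) := by
  haveI : IsCyclic (X : Subgroup G) := isCyclic_of_prime_card hX
  have hle : (X : Subgroup G) ≤ Subgroup.centralizer ((X : Subgroup G) : Set G) := by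
    intro x hx
    rw [Subgroup.mem_centralizer_iff]
    intro y hy
    have := (IsCyclic.isMulCommutative (α := (X : Subgroup G))).is_comm.comm ⟨y, hy⟩ ⟨x, hx⟩
    exact congrArg Subtype.val this
  have := Subgroup.card_dvd_of_le hle
  rwa [hX] at this

theorem card_centralizer_409 [IsSimpleGroup G] (hG : Nat.card G = 1004913) (X : Sylow 409 G) :
    Nat.card (Subgroup.centralizer ((X : Subgroup G) : Set G)) = 409 := by
  have hG' : Nat.card G = 409 * 2457 := by rw [hG]
  have hX : Nat.card (X : Subgroup G) = 409 := card_sylow_of_card_eq X hG' (by norm_num)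
  obtain ⟨d, hd, hd1, hdc, hnN, hmod, hdvd, hn1⟩ := centralizer_data hG' (by norm_num) X hX
  have hdvd' : Nat.card (Sylow 409 G) ∣ 27 * (7 * 13) := by
    have : (2457 : ℕ) = 27 * (7 * 13) := by norm_num
    rwa [this] at hdvd
  obtain ⟨i, j, k, hi, hj, hk, hn⟩ := dvd_cases27 (by norm_num) (by norm_num) hdvd'
  have hn' : Nat.card (Sylow 409 G) = 819 := by
    rcases hi with rfl | rfl | rfl | rfl <;> rcases hj with rfl | rfl <;> rcases hk with rfl | rfl <;>
      rw [hn] at hmod hn1 ⊢ <;> omega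
  rw [hn'] at hnN
  have hN : Nat.card (Subgroup.normalizer ((X : Subgroup G) : Set G)) = 409 * 3 := by omega
  rw [hN] at hdc
  obtain ⟨c', hc', hdc'⟩ := arith_aux (by norm_num) hdc (card_dvd_centralizer X hX)
  have h3 : d ∣ 3 := Dvd.intro _ hdc'
  rcases (Nat.dvd_prime (by norm_num)).mp h3 with h | h
  · exact absurd h hd1
  · rw [h] at hdc'
    rw [hc']; omega

theorem card_centralizer_13 [IsSimpleGroup G] (hG : Nat.card G = 1004913) (X : Sylow 13 G) :
    Nat.card (Subgroup.centralizer ((X : Subgroup G) : Set G)) = 13 := by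
  have hG' : Nat.card G = 13 * 77301 := by rw [hG]
  have hX : Nat.card (X : Subgroup G) = 13 := card_sylow_of_card_eq X hG' (by norm_num)
  obtain ⟨d, hd, hd1, hdc, hnN, hmod, hdvd, hn1⟩ := centralizer_data hG' (by norm_num) X hX
  have hdvd' : Nat.card (Sylow 13 G) ∣ 27 * (7 * 409) := by
    have : (77301 : ℕ) = 27 * (7 * 409) := by norm_num
    rwa [this] at hdvd
  obtain ⟨i, j, k, hi, hj, hk, hn⟩ := dvd_cases27 (by norm_num) (by norm_num) hdvd'
  have hn' : Nat.card (Sylow 13 G) = 27 ∨ Nat.card (Sylow 13 G) = 25767 := by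
    rcases hi with rfl | rfl | rfl | rfl <;> rcases hj with rfl | rfl <;> rcases hk with rfl | rfl <;>
      rw [hn] at hmod hn1 ⊢ <;> omega
  rcases hn' with hn' | hn'
  · exfalso
    rw [hn'] at hnN
    have hN : Nat.card (Subgroup.normalizer ((X : Subgroup G) : Set G)) = 13 * 2863 := by omega
    rw [hN] at hdc
    obtain ⟨c', hc', hdc'⟩ := arith_aux (by norm_num) hdc (card_dvd_centralizer X hX)
    have h1 : d ∣ 2863 := Dvd.intro _ hdc'
    have h2 : d ∣ Nat.gcd 2863 (13 - 1) := Nat.dvd_gcd h1 hd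
    have h3 : Nat.gcd 2863 (13 - 1) = 1 := by norm_num
    rw [h3] at h2
    exact hd1 (Nat.dvd_one.mp h2)
  · rw [hn'] at hnN
    have hN : Nat.card (Subgroup.normalizer ((X : Subgroup G) : Set G)) = 13 * 3 := by omega
    rw [hN] at hdc
    obtain ⟨c', hc', hdc'⟩ := arith_aux (by norm_num) hdc (card_dvd_centralizer X hX)
    have h3 : d ∣ 3 := Dvd.intro _ hdc'
    rcases (Nat.dvd_prime (by norm_num)).mp h3 with h | h
    · exact absurd h hd1
    · rw [h] at hdc'
      rw [hc']; omega

theorem card_centralizer_7 [IsSimpleGroup G] (hG : Nat.card G = 1004913) (X : Sylow 7 G) :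
    Nat.card (Subgroup.centralizer ((X : Subgroup G) : Set G)) = 7 := by
  have hG' : Nat.card G = 7 * 143559 := by rw [hG]
  have hX : Nat.card (X : Subgroup G) = 7 := card_sylow_of_card_eq X hG' (by norm_num)
  obtain ⟨d, hd, hd1, hdc, hnN, hmod, hdvd, hn1⟩ := centralizer_data hG' (by norm_num) X hX
  have hdvd' : Nat.card (Sylow 7 G) ∣ 27 * (13 * 409) := by
    have : (143559 : ℕ) = 27 * (13 * 409) := by norm_num
    rwa [this] at hdvd
  obtain ⟨i, j, k, hi, hj, hk, hn⟩ := dvd_cases27 (by norm_num) (by norm_num) hdvd'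
  have hn' : Nat.card (Sylow 7 G) = 351 ∨ Nat.card (Sylow 7 G) = 47853 := by
    rcases hi with rfl | rfl | rfl | rfl <;> rcases hj with rfl | rfl <;> rcases hk with rfl | rfl <;>
      rw [hn] at hmod hn1 ⊢ <;> omega
  rcases hn' with hn' | hn'
  · exfalso
    rw [hn'] at hnN
    have hN : Nat.card (Subgroup.normalizer ((X : Subgroup G) : Set G)) = 7 * 409 := by omega
    rw [hN] at hdc
    obtain ⟨c', hc', hdc'⟩ := arith_aux (by norm_num) hdc (card_dvd_centralizer X hX)
    have h1 : d ∣ 409 := Dvd.intro _ hdc'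
    have h2 : d ∣ Nat.gcd 409 (7 - 1) := Nat.dvd_gcd h1 hd
    have h3 : Nat.gcd 409 (7 - 1) = 1 := by norm_num
    rw [h3] at h2
    exact hd1 (Nat.dvd_one.mp h2)
  · rw [hn'] at hnN
    have hN : Nat.card (Subgroup.normalizer ((X : Subgroup G) : Set G)) = 7 * 3 := by omega
    rw [hN] at hdc
    obtain ⟨c', hc', hdc'⟩ := arith_aux (by norm_num) hdc (card_dvd_centralizer X hX)
    have h3 : d ∣ 3 := Dvd.intro _ hdc'
    rcases (Nat.dvd_prime (by norm_num)).mp h3 with h | h
    · exact absurd h hd1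
    · rw [h] at hdc'
      rw [hc']; omega



/-- an element of prime order `q` with self-centralizing Sylow `q`-subgroups commutes with no element
of order `3` -/
theorem no_comm_aux {q : ℕ} [Fact q.Prime] (hq3 : ¬ 3 ∣ q)
    (hXc : ∀ X : Sylow q G, Nat.card (X : Subgroup G) = q)
    (hcent : ∀ X : Sylow q G, Nat.card (Subgroup.centralizer ((X : Subgroup G) : Set G)) = q)
    (h y : G) (hh : orderOf h = q) (hy : orderOf y = 3) (hc : Commute h y) : False := by
  have hq : q.Prime := Fact.out
  have hpg : IsPGroup q (Subgroup.zpowers h) := by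
    rw [IsPGroup.iff_card]
    exact ⟨1, by rw [Nat.card_zpowers, hh, pow_one]⟩
  obtain ⟨X, hX⟩ := hpg.exists_le_sylow
  have heq : Subgroup.zpowers h = (X : Subgroup G) := by
    apply Subgroup.eq_of_le_of_card_ge hX
    rw [hXc X, Nat.card_zpowers, hh]
  have hyC : y ∈ Subgroup.centralizer ((X : Subgroup G) : Set G) := by
    rw [Subgroup.mem_centralizer_iff]
    intro x hx
    have hx' : x ∈ Subgroup.zpowers h := heq ▸ hx
    obtain ⟨k, rfl⟩ := Subgroup.mem_zpowers_iff.mp hx'
    exact (hc.zpow_left k).eq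
  have h1 : orderOf y ∣ Nat.card (Subgroup.centralizer ((X : Subgroup G) : Set G)) := by
    have := orderOf_dvd_natCard (⟨y, hyC⟩ : Subgroup.centralizer ((X : Subgroup G) : Set G))
    rwa [Subgroup.orderOf_mk] at this
  rw [hy, hcent X] at h1
  exact hq3 h1

theorem card_sylow_7 (hG : Nat.card G = 1004913) (X : Sylow 7 G) : Nat.card (X : Subgroup G) = 7 :=
  card_sylow_of_card_eq X (m := 143559) (by rw [hG]) (by norm_num)

theorem card_sylow_13 (hG : Nat.card G = 1004913) (X : Sylow 13 G) : Nat.card (X : Subgroup G) = 13 :=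
  card_sylow_of_card_eq X (m := 77301) (by rw [hG]) (by norm_num)

theorem card_sylow_409 (hG : Nat.card G = 1004913) (X : Sylow 409 G) :
    Nat.card (X : Subgroup G) = 409 :=
  card_sylow_of_card_eq X (m := 2457) (by rw [hG]) (by norm_num)

/-- no element of order `3` commutes with an element of order `7`, `13` or `409` -/
theorem no_comm [IsSimpleGroup G] (hG : Nat.card G = 1004913) {r : ℕ}
    (hr : r = 7 ∨ r = 13 ∨ r = 409) (h y : G) (hh : orderOf h = r) (hy : orderOf y = 3)
    (hc : Commute h y) : False := by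
  rcases hr with rfl | rfl | rfl
  · exact no_comm_aux (by norm_num) (card_sylow_7 hG) (card_centralizer_7 hG) h y hh hy hc
  · exact no_comm_aux (by norm_num) (card_sylow_13 hG) (card_centralizer_13 hG) h y hh hy hc
  · exact no_comm_aux (by norm_num) (card_sylow_409 hG) (card_centralizer_409 hG) h y hh hy hc

/-- the prime divisors of the order -/
theorem prime_cases {r : ℕ} (hr : r.Prime) (h : r ∣ 1004913) : r = 3 ∨ r = 7 ∨ r = 13 ∨ r = 409 := by
  have e : (1004913 : ℕ) = 3 ^ 3 * (7 * (13 * 409)) := by norm_num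
  rw [e] at h
  rcases (Nat.Prime.dvd_mul hr).mp h with h | h
  · left
    exact (Nat.prime_dvd_prime_iff_eq hr (by norm_num)).mp (hr.dvd_of_dvd_pow h)
  rcases (Nat.Prime.dvd_mul hr).mp h with h | h
  · right; left
    exact (Nat.prime_dvd_prime_iff_eq hr (by norm_num)).mp h
  rcases (Nat.Prime.dvd_mul hr).mp h with h | h
  · right; right; left
    exact (Nat.prime_dvd_prime_iff_eq hr (by norm_num)).mp h
  · right; right; right
    exact (Nat.prime_dvd_prime_iff_eq hr (by norm_num)).mp h

theorem card_sylow_3 (hG : Nat.card G = 1004913) (P : Sylow 3 G) : Nat.card (P : Subgroup G) = 27 := by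
  have h1 := Sylow.card_eq_multiplicity P
  rw [hG] at h1
  have h2 : (1004913 : ℕ).factorization 3 = 3 := by
    have e : (1004913 : ℕ) = 3 ^ 3 * 37219 := by norm_num
    rw [e, Nat.factorization_mul (by norm_num) (by norm_num), Nat.Prime.factorization_pow (by norm_num)]
    have : (37219 : ℕ).factorization 3 = 0 := Nat.factorization_eq_zero_of_not_dvd (by norm_num)
    simp [this]
  rw [h2] at h1
  rw [h1]; norm_num

end Cfsg.Agent.H1.OrdA
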