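import Mathlib

set_option autoImplicit false

namespace Cfsg.Agent.H1.SylFiveA

open Equiv

variable {Ω : Type*} [Fintype Ω] [DecidableEq Ω]

omit [Fintype Ω] in
/-- fixed points of a prime-power-order permutation on an invariant finite set -/
theorem card_modEq_card_filter_fixed (σ : Perm Ω) {q n : ℕ} [Fact q.Prime]
    (hσ : σ ^ q ^ n = 1) (S : Finset Ω) (hS : ∀ a ∈ S, σ a ∈ S) :
    S.card ≡ (S.filter (fun a => σ a = a)).card [MOD q] := by
  have hiter : ∀ k : ℕ, ∀ a ∈ S, (σ ^ k) a ∈ S := by
    intro k
    induction k with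
    | zero => intro a ha; simpa using ha
    | succ k ih =>
      intro a ha
      rw [pow_succ', Perm.mul_apply]
      exact hS _ (ih a ha)
  have hq : 0 < q ^ n := pos_of_ne_zero (pow_ne_zero _ (Fact.out : q.Prime).ne_zero)
  have hiff : ∀ a, σ a ∈ S ↔ a ∈ S := by
    intro a
    constructor
    · intro h
      have h1 := hiter (q ^ n - 1) _ h
      have h2 : (σ ^ (q ^ n - 1)) (σ a) = a := by
        rw [← Perm.mul_apply, ← pow_succ, Nat.sub_add_cancel hq, hσ, Perm.one_apply]
      rwa [h2] at h1
    · exact hS a
  set τ : Perm {a // a ∈ S} := σ.subtypePerm hiff with hτ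
  have hτpow : τ ^ q ^ n = 1 := by
    apply Perm.ext
    intro a
    apply Subtype.ext
    have e : ((τ ^ q ^ n) a : Ω) = (σ ^ q ^ n) a := by
      rw [hτ, Perm.subtypePerm_pow]; rfl
    rw [e, hσ]; rfl
  have h1 := Perm.card_compl_support_modEq hτpow
  rw [Fintype.card_coe] at h1
  have h2 : τ.supportᶜ.card = (S.filter (fun a => σ a = a)).card := by
    apply Finset.card_bij (fun (a : {a // a ∈ S}) _ => (a : Ω))
    · intro a ha
      rw [Finset.mem_compl, Perm.mem_support, not_not] at ha
      rw [Finset.mem_filter]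
      refine ⟨a.2, ?_⟩
      have := congrArg Subtype.val ha
      simpa [hτ] using this
    · intro a _ b _ h
      exact Subtype.ext h
    · intro b hb
      rw [Finset.mem_filter] at hb
      refine ⟨⟨b, hb.1⟩, ?_, rfl⟩
      rw [Finset.mem_compl, Perm.mem_support, not_not]
      apply Subtype.ext
      simpa [hτ] using hb.2
  rw [h2] at h1
  exact h1.symm

/-- an even involution moves a multiple of four points -/
theorem four_dvd_card_support (σ : Perm Ω) (hσ : σ ^ 2 = 1) (hs : Perm.sign σ = 1) :
    4 ∣ σ.support.card := by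
  by_cases hσ1 : σ = 1
  · rw [hσ1]; simp
  have hord : orderOf σ = 2 := orderOf_eq_prime hσ hσ1
  obtain ⟨n, hn⟩ := Perm.cycleType_prime_order (σ := σ) (by rw [hord]; exact Nat.prime_two)
  rw [hord] at hn
  have hsum : σ.cycleType.sum = σ.support.card := Perm.sum_cycleType σ
  rw [hn, Multiset.sum_replicate, smul_eq_mul] at hsum
  rw [Perm.sign_of_cycleType, hn, Multiset.sum_replicate, Multiset.card_replicate, smul_eq_mul] at hs
  have heven : Even (n + 1) := by
    by_contra h
    rw [Nat.not_even_iff_odd] at h
    have : Odd ((n + 1) * 2 + (n + 1)) := by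
      obtain ⟨k, hk⟩ := h
      exact ⟨3 * k + 1, by omega⟩
    rw [this.neg_one_pow] at hs
    exact absurd hs (by decide)
  obtain ⟨k, hk⟩ := heven
  exact ⟨k, by omega⟩

/-- an even permutation of order dividing four without 2-cycles moves a multiple of eight points -/
theorem eight_dvd_card_support (σ : Perm Ω) (hσ : σ ^ 4 = 1) (h2 : ∀ a, σ (σ a) = a → σ a = a)
    (hs : Perm.sign σ = 1) : 8 ∣ σ.support.card := by
  have hall : ∀ m ∈ σ.cycleType, m = 4 := by
    intro m hm
    have h1 : m ∣ 4 := (Perm.dvd_of_mem_cycleType hm).trans (orderOf_dvd_of_pow_eq_one hσ)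
    have h3 : 2 ≤ m := Perm.two_le_of_mem_cycleType hm
    have h4 : m ≤ 4 := Nat.le_of_dvd (by norm_num) h1
    have hne2 : m ≠ 2 := by
      rintro rfl
      rw [Perm.cycleType_def, Multiset.mem_map] at hm
      obtain ⟨c, hc, hc2⟩ := hm
      have hc' : c ∈ σ.cycleFactorsFinset := hc
      rw [Perm.mem_cycleFactorsFinset_iff] at hc'
      obtain ⟨hcyc, hcσ⟩ := hc'
      have hcard : c.support.card = 2 := hc2
      have hcord : orderOf c = 2 := by rw [hcyc.orderOf, hcard]
      obtain ⟨a, ha⟩ : c.support.Nonempty := by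
        rw [← Finset.card_pos, hcard]; norm_num
      have ha' : c a ∈ c.support := Perm.apply_mem_support.mpr ha
      have e1 : σ a = c a := (hcσ a ha).symm
      have e2 : σ (c a) = c (c a) := (hcσ _ ha').symm
      have e3 : c (c a) = a := by
        have : c ^ 2 = 1 := by rw [← hcord]; exact pow_orderOf_eq_one c
        have := congrArg (fun f : Perm Ω => f a) this
        simpa [pow_two, Perm.mul_apply] using this
      have e4 : σ (σ a) = a := by rw [e1, e2, e3]
      have e5 := h2 a e4
      rw [e1] at e5
      exact (Perm.mem_support.mp ha) e5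
    interval_cases m
    · exact absurd rfl hne2
    · omega
    · rfl
  have hrep : σ.cycleType = Multiset.replicate (Multiset.card σ.cycleType) 4 :=
    Multiset.eq_replicate.mpr ⟨rfl, hall⟩
  have hsum : σ.cycleType.sum = σ.support.card := Perm.sum_cycleType σ
  rw [hrep, Multiset.sum_replicate, smul_eq_mul] at hsum
  rw [Perm.sign_of_cycleType, hrep, Multiset.sum_replicate, Multiset.card_replicate, smul_eq_mul] at hs
  set m := Multiset.card σ.cycleType with hm
  have heven : Even m := by
    by_contra h
    rw [Nat.not_even_iff_odd] at h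
    have : Odd (m * 4 + m) := by
      obtain ⟨k, hk⟩ := h
      exact ⟨5 * k + 2, by omega⟩
    rw [this.neg_one_pow] at hs
    exact absurd hs (by decide)
  obtain ⟨k, hk⟩ := heven
  exact ⟨k, by omega⟩

/-- moved points and fixed points add up -/
theorem card_support_add_card_fixed (σ : Perm Ω) :
    σ.support.card + (Finset.univ.filter (fun a => σ a = a)).card = Fintype.card Ω := by
  have : Finset.univ.filter (fun a => σ a = a) = σ.supportᶜ := by
    ext a
    simp [Perm.mem_support]
  rw [this, Finset.card_compl]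
  have := Finset.card_le_univ σ.support
  omega

end Cfsg.Agent.H1.SylFiveA
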