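import Mathlib
import Cfsg.Agent.H1.Ord1004913A
import Cfsg.Agent.H1.SylFiveA

set_option autoImplicit false

namespace Cfsg.Agent.H1.OrdA

open SylNumA SylNumB SylNumC SylNumD SylNumE SimpOrdA

universe u

variable {G : Type u} [Group G] [Finite G]

theorem card_sylow409_eq [IsSimpleGroup G] (hG : Nat.card G = 1004913) :
    Nat.card (Sylow 409 G) = 819 := by
  obtain ⟨X⟩ := (Sylow.nonempty : Nonempty (Sylow 409 G))
  have hG' : Nat.card G = 409 * 2457 := by rw [hG]
  have hX : Nat.card (X : Subgroup G) = 409 := card_sylow_409 hG X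
  obtain ⟨d, hd, hd1, hdc, hnN, hmod, hdvd, hn1⟩ := centralizer_data hG' (by norm_num) X hX
  have hdvd' : Nat.card (Sylow 409 G) ∣ 27 * (7 * 13) := by
    have : (2457 : ℕ) = 27 * (7 * 13) := by norm_num
    rwa [this] at hdvd
  obtain ⟨i, j, k, hi, hj, hk, hn⟩ := dvd_cases27 (by norm_num) (by norm_num) hdvd'
  rcases hi with rfl | rfl | rfl | rfl <;> rcases hj with rfl | rfl <;> rcases hk with rfl | rfl <;>
    rw [hn] at hmod hn1 ⊢ <;> omega

theorem card_normalizer_409 [IsSimpleGroup G] (hG : Nat.card G = 1004913) (Q : Sylow 409 G) :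
    Nat.card (Subgroup.normalizer ((Q : Subgroup G) : Set G)) = 1227 := by
  have h1 : Nat.card (Sylow 409 G) = (Subgroup.normalizer ((Q : Subgroup G) : Set G)).index :=
    Sylow.card_eq_index_normalizer Q
  have h2 := Subgroup.card_mul_index (Subgroup.normalizer ((Q : Subgroup G) : Set G))
  rw [← h1, card_sylow409_eq hG, hG] at h2
  omega

omit [Finite G] in
/-- a nontrivial element of a Sylow subgroup of prime order normalizing another Sylow subgroup forces
equality -/
theorem sylow_eq_of_mem_of_smul {q : ℕ} [Fact q.Prime] (Q Q' : Sylow q G)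
    (hQ : Nat.card (Q : Subgroup G) = q) (hQ' : Nat.card (Q' : Subgroup G) = q)
    (c : G) (hc : c ∈ (Q : Subgroup G)) (hc1 : c ≠ 1) (hfix : c • Q' = Q') : Q' = Q := by
  have hq : q.Prime := Fact.out
  haveI : Finite (Q : Subgroup G) := Nat.finite_of_card_ne_zero (by rw [hQ]; exact hq.ne_zero)
  haveI : Finite (Q' : Subgroup G) := Nat.finite_of_card_ne_zero (by rw [hQ']; exact hq.ne_zero)
  have h1 : c ∈ (Q : Subgroup G) ⊓ Subgroup.normalizer ((Q' : Subgroup G) : Set G) :=
    ⟨hc, Sylow.smul_eq_iff_mem_normalizer.mp hfix⟩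
  have h0 := Q.isPGroup'.inf_normalizer_sylow Q'
  have h2 : c ∈ (Q : Subgroup G) ⊓ (Q' : Subgroup G) := h0 ▸ h1
  have hc' : c ∈ (Q' : Subgroup G) := h2.2
  have hord : orderOf c = q := by
    have h3 : orderOf c ∣ q := by
      have := orderOf_dvd_natCard (⟨c, hc⟩ : (Q : Subgroup G))
      rwa [Subgroup.orderOf_mk, hQ] at this
    rcases (Nat.dvd_prime hq).mp h3 with h | h
    · exact absurd (orderOf_eq_one_iff.mp h) hc1
    · exact h
  have e1 : Subgroup.zpowers c = (Q : Subgroup G) := by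
    apply Subgroup.eq_of_le_of_card_ge ((Subgroup.zpowers_le).mpr hc)
    rw [hQ, Nat.card_zpowers, hord]
  have e2 : Subgroup.zpowers c = (Q' : Subgroup G) := by
    apply Subgroup.eq_of_le_of_card_ge ((Subgroup.zpowers_le).mpr hc')
    rw [hQ', Nat.card_zpowers, hord]
  exact Sylow.ext (e2.symm.trans e1)

/-- an element of order `3` normalizing `Q` normalizes at most two further Sylow `409`-subgroups -/
theorem card_fixed_le [IsSimpleGroup G] (hG : Nat.card G = 1004913) (Q : Sylow 409 G) (y : G)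
    (hy : orderOf y = 3) (hyQ : y • Q = Q) :
    Nat.card {Q' : Sylow 409 G // y • Q' = Q' ∧ Q' ≠ Q} ≤ 2 := by
  classical
  haveI : Fintype (Sylow 409 G) := Fintype.ofFinite _
  have hQc := card_sylow_409 hG Q
  have hyN : y ∈ Subgroup.normalizer ((Q : Subgroup G) : Set G) :=
    Sylow.smul_eq_iff_mem_normalizer.mp hyQ
  have hne : ∀ (z : G), z ∈ (Q : Subgroup G) → ∀ Q' : Sylow 409 G, Q' ≠ Q → z • Q' ≠ Q := by
    intro z hz Q' hQ' h1
    apply hQ'
    have : Q' = z⁻¹ • Q := eq_inv_smul_iff.mpr h1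
    rw [this]
    exact Sylow.smul_eq_iff_mem_normalizer.mpr (Subgroup.le_normalizer (Subgroup.inv_mem _ hz))
  let φ : {Q' : Sylow 409 G // y • Q' = Q' ∧ Q' ≠ Q} × ↥(Q : Subgroup G) →
      {R : Sylow 409 G // R ≠ Q} := fun x => ⟨(x.2 : G) • (x.1 : Sylow 409 G),
        hne _ x.2.2 _ x.1.2.2⟩
  have hφ : Function.Injective φ := by
    rintro ⟨⟨Q', hQ'1, hQ'2⟩, z⟩ ⟨⟨Q'', hQ''1, hQ''2⟩, z'⟩ hab
    have h0 : (z : G) • Q' = (z' : G) • Q'' := congrArg Subtype.val hab
    have h1 : Q'' = ((z' : G)⁻¹ * (z : G)) • Q' := by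
      rw [mul_smul, h0, inv_smul_smul]
    have hw : (z' : G)⁻¹ * (z : G) ∈ (Q : Subgroup G) :=
      Subgroup.mul_mem _ (Subgroup.inv_mem _ z'.2) z.2
    by_cases hw1 : (z' : G)⁻¹ * (z : G) = 1
    · have e1 : (z : G) = (z' : G) := (inv_mul_eq_one.mp hw1).symm
      have e2 : Q'' = Q' := by rw [h1, hw1, one_smul]
      have e3 : z = z' := Subtype.ext e1
      subst e3
      subst e2
      rfl
    · exfalso
      set w := (z' : G)⁻¹ * (z : G) with hwdef
      -- `c = y⁻¹ w⁻¹ y w ∈ Q` fixes `Q'`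
      have hcQ : y⁻¹ * w⁻¹ * y * w ∈ (Q : Subgroup G) := by
        have h2 : y⁻¹ * w⁻¹ * y ∈ (Q : Subgroup G) := by
          have h3 := (Subgroup.mem_normalizer_iff.mp (Subgroup.inv_mem _ hyN) w⁻¹).mp
            (Subgroup.inv_mem _ hw)
          simpa using h3
        exact Subgroup.mul_mem _ h2 hw
      have hcfix : (y⁻¹ * w⁻¹ * y * w) • Q' = Q' := by
        have h4 : y • (w • Q') = w • Q' := by rw [← h1]; exact hQ''1
        calc (y⁻¹ * w⁻¹ * y * w) • Q' = y⁻¹ • w⁻¹ • (y • (w • Q')) := by simp only [mul_smul]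
          _ = y⁻¹ • w⁻¹ • (w • Q') := by rw [h4]
          _ = y⁻¹ • Q' := by rw [inv_smul_smul]
          _ = Q' := by rw [inv_smul_eq_iff, hQ'1]
      by_cases hc1 : y⁻¹ * w⁻¹ * y * w = 1
      · -- `w` commutes with `y`
        have hcomm : Commute w y := by
          have : y * w = w * y := by
            have h5 : w * y * (y⁻¹ * w⁻¹ * y * w) = y * w := by group
            rw [hc1, mul_one] at h5
            exact h5.symm
          exact this.symm
        have hword : orderOf w = 409 := by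
          have h3 : orderOf w ∣ 409 := by
            have := orderOf_dvd_natCard (⟨w, hw⟩ : (Q : Subgroup G))
            rwa [Subgroup.orderOf_mk, hQc] at this
          rcases (Nat.dvd_prime (by norm_num)).mp h3 with h | h
          · exact absurd (orderOf_eq_one_iff.mp h) hw1
          · exact h
        exact no_comm hG (Or.inr (Or.inr rfl)) w y hword hy hcomm
      · exact hQ'2 (sylow_eq_of_mem_of_smul Q Q' hQc (card_sylow_409 hG Q') _ hcQ hc1 hcfix)
  have hT : Nat.card {R : Sylow 409 G // R ≠ Q} = 818 := by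
    rw [Nat.card_eq_fintype_card, Fintype.card_subtype_compl,
      Fintype.card_subtype_eq, ← Nat.card_eq_fintype_card, card_sylow409_eq hG]
  have hle := Nat.card_le_card_of_injective φ hφ
  rw [Nat.card_prod, hQc, hT] at hle
  omega



/-- an abelian Sylow `3`-subgroup containing `y` moves `Q` to nine subgroups normalized by `y` -/
theorem nine_le_card_fixed [IsSimpleGroup G] (hG : Nat.card G = 1004913) (P : Sylow 3 G)
    (hab : ∀ a ∈ (P : Subgroup G), ∀ b ∈ (P : Subgroup G), a * b = b * a) (Q : Sylow 409 G)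
    (y : G) (hyP : y ∈ (P : Subgroup G)) (hyQ : y • Q = Q) :
    9 ≤ Nat.card {Q' : Sylow 409 G // y • Q' = Q'} := by
  have hPc := card_sylow_3 hG P
  have h1 := MulAction.index_stabilizer ↥(P : Subgroup G) Q
  have h2 := Subgroup.card_mul_index (MulAction.stabilizer ↥(P : Subgroup G) Q)
  rw [hPc] at h2
  -- the stabilizer has order dividing `3`
  have h3 : Nat.card (MulAction.stabilizer ↥(P : Subgroup G) Q) ∣ 27 := Dvd.intro _ h2
  have h4 : Nat.card (MulAction.stabilizer ↥(P : Subgroup G) Q) ∣ 1227 := by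
    rw [← card_normalizer_409 hG Q]
    let f : MulAction.stabilizer ↥(P : Subgroup G) Q →* Subgroup.normalizer ((Q : Subgroup G) : Set G) :=
      { toFun := fun x => ⟨((x : ↥(P : Subgroup G)) : G), by
          apply Sylow.smul_eq_iff_mem_normalizer.mp
          have := x.2
          rw [MulAction.mem_stabilizer_iff] at this
          exact this⟩
        map_one' := rfl
        map_mul' := fun _ _ => rfl }
    apply Subgroup.card_dvd_of_injective f
    intro a b hab'
    apply Subtype.ext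
    apply Subtype.ext
    have h := congrArg (fun t : Subgroup.normalizer ((Q : Subgroup G) : Set G) => (t : G)) hab'
    exact h
  have h5 : Nat.card (MulAction.stabilizer ↥(P : Subgroup G) Q) ∣ 3 := by
    have := Nat.dvd_gcd h3 h4
    have e : Nat.gcd 27 1227 = 3 := by norm_num
    rwa [e] at this
  have h6 : Nat.card (MulAction.stabilizer ↥(P : Subgroup G) Q) ≤ 3 := Nat.le_of_dvd (by norm_num) h5
  have h7 : 9 ≤ (MulAction.orbit ↥(P : Subgroup G) Q).ncard := by
    rw [← h1]
    by_contra hlt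
    push Not at hlt
    have : Nat.card (MulAction.stabilizer ↥(P : Subgroup G) Q) *
        (MulAction.stabilizer ↥(P : Subgroup G) Q).index ≤ 3 * 8 :=
      Nat.mul_le_mul h6 (by omega)
    omega
  have h8 : MulAction.orbit ↥(P : Subgroup G) Q ⊆ {Q' : Sylow 409 G | y • Q' = Q'} := by
    rintro _ ⟨x, rfl⟩
    show y • ((x : G) • Q) = (x : G) • Q
    rw [← mul_smul, hab y hyP x x.2, mul_smul, hyQ]
  have h9 := Set.ncard_le_ncard h8 (Set.toFinite _)
  have h10 : ({Q' : Sylow 409 G | y • Q' = Q'} : Set (Sylow 409 G)).ncard =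
      Nat.card {Q' : Sylow 409 G // y • Q' = Q'} := by
    rw [← Nat.card_coe_set_eq]; rfl
  omega

/-- a Sylow `3`-subgroup containing an element of order `3` that normalizes a Sylow `409`-subgroup is not
abelian -/
theorem not_abelian [IsSimpleGroup G] (hG : Nat.card G = 1004913) (P : Sylow 3 G) (Q : Sylow 409 G)
    (y : G) (hy : orderOf y = 3) (hyP : y ∈ (P : Subgroup G)) (hyQ : y • Q = Q) :
    ¬ ∀ a ∈ (P : Subgroup G), ∀ b ∈ (P : Subgroup G), a * b = b * a := by
  classical
  haveI : Fintype (Sylow 409 G) := Fintype.ofFinite _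
  intro hab
  have h1 := nine_le_card_fixed hG P hab Q y hyP hyQ
  have h2 := card_fixed_le hG Q y hy hyQ
  have h3 : Nat.card {Q' : Sylow 409 G // y • Q' = Q'} =
      Nat.card {Q' : Sylow 409 G // y • Q' = Q' ∧ Q' ≠ Q} + 1 := by
    rw [Nat.card_eq_fintype_card, Nat.card_eq_fintype_card, Fintype.card_subtype, Fintype.card_subtype]
    have : (Finset.univ.filter (fun R : Sylow 409 G => y • R = R)) =
        insert Q (Finset.univ.filter (fun R : Sylow 409 G => y • R = R ∧ R ≠ Q)) := by
      ext R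
      by_cases hRQ : R = Q
      · simp [hRQ, hyQ]
      · simp [hRQ]
    rw [this, Finset.card_insert_of_notMem (by simp)]
  omega

/-- the fixed point congruence for conjugation by an element of prime order -/
theorem card_mod_eq_one [IsSimpleGroup G] (hG : Nat.card G = 1004913) {r : ℕ}
    (hr : r = 7 ∨ r = 13 ∨ r = 409) (h : G) (hh : orderOf h = r) (P : Sylow 3 G) (U : Subgroup G)
    (hUP : U ≤ (P : Subgroup G)) (hconj : ∀ u ∈ U, h * u * h⁻¹ ∈ U) : Nat.card U % r = 1 := by
  classical
  haveI : Fintype G := Fintype.ofFinite _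
  haveI hrp : Fact r.Prime := by
    rcases hr with rfl | rfl | rfl
    · exact fact7
    · exact fact13
    · exact fact409
  set σ : Equiv.Perm G := (MulAut.conj h).toEquiv with hσ
  have hσpow : σ ^ r ^ 1 = 1 := by
    ext x
    have : ∀ k : ℕ, (σ ^ k) x = h ^ k * x * (h ^ k)⁻¹ := by
      intro k
      induction k with
      | zero => simp
      | succ k ih =>
        rw [pow_succ', Equiv.Perm.mul_apply, ih]
        show h * (h ^ k * x * (h ^ k)⁻¹) * h⁻¹ = _
        rw [pow_succ']
        group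
    rw [pow_one, this, ← hh, pow_orderOf_eq_one]
    simp
  set S : Finset G := Finset.univ.filter (fun u => u ∈ U) with hS
  have hinv : ∀ a ∈ S, σ a ∈ S := by
    intro a ha
    rw [hS, Finset.mem_filter] at ha ⊢
    exact ⟨Finset.mem_univ _, hconj a ha.2⟩
  have hmod := SylFiveA.card_modEq_card_filter_fixed σ hσpow S hinv
  have hfixed : S.filter (fun a => σ a = a) = {1} := by
    ext a
    rw [Finset.mem_filter, hS, Finset.mem_filter, Finset.mem_singleton]
    constructor
    · rintro ⟨⟨_, haU⟩, hfix⟩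
      by_contra ha1
      have hcomm : Commute h a := by
        have h1 : h * a * h⁻¹ = a := hfix
        exact mul_inv_eq_iff_eq_mul.mp h1
      -- `a` is a nontrivial `3`-element
      obtain ⟨k, hk⟩ := (IsPGroup.iff_orderOf.mp P.isPGroup') ⟨a, hUP haU⟩
      rw [Subgroup.orderOf_mk] at hk
      have hk0 : k ≠ 0 := by
        rintro rfl
        rw [pow_zero, orderOf_eq_one_iff] at hk
        exact ha1 hk
      obtain ⟨j, rfl⟩ := Nat.exists_eq_succ_of_ne_zero hk0
      have hy : orderOf (a ^ 3 ^ j) = 3 := by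
        rw [orderOf_pow' a (pow_ne_zero _ (by norm_num)), hk, Nat.gcd_eq_right (pow_dvd_pow 3 (Nat.le_succ j)),
          pow_succ, Nat.mul_div_cancel_left _ (pow_pos (by norm_num) j)]
      exact no_comm hG hr h (a ^ 3 ^ j) hh hy (hcomm.pow_right _)
    · rintro rfl
      refine ⟨⟨Finset.mem_univ _, U.one_mem⟩, ?_⟩
      show h * 1 * h⁻¹ = 1
      group
  rw [hfixed, Finset.card_singleton] at hmod
  have hScard : S.card = Nat.card U := by
    rw [hS, Nat.card_eq_fintype_card, ← Fintype.card_subtype]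
  rw [hScard] at hmod
  have hr1 : 1 < r := hrp.out.one_lt
  rw [Nat.ModEq, Nat.mod_eq_of_lt hr1] at hmod
  exact hmod

/-- no element of order `7`, `13`, `409` normalizes a nontrivial `3`-subgroup -/
theorem normalizer_false [IsSimpleGroup G] (hG : Nat.card G = 1004913) (P : Sylow 3 G)
    (hnab : ¬ ∀ a ∈ (P : Subgroup G), ∀ b ∈ (P : Subgroup G), a * b = b * a)
    (U : Subgroup G) (hUP : U ≤ (P : Subgroup G)) (hU1 : U ≠ ⊥) {r : ℕ}
    (hr : r = 7 ∨ r = 13 ∨ r = 409) (h : G) (hh : orderOf h = r)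
    (hN : h ∈ Subgroup.normalizer (U : Set G)) : False := by
  have hPc := card_sylow_3 hG P
  have hconj : ∀ u ∈ U, h * u * h⁻¹ ∈ U := fun u hu => (Subgroup.mem_normalizer_iff.mp hN u).mp hu
  have hmod := card_mod_eq_one hG hr h hh P U hUP hconj
  have hdvd : Nat.card U ∣ 27 := by rw [← hPc]; exact Subgroup.card_dvd_of_le hUP
  have hne1 : Nat.card U ≠ 1 := fun h1 => hU1 (Subgroup.card_eq_one.mp h1)
  have hmem : Nat.card U ∈ Nat.divisors 27 := Nat.mem_divisors.mpr ⟨hdvd, by norm_num⟩
  have h27 : Nat.divisors 27 = {1, 3, 9, 27} := by decide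
  rw [h27] at hmem
  simp only [Finset.mem_insert, Finset.mem_singleton] at hmem
  have hcase : Nat.card U = 27 ∧ r = 13 := by
    rcases hr with rfl | rfl | rfl <;> rcases hmem with h | h | h | h <;> rw [h] at hmod <;> omega
  obtain ⟨hU27, rfl⟩ := hcase
  have hUeq : U = (P : Subgroup G) := Subgroup.eq_of_le_of_card_ge hUP (by rw [hU27, hPc])
  -- the center
  set Z : Subgroup G := (P : Subgroup G) ⊓ Subgroup.centralizer ((P : Subgroup G) : Set G) with hZ
  have hZP : Z ≤ (P : Subgroup G) := inf_le_left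
  have hconjP : ∀ u ∈ (P : Subgroup G), h * u * h⁻¹ ∈ (P : Subgroup G) := by
    intro u hu; rw [← hUeq] at hu ⊢; exact hconj u hu
  have hconjP' : ∀ u ∈ (P : Subgroup G), h⁻¹ * u * h ∈ (P : Subgroup G) := by
    intro u hu
    rw [← hUeq] at hu ⊢
    have := (Subgroup.mem_normalizer_iff.mp (Subgroup.inv_mem _ hN) u).mp hu
    simpa using this
  have hconjZ : ∀ u ∈ Z, h * u * h⁻¹ ∈ Z := by
    intro u hu
    refine Subgroup.mem_inf.mpr ⟨hconjP u hu.1, ?_⟩
    rw [Subgroup.mem_centralizer_iff]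
    intro p hp
    have h1 : (h⁻¹ * p * h) * u = u * (h⁻¹ * p * h) :=
      Subgroup.mem_centralizer_iff.mp hu.2 _ (hconjP' p hp)
    calc p * (h * u * h⁻¹) = h * ((h⁻¹ * p * h) * u) * h⁻¹ := by group
      _ = h * (u * (h⁻¹ * p * h)) * h⁻¹ := by rw [h1]
      _ = h * u * h⁻¹ * p := by group
  have hmodZ := card_mod_eq_one hG (Or.inr (Or.inl rfl)) h hh P Z hZP hconjZ
  have hdvdZ : Nat.card Z ∣ 27 := by rw [← hPc]; exact Subgroup.card_dvd_of_le hZP
  have hZne27 : Nat.card Z ≠ 27 := by
    intro h27'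
    apply hnab
    have hZeq : Z = (P : Subgroup G) := Subgroup.eq_of_le_of_card_ge hZP (by rw [h27', hPc])
    intro a ha b hb
    have hb' : b ∈ Z := hZeq ▸ hb
    exact Subgroup.mem_centralizer_iff.mp hb'.2 a ha
  have hmemZ : Nat.card Z ∈ Nat.divisors 27 := Nat.mem_divisors.mpr ⟨hdvdZ, by norm_num⟩
  rw [h27] at hmemZ
  simp only [Finset.mem_insert, Finset.mem_singleton] at hmemZ
  have hZ1 : Nat.card Z ≠ 1 := by
    intro h1
    have hZbot : Z = ⊥ := Subgroup.card_eq_one.mp h1
    haveI : Nontrivial (P : Subgroup G) := by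
      rw [← Finite.one_lt_card_iff_nontrivial, hPc]; norm_num
    haveI : Nontrivial (Subgroup.center (P : Subgroup G)) := P.isPGroup'.center_nontrivial
    obtain ⟨⟨z, hz⟩, hz1⟩ := exists_ne (1 : Subgroup.center (P : Subgroup G))
    have hzZ : (z : G) ∈ Z := by
      refine Subgroup.mem_inf.mpr ⟨z.2, ?_⟩
      rw [Subgroup.mem_centralizer_iff]
      intro p hp
      have := Subgroup.mem_center_iff.mp hz ⟨p, hp⟩
      exact congrArg Subtype.val this
    rw [hZbot, Subgroup.mem_bot] at hzZ
    apply hz1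
    apply Subtype.ext
    apply Subtype.ext
    exact hzZ
  rcases hmemZ with h | h | h | h
  · exact hZ1 h
  · rw [h] at hmodZ; omega
  · rw [h] at hmodZ; omega
  · exact hZne27 h



/-- **there is no simple group of order `3³·7·13·409`** -/
theorem main [IsSimpleGroup G] (hG : Nat.card G = 1004913) : False := by
  obtain ⟨Q⟩ := (Sylow.nonempty : Nonempty (Sylow 409 G))
  have hNc := card_normalizer_409 hG Q
  obtain ⟨y0, hy0⟩ := exists_prime_orderOf_dvd_card'
    (G := Subgroup.normalizer ((Q : Subgroup G) : Set G)) 3 (by rw [hNc]; norm_num)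
  have hy : orderOf (y0 : G) = 3 := by rw [Subgroup.orderOf_coe]; exact hy0
  have hyQ : (y0 : G) • Q = Q := Sylow.smul_eq_iff_mem_normalizer.mpr y0.2
  have hpg : IsPGroup 3 (Subgroup.zpowers (y0 : G)) :=
    (IsPGroup.iff_card).mpr ⟨1, by rw [Nat.card_zpowers, hy, pow_one]⟩
  obtain ⟨P, hP⟩ := hpg.exists_le_sylow
  have hyP : (y0 : G) ∈ (P : Subgroup G) := hP (Subgroup.mem_zpowers _)
  have hnab := not_abelian hG P Q (y0 : G) hy hyP hyQ
  have hfrob : ∃ N : Subgroup G, N.Normal ∧ N.IsComplement' (P : Subgroup G) := by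
    refine (Cfsg.Agent.S0071.result P).mpr ?_
    intro U hUP g hg hcop
    by_cases hU1 : U = ⊥
    · rw [hU1, Subgroup.mem_centralizer_iff]
      intro x hx
      have hx1 : x = 1 := hx
      rw [hx1]; simp
    · by_contra hgC
      have hg1 : g ≠ 1 := by
        rintro rfl
        exact hgC (Subgroup.one_mem _)
      have ho : orderOf g ≠ 1 := fun h => hg1 (orderOf_eq_one_iff.mp h)
      obtain ⟨r, hrp, hrd⟩ := Nat.exists_prime_and_dvd ho
      have hrG : r ∣ 1004913 := by rw [← hG]; exact hrd.trans (orderOf_dvd_natCard g)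
      have ho0 : orderOf g ≠ 0 := (orderOf_pos g).ne'
      have hh : orderOf (g ^ (orderOf g / r)) = r := orderOf_pow_orderOf_div ho0 hrd
      have hN : g ^ (orderOf g / r) ∈ Subgroup.normalizer (U : Set G) := Subgroup.pow_mem _ hg _
      rcases prime_cases hrp hrG with rfl | rfl | rfl | rfl
      · have := hcop.symm.eq_one_of_dvd hrd
        omega
      · exact normalizer_false hG P hnab U hUP hU1 (Or.inl rfl) _ hh hN
      · exact normalizer_false hG P hnab U hUP hU1 (Or.inr (Or.inl rfl)) _ hh hN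
      · exact normalizer_false hG P hnab U hUP hU1 (Or.inr (Or.inr rfl)) _ hh hN
  obtain ⟨N, hNn, hNcomp⟩ := hfrob
  have hmul := hNcomp.card_mul_card
  rw [card_sylow_3 hG P, hG] at hmul
  rcases hNn.eq_bot_or_eq_top with h | h
  · rw [h, Subgroup.card_bot] at hmul; omega
  · rw [h, Subgroup.card_top, hG] at hmul; omega

end Cfsg.Agent.H1.OrdA
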