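import Mathlib
import Cfsg.Agent.H1.SupersolvableSorted
import Cfsg.Agent.H1.SylowMore
import Cfsg.Agent.Lib.Lead.Subnormal

set_option autoImplicit false
open scoped Pointwise commutatorElement

universe u

namespace Cfsg.Agent.H1

/-- in a finite supersolvable group the Sylow subgroups for the largest prime divisor are normal -/
theorem normal_sylow_maxPrime : ∀ n : ℕ, ∀ (G : Type u) [Group G] [Finite G], Nat.card G = n →
    SSReach (⊤ : Subgroup G) → ∀ (p : ℕ) [Fact p.Prime], p ∣ Nat.card G →
    (∀ q : ℕ, q.Prime → q ∣ Nat.card G → q ≤ p) → ∀ P : Sylow p G, (P : Subgroup G).Normal := by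
  intro n
  induction n using Nat.strong_induction_on with
  | _ n ih =>
    intro G _ _ hn hss p _ hpG hmax P
    have hp : p.Prime := Fact.out
    obtain ⟨N, hN, hNc⟩ := exists_normal_card_maxPrime _ G rfl hss p hp hpG hmax
    haveI := hN
    have hNp : IsPGroup p N := IsPGroup.of_card (n := 1) (by rw [hNc, pow_one])
    have hNP : N ≤ (P : Subgroup G) := hNp.le_sylow_of_normal P
    have hsurj := QuotientGroup.mk'_surjective N
    have hcard : Nat.card G = Nat.card (G ⧸ N) * Nat.card N := Subgroup.card_eq_card_quotient_mul_card_subgroup N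
    have hlt : Nat.card (G ⧸ N) < n := by
      rw [← hn, hcard, hNc]
      have h2 := hp.two_le
      have : 0 < Nat.card (G ⧸ N) := Nat.card_pos
      nlinarith
    have hss' : SSReach (⊤ : Subgroup (G ⧸ N)) := by
      have := hss.map (QuotientGroup.mk' N) hsurj
      rwa [Subgroup.map_top_of_surjective _ hsurj] at this
    have hPbar : ((P.mapSurjective hsurj : Sylow p (G ⧸ N)) : Subgroup (G ⧸ N)).Normal := by
      by_cases hpQ : p ∣ Nat.card (G ⧸ N)
      · exact ih _ hlt (G ⧸ N) rfl hss' p hpQ
          (fun q hq hqd => hmax q hq (hqd.trans (Dvd.intro _ hcard.symm))) _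
      · have h1 : Nat.card ((P.mapSurjective hsurj : Sylow p (G ⧸ N)) : Subgroup (G ⧸ N)) = 1 := by
          rw [Sylow.card_eq_multiplicity, Nat.factorization_eq_zero_of_not_dvd hpQ, pow_zero]
        rw [Subgroup.card_eq_one.mp h1]
        infer_instance
    have hcoe : ((P.mapSurjective hsurj : Sylow p (G ⧸ N)) : Subgroup (G ⧸ N)) =
        (P : Subgroup G).map (QuotientGroup.mk' N) := rfl
    rw [hcoe] at hPbar
    have hcomap : ((P : Subgroup G).map (QuotientGroup.mk' N)).comap (QuotientGroup.mk' N) = (P : Subgroup G) := by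
      apply Subgroup.comap_map_eq_self
      rw [QuotientGroup.ker_mk']
      exact hNP
    rw [← hcomap]
    exact hPbar.comap _

end Cfsg.Agent.H1

namespace Cfsg.Agent.H1

theorem supersolvable_hall_conj : ∀ n : ℕ, ∀ (G : Type u) [Group G] [Finite G], Nat.card G = n →
    ∀ H K : Subgroup G, SSReach (⊤ : Subgroup H) → SSReach (⊤ : Subgroup K) → Nat.card H = Nat.card K →
    (Nat.card H).Coprime H.index → ∃ x : G, MulAut.conj x • H = K := by
  intro n
  induction n using Nat.strong_induction_on with
  | _ n ih =>
    intro G _ _ hn H K hH hK hcard hHall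
    by_cases h1 : Nat.card H = 1
    · have hHb : H = ⊥ := Subgroup.card_eq_one.mp h1
      have hKb : K = ⊥ := Subgroup.card_eq_one.mp (hcard ▸ h1)
      refine ⟨1, ?_⟩
      rw [hHb, hKb]
      simp
    · have hne : (Nat.card H).primeFactors.Nonempty := by
        rw [Nat.nonempty_primeFactors]
        have : 0 < Nat.card H := Nat.card_pos
        omega
      obtain ⟨p, hpdef⟩ : ∃ p, p = (Nat.card H).primeFactors.max' hne := ⟨_, rfl⟩
      have hpmem : p ∈ (Nat.card H).primeFactors := hpdef ▸ Finset.max'_mem _ hne
      have hp : p.Prime := Nat.prime_of_mem_primeFactors hpmem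
      haveI : Fact p.Prime := ⟨hp⟩
      have hpH : p ∣ Nat.card H := Nat.dvd_of_mem_primeFactors hpmem
      have hmaxH : ∀ q : ℕ, q.Prime → q ∣ Nat.card H → q ≤ p := by
        intro q hq hqH
        rw [hpdef]
        apply Finset.le_max'
        exact Nat.mem_primeFactors.mpr ⟨hq, hqH, Nat.card_pos.ne'⟩
      have hmaxK : ∀ q : ℕ, q.Prime → q ∣ Nat.card K → q ≤ p := by
        intro q hq hqK
        exact hmaxH q hq (hcard ▸ hqK)
      obtain ⟨P₁⟩ : Nonempty (Sylow p H) := inferInstance
      obtain ⟨Q₁⟩ : Nonempty (Sylow p K) := inferInstance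
      have hP₁n : (P₁ : Subgroup H).Normal := normal_sylow_maxPrime _ H rfl hH p hpH hmaxH P₁
      have hQ₁n : (Q₁ : Subgroup K).Normal := normal_sylow_maxPrime _ K rfl hK p (hcard ▸ hpH) hmaxK Q₁
      obtain ⟨P, hPdef⟩ : ∃ P : Subgroup G, P = (P₁ : Subgroup H).map H.subtype := ⟨_, rfl⟩
      obtain ⟨Q, hQdef⟩ : ∃ Q : Subgroup G, Q = (Q₁ : Subgroup K).map K.subtype := ⟨_, rfl⟩
      have hPH : P ≤ H := hPdef ▸ Subgroup.map_subtype_le _
      have hQK : Q ≤ K := hQdef ▸ Subgroup.map_subtype_le _
      have hPcard : Nat.card P = Nat.card (P₁ : Subgroup H) := by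
        rw [hPdef]
        exact Nat.card_congr ((P₁ : Subgroup H).equivMapOfInjective H.subtype H.subtype_injective).toEquiv.symm
      have hQcard : Nat.card Q = Nat.card (Q₁ : Subgroup K) := by
        rw [hQdef]
        exact Nat.card_congr ((Q₁ : Subgroup K).equivMapOfInjective K.subtype K.subtype_injective).toEquiv.symm
      have hPQ₁ : Nat.card (P₁ : Subgroup H) = Nat.card (Q₁ : Subgroup K) := by
        rw [Sylow.card_eq_multiplicity, Sylow.card_eq_multiplicity, hcard]
      have hPsub : P.subgroupOf H = (P₁ : Subgroup H) := by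
        rw [hPdef]; exact Subgroup.comap_map_eq_self_of_injective H.subtype_injective _
      have hQsub : Q.subgroupOf K = (Q₁ : Subgroup K) := by
        rw [hQdef]; exact Subgroup.comap_map_eq_self_of_injective K.subtype_injective _
      have hKidx : K.index = H.index := by
        have e1 := Subgroup.card_mul_index H
        have e2 := Subgroup.card_mul_index K
        rw [← hcard, ← e1] at e2
        exact Nat.eq_of_mul_eq_mul_left Nat.card_pos e2
      have hpidx : ¬ p ∣ H.index := by
        intro h
        have := Nat.dvd_gcd hpH h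
        rw [Nat.Coprime.gcd_eq_one hHall] at this
        exact hp.one_lt.ne' (Nat.dvd_one.mp this)
      have hPnd : ¬ p ∣ P.index := by
        rw [← Subgroup.relIndex_mul_index hPH]
        intro h
        rcases (Nat.Prime.dvd_mul hp).mp h with h | h
        · have : P.relIndex H = (P₁ : Subgroup H).index := by
            rw [Subgroup.relIndex, hPsub]
          rw [this] at h
          exact P₁.not_dvd_index h
        · exact hpidx h
      have hQnd : ¬ p ∣ Q.index := by
        rw [← Subgroup.relIndex_mul_index hQK]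
        intro h
        rcases (Nat.Prime.dvd_mul hp).mp h with h | h
        · have : Q.relIndex K = (Q₁ : Subgroup K).index := by
            rw [Subgroup.relIndex, hQsub]
          rw [this] at h
          exact Q₁.not_dvd_index h
        · rw [hKidx] at h; exact hpidx h
      have hPp : IsPGroup p P := hPdef ▸ P₁.2.map H.subtype
      have hQp : IsPGroup p Q := hQdef ▸ Q₁.2.map K.subtype
      obtain ⟨g, hg⟩ := MulAction.exists_smul_eq G (hPp.toSylow hPnd) (hQp.toSylow hQnd)
      have hgPQ : MulAut.conj g • P = Q := by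
        have := congrArg (fun S : Sylow p G => (S : Subgroup G)) hg
        simpa [Sylow.coe_subgroup_smul] using this
      -- normalizers
      have hHP : H ≤ Subgroup.normalizer (P : Set G) := by
        intro x hx
        apply mem_normalizer_of_map_conj_le
        rintro y ⟨z, hz, rfl⟩
        rw [hPdef] at hz ⊢
        obtain ⟨w, hw, rfl⟩ := hz
        refine ⟨⟨x, hx⟩ * w * ⟨x, hx⟩⁻¹, hP₁n.conj_mem w hw ⟨x, hx⟩, ?_⟩
        simp
      have hKQ : K ≤ Subgroup.normalizer (Q : Set G) := by
        intro x hx
        apply mem_normalizer_of_map_conj_le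
        rintro y ⟨z, hz, rfl⟩
        rw [hQdef] at hz ⊢
        obtain ⟨w, hw, rfl⟩ := hz
        refine ⟨⟨x, hx⟩ * w * ⟨x, hx⟩⁻¹, hQ₁n.conj_mem w hw ⟨x, hx⟩, ?_⟩
        simp
      have hgHQ : ∀ x ∈ H, g * x * g⁻¹ ∈ Subgroup.normalizer (Q : Set G) := by
        intro x hx
        have hxP := hHP hx
        rw [← hgPQ]
        rw [Subgroup.mem_normalizer_iff]
        intro y
        rw [Lib.Lead.Subnormal.mem_conj_smul, Lib.Lead.Subnormal.mem_conj_smul]
        have h2 := Subgroup.mem_normalizer_iff.mp hxP (g⁻¹ * y * g)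
        rw [h2]
        have : g⁻¹ * (g * x * g⁻¹ * y * (g * x * g⁻¹)⁻¹) * g = x * (g⁻¹ * y * g) * x⁻¹ := by group
        rw [this]
      -- the quotient
      obtain ⟨M, hMdef⟩ : ∃ M : Subgroup G, M = Subgroup.normalizer (Q : Set G) := ⟨_, rfl⟩
      have hQM : Q ≤ M := hMdef ▸ Subgroup.le_normalizer
      haveI hQMn : (Q.subgroupOf M).Normal := by
        rw [hMdef]; exact Subgroup.normal_in_normalizer
      have hKM : K ≤ M := hMdef ▸ hKQ
      let f₁ : H →* M := ((MulAut.conj g).toMonoidHom.comp H.subtype).codRestrict M (fun x => by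
        rw [hMdef]
        exact hgHQ x x.2)
      let f₂ : H →* M ⧸ Q.subgroupOf M := (QuotientGroup.mk' (Q.subgroupOf M)).comp f₁
      let k₁ : K →* M := Subgroup.inclusion hKM
      let k₂ : K →* M ⧸ Q.subgroupOf M := (QuotientGroup.mk' (Q.subgroupOf M)).comp k₁
      have hf₁ : ∀ x : H, ((f₁ x : M) : G) = g * x * g⁻¹ := fun x => rfl
      have hk₁ : ∀ y : K, ((k₁ y : M) : G) = y := fun y => rfl
      have hkerf : f₂.ker = (P₁ : Subgroup H) := by
        ext x
        rw [MonoidHom.mem_ker, MonoidHom.comp_apply, QuotientGroup.mk'_apply, QuotientGroup.eq_one_iff,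
          Subgroup.mem_subgroupOf, hf₁, ← hgPQ, Lib.Lead.Subnormal.mem_conj_smul, ← hPsub,
          Subgroup.mem_subgroupOf]
        have : g⁻¹ * (g * (x : G) * g⁻¹) * g = x := by group
        rw [this]
      have hkerk : k₂.ker = (Q₁ : Subgroup K) := by
        ext y
        rw [MonoidHom.mem_ker, MonoidHom.comp_apply, QuotientGroup.mk'_apply, QuotientGroup.eq_one_iff,
          Subgroup.mem_subgroupOf, hk₁, ← hQsub, Subgroup.mem_subgroupOf]
      have hcardHbar : Nat.card (P₁ : Subgroup H) * Nat.card f₂.range = Nat.card H := by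
        have := Subgroup.card_mul_index f₂.ker
        rwa [Subgroup.index_ker, hkerf] at this
      have hcardKbar : Nat.card (Q₁ : Subgroup K) * Nat.card k₂.range = Nat.card K := by
        have := Subgroup.card_mul_index k₂.ker
        rwa [Subgroup.index_ker, hkerk] at this
      have hbar : Nat.card f₂.range = Nat.card k₂.range := by
        rw [← hcard, ← hcardHbar, ← hPQ₁] at hcardKbar
        exact (Nat.eq_of_mul_eq_mul_left Nat.card_pos hcardKbar).symm
      have hssH : SSReach (⊤ : Subgroup f₂.range) := by
        have := hH.map f₂.rangeRestrict f₂.rangeRestrict_surjective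
        rwa [Subgroup.map_top_of_surjective _ f₂.rangeRestrict_surjective] at this
      have hssK : SSReach (⊤ : Subgroup k₂.range) := by
        have := hK.map k₂.rangeRestrict k₂.rangeRestrict_surjective
        rwa [Subgroup.map_top_of_surjective _ k₂.rangeRestrict_surjective] at this
      have hcardM : Nat.card M = Nat.card (M ⧸ Q.subgroupOf M) * Nat.card (P₁ : Subgroup H) := by
        rw [Subgroup.card_eq_card_quotient_mul_card_subgroup (Q.subgroupOf M),
          Nat.card_congr (Subgroup.subgroupOfEquivOfLe hQM).toEquiv, hQcard, ← hPQ₁]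
      have hP₁big : 2 ≤ Nat.card (P₁ : Subgroup H) := by
        have hdvd : p ∣ Nat.card (P₁ : Subgroup H) := by
          rw [P₁.card_eq_multiplicity]
          have hfac : 0 < (Nat.card H).factorization p :=
            hp.factorization_pos_of_dvd Nat.card_pos.ne' hpH
          exact dvd_pow_self p hfac.ne'
        have := Nat.le_of_dvd Nat.card_pos hdvd
        have := hp.two_le
        omega
      have hlt : Nat.card (M ⧸ Q.subgroupOf M) < n := by
        have h2 : Nat.card M ≤ Nat.card G := Nat.le_of_dvd Nat.card_pos (Subgroup.card_subgroup_dvd_card M)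
        rw [hcardM, hn] at h2
        have : 0 < Nat.card (M ⧸ Q.subgroupOf M) := Nat.card_pos
        nlinarith
      have hHallbar : (Nat.card f₂.range).Coprime f₂.range.index := by
        have hd1 : Nat.card f₂.range ∣ Nat.card H := Dvd.intro_left _ hcardHbar
        have hd2 : f₂.range.index ∣ H.index := by
          have e1 := Subgroup.card_mul_index f₂.range
          have e2 := Subgroup.card_mul_index H
          have e3 : Nat.card M ∣ Nat.card G := Subgroup.card_subgroup_dvd_card M
          rw [hcardM, ← e1, ← e2] at e3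
          have e4 : Nat.card ↥f₂.range * f₂.range.index * Nat.card (P₁ : Subgroup H) = f₂.range.index * Nat.card H := by
            rw [← hcardHbar]; ring
          rw [e4, mul_comm (Nat.card H)] at e3
          exact Nat.dvd_of_mul_dvd_mul_right Nat.card_pos e3
        exact Nat.Coprime.coprime_dvd_left hd1 (Nat.Coprime.coprime_dvd_right hd2 hHall)
      obtain ⟨xbar, hxbar⟩ := ih _ hlt (M ⧸ Q.subgroupOf M) rfl f₂.range k₂.range hssH hssK hbar hHallbar
      obtain ⟨m, rfl⟩ := QuotientGroup.mk'_surjective (Q.subgroupOf M) xbar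
      refine ⟨(m : G) * g, ?_⟩
      apply Subgroup.eq_of_le_of_card_ge
      · intro y hy
        rw [Lib.Lead.Subnormal.mem_conj_smul] at hy
        set h : H := ⟨((m : G) * g)⁻¹ * y * ((m : G) * g), hy⟩ with hh
        have hy' : y = ((m * f₁ h * m⁻¹ : M) : G) := by
          simp only [Subgroup.coe_mul, Subgroup.coe_inv, hf₁, hh]
          group
        have hmem : (QuotientGroup.mk' (Q.subgroupOf M)) (m * f₁ h * m⁻¹) ∈
            MulAut.conj ((QuotientGroup.mk' (Q.subgroupOf M)) m) • f₂.range := by
          rw [map_mul, map_mul, map_inv]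
          exact Lib.Lead.Subnormal.conj_mem_conj_smul _ _ _ ⟨h, rfl⟩
        rw [hxbar] at hmem
        obtain ⟨k, hk⟩ := hmem
        have hk' : (QuotientGroup.mk' (Q.subgroupOf M)) (k₁ k) = (QuotientGroup.mk' (Q.subgroupOf M)) (m * f₁ h * m⁻¹) := hk
        rw [QuotientGroup.mk'_apply, QuotientGroup.mk'_apply, QuotientGroup.eq, Subgroup.mem_subgroupOf] at hk'
        have hkQ : ((k₁ k : M) : G)⁻¹ * y ∈ Q := by
          rw [hy']
          simpa using hk'
        rw [hk₁] at hkQ
        have : y = (k : G) * ((k : G)⁻¹ * y) := by group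
        rw [this]
        exact K.mul_mem k.2 (hQK hkQ)
      · rw [Lib.Lead.Subnormal.card_conj_smul, hcard]

end Cfsg.Agent.H1
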