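import Mathlib
import Cfsg.Prelude.Def_SolvableStructure
import Cfsg.Agent.S0524
import Cfsg.Agent.H1.SupersolvableHall

/-! S3998: a finite group with the same order type as a supersolvable group is solvable (helper1). -/

set_option autoImplicit false
open Cfsg

namespace Cfsg.Agent.H1.OT

universe u v

/-- Piece A: in a finite supersolvable group the Sylow subgroup for the largest prime is normal. -/
theorem ot_ss_sylow_normal {G : Type u} [Group G] [Finite G] (hG : Cfsg.IsSupersolvable G)
    (p : ℕ) [Fact p.Prime] (hpd : p ∣ Nat.card G)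
    (hp : ∀ q : ℕ, q.Prime → q ∣ Nat.card G → q ≤ p) (P : Sylow p G) :
    (P : Subgroup G).Normal :=
  Cfsg.Agent.H1.normal_sylow_maxPrime _ G rfl (Cfsg.Agent.H1.isSupersolvable_iff_reach.mp hG) p hpd hp P

theorem ot_mem_sylow_of_normal {G : Type u} [Group G] [Finite G] (p : ℕ) [Fact p.Prime] (P : Sylow p G)
    [hP : (P : Subgroup G).Normal] (x : G) (k : ℕ) (hx : orderOf x = p ^ k) : x ∈ (P : Subgroup G) := by
  have hpg : IsPGroup p (Subgroup.zpowers x) := by
    apply IsPGroup.of_card (n := k)
    rw [Nat.card_zpowers, hx]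
  obtain ⟨Q, hQ⟩ := hpg.exists_le_sylow
  obtain ⟨g, hg⟩ := MulAction.exists_smul_eq G P Q
  rw [Sylow.smul_eq_of_normal] at hg
  subst hg
  exact hQ (Subgroup.mem_zpowers x)

/-- Piece D1: modulo a normal Sylow `p`-subgroup, the order of the image of `g` is the `p'`-part
of the order of `g`. -/
theorem ot_orderOf_mk {G : Type u} [Group G] [Finite G] (p : ℕ) [Fact p.Prime] (P : Sylow p G)
    [hP : (P : Subgroup G).Normal] (g : G) :
    orderOf (QuotientGroup.mk g : G ⧸ (P : Subgroup G)) = ordCompl[p] (orderOf g) := by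
  have hpp : p.Prime := Fact.out
  have hn : 0 < orderOf g := orderOf_pos g
  have hmul := Nat.ordProj_mul_ordCompl_eq_self (orderOf g) p
  set m := ordCompl[p] (orderOf g) with hm
  have hmpos : 0 < m := Nat.ordCompl_pos p hn.ne'
  apply Nat.dvd_antisymm
  · apply orderOf_dvd_of_pow_eq_one
    rw [← QuotientGroup.mk_pow, QuotientGroup.eq_one_iff]
    apply ot_mem_sylow_of_normal p P _ ((orderOf g).factorization p)
    rw [orderOf_pow, Nat.gcd_eq_right (Nat.ordCompl_dvd _ _)]
    exact Nat.div_eq_of_eq_mul_left hmpos hmul.symm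
  · set d := orderOf (QuotientGroup.mk g : G ⧸ (P : Subgroup G)) with hd
    have h1 : g ^ d ∈ (P : Subgroup G) := by
      rw [← QuotientGroup.eq_one_iff, QuotientGroup.mk_pow, hd, pow_orderOf_eq_one]
    obtain ⟨j, hj⟩ := (P.isPGroup') ⟨g ^ d, h1⟩
    have h2 : g ^ (d * p ^ j) = 1 := by
      rw [pow_mul]
      have := congrArg Subtype.val hj
      simpa using this
    have h3 : orderOf g ∣ d * p ^ j := orderOf_dvd_of_pow_eq_one h2
    have h4 : m ∣ d * p ^ j := (Nat.ordCompl_dvd _ _).trans h3
    have hcop : Nat.Coprime m (p ^ j) := by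
      apply Nat.Coprime.pow_right
      exact (Nat.coprime_ordCompl hpp hn.ne').symm
    exact hcop.dvd_of_dvd_mul_right h4

theorem ot_orderOf_of_mem_sylow {G : Type u} [Group G] (p : ℕ) [Fact p.Prime] (P : Sylow p G)
    (x : G) (hx : x ∈ (P : Subgroup G)) : ∃ k : ℕ, orderOf x = p ^ k := by
  obtain ⟨k, hk⟩ := (IsPGroup.iff_orderOf.mp P.isPGroup') ⟨x, hx⟩
  exact ⟨k, by simpa using hk⟩

/-- Piece C: a normal Sylow `p`-subgroup transfers along an order-preserving bijection. -/
theorem ot_sylow_normal_transfer {G : Type u} {H : Type v} [Group G] [Finite G] [Group H] [Finite H]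
    (φ : G ≃ H) (hφ : ∀ g : G, orderOf (φ g) = orderOf g)
    (p : ℕ) [Fact p.Prime] (P : Sylow p G) (hP : (P : Subgroup G).Normal) (Q : Sylow p H) :
    (Q : Subgroup H).Normal := by
  classical
  have hcard : Nat.card G = Nat.card H := Nat.card_congr φ
  let SG : Set G := {g | ∃ k : ℕ, orderOf g = p ^ k}
  let SH : Set H := {h | ∃ k : ℕ, orderOf h = p ^ k}
  have hSG : SG = ((P : Subgroup G) : Set G) := by
    ext x; constructor
    · rintro ⟨k, hk⟩; exact ot_mem_sylow_of_normal p P x k hk
    · intro hx
      exact ot_orderOf_of_mem_sylow p P x hx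
  have h1 : Nat.card SH = Nat.card SG := by
    refine (Nat.card_congr (φ.subtypeEquiv (fun g => ?_))).symm
    show (∃ k : ℕ, orderOf g = p ^ k) ↔ (∃ k : ℕ, orderOf (φ g) = p ^ k)
    rw [hφ]
  have h2 : Nat.card SG = Nat.card (P : Subgroup G) := by rw [hSG]; rfl
  have h3 : Nat.card (P : Subgroup G) = Nat.card (Q : Subgroup H) := by
    rw [Sylow.card_eq_multiplicity, Sylow.card_eq_multiplicity, hcard]
  have hsub : ((Q : Subgroup H) : Set H) ⊆ SH := fun x hx => ot_orderOf_of_mem_sylow p Q x hx
  have heq : ((Q : Subgroup H) : Set H) = SH := by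
    apply Set.eq_of_subset_of_ncard_le hsub _ (Set.toFinite _)
    rw [← Nat.card_coe_set_eq, ← Nat.card_coe_set_eq, h1, h2, h3]; rfl
  constructor
  intro n hn h
  have hmem : h * n * h⁻¹ ∈ SH := by
    obtain ⟨k, hk⟩ := hsub hn
    refine ⟨k, ?_⟩
    have := (MulAut.conj h).orderOf_eq n
    rw [MulAut.conj_apply] at this
    rw [this, hk]
  rw [← heq] at hmem
  exact hmem

/-- Piece B: same order type gives an order-preserving bijection. -/
theorem ot_exists_equiv {G : Type u} {H : Type v} [Group G] [Finite G] [Group H] [Finite H]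
    (hT : ∀ m : ℕ, Nat.card {g : G // orderOf g = m} = Nat.card {h : H // orderOf h = m}) :
    ∃ φ : G ≃ H, ∀ g : G, orderOf (φ g) = orderOf g := by
  have e : ∀ m : ℕ, {g : G // orderOf g = m} ≃ {h : H // orderOf h = m} :=
    fun m => (Finite.card_eq.mp (hT m)).some
  refine ⟨(Equiv.sigmaFiberEquiv (orderOf : G → ℕ)).symm.trans
    ((Equiv.sigmaCongrRight e).trans (Equiv.sigmaFiberEquiv (orderOf : H → ℕ))), ?_⟩
  intro g
  exact ((e (orderOf g)) ⟨g, rfl⟩).2

/-- Piece D2: counting along the fibres of the quotient map. -/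
theorem ot_card_fiber {G : Type u} [Group G] [Finite G] (N : Subgroup G) [N.Normal] (m : ℕ) :
    Nat.card {g : G // orderOf (QuotientGroup.mk g : G ⧸ N) = m}
      = Nat.card N * Nat.card {x : G ⧸ N // orderOf x = m} := by
  have := QuotientGroup.card_preimage_mk N {x : G ⧸ N | orderOf x = m}
  exact this

/-- Piece D: the quotients by the normal Sylow subgroups have the same order type. -/
theorem ot_quotient {G : Type u} {H : Type v} [Group G] [Finite G] [Group H] [Finite H]
    (φ : G ≃ H) (hφ : ∀ g : G, orderOf (φ g) = orderOf g)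
    (p : ℕ) [Fact p.Prime] (P : Sylow p G) [hP : (P : Subgroup G).Normal] (Q : Sylow p H)
    [hQ : (Q : Subgroup H).Normal] (m : ℕ) :
    Nat.card {x : G ⧸ (P : Subgroup G) // orderOf x = m}
      = Nat.card {y : H ⧸ (Q : Subgroup H) // orderOf y = m} := by
  have hcard : Nat.card G = Nat.card H := Nat.card_congr φ
  have hPQ : Nat.card (P : Subgroup G) = Nat.card (Q : Subgroup H) := by
    rw [Sylow.card_eq_multiplicity, Sylow.card_eq_multiplicity, hcard]
  have hpos : 0 < Nat.card (P : Subgroup G) := Nat.card_pos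
  have h1 := ot_card_fiber (P : Subgroup G) m
  have h2 := ot_card_fiber (Q : Subgroup H) m
  have h3 : Nat.card {g : G // orderOf (QuotientGroup.mk g : G ⧸ (P : Subgroup G)) = m}
      = Nat.card {h : H // orderOf (QuotientGroup.mk h : H ⧸ (Q : Subgroup H)) = m} := by
    refine Nat.card_congr (φ.subtypeEquiv ?_)
    intro g
    rw [ot_orderOf_mk, ot_orderOf_mk, hφ]
  rw [h1, h2, hPQ] at h3
  exact Nat.eq_of_mul_eq_mul_left (hPQ ▸ hpos) h3

theorem ot_main : ∀ n : ℕ, ∀ (G : Type u) (H : Type v) [Group G] [Finite G] [Group H] [Finite H],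
    Nat.card G = n → Cfsg.IsSupersolvable G →
    (∀ m : ℕ, Nat.card {g : G // orderOf g = m} = Nat.card {h : H // orderOf h = m}) →
    Group.IsSolvable H := by
  intro n
  induction n using Nat.strong_induction_on with
  | _ n ih =>
    intro G H _ _ _ _ hn hG hT
    obtain ⟨φ, hφ⟩ := ot_exists_equiv hT
    have hcard : Nat.card G = Nat.card H := Nat.card_congr φ
    by_cases h1 : Nat.card G = 1
    · have : Subsingleton H := (Nat.card_eq_one_iff_unique.mp (hcard ▸ h1)).1
      exact Group.isSolvable_of_top_eq_bot H (Subsingleton.elim _ _)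
    · -- largest prime divisor
      have hne : (Nat.card G).primeFactors.Nonempty := by
        rw [Nat.nonempty_primeFactors]
        have : 0 < Nat.card G := Nat.card_pos
        omega
      set p := (Nat.card G).primeFactors.max' hne with hpdef
      have hpmem : p ∈ (Nat.card G).primeFactors := Finset.max'_mem _ hne
      have hpp : p.Prime := Nat.prime_of_mem_primeFactors hpmem
      have hpd : p ∣ Nat.card G := Nat.dvd_of_mem_primeFactors hpmem
      haveI : Fact p.Prime := ⟨hpp⟩
      have hmax : ∀ q : ℕ, q.Prime → q ∣ Nat.card G → q ≤ p := by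
        intro q hq hqd
        apply Finset.le_max'
        rw [Nat.mem_primeFactors]
        exact ⟨hq, hqd, Nat.card_pos.ne'⟩
      let P : Sylow p G := default
      let Q : Sylow p H := default
      haveI hPn : (P : Subgroup G).Normal := ot_ss_sylow_normal hG p hpd hmax P
      haveI hQn : (Q : Subgroup H).Normal := ot_sylow_normal_transfer φ hφ p P hPn Q
      have hquot : ∀ m : ℕ, Nat.card {x : G ⧸ (P : Subgroup G) // orderOf x = m}
          = Nat.card {y : H ⧸ (Q : Subgroup H) // orderOf y = m} := ot_quotient φ hφ p P Q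
      have hss : Cfsg.IsSupersolvable (G ⧸ (P : Subgroup G)) :=
        (Cfsg.Agent.S0524.result hG ⊥ (P : Subgroup G)).2
      have hPcard : 1 < Nat.card (P : Subgroup G) := by
        rw [Sylow.card_eq_multiplicity]
        apply Nat.one_lt_pow _ hpp.one_lt
        have := (Nat.card G).factorization_def hpp
        have h2 : 0 < (Nat.card G).factorization p :=
          hpp.factorization_pos_of_dvd Nat.card_pos.ne' hpd
        omega
      have hlt : Nat.card (G ⧸ (P : Subgroup G)) < n := by
        rw [← hn, ← Subgroup.index_eq_card]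
        have := Subgroup.card_mul_index (P : Subgroup G)
        have hi : 0 < (P : Subgroup G).index := Nat.pos_of_ne_zero Subgroup.index_ne_zero_of_finite
        nlinarith
      have hsolq : Group.IsSolvable (H ⧸ (Q : Subgroup H)) :=
        ih _ hlt (G ⧸ (P : Subgroup G)) (H ⧸ (Q : Subgroup H)) rfl hss hquot
      have hsolQ : Group.IsSolvable (Q : Subgroup H) := by
        haveI : Group.IsNilpotent (Q : Subgroup H) := (Q.isPGroup').isNilpotent
        exact IsNilpotent.to_isSolvable
      exact Group.isSolvable_of_ker_le_range (Q : Subgroup H).subtype (QuotientGroup.mk' (Q : Subgroup H))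
        (by rw [QuotientGroup.ker_mk']; intro x hx; exact ⟨⟨x, hx⟩, rfl⟩)

theorem ot_result {G : Type u} {H : Type v} [Group G] [Finite G] [Group H] [Finite H]
    (hT : ∀ m : ℕ, Nat.card {g : G // orderOf g = m} = Nat.card {h : H // orderOf h = m})
    (hG : Cfsg.IsSupersolvable G) : Group.IsSolvable H :=
  ot_main _ G H rfl hG hT

end Cfsg.Agent.H1.OT
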