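import Mathlib
import Cfsg.Agent.H1.FpfThreeClass

set_option autoImplicit false

namespace Cfsg.Agent.H1.S3Act

open scoped commutatorElement

universe u

/-- abelian case -/
theorem sq_eq_one_of_abelian {X : Type*} [Group X] (A : Subgroup X) (a t : X)
    (hnt : ∀ f ∈ A, t * f * t⁻¹ ∈ A) (hna : ∀ f ∈ A, a * f * a⁻¹ ∈ A)
    (hna' : ∀ f ∈ A, a⁻¹ * f * a ∈ A)
    (hab : ∀ x ∈ A, ∀ y ∈ A, x * y = y * x) (h4 : ∀ f ∈ A, f ^ 4 = 1) (ha3 : a ^ 3 = 1)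
    (ht2 : t ^ 2 = 1) (hta : t * a * t⁻¹ = a⁻¹) (hfpf : ∀ f ∈ A, a * f * a⁻¹ = f → f = 1)
    (hX : ∀ f ∈ A, (t * f) ^ 4 = 1 ∧ (a * t * a⁻¹ * f) ^ 4 = 1) : ∀ f ∈ A, f ^ 2 = 1 := by
  -- an involution `s` with `(s f)^4 = 1` for all `f ∈ A` centralizes squares
  have key : ∀ s : X, s ^ 2 = 1 → (∀ f ∈ A, s * f * s⁻¹ ∈ A) → (∀ f ∈ A, (s * f) ^ 4 = 1) →
      ∀ f ∈ A, s * f ^ 2 * s⁻¹ = f ^ 2 := by
    intro s hs2 hsA hs f hf
    have hsinv : s⁻¹ = s := by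
      calc s⁻¹ = s⁻¹ * s ^ 2 := by rw [hs2, mul_one]
        _ = s := by group
    have hg : s * f * s⁻¹ ∈ A := hsA f hf
    have h1 : (s * f) ^ 2 = (s * f * s⁻¹) * f := by
      rw [pow_two]
      nth_rewrite 2 [← hsinv]
      group
    have h2 : ((s * f * s⁻¹) * f) ^ 2 = 1 := by
      rw [← h1, ← pow_mul]; exact hs f hf
    have h3 : ((s * f * s⁻¹) * f) ^ 2 = (s * f * s⁻¹) ^ 2 * f ^ 2 := by
      have hc : Commute (s * f * s⁻¹) f := hab _ hg _ hf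
      exact hc.mul_pow 2
    rw [h3] at h2
    have h4' : (s * f * s⁻¹) ^ 2 = s * f ^ 2 * s⁻¹ := by rw [conj_pow]
    rw [h4'] at h2
    have h5 : f ^ 2 * f ^ 2 = 1 := by rw [← pow_add]; exact h4 f hf
    calc s * f ^ 2 * s⁻¹ = (s * f ^ 2 * s⁻¹ * f ^ 2) * f ^ 2 * (f ^ 2 * f ^ 2)⁻¹ := by group
      _ = f ^ 2 := by rw [h2, h5]; group
  intro f hf
  have k1 := key t ht2 hnt (fun f hf => (hX f hf).1) f hf
  have ht'2 : (a * t * a⁻¹) ^ 2 = 1 := by rw [conj_pow, ht2]; group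
  have hn' : ∀ f ∈ A, (a * t * a⁻¹) * f * (a * t * a⁻¹)⁻¹ ∈ A := by
    intro f hf
    have h1 := hna _ (hnt _ (hna' f hf))
    have e : (a * t * a⁻¹) * f * (a * t * a⁻¹)⁻¹ = a * (t * (a⁻¹ * f * a) * t⁻¹) * a⁻¹ := by group
    rw [e]; exact h1
  have k2 := key (a * t * a⁻¹) ht'2 hn' (fun f hf => (hX f hf).2) f hf
  apply hfpf _ (A.pow_mem hf 2)
  -- `a = (t' t)^2`-type relation: `t' * t = a * a`
  have htinv : t⁻¹ = t := by
    calc t⁻¹ = t⁻¹ * t ^ 2 := by rw [ht2, mul_one]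
      _ = t := by group
  have htt : t * t = 1 := by rw [← pow_two]; exact ht2
  have h6 : (a * t * a⁻¹) * t = a * a := by
    have : t * a⁻¹ * t⁻¹ = a := by
      calc t * a⁻¹ * t⁻¹ = (t * a * t⁻¹)⁻¹ := by group
        _ = a := by rw [hta, inv_inv]
    calc (a * t * a⁻¹) * t = a * (t * a⁻¹ * t⁻¹) * (t * t) := by group
      _ = a * a := by rw [this, htt, mul_one]
  obtain ⟨g, hg⟩ : ∃ g : X, g = f ^ 2 := ⟨_, rfl⟩
  rw [← hg] at k1 k2 ⊢
  have h7 : (a * a) * g * (a * a)⁻¹ = g := by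
    rw [← h6]
    calc (a * t * a⁻¹) * t * g * ((a * t * a⁻¹) * t)⁻¹
        = (a * t * a⁻¹) * (t * g * t⁻¹) * (a * t * a⁻¹)⁻¹ := by group
      _ = g := by rw [k1, k2]
  have haaa : a * a * a = 1 := by
    have : a ^ 3 = a * a * a := by simp [pow_succ]
    rw [← this]; exact ha3
  have h8 : a * g * a⁻¹ = (a * a) * ((a * a) * g * (a * a)⁻¹) * (a * a)⁻¹ := by
    have e1 : (a * a) * ((a * a) * g * (a * a)⁻¹) * (a * a)⁻¹
        = (a * a * a) * (a * g * a⁻¹) * (a * a * a)⁻¹ := by group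
    rw [e1, haaa]; group
  rw [h8, h7, h7]

section main
variable {G : Type u} [Group G] [Finite G] (Q : Subgroup G) [hQn : Q.Normal]
  (a t : G)

/-- basic consequences of the fixed-point-free action of `a` on `Q` -/
theorem basic (hQ : IsPGroup 2 Q) (ha3 : a ^ 3 = 1) (hfpf : ∀ x ∈ Q, a * x * a⁻¹ = x → x = 1) :
    (∀ x ∈ Q, ∀ y ∈ Q, ∀ z ∈ Q, ⁅⁅x, y⁆, z⁆ = 1) ∧
    (∀ x ∈ Q, x * (a * x * a⁻¹) * (a * (a * x * a⁻¹) * a⁻¹) = 1) ∧
    (∀ x ∈ Q, x * (a * x * a⁻¹) = (a * x * a⁻¹) * x) := by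
  haveI : Fact (Nat.Prime 2) := ⟨Nat.prime_two⟩
  obtain ⟨σ, hσdef⟩ : ∃ σ : MulAut ↥Q, σ = MulAut.conjNormal a := ⟨_, rfl⟩
  have hσapp : ∀ x : ↥Q, ((σ x : ↥Q) : G) = a * x * a⁻¹ := by
    intro x; rw [hσdef, MulAut.conjNormal_apply]
  have hσ : σ ^ 3 = 1 := by rw [hσdef, ← map_pow, ha3, map_one]
  have hσf : ∀ x : ↥Q, σ x = x → x = 1 := by
    intro x hx
    have h1 : a * (x : G) * a⁻¹ = x := by rw [← hσapp, hx]
    exact Subtype.ext (hfpf x x.2 h1)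
  obtain ⟨hcl, -⟩ := Cfsg.Agent.H1.FpfThree.nilpotencyClass_le_two 2 (by norm_num) hQ σ hσ hσf
  refine ⟨?_, ?_, ?_⟩
  · intro x hx y hy z hz
    have := congrArg Subtype.val (hcl ⟨x, hx⟩ ⟨y, hy⟩ ⟨z, hz⟩)
    simpa [commutatorElement_def] using this
  · intro x hx
    have := congrArg Subtype.val (Cfsg.Agent.H1.FpfThree.split3 σ hσ hσf ⟨x, hx⟩)
    simp only [Subgroup.coe_mul, hσapp, Subgroup.coe_one] at this
    exact this
  · intro x hx
    have h1 := Cfsg.Agent.H1.FpfThree.commute_twist σ hσ hσf ⟨x, hx⟩ 1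
    have h2 := congrArg Subtype.val h1.eq
    simp only [one_mul, inv_one, mul_one, Subgroup.coe_mul, hσapp] at h2
    exact h2

/-- hypotheses -/
structure Hyp (Q : Subgroup G) (a : G) : Prop where
  two : IsPGroup 2 Q
  a3 : a ^ 3 = 1
  fpf : ∀ x ∈ Q, a * x * a⁻¹ = x → x = 1
  q4 : ∀ f ∈ Q, f ^ 4 = 1
  s4 : ∀ s : G, s ^ 2 = 1 → s * a * s⁻¹ = a⁻¹ → ∀ f ∈ Q, (s * f) ^ 4 = 1

variable {Q a}

theorem Hyp.aaa (h : Hyp Q a) : a * a * a = 1 := by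
  have : a ^ 3 = a * a * a := by simp [pow_succ]
  rw [← this]; exact h.a3

theorem Hyp.ainv (h : Hyp Q a) : a⁻¹ = a * a := by
  calc a⁻¹ = a⁻¹ * (a * a * a) := by rw [h.aaa, mul_one]
    _ = a * a := by group

include hQn in
theorem Hyp.central (h : Hyp Q a) : ∀ z ∈ ⁅Q, Q⁆, ∀ x ∈ Q, z * x = x * z := by
  obtain ⟨hcl, -, -⟩ := basic Q a h.two h.a3 h.fpf
  have hle : ⁅Q, Q⁆ ≤ Subgroup.centralizer (Q : Set G) := by
    rw [Subgroup.commutator_le]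
    intro x hx y hy
    rw [Subgroup.mem_centralizer_iff]
    intro w hw
    have := hcl x hx y hy w hw
    rw [commutatorElement_def] at this
    calc w * ⁅x, y⁆ = (⁅x, y⁆ * w * ⁅x, y⁆⁻¹ * w⁻¹)⁻¹ * (⁅x, y⁆ * w) := by group
      _ = ⁅x, y⁆ * w := by rw [this, inv_one, one_mul]
  intro z hz x hx
  exact ((Subgroup.mem_centralizer_iff.mp (hle hz)) x hx).symm

include hQn in
theorem Hyp.comm_mem (h : Hyp Q a) {x y : G} (hx : x ∈ Q) (hy : y ∈ Q) : ⁅x, y⁆ ∈ ⁅Q, Q⁆ :=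
  Subgroup.commutator_mem_commutator hx hy

include hQn in
theorem Hyp.Z_le (h : Hyp Q a) : ⁅Q, Q⁆ ≤ Q :=
  (Subgroup.commutator_le_inf Q Q).trans inf_le_left

/-- claim (i): elements of `Q` centralized by the involution `s` modulo `Q'` are involutions -/
theorem Hyp.claim_i (h : Hyp Q a) (s : G) (hs2 : s ^ 2 = 1) (hsa : s * a * s⁻¹ = a⁻¹)
    (g : G) (hg : g ∈ Q) (hgs : s * g * s⁻¹ * g⁻¹ ∈ ⁅Q, Q⁆) : g ^ 2 = 1 := by
  obtain ⟨-, hsplit, hcomm⟩ := basic Q a h.two h.a3 h.fpf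
  haveI hZn : (⁅Q, Q⁆ : Subgroup G).Normal := Subgroup.commutator_normal Q Q
  obtain ⟨g', hg'⟩ : ∃ g' : G, g' = a * g * a⁻¹ := ⟨_, rfl⟩
  have hg'Q : g' ∈ Q := by rw [hg']; exact hQn.conj_mem g hg a
  obtain ⟨B, hB⟩ : ∃ B : Subgroup G, B = Subgroup.closure (insert g (insert g' ((⁅Q, Q⁆ : Subgroup G) : Set G))) :=
    ⟨_, rfl⟩
  have hgB : g ∈ B := by rw [hB]; exact Subgroup.subset_closure (Set.mem_insert _ _)
  have hg'B : g' ∈ B := by
    rw [hB]; exact Subgroup.subset_closure (Set.mem_insert_of_mem _ (Set.mem_insert _ _))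
  have hZB : ∀ z ∈ ⁅Q, Q⁆, z ∈ B := by
    intro z hz
    rw [hB]
    exact Subgroup.subset_closure (Set.mem_insert_of_mem _ (Set.mem_insert_of_mem _ hz))
  have hBQ : B ≤ Q := by
    rw [hB, Subgroup.closure_le]
    intro x hx
    rcases hx with rfl | rfl | hx
    · exact hg
    · exact hg'Q
    · exact h.Z_le hx
  -- `g''`
  have hgg : g * g' = g' * g := by rw [hg']; exact hcomm g hg
  have hspl : g * g' * (a * g' * a⁻¹) = 1 := by rw [hg']; exact hsplit g hg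
  have hg'' : a * g' * a⁻¹ = (g * g')⁻¹ := by
    calc a * g' * a⁻¹ = (g * g')⁻¹ * (g * g' * (a * g' * a⁻¹)) := by group
      _ = (g * g')⁻¹ := by rw [hspl, mul_one]
  -- invariance under a conjugation sending generators into `B`
  have hinv : ∀ c : G, c * g * c⁻¹ ∈ B → c * g' * c⁻¹ ∈ B → ∀ x ∈ B, c * x * c⁻¹ ∈ B := by
    intro c h1 h2 x hx
    have hle : B ≤ B.comap (MulAut.conj c).toMonoidHom := by
      nth_rewrite 1 [hB]
      rw [Subgroup.closure_le]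
      intro y hy
      rw [SetLike.mem_coe, Subgroup.mem_comap]
      show c * y * c⁻¹ ∈ B
      rcases hy with rfl | rfl | hy
      · exact h1
      · exact h2
      · exact hZB _ (hZn.conj_mem y hy c)
    exact hle hx
  have hna : ∀ x ∈ B, a * x * a⁻¹ ∈ B := by
    apply hinv a
    · rw [← hg']; exact hg'B
    · rw [hg'']; exact B.inv_mem (B.mul_mem hgB hg'B)
  have hna' : ∀ x ∈ B, a⁻¹ * x * a ∈ B := by
    have := hinv a⁻¹ ?_ ?_
    · intro x hx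
      have := this x hx
      rwa [inv_inv] at this
    · -- `a⁻¹ g a = a g' a⁻¹`
      have e : a⁻¹ * g * a⁻¹⁻¹ = a * g' * a⁻¹ := by
        rw [hg', inv_inv]
        calc a⁻¹ * g * a = (a * a * a)⁻¹ * (a * (a * g * a⁻¹) * a⁻¹) * (a * a * a) := by group
          _ = a * (a * g * a⁻¹) * a⁻¹ := by rw [h.aaa]; group
      rw [e, hg'']; exact B.inv_mem (B.mul_mem hgB hg'B)
    · have e : a⁻¹ * g' * a⁻¹⁻¹ = g := by rw [hg']; group
      rw [e]; exact hgB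
  have hsg : s * g * s⁻¹ ∈ B := by
    have e : s * g * s⁻¹ = (s * g * s⁻¹ * g⁻¹) * g := by group
    rw [e]; exact B.mul_mem (hZB _ hgs) hgB
  have hnt : ∀ x ∈ B, s * x * s⁻¹ ∈ B := by
    apply hinv s hsg
    have e : s * g' * s⁻¹ = a⁻¹ * (s * g * s⁻¹) * a := by
      rw [hg']
      calc s * (a * g * a⁻¹) * s⁻¹ = (s * a * s⁻¹) * (s * g * s⁻¹) * (s * a * s⁻¹)⁻¹ := by group
        _ = a⁻¹ * (s * g * s⁻¹) * a := by rw [hsa, inv_inv]
    rw [e]; exact hna' _ hsg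
  -- `B` is abelian
  have hab : ∀ x ∈ B, ∀ y ∈ B, x * y = y * x := by
    have hgen : ∀ x ∈ insert g (insert g' ((⁅Q, Q⁆ : Subgroup G) : Set G)),
        ∀ y ∈ insert g (insert g' ((⁅Q, Q⁆ : Subgroup G) : Set G)), x * y = y * x := by
      intro x hx y hy
      rcases hx with rfl | rfl | hx
      · rcases hy with rfl | rfl | hy
        · rfl
        · exact hgg
        · exact (h.central y hy x hg).symm
      · rcases hy with rfl | rfl | hy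
        · exact hgg.symm
        · rfl
        · exact (h.central y hy x hg'Q).symm
      · have hxc := h.central x hx
        rcases hy with rfl | rfl | hy
        · exact hxc y hg
        · exact hxc y hg'Q
        · exact hxc y (h.Z_le hy)
    have h1 : B ≤ Subgroup.centralizer (insert g (insert g' ((⁅Q, Q⁆ : Subgroup G) : Set G))) := by
      nth_rewrite 1 [hB]
      rw [Subgroup.closure_le]
      intro x hx
      rw [SetLike.mem_coe, Subgroup.mem_centralizer_iff]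
      intro y hy
      exact hgen y hy x hx
    have h2 : B ≤ Subgroup.centralizer (B : Set G) := by
      nth_rewrite 1 [hB]
      rw [Subgroup.closure_le]
      intro x hx
      rw [SetLike.mem_coe, Subgroup.mem_centralizer_iff]
      intro y hy
      exact ((Subgroup.mem_centralizer_iff.mp (h1 hy)) x hx).symm
    intro x hx y hy
    exact ((Subgroup.mem_centralizer_iff.mp (h2 hy)) x hx)
  have ht'2 : (a * s * a⁻¹) ^ 2 = 1 := by rw [conj_pow, hs2]; group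
  have hs'a : (a * s * a⁻¹) * a * (a * s * a⁻¹)⁻¹ = a⁻¹ := by
    calc (a * s * a⁻¹) * a * (a * s * a⁻¹)⁻¹ = a * (s * a * s⁻¹) * a⁻¹ := by group
      _ = a⁻¹ := by rw [hsa]; group
  exact sq_eq_one_of_abelian B a s hnt hna hna' hab (fun f hf => h.q4 f (hBQ hf)) h.a3 hs2 hsa
    (fun f hf hfix => h.fpf f (hBQ hf) hfix)
    (fun f hf => ⟨h.s4 s hs2 hsa f (hBQ hf), h.s4 _ ht'2 hs'a f (hBQ hf)⟩) g hgB

include hQn in
theorem Hyp.D_mul (h : Hyp Q a) (s g e : G) (hg : s * g * s⁻¹ * g⁻¹ ∈ ⁅Q, Q⁆)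
    (he : s * e * s⁻¹ * e⁻¹ ∈ ⁅Q, Q⁆) : s * (g * e) * s⁻¹ * (g * e)⁻¹ ∈ ⁅Q, Q⁆ := by
  haveI hZn : (⁅Q, Q⁆ : Subgroup G).Normal := Subgroup.commutator_normal Q Q
  have e1 : s * (g * e) * s⁻¹ * (g * e)⁻¹ = (s * g * s⁻¹ * g⁻¹) * (g * (s * e * s⁻¹ * e⁻¹) * g⁻¹) := by
    group
  rw [e1]
  exact Subgroup.mul_mem _ hg (hZn.conj_mem _ he g)

/-- claim (iii) -/
theorem Hyp.claim_iii (h : Hyp Q a) (s : G) (hs2 : s ^ 2 = 1) (hsa : s * a * s⁻¹ = a⁻¹)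
    (d e : G) (hd : d ∈ Q) (he : e ∈ Q) (hds : s * d * s⁻¹ * d⁻¹ ∈ ⁅Q, Q⁆)
    (hes : s * e * s⁻¹ * e⁻¹ ∈ ⁅Q, Q⁆) : d * (a * e * a⁻¹) = (a * e * a⁻¹) * d := by
  obtain ⟨-, hsplit, hcomm⟩ := basic Q a h.two h.a3 h.fpf
  have hd2 : d ^ 2 = 1 := h.claim_i s hs2 hsa d hd hds
  have he2 : e ^ 2 = 1 := h.claim_i s hs2 hsa e he hes
  have hde2 : (d * e) ^ 2 = 1 :=
    h.claim_i s hs2 hsa (d * e) (Q.mul_mem hd he) (h.D_mul s d e hds hes)
  have hdd : d * d = 1 := by rw [← pow_two]; exact hd2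
  have hee : e * e = 1 := by rw [← pow_two]; exact he2
  have hdede : d * e * (d * e) = 1 := by rw [← pow_two]; exact hde2
  have hdi : d⁻¹ = d := inv_eq_of_mul_eq_one_right hdd
  have hei : e⁻¹ = e := inv_eq_of_mul_eq_one_right hee
  have hde : d * e = e * d := by
    calc d * e = (d * e)⁻¹ := (inv_eq_of_mul_eq_one_right hdede).symm
      _ = e⁻¹ * d⁻¹ := by group
      _ = e * d := by rw [hdi, hei]
  obtain ⟨d', hd'⟩ : ∃ d' : G, d' = a * d * a⁻¹ := ⟨_, rfl⟩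
  obtain ⟨e', he'⟩ : ∃ e' : G, e' = a * e * a⁻¹ := ⟨_, rfl⟩
  have hd'Q : d' ∈ Q := by rw [hd']; exact hQn.conj_mem d hd a
  have he'Q : e' ∈ Q := by rw [he']; exact hQn.conj_mem e he a
  have hdd' : d * d' = d' * d := by rw [hd']; exact hcomm d hd
  have hee' : e * e' = e' * e := by rw [he']; exact hcomm e he
  have hbig : (d * e) * (d' * e') = (d' * e') * (d * e) := by
    have := hcomm (d * e) (Q.mul_mem hd he)
    have e1 : a * (d * e) * a⁻¹ = d' * e' := by rw [hd', he']; group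
    rwa [e1] at this
  have hd'e' : d' * e' = e' * d' := by
    rw [hd', he']
    calc a * d * a⁻¹ * (a * e * a⁻¹) = a * (d * e) * a⁻¹ := by group
      _ = a * (e * d) * a⁻¹ := by rw [hde]
      _ = a * e * a⁻¹ * (a * d * a⁻¹) := by group
  have he'e' : e' * e' = 1 := by
    rw [he']
    calc a * e * a⁻¹ * (a * e * a⁻¹) = a * (e * e) * a⁻¹ := by group
      _ = 1 := by rw [hee]; group
  have he'i : e'⁻¹ = e' := inv_eq_of_mul_eq_one_right he'e'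
  obtain ⟨κ, hκ⟩ : ∃ κ : G, κ = ⁅d, e'⁆ := ⟨_, rfl⟩
  obtain ⟨l, hl⟩ : ∃ l : G, l = ⁅e, d'⁆ := ⟨_, rfl⟩
  have hκZ : κ ∈ ⁅Q, Q⁆ := by rw [hκ]; exact h.comm_mem hd he'Q
  have hlZ : l ∈ ⁅Q, Q⁆ := by rw [hl]; exact h.comm_mem he hd'Q
  have hκc := h.central κ hκZ
  have hlc := h.central l hlZ
  have h1 : d * e' = κ * (e' * d) := by rw [hκ, commutatorElement_def]; group
  have h2 : e * d' = l * (d' * e) := by rw [hl, commutatorElement_def]; group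
  -- `l κ = 1`
  have hlk : l * κ = 1 := by
    have h3 : (d * e) * (d' * e') = l * κ * ((d' * e') * (d * e)) := by
      calc (d * e) * (d' * e') = d * (e * d') * e' := by group
        _ = d * (l * (d' * e)) * e' := by rw [h2]
        _ = (d * l) * (d' * e) * e' := by group
        _ = (l * d) * (d' * e) * e' := by rw [hlc d hd]
        _ = l * ((d * d') * (e * e')) := by group
        _ = l * ((d' * d) * (e' * e)) := by rw [hdd', hee']
        _ = l * (d' * (d * e') * e) := by group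
        _ = l * (d' * (κ * (e' * d)) * e) := by rw [h1]
        _ = l * ((d' * κ) * (e' * d) * e) := by group
        _ = l * ((κ * d') * (e' * d) * e) := by rw [hκc d' hd'Q]
        _ = l * κ * ((d' * e') * (d * e)) := by group
    rw [hbig] at h3
    have : (1 : G) * ((d' * e') * (d * e)) = l * κ * ((d' * e') * (d * e)) := by
      rw [one_mul]; exact h3
    exact (mul_right_cancel this).symm
  have hli : l⁻¹ = κ := inv_eq_of_mul_eq_one_right hlk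
  -- `a κ a⁻¹ = κ`
  have hspl : e * e' * (a * e' * a⁻¹) = 1 := by rw [he']; exact hsplit e he
  have he'' : a * e' * a⁻¹ = e' * e := by
    calc a * e' * a⁻¹ = (e * e')⁻¹ * (e * e' * (a * e' * a⁻¹)) := by group
      _ = (e * e')⁻¹ := by rw [hspl, mul_one]
      _ = e'⁻¹ * e⁻¹ := by group
      _ = e' * e := by rw [he'i, hei]
  have h4 : d' * e = κ * (e * d') := by
    calc d' * e = l⁻¹ * (l * (d' * e)) := by group
      _ = l⁻¹ * (e * d') := by rw [← h2]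
      _ = κ * (e * d') := by rw [hli]
  have h5 : d' * (e' * e) = κ * ((e' * e) * d') := by
    calc d' * (e' * e) = (d' * e') * e := by group
      _ = (e' * d') * e := by rw [hd'e']
      _ = e' * (d' * e) := by group
      _ = e' * (κ * (e * d')) := by rw [h4]
      _ = (e' * κ) * (e * d') := by group
      _ = (κ * e') * (e * d') := by rw [hκc e' he'Q]
      _ = κ * ((e' * e) * d') := by group
  have hfix : a * κ * a⁻¹ = κ := by
    have e1 : a * κ * a⁻¹ = ⁅d', a * e' * a⁻¹⁆ := by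
      rw [hκ, hd']; simp only [commutatorElement_def]; group
    rw [e1, he'', commutatorElement_def, h5]
    group
  have hκ1 : κ = 1 := h.fpf κ (h.Z_le hκZ) hfix
  rw [← he', h1, hκ1, one_mul]

omit [Finite G] hQn in
theorem conj_invol {s : G} (hs2 : s ^ 2 = 1) (hsa : s * a * s⁻¹ = a⁻¹) :
    (a * s * a⁻¹) ^ 2 = 1 ∧ (a * s * a⁻¹) * a * (a * s * a⁻¹)⁻¹ = a⁻¹ := by
  constructor
  · rw [conj_pow, hs2]; group
  · calc (a * s * a⁻¹) * a * (a * s * a⁻¹)⁻¹ = a * (s * a * s⁻¹) * a⁻¹ := by group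
      _ = a⁻¹ := by rw [hsa]; group

include hQn in
/-- the "norm" elements `(s f s⁻¹) f` -/
theorem Hyp.norm_facts (h : Hyp Q a) (s : G) (hs2 : s ^ 2 = 1) (hsa : s * a * s⁻¹ = a⁻¹) (f : G)
    (hf : f ∈ Q) :
    (s * f * s⁻¹) * f ∈ Q ∧ ((s * f * s⁻¹) * f) ^ 2 = 1 ∧
      s * ((s * f * s⁻¹) * f) * s⁻¹ * ((s * f * s⁻¹) * f)⁻¹ ∈ ⁅Q, Q⁆ := by
  have hss : s * s = 1 := by rw [← pow_two]; exact hs2
  have hsi : s⁻¹ = s := inv_eq_of_mul_eq_one_right hss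
  have hc : s * f * s⁻¹ ∈ Q := hQn.conj_mem f hf s
  refine ⟨Q.mul_mem hc hf, ?_, ?_⟩
  · have h1 : (s * f) ^ 2 = (s * f * s⁻¹) * f := by
      rw [pow_two]
      nth_rewrite 2 [← hsi]
      group
    rw [← h1, ← pow_mul]
    exact h.s4 s hs2 hsa f hf
  · have e1 : s * ((s * f * s⁻¹) * f) * s⁻¹ * ((s * f * s⁻¹) * f)⁻¹
        = (s * s) * f * (s * s)⁻¹ * (s * f * s⁻¹) * f⁻¹ * (s * f * s⁻¹)⁻¹ := by group
    rw [e1, hss]
    have e2 : (1 : G) * f * 1⁻¹ * (s * f * s⁻¹) * f⁻¹ * (s * f * s⁻¹)⁻¹ = ⁅f, s * f * s⁻¹⁆ := by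
      rw [commutatorElement_def]; group
    rw [e2]
    exact h.comm_mem hf hc

theorem Hyp.sq_eq_one (h : Hyp Q a) (t : G) (ht2 : t ^ 2 = 1) (hta : t * a * t⁻¹ = a⁻¹) :
    ∀ f ∈ Q, f ^ 2 = 1 := by
  intro f hf
  obtain ⟨-, hsplit, hcomm⟩ := basic Q a h.two h.a3 h.fpf
  haveI hZn : (⁅Q, Q⁆ : Subgroup G).Normal := Subgroup.commutator_normal Q Q
  have hZsq : ∀ z ∈ ⁅Q, Q⁆, z * z = 1 := by
    intro z hz
    rw [← pow_two]
    apply h.claim_i t ht2 hta z (h.Z_le hz)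
    exact Subgroup.mul_mem _ (hZn.conj_mem z hz t) (Subgroup.inv_mem _ hz)
  -- the three involutions
  obtain ⟨s1, hs1⟩ : ∃ s1 : G, s1 = a * t * a⁻¹ := ⟨_, rfl⟩
  obtain ⟨s2, hs2⟩ : ∃ s2 : G, s2 = a * s1 * a⁻¹ := ⟨_, rfl⟩
  obtain ⟨h12, h1a⟩ : s1 ^ 2 = 1 ∧ s1 * a * s1⁻¹ = a⁻¹ := by rw [hs1]; exact conj_invol ht2 hta
  obtain ⟨h22, h2a⟩ : s2 ^ 2 = 1 ∧ s2 * a * s2⁻¹ = a⁻¹ := by rw [hs2]; exact conj_invol h12 h1a
  have hs3 : a * s2 * a⁻¹ = t := by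
    rw [hs2, hs1]
    calc a * (a * (a * t * a⁻¹) * a⁻¹) * a⁻¹ = (a * a * a) * t * (a * a * a)⁻¹ := by group
      _ = t := by rw [h.aaa]; group
  -- conjugation formula for norms
  have hconj : ∀ (s x : G), (a * s * a⁻¹) * x * (a * s * a⁻¹)⁻¹ * x
      = a * ((s * (a⁻¹ * x * a) * s⁻¹) * (a⁻¹ * x * a)) * a⁻¹ := by
    intro s x; group
  -- commutation of norms
  have hcm : ∀ s : G, s ^ 2 = 1 → s * a * s⁻¹ = a⁻¹ → ∀ x ∈ Q, ∀ y ∈ Q,
      ((s * x * s⁻¹) * x) * ((a * s * a⁻¹) * y * (a * s * a⁻¹)⁻¹ * y)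
        = ((a * s * a⁻¹) * y * (a * s * a⁻¹)⁻¹ * y) * ((s * x * s⁻¹) * x) := by
    intro s hs2' hsa' x hx y hy
    have hy' : a⁻¹ * y * a ∈ Q := by
      have := hQn.conj_mem y hy a⁻¹
      rwa [inv_inv] at this
    obtain ⟨n1, n2, n3⟩ := h.norm_facts s hs2' hsa' x hx
    obtain ⟨m1, m2, m3⟩ := h.norm_facts s hs2' hsa' (a⁻¹ * y * a) hy'
    rw [hconj s y]
    exact h.claim_iii s hs2' hsa' _ _ n1 m1 n3 m3
  obtain ⟨d0, hd0⟩ : ∃ d0 : G, d0 = (t * f * t⁻¹) * f := ⟨_, rfl⟩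
  obtain ⟨d1, hd1⟩ : ∃ d1 : G, d1 = (s1 * f * s1⁻¹) * f := ⟨_, rfl⟩
  obtain ⟨d2, hd2⟩ : ∃ d2 : G, d2 = (s2 * f * s2⁻¹) * f := ⟨_, rfl⟩
  have c01 : d0 * d1 = d1 * d0 := by
    rw [hd0, hd1, hs1]; exact hcm t ht2 hta f hf f hf
  have c12 : d1 * d2 = d2 * d1 := by
    rw [hd1, hd2, hs2]; exact hcm s1 h12 h1a f hf f hf
  have c20 : d2 * d0 = d0 * d2 := by
    rw [hd2, hd0]
    have := hcm s2 h22 h2a f hf f hf
    rw [hs3] at this
    exact this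
  obtain ⟨q0, e0, -⟩ := h.norm_facts t ht2 hta f hf
  obtain ⟨q1, e1, -⟩ := h.norm_facts s1 h12 h1a f hf
  obtain ⟨q2, e2, -⟩ := h.norm_facts s2 h22 h2a f hf
  rw [← hd0] at q0 e0
  rw [← hd1] at q1 e1
  rw [← hd2] at q2 e2
  have e0' : d0 * d0 = 1 := by rw [← pow_two]; exact e0
  have e1' : d1 * d1 = 1 := by rw [← pow_two]; exact e1
  have e2' : d2 * d2 = 1 := by rw [← pow_two]; exact e2
  have hP2 : (d0 * d2 * d1) * (d0 * d2 * d1) = 1 := by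
    calc (d0 * d2 * d1) * (d0 * d2 * d1) = d0 * d2 * (d1 * d0) * d2 * d1 := by group
      _ = d0 * d2 * (d0 * d1) * d2 * d1 := by rw [c01]
      _ = d0 * (d2 * d0) * (d1 * d2) * d1 := by group
      _ = d0 * (d0 * d2) * (d2 * d1) * d1 := by rw [c20, c12]
      _ = (d0 * d0) * (d2 * d2) * (d1 * d1) := by group
      _ = 1 := by rw [e0', e1', e2']; group
  -- exact form of the `u`'s
  obtain ⟨hh, hhh⟩ : ∃ hh : G, hh = t * f * t⁻¹ := ⟨_, rfl⟩
  have hhQ : hh ∈ Q := by rw [hhh]; exact hQn.conj_mem f hf t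
  have hta' : t * a⁻¹ = a * t := by
    have : t * a⁻¹ * t⁻¹ = a := by
      calc t * a⁻¹ * t⁻¹ = (t * a * t⁻¹)⁻¹ := by group
        _ = a := by rw [hta, inv_inv]
    calc t * a⁻¹ = (t * a⁻¹ * t⁻¹) * t := by group
      _ = a * t := by rw [this]
  have hs2' : s2 = a * t := by
    rw [hs2, hs1]
    calc a * (a * t * a⁻¹) * a⁻¹ = a * a * (t * a⁻¹) * a⁻¹ := by group
      _ = a * a * (a * t) * a⁻¹ := by rw [hta']
      _ = (a * a * a) * (t * a⁻¹) := by group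
      _ = a * t := by rw [h.aaa, hta', one_mul]
  have hs1' : s1 = a * (a * t) := by
    rw [hs1]
    calc a * t * a⁻¹ = a * (t * a⁻¹) := by group
      _ = a * (a * t) := by rw [hta']
  have hu2 : s2 * f * s2⁻¹ = a * hh * a⁻¹ := by rw [hs2', hhh]; group
  have hu1 : s1 * f * s1⁻¹ = a * (a * hh * a⁻¹) * a⁻¹ := by rw [hs1', hhh]; group
  have hspl := hsplit hh hhQ
  obtain ⟨u2, hu2d⟩ : ∃ u2 : G, u2 = a * hh * a⁻¹ := ⟨_, rfl⟩
  obtain ⟨u1, hu1d⟩ : ∃ u1 : G, u1 = a * u2 * a⁻¹ := ⟨_, rfl⟩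
  rw [← hu2d] at hu2 hspl hu1
  rw [← hu1d] at hu1 hspl
  have hu2Q : u2 ∈ Q := by rw [hu2d]; exact hQn.conj_mem hh hhQ a
  have hu1Q : u1 ∈ Q := by rw [hu1d]; exact hQn.conj_mem u2 hu2Q a
  -- `d0 d2 d1 = w f^3`
  obtain ⟨k, hk⟩ : ∃ k : G, k = ⁅f, u2⁆ := ⟨_, rfl⟩
  obtain ⟨k', hk'⟩ : ∃ k' : G, k' = ⁅f * f, u1⁆ := ⟨_, rfl⟩
  have hkZ : k ∈ ⁅Q, Q⁆ := by rw [hk]; exact h.comm_mem hf hu2Q
  have hk'Z : k' ∈ ⁅Q, Q⁆ := by rw [hk']; exact h.comm_mem (Q.mul_mem hf hf) hu1Q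
  have hkc := h.central k hkZ
  have hk'c := h.central k' hk'Z
  have r1 : f * u2 = k * (u2 * f) := by rw [hk, commutatorElement_def]; group
  have r2 : (f * f) * u1 = k' * (u1 * (f * f)) := by rw [hk', commutatorElement_def]; group
  have hP : d0 * d2 * d1 = (k * k') * (f * f * f) := by
    rw [hd0, hd2, hd1, hu2, hu1, ← hhh]
    calc hh * f * (u2 * f) * (u1 * f) = hh * (f * u2) * f * u1 * f := by group
      _ = hh * (k * (u2 * f)) * f * u1 * f := by rw [r1]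
      _ = (hh * k) * u2 * ((f * f) * u1) * f := by group
      _ = (k * hh) * u2 * (k' * (u1 * (f * f))) * f := by rw [hkc hh hhQ, r2]
      _ = k * ((hh * u2) * k') * u1 * (f * f * f) := by group
      _ = k * (k' * (hh * u2)) * u1 * (f * f * f) := by rw [hk'c (hh * u2) (Q.mul_mem hhQ hu2Q)]
      _ = (k * k') * (hh * u2 * u1) * (f * f * f) := by group
      _ = (k * k') * (f * f * f) := by rw [hspl, mul_one]
  obtain ⟨w, hw⟩ : ∃ w : G, w = k * k' := ⟨_, rfl⟩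
  have hwZ : w ∈ ⁅Q, Q⁆ := by rw [hw]; exact Subgroup.mul_mem _ hkZ hk'Z
  have hwc := h.central w hwZ
  have hww := hZsq w hwZ
  rw [← hw] at hP
  rw [hP] at hP2
  have hf3Q : f * f * f ∈ Q := Q.mul_mem (Q.mul_mem hf hf) hf
  have h6 : (f * f * f) * (f * f * f) = 1 := by
    calc (f * f * f) * (f * f * f) = (w * w) * ((f * f * f) * (f * f * f)) := by rw [hww, one_mul]
      _ = w * (w * (f * f * f)) * (f * f * f) := by group
      _ = w * ((f * f * f) * w) * (f * f * f) := by rw [hwc _ hf3Q]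
      _ = (w * (f * f * f)) * (w * (f * f * f)) := by group
      _ = 1 := hP2
  have h4 : f * f * f * f = 1 := by
    have := h.q4 f hf
    have e : f ^ 4 = f * f * f * f := by simp [pow_succ]
    rwa [e] at this
  rw [pow_two]
  have h7 : (f * f) * (f * f * f * f) = 1 := by
    rw [← h6]; simp only [mul_assoc]
  rw [h4, mul_one] at h7
  exact h7

end main

end Cfsg.Agent.H1.S3Act
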