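import Mathlib
import Cfsg.Agent.H1.EPPO
import Cfsg.Agent.H1.FpfThreeClass
import Cfsg.Agent.H1.S3Act
import Cfsg.Agent.H1.OddCentralizers
import Cfsg.Agent.Lib.helper3.Burnside
import Cfsg.Agent.S4062

set_option autoImplicit false

namespace Cfsg.Agent.H1.OrdersLeFour

open Cfsg.Agent.H1.EPPO

universe u

/-- every element has fourth or third power trivial -/
def Ord4 (X : Type*) [Group X] : Prop := ∀ g : X, g ^ 4 = 1 ∨ g ^ 3 = 1

section basics
variable {X : Type*} [Group X]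

lemma Ord4.of_surjective {Y : Type*} [Group Y] (h : Ord4 X) (f : X →* Y)
    (hf : Function.Surjective f) : Ord4 Y := by
  intro y
  obtain ⟨x, rfl⟩ := hf y
  rcases h x with h1 | h1
  · left; rw [← map_pow, h1, map_one]
  · right; rw [← map_pow, h1, map_one]

lemma eq_one_of_pow_three_of_two_pow {x : X} (h3 : x ^ 3 = 1) {k : ℕ} (hk : x ^ (2 ^ k) = 1) :
    x = 1 := by
  have h1 : orderOf x ∣ 3 := orderOf_dvd_of_pow_eq_one h3
  have h2 : orderOf x ∣ 2 ^ k := orderOf_dvd_of_pow_eq_one hk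
  have h3 : orderOf x ∣ Nat.gcd 3 (2 ^ k) := Nat.dvd_gcd h1 h2
  have h4 : Nat.gcd 3 (2 ^ k) = 1 := Nat.Coprime.pow_right k (by norm_num)
  rw [h4, Nat.dvd_one] at h3
  exact orderOf_eq_one_iff.mp h3

lemma eq_one_of_pow_four_of_three_pow {x : X} (h4 : x ^ 4 = 1) {k : ℕ} (hk : x ^ (3 ^ k) = 1) :
    x = 1 := by
  have h1 : orderOf x ∣ 4 := orderOf_dvd_of_pow_eq_one h4
  have h2 : orderOf x ∣ 3 ^ k := orderOf_dvd_of_pow_eq_one hk
  have h3 : orderOf x ∣ Nat.gcd 4 (3 ^ k) := Nat.dvd_gcd h1 h2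
  have h4 : Nat.gcd 4 (3 ^ k) = 1 := Nat.Coprime.pow_right k (by norm_num)
  rw [h4, Nat.dvd_one] at h3
  exact orderOf_eq_one_iff.mp h3

lemma Ord4.pow_four_of_two (h : Ord4 X) {P : Subgroup X} (hP : IsPGroup 2 P) {x : X} (hx : x ∈ P) :
    x ^ 4 = 1 := by
  rcases h x with h1 | h1
  · exact h1
  · obtain ⟨k, hk⟩ := hP ⟨x, hx⟩
    have hk' : x ^ (2 ^ k) = 1 := by
      have := congrArg Subtype.val hk
      simpa using this
    rw [eq_one_of_pow_three_of_two_pow h1 hk', one_pow]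

lemma Ord4.pow_three_of_three (h : Ord4 X) {P : Subgroup X} (hP : IsPGroup 3 P) {x : X} (hx : x ∈ P) :
    x ^ 3 = 1 := by
  rcases h x with h1 | h1
  · obtain ⟨k, hk⟩ := hP ⟨x, hx⟩
    have hk' : x ^ (3 ^ k) = 1 := by
      have := congrArg Subtype.val hk
      simpa using this
    rw [eq_one_of_pow_four_of_three_pow h1 hk', one_pow]
  · exact h1

lemma Ord4.isEPPO (h : Ord4 X) : IsEPPO X := by
  intro g hg
  rcases h g with h1 | h1
  · have hd : orderOf g ∣ 2 ^ 2 := orderOf_dvd_of_pow_eq_one h1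
    obtain ⟨j, -, hj⟩ := (Nat.dvd_prime_pow Nat.prime_two).mp hd
    refine ⟨2, j, Nat.prime_two.prime, ?_, hj.symm⟩
    rcases Nat.eq_zero_or_pos j with h0 | h0
    · exfalso
      rw [h0, pow_zero, orderOf_eq_one_iff] at hj
      exact hg hj
    · exact h0
  · have hd : orderOf g ∣ 3 := orderOf_dvd_of_pow_eq_one h1
    rcases (Nat.dvd_prime Nat.prime_three).mp hd with h2 | h2
    · exact absurd (orderOf_eq_one_iff.mp h2) hg
    · refine ⟨3, 1, Nat.prime_three.prime, one_pos, ?_⟩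
      rw [pow_one, h2]

lemma Ord4.prime_dvd_card [Finite X] (h : Ord4 X) {p : ℕ} (hp : p.Prime) (hd : p ∣ Nat.card X) :
    p = 2 ∨ p = 3 := by
  haveI : Fact p.Prime := ⟨hp⟩
  obtain ⟨x, hx⟩ := exists_prime_orderOf_dvd_card' p hd
  rcases h x with h1 | h1
  · left
    have h2 : p ∣ 2 ^ 2 := hx ▸ orderOf_dvd_of_pow_eq_one h1
    exact (Nat.prime_dvd_prime_iff_eq hp Nat.prime_two).mp (hp.dvd_of_dvd_pow h2)
  · right
    have h2 : p ∣ 3 := hx ▸ orderOf_dvd_of_pow_eq_one h1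
    exact (Nat.prime_dvd_prime_iff_eq hp Nat.prime_three).mp h2

lemma zpowers_three {a b : X} (ha : a ^ 3 = 1) (hb : b ∈ Subgroup.zpowers a) :
    b = 1 ∨ b = a ∨ b = a⁻¹ := by
  obtain ⟨k, rfl⟩ := Subgroup.mem_zpowers_iff.mp hb
  have hk : k = 3 * (k / 3) + k % 3 := (Int.mul_ediv_add_emod k 3).symm
  have ha' : a ^ (3 : ℤ) = 1 := by
    have : a ^ ((3 : ℕ) : ℤ) = 1 := by rw [zpow_natCast, ha]
    simpa using this
  have hred : a ^ k = a ^ (k % 3) := by
    conv_lhs => rw [hk]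
    rw [zpow_add, zpow_mul, ha', one_zpow, one_mul]
  have hcases : k % 3 = 0 ∨ k % 3 = 1 ∨ k % 3 = 2 := by omega
  rcases hcases with h0 | h0 | h0
  · left; rw [hred, h0, zpow_zero]
  · right; left; rw [hred, h0, zpow_one]
  · right; right
    rw [hred, h0]
    have : a ^ (2 : ℤ) * a = 1 := by
      have : a ^ (2 : ℤ) * a = a ^ (3 : ℤ) := by
        rw [show (3 : ℤ) = 2 + 1 by norm_num, zpow_add, zpow_one]
      rw [this, ha']
    exact eq_inv_of_mul_eq_one_left this

end basics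

lemma card_two_three (n : ℕ) (hn : n ≠ 0) (h : ∀ p : ℕ, p.Prime → p ∣ n → p = 2 ∨ p = 3) :
    ∃ a b : ℕ, n = 2 ^ a * 3 ^ b := by
  refine ⟨n.factorization 2, (n / 2 ^ n.factorization 2).primeFactorsList.length, ?_⟩
  have h1 : 2 ^ n.factorization 2 * (n / 2 ^ n.factorization 2) = n :=
    Nat.ordProj_mul_ordCompl_eq_self n 2
  have h2 : n / 2 ^ n.factorization 2 ≠ 0 := by
    intro h0
    rw [h0, mul_zero] at h1
    exact hn h1.symm
  have h3 : n / 2 ^ n.factorization 2 = 3 ^ (n / 2 ^ n.factorization 2).primeFactorsList.length := by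
    apply Nat.eq_prime_pow_of_unique_prime_dvd h2
    intro d hd hdvd
    rcases h d hd (hdvd.trans (Nat.ordCompl_dvd n 2)) with h4 | h4
    · exfalso
      subst h4
      exact Nat.not_dvd_ordCompl Nat.prime_two hn hdvd
    · exact h4
  rw [← h3, h1]

lemma Ord4.isSolvable {X : Type u} [Group X] [Finite X] (h : Ord4 X) : Group.IsSolvable X := by
  apply Cfsg.Agent.Lib.helper3.Burnside.isSolvable_of_card_eq 2 3 Nat.prime_two Nat.prime_three
    (Nat.card X) X rfl
  exact card_two_three _ Nat.card_pos.ne' (fun p hp hd => h.prime_dvd_card hp hd)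

open Cfsg.Agent.Lib.Helper7 in
/-- the case `O_3(G) ≠ 1` -/
theorem caseB {G : Type u} [Group G] [Finite G] (h : Ord4 G) (g4 : G) (h4 : orderOf g4 = 4)
    (T : Subgroup G) [hTn : T.Normal] (hTdef : T = Cfsg.pCore 3 G) (hT : T ≠ ⊥) :
    Cfsg.IsElementaryAbelian 3 T ∧
      ((IsCyclic (G ⧸ T) ∧ T.index = 4) ∨ Nonempty (G ⧸ T ≃* QuaternionGroup 2)) := by
  haveI : Fact (Nat.Prime 2) := ⟨Nat.prime_two⟩
  haveI : Fact (Nat.Prime 3) := ⟨Nat.prime_three⟩
  have hE := h.isEPPO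
  have hTp : IsPGroup 3 T := by rw [hTdef]; exact Cfsg.Agent.Lib.Helper7.pCore_isPGroup 3 G
  have hT3 : ∀ x ∈ T, x ^ 3 = 1 := fun x hx => h.pow_three_of_three hTp hx
  -- the involution `z = g4 ^ 2`
  obtain ⟨z, hz⟩ : ∃ z : G, z = g4 ^ 2 := ⟨_, rfl⟩
  have hg44 : g4 ^ 4 = 1 := by rw [← h4]; exact pow_orderOf_eq_one g4
  have hz2 : z ^ 2 = 1 := by rw [hz, ← pow_mul]; exact hg44
  have hz1 : z ≠ 1 := by
    intro h1
    rw [hz] at h1
    have := orderOf_dvd_of_pow_eq_one h1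
    rw [h4] at this
    omega
  -- general facts on involutions
  have hinvT : ∀ t : G, t ^ 2 = 1 → t ≠ 1 → t ∉ T := by
    intro t ht2 ht1 htT
    apply ht1
    have h3 := hT3 t htT
    calc t = t ^ 3 * (t ^ 2)⁻¹ := by group
      _ = 1 := by rw [h3, ht2]; simp
  have hinv : ∀ t : G, t ^ 2 = 1 → t ≠ 1 → ∀ s ∈ T, t * s * t⁻¹ = s⁻¹ := by
    intro t ht2 ht1
    have hto : orderOf t = 2 := orderOf_eq_prime ht2 ht1
    apply Cfsg.Agent.H1.fpf_invol_inverts T t (by rw [← pow_two]; exact ht2)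
    · rw [Subgroup.normalizer_eq_top]; exact Subgroup.mem_top t
    · intro s hs hts
      have hmem : s ∈ T ⊓ Subgroup.centralizer {t} := by
        refine Subgroup.mem_inf.mpr ⟨hs, ?_⟩
        rw [Subgroup.mem_centralizer_iff]
        intro b hb
        rw [Set.mem_singleton_iff] at hb
        subst hb
        calc b * s = (b * s * b⁻¹) * b := by group
          _ = s * b := by rw [hts]
      rw [hE.fpf T hTp t ht1 (by rw [hto]; norm_num)] at hmem
      exact Subgroup.mem_bot.mp hmem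
  have hzinv := hinv z hz2 hz1
  -- `T` is abelian
  have hTcomm : ∀ x ∈ T, ∀ y ∈ T, x * y = y * x := by
    intro x hx y hy
    have h1 := hzinv (x * y) (T.mul_mem hx hy)
    have h2 : z * (x * y) * z⁻¹ = (z * x * z⁻¹) * (z * y * z⁻¹) := by group
    rw [h2, hzinv x hx, hzinv y hy] at h1
    have h3 : (x⁻¹ * y⁻¹)⁻¹ = ((x * y)⁻¹)⁻¹ := by rw [h1]
    rw [mul_inv_rev, inv_inv, inv_inv, inv_inv] at h3
    exact h3.symm
  have hEA : Cfsg.IsElementaryAbelian 3 T := by
    refine ⟨⟨⟨fun a b => Subtype.ext ?_⟩⟩, hT3⟩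
    exact hTcomm a a.2 b b.2
  refine ⟨hEA, ?_⟩
  -- the centralizer of `T` is inside `T`
  obtain ⟨C, hCdef⟩ : ∃ C : Subgroup G, C = Subgroup.centralizer (T : Set G) := ⟨_, rfl⟩
  haveI hCn : C.Normal := by rw [hCdef]; infer_instance
  have h3T : 3 ∣ Nat.card T := by
    obtain ⟨n, hn⟩ := IsPGroup.iff_card.mp hTp
    rcases Nat.eq_zero_or_pos n with h0 | h0
    · exfalso
      rw [h0, pow_zero] at hn
      exact hT (Subgroup.card_eq_one.mp hn)
    · rw [hn]; exact dvd_pow_self 3 h0.ne'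
  obtain ⟨x0, hx0⟩ := exists_prime_orderOf_dvd_card' 3 h3T
  have hCp : IsPGroup 3 C := by
    rw [IsPGroup.iff_orderOf]
    intro c
    have hc : Commute (x0 : G) (c : G) := by
      have h1 : (c : G) ∈ Subgroup.centralizer (T : Set G) := hCdef ▸ c.2
      rw [Subgroup.mem_centralizer_iff] at h1
      exact h1 (x0 : G) x0.2
    obtain ⟨k, hk⟩ := hE.pow_of_commute Nat.prime_three (by rw [Subgroup.orderOf_coe, hx0]) hc
    exact ⟨k, by rw [← hk, Subgroup.orderOf_coe]⟩
  have hCT : C ≤ T := by rw [hTdef]; exact le_pCore hCn hCp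
  have hYE : IsEPPO (G ⧸ T) := hE.of_surjective (QuotientGroup.mk' T) (QuotientGroup.mk'_surjective T)
  -- all elements of order `3` lie in `T`
  have hall3 : ∀ y : G, y ^ 3 = 1 → y ∈ T := by
    intro y hy3
    by_contra hyT
    have hz'2 : (y * z * y⁻¹) ^ 2 = 1 := by rw [conj_pow, hz2]; group
    have hz'1 : y * z * y⁻¹ ≠ 1 := by
      intro h1
      apply hz1
      calc z = y⁻¹ * (y * z * y⁻¹) * y := by group
        _ = 1 := by rw [h1]; group
    have hz'inv := hinv _ hz'2 hz'1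
    have hmemC : z * (y * z * y⁻¹) ∈ C := by
      rw [hCdef, Subgroup.mem_centralizer_iff]
      intro s hs
      have h1 : (y * z * y⁻¹) * s * (y * z * y⁻¹)⁻¹ = s⁻¹ := hz'inv s hs
      have h2 : z * s⁻¹ * z⁻¹ = s := by rw [hzinv s⁻¹ (T.inv_mem hs), inv_inv]
      have h3 : (z * (y * z * y⁻¹)) * s * (z * (y * z * y⁻¹))⁻¹ = s := by
        calc (z * (y * z * y⁻¹)) * s * (z * (y * z * y⁻¹))⁻¹
            = z * ((y * z * y⁻¹) * s * (y * z * y⁻¹)⁻¹) * z⁻¹ := by group
          _ = s := by rw [h1, h2]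
      calc s * (z * (y * z * y⁻¹))
          = ((z * (y * z * y⁻¹)) * s * (z * (y * z * y⁻¹))⁻¹) * (z * (y * z * y⁻¹)) := by rw [h3]
        _ = (z * (y * z * y⁻¹)) * s := by group
    have hmemT := hCT hmemC
    obtain ⟨zb, hzb⟩ : ∃ zb : G ⧸ T, zb = QuotientGroup.mk' T z := ⟨_, rfl⟩
    obtain ⟨yb, hyb⟩ : ∃ yb : G ⧸ T, yb = QuotientGroup.mk' T y := ⟨_, rfl⟩
    have hrel : zb * (yb * zb * yb⁻¹) = 1 := by
      rw [hzb, hyb, ← map_inv, ← map_mul, ← map_mul, ← map_mul]
      exact (QuotientGroup.eq_one_iff _).mpr hmemT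
    have hzb2 : zb ^ 2 = 1 := by rw [hzb, ← map_pow, hz2, map_one]
    have hzb1 : zb ≠ 1 := by
      rw [hzb]
      intro h1
      exact hinvT z hz2 hz1 ((QuotientGroup.eq_one_iff z).mp h1)
    have hyb3 : yb ^ 3 = 1 := by rw [hyb, ← map_pow, hy3, map_one]
    have hyb1 : yb ≠ 1 := by
      rw [hyb]
      intro h1
      exact hyT ((QuotientGroup.eq_one_iff y).mp h1)
    have hzbinv : zb⁻¹ = zb := by
      rw [inv_eq_iff_mul_eq_one, ← pow_two]; exact hzb2
    have hcomm : Commute zb yb := by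
      show zb * yb = yb * zb
      have h1 : zb * yb * zb = yb := by
        calc zb * yb * zb = (zb * (yb * zb * yb⁻¹)) * yb := by group
          _ = yb := by rw [hrel, one_mul]
      calc zb * yb = (zb * yb * zb) * zb⁻¹ := by group
        _ = yb * zb := by rw [h1, hzbinv]
    obtain ⟨k, hk⟩ := hYE.pow_of_commute Nat.prime_two (orderOf_eq_prime hzb2 hzb1) hcomm
    rw [orderOf_eq_prime hyb3 hyb1] at hk
    rcases Nat.eq_zero_or_pos k with h0 | h0
    · rw [h0, pow_zero] at hk; omega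
    · have : 2 ∣ 3 := hk ▸ dvd_pow_self 2 h0.ne'
      omega
  have hquot4 : ∀ q : G ⧸ T, q ^ 4 = 1 := by
    intro q
    obtain ⟨g, rfl⟩ := QuotientGroup.mk'_surjective T q
    rcases h g with h1 | h1
    · rw [← map_pow, h1, map_one]
    · have h2 : QuotientGroup.mk' T g = 1 := (QuotientGroup.eq_one_iff g).mpr (hall3 g h1)
      rw [h2, one_pow]
  have hYp : IsPGroup 2 (G ⧸ T) := fun q => ⟨2, by simpa using hquot4 q⟩
  -- the Sylow 2-subgroup maps isomorphically onto `G ⧸ T`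
  obtain ⟨S⟩ : Nonempty (Sylow 2 G) := inferInstance
  obtain ⟨φ, hφ⟩ : ∃ φ : ↥(S : Subgroup G) →* G ⧸ T,
      φ = (QuotientGroup.mk' T).comp (S : Subgroup G).subtype := ⟨_, rfl⟩
  have hφinj : Function.Injective φ := by
    rw [injective_iff_map_eq_one]
    intro s hs
    rw [hφ] at hs
    have hsT : (s : G) ∈ T := (QuotientGroup.eq_one_iff (s : G)).mp hs
    obtain ⟨k, hk⟩ := S.isPGroup' s
    have hk' : (s : G) ^ (2 ^ k) = 1 := by
      have := congrArg Subtype.val hk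
      simpa using this
    exact Subtype.ext (eq_one_of_pow_three_of_two_pow (hT3 _ hsT) hk')
  have hφbij : Function.Bijective φ := by
    apply hφinj.bijective_of_nat_card_le
    obtain ⟨j, hj⟩ := IsPGroup.iff_card.mp hYp
    have h1 : 2 ^ j ∣ Nat.card G := hj ▸ Subgroup.card_quotient_dvd_card T
    have h2 := S.pow_dvd_card_of_pow_dvd_card h1
    rw [hj]
    exact Nat.le_of_dvd Nat.card_pos h2
  obtain ⟨e⟩ : Nonempty (↥(S : Subgroup G) ≃* G ⧸ T) := ⟨MulEquiv.ofBijective φ hφbij⟩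
  have hfpf : ∀ s ∈ (S : Subgroup G), s ≠ 1 → T ⊓ Subgroup.centralizer {s} = ⊥ := by
    intro s hs hs1
    apply hE.fpf T hTp s hs1
    obtain ⟨k, hk⟩ := (IsPGroup.iff_orderOf.mp S.isPGroup') ⟨s, hs⟩
    rw [Subgroup.orderOf_mk] at hk
    rw [hk]
    intro hdvd
    have := (Nat.prime_dvd_prime_iff_eq Nat.prime_three Nat.prime_two).mp
      (Nat.prime_three.dvd_of_dvd_pow hdvd)
    omega
  obtain ⟨P, hP⟩ := IsPGroup.exists_le_sylow (S.isPGroup'.to_subgroup (⊤ : Subgroup ↥(S : Subgroup G)))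
  have hPtop : (P : Subgroup ↥(S : Subgroup G)) = ⊤ := top_le_iff.mp hP
  obtain ⟨eP⟩ : Nonempty (↥(P : Subgroup ↥(S : Subgroup G)) ≃* G ⧸ T) :=
    ⟨((MulEquiv.subgroupCongr hPtop).trans Subgroup.topEquiv).trans e⟩
  -- the mod `T` image of `g4` has order 4
  have hg4b : orderOf (QuotientGroup.mk' T g4) = 4 := by
    have h1 : ¬ (QuotientGroup.mk' T g4) ^ 2 ^ 1 = 1 := by
      rw [pow_one, ← map_pow, ← hz]
      intro h1
      exact hinvT z hz2 hz1 ((QuotientGroup.eq_one_iff z).mp h1)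
    have h2 : (QuotientGroup.mk' T g4) ^ 2 ^ (1 + 1) = 1 := hquot4 _
    have := orderOf_eq_prime_pow h1 h2
    rw [this]
    norm_num
  have hcycl : IsCyclic (G ⧸ T) → (IsCyclic (G ⧸ T) ∧ T.index = 4) := by
    intro hc
    refine ⟨hc, ?_⟩
    obtain ⟨c, hc'⟩ := hc.exists_generator
    have h1 : Nat.card (G ⧸ T) ∣ 4 := by
      rw [← orderOf_eq_card_of_forall_mem_zpowers hc']
      exact orderOf_dvd_of_pow_eq_one (hquot4 c)
    have h2 : 4 ∣ Nat.card (G ⧸ T) := hg4b ▸ orderOf_dvd_natCard _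
    exact Nat.dvd_antisymm h1 h2
  rcases Cfsg.Agent.H2.FCS.sylow_cyclic_or_quaternion T (S : Subgroup G) hT hfpf 2 P with hc | ⟨n, ⟨eQ⟩⟩
  · left
    exact hcycl (isCyclic_of_surjective eP eP.surjective)
  · obtain ⟨e2⟩ : Nonempty (G ⧸ T ≃* QuaternionGroup (2 ^ n)) := ⟨eP.symm.trans eQ⟩
    rcases n with _ | _ | n
    · left
      apply hcycl
      have e3 : QuaternionGroup 1 ≃* G ⧸ T := e2.symm
      haveI := QuaternionGroup.quaternionGroup_one_isCyclic
      exact isCyclic_of_surjective e3 e3.surjective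
    · right
      exact ⟨e2⟩
    · exfalso
      have h1 : orderOf (e2.symm (QuaternionGroup.a 1)) = 2 * 2 ^ (n + 1 + 1) := by
        rw [MulEquiv.orderOf_eq, QuaternionGroup.orderOf_a_one]
      have h2 : orderOf (e2.symm (QuaternionGroup.a 1)) ∣ 4 := orderOf_dvd_of_pow_eq_one (hquot4 _)
      rw [h1] at h2
      have h3 := Nat.le_of_dvd (by norm_num) h2
      have h4 : 2 ^ (n + 1 + 1) = 4 * 2 ^ n := by ring
      have h5 : 1 ≤ 2 ^ n := Nat.one_le_two_pow
      omega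

/-- Sylow 3-subgroups have order 3 when `O_2(G) ≠ 1` -/
lemma sylow3_card {G : Type u} [Group G] [Finite G] (h : Ord4 G) (Q : Subgroup G) [hQn : Q.Normal]
    (hQp : IsPGroup 2 Q) (hQ1 : Q ≠ ⊥) (h3 : 3 ∣ Nat.card G) [Fact (Nat.Prime 3)] (R : Sylow 3 G) :
    Nat.card R = 3 := by
  have hE := h.isEPPO
  haveI : Fact (Nat.Prime 2) := ⟨Nat.prime_two⟩
  have hR3 : ∀ x ∈ (R : Subgroup G), x ^ 3 = 1 := fun x hx => h.pow_three_of_three R.isPGroup' hx
  have hfpf : ∀ y ∈ (R : Subgroup G), y ≠ 1 → Q ⊓ Subgroup.centralizer {y} = ⊥ := by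
    intro y hy hy1
    apply hE.fpf Q hQp y hy1
    rw [orderOf_eq_prime (hR3 y hy) hy1]
    norm_num
  have h3R : 3 ∣ Nat.card R := by
    have := R.pow_dvd_card_of_pow_dvd_card (n := 1) (by rwa [pow_one])
    rwa [pow_one] at this
  obtain ⟨a0, ha0⟩ := exists_prime_orderOf_dvd_card' 3 h3R
  have hao : orderOf (a0 : G) = 3 := by rw [Subgroup.orderOf_coe, ha0]
  have hle : (R : Subgroup G) ≤ Subgroup.zpowers (a0 : G) := by
    intro b hb
    by_cases hb1 : b = 1
    · rw [hb1]; exact Subgroup.one_mem _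
    · exact mem_zpowers_of_fpf Q (R : Subgroup G) hQ1 hfpf 3 R.isPGroup' a0.2 hb hao
        (orderOf_eq_prime (hR3 b hb) hb1)
  have hdvd : Nat.card R ∣ 3 := by
    have := Subgroup.card_dvd_of_le hle
    rwa [Nat.card_zpowers, hao] at this
  exact Nat.dvd_antisymm hdvd h3R

open Cfsg.Agent.Lib.Helper7 in
/-- structure of the quotient by `O_2(G)` -/
lemma quot_card {Y : Type u} [Group Y] [Finite Y] (hY : Ord4 Y) (W : Subgroup Y) [hWn : W.Normal]
    (hWdef : W = Cfsg.pCore 3 Y) (hcard : Nat.card W = 3) (w : Y) (hw : w ∈ W) (hw1 : w ≠ 1) :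
    (∀ y : Y, y * w = w * y → y ∈ W) ∧
      (Nat.card Y = 3 ∨ (Nat.card Y = 6 ∧ ∃ y0 : Y, y0 * w ≠ w * y0)) := by
  haveI : Fact (Nat.Prime 2) := ⟨Nat.prime_two⟩
  haveI : Fact (Nat.Prime 3) := ⟨Nat.prime_three⟩
  have hE := hY.isEPPO
  have hWp : IsPGroup 3 W := by rw [hWdef]; exact Cfsg.Agent.Lib.Helper7.pCore_isPGroup 3 Y
  have hw3 : w ^ 3 = 1 := hY.pow_three_of_three hWp hw
  have hwo : orderOf w = 3 := orderOf_eq_prime hw3 hw1
  have hzp : Subgroup.zpowers w = W := by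
    apply Subgroup.eq_of_le_of_card_ge (Subgroup.zpowers_le.mpr hw)
    rw [hcard, Nat.card_zpowers, hwo]
  have hWw : ∀ x ∈ W, x = 1 ∨ x = w ∨ x = w⁻¹ := by
    intro x hx
    rw [← hzp] at hx
    exact zpowers_three hw3 hx
  have hwinv : w ≠ w⁻¹ := by
    intro h1
    apply hw1
    have h2 : w ^ 2 = 1 := by
      rw [pow_two]
      nth_rewrite 1 [h1]
      exact inv_mul_cancel w
    calc w = w ^ 3 * (w ^ 2)⁻¹ := by group
      _ = 1 := by rw [hw3, h2]; simp
  obtain ⟨C, hCdef⟩ : ∃ C : Subgroup Y, C = Subgroup.centralizer (W : Set Y) := ⟨_, rfl⟩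
  haveI hCn : C.Normal := by rw [hCdef]; infer_instance
  have hCmem : ∀ c : Y, c ∈ C ↔ c * w = w * c := by
    intro c
    rw [hCdef, Subgroup.mem_centralizer_iff]
    constructor
    · intro hc; exact (hc w hw).symm
    · intro hc x hx
      rcases hWw x hx with rfl | rfl | rfl
      · simp
      · exact hc.symm
      · calc w⁻¹ * c = w⁻¹ * (c * w) * w⁻¹ := by group
          _ = c * w⁻¹ := by rw [hc]; group
  have hCp : IsPGroup 3 C := by
    rw [IsPGroup.iff_orderOf]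
    intro c
    have hc : Commute w (c : Y) := ((hCmem c).mp c.2).symm
    obtain ⟨k, hk⟩ := hE.pow_of_commute Nat.prime_three hwo hc
    exact ⟨k, by rw [← hk, Subgroup.orderOf_coe]⟩
  have hCW : C ≤ W := by rw [hWdef]; exact le_pCore hCn hCp
  refine ⟨fun y hy => hCW ((hCmem y).mpr hy), ?_⟩
  have hconj : ∀ y : Y, y * w * y⁻¹ = w ∨ y * w * y⁻¹ = w⁻¹ := by
    intro y
    rcases hWw _ (hWn.conj_mem w hw y) with h1 | h1 | h1
    · exfalso
      apply hw1
      calc w = y⁻¹ * (y * w * y⁻¹) * y := by group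
        _ = 1 := by rw [h1]; group
    · exact Or.inl h1
    · exact Or.inr h1
  have h3Y : 3 ∣ Nat.card Y := hcard ▸ Subgroup.card_subgroup_dvd_card W
  by_cases hall : ∀ y : Y, y * w = w * y
  · left
    have htop : W = ⊤ := by
      rw [eq_top_iff]
      intro y _
      exact hCW ((hCmem y).mpr (hall y))
    rw [← hcard, htop, Subgroup.card_top]
  · right
    push Not at hall
    obtain ⟨y0, hy0⟩ := hall
    refine ⟨?_, y0, hy0⟩
    have hy0inv : y0 * w * y0⁻¹ = w⁻¹ := by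
      rcases hconj y0 with h1 | h1
      · exfalso
        apply hy0
        calc y0 * w = (y0 * w * y0⁻¹) * y0 := by group
          _ = w * y0 := by rw [h1]
      · exact h1
    have hnotC : ∀ b : Y, b ∉ C → b * w * b⁻¹ = w⁻¹ := by
      intro b hb
      rcases hconj b with h1 | h1
      · exfalso
        apply hb
        rw [hCmem]
        calc b * w = (b * w * b⁻¹) * b := by group
          _ = w * b := by rw [h1]
      · exact h1
    have hidx : C.index = 2 := by
      rw [Subgroup.index_eq_two_iff]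
      refine ⟨y0, fun b => ?_⟩
      by_cases hb : b ∈ C
      · refine Or.inr ⟨hb, ?_⟩
        intro hby
        apply hy0
        have : y0 ∈ C := by
          have := C.mul_mem (C.inv_mem hb) hby
          simpa using this
        exact (hCmem y0).mp this
      · refine Or.inl ⟨?_, hb⟩
        rw [hCmem]
        have h1 := hnotC b hb
        have h2 : (b * y0) * w * (b * y0)⁻¹ = w := by
          calc (b * y0) * w * (b * y0)⁻¹ = b * (y0 * w * y0⁻¹) * b⁻¹ := by group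
            _ = (b * w * b⁻¹)⁻¹ := by rw [hy0inv]; group
            _ = w := by rw [h1, inv_inv]
        calc b * y0 * w = ((b * y0) * w * (b * y0)⁻¹) * (b * y0) := by group
          _ = w * (b * y0) := by rw [h2]
    have hYcard : Nat.card Y = 2 * Nat.card C := by
      rw [← hidx]; exact (Subgroup.index_mul_card C).symm
    have hCdvd : Nat.card C ∣ 3 := hcard ▸ Subgroup.card_dvd_of_le hCW
    rcases (Nat.dvd_prime Nat.prime_three).mp hCdvd with h1 | h1
    · exfalso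
      rw [hYcard, h1] at h3Y
      omega
    · rw [hYcard, h1]

open Cfsg.Agent.Lib.Helper7 in
/-- the case `O_3(G) = 1` -/
theorem caseA {G : Type u} [Group G] [Finite G] (h : Ord4 G) (g3 g4 : G) (h3 : orderOf g3 = 3)
    (h4 : orderOf g4 = 4) (Q : Subgroup G) [hQn : Q.Normal] (hQdef : Q = Cfsg.pCore 2 G)
    (hT : Cfsg.pCore 3 G = ⊥) :
    (IsPGroup 2 ↥Q ∧ Monoid.exponent ↥Q = 4 ∧ Group.nilpotencyClass ↥Q ≤ 2 ∧ Q.index = 3) ∨
      (Cfsg.IsElementaryAbelian 2 Q ∧ Nonempty (G ⧸ Q ≃* Equiv.Perm (Fin 3))) := by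
  haveI : Fact (Nat.Prime 2) := ⟨Nat.prime_two⟩
  haveI : Fact (Nat.Prime 3) := ⟨Nat.prime_three⟩
  have hE := h.isEPPO
  haveI hsolv : Group.IsSolvable G := h.isSolvable
  have hg33 : g3 ^ 3 = 1 := by rw [← h3]; exact pow_orderOf_eq_one g3
  have hg31 : g3 ≠ 1 := by
    intro h1
    rw [h1, orderOf_one] at h3
    omega
  have hg44 : g4 ^ 4 = 1 := by rw [← h4]; exact pow_orderOf_eq_one g4
  haveI : Nontrivial G := ⟨⟨g3, 1, hg31⟩⟩
  have hQp : IsPGroup 2 Q := by rw [hQdef]; exact Cfsg.Agent.Lib.Helper7.pCore_isPGroup 2 G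
  have hQ4 : ∀ x ∈ Q, x ^ 4 = 1 := fun x hx => h.pow_four_of_two hQp hx
  -- `Q ≠ 1`
  have hQ1 : Q ≠ ⊥ := by
    obtain ⟨q, hq, hq1⟩ := Cfsg.Agent.H1.exists_pCore_ne_bot G
    haveI : Fact q.Prime := ⟨hq⟩
    have hqd : q ∣ Nat.card G := by
      obtain ⟨n, hn⟩ := IsPGroup.iff_card.mp (Cfsg.Agent.Lib.Helper7.pCore_isPGroup q G)
      rcases Nat.eq_zero_or_pos n with h0 | h0
      · exfalso
        rw [h0, pow_zero] at hn
        exact hq1 (Subgroup.card_eq_one.mp hn)
      · exact (hn ▸ dvd_pow_self q h0.ne' : q ∣ Nat.card (Cfsg.pCore q G)).trans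
          (Subgroup.card_subgroup_dvd_card _)
    rcases h.prime_dvd_card hq hqd with rfl | rfl
    · rw [hQdef]; exact hq1
    · exact absurd hT hq1
  -- elements of order 3
  have h3Q : ∀ a : G, a ^ 3 = 1 → a ∈ Q → a = 1 := by
    intro a ha haQ
    obtain ⟨k, hk⟩ := hQp ⟨a, haQ⟩
    have hk' : a ^ (2 ^ k) = 1 := by
      have := congrArg Subtype.val hk
      simpa using this
    exact eq_one_of_pow_three_of_two_pow ha hk'
  have hfpf3 : ∀ a : G, a ^ 3 = 1 → a ≠ 1 → Q ⊓ Subgroup.centralizer {a} = ⊥ := by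
    intro a ha ha1
    apply hE.fpf Q hQp a ha1
    rw [orderOf_eq_prime ha ha1]
    norm_num
  have hfix3 : ∀ a : G, a ^ 3 = 1 → a ≠ 1 → ∀ x ∈ Q, a * x * a⁻¹ = x → x = 1 := by
    intro a ha ha1 x hx hax
    have hmem : x ∈ Q ⊓ Subgroup.centralizer {a} := by
      refine Subgroup.mem_inf.mpr ⟨hx, ?_⟩
      rw [Subgroup.mem_centralizer_iff]
      intro b hb
      rw [Set.mem_singleton_iff] at hb
      subst hb
      calc b * x = (b * x * b⁻¹) * b := by group
        _ = x * b := by rw [hax]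
    rw [hfpf3 a ha ha1] at hmem
    exact Subgroup.mem_bot.mp hmem
  have h3G : 3 ∣ Nat.card G := h3 ▸ orderOf_dvd_natCard g3
  have hR3 : ∀ R : Sylow 3 G, Nat.card R = 3 := fun R => sylow3_card h Q hQp hQ1 h3G R
  have h9 : ¬ 9 ∣ Nat.card G := by
    intro h9
    obtain ⟨R⟩ : Nonempty (Sylow 3 G) := inferInstance
    have := R.pow_dvd_card_of_pow_dvd_card (n := 2) (by norm_num; exact h9)
    rw [hR3 R] at this
    norm_num at this
  -- the quotient
  have hY : Ord4 (G ⧸ Q) := h.of_surjective (QuotientGroup.mk' Q) (QuotientGroup.mk'_surjective Q)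
  have hYE := hY.isEPPO
  haveI hYsolv : Group.IsSolvable (G ⧸ Q) := hY.isSolvable
  have hmk1 : ∀ g : G, QuotientGroup.mk' Q g = 1 ↔ g ∈ Q := fun g => QuotientGroup.eq_one_iff g
  haveI : Nontrivial (G ⧸ Q) := by
    refine ⟨⟨QuotientGroup.mk' Q g3, 1, ?_⟩⟩
    intro h1
    exact hg31 (h3Q g3 hg33 ((hmk1 g3).mp h1))
  obtain ⟨W, hWdef⟩ : ∃ W : Subgroup (G ⧸ Q), W = Cfsg.pCore 3 (G ⧸ Q) := ⟨_, rfl⟩
  haveI hWn : W.Normal := by rw [hWdef]; infer_instance
  have hWp : IsPGroup 3 W := by rw [hWdef]; exact Cfsg.Agent.Lib.Helper7.pCore_isPGroup 3 _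
  have hW1 : W ≠ ⊥ := by
    obtain ⟨s, hs, hs1⟩ := Cfsg.Agent.H1.exists_pCore_ne_bot (G ⧸ Q)
    haveI : Fact s.Prime := ⟨hs⟩
    have hsd : s ∣ Nat.card (G ⧸ Q) := by
      obtain ⟨n, hn⟩ := IsPGroup.iff_card.mp (Cfsg.Agent.Lib.Helper7.pCore_isPGroup s (G ⧸ Q))
      rcases Nat.eq_zero_or_pos n with h0 | h0
      · exfalso
        rw [h0, pow_zero] at hn
        exact hs1 (Subgroup.card_eq_one.mp hn)
      · exact (hn ▸ dvd_pow_self s h0.ne' : s ∣ Nat.card (Cfsg.pCore s (G ⧸ Q))).trans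
          (Subgroup.card_subgroup_dvd_card _)
    rcases hY.prime_dvd_card hs hsd with rfl | rfl
    · exfalso
      apply hs1
      obtain ⟨K2, hK2⟩ : ∃ K2 : Subgroup G, K2 = (Cfsg.pCore 2 (G ⧸ Q)).comap (QuotientGroup.mk' Q) :=
        ⟨_, rfl⟩
      haveI hK2n : K2.Normal := by rw [hK2]; infer_instance
      have hK2p : IsPGroup 2 K2 := by
        rw [hK2]
        apply (Cfsg.Agent.Lib.Helper7.pCore_isPGroup 2 (G ⧸ Q)).comap_of_ker_isPGroup
        rw [QuotientGroup.ker_mk']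
        exact hQp
      have hK2Q : K2 ≤ Q := by rw [hQdef]; exact le_pCore hK2n hK2p
      rw [eq_bot_iff]
      intro y hy
      obtain ⟨k, rfl⟩ := QuotientGroup.mk'_surjective Q y
      rw [Subgroup.mem_bot]
      apply (hmk1 k).mpr
      apply hK2Q
      rw [hK2, Subgroup.mem_comap]
      exact hy
    · rw [hWdef]; exact hs1
  have hWcard : Nat.card W = 3 := by
    obtain ⟨n, hn⟩ := IsPGroup.iff_card.mp hWp
    have hdvd : 3 ^ n ∣ Nat.card G :=
      (hn ▸ Subgroup.card_subgroup_dvd_card W).trans (Subgroup.card_quotient_dvd_card Q)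
    rcases n with _ | _ | n
    · exfalso
      rw [pow_zero] at hn
      exact hW1 (Subgroup.card_eq_one.mp hn)
    · rw [hn]; norm_num
    · exfalso
      apply h9
      have : (9 : ℕ) ∣ 3 ^ (n + 1 + 1) := ⟨3 ^ n, by ring⟩
      exact this.trans hdvd
  obtain ⟨w0, hw0⟩ := exists_prime_orderOf_dvd_card' 3 (by rw [hWcard] : 3 ∣ Nat.card W)
  obtain ⟨w, hw⟩ : ∃ w : G ⧸ Q, w = (w0 : G ⧸ Q) := ⟨_, rfl⟩
  have hwW : w ∈ W := hw ▸ w0.2
  have hwo : orderOf w = 3 := by rw [hw, Subgroup.orderOf_coe, hw0]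
  have hw1 : w ≠ 1 := by
    intro h1
    rw [h1, orderOf_one] at hwo
    omega
  have hw3 : w ^ 3 = 1 := by rw [← hwo]; exact pow_orderOf_eq_one w
  obtain ⟨hcentW, hcases⟩ := quot_card hY W hWdef hWcard w hwW hw1
  rcases hcases with hc3 | ⟨hc6, y0, hy0⟩
  · -- `G ⧸ Q` has order 3
    left
    have hg4Q : g4 ∈ Q := by
      rw [← hmk1]
      have h1 : (QuotientGroup.mk' Q g4) ^ 4 = 1 := by rw [← map_pow, hg44, map_one]
      have h2 : (QuotientGroup.mk' Q g4) ^ 3 = 1 := by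
        rw [← hc3]; exact pow_card_eq_one'
      calc QuotientGroup.mk' Q g4 = (QuotientGroup.mk' Q g4) ^ 4 * ((QuotientGroup.mk' Q g4) ^ 3)⁻¹ := by
            group
        _ = 1 := by rw [h1, h2]; simp
    refine ⟨hQp, ?_, ?_, hc3⟩
    · apply Nat.dvd_antisymm
      · apply Monoid.exponent_dvd_of_forall_pow_eq_one
        intro x
        exact Subtype.ext (by simpa using hQ4 x x.2)
      · have h1 : orderOf (⟨g4, hg4Q⟩ : ↥Q) = 4 := by rw [Subgroup.orderOf_mk, h4]
        rw [← h1]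
        exact Monoid.order_dvd_exponent _
    · obtain ⟨σ, hσ⟩ : ∃ σ : MulAut ↥Q, σ = MulAut.conjNormal g3 := ⟨_, rfl⟩
      have hσ3 : σ ^ 3 = 1 := by rw [hσ, ← map_pow, hg33, map_one]
      have hσfpf : ∀ x : ↥Q, σ x = x → x = 1 := by
        intro x hx
        have h1 : g3 * (x : G) * g3⁻¹ = x := by
          rw [hσ] at hx
          have := congrArg Subtype.val hx
          rwa [MulAut.conjNormal_apply] at this
        exact Subtype.ext (hfix3 g3 hg33 hg31 x x.2 h1)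
      exact (Cfsg.Agent.H1.FpfThree.nilpotencyClass_le_two 2 (by norm_num) hQp σ hσ3 hσfpf).2
  · -- `G ⧸ Q` has order 6
    right
    refine ⟨?_, Cfsg.Agent.S4062.mulEquiv_perm_three hc6 ⟨y0, w, hy0⟩⟩
    -- lift `w`
    obtain ⟨a, ha⟩ := QuotientGroup.mk'_surjective Q w
    have ha3 : a ^ 3 = 1 := by
      rcases h a with h1 | h1
      · exfalso
        apply hw1
        have h2 : w ^ 4 = 1 := by rw [← ha, ← map_pow, h1, map_one]
        calc w = w ^ 4 * (w ^ 3)⁻¹ := by group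
          _ = 1 := by rw [h2, hw3]; simp
      · exact h1
    have ha1 : a ≠ 1 := by
      rintro rfl
      exact hw1 (by rw [← ha, map_one])
    have hao : orderOf a = 3 := orderOf_eq_prime ha3 ha1
    have hainv : a⁻¹ = a * a := by
      rw [inv_eq_iff_mul_eq_one]
      calc a * (a * a) = a ^ 3 := by rw [pow_succ, pow_two, mul_assoc]
        _ = 1 := ha3
    -- the Sylow subgroup
    have hzp : IsPGroup 3 (Subgroup.zpowers a) :=
      IsPGroup.of_card (n := 1) (by rw [Nat.card_zpowers, hao, pow_one])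
    obtain ⟨P, hP⟩ := hzp.exists_le_sylow
    have hPeq : Subgroup.zpowers a = (P : Subgroup G) := by
      apply Subgroup.eq_of_le_of_card_ge hP
      rw [hR3 P, Nat.card_zpowers, hao]
    obtain ⟨K, hKdef⟩ : ∃ K : Subgroup G, K = W.comap (QuotientGroup.mk' Q) := ⟨_, rfl⟩
    haveI hKn : K.Normal := by rw [hKdef]; infer_instance
    have hKmem : ∀ k : G, k ∈ K ↔ QuotientGroup.mk' Q k ∈ W := by
      intro k; rw [hKdef, Subgroup.mem_comap]
    have hPK : (P : Subgroup G) ≤ K := by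
      rw [← hPeq, Subgroup.zpowers_le, hKmem, ha]
      exact hwW
    have hfrat : Subgroup.normalizer ((P : Subgroup G) : Set G) ⊔ K = ⊤ := by
      have := Sylow.normalizer_sup_eq_top (P.subtype hPK)
      rwa [Sylow.coe_subtype, Subgroup.map_subgroupOf_eq_of_le hPK] at this
    -- an involution of the quotient
    obtain ⟨tb, htb⟩ := exists_prime_orderOf_dvd_card' (G := G ⧸ Q) 2 (by rw [hc6]; norm_num)
    have htb2 : tb ^ 2 = 1 := by rw [← htb]; exact pow_orderOf_eq_one tb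
    have htb1 : tb ≠ 1 := by
      intro h1
      rw [h1, orderOf_one] at htb
      omega
    have hinvW : ∀ u : G ⧸ Q, u ^ 2 = 1 → u ∈ W → u = 1 := by
      intro u hu2 huW
      have hu3 := hY.pow_three_of_three hWp huW
      calc u = u ^ 3 * (u ^ 2)⁻¹ := by group
        _ = 1 := by rw [hu3, hu2]; simp
    obtain ⟨t0, ht0⟩ := QuotientGroup.mk'_surjective Q tb
    have ht0mem : t0 ∈ (↑(Subgroup.normalizer ((P : Subgroup G) : Set G) ⊔ K) : Set G) := by
      rw [hfrat]; exact Subgroup.mem_top t0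
    rw [Subgroup.mul_normal] at ht0mem
    obtain ⟨n, hn, k, hk, hnk⟩ := Set.mem_mul.mp ht0mem
    have hnW : QuotientGroup.mk' Q n ∉ W := by
      intro hnW
      apply htb1
      apply hinvW tb htb2
      rw [← ht0, ← hnk, map_mul]
      exact W.mul_mem hnW ((hKmem k).mp hk)
    have hna : n * a * n⁻¹ = a⁻¹ := by
      have hmem : n * a * n⁻¹ ∈ Subgroup.zpowers a := by
        rw [hPeq]
        exact (Subgroup.mem_normalizer_iff.mp hn a).mp (hPeq ▸ Subgroup.mem_zpowers a)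
      rcases zpowers_three ha3 hmem with h1 | h1 | h1
      · exfalso
        apply ha1
        calc a = n⁻¹ * (n * a * n⁻¹) * n := by group
          _ = 1 := by rw [h1]; group
      · exfalso
        apply hnW
        apply hcentW
        rw [← ha, ← map_mul, ← map_mul]
        congr 1
        calc n * a = (n * a * n⁻¹) * n := by group
          _ = a * n := by rw [h1]
      · exact h1
    have hn2 : n ^ 2 = 1 := by
      have hcomm : Commute a (n ^ 2) := by
        show a * n ^ 2 = n ^ 2 * a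
        have h1 : n ^ 2 * a * (n ^ 2)⁻¹ = a := by
          calc n ^ 2 * a * (n ^ 2)⁻¹ = n * (n * a * n⁻¹) * n⁻¹ := by rw [pow_two]; group
            _ = n * a⁻¹ * n⁻¹ := by rw [hna]
            _ = (n * a * n⁻¹)⁻¹ := by group
            _ = a := by rw [hna, inv_inv]
        calc a * n ^ 2 = (n ^ 2 * a * (n ^ 2)⁻¹)  * n ^ 2 := by rw [h1]
          _ = n ^ 2 * a := by group
      obtain ⟨j, hj⟩ := hE.pow_of_commute Nat.prime_three hao hcomm
      have hj' : (n ^ 2) ^ (3 ^ j) = 1 := by rw [← hj]; exact pow_orderOf_eq_one _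
      rcases h n with h1 | h1
      · apply eq_one_of_pow_four_of_three_pow _ hj'
        rw [← pow_mul, show 2 * 4 = 4 * 2 by norm_num, pow_mul, h1, one_pow]
      · exfalso
        have h2 : n = (n ^ 2)⁻¹ := by
          calc n = n ^ 3 * (n ^ 2)⁻¹ := by group
            _ = (n ^ 2)⁻¹ := by rw [h1, one_mul]
        have h3 : Commute a n := by
          rw [h2]; exact hcomm.inv_right
        have h4 : n * a * n⁻¹ = a := by
          rw [← h3.eq]; group
        rw [hna] at h4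
        apply ha1
        calc a = a ^ 3 * (a⁻¹ * a⁻¹) := by group
          _ = a ^ 3 * (a * a⁻¹) := by rw [h4]
          _ = 1 := by rw [ha3]; group
    -- the hypotheses of the `S_3`-action lemma
    have hyp : Cfsg.Agent.H1.S3Act.Hyp Q a := by
      refine ⟨hQp, ha3, hfix3 a ha3 ha1, hQ4, ?_⟩
      intro s hs2 hsa f hf
      rcases h (s * f) with h1 | h1
      · exact h1
      · exfalso
        have hsb : QuotientGroup.mk' Q (s * f) = QuotientGroup.mk' Q s := by
          rw [map_mul, (hmk1 f).mpr hf, mul_one]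
        have hs3 : (QuotientGroup.mk' Q s) ^ 3 = 1 := by
          rw [← hsb, ← map_pow, h1, map_one]
        have hs2' : (QuotientGroup.mk' Q s) ^ 2 = 1 := by rw [← map_pow, hs2, map_one]
        have hsQ : s ∈ Q := by
          rw [← hmk1]
          calc QuotientGroup.mk' Q s = (QuotientGroup.mk' Q s) ^ 3 * ((QuotientGroup.mk' Q s) ^ 2)⁻¹ := by
                group
            _ = 1 := by rw [hs3, hs2']; simp
        have haQ : a ∈ Q := by
          have h2 : s * (a * s⁻¹ * a⁻¹) ∈ Q :=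
            Q.mul_mem hsQ (hQn.conj_mem s⁻¹ (Q.inv_mem hsQ) a)
          have h3 : s * (a * s⁻¹ * a⁻¹) = a := by
            calc s * (a * s⁻¹ * a⁻¹) = (s * a * s⁻¹) * a⁻¹ := by group
              _ = a⁻¹ * a⁻¹ := by rw [hsa]
              _ = a ^ 3 * (a⁻¹ * a⁻¹) := by rw [ha3, one_mul]
              _ = a := by group
          rwa [h3] at h2
        exact ha1 (h3Q a ha3 haQ)
    have hsq := hyp.sq_eq_one n hn2 hna
    refine ⟨⟨⟨fun x y => Subtype.ext ?_⟩⟩, hsq⟩
    have hx2 := hsq x x.2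
    have hy2 := hsq y y.2
    have hxy2 := hsq (x * y) (Q.mul_mem x.2 y.2)
    show (x : G) * (y : G) = (y : G) * (x : G)
    have hxi : (x : G)⁻¹ = x := by rw [inv_eq_iff_mul_eq_one, ← pow_two]; exact hx2
    have hyi : (y : G)⁻¹ = y := by rw [inv_eq_iff_mul_eq_one, ← pow_two]; exact hy2
    have hxyi : ((x : G) * y)⁻¹ = x * y := by rw [inv_eq_iff_mul_eq_one, ← pow_two]; exact hxy2
    rw [mul_inv_rev, hxi, hyi] at hxyi
    exact hxyi.symm

end Cfsg.Agent.H1.OrdersLeFour
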