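import Mathlib
import Cfsg.Agent.H1.MinNonPClosed2
import Cfsg.Agent.S3868

set_option autoImplicit false
open scoped Pointwise commutatorElement

namespace Cfsg.Agent.H1

universe u

/-- every `p`-element has order dividing `p` -/
def PExpOne (p : ℕ) (K : Type*) [Group K] : Prop := ∀ g : K, (∃ k : ℕ, g ^ p ^ k = 1) → g ^ p = 1

lemma isPClosed_of_pExpClosed {K : Type*} [Group K] [Finite K] {p : ℕ} [Fact p.Prime] (h1 : PExpOne p K)
    (H : Subgroup K) (hH : (H : Set K) = {g : K | g ^ p = 1}) : Cfsg.IsPClosed p K := by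
  intro S
  have hmem : ∀ g : K, g ∈ H ↔ g ^ p = 1 := by
    intro g
    rw [← SetLike.mem_coe, hH]; rfl
  have hHp : IsPGroup p H := fun g => ⟨1, by
    rw [pow_one]; apply Subtype.ext
    exact (hmem g).mp g.2⟩
  have hSH : (S : Subgroup K) ≤ H := by
    intro s hs
    rw [hmem]
    apply h1
    obtain ⟨k, hk⟩ := S.isPGroup' ⟨s, hs⟩
    exact ⟨k, congrArg Subtype.val hk⟩
  have hHS : H = S := S.is_maximal' hHp hSH
  rw [← hHS]
  constructor
  intro h hh g
  rw [hmem] at hh ⊢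
  rw [conj_pow, hh, mul_one, mul_inv_cancel]

lemma pExpClosed_of_isPClosed {K : Type*} [Group K] [Finite K] {p : ℕ} [Fact p.Prime] (h1 : PExpOne p K)
    (h : Cfsg.IsPClosed p K) : ∃ H : Subgroup K, (H : Set K) = {g : K | g ^ p = 1} := by
  obtain ⟨S⟩ : Nonempty (Sylow p K) := inferInstance
  refine ⟨S, ?_⟩
  ext g
  constructor
  · intro hg
    apply h1
    obtain ⟨k, hk⟩ := S.isPGroup' ⟨g, hg⟩
    exact ⟨k, congrArg Subtype.val hk⟩
  · intro hg
    have hg' : g ^ p = 1 := hg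
    have hz : IsPGroup p (Subgroup.zpowers g) := by
      rintro ⟨x, hx⟩
      obtain ⟨n, rfl⟩ := Subgroup.mem_zpowers_iff.mp hx
      refine ⟨1, ?_⟩
      apply Subtype.ext
      show (g ^ n) ^ p ^ 1 = 1
      rw [pow_one, ← zpow_natCast, ← zpow_mul, mul_comm, zpow_mul, zpow_natCast, hg', one_zpow]
    obtain ⟨S', hS'⟩ := hz.exists_le_sylow
    have hSS' : S' = S := by
      obtain ⟨c, rfl⟩ := MulAction.exists_smul_eq K S S'
      have := h S
      exact Sylow.smul_eq_of_normal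
    rw [← hSS']
    exact hS' (Subgroup.mem_zpowers g)

lemma pExpOne_subgroup {G : Type*} [Group G] {p : ℕ} (h : PExpOne p G) (K : Subgroup G) : PExpOne p K := by
  rintro g ⟨k, hk⟩
  apply Subtype.ext
  exact h (g : G) ⟨k, congrArg Subtype.val hk⟩

lemma pExpOne_quotient {G : Type*} [Group G] [Finite G] {p : ℕ} [Fact p.Prime] (h : PExpOne p G)
    (M : Subgroup G) [M.Normal] : PExpOne p (G ⧸ M) := by
  rintro g ⟨k, hk⟩
  have hz : IsPGroup p (Subgroup.zpowers g) := by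
    rintro ⟨x, hx⟩
    obtain ⟨n, rfl⟩ := Subgroup.mem_zpowers_iff.mp hx
    refine ⟨k, ?_⟩
    apply Subtype.ext
    show (g ^ n) ^ p ^ k = 1
    rw [← zpow_natCast, ← zpow_mul, mul_comm, zpow_mul, zpow_natCast, hk, one_zpow]
  obtain ⟨S', hS'⟩ := hz.exists_le_sylow
  obtain ⟨S, rfl⟩ := Sylow.mapSurjective_surjective (QuotientGroup.mk'_surjective M) p S'
  have hg := hS' (Subgroup.mem_zpowers g)
  rw [Sylow.coe_mapSurjective] at hg
  obtain ⟨s, hs, rfl⟩ := hg
  obtain ⟨j, hj⟩ := S.isPGroup' ⟨s, hs⟩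
  have := h s ⟨j, congrArg Subtype.val hj⟩
  rw [← map_pow, this, map_one]

end Cfsg.Agent.H1

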