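import Mathlib
import Cfsg.Agent.S0079
import Cfsg.Agent.H1.SylowMore
import Cfsg.Agent.H1.BaerSuzuki
import Cfsg.Agent.H1.SZConj

set_option autoImplicit false
set_option linter.style.haveILetI false
set_option linter.unusedVariables false
open scoped Pointwise commutatorElement

namespace Cfsg.Agent.H1

open Cfsg Cfsg.Agent.Lib.Lead.Frobenius Cfsg.Agent.Lib.Lead.NormalPComplement Cfsg.Agent.Lib.Helper4.Nilpotent
open Cfsg.Agent.S0079

universe u

/-- variant of S0079 (lead): a nilpotent Hall subgroup controlling fusion of its elements of prime power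
order has a normal complement -/
theorem normal_complement_of_pfusion {G : Type u} [Group G] [Finite G] (H : Subgroup G) (hH : Group.IsNilpotent H)
    (hHall : Nat.Coprime (Nat.card H) H.index)
    (hfus : ∀ p : ℕ, p.Prime → ∀ x ∈ H, ∀ y ∈ H, (∃ k : ℕ, x ^ p ^ k = 1) → (∃ g : G, g * x * g⁻¹ = y) →
      ∃ h ∈ H, h * x * h⁻¹ = y) :
    ∃ N : Subgroup G, N.Normal ∧ N.IsComplement' H := by
  have hstep : ∀ p ∈ (Nat.card ↥H).primeFactors, p.Prime ∧ ∃ N : Subgroup G, N.Normal ∧
      (Nat.card ↥N).Coprime p ∧ ∃ k : ℕ, N.index = p ^ k := by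
    intro p hp
    have hpp : p.Prime := Nat.prime_of_mem_primeFactors hp
    haveI : Fact p.Prime := ⟨hpp⟩
    refine ⟨hpp, ?_⟩
    have hpH : p ∣ Nat.card ↥H := Nat.dvd_of_mem_primeFactors hp
    obtain ⟨PH⟩ : Nonempty (Sylow p ↥H) := inferInstance
    set P0 : Subgroup G := (PH : Subgroup ↥H).map H.subtype with hP0
    have hidx : ¬ p ∣ H.index := by
      intro hd
      have := Nat.Coprime.eq_one_of_dvd (Nat.Coprime.coprime_dvd_left hpH hHall) hd
      exact hpp.ne_one this
    have hfac : (Nat.card G).factorization p = (Nat.card ↥H).factorization p := by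
      rw [← H.card_mul_index, Nat.factorization_mul Nat.card_pos.ne' Subgroup.index_ne_zero_of_finite]
      simp [Nat.factorization_eq_zero_of_not_dvd hidx]
    have hcard : Nat.card ↥P0 = p ^ (Nat.card G).factorization p := by
      rw [hP0, Subgroup.card_map_of_injective H.subtype_injective, hfac]
      exact PH.card_eq_multiplicity
    set P : Sylow p G := Sylow.ofCard P0 hcard with hP
    have hPcoe : (P : Subgroup G) = P0 := Sylow.coe_ofCard P0 hcard
    have hctl : Controls (P : Subgroup G) := by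
      intro x hx g hgx
      rw [hPcoe] at hx hgx ⊢
      obtain ⟨x', hx', rfl⟩ := hx
      obtain ⟨y', hy', hy'e⟩ := hgx
      have hxpow : ∃ k : ℕ, (x' : G) ^ p ^ k = 1 := by
        obtain ⟨k, hk⟩ := PH.isPGroup' ⟨x', hx'⟩
        refine ⟨k, ?_⟩
        have := congrArg (fun z : (PH : Subgroup H) => ((z : H) : G)) hk
        simpa using this
      obtain ⟨h, hh, hhx⟩ := hfus p hpp (x' : G) x'.2 (g * (x' : G) * g⁻¹) (hy'e ▸ y'.2) hxpow ⟨g, rfl⟩
      obtain ⟨s, c, k, m, hsc, hs, hc, hm⟩ := exists_parts p (⟨h, hh⟩ : ↥H)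
      have hsP : s ∈ (PH : Subgroup ↥H) := mem_sylow_of_pow_eq_one PH s k hs
      have hcx : c * x' = x' * c := by
        apply commute_of_coprime_orderOf ↥H
        obtain ⟨j, hj⟩ := (IsPGroup.iff_orderOf.mp PH.isPGroup') ⟨x', hx'⟩
        rw [Subgroup.orderOf_mk] at hj
        rw [hj]
        apply Nat.Coprime.pow_right
        exact Nat.Coprime.coprime_dvd_left (orderOf_dvd_of_pow_eq_one hc)
          ((Nat.Prime.coprime_iff_not_dvd hpp).2 hm).symm
      refine ⟨(s : G), ⟨s, hsP, rfl⟩, ?_⟩
      change (s : G) * (x' : G) * (s : G)⁻¹ = g * (x' : G) * g⁻¹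
      rw [← hhx]
      have e1 : h = (s : G) * (c : G) := by
        have := congrArg Subtype.val hsc
        simpa using this
      have e2 : (c : G) * (x' : G) = (x' : G) * (c : G) := by
        have := congrArg Subtype.val hcx
        simpa using this
      rw [e1]
      calc (s : G) * (x' : G) * (s : G)⁻¹ = (s : G) * ((x' : G) * (c : G)) * (c : G)⁻¹ * (s : G)⁻¹ := by
            group
        _ = (s : G) * ((c : G) * (x' : G)) * (c : G)⁻¹ * (s : G)⁻¹ := by rw [e2]
        _ = (s : G) * (c : G) * (x' : G) * ((s : G) * (c : G))⁻¹ := by group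
    exact exists_normal_of_hasNormalPComplement (hasNormalPComplement_of_controls P hctl)
  obtain ⟨N, hN, h1, h2⟩ := exists_normal_inf _ hstep
  refine ⟨N, hN, ?_⟩
  have hcop : Nat.Coprime (Nat.card ↥N) (Nat.card ↥H) := by
    apply Nat.coprime_of_dvd
    intro q hq hqN hqH
    have hmem : q ∈ (Nat.card ↥H).primeFactors :=
      Nat.mem_primeFactors.2 ⟨hq, hqH, Nat.card_pos.ne'⟩
    have := Nat.Coprime.eq_one_of_dvd (Nat.Coprime.coprime_dvd_left hqN (h1 q hmem)) (dvd_refl q)
    exact hq.ne_one this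
  have hcop2 : Nat.Coprime N.index H.index := by
    apply Nat.coprime_of_dvd
    intro q hq hqN hqH
    have hmem := h2 q hq hqN
    have hqH' : q ∣ Nat.card ↥H := Nat.dvd_of_mem_primeFactors hmem
    have := Nat.Coprime.eq_one_of_dvd (Nat.Coprime.coprime_dvd_left hqH' hHall) hqH
    exact hq.ne_one this
  have e1 := N.card_mul_index
  have e2 := H.card_mul_index
  have d1 : Nat.card ↥N ∣ H.index := by
    have : Nat.card ↥N ∣ Nat.card ↥H * H.index := by rw [e2, ← e1]; exact dvd_mul_right _ _
    exact hcop.dvd_of_dvd_mul_left this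
  have d2 : H.index ∣ Nat.card ↥N := by
    have : H.index ∣ Nat.card ↥N * N.index := by rw [e1, ← e2]; exact dvd_mul_left _ _
    exact hcop2.symm.dvd_of_dvd_mul_right this
  have e3 : Nat.card ↥N = H.index := Nat.dvd_antisymm d1 d2
  apply Subgroup.isComplement'_of_coprime
  · rw [e3, mul_comm]; exact e2
  · exact hcop

end Cfsg.Agent.H1

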