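import Mathlib
import Cfsg.Prelude.Def_Solvable
import Cfsg.Agent.Lib.Lead.PiCore
import Cfsg.Agent.Lib.Helper7.Core
import Cfsg.Agent.H1.Cores
import Cfsg.Agent.H1.GruenbergKegel

set_option maxHeartbeats 800000

namespace Cfsg.Agent.H1

open Cfsg.Agent.Lib.Lead.PiCore

namespace TwoLen

/-- `M` has a normal 2-complement (internal form) -/
def TwoNilp {G : Type*} [Group G] (M : Subgroup G) : Prop :=
  ∃ K : Subgroup G, K ≤ M ∧ (∀ m ∈ M, ∀ k ∈ K, m * k * m⁻¹ ∈ K) ∧ Odd (Nat.card K) ∧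
    ∃ k : ℕ, K.relIndex M = 2 ^ k

def Hyp (G : Type*) [Group G] : Prop :=
  ∀ M : Subgroup G, IsCoatom M → TwoNilp M ∨ M.index.Prime

def Chain (G : Type*) [Group G] : Prop :=
  ∃ A B C : Subgroup G, A.Normal ∧ B.Normal ∧ C.Normal ∧ A ≤ B ∧ B ≤ C ∧ Odd (Nat.card A) ∧
    (∃ k : ℕ, A.relIndex B = 2 ^ k) ∧ Odd (B.relIndex C) ∧ ∃ k : ℕ, C.index = 2 ^ k

lemma hyp_quotient {G : Type*} [Group G] [Finite G] (N : Subgroup G) [N.Normal] (h : Hyp G) :
    Hyp (G ⧸ N) := by
  intro Mb hMb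
  have hsurj := QuotientGroup.mk'_surjective N
  have hM := Subgroup.isCoatom_comap_of_surjective hsurj hMb
  have hmap : (Mb.comap (QuotientGroup.mk' N)).map (QuotientGroup.mk' N) = Mb :=
    Subgroup.map_comap_eq_self_of_surjective hsurj Mb
  rcases h _ hM with ⟨K, hKM, hnorm, hodd, k, hk⟩ | hprime
  · left
    refine ⟨K.map (QuotientGroup.mk' N), ?_, ?_, ?_, ?_⟩
    · rw [Subgroup.map_le_iff_le_comap]; exact hKM
    · intro mb hmb kb hkb
      obtain ⟨m, rfl⟩ := hsurj mb
      obtain ⟨x, hx, rfl⟩ := Subgroup.mem_map.mp hkb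
      have hm : m ∈ Mb.comap (QuotientGroup.mk' N) := hmb
      refine Subgroup.mem_map.mpr ⟨m * x * m⁻¹, hnorm m hm x hx, ?_⟩
      rw [map_mul, map_mul, map_inv]
    · exact Odd.of_dvd_nat hodd (Subgroup.card_map_dvd _ _)
    · have h1 : (K.map (QuotientGroup.mk' N)).relIndex Mb ∣ 2 ^ k := by
        rw [← hk]
        conv_lhs => rw [← hmap]
        rw [Subgroup.relIndex_map_map]
        have hker : (QuotientGroup.mk' N).ker ≤ Mb.comap (QuotientGroup.mk' N) :=
          Subgroup.ker_le_comap _ _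
        rw [sup_eq_left.mpr hker]
        exact Subgroup.relIndex_dvd_of_le_left _ le_sup_left
      obtain ⟨j, -, hj⟩ := (Nat.dvd_prime_pow Nat.prime_two).mp h1
      exact ⟨j, hj⟩
  · right
    rwa [Subgroup.index_comap_of_surjective _ hsurj] at hprime

lemma card_comap_mk {G : Type*} [Group G] [Finite G] (N : Subgroup G) [N.Normal]
    (Ab : Subgroup (G ⧸ N)) :
    Nat.card (Ab.comap (QuotientGroup.mk' N)) = Nat.card N * Nat.card Ab := by
  have hsurj := QuotientGroup.mk'_surjective N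
  have hle : N ≤ Ab.comap (QuotientGroup.mk' N) := by
    have := Subgroup.ker_le_comap (QuotientGroup.mk' N) Ab
    rwa [QuotientGroup.ker_mk'] at this
  have h1 := Subgroup.relIndex_mul_relIndex (⊥ : Subgroup G) N _ bot_le hle
  rw [Subgroup.relIndex_bot_left, Subgroup.relIndex_bot_left] at h1
  have h2 := Subgroup.relIndex_ker (QuotientGroup.mk' N) (K := Ab.comap (QuotientGroup.mk' N))
  rw [QuotientGroup.ker_mk', Subgroup.map_comap_eq_self_of_surjective hsurj] at h2
  rw [← h1, h2]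

lemma relIndex_comap_mk {G : Type*} [Group G] (N : Subgroup G) [N.Normal]
    (Ab Bb : Subgroup (G ⧸ N)) :
    (Ab.comap (QuotientGroup.mk' N)).relIndex (Bb.comap (QuotientGroup.mk' N)) =
      Ab.relIndex Bb := by
  rw [Subgroup.relIndex_comap,
    Subgroup.map_comap_eq_self_of_surjective (QuotientGroup.mk'_surjective N)]

lemma chain_lift_odd {G : Type*} [Group G] [Finite G] (N : Subgroup G) [N.Normal]
    (hN : Odd (Nat.card N)) (h : Chain (G ⧸ N)) : Chain G := by
  obtain ⟨A, B, C, hA, hB, hC, hAB, hBC, hoddA, ⟨k, hk⟩, hoddBC, ⟨l, hl⟩⟩ := h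
  refine ⟨A.comap (QuotientGroup.mk' N), B.comap (QuotientGroup.mk' N),
    C.comap (QuotientGroup.mk' N), hA.comap _, hB.comap _, hC.comap _,
    Subgroup.comap_mono hAB, Subgroup.comap_mono hBC, ?_, ⟨k, ?_⟩, ?_, ⟨l, ?_⟩⟩
  · rw [card_comap_mk]; exact hN.mul hoddA
  · rw [relIndex_comap_mk]; exact hk
  · rw [relIndex_comap_mk]; exact hoddBC
  · rw [Subgroup.index_comap_of_surjective _ (QuotientGroup.mk'_surjective N)]; exact hl

lemma chain_lift_two {G : Type*} [Group G] [Finite G] (N : Subgroup G) [N.Normal]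
    (j : ℕ) (hN : Nat.card N = 2 ^ j)
    (h : ∃ B C : Subgroup (G ⧸ N), B.Normal ∧ C.Normal ∧ B ≤ C ∧ (∃ k : ℕ, Nat.card B = 2 ^ k) ∧
      Odd (B.relIndex C) ∧ ∃ k : ℕ, C.index = 2 ^ k) : Chain G := by
  obtain ⟨B, C, hB, hC, hBC, ⟨k, hk⟩, hoddBC, ⟨l, hl⟩⟩ := h
  refine ⟨⊥, B.comap (QuotientGroup.mk' N), C.comap (QuotientGroup.mk' N), inferInstance,
    hB.comap _, hC.comap _, bot_le, Subgroup.comap_mono hBC, ?_, ⟨j + k, ?_⟩, ?_, ⟨l, ?_⟩⟩
  · rw [Subgroup.card_bot]; exact odd_one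
  · rw [Subgroup.relIndex_bot_left, card_comap_mk, hN, hk, pow_add]
  · rw [relIndex_comap_mk]; exact hoddBC
  · rw [Subgroup.index_comap_of_surjective _ (QuotientGroup.mk'_surjective N)]; exact hl


universe u

theorem chain_of_hyp : ∀ (n : ℕ) (G : Type u) [Group G] [Finite G], Nat.card G = n →
    Group.IsSolvable G → Hyp G → Chain G := by
  intro n
  induction n using Nat.strong_induction_on with
  | _ n ih =>
  intro G _ _ hcard hsol hyp
  haveI := hsol
  classical
  by_cases hG1 : Subsingleton G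
  · refine ⟨⊥, ⊥, ⊥, inferInstance, inferInstance, inferInstance, le_rfl, le_rfl, ?_, ⟨0, ?_⟩, ?_,
      ⟨0, ?_⟩⟩
    · rw [Subgroup.card_bot]; exact odd_one
    · rw [Subgroup.relIndex_self]; rfl
    · rw [Subgroup.relIndex_self]; exact odd_one
    · rw [Subgroup.index_bot, pow_zero]; exact Nat.card_of_subsingleton 1
  rw [not_subsingleton_iff_nontrivial] at hG1
  haveI := hG1
  obtain ⟨O, hOdef⟩ : ∃ O : Subgroup G, O = Cfsg.pPrimeCore 2 G := ⟨_, rfl⟩
  haveI hOn : O.Normal := by rw [hOdef]; exact Cfsg.Agent.H1.pPrimeCore_normal 2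
  have hOodd : Odd (Nat.card O) := by
    rw [hOdef]
    exact Nat.coprime_two_right.mp (Cfsg.Agent.H1.pPrimeCore_coprime (G := G) 2)
  have hO_max : ∀ X : Subgroup G, X.Normal → Odd (Nat.card X) → X ≤ O := by
    intro X hX ho
    rw [hOdef]
    exact Cfsg.Agent.H1.le_pPrimeCore hX (Nat.coprime_two_right.mpr ho)
  have hquot_lt : ∀ X : Subgroup G, X.Normal → X ≠ ⊥ → Nat.card (G ⧸ X) < n := by
    intro X _ hX1
    rw [← hcard, ← Subgroup.index_eq_card, ← Subgroup.card_mul_index X]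
    have h1 : 1 < Nat.card X := by
      rw [Finite.one_lt_card_iff_nontrivial]
      exact (Subgroup.nontrivial_iff_ne_bot X).mpr hX1
    have h2 : 0 < X.index := Nat.pos_of_ne_zero Subgroup.index_ne_zero_of_finite
    nlinarith
  by_cases hO1 : O = ⊥
  swap
  · exact chain_lift_odd O hOodd
      (ih _ (hquot_lt O hOn hO1) (G ⧸ O) rfl inferInstance (hyp_quotient O hyp))
  -- now O = ⊥
  obtain ⟨q, hq, hq1⟩ := exists_pCore_ne_bot G
  have hq2 : q = 2 := by
    by_contra hne
    apply hq1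
    haveI := Fact.mk hq
    have hodd : Odd (Nat.card (Cfsg.pCore q G)) := by
      obtain ⟨i, hi⟩ := IsPGroup.iff_card.mp (pCore_isPGroup (G := G) q)
      rw [hi]
      exact (hq.odd_of_ne_two hne).pow
    have hle : Cfsg.pCore q G ≤ O := hO_max _ inferInstance hodd
    rw [hO1] at hle
    exact le_bot_iff.mp hle
  subst hq2
  obtain ⟨P, hPdef⟩ : ∃ P : Subgroup G, P = Cfsg.pCore 2 G := ⟨_, rfl⟩
  haveI hPn : P.Normal := by rw [hPdef]; infer_instance
  have hP2 : IsPGroup 2 P := by rw [hPdef]; exact pCore_isPGroup 2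
  have hP1 : P ≠ ⊥ := by rw [hPdef]; exact hq1
  haveI : Fact (Nat.Prime 2) := ⟨Nat.prime_two⟩
  haveI hPnt : Nontrivial P := (Subgroup.nontrivial_iff_ne_bot P).mpr hP1
  obtain ⟨Z, hZdef⟩ : ∃ Z : Subgroup G, Z = (Subgroup.center P).map P.subtype := ⟨_, rfl⟩
  haveI hZn : Z.Normal := by
    rw [hZdef]; exact ConjAct.normal_of_characteristic_of_normal
  have hZ1 : Z ≠ ⊥ := by
    rw [hZdef]
    intro hbot
    rw [Subgroup.map_eq_bot_iff_of_injective _ P.subtype_injective] at hbot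
    haveI := hP2.center_nontrivial
    exact (Subgroup.nontrivial_iff_ne_bot _).mp inferInstance hbot
  have hZP : Z ≤ P := by rw [hZdef]; exact Subgroup.map_subtype_le _
  have hZc : ∀ x ∈ Z, ∀ y ∈ P, x * y = y * x := by
    intro x hx y hy
    rw [hZdef] at hx
    obtain ⟨c, hc, rfl⟩ := Subgroup.mem_map.mp hx
    have := Subgroup.mem_center_iff.mp hc ⟨y, hy⟩
    exact (congrArg Subtype.val this).symm
  -- minimal normal subgroup inside Z
  obtain ⟨N, ⟨hNn, hN1, hNZ⟩, hNmin⟩ := Set.exists_min_image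
    {X : Subgroup G | X.Normal ∧ X ≠ ⊥ ∧ X ≤ Z} (fun X => Nat.card X) (Set.toFinite _)
    ⟨Z, hZn, hZ1, le_rfl⟩
  haveI := hNn
  have hNminimal : ∀ X : Subgroup G, X.Normal → X ≤ N → X = ⊥ ∨ X = N := by
    intro X hXn hXN
    by_cases hX1 : X = ⊥
    · exact Or.inl hX1
    · right
      exact Subgroup.eq_of_le_of_card_ge hXN (hNmin X ⟨hXn, hX1, hXN.trans hNZ⟩)
  have hNP : N ≤ P := hNZ.trans hZP
  have hN2 : IsPGroup 2 N := hP2.to_le hNP
  obtain ⟨j, hj⟩ := IsPGroup.iff_card.mp hN2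
  have hNab : ∀ x ∈ N, ∀ y ∈ N, x * y = y * x := fun x hx y hy => hZc x (hNZ hx) y (hNP hy)
  -- induction on the quotient
  obtain ⟨Ab, Bb, Cb, hAb, hBb, hCb, hABb, hBCb, hoddAb, ⟨k, hk⟩, hoddBCb, ⟨l, hl⟩⟩ :=
    ih _ (hquot_lt N hNn hN1) (G ⧸ N) rfl inferInstance (hyp_quotient N hyp)
  by_cases hA : Ab = ⊥
  · refine chain_lift_two N j hj ⟨Bb, Cb, hBb, hCb, hBCb, ⟨k, ?_⟩, hoddBCb, ⟨l, hl⟩⟩
    rw [← hk, hA, Subgroup.relIndex_bot_left]
  -- Ab ≠ ⊥
  haveI hAbnt : Nontrivial ↥Ab := (Subgroup.nontrivial_iff_ne_bot _).mpr hA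
  obtain ⟨q, hq, hq1⟩ := exists_pCore_ne_bot ↥Ab
  haveI := Fact.mk hq
  haveI hchar : (Cfsg.pCore q ↥Ab).Characteristic :=
    Cfsg.Agent.Lib.Helper7.pCore_characteristic q ↥Ab
  obtain ⟨Tb, hTbdef⟩ : ∃ Tb : Subgroup (G ⧸ N), Tb = (Cfsg.pCore q ↥Ab).map Ab.subtype :=
    ⟨_, rfl⟩
  haveI hTbn : Tb.Normal := by
    rw [hTbdef]; exact ConjAct.normal_of_characteristic_of_normal
  have hTbq : IsPGroup q Tb := by
    rw [hTbdef]; exact (pCore_isPGroup (G := ↥Ab) q).map _
  have hTb1 : Tb ≠ ⊥ := by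
    rw [hTbdef]
    intro hbot
    rw [Subgroup.map_eq_bot_iff_of_injective _ Ab.subtype_injective] at hbot
    exact hq1 hbot
  have hTbA : Tb ≤ Ab := by rw [hTbdef]; exact Subgroup.map_subtype_le _
  obtain ⟨i, hi⟩ := IsPGroup.iff_card.mp hTbq
  have hi0 : i ≠ 0 := by
    rintro rfl
    rw [pow_zero] at hi
    exact hTb1 (Subgroup.card_eq_one.mp hi)
  have hqodd : q ≠ 2 := by
    rintro rfl
    have h1 : 2 ∣ Nat.card Tb := by rw [hi]; exact dvd_pow_self 2 hi0
    have h2 : Nat.card Tb ∣ Nat.card Ab := Subgroup.card_dvd_of_le hTbA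
    have h3 := Odd.of_dvd_nat hoddAb (dvd_trans h1 h2)
    exact absurd h3 (by decide)
  obtain ⟨T, hTdef⟩ : ∃ T : Subgroup G, T = Tb.comap (QuotientGroup.mk' N) := ⟨_, rfl⟩
  haveI hTn : T.Normal := by rw [hTdef]; infer_instance
  have hNT : N ≤ T := by
    have := Subgroup.ker_le_comap (QuotientGroup.mk' N) Tb
    rwa [QuotientGroup.ker_mk', ← hTdef] at this
  have hcardT : Nat.card T = 2 ^ j * q ^ i := by
    rw [hTdef, card_comap_mk, hj, hi]
  obtain S : Sylow q ↥T := default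
  have hcop2q : Nat.Coprime (2 ^ j) (q ^ i) :=
    Nat.Coprime.pow _ _ ((Nat.coprime_primes Nat.prime_two hq).mpr (Ne.symm hqodd))
  have hcardS : Nat.card S = q ^ i := by
    apply Nat.dvd_antisymm
    · obtain ⟨a, ha⟩ := IsPGroup.iff_card.mp S.isPGroup'
      have h1 : Nat.card S ∣ 2 ^ j * q ^ i := by
        rw [← hcardT]; exact Subgroup.card_subgroup_dvd_card _
      have h2 : Nat.Coprime (Nat.card S) (2 ^ j) := by
        rw [ha]
        exact Nat.Coprime.pow _ _ ((Nat.coprime_primes hq Nat.prime_two).mpr hqodd)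
      exact h2.dvd_of_dvd_mul_left h1
    · apply S.pow_dvd_card_of_pow_dvd_card
      rw [hcardT]
      exact dvd_mul_left _ _
  have hcardN' : Nat.card (N.subgroupOf T) = 2 ^ j := by
    rw [Nat.card_congr (Subgroup.subgroupOfEquivOfLe hNT).toEquiv, hj]
  have hcompl : Subgroup.IsComplement' (N.subgroupOf T) (S : Subgroup ↥T) := by
    apply Subgroup.isComplement'_of_coprime
    · rw [hcardN', hcardS, hcardT]
    · rw [hcardN', hcardS]; exact hcop2q
  obtain ⟨S', hS'def⟩ : ∃ S' : Subgroup G, S' = (S : Subgroup ↥T).map T.subtype := ⟨_, rfl⟩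
  have hcardS' : Nat.card S' = q ^ i := by
    rw [hS'def, Subgroup.card_map_of_injective T.subtype_injective, hcardS]
  have hNS' : N ⊔ S' = T := by
    have h1 : (N.subgroupOf T ⊔ (S : Subgroup ↥T)).map T.subtype = T := by
      rw [hcompl.sup_eq_top, ← MonoidHom.range_eq_map, Subgroup.range_subtype]
    rw [Subgroup.map_sup, Subgroup.subgroupOf_map_subtype, inf_eq_left.mpr hNT, ← hS'def] at h1
    exact h1
  obtain ⟨M, hMdef⟩ : ∃ M : Subgroup G, M = Subgroup.normalizer ((S' : Subgroup G) : Set G) :=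
    ⟨_, rfl⟩
  have hS'M : S' ≤ M := by rw [hMdef]; exact Subgroup.le_normalizer
  have hMN : M ⊔ N = ⊤ := by
    have hfr : Subgroup.normalizer ((S' : Subgroup G) : Set G) ⊔ T = ⊤ := by
      rw [hS'def]; exact Sylow.normalizer_sup_eq_top S
    rw [← hMdef, ← hNS', sup_comm N S', ← sup_assoc, sup_eq_left.mpr hS'M] at hfr
    exact hfr
  have hdecomp : ∀ g : G, ∃ m ∈ M, ∃ n ∈ N, m * n = g := by
    intro g
    have : g ∈ M ⊔ N := by rw [hMN]; exact Subgroup.mem_top g
    exact Subgroup.mem_sup_of_normal_right.mp this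
  have hnorm_inf : ∀ X : Subgroup G, M ≤ X → (N ⊓ X).Normal := by
    intro X hMX
    constructor
    intro x hx g
    obtain ⟨hxN, hxX⟩ := Subgroup.mem_inf.mp hx
    obtain ⟨m, hm, n, hn, rfl⟩ := hdecomp g
    have h1 : m * n * x * (m * n)⁻¹ = m * x * m⁻¹ := by
      have h2 : n * x = x * n := hNab n hn x hxN
      calc m * n * x * (m * n)⁻¹ = m * (n * x) * n⁻¹ * m⁻¹ := by group
        _ = m * (x * n) * n⁻¹ * m⁻¹ := by rw [h2]
        _ = m * x * m⁻¹ := by group
    rw [h1]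
    exact Subgroup.mem_inf.mpr ⟨hNn.conj_mem x hxN m,
      X.mul_mem (X.mul_mem (hMX hm) hxX) (X.inv_mem (hMX hm))⟩
  have hS'1 : S' ≠ ⊥ := by
    intro hbot
    have : Nat.card S' = 1 := by rw [hbot, Subgroup.card_bot]
    rw [hcardS'] at this
    exact hi0 (by
      by_contra h0
      have := Nat.one_lt_pow h0 hq.one_lt
      omega)
  have hS'odd : Odd (Nat.card S') := by
    rw [hcardS']; exact (hq.odd_of_ne_two hqodd).pow
  rcases hNminimal _ (hnorm_inf M le_rfl) inf_le_left with hbot | hfull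
  swap
  · -- N ≤ M : contradiction
    exfalso
    have hNM : N ≤ M := by rw [← hfull]; exact inf_le_right
    have hMtop : M = ⊤ := by rw [← hMN]; exact (sup_eq_left.mpr hNM).symm
    have hS'n : S'.Normal := by
      rw [← Subgroup.normalizer_eq_top_iff, ← hMdef]; exact hMtop
    have := hO_max S' hS'n hS'odd
    rw [hO1] at this
    exact hS'1 (le_bot_iff.mp this)
  -- N ⊓ M = ⊥
  have hMcoatom : IsCoatom M := by
    constructor
    · intro hMtop
      apply hN1
      rw [← hbot, hMtop, inf_top_eq]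
    · intro X hMX
      rcases hNminimal _ (hnorm_inf X hMX.le) inf_le_left with hb | hf
      · exfalso
        obtain ⟨x, hxX, hxM⟩ := SetLike.exists_of_lt hMX
        obtain ⟨m, hm, n, hn, rfl⟩ := hdecomp x
        have hnX : n ∈ X := by
          have : n = m⁻¹ * (m * n) := by group
          rw [this]
          exact X.mul_mem (X.inv_mem (hMX.le hm)) hxX
        have : n ∈ N ⊓ X := Subgroup.mem_inf.mpr ⟨hn, hnX⟩
        rw [hb, Subgroup.mem_bot] at this
        rw [this, mul_one] at hxM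
        exact hxM hm
      · have hNX : N ≤ X := by rw [← hf]; exact inf_le_right
        rw [eq_top_iff, ← hMN]
        exact sup_le hMX.le hNX
  have hidxN : N.index = Nat.card M := by
    rw [← Subgroup.relIndex_top_right, ← hMN, sup_comm, Subgroup.relIndex_sup_left,
      ← Subgroup.inf_relIndex_right, hbot, Subgroup.relIndex_bot_left]
  have hidxM : M.index = Nat.card N := by
    have h1 := Subgroup.card_mul_index N
    have h2 := Subgroup.card_mul_index M
    rw [hidxN] at h1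
    have h3 : Nat.card M * M.index = Nat.card M * Nat.card N := by rw [h2, ← h1, mul_comm]
    exact Nat.eq_of_mul_eq_mul_left Nat.card_pos h3
  rcases hyp M hMcoatom with ⟨K, hKM, hKnorm, hKodd, kk, hkk⟩ | hprime
  · -- chain ⊥ ≤ N ≤ N ⊔ K
    have hNK : N ⊓ K = ⊥ := by
      apply disjoint_iff.mp
      apply Subgroup.disjoint_of_coprime_natCard
      rw [hj]
      exact Nat.Coprime.pow_left _ (Nat.coprime_two_left.mpr hKodd)
    have hCn : (N ⊔ K).Normal := by
      constructor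
      intro c hc g
      obtain ⟨n', hn', k', hk', rfl⟩ := Subgroup.mem_sup_of_normal_left.mp hc
      obtain ⟨m, hm, n, hn, rfl⟩ := hdecomp g
      have h1 : m * n * (n' * k') * (m * n)⁻¹ =
          (m * (n * n' * (k' * n⁻¹ * k'⁻¹)) * m⁻¹) * (m * k' * m⁻¹) := by group
      rw [h1]
      apply Subgroup.mul_mem_sup
      · apply hNn.conj_mem
        exact N.mul_mem (N.mul_mem hn hn') (hNn.conj_mem _ (N.inv_mem hn) k')
      · exact hKnorm m hm k' hk'
    have hrelNC : N.relIndex (N ⊔ K) = Nat.card K := by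
      rw [Subgroup.relIndex_sup_left, ← Subgroup.inf_relIndex_right, hNK,
        Subgroup.relIndex_bot_left]
    refine ⟨⊥, N, N ⊔ K, inferInstance, hNn, hCn, bot_le, le_sup_left, ?_, ⟨j, ?_⟩, ?_, ⟨kk, ?_⟩⟩
    · rw [Subgroup.card_bot]; exact odd_one
    · rw [Subgroup.relIndex_bot_left, hj]
    · rw [hrelNC]; exact hKodd
    · have h1 := Subgroup.relIndex_mul_index (le_sup_left : N ≤ N ⊔ K)
      rw [hrelNC, hidxN] at h1
      have h2 := Subgroup.relIndex_mul_relIndex (⊥ : Subgroup G) K M bot_le hKM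
      rw [Subgroup.relIndex_bot_left, Subgroup.relIndex_bot_left] at h2
      have h3 : Nat.card K * (N ⊔ K).index = Nat.card K * K.relIndex M := by rw [h1, h2]
      rw [Nat.eq_of_mul_eq_mul_left Nat.card_pos h3, hkk]
  · -- prime index: N has order 2, central, contradiction
    exfalso
    rw [hidxM, hj] at hprime
    have hj0 : j ≠ 0 := by
      rintro rfl
      rw [pow_zero] at hprime
      exact Nat.not_prime_one hprime
    have hcard2 : Nat.card N = 2 := by
      rcases (Nat.Prime.eq_one_or_self_of_dvd hprime 2 (dvd_pow_self 2 hj0)) with h | h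
      · omega
      · rw [hj, ← h]
    obtain ⟨y0, hy0, hy0u⟩ := (Nat.card_eq_two_iff' (1 : ↥N)).mp hcard2
    have hcentral : ∀ x ∈ N, ∀ g : G, g * x * g⁻¹ = x := by
      intro x hx g
      by_cases hx1 : x = 1
      · rw [hx1]; group
      · have h1 : (⟨x, hx⟩ : ↥N) = y0 := hy0u _ (by
          intro h; apply hx1; exact congrArg Subtype.val h)
        have h2 : (⟨g * x * g⁻¹, hNn.conj_mem x hx g⟩ : ↥N) = y0 := hy0u _ (by
          intro h
          apply hx1
          have h3 : g * x * g⁻¹ = 1 := congrArg Subtype.val h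
          have : x = g⁻¹ * (g * x * g⁻¹) * g := by group
          rw [this, h3]; group)
        have := h2.trans h1.symm
        exact congrArg Subtype.val this
    have hNM : N ≤ M := by
      intro x hx
      rw [hMdef, Subgroup.mem_normalizer_iff]
      intro s
      have hxs : x * s * x⁻¹ = s := by
        have h1 := hcentral x hx s⁻¹
        -- s⁻¹ x s = x  → x s = s x
        have h2 : x * s = s * x := by
          have : s * (s⁻¹ * x * s⁻¹⁻¹) = s * x := by rw [h1]
          rw [← this]; group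
        rw [h2]; group
      rw [hxs]
    apply hN1
    rw [← hbot]
    exact (inf_eq_left.mpr hNM).symm

end TwoLen

end Cfsg.Agent.H1
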