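import Mathlib
import Cfsg.Prelude.Def_Solvable
import Cfsg.Prelude.Def_Local
import Cfsg.Agent.Lib.Lead.PiCore
import Cfsg.Agent.Lib.Lead.PSolvable
import Cfsg.Agent.Lib.Helper7.Core
import Cfsg.Agent.H1.Cores
import Cfsg.Agent.H1.SZ
import Cfsg.Agent.H1.SZConj
import Cfsg.Agent.H1.FrobeniusCount
import Cfsg.Agent.H1.RankTwoExpP
import Cfsg.Agent.H1.TwoLength

set_option maxHeartbeats 1600000

namespace Cfsg.Agent.H1

namespace PLen

open TwoLen

open scoped Pointwise

/-- `M` has a normal p-complement (internal form) -/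
def PNilp (p : ℕ) {G : Type*} [Group G] (M : Subgroup G) : Prop :=
  ∃ K : Subgroup G, K ≤ M ∧ (∀ m ∈ M, ∀ k ∈ K, m * k * m⁻¹ ∈ K) ∧ ¬ p ∣ Nat.card K ∧
    ∃ k : ℕ, K.relIndex M = p ^ k

def Hyp (p : ℕ) (G : Type*) [Group G] : Prop :=
  ∀ M : Subgroup G, IsCoatom M → PNilp p M ∨ M.index.Prime

def Chain (p : ℕ) (G : Type*) [Group G] : Prop :=
  ∃ A B C D : Subgroup G, A.Normal ∧ B.Normal ∧ C.Normal ∧ D.Normal ∧ A ≤ B ∧ B ≤ C ∧ C ≤ D ∧
    ¬ p ∣ Nat.card A ∧ (∃ k : ℕ, A.relIndex B = p ^ k) ∧ ¬ p ∣ B.relIndex C ∧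
    (∃ k : ℕ, C.relIndex D = p ^ k) ∧ ¬ p ∣ D.index

lemma hyp_quotient (p : ℕ) [hp : Fact p.Prime] {G : Type*} [Group G] [Finite G] (N : Subgroup G)
    [N.Normal] (h : Hyp p G) : Hyp p (G ⧸ N) := by
  intro Mb hMb
  have hsurj := QuotientGroup.mk'_surjective N
  have hM := Subgroup.isCoatom_comap_of_surjective hsurj hMb
  have hmap : (Mb.comap (QuotientGroup.mk' N)).map (QuotientGroup.mk' N) = Mb :=
    Subgroup.map_comap_eq_self_of_surjective hsurj Mb
  rcases h _ hM with ⟨K, hKM, hnorm, hodd, k, hk⟩ | hprime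
  · left
    refine ⟨K.map (QuotientGroup.mk' N), ?_, ?_, ?_, ?_⟩
    · rw [Subgroup.map_le_iff_le_comap]; exact hKM
    · intro mb hmb kb hkb
      obtain ⟨m, rfl⟩ := hsurj mb
      obtain ⟨x, hx, rfl⟩ := Subgroup.mem_map.mp hkb
      have hm : m ∈ Mb.comap (QuotientGroup.mk' N) := hmb
      refine Subgroup.mem_map.mpr ⟨m * x * m⁻¹, hnorm m hm x hx, ?_⟩
      rw [map_mul, map_mul, map_inv]
    · intro hdvd
      exact hodd (dvd_trans hdvd (Subgroup.card_map_dvd _ _))
    · have h1 : (K.map (QuotientGroup.mk' N)).relIndex Mb ∣ p ^ k := by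
        rw [← hk]
        conv_lhs => rw [← hmap]
        rw [Subgroup.relIndex_map_map]
        have hker : (QuotientGroup.mk' N).ker ≤ Mb.comap (QuotientGroup.mk' N) :=
          Subgroup.ker_le_comap _ _
        rw [sup_eq_left.mpr hker]
        exact Subgroup.relIndex_dvd_of_le_left _ le_sup_left
      obtain ⟨j, -, hj⟩ := (Nat.dvd_prime_pow hp.out).mp h1
      exact ⟨j, hj⟩
  · right
    rwa [Subgroup.index_comap_of_surjective _ hsurj] at hprime

lemma chain_lift_pprime (p : ℕ) [hp : Fact p.Prime] {G : Type*} [Group G] [Finite G]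
    (N : Subgroup G) [N.Normal]
    (hN : ¬ p ∣ Nat.card N) (h : Chain p (G ⧸ N)) : Chain p G := by
  obtain ⟨A, B, C, D, hA, hB, hC, hD, hAB, hBC, hCD, hoddA, ⟨k, hk⟩, hoddBC, ⟨l, hl⟩, hDi⟩ := h
  refine ⟨A.comap (QuotientGroup.mk' N), B.comap (QuotientGroup.mk' N),
    C.comap (QuotientGroup.mk' N), D.comap (QuotientGroup.mk' N), hA.comap _, hB.comap _,
    hC.comap _, hD.comap _,
    Subgroup.comap_mono hAB, Subgroup.comap_mono hBC, Subgroup.comap_mono hCD, ?_, ⟨k, ?_⟩, ?_,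
    ⟨l, ?_⟩, ?_⟩
  · rw [TwoLen.card_comap_mk]
    intro hdvd
    rcases (Nat.Prime.dvd_mul hp.out).mp hdvd with h | h
    · exact hN h
    · exact hoddA h
  · rw [relIndex_comap_mk]; exact hk
  · rw [relIndex_comap_mk]; exact hoddBC
  · rw [relIndex_comap_mk]; exact hl
  · rw [Subgroup.index_comap_of_surjective _ (QuotientGroup.mk'_surjective N)]; exact hDi

lemma chain_lift_p (p : ℕ) {G : Type*} [Group G] [Finite G] (N : Subgroup G) [N.Normal]
    (j : ℕ) (hN : Nat.card N = p ^ j)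
    (h : ∃ B C D : Subgroup (G ⧸ N), B.Normal ∧ C.Normal ∧ D.Normal ∧ B ≤ C ∧ C ≤ D ∧
      (∃ k : ℕ, Nat.card B = p ^ k) ∧ ¬ p ∣ B.relIndex C ∧ (∃ k : ℕ, C.relIndex D = p ^ k) ∧
      ¬ p ∣ D.index) (hp1 : ¬ p ∣ 1) : Chain p G := by
  obtain ⟨B, C, D, hB, hC, hD, hBC, hCD, ⟨k, hk⟩, hoddBC, ⟨l, hl⟩, hDi⟩ := h
  refine ⟨⊥, B.comap (QuotientGroup.mk' N), C.comap (QuotientGroup.mk' N),
    D.comap (QuotientGroup.mk' N), inferInstance,
    hB.comap _, hC.comap _, hD.comap _, bot_le, Subgroup.comap_mono hBC, Subgroup.comap_mono hCD,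
    ?_, ⟨j + k, ?_⟩, ?_, ⟨l, ?_⟩, ?_⟩
  · rw [Subgroup.card_bot]; exact hp1
  · rw [Subgroup.relIndex_bot_left, TwoLen.card_comap_mk, hN, hk, pow_add]
  · rw [relIndex_comap_mk]; exact hoddBC
  · rw [relIndex_comap_mk]; exact hl
  · rw [Subgroup.index_comap_of_surjective _ (QuotientGroup.mk'_surjective N)]; exact hDi

lemma relIndex_inf_dvd {G : Type*} [Group G] {A B : Subgroup G} [A.Normal] (hAB : A ≤ B)
    (Z : Subgroup G) : (A ⊓ Z).relIndex (B ⊓ Z) ∣ A.relIndex B := by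
  have h1 : A ⊓ Z = A ⊓ (B ⊓ Z) := by
    rw [← inf_assoc, inf_eq_left.mpr hAB]
  rw [h1, Subgroup.inf_relIndex_right]
  exact Cfsg.Agent.Lib.Lead.PSolvable.relIndex_dvd_relIndex_of_le hAB inf_le_left


universe u

theorem chain_of_hyp (p : ℕ) [hp : Fact p.Prime] : ∀ (n : ℕ) (G : Type u) [Group G] [Finite G],
    Nat.card G = n → Cfsg.IsPSolvable p G → Hyp p G → Chain p G := by
  intro n
  induction n using Nat.strong_induction_on with
  | _ n ih =>
  intro G _ _ hcard hsol hyp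
  classical
  have hpp : p.Prime := hp.out
  have hp1 : ¬ p ∣ 1 := hpp.not_dvd_one
  by_cases hG1 : Subsingleton G
  · refine ⟨⊥, ⊥, ⊥, ⊥, inferInstance, inferInstance, inferInstance, inferInstance, le_rfl, le_rfl,
      le_rfl, ?_, ⟨0, ?_⟩, ?_, ⟨0, ?_⟩, ?_⟩
    · rw [Subgroup.card_bot]; exact hp1
    · rw [Subgroup.relIndex_self]; rfl
    · rw [Subgroup.relIndex_self]; exact hp1
    · rw [Subgroup.relIndex_self]; rfl
    · rw [Subgroup.index_bot, Nat.card_of_subsingleton (1 : G)]; exact hp1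
  rw [not_subsingleton_iff_nontrivial] at hG1
  haveI := hG1
  obtain ⟨O, hOdef⟩ : ∃ O : Subgroup G, O = Cfsg.pPrimeCore p G := ⟨_, rfl⟩
  haveI hOn : O.Normal := by rw [hOdef]; exact Cfsg.Agent.H1.pPrimeCore_normal p
  have hOodd : ¬ p ∣ Nat.card O := by
    rw [hOdef]
    exact (Nat.Prime.coprime_iff_not_dvd hpp).mp (Cfsg.Agent.H1.pPrimeCore_coprime (G := G) p).symm
  have hO_max : ∀ X : Subgroup G, X.Normal → ¬ p ∣ Nat.card X → X ≤ O := by
    intro X hX ho
    rw [hOdef]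
    exact Cfsg.Agent.H1.le_pPrimeCore hX ((Nat.Prime.coprime_iff_not_dvd hpp).mpr ho).symm
  have hquot_lt : ∀ X : Subgroup G, X.Normal → X ≠ ⊥ → Nat.card (G ⧸ X) < n := by
    intro X _ hX1
    rw [← hcard, ← Subgroup.index_eq_card, ← Subgroup.card_mul_index X]
    have h1 : 1 < Nat.card X := by
      rw [Finite.one_lt_card_iff_nontrivial]
      exact (Subgroup.nontrivial_iff_ne_bot X).mpr hX1
    have h2 : 0 < X.index := Nat.pos_of_ne_zero Subgroup.index_ne_zero_of_finite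
    nlinarith
  have hquot_sol : ∀ X : Subgroup G, ∀ _ : X.Normal, Cfsg.IsPSolvable p (G ⧸ X) := by
    intro X _
    exact Cfsg.Agent.Lib.Lead.PSolvable.IsPSolvable.quotient X hsol
  by_cases hO1 : O = ⊥
  swap
  · exact chain_lift_pprime p O hOodd
      (ih _ (hquot_lt O hOn hO1) (G ⧸ O) rfl (hquot_sol O hOn) (hyp_quotient p O hyp))
  -- now O = ⊥
  obtain ⟨P, hPdef⟩ : ∃ P : Subgroup G, P = Cfsg.pCore p G := ⟨_, rfl⟩
  haveI hPn : P.Normal := by rw [hPdef]; infer_instance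
  have hP2 : IsPGroup p P := by rw [hPdef]; exact pCore_isPGroup p
  have hP1 : P ≠ ⊥ := by
    rw [hPdef]
    exact Cfsg.Agent.Lib.Lead.PSolvable.pCore_ne_bot hsol (by rw [← hOdef]; exact hO1)
  haveI hPnt : Nontrivial P := (Subgroup.nontrivial_iff_ne_bot P).mpr hP1
  obtain ⟨Z, hZdef⟩ : ∃ Z : Subgroup G, Z = (Subgroup.center P).map P.subtype := ⟨_, rfl⟩
  haveI hZn : Z.Normal := by
    rw [hZdef]; exact ConjAct.normal_of_characteristic_of_normal
  have hZ1 : Z ≠ ⊥ := by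
    rw [hZdef]
    intro hbot
    rw [Subgroup.map_eq_bot_iff_of_injective _ P.subtype_injective] at hbot
    haveI := hP2.center_nontrivial
    exact (Subgroup.nontrivial_iff_ne_bot _).mp inferInstance hbot
  have hZP : Z ≤ P := by rw [hZdef]; exact Subgroup.map_subtype_le _
  have hZc : ∀ x ∈ Z, ∀ y ∈ P, x * y = y * x := by
    intro x hx y hy
    rw [hZdef] at hx
    obtain ⟨c, hc, rfl⟩ := Subgroup.mem_map.mp hx
    have := Subgroup.mem_center_iff.mp hc ⟨y, hy⟩
    exact (congrArg Subtype.val this).symm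
  obtain ⟨N, ⟨hNn, hN1, hNZ⟩, hNmin⟩ := Set.exists_min_image
    {X : Subgroup G | X.Normal ∧ X ≠ ⊥ ∧ X ≤ Z} (fun X => Nat.card X) (Set.toFinite _)
    ⟨Z, hZn, hZ1, le_rfl⟩
  haveI := hNn
  have hNminimal : ∀ X : Subgroup G, X.Normal → X ≤ N → X = ⊥ ∨ X = N := by
    intro X hXn hXN
    by_cases hX1 : X = ⊥
    · exact Or.inl hX1
    · right
      exact Subgroup.eq_of_le_of_card_ge hXN (hNmin X ⟨hXn, hX1, hXN.trans hNZ⟩)
  have hNP : N ≤ P := hNZ.trans hZP
  have hN2 : IsPGroup p N := hP2.to_le hNP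
  obtain ⟨j, hj⟩ := IsPGroup.iff_card.mp hN2
  have hNab : ∀ x ∈ N, ∀ y ∈ N, x * y = y * x := fun x hx y hy => hZc x (hNZ hx) y (hNP hy)
  obtain ⟨Ab, Bb, Cb, Db, hAb, hBb, hCb, hDb, hABb, hBCb, hCDb, hoddAb, ⟨k, hk⟩, hoddBCb,
      ⟨l, hl⟩, hDbi⟩ :=
    ih _ (hquot_lt N hNn hN1) (G ⧸ N) rfl (hquot_sol N hNn) (hyp_quotient p N hyp)
  by_cases hA : Ab = ⊥
  · refine chain_lift_p p N j hj ⟨Bb, Cb, Db, hBb, hCb, hDb, hBCb, hCDb, ⟨k, ?_⟩, hoddBCb,
      ⟨l, hl⟩, hDbi⟩ hp1
    rw [← hk, hA, Subgroup.relIndex_bot_left]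
  -- Ab ≠ ⊥
  have hsurj := QuotientGroup.mk'_surjective N
  obtain ⟨A1, hA1def⟩ : ∃ A1 : Subgroup G, A1 = Ab.comap (QuotientGroup.mk' N) := ⟨_, rfl⟩
  obtain ⟨B1, hB1def⟩ : ∃ B1 : Subgroup G, B1 = Bb.comap (QuotientGroup.mk' N) := ⟨_, rfl⟩
  obtain ⟨C1, hC1def⟩ : ∃ C1 : Subgroup G, C1 = Cb.comap (QuotientGroup.mk' N) := ⟨_, rfl⟩
  obtain ⟨D1, hD1def⟩ : ∃ D1 : Subgroup G, D1 = Db.comap (QuotientGroup.mk' N) := ⟨_, rfl⟩
  haveI hA1n : A1.Normal := by rw [hA1def]; infer_instance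
  haveI hB1n : B1.Normal := by rw [hB1def]; infer_instance
  haveI hC1n : C1.Normal := by rw [hC1def]; infer_instance
  haveI hD1n : D1.Normal := by rw [hD1def]; infer_instance
  have hA1B1 : A1 ≤ B1 := by rw [hA1def, hB1def]; exact Subgroup.comap_mono hABb
  have hB1C1 : B1 ≤ C1 := by rw [hB1def, hC1def]; exact Subgroup.comap_mono hBCb
  have hC1D1 : C1 ≤ D1 := by rw [hC1def, hD1def]; exact Subgroup.comap_mono hCDb
  have hrAB : A1.relIndex B1 = p ^ k := by rw [hA1def, hB1def, relIndex_comap_mk]; exact hk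
  have hrBC : ¬ p ∣ B1.relIndex C1 := by rw [hB1def, hC1def, relIndex_comap_mk]; exact hoddBCb
  have hrCD : C1.relIndex D1 = p ^ l := by rw [hC1def, hD1def, relIndex_comap_mk]; exact hl
  have hD1i : ¬ p ∣ D1.index := by
    rw [hD1def, Subgroup.index_comap_of_surjective _ hsurj]; exact hDbi
  have hNA1 : N ≤ A1 := by
    have := Subgroup.ker_le_comap (QuotientGroup.mk' N) Ab
    rwa [QuotientGroup.ker_mk', ← hA1def] at this
  have hA1map : A1.map (QuotientGroup.mk' N) = Ab := by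
    rw [hA1def]; exact Subgroup.map_comap_eq_self_of_surjective hsurj Ab
  have hrel : N.relIndex A1 = Nat.card Ab := by
    have := Subgroup.relIndex_ker (QuotientGroup.mk' N) (K := A1)
    rw [QuotientGroup.ker_mk', hA1map] at this
    exact this
  have hcardN' : Nat.card (N.subgroupOf A1) = Nat.card N :=
    Nat.card_congr (Subgroup.subgroupOfEquivOfLe hNA1).toEquiv
  have hcopNA : (Nat.card N).Coprime (Nat.card Ab) := by
    rw [hj]
    exact Nat.Coprime.pow_left _ ((Nat.Prime.coprime_iff_not_dvd hpp).mpr hoddAb)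
  have hcop : (Nat.card (N.subgroupOf A1)).Coprime (N.subgroupOf A1).index := by
    rw [hcardN']
    show (Nat.card N).Coprime (N.relIndex A1)
    rw [hrel]
    exact hcopNA
  obtain ⟨S0, hS0⟩ := Subgroup.exists_right_complement'_of_coprime hcop
  have hcardS0 : Nat.card S0 = Nat.card Ab := by
    have h1 := hS0.card_mul_card
    have h2 := Subgroup.card_mul_index (N.subgroupOf A1)
    have h3 : Nat.card (N.subgroupOf A1) * Nat.card S0 =
        Nat.card (N.subgroupOf A1) * (N.subgroupOf A1).index := by rw [h1, h2]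
    have h4 := Nat.eq_of_mul_eq_mul_left Nat.card_pos h3
    rw [h4]
    exact hrel
  obtain ⟨S, hSdef⟩ : ∃ S : Subgroup G, S = S0.map A1.subtype := ⟨_, rfl⟩
  have hSA1 : S ≤ A1 := by rw [hSdef]; exact Subgroup.map_subtype_le S0
  have hcardS : Nat.card S = Nat.card Ab := by
    rw [hSdef, Subgroup.card_map_of_injective A1.subtype_injective, hcardS0]
  have hSp : ¬ p ∣ Nat.card S := by rw [hcardS]; exact hoddAb
  have hcopNS : (Nat.card N).Coprime (Nat.card S) := by rw [hcardS]; exact hcopNA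
  have hNS : N ⊓ S = ⊥ := disjoint_iff.mp (Subgroup.disjoint_of_coprime_natCard hcopNS)
  have hNS' : N ⊔ S = A1 := by
    have h1 : (N.subgroupOf A1 ⊔ S0).map A1.subtype = A1 := by
      rw [hS0.sup_eq_top, ← MonoidHom.range_eq_map, Subgroup.range_subtype]
    rw [Subgroup.map_sup, Subgroup.subgroupOf_map_subtype, inf_eq_left.mpr hNA1, ← hSdef] at h1
    exact h1
  have hS1 : S ≠ ⊥ := by
    intro hbot
    apply hA
    have : Nat.card Ab = 1 := by rw [← hcardS, hbot, Subgroup.card_bot]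
    exact Subgroup.card_eq_one.mp this
  obtain ⟨M, hMdef⟩ : ∃ M : Subgroup G, M = Subgroup.normalizer ((S : Subgroup G) : Set G) :=
    ⟨_, rfl⟩
  have hSM : S ≤ M := by rw [hMdef]; exact Subgroup.le_normalizer
  have hNsolv : Group.IsSolvable N := by
    haveI := hN2.isNilpotent
    infer_instance
  -- Frattini argument via Schur–Zassenhaus conjugacy
  have hdecomp : ∀ g : G, ∃ m ∈ M, ∃ n ∈ N, m * n = g := by
    intro g
    have hK'A : MulAut.conj g • S ≤ A1 := by
      intro x hx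
      rw [mem_conj_smul_iff'] at hx
      have h1 := hA1n.conj_mem _ (hSA1 hx) g
      have h2 : g * (g⁻¹ * x * g) * g⁻¹ = x := by group
      rwa [h2] at h1
    have hdK : N ⊓ MulAut.conj g • S = ⊥ := by
      apply disjoint_iff.mp
      apply Subgroup.disjoint_of_coprime_natCard
      rw [card_conj_smul]; exact hcopNS
    have hsK : N ⊔ MulAut.conj g • S = A1 := by
      have h1 : MulAut.conj g • (N ⊔ S) = MulAut.conj g • N ⊔ MulAut.conj g • S :=
        Subgroup.smul_sup _ _ _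
      rw [hNS', Subgroup.Normal.conj_smul_eq_self g A1, Subgroup.Normal.conj_smul_eq_self g N] at h1
      exact h1.symm
    obtain ⟨a, haA, ha⟩ := sz_relative A1 N S (MulAut.conj g • S) hNA1
      (by rw [Subgroup.normalizer_eq_top]; exact le_top) hSA1 hK'A hNS hNS' hdK hsK hcopNS
      (Or.inl hNsolv) (fun N' _ H' K' h1 h2 h3 h4 => sz_conj N' H' K' h1 h2 h3 h4)
    -- a⁻¹ g normalizes S
    have hnorm : a⁻¹ * g ∈ M := by
      rw [hMdef, Subgroup.mem_normalizer_iff]
      intro x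
      have h1 : x ∈ S ↔ g * x * g⁻¹ ∈ MulAut.conj g • S := by
        rw [mem_conj_smul_iff']
        have : g⁻¹ * (g * x * g⁻¹) * g = x := by group
        rw [this]
      have h2 : g * x * g⁻¹ ∈ MulAut.conj a • S ↔ a⁻¹ * (g * x * g⁻¹) * a ∈ S :=
        mem_conj_smul_iff' S a _
      have h3 : a⁻¹ * g * x * (a⁻¹ * g)⁻¹ = a⁻¹ * (g * x * g⁻¹) * a := by group
      rw [h3, ← h2, ha, ← h1]
    rw [← hNS'] at haA
    obtain ⟨n, hn, s, hs, rfl⟩ := Subgroup.mem_sup_of_normal_left.mp haA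
    refine ⟨s * ((n * s)⁻¹ * g), M.mul_mem (hSM hs) hnorm,
      (s * ((n * s)⁻¹ * g))⁻¹ * n * (s * ((n * s)⁻¹ * g)), ?_, ?_⟩
    · have h1 := hNn.conj_mem n hn (s * ((n * s)⁻¹ * g))⁻¹
      rwa [inv_inv] at h1
    · group
  have hMN : M ⊔ N = ⊤ := by
    rw [eq_top_iff]
    intro g _
    obtain ⟨m, hm, n, hn, rfl⟩ := hdecomp g
    exact Subgroup.mul_mem_sup hm hn
  have hnorm_inf : ∀ X : Subgroup G, M ≤ X → (N ⊓ X).Normal := by
    intro X hMX
    constructor
    intro x hx g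
    obtain ⟨hxN, hxX⟩ := Subgroup.mem_inf.mp hx
    obtain ⟨m, hm, n, hn, rfl⟩ := hdecomp g
    have h1 : m * n * x * (m * n)⁻¹ = m * x * m⁻¹ := by
      have h2 : n * x = x * n := hNab n hn x hxN
      calc m * n * x * (m * n)⁻¹ = m * (n * x) * n⁻¹ * m⁻¹ := by group
        _ = m * (x * n) * n⁻¹ * m⁻¹ := by rw [h2]
        _ = m * x * m⁻¹ := by group
    rw [h1]
    exact Subgroup.mem_inf.mpr ⟨hNn.conj_mem x hxN m,
      X.mul_mem (X.mul_mem (hMX hm) hxX) (X.inv_mem (hMX hm))⟩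
  rcases hNminimal _ (hnorm_inf M le_rfl) inf_le_left with hbot | hfull
  swap
  · -- N ≤ M : contradiction
    exfalso
    have hNM : N ≤ M := by rw [← hfull]; exact inf_le_right
    have hMtop : M = ⊤ := by rw [← hMN]; exact (sup_eq_left.mpr hNM).symm
    have hSn : S.Normal := by
      rw [← Subgroup.normalizer_eq_top_iff, ← hMdef]; exact hMtop
    have := hO_max S hSn hSp
    rw [hO1] at this
    exact hS1 (le_bot_iff.mp this)
  -- N ⊓ M = ⊥
  have hMcoatom : IsCoatom M := by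
    constructor
    · intro hMtop
      apply hN1
      rw [← hbot, hMtop, inf_top_eq]
    · intro X hMX
      rcases hNminimal _ (hnorm_inf X hMX.le) inf_le_left with hb | hf
      · exfalso
        obtain ⟨x, hxX, hxM⟩ := SetLike.exists_of_lt hMX
        obtain ⟨m, hm, n, hn, rfl⟩ := hdecomp x
        have hnX : n ∈ X := by
          have : n = m⁻¹ * (m * n) := by group
          rw [this]
          exact X.mul_mem (X.inv_mem (hMX.le hm)) hxX
        have : n ∈ N ⊓ X := Subgroup.mem_inf.mpr ⟨hn, hnX⟩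
        rw [hb, Subgroup.mem_bot] at this
        rw [this, mul_one] at hxM
        exact hxM hm
      · have hNX : N ≤ X := by rw [← hf]; exact inf_le_right
        rw [eq_top_iff, ← hMN]
        exact sup_le hMX.le hNX
  have hidxN : N.index = Nat.card M := by
    rw [← Subgroup.relIndex_top_right, ← hMN, sup_comm, Subgroup.relIndex_sup_left,
      ← Subgroup.inf_relIndex_right, hbot, Subgroup.relIndex_bot_left]
  have hidxM : M.index = Nat.card N := by
    have h1 := Subgroup.card_mul_index N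
    have h2 := Subgroup.card_mul_index M
    rw [hidxN] at h1
    have h3 : Nat.card M * M.index = Nat.card M * Nat.card N := by rw [h2, ← h1, mul_comm]
    exact Nat.eq_of_mul_eq_mul_left Nat.card_pos h3
  rcases hyp M hMcoatom with ⟨K, hKM, hKnorm, hKodd, kk, hkk⟩ | hprime
  · -- chain ⊥ ≤ N ≤ N ⊔ K ≤ ⊤
    have hNK : N ⊓ K = ⊥ := by
      apply disjoint_iff.mp
      apply Subgroup.disjoint_of_coprime_natCard
      rw [hj]
      exact Nat.Coprime.pow_left _ ((Nat.Prime.coprime_iff_not_dvd hpp).mpr hKodd)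
    have hCn : (N ⊔ K).Normal := by
      constructor
      intro c hc g
      obtain ⟨n', hn', k', hk', rfl⟩ := Subgroup.mem_sup_of_normal_left.mp hc
      obtain ⟨m, hm, n, hn, rfl⟩ := hdecomp g
      have h1 : m * n * (n' * k') * (m * n)⁻¹ =
          (m * (n * n' * (k' * n⁻¹ * k'⁻¹)) * m⁻¹) * (m * k' * m⁻¹) := by group
      rw [h1]
      apply Subgroup.mul_mem_sup
      · apply hNn.conj_mem
        exact N.mul_mem (N.mul_mem hn hn') (hNn.conj_mem _ (N.inv_mem hn) k')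
      · exact hKnorm m hm k' hk'
    have hrelNC : N.relIndex (N ⊔ K) = Nat.card K := by
      rw [Subgroup.relIndex_sup_left, ← Subgroup.inf_relIndex_right, hNK,
        Subgroup.relIndex_bot_left]
    refine ⟨⊥, N, N ⊔ K, ⊤, inferInstance, hNn, hCn, inferInstance, bot_le, le_sup_left, le_top,
      ?_, ⟨j, ?_⟩, ?_, ⟨kk, ?_⟩, ?_⟩
    · rw [Subgroup.card_bot]; exact hp1
    · rw [Subgroup.relIndex_bot_left, hj]
    · rw [hrelNC]; exact hKodd
    · rw [Subgroup.relIndex_top_right]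
      have h1 := Subgroup.relIndex_mul_index (le_sup_left : N ≤ N ⊔ K)
      rw [hrelNC, hidxN] at h1
      have h2 := Subgroup.relIndex_mul_relIndex (⊥ : Subgroup G) K M bot_le hKM
      rw [Subgroup.relIndex_bot_left, Subgroup.relIndex_bot_left] at h2
      have h3 : Nat.card K * (N ⊔ K).index = Nat.card K * K.relIndex M := by rw [h1, h2]
      rw [Nat.eq_of_mul_eq_mul_left Nat.card_pos h3, hkk]
    · rw [Subgroup.index_top]; exact hp1
  · -- prime index: N has order p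
    rw [hidxM, hj] at hprime
    have hj0 : j ≠ 0 := by
      rintro rfl
      rw [pow_zero] at hprime
      exact Nat.not_prime_one hprime
    have hcardp : Nat.card N = p := by
      rcases (Nat.Prime.eq_one_or_self_of_dvd hprime p (dvd_pow_self p hj0)) with h | h
      · exact absurd h hpp.one_lt.ne'
      · rw [hj, ← h]
    obtain ⟨Zc, hZcdef⟩ : ∃ Zc : Subgroup G, Zc = Subgroup.centralizer ((N : Subgroup G) : Set G) :=
      ⟨_, rfl⟩
    haveI hZcn : Zc.Normal := by rw [hZcdef]; infer_instance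
    have hNZc : N ≤ Zc := by
      intro x hx
      rw [hZcdef, Subgroup.mem_centralizer_iff]
      intro y hy
      exact hNab y hy x hx
    have hZci : ¬ p ∣ Zc.index := by
      obtain Q : Sylow p G := default
      have hNQ : N ≤ (Q : Subgroup G) :=
        le_trans (le_pCore hNn hN2) (pCore_le_sylow Q)
      haveI : (N.subgroupOf (Q : Subgroup G)).Normal := inferInstance
      have hc := normal_card_p_le_center (p := p) Q.isPGroup' (N.subgroupOf (Q : Subgroup G))
        (by rw [Nat.card_congr (Subgroup.subgroupOfEquivOfLe hNQ).toEquiv, hcardp])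
      have hQZ : (Q : Subgroup G) ≤ Zc := by
        intro x hx
        rw [hZcdef, Subgroup.mem_centralizer_iff]
        intro y hy
        have h1 : (⟨y, hNQ hy⟩ : ↥(Q : Subgroup G)) ∈ N.subgroupOf (Q : Subgroup G) := by
          rw [Subgroup.mem_subgroupOf]; exact hy
        have h2 := Subgroup.mem_center_iff.mp (hc h1) ⟨x, hx⟩
        exact (congrArg Subtype.val h2).symm
      intro hdvd
      exact Q.not_dvd_index (dvd_trans hdvd (Subgroup.index_dvd_of_le hQZ))
    -- S ⊓ Zc = ⊥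
    have hW : S ⊓ Zc = ⊥ := by
      have hWn : (S ⊓ Zc).Normal := by
        constructor
        intro w hw g
        obtain ⟨hwS, hwZ⟩ := Subgroup.mem_inf.mp hw
        obtain ⟨m, hm, n, hn, rfl⟩ := hdecomp g
        have hcomm : n * w = w * n := by
          rw [hZcdef, Subgroup.mem_centralizer_iff] at hwZ
          exact hwZ n hn
        have h1 : m * n * w * (m * n)⁻¹ = m * w * m⁻¹ := by
          calc m * n * w * (m * n)⁻¹ = m * (n * w) * n⁻¹ * m⁻¹ := by group
            _ = m * (w * n) * n⁻¹ * m⁻¹ := by rw [hcomm]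
            _ = m * w * m⁻¹ := by group
        rw [h1]
        refine Subgroup.mem_inf.mpr ⟨?_, hZcn.conj_mem w hwZ m⟩
        rw [hMdef, Subgroup.mem_normalizer_iff] at hm
        exact (hm w).mp hwS
      have hWp : ¬ p ∣ Nat.card (S ⊓ Zc : Subgroup G) := by
        intro hdvd
        exact hSp (dvd_trans hdvd (Subgroup.card_dvd_of_le inf_le_left))
      have := hO_max _ hWn hWp
      rw [hO1] at this
      exact le_bot_iff.mp this
    have hA1Z : A1 ⊓ Zc = N := by
      apply le_antisymm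
      · intro x hx
        obtain ⟨hxA, hxZ⟩ := Subgroup.mem_inf.mp hx
        rw [← hNS'] at hxA
        obtain ⟨n, hn, s, hs, rfl⟩ := Subgroup.mem_sup_of_normal_left.mp hxA
        have hsZ : s ∈ Zc := by
          have : s = n⁻¹ * (n * s) := by group
          rw [this]
          exact Zc.mul_mem (Zc.inv_mem (hNZc hn)) hxZ
        have : s ∈ S ⊓ Zc := Subgroup.mem_inf.mpr ⟨hs, hsZ⟩
        rw [hW, Subgroup.mem_bot] at this
        rw [this, mul_one]
        exact hn
      · exact le_inf hNA1 hNZc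
    have hr1 : N.relIndex (B1 ⊓ Zc) ∣ p ^ k := by
      have := relIndex_inf_dvd hA1B1 Zc
      rwa [hA1Z, hrAB] at this
    obtain ⟨k', -, hk'⟩ := (Nat.dvd_prime_pow hpp).mp hr1
    have hr2 : (B1 ⊓ Zc).relIndex (C1 ⊓ Zc) ∣ B1.relIndex C1 := relIndex_inf_dvd hB1C1 Zc
    have hr3 : (C1 ⊓ Zc).relIndex (D1 ⊓ Zc) ∣ p ^ l := by
      have := relIndex_inf_dvd hC1D1 Zc
      rwa [hrCD] at this
    obtain ⟨l', -, hl'⟩ := (Nat.dvd_prime_pow hpp).mp hr3
    refine ⟨⊥, B1 ⊓ Zc, C1 ⊓ Zc, D1 ⊓ Zc, inferInstance, inferInstance, inferInstance,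
      inferInstance, bot_le, inf_le_inf_right _ hB1C1, inf_le_inf_right _ hC1D1, ?_,
      ⟨1 + k', ?_⟩, ?_, ⟨l', hl'⟩, ?_⟩
    · rw [Subgroup.card_bot]; exact hp1
    · have h1 := Subgroup.relIndex_mul_relIndex (⊥ : Subgroup G) N (B1 ⊓ Zc) bot_le
        (le_inf (hNA1.trans hA1B1) hNZc)
      rw [← h1, Subgroup.relIndex_bot_left, hcardp, hk', pow_add, pow_one]
    · intro hdvd
      exact hrBC (dvd_trans hdvd hr2)
    · have h1 := Subgroup.relIndex_inf_mul_relIndex D1 Zc (⊤ : Subgroup G)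
      rw [inf_top_eq, Subgroup.relIndex_top_right, Subgroup.relIndex_top_right] at h1
      rw [← h1]
      intro hdvd
      rcases (Nat.Prime.dvd_mul hpp).mp hdvd with h | h
      · exact hD1i (dvd_trans h (Subgroup.relIndex_dvd_index_of_normal D1 Zc))
      · exact hZci h

end PLen

end Cfsg.Agent.H1
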