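import Mathlib
import Cfsg.Agent.Lib.helper3.Burnside
import Cfsg.Agent.H1.HallConverse
import Cfsg.Agent.H1.WielandtHall
import Cfsg.Agent.S0044

set_option autoImplicit false
open scoped Pointwise commutatorElement

namespace Cfsg.Agent.H1

universe u

lemma ncard_carrier_eq_index {G : Type*} [Group G] [Finite G] (x : G) :
    (ConjClasses.mk x).carrier.ncard = (Subgroup.centralizer ({x} : Set G)).index := by
  rw [← ConjAct.orbit_eq_carrier_conjClasses, ← MulAction.index_stabilizer]
  have h1 := Subgroup.card_mul_index (MulAction.stabilizer (ConjAct G) x)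
  have h2 := Subgroup.card_mul_index (Subgroup.centralizer ({x} : Set G))
  rw [← Subgroup.nat_card_centralizer_nat_card_stabilizer] at h1
  have h3 : Nat.card (ConjAct G) = Nat.card G := rfl
  rw [h3, ← h2] at h1
  exact Nat.eq_of_mul_eq_mul_left Nat.card_pos h1

/-- the class-size hypothesis: `p'`-elements have centralizers of `p`-power index -/
def PRegIndex (p : ℕ) (G : Type u) [Group G] : Prop :=
  ∀ x : G, (orderOf x).Coprime p → ∃ k : ℕ, (Subgroup.centralizer ({x} : Set G)).index = p ^ k

lemma pRegIndex_normal {p : ℕ} (hp : p.Prime) {G : Type u} [Group G] [Finite G] (h : PRegIndex p G)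
    (N : Subgroup G) [N.Normal] : PRegIndex p N := by
  intro x hx
  have hx' : (orderOf (x : G)).Coprime p := by rwa [Subgroup.orderOf_coe]
  obtain ⟨k, hk⟩ := h (x : G) hx'
  have h1 : (Subgroup.centralizer ({x} : Set N)).index = (Subgroup.centralizer ({(x : G)} : Set G)).relIndex N := by
    have : Subgroup.centralizer ({x} : Set N) = (Subgroup.centralizer ({(x : G)} : Set G)).subgroupOf N := by
      ext y
      rw [Subgroup.mem_subgroupOf, Subgroup.mem_centralizer_singleton_iff, Subgroup.mem_centralizer_singleton_iff]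
      constructor
      · intro h; exact congrArg Subtype.val h
      · intro h; exact Subtype.ext h
    rw [this]; rfl
  have h2 : (Subgroup.centralizer ({(x : G)} : Set G)).relIndex N ∣ p ^ k := by
    rw [← hk]; exact relIndex_dvd_index_of_normal_right _ N
  obtain ⟨j, -, hj⟩ := (Nat.dvd_prime_pow hp).mp h2
  exact ⟨j, by rw [h1, hj]⟩

lemma pRegIndex_quotient {p : ℕ} (hp : p.Prime) {G : Type u} [Group G] [Finite G] (h : PRegIndex p G)
    (N : Subgroup G) [N.Normal] : PRegIndex p (G ⧸ N) := by
  intro q hq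
  obtain ⟨y, rfl⟩ := QuotientGroup.mk_surjective q
  -- a p'-preimage
  obtain ⟨a, m, hm, ha⟩ := Nat.exists_eq_pow_mul_and_not_dvd (orderOf_pos y).ne' p hp.ne_one
  have hcop : (p ^ a).Coprime (orderOf ((y : G) : G ⧸ N)) := Nat.Coprime.pow_left _ hq.symm
  obtain ⟨t, ht⟩ := exists_pow_eq_self_of_coprime hcop
  obtain ⟨x, hx⟩ : ∃ x : G, x = y ^ (p ^ a * t) := ⟨_, rfl⟩
  have hxq : ((x : G) : G ⧸ N) = ((y : G) : G ⧸ N) := by
    rw [hx, QuotientGroup.mk_pow, pow_mul]; exact ht
  have hxm : x ^ m = 1 := by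
    rw [hx, ← pow_mul, mul_comm (p ^ a) t, mul_assoc, ← ha, mul_comm, pow_mul, pow_orderOf_eq_one, one_pow]
  have hxp : (orderOf x).Coprime p := by
    apply Nat.Coprime.coprime_dvd_left (orderOf_dvd_of_pow_eq_one hxm)
    exact ((Nat.Prime.coprime_iff_not_dvd hp).mpr hm).symm
  obtain ⟨k, hk⟩ := h x hxp
  have h1 : (Subgroup.centralizer ({x} : Set G)).map (QuotientGroup.mk' N) ≤
      Subgroup.centralizer ({((y : G) : G ⧸ N)} : Set (G ⧸ N)) := by
    rintro _ ⟨c, hc, rfl⟩
    rw [SetLike.mem_coe, Subgroup.mem_centralizer_singleton_iff] at hc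
    rw [Subgroup.mem_centralizer_singleton_iff, ← hxq]
    show ((c : G) : G ⧸ N) * ((x : G) : G ⧸ N) = ((x : G) : G ⧸ N) * ((c : G) : G ⧸ N)
    rw [← QuotientGroup.mk_mul, ← QuotientGroup.mk_mul, hc]
  have h2 : (Subgroup.centralizer ({((y : G) : G ⧸ N)} : Set (G ⧸ N))).index ∣ p ^ k := by
    rw [← hk]
    exact (Subgroup.index_dvd_of_le h1).trans (Subgroup.index_map_dvd _ (QuotientGroup.mk'_surjective N))
  obtain ⟨j, -, hj⟩ := (Nat.dvd_prime_pow hp).mp h2
  exact ⟨j, hj⟩

theorem solvable_of_pRegIndex {p : ℕ} (hp : p.Prime) : ∀ n : ℕ, ∀ (G : Type u) [Group G] [Finite G],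
    Nat.card G = n → PRegIndex p G → Group.IsSolvable G := by
  intro n
  induction n using Nat.strong_induction_on with
  | _ n ih =>
    intro G _ _ hn h
    by_cases htriv : Subsingleton G
    · infer_instance
    have hnt : Nontrivial G := not_subsingleton_iff_nontrivial.mp htriv
    by_cases hsimple : IsSimpleGroup G
    · -- simple
      by_cases hpg : ∃ q : ℕ, q.Prime ∧ q ∣ Nat.card G ∧ q ≠ p
      · obtain ⟨q, hq, hqd, hqp⟩ := hpg
        have : Fact q.Prime := ⟨hq⟩
        obtain ⟨x, hx⟩ := exists_prime_orderOf_dvd_card' q hqd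
        have hx1 : x ≠ 1 := by
          rintro rfl; rw [orderOf_one] at hx; exact hq.one_lt.ne hx
        obtain ⟨k, hk⟩ := h x (by rw [hx]; exact (Nat.coprime_primes hq hp).mpr hqp)
        have hprime := Cfsg.Agent.Lib.helper3.Burnside.prime_card_of_prime_pow_class p k hp x hx1 hk
        have : Fact (Nat.card G).Prime := ⟨hprime⟩
        have := isCyclic_of_prime_card (α := G) rfl
        infer_instance
      · have hcard : Nat.card G = p ^ (Nat.card G).primeFactorsList.length := by
          apply Nat.eq_prime_pow_of_unique_prime_dvd Nat.card_pos.ne'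
          intro d hd hdd
          by_contra hne
          exact hpg ⟨d, hd, hdd, hne⟩
        have : Fact p.Prime := ⟨hp⟩
        have hpG : IsPGroup p G := IsPGroup.of_card hcard
        have := hpG.isNilpotent
        infer_instance
    · -- not simple
      have hex : ∃ N : Subgroup G, N.Normal ∧ N ≠ ⊥ ∧ N ≠ ⊤ := by
        by_contra hcon
        push Not at hcon
        apply hsimple
        exact ⟨fun N hN => by
          by_cases hb : N = ⊥
          · exact Or.inl hb
          · exact Or.inr (hcon N hN hb)⟩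
      obtain ⟨N, hNn, hNbot, hNtop⟩ := hex
      have hNlt : Nat.card N < n := by
        rw [← hn]
        rcases (Subgroup.card_le_card_group N).lt_or_eq with h1 | h1
        · exact h1
        · exact absurd (Subgroup.card_eq_iff_eq_top N |>.mp h1) hNtop
      have hQlt : Nat.card (G ⧸ N) < n := by
        rw [← hn, ← Subgroup.index_eq_card, ← Subgroup.card_mul_index N]
        have h1 : 1 < Nat.card N := by
          rw [Subgroup.one_lt_card_iff_ne_bot]; exact hNbot
        have h2 : 0 < N.index := Nat.pos_of_ne_zero Subgroup.index_ne_zero_of_finite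
        nlinarith
      have s1 : Group.IsSolvable N := ih _ hNlt N rfl (pRegIndex_normal hp h N)
      have s2 : Group.IsSolvable (G ⧸ N) := ih _ hQlt (G ⧸ N) rfl (pRegIndex_quotient hp h N)
      refine Group.isSolvable_of_ker_le_range N.subtype (QuotientGroup.mk' N) ?_
      rw [QuotientGroup.ker_mk', Subgroup.range_subtype]

/-- Case B: no nontrivial normal `p`-subgroup: the Fitting subgroup is an abelian `p`-complement -/
theorem abelian_pcomplement_of_pCore_bot {p : ℕ} (hp : p.Prime) (G : Type u) [Group G] [Finite G]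
    (h : PRegIndex p G) (hN : Cfsg.pCore p G = ⊥) :
    ∃ H : Subgroup G, IsMulCommutative H ∧ ¬ p ∣ Nat.card H ∧ ∃ k : ℕ, H.index = p ^ k := by
  have hsol : Group.IsSolvable G := solvable_of_pRegIndex hp _ G rfl h
  have : Fact p.Prime := ⟨hp⟩
  obtain ⟨F, hF⟩ : ∃ F : Subgroup G, F = Cfsg.fittingSubgroup G := ⟨_, rfl⟩
  have hFn : F.Normal := by rw [hF]; infer_instance
  have hFcop : (Nat.card F).Coprime p := by
    have hle : F ≤ Cfsg.pPrimeCore p G := by
      rw [hF, fittingSubgroup_eq_iSup_pCore]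
      apply iSup_le
      intro q
      by_cases hq : (q : ℕ) = p
      · rw [hq, hN]; exact bot_le
      · exact le_pPrimeCore inferInstance (pCore_coprime_of_ne hp q.2 hq)
    exact Nat.Coprime.coprime_dvd_left (Subgroup.card_dvd_of_le hle) (pPrimeCore_coprime p)
  -- every p'-element centralizes F, hence lies in F
  have hcent : ∀ x : G, (orderOf x).Coprime p → F ≤ Subgroup.centralizer ({x} : Set G) := by
    intro x hx
    obtain ⟨k, hk⟩ := h x hx
    have h1 : (Subgroup.centralizer ({x} : Set G)).relIndex F ∣ p ^ k := by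
      rw [← hk]; exact relIndex_dvd_index_of_normal_right _ F
    have h2 : (Subgroup.centralizer ({x} : Set G)).relIndex F ∣ Nat.card F :=
      Subgroup.relIndex_dvd_card _ _
    have h3 : (Subgroup.centralizer ({x} : Set G)).relIndex F = 1 := by
      apply Nat.eq_one_of_dvd_coprimes (Nat.Coprime.pow_right k hFcop) h2 h1
    exact Subgroup.relIndex_eq_one.mp h3
  have hmem : ∀ x : G, (orderOf x).Coprime p → x ∈ F := by
    intro x hx
    have h1 : x ∈ Subgroup.centralizer (F : Set G) := by
      rw [Subgroup.mem_centralizer_iff]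
      intro y hy
      have := hcent x hx hy
      rw [Subgroup.mem_centralizer_singleton_iff] at this
      exact this
    rw [hF] at h1 ⊢
    exact Cfsg.Agent.S0044.result h1
  have hFp' : ∀ x : G, x ∈ F → (orderOf x).Coprime p := by
    intro x hx
    apply Nat.Coprime.coprime_dvd_left _ hFcop
    have := orderOf_dvd_natCard (⟨x, hx⟩ : F)
    rwa [← Subgroup.orderOf_coe] at this
  refine ⟨F, ⟨⟨?_⟩⟩, ?_, ?_⟩
  · rintro ⟨a, ha⟩ ⟨b, hb⟩
    apply Subtype.ext
    have := hcent a (hFp' a ha) hb
    rw [Subgroup.mem_centralizer_singleton_iff] at this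
    exact this.symm
  · exact (Nat.Prime.coprime_iff_not_dvd hp).mp hFcop.symm
  · refine ⟨_, Nat.eq_prime_pow_of_unique_prime_dvd Subgroup.index_ne_zero_of_finite ?_⟩
    intro q hq hqd
    by_contra hne
    have : Fact q.Prime := ⟨hq⟩
    obtain ⟨Q⟩ : Nonempty (Sylow q G) := inferInstance
    have hQF : (Q : Subgroup G) ≤ F := by
      intro x hx
      apply hmem
      obtain ⟨j, hj⟩ := (IsPGroup.iff_orderOf.mp Q.2 (⟨x, hx⟩ : Q))
      have : orderOf x = q ^ j := by rw [← hj, Subgroup.orderOf_mk]
      rw [this]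
      exact Nat.Coprime.pow_left j ((Nat.coprime_primes hq hp).mpr hne)
    have h1 : F.index ∣ (Q : Subgroup G).index := Subgroup.index_dvd_of_le hQF
    exact Q.not_dvd_index (hqd.trans h1)

theorem exists_abelian_pcomplement {p : ℕ} (hp : p.Prime) : ∀ n : ℕ, ∀ (G : Type u) [Group G] [Finite G],
    Nat.card G = n → PRegIndex p G →
    ∃ H : Subgroup G, IsMulCommutative H ∧ ¬ p ∣ Nat.card H ∧ ∃ k : ℕ, H.index = p ^ k := by
  intro n
  induction n using Nat.strong_induction_on with
  | _ n ih =>
    intro G _ _ hn h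
    by_cases hN : Cfsg.pCore p G = ⊥
    · exact abelian_pcomplement_of_pCore_bot hp G h hN
    have : Fact p.Prime := ⟨hp⟩
    obtain ⟨N, hNdef⟩ : ∃ N : Subgroup G, N = Cfsg.pCore p G := ⟨_, rfl⟩
    have hNn : N.Normal := by rw [hNdef]; infer_instance
    have hNp : IsPGroup p N := by rw [hNdef]; exact pCore_isPGroup p
    rw [← hNdef] at hN
    obtain ⟨m, hm⟩ := hNp.exists_card_eq
    have hQlt : Nat.card (G ⧸ N) < n := by
      rw [← hn, ← Subgroup.index_eq_card, ← Subgroup.card_mul_index N]
      have h1 : 1 < Nat.card N := by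
        rw [Subgroup.one_lt_card_iff_ne_bot]; exact hN
      have h2 : 0 < N.index := Nat.pos_of_ne_zero Subgroup.index_ne_zero_of_finite
      nlinarith
    obtain ⟨Hbar, hab, hpn, k, hk⟩ := ih _ hQlt (G ⧸ N) rfl (pRegIndex_quotient hp h N)
    obtain ⟨K, hK⟩ : ∃ K : Subgroup G, K = Hbar.comap (QuotientGroup.mk' N) := ⟨_, rfl⟩
    have hNK : N ≤ K := by
      intro x hx
      rw [hK, Subgroup.mem_comap]
      have : (QuotientGroup.mk' N) x = 1 := by
        rw [QuotientGroup.mk'_apply, QuotientGroup.eq_one_iff]; exact hx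
      rw [this]; exact one_mem _
    have hKidx : K.index = p ^ k := by
      rw [hK, Subgroup.index_comap_of_surjective _ (QuotientGroup.mk'_surjective N), hk]
    -- cardinalities
    have hGN : Nat.card (G ⧸ N) = Nat.card Hbar * p ^ k := by
      rw [← hk, Subgroup.card_mul_index]
    have hG : Nat.card G = p ^ m * (Nat.card Hbar * p ^ k) := by
      rw [← hGN, ← hm, ← Subgroup.index_eq_card, Subgroup.card_mul_index]
    have hKcard : Nat.card K = p ^ m * Nat.card Hbar := by
      have h1 := Subgroup.card_mul_index K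
      rw [hKidx, hG, ← mul_assoc] at h1
      exact Nat.eq_of_mul_eq_mul_right (pow_pos hp.pos k) h1
    have hNKcard : Nat.card (N.subgroupOf K) = p ^ m := by
      rw [← hm]
      exact Nat.card_congr (Subgroup.subgroupOfEquivOfLe hNK).toEquiv
    have hNKidx : (N.subgroupOf K).index = Nat.card Hbar := by
      have h1 := Subgroup.card_mul_index (N.subgroupOf K)
      rw [hNKcard, hKcard] at h1
      exact Nat.eq_of_mul_eq_mul_left (pow_pos hp.pos m) h1
    have hcop : (Nat.card (N.subgroupOf K)).Coprime (N.subgroupOf K).index := by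
      rw [hNKcard, hNKidx]
      exact Nat.Coprime.pow_left m ((Nat.Prime.coprime_iff_not_dvd hp).mpr hpn)
    have hNKn : (N.subgroupOf K).Normal := inferInstance
    obtain ⟨H₀, hH₀⟩ := Subgroup.exists_right_complement'_of_coprime hcop
    have hH₀card : Nat.card H₀ = Nat.card Hbar := by
      have h1 := hH₀.card_mul_card
      rw [hNKcard, hKcard] at h1
      exact Nat.eq_of_mul_eq_mul_left (pow_pos hp.pos m) h1
    have hdisj := hH₀.disjoint
    have hH₀comm : ∀ x y : K, x ∈ H₀ → y ∈ H₀ → x * y = y * x := by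
      intro x y hx hy
      have hz : (x * y) * (y * x)⁻¹ ∈ H₀ := mul_mem (mul_mem hx hy) (inv_mem (mul_mem hy hx))
      have hz' : (x * y) * (y * x)⁻¹ ∈ N.subgroupOf K := by
        rw [Subgroup.mem_subgroupOf, ← QuotientGroup.eq_one_iff]
        have hmemK : ∀ z : G, z ∈ K → (z : G ⧸ N) ∈ Hbar := by
          intro z hz
          rw [hK, Subgroup.mem_comap] at hz; exact hz
        have hxH : ((x : G) : G ⧸ N) ∈ Hbar := hmemK _ x.2
        have hyH : ((y : G) : G ⧸ N) ∈ Hbar := hmemK _ y.2
        have hc : ((x : G) : G ⧸ N) * ((y : G) : G ⧸ N) = ((y : G) : G ⧸ N) * ((x : G) : G ⧸ N) := by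
          have := hab.is_comm.comm (⟨_, hxH⟩ : Hbar) ⟨_, hyH⟩
          exact congrArg Subtype.val this
        show ((((x : G) * (y : G)) * ((y : G) * (x : G))⁻¹ : G) : G ⧸ N) = 1
        rw [QuotientGroup.mk_mul, QuotientGroup.mk_inv, QuotientGroup.mk_mul, QuotientGroup.mk_mul, hc]
        exact mul_inv_cancel _
      have := Subgroup.disjoint_def.mp hdisj hz' hz
      exact mul_inv_eq_one.mp this
    refine ⟨H₀.map K.subtype, ⟨⟨?_⟩⟩, ?_, ?_⟩
    · rintro ⟨_, ⟨a, ha, rfl⟩⟩ ⟨_, ⟨b, hb, rfl⟩⟩
      apply Subtype.ext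
      show K.subtype a * K.subtype b = K.subtype b * K.subtype a
      rw [← map_mul, ← map_mul, hH₀comm a b ha hb]
    · rw [Subgroup.card_map_of_injective K.subtype_injective, hH₀card]
      exact hpn
    · refine ⟨m + k, ?_⟩
      have h1 := Subgroup.card_mul_index (H₀.map K.subtype)
      rw [Subgroup.card_map_of_injective K.subtype_injective, hH₀card, hG] at h1
      have hpos : 0 < Nat.card Hbar := Nat.card_pos
      have h2 : Nat.card Hbar * (H₀.map K.subtype).index = Nat.card Hbar * p ^ (m + k) := by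
        rw [h1, pow_add]; ring
      exact Nat.eq_of_mul_eq_mul_left hpos h2

theorem pRegIndex_of_abelian_pcomplement {p : ℕ} (hp : p.Prime) (G : Type u) [Group G] [Finite G]
    (H : Subgroup G) (hab : IsMulCommutative H) (hpn : ¬ p ∣ Nat.card H) (k : ℕ) (hk : H.index = p ^ k) :
    PRegIndex p G := by
  intro x hx
  have hnil : Group.IsNilpotent H := by
    open scoped IsMulCommutative in
    exact CommGroup.isNilpotent
  have hHall : (Nat.card H).Coprime H.index := by
    rw [hk]
    exact Nat.Coprime.pow_right k ((Nat.Prime.coprime_iff_not_dvd hp).mpr hpn).symm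
  have hprimes : ∀ q : ℕ, q.Prime → q ∣ Nat.card (Subgroup.zpowers x) → q ∣ Nat.card H := by
    intro q hq hqd
    rw [Nat.card_zpowers] at hqd
    have h1 : q ∣ Nat.card G := hqd.trans (orderOf_dvd_natCard x)
    rw [← Subgroup.card_mul_index H, hk] at h1
    rcases (Nat.Prime.dvd_mul hq).mp h1 with h2 | h2
    · exact h2
    · exfalso
      have h3 := hq.dvd_of_dvd_pow h2
      have h4 : q = p := (Nat.prime_dvd_prime_iff_eq hq hp).mp h3
      rw [h4] at hqd
      have := Nat.Coprime.eq_one_of_dvd hx.symm hqd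
      exact hp.one_lt.ne' this
  obtain ⟨g, hg⟩ := wielandt_nilpotent_hall_aux _ G H (Subgroup.zpowers x) rfl hnil hHall hprimes
  have hxg : x ∈ MulAut.conj g • H := hg (Subgroup.mem_zpowers x)
  have hle : MulAut.conj g • H ≤ Subgroup.centralizer ({x} : Set G) := by
    intro y hy
    rw [Subgroup.mem_centralizer_singleton_iff]
    rw [Subgroup.mem_pointwise_smul_iff_inv_smul_mem] at hxg hy
    have := hab.is_comm.comm ⟨_, hxg⟩ ⟨_, hy⟩
    have h2 := congrArg Subtype.val this
    simp only [Subgroup.coe_mul] at h2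
    rw [← smul_mul', ← smul_mul'] at h2
    exact (smul_left_cancel _ h2).symm
  have h1 : (Subgroup.centralizer ({x} : Set G)).index ∣ p ^ k := by
    rw [← hk]
    have : (MulAut.conj g • H).index = H.index :=
      Subgroup.index_map_equiv H (MulDistribMulAction.toMulEquiv G (MulAut.conj g))
    rw [← this]
    exact Subgroup.index_dvd_of_le hle
  obtain ⟨j, -, hj⟩ := (Nat.dvd_prime_pow hp).mp h1
  exact ⟨j, hj⟩

end Cfsg.Agent.H1

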