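import Mathlib
import Cfsg.Prelude.Def_Characters
import Cfsg.Prelude.Def_Blocks
import Cfsg.Agent.Lib.helper3.SchurBound3
import Cfsg.Agent.Lib.helper3.CharBasic2
import Cfsg.Agent.Lib.helper3.Irr5
import Cfsg.Agent.Lib.helper3.Inflate2
import Cfsg.Agent.Lib.Helper6.PowInvA

set_option autoImplicit false
set_option linter.style.haveILetI false
set_option linter.unusedSectionVars false

/-!
# S4472, piece P4: from a Galois-stable lift to the divisibility (helper1)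
-/

namespace Cfsg.Agent.H1.PSolvLin

open Cfsg Module
open scoped Nat

universe u

/-- A character whose kernel contains the normal subgroup `M` descends to `Q ⧸ M`. -/
theorem exists_quotient_character {Q : Type u} [Group Q] [Finite Q] (Θ : Q → ℂ)
    (hΘ : IsCharacter Q Θ) (M : Subgroup Q) [M.Normal] (hM : ∀ m ∈ M, Θ m = Θ 1) :
    ∃ Θb : Q ⧸ M → ℂ, IsCharacter (Q ⧸ M) Θb ∧ ∀ q : Q, Θb (q : Q ⧸ M) = Θ q := by
  obtain ⟨n, ρ, rfl⟩ := hΘ
  have hker : M ≤ MonoidHom.ker ρ := by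
    intro m hm
    rw [MonoidHom.mem_ker]
    have h1 := hM m hm
    rw [Representation.char_one] at h1
    have h2 := (Cfsg.Agent.Lib.helper3.CharBasic.character_eq_finrank_iff ρ m).mp h1
    rw [h2]
    rfl
  refine ⟨(Representation.character (QuotientGroup.lift M ρ hker :
    Representation ℂ (Q ⧸ M) (Fin n → ℂ))), ⟨n, _, rfl⟩, ?_⟩
  intro q
  unfold Representation.character
  rw [QuotientGroup.lift_mk]

theorem card_dvd {X : Type u} [Group X] [Finite X] (p : ℕ) (hp : p.Prime) (K : Subgroup X)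
    [hKn : K.Normal] (hK : (Nat.card K).Coprime p) (Q : Subgroup X) (hQ : IsPGroup p Q)
    (hcard : Nat.card X = Nat.card K * Nat.card Q)
    (Ψ : X → ℂ) (hΨ : IsCharacter X Ψ)
    (hfaithK : ∀ k : K, Ψ k = Ψ 1 → k = 1)
    (hpow : ∀ j : ℕ, j.Coprime (Nat.card X) → j ≡ 1 [MOD Nat.card K] → ∀ x : X, Ψ (x ^ j) = Ψ x)
    (n : ℕ) (hn : Ψ 1 = n) :
    Nat.card Q ∣ Nat.card ↥(Q ⊓ Subgroup.centralizer (K : Set X)) *
      (p ^ (n / (p - 1)) * (n / (p - 1))!) := by
  classical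
  haveI : Fact p.Prime := ⟨hp⟩
  have hΘ : IsCharacter Q (fun q : Q => Ψ q) := Cfsg.Agent.Lib.helper3.Irr.isCharacter_restrict hΨ Q
  set Θ : Q → ℂ := fun q : Q => Ψ q with hΘdef
  obtain ⟨b, hb⟩ := IsPGroup.iff_card.1 hQ
  have hcopKQ : (Nat.card Q).Coprime (Nat.card K) := by
    rw [hb]
    exact (Nat.Coprime.pow_right b hK).symm
  -- Galois stability on `Q`
  have hstab : ∀ (q : Q) (j : ℕ), j.Coprime (Nat.card Q) → Θ (q ^ j) = Θ q := by
    intro q j hj
    obtain ⟨j', hj'1, hj'2⟩ := Nat.chineseRemainder hcopKQ j 1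
    have hc1 : j'.Coprime (Nat.card Q) := by
      unfold Nat.Coprime at hj ⊢
      rw [hj'1.gcd_eq, hj]
    have hc2 : j'.Coprime (Nat.card K) := by
      unfold Nat.Coprime
      rw [hj'2.gcd_eq]
      exact Nat.gcd_one_left _
    have hc : j'.Coprime (Nat.card X) := by
      rw [hcard]
      exact Nat.Coprime.mul_right hc2 hc1
    have h1 := hpow j' hc hj'2 (q : X)
    have h2 : q ^ j' = q ^ j := by
      rw [pow_eq_pow_iff_modEq]
      exact hj'1.of_dvd (orderOf_dvd_natCard q)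
    show Ψ ((q ^ j : Q) : X) = Ψ (q : X)
    rw [← h2, Subgroup.coe_pow, h1]
  -- the kernel
  set M : Subgroup Q := Cfsg.Agent.Lib.Helper4.Codegree.charKer Θ hΘ with hMdef
  haveI : M.Normal := Cfsg.Agent.Lib.Helper4.Codegree.charKer_normal Θ hΘ
  obtain ⟨Θb, hΘb, hΘbq⟩ := exists_quotient_character Θ hΘ M (fun m hm => hm)
  letI : Fintype (Q ⧸ M) := Fintype.ofFinite _
  have hfaith : ∀ x : Q ⧸ M, Θb x = Θb 1 → x = 1 := by
    intro x hx
    obtain ⟨q, rfl⟩ := QuotientGroup.mk_surjective x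
    rw [← QuotientGroup.mk_one, hΘbq, hΘbq] at hx
    exact (QuotientGroup.eq_one_iff q).2 hx
  have hn' : Θb 1 = n := by
    rw [← QuotientGroup.mk_one, hΘbq]
    exact hn
  have hA : ∀ (x : Q ⧸ M) (j : ℕ), j.Coprime p → Θb (x ^ j) = Θb x := by
    intro x j hj
    obtain ⟨q, rfl⟩ := QuotientGroup.mk_surjective x
    rw [← QuotientGroup.mk_pow, hΘbq, hΘbq]
    apply hstab
    rw [hb]
    exact Nat.Coprime.pow_right b hj
  have hB : ∀ x : Q ⧸ M, ∃ z : ℤ, Θb x = z := by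
    intro x
    obtain ⟨q, rfl⟩ := QuotientGroup.mk_surjective x
    rw [hΘbq]
    exact Cfsg.Agent.Lib.Helper6.PowInv.exists_int_of_pow_invariant Θ hΘ q (fun j hj => hstab q j hj)
  have hdvd := Cfsg.Agent.Lib.helper3.SchurBound.card_dvd_of_rational p hp (hQ.to_quotient M) Θb hΘb
    hfaith n hn' hA hB
  -- `M ≤ C_Q(K)`
  have hMle : M.map Q.subtype ≤ Q ⊓ Subgroup.centralizer (K : Set X) := by
    rintro _ ⟨m, hm, rfl⟩
    refine Subgroup.mem_inf.2 ⟨m.2, Subgroup.mem_centralizer_iff.2 ?_⟩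
    intro k hk
    -- the commutator lies in `K` and in the kernel of `Ψ`
    have hmker : Ψ (m : X) = Ψ 1 := hm
    have hcK : (m : X) * k * (m : X)⁻¹ * k⁻¹ ∈ K := by
      exact K.mul_mem (hKn.conj_mem k hk (m : X)) (K.inv_mem hk)
    have hcf := Cfsg.Agent.Lib.helper3.Irr.isClassFunction_of_isCharacter hΨ
    have h1 : Ψ ((m : X) * k * (m : X)⁻¹ * k⁻¹) = Ψ 1 := by
      have h2 : (m : X) * k * (m : X)⁻¹ * k⁻¹ = (m : X) * (k * (m : X)⁻¹ * k⁻¹) := by group
      have h3 : Ψ (k * (m : X)⁻¹ * k⁻¹) = Ψ 1 := by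
        rw [hcf (m : X)⁻¹ k]
        have := Cfsg.Agent.Lib.helper3.Irr.apply_mul_of_apply_eq_one hΨ hmker (m : X)⁻¹
        rw [inv_mul_cancel] at this
        exact this.symm
      rw [h2, Cfsg.Agent.Lib.helper3.Irr.apply_mul_of_apply_eq_one hΨ h3 (m : X), hmker]
    have h4 := hfaithK ⟨_, hcK⟩ h1
    have h5 : (m : X) * k * (m : X)⁻¹ * k⁻¹ = 1 := congrArg Subtype.val h4
    calc k * (m : X) = ((m : X) * k * (m : X)⁻¹ * k⁻¹)⁻¹ * ((m : X) * k) := by group
      _ = (m : X) * k := by rw [h5, inv_one, one_mul]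
  have hMcard : Nat.card M ∣ Nat.card ↥(Q ⊓ Subgroup.centralizer (K : Set X)) := by
    have h1 : Nat.card (M.map Q.subtype) = Nat.card M :=
      Subgroup.card_map_of_injective Q.subtype_injective
    rw [← h1]
    exact Subgroup.card_dvd_of_le hMle
  have hQM : Nat.card Q = Nat.card M * Nat.card (Q ⧸ M) := by
    rw [← Subgroup.index_eq_card, Subgroup.card_mul_index]
  rw [hQM]
  exact Nat.mul_dvd_mul hMcard hdvd

end Cfsg.Agent.H1.PSolvLin
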