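import Mathlib
import Cfsg.Prelude.Def_Characters
import Cfsg.Prelude.Def_Blocks
import Cfsg.Prelude.Def_Local
import Cfsg.Agent.H1.PSolvLin1
import Cfsg.Agent.Lib.helper3.Irr8
import Cfsg.Agent.Lib.Helper6.PSolvDual
import Cfsg.Agent.Lib.Helper6.PSolvPair

set_option autoImplicit false
set_option linter.style.haveILetI false
set_option linter.unusedSectionVars false

/-!
# S4472: assembly (helper1)
-/

namespace Cfsg.Agent.H1.PSolvLin

open Cfsg Module
open scoped Nat

universe u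

/-- Piece P3 (Galois-stable lift), as a statement. -/
def P3Stmt : Prop :=
  ∀ (X : Type u) [Group X] [Finite X] (K : Subgroup X) [K.Normal],
    (Nat.card K).Coprime K.index → ∀ (χ : X → ℂ), IsCharacter X χ →
    ∃ Ψ : X → ℂ, IsCharacter X Ψ ∧ (∀ k : K, Ψ k = χ k) ∧
      ∀ j : ℕ, j.Coprime (Nat.card X) → j ≡ 1 [MOD Nat.card K] → ∀ x : X, Ψ (x ^ j) = Ψ x

/-- `K` a `p'`-group normalized by the `p`-group `Q` inside `G` with a faithful character of
degree `n`: `|Q : C_Q(K)|` divides `p^T T!`, `T = n / (p-1)`. -/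
theorem main_bound (h3 : P3Stmt.{u}) {G : Type u} [Group G] [Finite G] (p : ℕ) (hp : p.Prime)
    (χ : G → ℂ) (hχ : IsCharacter G χ) (hfaith : ∀ g : G, χ g = χ 1 → g = 1) (n : ℕ)
    (hn : χ 1 = n) (K Q : Subgroup G) (hK : (Nat.card K).Coprime p) (hQ : IsPGroup p Q)
    (hQK : Q ≤ Subgroup.normalizer (K : Set G)) :
    Nat.card Q ∣ Nat.card ↥(Q ⊓ Subgroup.centralizer (K : Set G)) *
      (p ^ (n / (p - 1)) * (n / (p - 1))!) := by
  classical
  haveI : Fact p.Prime := ⟨hp⟩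
  set X : Subgroup G := K ⊔ Q with hX
  have hKX : K ≤ X := le_sup_left
  have hQX : Q ≤ X := le_sup_right
  have hXN : X ≤ Subgroup.normalizer (K : Set G) := sup_le Subgroup.le_normalizer hQK
  haveI hKn : (K.subgroupOf X).Normal := (Subgroup.normal_subgroupOf_iff_le_normalizer hKX).2 hXN
  have hcK : Nat.card (K.subgroupOf X) = Nat.card K :=
    Nat.card_congr (Subgroup.subgroupOfEquivOfLe hKX).toEquiv
  have hcQ : Nat.card (Q.subgroupOf X) = Nat.card Q :=
    Nat.card_congr (Subgroup.subgroupOfEquivOfLe hQX).toEquiv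
  obtain ⟨b, hb⟩ := IsPGroup.iff_card.1 hQ
  have hcop : (Nat.card K).Coprime (Nat.card Q) := by
    rw [hb]
    exact Nat.Coprime.pow_right b hK
  -- `X = K ⋊ Q`
  have hcompl : Subgroup.IsComplement' (K.subgroupOf X) (Q.subgroupOf X) := by
    apply Subgroup.isComplement'_of_disjoint_and_mul_eq_univ
    · rw [disjoint_iff]
      apply Subgroup.inf_eq_bot_of_coprime
      rw [hcK, hcQ]
      exact hcop
    · have h1 : (K.subgroupOf X) ⊔ (Q.subgroupOf X) = ⊤ := by
        rw [← Subgroup.subgroupOf_sup hKX hQX]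
        exact Subgroup.subgroupOf_self X
      rw [← Subgroup.normal_mul, h1]
      rfl
  have hcardX : Nat.card X = Nat.card (K.subgroupOf X) * Nat.card (Q.subgroupOf X) :=
    hcompl.card_mul.symm
  have hidx : (K.subgroupOf X).index = Nat.card (Q.subgroupOf X) := by
    have h1 := Subgroup.card_mul_index (K.subgroupOf X)
    rw [hcardX] at h1
    have hpos : 0 < Nat.card (K.subgroupOf X) := Nat.card_pos
    exact Nat.eq_of_mul_eq_mul_left hpos h1
  have hcop' : (Nat.card (K.subgroupOf X)).Coprime (K.subgroupOf X).index := by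
    rw [hidx, hcK, hcQ]
    exact hcop
  have hχX : IsCharacter X (fun x : X => χ x) := Cfsg.Agent.Lib.helper3.Irr.isCharacter_restrict hχ X
  obtain ⟨Ψ, hΨ, hΨK, hΨpow⟩ := h3 X (K.subgroupOf X) hcop' (fun x : X => χ x) hχX
  have hΨ1 : Ψ 1 = n := by
    have := hΨK 1
    rw [Subgroup.coe_one] at this
    rw [this]
    exact hn
  have hfaithK : ∀ k : K.subgroupOf X, Ψ k = Ψ 1 → k = 1 := by
    intro k hk
    rw [hΨK k, hΨ1, ← hn] at hk
    have h1 := hfaith _ hk
    apply Subtype.ext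
    apply Subtype.ext
    exact h1
  have hmain := card_dvd p hp (K.subgroupOf X) (by rw [hcK]; exact hK) (Q.subgroupOf X)
    (hQ.comap_subtype) hcardX Ψ hΨ hfaithK hΨpow n hΨ1
  rw [hcQ] at hmain
  -- translate the centralizer
  have hle : ((Q.subgroupOf X) ⊓ Subgroup.centralizer ((K.subgroupOf X : Subgroup X) : Set X)).map
      X.subtype ≤ Q ⊓ Subgroup.centralizer (K : Set G) := by
    rintro _ ⟨x, hx, rfl⟩
    obtain ⟨hx1, hx2⟩ := Subgroup.mem_inf.1 hx
    refine Subgroup.mem_inf.2 ⟨Subgroup.mem_subgroupOf.1 hx1, Subgroup.mem_centralizer_iff.2 ?_⟩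
    intro k hk
    have h1 := Subgroup.mem_centralizer_iff.1 hx2 ⟨k, hKX hk⟩ (Subgroup.mem_subgroupOf.2 hk)
    exact congrArg Subtype.val h1
  have hdv : Nat.card ↥((Q.subgroupOf X) ⊓
      Subgroup.centralizer ((K.subgroupOf X : Subgroup X) : Set X))
      ∣ Nat.card ↥(Q ⊓ Subgroup.centralizer (K : Set G)) := by
    rw [← Subgroup.card_map_of_injective X.subtype_injective]
    exact Subgroup.card_dvd_of_le hle
  exact hmain.trans (Nat.mul_dvd_mul_right hdv _)

theorem final (h3 : P3Stmt.{u}) {G : Type u} [Group G] [Finite G] (χ : G → ℂ)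
    (hχ : IsCharacter G χ) (hfaith : ∀ g : G, χ g = χ 1 → g = 1) (n : ℕ)
    (hn : charDegree χ = n) (p : ℕ) (hp : p.Prime) (hsolv : IsPSolvable p G) :
    ((pCore p G).index).factorization p ≤ ∑ i ∈ Finset.range (n + 1), n / ((p - 1) * p ^ i) := by
  classical
  haveI : Fact p.Prime := ⟨hp⟩
  have hn1 : χ 1 = n := by
    obtain ⟨m, hm⟩ := Cfsg.Agent.Lib.helper3.Irr.exists_nat_apply_one hχ
    rw [hm]
    unfold charDegree at hn
    rw [hm, Complex.natCast_re, Nat.floor_natCast] at hn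
    rw [hn]
  obtain ⟨K, Q, hK, hQ, hQK, hdiv⟩ := Cfsg.Agent.Lib.Helper6.PSolvPair.exists_pair p hsolv
    (fun H _ _ h1 h2 => Cfsg.Agent.Lib.Helper6.PSolvDual.centralizer_pPrimeCore_le p h1 h2)
  have hmain := main_bound h3 p hp χ hχ hfaith n hn1 K Q hK hQ hQK
  obtain ⟨a, ha⟩ : ∃ a : ℕ, a = ((pCore p G).index).factorization p := ⟨_, rfl⟩
  rw [← ha] at hdiv ⊢
  have h1 := hdiv.trans hmain
  rw [mul_comm] at h1
  have hpos : 0 < Nat.card ↥(Q ⊓ Subgroup.centralizer (K : Set G)) := Nat.card_pos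
  have hdvd : p ^ a ∣ p ^ (n / (p - 1)) * (n / (p - 1))! :=
    Nat.dvd_of_mul_dvd_mul_left hpos h1
  obtain ⟨T, hT⟩ : ∃ T : ℕ, T = n / (p - 1) := ⟨_, rfl⟩
  rw [← hT] at hdvd
  have hne : p ^ T * T ! ≠ 0 := Nat.mul_ne_zero (pow_ne_zero _ hp.ne_zero) (Nat.factorial_ne_zero _)
  have h1 := (Nat.Prime.pow_dvd_iff_le_factorization hp hne).1 hdvd
  rw [Nat.factorization_mul (pow_ne_zero _ hp.ne_zero) (Nat.factorial_ne_zero _),
    Finsupp.add_apply, Nat.Prime.factorization_pow hp, Finsupp.single_eq_same] at h1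
  have hlog : Nat.log p T < n + 1 := by
    have h2 : Nat.log p T ≤ T := Nat.log_le_self p T
    have h3 : T ≤ n := by rw [hT]; exact Nat.div_le_self n (p - 1)
    omega
  rw [Nat.factorization_factorial hp hlog] at h1
  refine le_trans h1 (le_of_eq ?_)
  have h4 : ∀ i ∈ Finset.range (n + 1), n / ((p - 1) * p ^ i) = T / p ^ i := by
    intro i _
    rw [hT, Nat.div_div_eq_div_mul]
  rw [Finset.sum_congr rfl h4, Finset.range_eq_Ico,
    Finset.sum_eq_sum_Ico_succ_bot (Nat.succ_pos n)]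
  simp

end Cfsg.Agent.H1.PSolvLin
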