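import Mathlib
import Cfsg.Agent.H1.Hall
import Cfsg.Agent.Lib.Lead.PSolvable

set_option autoImplicit false
open scoped Pointwise commutatorElement
open Cfsg

namespace Cfsg.Agent.H1

universe u

/-- dominance inside `N ⋊ H₁` for coprime orders, `N` solvable normal -/
lemma le_conj_of_le_sup {G : Type*} [Group G] [Finite G] (N H₁ K : Subgroup G) [hNn : N.Normal]
    (hcopH : (Nat.card H₁).Coprime (Nat.card N)) (hcopK : (Nat.card K).Coprime (Nat.card N))
    (hNsolv : Group.IsSolvable N) (hKle : K ≤ N ⊔ H₁) : ∃ x ∈ N, K ≤ MulAut.conj x • H₁ := by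
  have hNtop : (⊤ : Subgroup G) ≤ Subgroup.normalizer (N : Set G) := by rw [Subgroup.normalizer_eq_top]
  have hH₁N : H₁ ⊓ N = ⊥ := (Subgroup.disjoint_of_coprime_natCard hcopH).eq_bot
  have hKN : K ⊓ N = ⊥ := (Subgroup.disjoint_of_coprime_natCard hcopK).eq_bot
  obtain ⟨K₁, hK₁⟩ : ∃ K₁ : Subgroup G, K₁ = (K ⊔ N) ⊓ H₁ := ⟨_, rfl⟩
  have hK₁N : K₁ ⊓ N = ⊥ := by
    rw [eq_bot_iff, ← hH₁N, hK₁]; exact inf_le_inf_right _ inf_le_right
  have hsup : N ⊔ K₁ = N ⊔ K := by
    apply le_antisymm
    · refine sup_le le_sup_left ?_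
      rw [hK₁, sup_comm N K]; exact inf_le_left
    · refine sup_le le_sup_left ?_
      intro x hx
      obtain ⟨n₁, hn₁, h₁, hh₁, e⟩ := Subgroup.mem_sup_of_normal_left.mp (hKle hx)
      have hmem : h₁ ∈ K₁ := by
        rw [hK₁]; refine Subgroup.mem_inf.mpr ⟨?_, hh₁⟩
        have : h₁ = n₁⁻¹ * x := by rw [← e]; group
        rw [this]; exact mul_mem (Subgroup.mem_sup_right (inv_mem hn₁)) (Subgroup.mem_sup_left hx)
      rw [← e]; exact mul_mem (Subgroup.mem_sup_left hn₁) (Subgroup.mem_sup_right hmem)
  have hK₁card : Nat.card K₁ = Nat.card K := by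
    have h1 := card_sup_mul_card_inf K₁ N (le_top.trans hNtop)
    have h2 := card_sup_mul_card_inf K N (le_top.trans hNtop)
    rw [hK₁N, Subgroup.card_bot, mul_one, sup_comm, hsup] at h1
    rw [hKN, Subgroup.card_bot, mul_one, sup_comm] at h2
    exact Nat.eq_of_mul_eq_mul_right Nat.card_pos (h1.symm.trans h2)
  have hcopK₁ : (Nat.card K₁).Coprime (Nat.card N) := by
    rw [hK₁card]; exact hcopK
  obtain ⟨x, hxN, hx⟩ := coprime_conj K₁ N K (le_top.trans hNtop) hcopK₁ (Or.inr hNsolv)
    (by rw [hsup]; exact le_sup_right) hK₁card.symm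
  refine ⟨x, hxN, ?_⟩
  rw [← hx]
  intro y hy
  rw [mem_conj_smul] at hy ⊢
  rw [hK₁] at hy; exact (Subgroup.mem_inf.mp hy).2

abbrev PCompProp (p : ℕ) (G : Type u) [Group G] : Prop :=
  (∃ H : Subgroup G, (Nat.card H).Coprime p ∧ ∃ n : ℕ, H.index = p ^ n) ∧
  (∀ H K : Subgroup G, (Nat.card H).Coprime p → (∃ n : ℕ, H.index = p ^ n) → (Nat.card K).Coprime p →
    ∃ g : G, K ≤ MulAut.conj g • H)

theorem pcomp_aux (p : ℕ) [hp : Fact p.Prime] : ∀ c : ℕ, ∀ (G : Type u) [Group G] [Finite G],
    Nat.card G = c → Cfsg.IsPSolvable p G → PCompProp p G := by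
  intro c
  induction c using Nat.strong_induction_on with
  | _ c ih =>
    intro G _ _ hc hG
    by_cases htriv : Subsingleton G
    · refine ⟨⟨⊤, ?_, 0, ?_⟩, ?_⟩
      · rw [Subgroup.card_top, Nat.card_eq_one_iff_unique.mpr ⟨htriv, ⟨1⟩⟩]; exact Nat.coprime_one_left p
      · rw [Subgroup.index_top, pow_zero]
      · intro H K _ _ _
        refine ⟨1, fun x _ => ?_⟩
        rw [Subsingleton.elim x 1]; exact one_mem _
    · have hnt : Nontrivial G := not_subsingleton_iff_nontrivial.mp htriv
      obtain ⟨N, hNn, hNne, hNp⟩ := Cfsg.Agent.Lib.Lead.PSolvable.IsPSolvable.exists_normal hG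
      have hcardG : Nat.card G = Nat.card (G ⧸ N) * Nat.card N :=
        Subgroup.card_eq_card_quotient_mul_card_subgroup N
      have hN1 : 1 < Nat.card N := by
        rcases Nat.lt_or_ge 1 (Nat.card N) with h | h
        · exact h
        · exfalso; apply hNne
          rw [← Subgroup.card_eq_one]
          have : 0 < Nat.card N := Nat.card_pos
          omega
      have hlt : Nat.card (G ⧸ N) < c := by
        rw [← hc, hcardG]
        have h2 : 0 < Nat.card (G ⧸ N) := Nat.card_pos
        nlinarith
      have hGq : Cfsg.IsPSolvable p (G ⧸ N) := Cfsg.Agent.Lib.Lead.PSolvable.IsPSolvable.quotient N hG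
      obtain ⟨π, hπ⟩ : ∃ π : G →* G ⧸ N, π = QuotientGroup.mk' N := ⟨_, rfl⟩
      have hπs : Function.Surjective π := by rw [hπ]; exact QuotientGroup.mk'_surjective N
      have hker : π.ker = N := by rw [hπ]; exact QuotientGroup.ker_mk' N
      have hidx_map : ∀ H : Subgroup G, (H.map π).index = (H ⊔ N).index := by
        intro H
        rw [Subgroup.index_map, hker, MonoidHom.range_eq_top_of_surjective _ hπs, Subgroup.index_top, mul_one]
      obtain ⟨⟨Hq, hHqc, nq, hHqi⟩, hD⟩ := ih _ hlt (G ⧸ N) rfl hGq
      have hQcard : Nat.card (G ⧸ N) = Nat.card Hq * p ^ nq := by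
        rw [← hHqi]; exact Hq.card_mul_index.symm
      have hppos : ∀ j, 0 < p ^ j := fun j => pow_pos hp.out.pos j
      -- lifting dominance from quotient
      have hlift : ∀ (H K : Subgroup G) (g : G), K.map π ≤ MulAut.conj (π g) • H.map π →
          K ≤ N ⊔ MulAut.conj g • H := by
        intro H K g hq x hx
        have h1 : π x ∈ MulAut.conj (π g) • H.map π := hq (Subgroup.mem_map_of_mem _ hx)
        rw [mem_conj_smul] at h1
        have h2 : π (g⁻¹ * x * g) ∈ H.map π := by simpa using h1
        rw [← Subgroup.mem_comap, Subgroup.comap_map_eq, hker] at h2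
        obtain ⟨h, hh, n₁, hn₁, e⟩ := Subgroup.mem_sup_of_normal_right.mp h2
        have e2 : x = (g * h * g⁻¹) * (g * n₁ * g⁻¹) := by
          calc x = g * (g⁻¹ * x * g) * g⁻¹ := by group
            _ = _ := by rw [← e]; group
        rw [e2]
        exact mul_mem (Subgroup.mem_sup_right ((conj_mem_conj_smul _ _ _).mpr hh))
          (Subgroup.mem_sup_left (hNn.conj_mem _ hn₁ _))
      have hmapc : ∀ H : Subgroup G, (Nat.card H).Coprime p → (Nat.card (H.map π)).Coprime p :=
        fun H hH => Nat.Coprime.coprime_dvd_left (Subgroup.card_map_dvd _ _) hH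
      have hmapi : ∀ H : Subgroup G, (∃ n : ℕ, H.index = p ^ n) → ∃ n : ℕ, (H.map π).index = p ^ n := by
        rintro H ⟨n, hn⟩
        have : (H.map π).index ∣ p ^ n := by
          rw [hidx_map, ← hn]; exact Subgroup.index_dvd_of_le le_sup_left
        obtain ⟨m, -, hm⟩ := (Nat.dvd_prime_pow hp.out).mp this
        exact ⟨m, hm⟩
      rcases hNp with hNp | hNp
      · -- N is a p-group
        obtain ⟨k, hk⟩ := hNp.exists_card_eq
        have hNsolv : Group.IsSolvable N := by
          have := hNp.isNilpotent
          exact IsNilpotent.to_isSolvable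
        have hcopN : ∀ H : Subgroup G, (Nat.card H).Coprime p → (Nat.card H).Coprime (Nat.card N) := by
          intro H hH; rw [hk]; exact Nat.Coprime.pow_right _ hH
        constructor
        · obtain ⟨A, hA⟩ : ∃ A : Subgroup G, A = Hq.comap π := ⟨_, rfl⟩
          have hNA : N ≤ A := by
            rw [hA]; exact hker.symm.le.trans (MonoidHom.ker_le_comap _ _)
          have hAidx : A.index = p ^ nq := by
            rw [hA, Subgroup.index_comap_of_surjective Hq hπs]; exact hHqi
          have hAcard : Nat.card A = Nat.card Hq * p ^ k := by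
            have := A.card_mul_index
            rw [hAidx, hcardG, hQcard, hk] at this
            have h2 : Nat.card A * p ^ nq = (Nat.card Hq * p ^ k) * p ^ nq := by rw [this]; ring
            exact Nat.eq_of_mul_eq_mul_right (hppos nq) h2
          have hN'card : Nat.card (N.subgroupOf A) = p ^ k := by rw [card_subgroupOf_of_le hNA, hk]
          have hN'idx : (N.subgroupOf A).index = Nat.card Hq := by
            have := (N.subgroupOf A).card_mul_index
            rw [hN'card, hAcard, mul_comm (Nat.card Hq)] at this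
            exact Nat.eq_of_mul_eq_mul_left (hppos k) this
          obtain ⟨H', hH'⟩ := Subgroup.exists_right_complement'_of_coprime (N := N.subgroupOf A)
            (by rw [hN'card, hN'idx]; exact (Nat.Coprime.pow_right _ hHqc).symm)
          have hH'card : Nat.card H' = Nat.card Hq := by
            have := hH'.card_mul_card
            rw [hN'card, hAcard, mul_comm (Nat.card Hq)] at this
            exact Nat.eq_of_mul_eq_mul_left (hppos k) this
          refine ⟨H'.map A.subtype, ?_, nq + k, ?_⟩
          · rw [Subgroup.card_map_of_injective A.subtype_injective, hH'card]; exact hHqc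
          · have := (H'.map A.subtype).card_mul_index
            rw [Subgroup.card_map_of_injective A.subtype_injective, hH'card, hcardG, hQcard, hk] at this
            have h2 : Nat.card Hq * (H'.map A.subtype).index = Nat.card Hq * p ^ (nq + k) := by
              rw [this, pow_add]; ring
            exact Nat.eq_of_mul_eq_mul_left Nat.card_pos h2
        · intro H K hH hHi hK
          obtain ⟨q, hq⟩ := hD (H.map π) (K.map π) (hmapc H hH) (hmapi H hHi) (hmapc K hK)
          obtain ⟨g, rfl⟩ := hπs q
          have hKle := hlift H K g hq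
          obtain ⟨x, -, hx⟩ := le_conj_of_le_sup N (MulAut.conj g • H) K
            (by rw [card_conj_smul]; exact hcopN H hH) (hcopN K hK) hNsolv hKle
          refine ⟨x * g, ?_⟩
          rw [map_mul, mul_smul]; exact hx
      · -- N is a p'-group
        have hNle : ∀ H : Subgroup G, (∃ n : ℕ, H.index = p ^ n) → N ≤ H := by
          rintro H ⟨n, hn⟩
          have h1 : (H ⊓ N).relIndex N ∣ Nat.card N := Subgroup.relIndex_dvd_card _ _
          have h2 : (H ⊓ N).relIndex N ∣ p ^ n := by
            rw [Subgroup.inf_relIndex_right, ← hn, ← Subgroup.relIndex_top_right H]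
            exact relIndex_dvd_relIndex_of_normal H N ⊤ le_top (by rw [Subgroup.normalizer_eq_top])
          have h3 : (H ⊓ N).relIndex N = 1 :=
            Nat.eq_one_of_dvd_coprimes (Nat.Coprime.pow_right n hNp) h1 h2
          exact (Subgroup.relIndex_eq_one.mp h3).trans inf_le_left
        constructor
        · refine ⟨Hq.comap π, ?_, nq, ?_⟩
          · have hi : (Hq.comap π).index = p ^ nq := by
              rw [Subgroup.index_comap_of_surjective Hq hπs]; exact hHqi
            have := (Hq.comap π).card_mul_index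
            rw [hi, hcardG, hQcard] at this
            have h2 : Nat.card (Hq.comap π) * p ^ nq = (Nat.card Hq * Nat.card N) * p ^ nq := by
              rw [this]; ring
            rw [Nat.eq_of_mul_eq_mul_right (hppos nq) h2]
            exact Nat.Coprime.mul_left hHqc hNp
          · rw [Subgroup.index_comap_of_surjective Hq hπs]; exact hHqi
        · intro H K hH hHi hK
          have hNH := hNle H hHi
          obtain ⟨q, hq⟩ := hD (H.map π) (K.map π) (hmapc H hH) (hmapi H hHi) (hmapc K hK)
          obtain ⟨g, rfl⟩ := hπs q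
          have hKle := hlift H K g hq
          refine ⟨g, hKle.trans (sup_le ?_ le_rfl)⟩
          intro y hy
          rw [mem_conj_smul]
          exact hNH (hNn.conj_mem' _ hy _)

end Cfsg.Agent.H1

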