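import Mathlib
import Cfsg.Agent.H1.Basic
import Cfsg.Agent.H1.BaerTrick
import Cfsg.Agent.H1.StemMeta
import Cfsg.Prelude.Def_KGroupFacts

set_option autoImplicit false

namespace Cfsg.Agent.H1

open Cfsg
open scoped commutatorElement

universe u v

section perfectCover

/-- commutators do not see central factors -/
lemma comm_mul_central {Γ : Type*} [Group Γ] (a b z w : Γ) (hz : z ∈ Subgroup.center Γ)
    (hw : w ∈ Subgroup.center Γ) : ⁅a * z, b * w⁆ = ⁅a, b⁆ := by
  have hzc : ∀ g : Γ, g * z = z * g := fun g => Subgroup.mem_center_iff.1 hz g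
  have hwc : ∀ g : Γ, g * w = w * g := fun g => Subgroup.mem_center_iff.1 hw g
  have hzi : ∀ g : Γ, g * z⁻¹ = z⁻¹ * g :=
    fun g => Subgroup.mem_center_iff.1 (inv_mem hz) g
  have hwi : ∀ g : Γ, g * w⁻¹ = w⁻¹ * g :=
    fun g => Subgroup.mem_center_iff.1 (inv_mem hw) g
  rw [commutatorElement_def, commutatorElement_def, mul_inv_rev, mul_inv_rev]
  calc a * z * (b * w) * (z⁻¹ * a⁻¹) * (w⁻¹ * b⁻¹)
      = a * (z * (b * w) * z⁻¹) * a⁻¹ * (w⁻¹ * b⁻¹) := by group
    _ = a * (b * w) * a⁻¹ * (w⁻¹ * b⁻¹) := by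
        rw [← hzc (b * w), mul_assoc (b * w), mul_inv_cancel, mul_one]
    _ = a * b * (w * (a⁻¹ * w⁻¹)) * b⁻¹ := by group
    _ = a * b * a⁻¹ * b⁻¹ := by
        rw [hwi a⁻¹, ← mul_assoc w, mul_inv_cancel, one_mul]

/-- two homomorphisms from a perfect group that agree modulo the centre agree -/
lemma hom_eq_of_perfect_of_central {G Γ : Type*} [Group G] [Group Γ] (hG : Group.IsPerfect G)
    (f₁ f₂ : G →* Γ) (h : ∀ g, (f₂ g)⁻¹ * f₁ g ∈ Subgroup.center Γ) : f₁ = f₂ := by
  have h1 : commutator G ≤ f₁.eqLocus f₂ := by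
    rw [commutator_eq_closure, Subgroup.closure_le]
    rintro _ ⟨a, b, rfl⟩
    show f₁ ⁅a, b⁆ = f₂ ⁅a, b⁆
    rw [map_commutatorElement, map_commutatorElement]
    have ea : f₁ a = f₂ a * ((f₂ a)⁻¹ * f₁ a) := by group
    have eb : f₁ b = f₂ b * ((f₂ b)⁻¹ * f₁ b) := by group
    rw [ea, eb, comm_mul_central _ _ _ _ (h a) (h b)]
  have h2 : commutator G = ⊤ := hG.commutator_eq_top
  rw [h2] at h1
  ext g
  exact h1 (Subgroup.mem_top g)

/-- a central extension of a central extension of a perfect group by a perfect group is central -/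
lemma ker_comp_le_center_of_perfect {Γ G Q : Type*} [Group Γ] [Group G] [Group Q]
    (hΓ : Group.IsPerfect Γ) (σ : Γ →* G) (hσ : σ.ker ≤ Subgroup.center Γ) (π : G →* Q)
    (hπ : π.ker ≤ Subgroup.center G) : (π.comp σ).ker ≤ Subgroup.center Γ := by
  obtain ⟨L, hL⟩ : ∃ L, L = (π.comp σ).ker := ⟨_, rfl⟩
  rw [← hL]
  have h1 : ⁅L, (⊤ : Subgroup Γ)⁆ ≤ Subgroup.center Γ := by
    refine le_trans ?_ hσ
    rw [Subgroup.commutator_le]
    intro l hl g _
    rw [MonoidHom.mem_ker, map_commutatorElement]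
    have h2 : σ l ∈ π.ker := by
      rw [hL, MonoidHom.mem_ker] at hl
      rw [MonoidHom.mem_ker]; exact hl
    exact comm_central_left _ (hπ h2)
  have h3 : ⁅⁅L, (⊤ : Subgroup Γ)⁆, (⊤ : Subgroup Γ)⁆ = ⊥ := by
    rw [eq_bot_iff, Subgroup.commutator_le]
    intro x hx g _
    rw [Subgroup.mem_bot]
    exact comm_central_left _ (h1 hx)
  have h4 : ⁅⁅(⊤ : Subgroup Γ), L⁆, (⊤ : Subgroup Γ)⁆ = ⊥ := by
    rw [Subgroup.commutator_comm ⊤ L]; exact h3
  have h5 : ⁅⁅(⊤ : Subgroup Γ), (⊤ : Subgroup Γ)⁆, L⁆ = ⊥ :=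
    Subgroup.commutator_commutator_eq_bot_of_rotate h4 h3
  have h6 : ⁅(⊤ : Subgroup Γ), (⊤ : Subgroup Γ)⁆ = ⊤ := hΓ.commutator_eq_top
  rw [h6] at h5
  intro l hl
  rw [Subgroup.mem_center_iff]
  intro g
  have h7 : ⁅g, l⁆ ∈ ⁅(⊤ : Subgroup Γ), L⁆ := Subgroup.commutator_mem_commutator trivial hl
  rw [h5, Subgroup.mem_bot, commutatorElement_eq_one_iff_mul_comm] at h7
  exact h7

/-- a stem extension of a perfect group is perfect -/
lemma isPerfect_of_stem {Γ G : Type*} [Group Γ] [Group G] (hG : Group.IsPerfect G) (σ : Γ →* G)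
    (hσ : Function.Surjective σ) (hcomm : σ.ker ≤ commutator Γ) : commutator Γ = ⊤ := by
  rw [eq_top_iff]
  intro g _
  have h1 : (commutator Γ).map σ = ⊤ := by
    rw [commutator_def, Subgroup.map_commutator, ← MonoidHom.range_eq_map,
      MonoidHom.range_eq_top.2 hσ]
    exact hG.commutator_eq_top
  have h2 : σ g ∈ (commutator Γ).map σ := by rw [h1]; trivial
  obtain ⟨c, hc, hcg⟩ := h2
  have h3 : c⁻¹ * g ∈ σ.ker := by
    rw [MonoidHom.mem_ker, map_mul, map_inv, hcg, inv_mul_cancel]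
  have e : g = c * (c⁻¹ * g) := by group
  rw [e]
  exact mul_mem hc (hcomm h3)

/-- a central extension of a finite group has finitely many commutators -/
lemma finite_commutatorSet_of_central {P G : Type*} [Group P] [Group G] [Finite G] (f : P →* G)
    (hf : f.ker ≤ Subgroup.center P) : Finite (commutatorSet P) := by
  classical
  -- a section on the range
  have hsec : ∀ y : f.range, ∃ x : P, f x = y := fun y => y.2
  choose s hs using hsec
  have hfin : (Set.range (fun q : f.range × f.range => ⁅s q.1, s q.2⁆)).Finite :=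
    Set.finite_range _
  apply Set.finite_coe_iff.2
  refine hfin.subset ?_
  rintro _ ⟨a, b, rfl⟩
  refine ⟨(⟨f a, a, rfl⟩, ⟨f b, b, rfl⟩), ?_⟩
  show ⁅s ⟨f a, a, rfl⟩, s ⟨f b, b, rfl⟩⁆ = ⁅a, b⁆
  have ha : (s ⟨f a, a, rfl⟩)⁻¹ * a ∈ f.ker := by
    rw [MonoidHom.mem_ker, map_mul, map_inv, hs]; simp
  have hb : (s ⟨f b, b, rfl⟩)⁻¹ * b ∈ f.ker := by
    rw [MonoidHom.mem_ker, map_mul, map_inv, hs]; simp
  have ea : a = s ⟨f a, a, rfl⟩ * ((s ⟨f a, a, rfl⟩)⁻¹ * a) := by group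
  have eb : b = s ⟨f b, b, rfl⟩ * ((s ⟨f b, b, rfl⟩)⁻¹ * b) := by group
  conv_rhs => rw [ea, eb]
  rw [comm_mul_central _ _ _ _ (hf ha) (hf hb)]

/-- the derived subgroup of a central extension of a perfect group is a perfect central extension -/
lemma commutator_perfect_of_central {P G : Type*} [Group P] [Group G] (hG : Group.IsPerfect G)
    (f : P →* G) (hfs : Function.Surjective f) (hf : f.ker ≤ Subgroup.center P) :
    (commutator P).map f = ⊤ ∧ ⁅commutator P, commutator P⁆ = commutator P := by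
  have h1 : (commutator P).map f = ⊤ := by
    rw [commutator_def, Subgroup.map_commutator, ← MonoidHom.range_eq_map,
      MonoidHom.range_eq_top.2 hfs]
    exact hG.commutator_eq_top
  refine ⟨h1, le_antisymm ?_ ?_⟩
  · exact Subgroup.commutator_le_left _ _
  · have hdec : ∀ a : P, ∃ c ∈ commutator P, c⁻¹ * a ∈ Subgroup.center P := by
      intro a
      have h2 : f a ∈ (commutator P).map f := by rw [h1]; trivial
      obtain ⟨c, hc, hca⟩ := h2
      refine ⟨c, hc, hf ?_⟩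
      rw [MonoidHom.mem_ker, map_mul, map_inv, hca, inv_mul_cancel]
    conv_lhs => rw [commutator_eq_closure]
    rw [Subgroup.closure_le]
    rintro _ ⟨a, b, rfl⟩
    obtain ⟨c, hc, hca⟩ := hdec a
    obtain ⟨d, hd, hdb⟩ := hdec b
    have ea : a = c * (c⁻¹ * a) := by group
    have eb : b = d * (d⁻¹ * b) := by group
    rw [ea, eb, comm_mul_central _ _ _ _ hca hdb]
    exact Subgroup.commutator_mem_commutator hc hd

end perfectCover

end Cfsg.Agent.H1
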