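import Mathlib
import Cfsg.Agent.H1.Basic
import Cfsg.Agent.H1.SylowSystem
import Cfsg.Agent.H1.HallConverse

set_option autoImplicit false

namespace Cfsg.Agent.H1

open scoped Pointwise

universe u

/-- the product of two permuting subgroups, as a subgroup -/
def mulSubgroup {G : Type*} [Group G] (H K : Subgroup G) (h : (H : Set G) * K = (K : Set G) * H) : Subgroup G where
  carrier := (H : Set G) * K
  mul_mem' := by
    rintro _ _ ⟨a, ha, b, hb, rfl⟩ ⟨c, hc, d, hd, rfl⟩
    have : b * c ∈ (H : Set G) * K := by rw [h]; exact ⟨b, hb, c, hc, rfl⟩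
    obtain ⟨c', hc', b', hb', e⟩ := this
    refine ⟨a * c', mul_mem ha hc', b' * d, mul_mem hb' hd, ?_⟩
    show a * c' * (b' * d) = a * b * (c * d)
    have e' : c' * b' = b * c := e
    calc a * c' * (b' * d) = a * (c' * b') * d := by group
      _ = a * (b * c) * d := by rw [e']
      _ = a * b * (c * d) := by group
  one_mem' := ⟨1, one_mem _, 1, one_mem _, mul_one 1⟩
  inv_mem' := by
    rintro _ ⟨a, ha, b, hb, rfl⟩
    rw [mul_inv_rev]
    show _ ∈ (H : Set G) * K
    rw [h]
    exact ⟨b⁻¹, inv_mem hb, a⁻¹, inv_mem ha, rfl⟩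

lemma coe_mulSubgroup {G : Type*} [Group G] (H K : Subgroup G) (h : (H : Set G) * K = (K : Set G) * H) :
    (mulSubgroup H K h : Set G) = (H : Set G) * K := rfl

lemma le_mulSubgroup_left {G : Type*} [Group G] (H K : Subgroup G) (h : (H : Set G) * K = (K : Set G) * H) :
    H ≤ mulSubgroup H K h := fun x hx => ⟨x, hx, 1, one_mem _, mul_one x⟩

lemma le_mulSubgroup_right {G : Type*} [Group G] (H K : Subgroup G) (h : (H : Set G) * K = (K : Set G) * H) :
    K ≤ mulSubgroup H K h := fun x hx => ⟨1, one_mem _, x, hx, one_mul x⟩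

theorem exists_join_of_permuting {G : Type*} [Group G] [Finite G] (S' : ℕ → Subgroup G)
    (hperm : ∀ q r : ℕ, (S' q : Set G) * S' r = (S' r : Set G) * S' q)
    (e : ℕ → ℕ) (hcard : ∀ q : ℕ, q.Prime → Nat.card (S' q) = q ^ e q)
    (T : Finset ℕ) (hT : ∀ q ∈ T, q.Prime) :
    ∃ J : Subgroup G, Nat.card J = ∏ q ∈ T, q ^ e q ∧ ∀ r : ℕ, (S' r : Set G) * J = (J : Set G) * S' r := by
  induction T using Finset.induction_on with
  | empty =>
    refine ⟨⊥, by simp, ?_⟩
    intro r
    simp
  | insert q T hq ih =>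
    have hT' : ∀ r ∈ T, r.Prime := fun r hr => hT r (Finset.mem_insert_of_mem hr)
    obtain ⟨J, hJcard, hJperm⟩ := ih hT'
    have hqp : q.Prime := hT q (Finset.mem_insert_self q T)
    refine ⟨mulSubgroup (S' q) J (hJperm q), ?_, ?_⟩
    · rw [Finset.prod_insert hq]
      apply le_antisymm
      · have := Set.natCard_mul_le (s := (S' q : Set G)) (t := (J : Set G))
        have h1 : Nat.card (mulSubgroup (S' q) J (hJperm q)) = Nat.card ((S' q : Set G) * (J : Set G) : Set G) := rfl
        rw [h1]
        refine this.trans ?_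
        have h2 : Nat.card (S' q : Set G) = Nat.card (S' q) := rfl
        have h3 : Nat.card (J : Set G) = Nat.card J := rfl
        rw [h2, h3, hcard q hqp, hJcard]
      · apply Nat.le_of_dvd Nat.card_pos
        apply Nat.Coprime.mul_dvd_of_dvd_of_dvd
        · rw [Nat.coprime_prod_right_iff]
          intro r hr
          apply Nat.Coprime.pow
          rw [Nat.coprime_primes hqp (hT' r hr)]
          rintro rfl
          exact hq hr
        · rw [← hcard q hqp]
          exact Subgroup.card_dvd_of_le (le_mulSubgroup_left _ _ _)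
        · rw [← hJcard]
          exact Subgroup.card_dvd_of_le (le_mulSubgroup_right _ _ _)
    · intro r
      rw [coe_mulSubgroup, ← mul_assoc, hperm r q, mul_assoc, hJperm r, ← mul_assoc]


end Cfsg.Agent.H1
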