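import Mathlib
import Cfsg.Prelude.Def_Transfer
import Cfsg.Prelude.Def_OddOrderLocal
import Cfsg.Agent.H1.KpClasses

set_option autoImplicit false

namespace Cfsg.Agent.H1.PiClasses

open KpClasses

universe u

variable {G : Type u} [Group G]

/-- a property of the order holds on a whole class iff it holds for a representative -/
lemma forall_carrier_iff (x : G) (Q : ℕ → Prop) :
    (∀ w ∈ (ConjClasses.mk x).carrier, Q (orderOf w)) ↔ Q (orderOf x) := by
  constructor
  · intro h; exact h x ConjClasses.mem_carrier_mk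
  · intro h w hw
    rw [ConjClasses.mem_carrier_iff_mk_eq] at hw
    rw [orderOf_of_mk_eq hw]; exact h

/-- primary decomposition of an element of finite order -/
lemma exists_decomp [Finite G] (x : G) (r : ℕ) [hr : Fact r.Prime] :
    ∃ y z : G, y * z = x ∧ y * z = z * y ∧ (∃ k : ℕ, orderOf y = r ^ k) ∧ ¬ r ∣ orderOf z ∧
      orderOf z ∣ orderOf x := by
  have hn : orderOf x ≠ 0 := (orderOf_pos x).ne'
  set n := orderOf x with hn'
  set a := r ^ n.factorization r with ha
  set b := n / r ^ n.factorization r with hb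
  have hab : a * b = n := Nat.ordProj_mul_ordCompl_eq_self n r
  have hcop : Nat.Coprime a b := (Nat.coprime_ordCompl hr.out hn).pow_left _
  have hco : IsCoprime (a : ℤ) (b : ℤ) := Nat.isCoprime_iff_coprime.mpr hcop
  obtain ⟨u, v, huv⟩ := hco
  refine ⟨x ^ (v * b), x ^ (u * a), ?_, ?_, ?_, ?_, ?_⟩
  · rw [← zpow_add, add_comm, huv, zpow_one]
  · rw [← zpow_add, ← zpow_add, add_comm]
  · have h1 : (x ^ (v * b)) ^ a = 1 := by
      rw [← zpow_natCast, ← zpow_mul]
      have : v * (b : ℤ) * (a : ℤ) = v * ((n : ℕ) : ℤ) := by rw [← hab]; push_cast; ring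
      rw [this, zpow_mul', zpow_natCast, hn', pow_orderOf_eq_one, one_zpow]
    have h2 := orderOf_dvd_of_pow_eq_one h1
    obtain ⟨k, -, hk⟩ := (Nat.dvd_prime_pow hr.out).mp h2
    exact ⟨k, hk⟩
  · have h1 : (x ^ (u * a)) ^ b = 1 := by
      rw [← zpow_natCast, ← zpow_mul]
      have : u * (a : ℤ) * (b : ℤ) = u * ((n : ℕ) : ℤ) := by rw [← hab]; push_cast; ring
      rw [this, zpow_mul', zpow_natCast, hn', pow_orderOf_eq_one, one_zpow]
    have h2 := orderOf_dvd_of_pow_eq_one h1
    intro h3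
    exact Nat.not_dvd_ordCompl hr.out hn (h3.trans h2)
  · exact orderOf_dvd_of_pow_eq_one (by
      rw [← zpow_natCast, ← zpow_mul, mul_comm, zpow_mul, zpow_natCast, hn', pow_orderOf_eq_one,
        one_zpow])

/-- the type of classes of `σ`-elements -/
abbrev SCl (σ : Finset ℕ) (G : Type*) [Group G] :=
  {c : ConjClasses G // ∀ x ∈ c.carrier, ∀ r : ℕ, r.Prime → r ∣ orderOf x → r ∈ σ}

/-- the type of classes of `r`-elements -/
abbrev RCl (r : ℕ) (G : Type*) [Group G] :=
  {c : ConjClasses G // ∀ x ∈ c.carrier, ∃ k : ℕ, orderOf x = r ^ k}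

lemma card_insert_le [Finite G] (σ : Finset ℕ) (r : ℕ) [Fact r.Prime] (M : ℕ)
    (hM : ∀ y : G, Nat.card (SCl σ (Subgroup.centralizer ({y} : Set G))) ≤ M) :
    Nat.card (SCl (insert r σ) G) ≤ Nat.card (RCl r G) * M := by
  classical
  let rep : RCl r G → G := fun c => (ConjClasses.exists_rep c.1).choose
  have hrep : ∀ c : RCl r G, ConjClasses.mk (rep c) = c.1 :=
    fun c => (ConjClasses.exists_rep c.1).choose_spec
  let D := Σ c : RCl r G, SCl σ (Subgroup.centralizer ({rep c} : Set G))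
  let f : D → ConjClasses G := fun cd => ConjClasses.mk (rep cd.1 *
    (((ConjClasses.exists_rep cd.2.1).choose : Subgroup.centralizer ({rep cd.1} : Set G)) : G))
  have hsub : {c : ConjClasses G | ∀ x ∈ c.carrier, ∀ q : ℕ, q.Prime → q ∣ orderOf x →
      q ∈ insert r σ} ⊆ Set.range f := by
    intro c hc
    obtain ⟨x, rfl⟩ := ConjClasses.mk_surjective c
    have hx : ∀ q : ℕ, q.Prime → q ∣ orderOf x → q ∈ insert r σ :=
      (forall_carrier_iff x (fun n => ∀ q : ℕ, q.Prime → q ∣ n → q ∈ insert r σ)).mp hc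
    obtain ⟨y, z, hyz, hcomm, ⟨k, hk⟩, hrz, hzx⟩ := exists_decomp x r
    let c' : RCl r G := ⟨ConjClasses.mk y,
      (forall_carrier_iff y (fun n => ∃ k : ℕ, n = r ^ k)).mpr ⟨k, hk⟩⟩
    have h1 : ConjClasses.mk (rep c') = ConjClasses.mk y := hrep c'
    rw [ConjClasses.mk_eq_mk_iff_isConj, isConj_comm, isConj_iff] at h1
    obtain ⟨g, hg⟩ := h1
    have hz' : g * z * g⁻¹ ∈ Subgroup.centralizer ({rep c'} : Set G) := by
      rw [Subgroup.mem_centralizer_singleton_iff, ← hg]
      have : g * y * g⁻¹ * (g * z * g⁻¹) = g * (y * z) * g⁻¹ := by group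
      rw [this, hcomm]; group
    let zc : Subgroup.centralizer ({rep c'} : Set G) := ⟨g * z * g⁻¹, hz'⟩
    have hzc : orderOf zc = orderOf z := by
      rw [← Subgroup.orderOf_coe]
      show orderOf (g * z * g⁻¹) = orderOf z
      exact (MulAut.conj g).orderOf_eq z
    let d : SCl σ (Subgroup.centralizer ({rep c'} : Set G)) := ⟨ConjClasses.mk zc,
      (forall_carrier_iff zc (fun n => ∀ q : ℕ, q.Prime → q ∣ n → q ∈ σ)).mpr (by
        intro q hq hqz
        rw [hzc] at hqz
        have := hx q hq (hqz.trans hzx)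
        rw [Finset.mem_insert] at this
        rcases this with rfl | h
        · exact absurd hqz hrz
        · exact h)⟩
    refine ⟨⟨c', d⟩, ?_⟩
    show ConjClasses.mk (rep c' * (((ConjClasses.exists_rep d.1).choose :
      Subgroup.centralizer ({rep c'} : Set G)) : G)) = ConjClasses.mk x
    have h2 := (ConjClasses.exists_rep d.1).choose_spec
    set w := (ConjClasses.exists_rep d.1).choose with hw
    have h3 : ConjClasses.mk w = ConjClasses.mk zc := h2
    rw [ConjClasses.mk_eq_mk_iff_isConj, isConj_comm, isConj_iff] at h3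
    obtain ⟨h, hh⟩ := h3
    rw [ConjClasses.mk_eq_mk_iff_isConj, isConj_comm, isConj_iff]
    refine ⟨(h : G) * g, ?_⟩
    have h4 : (w : G) = (h : G) * (g * z * g⁻¹) * (h : G)⁻¹ := by rw [← hh]; rfl
    have h5 : rep c' * (h : G) = (h : G) * rep c' := by
      have := h.2
      rw [Subgroup.mem_centralizer_singleton_iff] at this
      exact this.symm
    rw [h4, ← hyz]
    calc (h : G) * g * (y * z) * ((h : G) * g)⁻¹
        = (h : G) * (g * y * g⁻¹) * (g * z * g⁻¹) * (h : G)⁻¹ := by group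
      _ = (h : G) * rep c' * (g * z * g⁻¹) * (h : G)⁻¹ := by rw [hg]
      _ = rep c' * (h : G) * (g * z * g⁻¹) * (h : G)⁻¹ := by rw [h5]
      _ = rep c' * ((h : G) * (g * z * g⁻¹) * (h : G)⁻¹) := by group
  have h1 : Nat.card (SCl (insert r σ) G) ≤ Nat.card D := by
    have e1 : Nat.card (SCl (insert r σ) G) = Set.ncard {c : ConjClasses G | ∀ x ∈ c.carrier,
        ∀ q : ℕ, q.Prime → q ∣ orderOf x → q ∈ insert r σ} := Nat.card_coe_set_eq _
    rw [e1]
    calc _ ≤ (Set.range f).ncard := Set.ncard_le_ncard hsub (Set.toFinite _)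
      _ = Nat.card (Set.range f) := (Nat.card_coe_set_eq _).symm
      _ ≤ Nat.card D := Finite.card_range_le f
  haveI : Fintype (RCl r G) := Fintype.ofFinite _
  have h2 : Nat.card D = ∑ c : RCl r G, Nat.card (SCl σ (Subgroup.centralizer ({rep c} : Set G))) :=
    Nat.card_sigma
  have h3 : ∑ c : RCl r G, Nat.card (SCl σ (Subgroup.centralizer ({rep c} : Set G))) ≤
      ∑ _c : RCl r G, M := Finset.sum_le_sum (fun c _ => hM (rep c))
  rw [Finset.sum_const, Finset.card_univ, smul_eq_mul, ← Nat.card_eq_fintype_card] at h3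
  omega

lemma card_rcl_le [Finite G] (r : ℕ) [Fact r.Prime] :
    Nat.card (RCl r G) ≤ r ^ (Nat.card G).factorization r := by
  obtain ⟨P⟩ : Nonempty (Sylow r G) := inferInstance
  have h1 := card_pcl_le P
  have h2 : Nat.card (Quotient (MulAction.orbitRel (Subgroup.normalizer ((P : Subgroup G) : Set G))
      (P : Subgroup G))) ≤ Nat.card (P : Subgroup G) :=
    Nat.card_le_card_of_surjective _ Quotient.mk_surjective
  rw [Sylow.card_eq_multiplicity] at h2
  exact h1.trans h2

lemma prod_mono {C N : ℕ} (σ : Finset ℕ) (hσ : ∀ r ∈ σ, r.Prime) (hC : C ≠ 0) (hN : N ≠ 0)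
    (hdvd : C ∣ N) :
    σ.prod (fun r => r ^ C.factorization r) ≤ σ.prod (fun r => r ^ N.factorization r) := by
  apply Finset.prod_le_prod
  · intro i _; exact Nat.zero_le _
  · intro i hi
    exact Nat.pow_le_pow_right (hσ i hi).pos ((Nat.factorization_le_iff_dvd hC hN).mpr hdvd i)

/-- the number of classes of `σ`-elements is at most the `σ`-part of the order -/
theorem card_scl_le (σ : Finset ℕ) : (∀ r ∈ σ, r.Prime) → ∀ (G : Type u) [Group G] [Finite G],
    Nat.card (SCl σ G) ≤ σ.prod (fun r => r ^ (Nat.card G).factorization r) := by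
  induction σ using Finset.induction_on with
  | empty =>
    intro _ G _ _
    rw [Finset.prod_empty, Finite.card_le_one_iff_subsingleton]
    constructor
    rintro ⟨c₁, h₁⟩ ⟨c₂, h₂⟩
    apply Subtype.ext
    show c₁ = c₂
    have key : ∀ c : ConjClasses G, (∀ x ∈ c.carrier, ∀ r : ℕ, r.Prime → r ∣ orderOf x →
        r ∈ (∅ : Finset ℕ)) → c = ConjClasses.mk 1 := by
      intro c hc
      obtain ⟨x, rfl⟩ := ConjClasses.mk_surjective c
      have hx := hc x ConjClasses.mem_carrier_mk
      have h1 : orderOf x = 1 := by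
        by_contra hne
        obtain ⟨q, hq, hqd⟩ := Nat.exists_prime_and_dvd hne
        exact absurd (hx q hq hqd) (Finset.notMem_empty q)
      rw [orderOf_eq_one_iff] at h1
      rw [h1]
    rw [key c₁ h₁, key c₂ h₂]
  | insert r σ hr ih =>
    intro hσ G _ _
    haveI : Fact r.Prime := ⟨hσ r (Finset.mem_insert_self r σ)⟩
    have hσ' : ∀ q ∈ σ, q.Prime := fun q hq => hσ q (Finset.mem_insert_of_mem hq)
    have hM : ∀ y : G, Nat.card (SCl σ (Subgroup.centralizer ({y} : Set G))) ≤
        σ.prod (fun q => q ^ (Nat.card G).factorization q) := by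
      intro y
      refine (ih hσ' (Subgroup.centralizer ({y} : Set G))).trans ?_
      exact prod_mono σ hσ' Nat.card_pos.ne' Nat.card_pos.ne' (Subgroup.card_subgroup_dvd_card _)
    have h1 := card_insert_le σ r _ hM
    rw [Finset.prod_insert hr]
    exact h1.trans (Nat.mul_le_mul_right _ (card_rcl_le r))

theorem card_scl_insert_le [Finite G] (σ : Finset ℕ) (hσ : ∀ r ∈ σ, r.Prime) (r : ℕ)
    [Fact r.Prime] :
    Nat.card (SCl (insert r σ) G) ≤
      Nat.card (RCl r G) * σ.prod (fun q => q ^ (Nat.card G).factorization q) := by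
  apply card_insert_le
  intro y
  refine (card_scl_le σ hσ (Subgroup.centralizer ({y} : Set G))).trans ?_
  exact prod_mono σ hσ Nat.card_pos.ne' Nat.card_pos.ne' (Subgroup.card_subgroup_dvd_card _)

/-- the local consequence: for each `r ∈ π` the `r`-class inequality holds -/
lemma local_ineq [Finite G] (π : Finset ℕ) (hπ : ∀ r ∈ π, r.Prime) (p : ℕ) (hp : p ∈ π)
    (hmin : ∀ r ∈ π, p ≤ r)
    (hk : (p + 1) * π.prod (fun r => r ^ (Nat.card G).factorization r) <
      2 * p * Nat.card (SCl π G)) (r : ℕ) (hr : r ∈ π) :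
    (r + 1) * r ^ (Nat.card G).factorization r < 2 * r * Nat.card (RCl r G) := by
  haveI : Fact r.Prime := ⟨hπ r hr⟩
  have hσ : ∀ q ∈ π.erase r, q.Prime := fun q hq => hπ q (Finset.mem_of_mem_erase hq)
  have h1 := card_scl_insert_le (G := G) (π.erase r) hσ r
  rw [Finset.insert_erase hr] at h1
  have h2 := Finset.mul_prod_erase π (fun r => r ^ (Nat.card G).factorization r) hr
  rw [← h2] at hk
  set q := r ^ (Nat.card G).factorization r with hq
  set M := (π.erase r).prod (fun r => r ^ (Nat.card G).factorization r) with hM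
  set kr := Nat.card (RCl r G) with hkr
  set kπ := Nat.card (SCl π G) with hkπ
  have hMpos : 0 < M := Finset.prod_pos (fun i hi => pow_pos (hσ i hi).pos _)
  have hpr : p ≤ r := hmin r hr
  have hppos : 0 < p := (hπ p hp).pos
  have h3 : (p + 1) * q * M < 2 * p * kr * M := by
    calc (p + 1) * q * M = (p + 1) * (q * M) := by ring
      _ < 2 * p * kπ := hk
      _ ≤ 2 * p * (kr * M) := Nat.mul_le_mul_left _ h1
      _ = 2 * p * kr * M := by ring
  have h4 : (p + 1) * q < 2 * p * kr := Nat.lt_of_mul_lt_mul_right h3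
  have h5 : (r + 1) * q * p < 2 * r * kr * p := by
    calc (r + 1) * q * p = ((r + 1) * p) * q := by ring
      _ ≤ ((p + 1) * r) * q := Nat.mul_le_mul_right _ (by nlinarith)
      _ = ((p + 1) * q) * r := by ring
      _ < (2 * p * kr) * r := Nat.mul_lt_mul_of_pos_right h4 (hπ r hr).pos
      _ = 2 * r * kr * p := by ring
  exact Nat.lt_of_mul_lt_mul_right h5

/-- data from a normal `r`-complement with abelian Sylow `r`-subgroup -/
lemma exists_complement_data [Finite G] (r : ℕ) [Fact r.Prime] (P : Sylow r G)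
    (h : Cfsg.HasNormalPComplement r G) (hab : IsMulCommutative (P : Subgroup G)) :
    ∃ K : Subgroup G, K.Normal ∧ (Nat.card K).Coprime r ∧ (∃ j : ℕ, K.index = r ^ j) ∧
      ∀ a b : G, a * b * a⁻¹ * b⁻¹ ∈ K := by
  obtain ⟨P₀, K, hKn, hcompl⟩ := h
  have hc : K.IsComplement' (P : Subgroup G) :=
    isComplement'_sylow_of_isComplement' P₀ P K hcompl
  have hcard : Nat.card K * Nat.card (P : Subgroup G) = Nat.card G := hc.card_mul_card
  have hidx : K.index = Nat.card (P : Subgroup G) := by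
    have := K.card_mul_index
    exact Nat.eq_of_mul_eq_mul_left Nat.card_pos (this.trans hcard.symm)
  refine ⟨K, hKn, ?_, ?_, ?_⟩
  · have h1 : Nat.card K = (P : Subgroup G).index := by
      have := (P : Subgroup G).card_mul_index
      rw [← this, mul_comm] at hcard
      exact Nat.eq_of_mul_eq_mul_left Nat.card_pos hcard
    rw [h1, Nat.coprime_comm, (Fact.out : r.Prime).coprime_iff_not_dvd]
    exact P.not_dvd_index
  · obtain ⟨j, hj⟩ := IsPGroup.iff_card.mp P.isPGroup'
    exact ⟨j, hidx.trans hj⟩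
  · intro a b
    have hq : ∀ g : G, ∃ x : (P : Subgroup G),
        (QuotientGroup.mk' K) g = (QuotientGroup.mk' K) (x : G) := by
      intro g
      obtain ⟨⟨k, x⟩, h1, -⟩ := Subgroup.IsComplement.existsUnique hc g
      refine ⟨x, ?_⟩
      simp only at h1
      rw [← h1, map_mul]
      have : (QuotientGroup.mk' K) (k : G) = 1 := (QuotientGroup.eq_one_iff _).mpr k.2
      rw [this, one_mul]
    obtain ⟨x₁, h1⟩ := hq a
    obtain ⟨x₂, h2⟩ := hq b
    have hx : (x₁ : G) * (x₂ : G) = (x₂ : G) * (x₁ : G) :=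
      congrArg Subtype.val (hab.is_comm.comm x₁ x₂)
    have hcomm : (QuotientGroup.mk' K) (x₁ : G) * (QuotientGroup.mk' K) (x₂ : G) =
        (QuotientGroup.mk' K) (x₂ : G) * (QuotientGroup.mk' K) (x₁ : G) := by
      rw [← map_mul, hx, map_mul]
    have : (QuotientGroup.mk' K) (a * b * a⁻¹ * b⁻¹) = 1 := by
      rw [map_mul, map_mul, map_mul, map_inv, map_inv, h1, h2, hcomm]; group
    exact (QuotientGroup.eq_one_iff _).mp this

theorem main [Finite G] (π : Finset ℕ) (hπ : ∀ r ∈ π, r.Prime) (p : ℕ) (hp : p ∈ π)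
    (hmin : ∀ r ∈ π, p ≤ r)
    (hk : (p + 1) * π.prod (fun r => r ^ (Nat.card G).factorization r) <
      2 * p * Nat.card (SCl π G)) :
    (∃ N : Subgroup G, N.Normal ∧ (∀ r : ℕ, r.Prime → r ∣ Nat.card ↥N → r ∉ π) ∧
      ∀ r : ℕ, r.Prime → r ∣ N.index → r ∈ π) ∧
    ∃ H : Subgroup G, Cfsg.IsPiHall (↑π : Set ℕ) H ∧ IsMulCommutative ↥H := by
  have step : ∀ r : π, ∃ K : Subgroup G, K.Normal ∧ (Nat.card K).Coprime r ∧
      (∃ j : ℕ, K.index = (r : ℕ) ^ j) ∧ ∀ a b : G, a * b * a⁻¹ * b⁻¹ ∈ K := by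
    rintro ⟨r, hr⟩
    haveI : Fact r.Prime := ⟨hπ r hr⟩
    obtain ⟨P⟩ : Nonempty (Sylow r G) := inferInstance
    have h1 := local_ineq π hπ p hp hmin hk r hr
    rw [← Sylow.card_eq_multiplicity P] at h1
    obtain ⟨h2, h3⟩ := (KpClasses.main P).mp h1
    exact exists_complement_data r P h2 h3
  choose Kf hKn hKc hKi hKcomm using step
  set K : Subgroup G := ⨅ r : π, Kf r with hK
  haveI hKnormal : K.Normal := Subgroup.normal_iInf_normal hKn
  have hi : ∀ q : ℕ, q.Prime → q ∣ Nat.card K → q ∉ π := by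
    intro q hq hqd hqπ
    have h1 : K ≤ Kf ⟨q, hqπ⟩ := iInf_le _ _
    have h2 := Subgroup.card_dvd_of_le h1
    have h3 := hKc ⟨q, hqπ⟩
    exact (Nat.Prime.coprime_iff_not_dvd hq).mp h3.symm (hqd.trans h2)
  have hii : ∀ q : ℕ, q.Prime → q ∣ K.index → q ∈ π := by
    intro q hq hqd
    by_contra hqπ
    haveI : Fact q.Prime := ⟨hq⟩
    obtain ⟨Q⟩ : Nonempty (Sylow q G) := inferInstance
    have hQK : (Q : Subgroup G) ≤ K := by
      rw [hK]; apply le_iInf
      rintro ⟨r, hr⟩ x hx
      obtain ⟨j, hj⟩ := hKi ⟨r, hr⟩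
      haveI := hKn ⟨r, hr⟩
      have h1 : orderOf ((QuotientGroup.mk' (Kf ⟨r, hr⟩)) x) ∣ orderOf x := orderOf_map_dvd _ x
      have h2 : orderOf ((QuotientGroup.mk' (Kf ⟨r, hr⟩)) x) ∣ Nat.card (G ⧸ Kf ⟨r, hr⟩) :=
        orderOf_dvd_natCard _
      rw [← Subgroup.index_eq_card, hj] at h2
      obtain ⟨a, ha⟩ := (IsPGroup.iff_orderOf.mp Q.isPGroup') ⟨x, hx⟩
      rw [Subgroup.orderOf_mk] at ha
      rw [ha] at h1
      have hne : q ≠ r := fun h => hqπ (h ▸ hr)
      have hcop : Nat.Coprime (q ^ a) (r ^ j) :=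
        Nat.Coprime.pow _ _ ((Nat.coprime_primes hq (hπ r hr)).mpr hne)
      have h3 : orderOf ((QuotientGroup.mk' (Kf ⟨r, hr⟩)) x) = 1 :=
        Nat.eq_one_of_dvd_coprimes hcop h1 h2
      rw [orderOf_eq_one_iff] at h3
      exact (QuotientGroup.eq_one_iff x).mp h3
    have h1 := Subgroup.index_dvd_of_le hQK
    exact Q.not_dvd_index (hqd.trans h1)
  have hcop : Nat.Coprime (Nat.card K) K.index :=
    Nat.coprime_of_dvd (fun q hq h1 h2 => hi q hq h1 (hii q hq h2))
  obtain ⟨H, hH⟩ := Subgroup.exists_right_complement'_of_coprime hcop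
  have hcard : Nat.card K * Nat.card H = Nat.card G := hH.card_mul_card
  have hHcard : Nat.card H = K.index := by
    have := K.card_mul_index
    exact Nat.eq_of_mul_eq_mul_left Nat.card_pos (hcard.trans this.symm)
  have hHidx : H.index = Nat.card K := by
    have := H.card_mul_index
    rw [← this, mul_comm] at hcard
    exact (Nat.eq_of_mul_eq_mul_left Nat.card_pos hcard).symm
  refine ⟨⟨K, hKnormal, hi, hii⟩, H, ⟨?_, ?_⟩, ?_⟩
  · intro q hq hqd; rw [hHcard] at hqd; exact Finset.mem_coe.mpr (hii q hq hqd)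
  · intro q hq hqπ hqd; rw [hHidx] at hqd; exact hi q hq hqd (Finset.mem_coe.mp hqπ)
  · constructor; constructor
    intro a b
    have h1 : (a : G) * b * (a : G)⁻¹ * (b : G)⁻¹ ∈ K := by
      rw [hK, Subgroup.mem_iInf]; intro r; exact hKcomm r a b
    have h2 : (a : G) * b * (a : G)⁻¹ * (b : G)⁻¹ ∈ H :=
      H.mul_mem (H.mul_mem (H.mul_mem a.2 b.2) (H.inv_mem a.2)) (H.inv_mem b.2)
    have h3 : (a : G) * b * (a : G)⁻¹ * (b : G)⁻¹ = 1 := by
      have hd := hH.disjoint
      rw [Subgroup.disjoint_def] at hd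
      exact hd h1 h2
    apply Subtype.ext
    show (a : G) * b = b * a
    have h4 : (a : G) * (b : G) = ((a : G) * (b : G) * (a : G)⁻¹ * (b : G)⁻¹) * ((b : G) * (a : G)) := by
      group
    rw [h4, h3, one_mul]

end Cfsg.Agent.H1.PiClasses
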