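import Mathlib
import Cfsg.Prelude.Def_Transfer
import Cfsg.Agent.H1.KpClasses
import Cfsg.Agent.H1.PiClasses
import Cfsg.Agent.H1.Isolated
import Cfsg.Agent.Lib.Lead.NormalPComplement

set_option autoImplicit false

namespace Cfsg.Agent.H1.TwoClasses

open KpClasses PiClasses Cfsg.Agent.Lib.Lead.Frobenius Cfsg.Agent.Lib.Lead.NormalPComplement
  Cfsg.Agent.Lib.Lead.PComplement

universe u
variable {G : Type u} [Group G] [Finite G]

/-- a Sylow `p`-subgroup of a `p`-nilpotent group controls its own fusion -/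
lemma controls_of_hasNormalPComplement {p : ℕ} [Fact p.Prime] (P : Sylow p G)
    (h : Cfsg.HasNormalPComplement p G) : Controls (P : Subgroup G) := by
  obtain ⟨P₀, K, hK, hcompl⟩ := h
  have hc : K.IsComplement' (P : Subgroup G) :=
    isComplement'_sylow_of_isComplement' P₀ P K hcompl
  intro x hx g hg
  obtain ⟨⟨k, q⟩, hkq, -⟩ := Subgroup.IsComplement.existsUnique hc g
  simp only at hkq
  refine ⟨q, q.2, ?_⟩
  set y := (q : G) * x * (q : G)⁻¹ with hy
  have hyP : y ∈ (P : Subgroup G) :=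
    (P : Subgroup G).mul_mem ((P : Subgroup G).mul_mem q.2 hx) ((P : Subgroup G).inv_mem q.2)
  have h1 : g * x * g⁻¹ = (k : G) * y * (k : G)⁻¹ := by rw [← hkq, hy]; group
  have h2 : (k : G) * y * (k : G)⁻¹ * y⁻¹ ∈ K := by
    have : (k : G) * y * (k : G)⁻¹ * y⁻¹ = (k : G) * (y * (k : G)⁻¹ * y⁻¹) := by group
    rw [this]
    exact K.mul_mem k.2 (hK.conj_mem _ (K.inv_mem k.2) _)
  have h3 : (k : G) * y * (k : G)⁻¹ * y⁻¹ ∈ (P : Subgroup G) := by
    rw [← h1]
    exact (P : Subgroup G).mul_mem hg ((P : Subgroup G).inv_mem hyP)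
  have h4 : (k : G) * y * (k : G)⁻¹ * y⁻¹ = 1 := by
    have hd := hc.disjoint
    rw [Subgroup.disjoint_def] at hd
    exact hd h2 h3
  rw [h1]
  exact (mul_inv_eq_one.mp h4).symm

/-- fusion in `P` is controlled by the centralizer of an isolated element -/
lemma exists_centralizing_conj (P : Sylow 2 G) (z : G) (hzP : z ∈ P)
    (hiso : ∀ g : G, g * z * g⁻¹ ∈ P → g * z * g⁻¹ = z)
    (x : G) (hx : x ∈ P) (g : G) (hg : g * x * g⁻¹ ∈ P) :
    ∃ c ∈ Subgroup.centralizer ({z} : Set G), c * x * c⁻¹ = g * x * g⁻¹ := by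
  haveI : Fact (Nat.Prime 2) := ⟨Nat.prime_two⟩
  have hzc : ∀ u ∈ (P : Subgroup G), u * z = z * u := by
    intro u hu
    have h1 := hiso u ((P : Subgroup G).mul_mem ((P : Subgroup G).mul_mem hu hzP)
      ((P : Subgroup G).inv_mem hu))
    exact mul_inv_eq_iff_eq_mul.mp h1
  set x' := g * x * g⁻¹ with hx'
  have hz1 : z ∈ Subgroup.centralizer ({x'} : Set G) := by
    rw [Subgroup.mem_centralizer_singleton_iff]
    exact (hzc x' hg).symm
  have hz2 : g * z * g⁻¹ ∈ Subgroup.centralizer ({x'} : Set G) := by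
    rw [Subgroup.mem_centralizer_singleton_iff, hx']
    have h1 := hzc x hx
    calc g * z * g⁻¹ * (g * x * g⁻¹) = g * (z * x) * g⁻¹ := by group
      _ = g * (x * z) * g⁻¹ := by rw [h1]
      _ = g * x * g⁻¹ * (g * z * g⁻¹) := by group
  obtain ⟨k, hk⟩ := (IsPGroup.iff_orderOf.mp P.isPGroup') ⟨z, hzP⟩
  rw [Subgroup.orderOf_mk] at hk
  have ha : IsPGroup 2 (Subgroup.zpowers (⟨z, hz1⟩ : Subgroup.centralizer ({x'} : Set G))) := by
    apply IsPGroup.of_card (n := k)
    rw [Nat.card_zpowers, Subgroup.orderOf_mk, hk]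
  have hb : IsPGroup 2 (Subgroup.zpowers (⟨g * z * g⁻¹, hz2⟩ :
      Subgroup.centralizer ({x'} : Set G))) := by
    apply IsPGroup.of_card (n := k)
    rw [Nat.card_zpowers, Subgroup.orderOf_mk]
    have : orderOf (g * z * g⁻¹) = orderOf z := (MulAut.conj g).orderOf_eq z
    rw [this, hk]
  obtain ⟨d, Q₀, hQ₀, hzQ, hdQ⟩ := exists_conj_mem_pgroup 2
    (⟨z, hz1⟩ : Subgroup.centralizer ({x'} : Set G)) ⟨g * z * g⁻¹, hz2⟩ ha hb
  set Q := Q₀.map (Subgroup.centralizer ({x'} : Set G)).subtype with hQ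
  have hQp : IsPGroup 2 Q := hQ₀.map _
  have hzQ' : z ∈ Q := ⟨_, hzQ, rfl⟩
  have hkQ : ((d : G) * g) * z * ((d : G) * g)⁻¹ ∈ Q := by
    refine ⟨_, hdQ, ?_⟩
    show (d : G) * (g * z * g⁻¹) * (d : G)⁻¹ = _
    group
  have h5 := isolated_unique_in_two_group P z hzP hiso Q hQp hzQ' ((d : G) * g) hkQ
  refine ⟨(d : G) * g, ?_, ?_⟩
  · rw [Subgroup.mem_centralizer_singleton_iff]
    exact mul_inv_eq_iff_eq_mul.mp h5
  · have hd : (d : G) * x' = x' * (d : G) := by
      have := d.2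
      rw [Subgroup.mem_centralizer_singleton_iff] at this
      exact this
    have key : ∀ e : G, e * x' = x' * e → e * g * x * (e * g)⁻¹ = x' := by
      intro e he
      calc e * g * x * (e * g)⁻¹ = e * (g * x * g⁻¹) * e⁻¹ := by group
        _ = e * x' * e⁻¹ := rfl
        _ = x' * e * e⁻¹ := by rw [he]
        _ = x' := by group
    exact key (d : G) hd

omit [Finite G] in
/-- counting `p`-classes through a covering map -/
lemma card_rcl_le_of_range {p : ℕ} {α : Type*} [Finite α] (φ : α → ConjClasses G)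
    (hsub : {c : ConjClasses G | ∀ x ∈ c.carrier, ∃ k : ℕ, orderOf x = p ^ k} ⊆ Set.range φ) :
    Nat.card (RCl p G) ≤ Nat.card α := by
  have e1 : Nat.card (RCl p G) = Set.ncard {c : ConjClasses G | ∀ x ∈ c.carrier,
      ∃ k : ℕ, orderOf x = p ^ k} := Nat.card_coe_set_eq _
  rw [e1]
  calc _ ≤ (Set.range φ).ncard := Set.ncard_le_ncard hsub (Set.toFinite _)
    _ = Nat.card (Set.range φ) := (Nat.card_coe_set_eq _).symm
    _ ≤ Nat.card α := Finite.card_range_le φ

/-- `p`-classes of an overgroup of a Sylow subgroup -/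
lemma card_rcl_le_of_le {p : ℕ} [Fact p.Prime] (P : Sylow p G) (H : Subgroup G)
    (hPH : (P : Subgroup G) ≤ H) : Nat.card (RCl p G) ≤ Nat.card (RCl p H) := by
  apply card_rcl_le_of_range (fun c : RCl p H => ConjClasses.map H.subtype c.1)
  intro c hc
  obtain ⟨y, rfl⟩ := ConjClasses.mk_surjective c
  obtain ⟨k, hk⟩ := hc y ConjClasses.mem_carrier_mk
  obtain ⟨g, hg⟩ := exists_conj_mem P hk
  have hord : orderOf (g * y * g⁻¹) = p ^ k := by
    rw [← hk]; exact (MulAut.conj g).orderOf_eq y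
  refine ⟨⟨ConjClasses.mk (⟨g * y * g⁻¹, hPH hg⟩ : H),
    (forall_carrier_iff _ (fun n => ∃ k : ℕ, n = p ^ k)).mpr
      ⟨k, by rw [Subgroup.orderOf_mk, hord]⟩⟩, ?_⟩
  show ConjClasses.mk (g * y * g⁻¹) = ConjClasses.mk y
  rw [ConjClasses.mk_eq_mk_iff_isConj, isConj_comm, isConj_iff]
  exact ⟨g, rfl⟩

/-- `p`-classes of a quotient -/
lemma card_rcl_le_mul_quotient {p : ℕ} [hp : Fact p.Prime] (N : Subgroup G) [hN : N.Normal] :
    Nat.card (RCl p G) ≤ Nat.card (RCl p (G ⧸ N)) * Nat.card N := by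
  classical
  let lift : RCl p (G ⧸ N) → G := fun c => Quotient.out (ConjClasses.exists_rep c.1).choose
  have hlift : ∀ c : RCl p (G ⧸ N), ConjClasses.mk ((lift c : G) : G ⧸ N) = c.1 := by
    intro c
    have := (ConjClasses.exists_rep c.1).choose_spec
    show ConjClasses.mk ((Quotient.out (ConjClasses.exists_rep c.1).choose : G) : G ⧸ N) = c.1
    rw [QuotientGroup.out_eq']
    exact this
  rw [← Nat.card_prod]
  apply card_rcl_le_of_range
    (fun cn : RCl p (G ⧸ N) × N => ConjClasses.mk (lift cn.1 * (cn.2 : G)))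
  intro c hc
  obtain ⟨y, rfl⟩ := ConjClasses.mk_surjective c
  obtain ⟨k, hk⟩ := hc y ConjClasses.mem_carrier_mk
  have hyb : ∃ j : ℕ, orderOf ((y : G) : G ⧸ N) = p ^ j := by
    have h1 : orderOf ((QuotientGroup.mk' N) y) ∣ p ^ k := hk ▸ orderOf_map_dvd _ y
    obtain ⟨j, -, hj⟩ := (Nat.dvd_prime_pow hp.out).mp h1
    exact ⟨j, hj⟩
  let cb : RCl p (G ⧸ N) := ⟨ConjClasses.mk ((y : G) : G ⧸ N),
    (forall_carrier_iff _ (fun n => ∃ k : ℕ, n = p ^ k)).mpr hyb⟩
  have h1 : ConjClasses.mk ((lift cb : G) : G ⧸ N) = ConjClasses.mk ((y : G) : G ⧸ N) := hlift cb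
  rw [ConjClasses.mk_eq_mk_iff_isConj, isConj_iff] at h1
  obtain ⟨gb, hgb⟩ := h1
  obtain ⟨g, rfl⟩ := QuotientGroup.mk_surjective gb
  have h2 : ((g * lift cb * g⁻¹ : G) : G ⧸ N) = ((y : G) : G ⧸ N) := by
    rw [← hgb]; rfl
  rw [QuotientGroup.eq] at h2
  set n' := (g * lift cb * g⁻¹)⁻¹ * y with hn'
  have hn : g⁻¹ * n' * g ∈ N := by
    have := hN.conj_mem n' h2 g⁻¹
    rwa [inv_inv] at this
  refine ⟨(cb, ⟨g⁻¹ * n' * g, hn⟩), ?_⟩
  show ConjClasses.mk (lift cb * (g⁻¹ * n' * g)) = ConjClasses.mk y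
  rw [ConjClasses.mk_eq_mk_iff_isConj, isConj_iff]
  refine ⟨g, ?_⟩
  rw [hn']; group

/-- lifting a normal `p`-complement through a central quotient -/
lemma hasNormalPComplement_of_quotient_central {p : ℕ} [Fact p.Prime] (N : Subgroup G) [N.Normal]
    (hN : N ≤ Subgroup.center G) (h : Cfsg.HasNormalPComplement p (G ⧸ N)) :
    Cfsg.HasNormalPComplement p G := by
  obtain ⟨K, hKn, hKc, k, hKi⟩ := exists_normal_of_hasNormalPComplement h
  haveI := hKn
  set C := K.comap (QuotientGroup.mk' N) with hC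
  haveI : C.Normal := inferInstance
  have hq : IsPGroup p (G ⧸ C) := by
    apply IsPGroup.of_card (n := k)
    rw [← Subgroup.index_eq_card, hC,
      Subgroup.index_comap_of_surjective _ (QuotientGroup.mk'_surjective N), hKi]
  obtain ⟨PC⟩ : Nonempty (Sylow p C) := inferInstance
  apply hasNormalPComplement_of_normal_of_central_sylow C hq PC
  intro x hx
  have h1 : (QuotientGroup.mk' N) (x : G) ∈ K := x.2
  obtain ⟨j, hj⟩ := (IsPGroup.iff_orderOf.mp PC.isPGroup') ⟨x, hx⟩
  rw [Subgroup.orderOf_mk] at hj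
  have h2 : orderOf ((QuotientGroup.mk' N) (x : G)) ∣ p ^ j := by
    rw [← hj, ← Subgroup.orderOf_coe]; exact orderOf_map_dvd _ _
  have h3 : orderOf ((QuotientGroup.mk' N) (x : G)) ∣ Nat.card K := by
    have := orderOf_dvd_natCard (⟨_, h1⟩ : K)
    rwa [Subgroup.orderOf_mk] at this
  have h4 : orderOf ((QuotientGroup.mk' N) (x : G)) = 1 :=
    Nat.eq_one_of_dvd_coprimes (Nat.Coprime.pow_left j hKc.symm) h2 h3
  rw [orderOf_eq_one_iff, QuotientGroup.mk'_apply, QuotientGroup.eq_one_iff] at h4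
  have h5 := hN h4
  rw [Subgroup.mem_center_iff]
  intro y
  apply Subtype.ext
  exact (Subgroup.mem_center_iff.mp h5) (y : G)

lemma card_rcl_le_card_conjClasses {p : ℕ} [Fact p.Prime] (P : Sylow p G) :
    Nat.card (RCl p G) ≤ Nat.card (ConjClasses (P : Subgroup G)) := by
  apply card_rcl_le_of_range
    (fun c : ConjClasses (P : Subgroup G) => ConjClasses.map (P : Subgroup G).subtype c)
  intro c hc
  obtain ⟨y, rfl⟩ := ConjClasses.mk_surjective c
  obtain ⟨k, hk⟩ := hc y ConjClasses.mem_carrier_mk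
  obtain ⟨g, hg⟩ := exists_conj_mem P hk
  refine ⟨ConjClasses.mk ⟨g * y * g⁻¹, hg⟩, ?_⟩
  show ConjClasses.mk (g * y * g⁻¹) = ConjClasses.mk y
  rw [ConjClasses.mk_eq_mk_iff_isConj, isConj_comm, isConj_iff]
  exact ⟨g, rfl⟩

lemma card_conjClasses_le_of_controls {p : ℕ} [Fact p.Prime] (P : Sylow p G)
    (h : Controls (P : Subgroup G)) :
    Nat.card (ConjClasses (P : Subgroup G)) ≤ Nat.card (RCl p G) := by
  let Φ : ConjClasses (P : Subgroup G) → RCl p G := fun c =>
    ⟨ConjClasses.map (P : Subgroup G).subtype c, by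
      obtain ⟨x, rfl⟩ := ConjClasses.mk_surjective c
      exact pcl_of_mem P x.2⟩
  apply Nat.card_le_card_of_injective Φ
  intro c₁ c₂ h12
  obtain ⟨x, rfl⟩ := ConjClasses.mk_surjective c₁
  obtain ⟨y, rfl⟩ := ConjClasses.mk_surjective c₂
  have h1 : ConjClasses.mk (x : G) = ConjClasses.mk (y : G) := congrArg Subtype.val h12
  rw [ConjClasses.mk_eq_mk_iff_isConj, isConj_iff] at h1
  obtain ⟨g, hg⟩ := h1
  obtain ⟨s, hs, hsx⟩ := h x x.2 g (by rw [hg]; exact y.2)
  rw [ConjClasses.mk_eq_mk_iff_isConj, isConj_iff]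
  exact ⟨⟨s, hs⟩, Subtype.ext (by show s * x * s⁻¹ = y; rw [hsx, hg])⟩

/-- the class map on `P` -/
noncomputable def clsMap (P : Sylow 2 G) : ↥(P : Subgroup G) → RCl 2 G :=
  fun x => ⟨ConjClasses.mk (x : G), pcl_of_mem P x.2⟩

lemma clsMap_surjective (P : Sylow 2 G) : Function.Surjective (clsMap P) := by
  rintro ⟨c, hc⟩
  obtain ⟨y, rfl⟩ := ConjClasses.mk_surjective c
  obtain ⟨k, hk⟩ := hc y ConjClasses.mem_carrier_mk
  obtain ⟨g, hg⟩ := exists_conj_mem P hk
  refine ⟨⟨g * y * g⁻¹, hg⟩, ?_⟩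
  apply Subtype.ext
  show ConjClasses.mk (g * y * g⁻¹) = ConjClasses.mk y
  rw [ConjClasses.mk_eq_mk_iff_isConj, isConj_comm, isConj_iff]
  exact ⟨g, rfl⟩

omit [Finite G] in
lemma clsMap_eq_iff (P : Sylow 2 G) (x y : (P : Subgroup G)) :
    clsMap P x = clsMap P y ↔ IsConj (x : G) (y : G) := by
  rw [← ConjClasses.mk_eq_mk_iff_isConj]
  constructor
  · intro h; exact congrArg Subtype.val h
  · intro h; exact Subtype.ext h

/-- counting: many classes and one big class force a nontrivial isolated element -/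
lemma exists_isolated (P : Sylow 2 G)
    (hk : Nat.card (P : Subgroup G) < 2 * Nat.card (RCl 2 G))
    (d₀ d₁ d₂ : G) (h0 : d₀ ∈ P) (h1 : d₁ ∈ P) (h2 : d₂ ∈ P) (h01 : d₀ ≠ d₁) (h02 : d₀ ≠ d₂)
    (h12 : d₁ ≠ d₂) (c01 : IsConj d₀ d₁) (c02 : IsConj d₀ d₂) :
    ∃ z ∈ (P : Subgroup G), z ≠ 1 ∧ ∀ g : G, g * z * g⁻¹ ∈ P → g * z * g⁻¹ = z := by
  classical
  haveI : Fintype (P : Subgroup G) := Fintype.ofFinite _
  haveI : Fintype (RCl 2 G) := Fintype.ofFinite _
  set f := clsMap P with hf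
  have hsum : Fintype.card (P : Subgroup G) =
      ∑ c : RCl 2 G, (Finset.univ.filter (fun x => f x = c)).card := by
    rw [← Finset.card_univ]
    exact Finset.card_eq_sum_card_fiberwise (fun x _ => Finset.mem_univ _)
  by_contra hcon
  push_neg at hcon
  set c₁ : RCl 2 G := f 1 with hc₁
  set c₀ : RCl 2 G := f ⟨d₀, h0⟩ with hc₀
  have hfib_pos : ∀ c, 1 ≤ (Finset.univ.filter (fun x => f x = c)).card := by
    intro c
    obtain ⟨x, hx⟩ := clsMap_surjective P c
    exact Finset.card_pos.mpr ⟨x, by simp [hf, hx]⟩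
  have hfib2 : ∀ c, c ≠ c₁ → 2 ≤ (Finset.univ.filter (fun x => f x = c)).card := by
    intro c hc
    obtain ⟨x, hx⟩ := clsMap_surjective P c
    have hx1 : (x : G) ≠ 1 := by
      intro h
      apply hc
      rw [← hx, hc₁, hf]
      congr 1
      exact Subtype.ext h
    obtain ⟨g, hgP, hgne⟩ := hcon x x.2 hx1
    have hsub : ({x, ⟨g * x * g⁻¹, hgP⟩} : Finset (P : Subgroup G)) ⊆
        Finset.univ.filter (fun x => f x = c) := by
      intro w hw
      rw [Finset.mem_insert, Finset.mem_singleton] at hw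
      rw [Finset.mem_filter]
      refine ⟨Finset.mem_univ _, ?_⟩
      rcases hw with rfl | rfl
      · exact hx
      · rw [← hx, hf, clsMap_eq_iff, isConj_comm, isConj_iff]
        exact ⟨g, rfl⟩
    have hne : x ≠ ⟨g * x * g⁻¹, hgP⟩ := by
      intro h
      apply hgne
      exact (congrArg Subtype.val h).symm
    calc 2 = ({x, ⟨g * x * g⁻¹, hgP⟩} : Finset (P : Subgroup G)).card :=
          (Finset.card_pair hne).symm
      _ ≤ _ := Finset.card_le_card hsub
  have hfib3 : 3 ≤ (Finset.univ.filter (fun x => f x = c₀)).card := by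
    have hsub : ({⟨d₀, h0⟩, ⟨d₁, h1⟩, ⟨d₂, h2⟩} : Finset (P : Subgroup G)) ⊆
        Finset.univ.filter (fun x => f x = c₀) := by
      intro w hw
      rw [Finset.mem_insert, Finset.mem_insert, Finset.mem_singleton] at hw
      rw [Finset.mem_filter]
      refine ⟨Finset.mem_univ _, ?_⟩
      rcases hw with rfl | rfl | rfl
      · rfl
      · rw [hc₀, hf, clsMap_eq_iff]; exact c01.symm
      · rw [hc₀, hf, clsMap_eq_iff]; exact c02.symm
    have hcard : ({⟨d₀, h0⟩, ⟨d₁, h1⟩, ⟨d₂, h2⟩} : Finset (P : Subgroup G)).card = 3 := by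
      rw [Finset.card_insert_of_notMem, Finset.card_pair]
      · intro h; exact h12 (congrArg Subtype.val h)
      · rw [Finset.mem_insert, Finset.mem_singleton]
        rintro (h | h)
        · exact h01 (congrArg Subtype.val h)
        · exact h02 (congrArg Subtype.val h)
    calc 3 = _ := hcard.symm
      _ ≤ _ := Finset.card_le_card hsub
  have hc01 : c₀ ≠ c₁ := by
    intro h
    rw [hc₀, hc₁, hf, clsMap_eq_iff] at h
    have hd0 : d₀ = 1 := by
      have := h.symm
      rw [isConj_iff] at this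
      obtain ⟨c, hc⟩ := this
      have hc' : c * 1 * c⁻¹ = d₀ := hc
      rw [← hc']; simp
    have hd1 : d₁ = 1 := by
      rw [isConj_iff] at c01
      obtain ⟨c, hc⟩ := c01
      rw [← hc, hd0]; simp
    exact h01 (hd0.trans hd1.symm)
  have hall : ∀ c, 2 + (if c = c₀ then 1 else 0) ≤
      (Finset.univ.filter (fun x => f x = c)).card + (if c = c₁ then 1 else 0) := by
    intro c
    by_cases hc0 : c = c₀
    · have hc1 : c ≠ c₁ := hc0 ▸ hc01
      rw [if_pos hc0, if_neg hc1, hc0]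
      exact hfib3
    · by_cases hc1 : c = c₁
      · rw [if_neg hc0, if_pos hc1]
        have := hfib_pos c
        omega
      · rw [if_neg hc0, if_neg hc1]
        exact hfib2 c hc1
  have hsum2 := Finset.sum_le_sum (fun c (_ : c ∈ (Finset.univ : Finset (RCl 2 G))) => hall c)
  rw [Finset.sum_add_distrib, Finset.sum_add_distrib, Finset.sum_const, Finset.sum_ite_eq',
    Finset.sum_ite_eq', if_pos (Finset.mem_univ _), if_pos (Finset.mem_univ _), ← hsum,
    Finset.card_univ, smul_eq_mul] at hsum2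
  rw [Nat.card_eq_fintype_card, Nat.card_eq_fintype_card] at hk
  omega

omit [Finite G] in
lemma card_lt_of_ne_top [Finite G] (H : Subgroup G) (hH : H ≠ ⊤) : Nat.card H < Nat.card G := by
  have h1 := H.card_mul_index
  have h2 : H.index ≠ 1 := by rw [Ne, Subgroup.index_eq_one]; exact hH
  have h3 : H.index ≠ 0 := Subgroup.index_ne_zero_of_finite
  have h4 : 0 < Nat.card H := Nat.card_pos
  have h5 : 2 ≤ H.index := by omega
  nlinarith

/-- many classes of `2`-elements force a normal `2`-complement -/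
theorem twoNilpotent_of_many_classes : ∀ (n : ℕ) (G : Type u) [Group G] [Finite G]
    (P : Sylow 2 G), Nat.card G = n →
    Nat.card (P : Subgroup G) < 2 * Nat.card (RCl 2 G) → Cfsg.HasNormalPComplement 2 G := by
  intro n
  induction n using Nat.strong_induction_on with
  | _ n ih =>
  intro G _ _ P hn hk
  by_contra hnot
  have ha : ∃ Q : Subgroup G, Q ≤ (P : Subgroup G) ∧ ∃ g ∈ Subgroup.normalizer (Q : Set G),
      Nat.Coprime (orderOf g) 2 ∧ g ∉ Subgroup.centralizer (Q : Set G) := by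
    by_contra hcon
    push_neg at hcon
    exact hnot (hasNormalPComplement_of_p'_centralize P
      (fun Q hQ g hg hco => hcon Q hQ g hg hco))
  obtain ⟨Q, hQP, g, hgN, hgodd, hgC⟩ := ha
  rw [Subgroup.mem_centralizer_iff] at hgC
  push_neg at hgC
  obtain ⟨d, hdQ, hdg⟩ := hgC
  have hconjQ : ∀ e ∈ Q, g * e * g⁻¹ ∈ Q :=
    fun e he => (Subgroup.mem_normalizer_iff.mp hgN e).mp he
  have h1Q : g * d * g⁻¹ ∈ Q := hconjQ d hdQ
  have h2Q : g * (g * d * g⁻¹) * g⁻¹ ∈ Q := hconjQ _ h1Q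
  have h01 : d ≠ g * d * g⁻¹ := by
    intro h
    apply hdg
    have h' : g * d * g⁻¹ * g = d * g := by rw [← h]
    rw [← h']; group
  have h12 : g * d * g⁻¹ ≠ g * (g * d * g⁻¹) * g⁻¹ := by
    intro h
    exact h01 (mul_left_cancel (mul_right_cancel h))
  have h02 : d ≠ g * (g * d * g⁻¹) * g⁻¹ := by
    intro h
    have hg2 : g ^ 2 * d = d * g ^ 2 := by
      have h' : g * (g * d * g⁻¹) * g⁻¹ * (g * g) = d * (g * g) := by rw [← h]
      rw [pow_two, ← h']; group
    have hodd : Odd (orderOf g) := Nat.Coprime.odd_of_right hgodd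
    obtain ⟨j, hj⟩ := hodd
    have hgpow : g = (g ^ 2) ^ (j + 1) := by
      rw [← pow_mul]
      have : 2 * (j + 1) = orderOf g + 1 := by omega
      rw [this, pow_succ, pow_orderOf_eq_one, one_mul]
    have hcomm : Commute (g ^ 2) d := hg2
    have hcomm2 : Commute ((g ^ 2) ^ (j + 1)) d := hcomm.pow_left _
    rw [← hgpow] at hcomm2
    exact hdg hcomm2.eq.symm
  obtain ⟨z, hzP, hz1, hiso⟩ := exists_isolated P hk d (g * d * g⁻¹) (g * (g * d * g⁻¹) * g⁻¹)
    (hQP hdQ) (hQP h1Q) (hQP h2Q) h01 h02 h12 (isConj_iff.mpr ⟨g, rfl⟩)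
    (isConj_iff.mpr ⟨g * g, by group⟩)
  have hPC : (P : Subgroup G) ≤ Subgroup.centralizer ({z} : Set G) := by
    intro w hw
    rw [Subgroup.mem_centralizer_singleton_iff]
    have := hiso w ((P : Subgroup G).mul_mem ((P : Subgroup G).mul_mem hw hzP)
      ((P : Subgroup G).inv_mem hw))
    exact mul_inv_eq_iff_eq_mul.mp this
  by_cases hCtop : Subgroup.centralizer ({z} : Set G) = ⊤
  · have hzc : z ∈ Subgroup.center G := by
      rw [Subgroup.mem_center_iff]
      intro y
      have : y ∈ Subgroup.centralizer ({z} : Set G) := hCtop ▸ Subgroup.mem_top y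
      rw [Subgroup.mem_centralizer_singleton_iff] at this
      exact this
    set N := Subgroup.zpowers z with hN
    have hNc : N ≤ Subgroup.center G := by rw [hN, Subgroup.zpowers_le]; exact hzc
    haveI hNn : N.Normal := by
      constructor
      intro a ha b
      have hac := hNc ha
      rw [Subgroup.mem_center_iff] at hac
      have : b * a * b⁻¹ = a := by rw [hac b]; group
      rw [this]; exact ha
    have hNP : N ≤ (P : Subgroup G) := by rw [hN, Subgroup.zpowers_le]; exact hzP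
    have hcardN : 1 < Nat.card N := by
      rw [hN, Nat.card_zpowers]
      have h1 : orderOf z ≠ 1 := by rw [Ne, orderOf_eq_one_iff]; exact hz1
      have h2 : 0 < orderOf z := orderOf_pos z
      omega
    set Pq : Sylow 2 (G ⧸ N) := P.mapSurjective (QuotientGroup.mk'_surjective N) with hPq
    have hGN : Nat.card G = Nat.card (G ⧸ N) * Nat.card N := by
      rw [← Subgroup.index_eq_card, mul_comm]; exact N.card_mul_index.symm
    have hPqcard : Nat.card (Pq : Subgroup (G ⧸ N)) * Nat.card N = Nat.card (P : Subgroup G) := by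
      obtain ⟨k, hk'⟩ := IsPGroup.iff_card.mp (P.isPGroup'.to_le hNP)
      rw [Sylow.card_eq_multiplicity, Sylow.card_eq_multiplicity, hGN, hk',
        Nat.factorization_mul Nat.card_pos.ne' (pow_pos (by norm_num) k).ne',
        Nat.Prime.factorization_pow Nat.prime_two]
      simp [pow_add]
    have hlt : Nat.card (G ⧸ N) < n := by
      rw [← hn, hGN]
      have : 0 < Nat.card (G ⧸ N) := Nat.card_pos
      nlinarith
    have h3 := card_rcl_le_mul_quotient (p := 2) N
    have hkq : Nat.card (Pq : Subgroup (G ⧸ N)) < 2 * Nat.card (RCl 2 (G ⧸ N)) := by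
      have hpos : 0 < Nat.card N := Nat.card_pos
      have : Nat.card (Pq : Subgroup (G ⧸ N)) * Nat.card N <
          2 * Nat.card (RCl 2 (G ⧸ N)) * Nat.card N := by
        rw [hPqcard]
        calc Nat.card (P : Subgroup G) < 2 * Nat.card (RCl 2 G) := hk
          _ ≤ 2 * (Nat.card (RCl 2 (G ⧸ N)) * Nat.card N) := Nat.mul_le_mul_left _ h3
          _ = _ := by ring
      exact Nat.lt_of_mul_lt_mul_right this
    have := ih _ hlt (G ⧸ N) Pq rfl hkq
    exact hnot (hasNormalPComplement_of_quotient_central N hNc this)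
  · set C := Subgroup.centralizer ({z} : Set G) with hC
    have hlt : Nat.card C < n := by rw [← hn]; exact card_lt_of_ne_top C hCtop
    set PC : Sylow 2 C := P.subtype hPC with hPCdef
    have hPCcard : Nat.card (PC : Subgroup C) = Nat.card (P : Subgroup G) := by
      rw [hPCdef, Sylow.coe_subtype]
      exact Nat.card_congr (Subgroup.subgroupOfEquivOfLe hPC).toEquiv
    have h2 := card_rcl_le_of_le P C hPC
    have hkC : Nat.card (PC : Subgroup C) < 2 * Nat.card (RCl 2 C) := by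
      rw [hPCcard]; omega
    have hCn := ih _ hlt C PC rfl hkC
    have hctlC := controls_of_hasNormalPComplement PC hCn
    apply hnot
    apply hasNormalPComplement_of_controls P
    intro x hx g' hg'
    obtain ⟨c, hc, hcx⟩ := exists_centralizing_conj P z hzP hiso x hx g' hg'
    have hxC : (⟨x, hPC hx⟩ : C) ∈ (PC : Subgroup C) := by
      rw [hPCdef, Sylow.coe_subtype, Subgroup.mem_subgroupOf]; exact hx
    have hcC : (⟨c, hc⟩ : C) * ⟨x, hPC hx⟩ * (⟨c, hc⟩ : C)⁻¹ ∈ (PC : Subgroup C) := by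
      rw [hPCdef, Sylow.coe_subtype, Subgroup.mem_subgroupOf]
      show c * x * c⁻¹ ∈ (P : Subgroup G)
      rw [hcx]; exact hg'
    obtain ⟨s, hs, hsx⟩ := hctlC _ hxC _ hcC
    have hsP : (s : G) ∈ (P : Subgroup G) := by
      rw [hPCdef, Sylow.coe_subtype, Subgroup.mem_subgroupOf] at hs; exact hs
    refine ⟨(s : G), hsP, ?_⟩
    have h5 : (s : G) * x * (s : G)⁻¹ = c * x * c⁻¹ := congrArg Subtype.val hsx
    rw [← hcx]; exact h5

theorem main (P : Sylow 2 G) :
    Nat.card ↥(P : Subgroup G) < 2 * Nat.card (RCl 2 G) ↔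
      Cfsg.HasNormalPComplement 2 G ∧
        Nat.card ↥(P : Subgroup G) < 2 * Nat.card (ConjClasses ↥(P : Subgroup G)) := by
  constructor
  · intro h
    refine ⟨twoNilpotent_of_many_classes _ G P rfl h, ?_⟩
    have := card_rcl_le_card_conjClasses P
    omega
  · rintro ⟨h1, h2⟩
    have := card_conjClasses_le_of_controls P (controls_of_hasNormalPComplement P h1)
    omega

end Cfsg.Agent.H1.TwoClasses
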