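import Mathlib
import Cfsg.Prelude.Def_Transfer
import Cfsg.Prelude.Def_OddOrderLocal
import Cfsg.Agent.H1.TwoClasses
import Cfsg.Statements.S3898

set_option autoImplicit false

namespace Cfsg.Agent.H1.PiClassesTwo

open KpClasses PiClasses TwoClasses Cfsg.Agent.Lib.Lead.Frobenius
  Cfsg.Agent.Lib.Lead.NormalPComplement Cfsg.Agent.Lib.Lead.PComplement

universe u
variable {G : Type u} [Group G] [Finite G]

/-- Burnside counting with a numerical hypothesis on `|N_G(P)|` and `|C_G(P)|` -/
lemma two_orbits_le {p : ℕ} [Fact p.Prime] (P : Sylow p G)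
    (hnum : 2 * p * Nat.card ((Subgroup.centralizer ((P : Subgroup G) : Set G)).subgroupOf
        (Subgroup.normalizer ((P : Subgroup G) : Set G))) +
        2 * Nat.card (Subgroup.normalizer ((P : Subgroup G) : Set G)) ≤
      p * Nat.card (Subgroup.normalizer ((P : Subgroup G) : Set G)) +
        2 * Nat.card ((Subgroup.centralizer ((P : Subgroup G) : Set G)).subgroupOf
        (Subgroup.normalizer ((P : Subgroup G) : Set G)))) :
    2 * Nat.card (Quotient (MulAction.orbitRel
      (Subgroup.normalizer ((P : Subgroup G) : Set G)) (P : Subgroup G))) ≤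
      Nat.card (P : Subgroup G) := by
  classical
  have hp : p.Prime := Fact.out
  set N := Subgroup.normalizer ((P : Subgroup G) : Set G) with hN
  set C := Subgroup.centralizer ((P : Subgroup G) : Set G) with hC
  haveI : Fintype N := Fintype.ofFinite _
  haveI : Fintype (Quotient (MulAction.orbitRel N (P : Subgroup G))) := Fintype.ofFinite _
  haveI : ∀ n : N, Fintype (MulAction.fixedBy (P : Subgroup G) n) := fun n => Fintype.ofFinite _
  have hB := MulAction.sum_card_fixedBy_eq_card_orbits_mul_card_group N (P : Subgroup G)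
  have hterm : ∀ n : N, p * Fintype.card (MulAction.fixedBy (P : Subgroup G) n) ≤
      if (n : G) ∈ C then p * Nat.card (P : Subgroup G) else Nat.card (P : Subgroup G) := by
    intro n
    split_ifs with h
    · apply Nat.mul_le_mul_left
      rw [← Nat.card_eq_fintype_card]
      exact Nat.card_le_card_of_injective Subtype.val Subtype.val_injective
    · rw [← Nat.card_eq_fintype_card]; exact p_mul_card_fixedBy_le P n h
  have hsum : p * (Fintype.card (Quotient (MulAction.orbitRel N (P : Subgroup G))) *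
      Fintype.card N) ≤ ∑ n : N, (if (n : G) ∈ C then p * Nat.card (P : Subgroup G)
        else Nat.card (P : Subgroup G)) := by
    rw [← hB, Finset.mul_sum]
    exact Finset.sum_le_sum (fun n _ => hterm n)
  rw [Finset.sum_ite, Finset.sum_const, Finset.sum_const, smul_eq_mul, smul_eq_mul] at hsum
  set a := (Finset.univ.filter (fun n : N => (n : G) ∈ C)).card with ha
  set b := (Finset.univ.filter (fun n : N => ¬ (n : G) ∈ C)).card with hb
  have hab : a + b = Fintype.card N := by
    rw [ha, hb, Finset.card_filter_add_card_filter_not, Finset.card_univ]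
  have h1 : Nat.card (C.subgroupOf N) = a := by
    rw [ha, ← Fintype.card_subtype, ← Nat.card_eq_fintype_card]; rfl
  rw [h1, Nat.card_eq_fintype_card (α := N), ← hab] at hnum
  have hNpos : 0 < p * Fintype.card N := Nat.mul_pos hp.pos Fintype.card_pos
  rw [Nat.card_eq_fintype_card (α := Quotient (MulAction.orbitRel N (P : Subgroup G)))]
  set orb := Fintype.card (Quotient (MulAction.orbitRel N (P : Subgroup G))) with horb
  set m := Nat.card (P : Subgroup G) with hm
  have key : 2 * p * a + 2 * b ≤ p * (a + b) := by nlinarith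
  apply Nat.le_of_mul_le_mul_right _ hNpos
  calc 2 * orb * (p * Fintype.card N) = 2 * (p * (orb * Fintype.card N)) := by ring
    _ ≤ 2 * (a * (p * m) + b * m) := Nat.mul_le_mul_left _ hsum
    _ = (2 * p * a + 2 * b) * m := by ring
    _ ≤ (p * (a + b)) * m := Nat.mul_le_mul_right _ key
    _ = m * (p * Fintype.card N) := by rw [hab]; ring

/-- in a group of odd order, `N_G(P) ≠ C_G(P)` forces few classes of `p`-elements -/
lemma two_card_rcl_le_of_odd {p : ℕ} [Fact p.Prime] (P : Sylow p G) (hodd : ¬ 2 ∣ Nat.card G)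
    (hNC : ¬ Subgroup.normalizer ((P : Subgroup G) : Set G) ≤
      Subgroup.centralizer ((P : Subgroup G) : Set G)) :
    2 * Nat.card (RCl p G) ≤ Nat.card (P : Subgroup G) := by
  have hp : p.Prime := Fact.out
  refine le_trans (Nat.mul_le_mul_left 2 (card_pcl_le P)) (two_orbits_le P ?_)
  set N := Subgroup.normalizer ((P : Subgroup G) : Set G) with hN
  set C := Subgroup.centralizer ((P : Subgroup G) : Set G) with hC
  set c := Nat.card (C.subgroupOf N) with hc
  set w := (C.subgroupOf N).index with hw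
  have hm : Nat.card N = c * w := ((C.subgroupOf N).card_mul_index).symm
  have hw1 : w ≠ 1 := by
    rw [hw, Ne, Subgroup.index_eq_one]
    intro h; exact hNC (Subgroup.subgroupOf_eq_top.mp h)
  have hw0 : w ≠ 0 := Subgroup.index_ne_zero_of_finite
  have hwodd : ¬ 2 ∣ w := fun h =>
    hodd (h.trans ((Dvd.intro_left c hm.symm).trans (Subgroup.card_subgroup_dvd_card N)))
  have hp2 : p ≠ 2 := by
    intro h2
    apply hNC
    have hcard : Nat.card (P : Subgroup G) = 1 := by
      rw [Sylow.card_eq_multiplicity, h2, Nat.factorization_eq_zero_of_not_dvd hodd, pow_zero]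
    have hbot : (P : Subgroup G) = ⊥ := Subgroup.card_eq_one.mp hcard
    intro x _
    rw [hC, Subgroup.mem_centralizer_iff]
    intro y hy
    have hy' : y ∈ (P : Subgroup G) := hy
    rw [hbot, Subgroup.mem_bot] at hy'
    rw [hy']; simp
  have hw3 : 3 ≤ w := by omega
  have hp3 : 3 ≤ p := by have := hp.two_le; omega
  by_cases h33 : p = 3 ∧ w = 3
  · exfalso
    obtain ⟨hp3', hw3'⟩ := h33
    haveI : Fact (Nat.Prime 3) := ⟨Nat.prime_three⟩
    have hcard : Nat.card (N ⧸ C.subgroupOf N) = 3 := by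
      rw [← Subgroup.index_eq_card]; exact hw3'
    haveI : IsCyclic (N ⧸ C.subgroupOf N) := isCyclic_of_prime_card hcard
    let f : (P : Subgroup G) →* N ⧸ C.subgroupOf N :=
      (QuotientGroup.mk' (C.subgroupOf N)).comp (Subgroup.inclusion Subgroup.le_normalizer)
    have hf : f.ker ≤ Subgroup.center (P : Subgroup G) := by
      intro y hy
      rw [MonoidHom.mem_ker] at hy
      have h1 : (Subgroup.inclusion Subgroup.le_normalizer y : N) ∈ C.subgroupOf N :=
        (QuotientGroup.eq_one_iff _).mp hy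
      rw [Subgroup.mem_subgroupOf, hC, Subgroup.mem_centralizer_iff] at h1
      rw [Subgroup.mem_center_iff]
      intro z
      apply Subtype.ext
      exact h1 z z.2
    have hcomm := (f.isMulCommutative_of_isCyclic_of_ker_le_center hf).is_comm.comm
    have hPC : (P : Subgroup G) ≤ C := by
      intro y hy
      rw [hC, Subgroup.mem_centralizer_iff]
      intro z hz
      exact congrArg Subtype.val (hcomm ⟨z, hz⟩ ⟨y, hy⟩)
    have h1 : (P : Subgroup G) ≤ C ⊓ N := le_inf hPC Subgroup.le_normalizer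
    have h2 : (P : Subgroup G).relIndex (C ⊓ N) * (C ⊓ N).relIndex N =
        (P : Subgroup G).relIndex N := Subgroup.relIndex_mul_relIndex _ _ _ h1 inf_le_right
    have h3 : (P : Subgroup G).relIndex N * N.index = (P : Subgroup G).index :=
      Subgroup.relIndex_mul_index Subgroup.le_normalizer
    have h4 : (C ⊓ N).relIndex N = w := by rw [Subgroup.inf_relIndex_right]; rfl
    apply P.not_dvd_index
    rw [← h3, ← h2, h4, hw3']
    exact hp3'.dvd.trans (Dvd.dvd.mul_right (Dvd.intro_left _ rfl) _)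
  · have h5 : 5 ≤ p ∨ 5 ≤ w := by
      have hp4 : p ≠ 4 := by rintro rfl; norm_num at hp
      omega
    rw [hm]
    have key : 2 * p + 2 * w ≤ p * w + 2 := by rcases h5 with h | h <;> nlinarith
    calc 2 * p * c + 2 * (c * w) = c * (2 * p + 2 * w) := by ring
      _ ≤ c * (p * w + 2) := Nat.mul_le_mul_left _ key
      _ = _ := by ring

/-- the decomposition bound with an arbitrary system of representatives -/
lemma card_insert_le_sum (σ : Finset ℕ) (r : ℕ) [Fact r.Prime] [Fintype (RCl r G)]
    (rep : RCl r G → G) (hrep : ∀ c : RCl r G, ConjClasses.mk (rep c) = c.1) :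
    Nat.card (SCl (insert r σ) G) ≤
      ∑ c : RCl r G, Nat.card (SCl σ (Subgroup.centralizer ({rep c} : Set G))) := by
  classical
  let D := Σ c : RCl r G, SCl σ (Subgroup.centralizer ({rep c} : Set G))
  let f : D → ConjClasses G := fun cd => ConjClasses.mk (rep cd.1 *
    (((ConjClasses.exists_rep cd.2.1).choose : Subgroup.centralizer ({rep cd.1} : Set G)) : G))
  have hsub : {c : ConjClasses G | ∀ x ∈ c.carrier, ∀ q : ℕ, q.Prime → q ∣ orderOf x →
      q ∈ insert r σ} ⊆ Set.range f := by
    intro c hc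
    obtain ⟨x, rfl⟩ := ConjClasses.mk_surjective c
    have hx : ∀ q : ℕ, q.Prime → q ∣ orderOf x → q ∈ insert r σ :=
      (forall_carrier_iff x (fun n => ∀ q : ℕ, q.Prime → q ∣ n → q ∈ insert r σ)).mp hc
    obtain ⟨y, z, hyz, hcomm, ⟨k, hk⟩, hrz, hzx⟩ := exists_decomp x r
    let c' : RCl r G := ⟨ConjClasses.mk y,
      (forall_carrier_iff y (fun n => ∃ k : ℕ, n = r ^ k)).mpr ⟨k, hk⟩⟩
    have h1 : ConjClasses.mk (rep c') = ConjClasses.mk y := hrep c'
    rw [ConjClasses.mk_eq_mk_iff_isConj, isConj_comm, isConj_iff] at h1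
    obtain ⟨g, hg⟩ := h1
    have hz' : g * z * g⁻¹ ∈ Subgroup.centralizer ({rep c'} : Set G) := by
      rw [Subgroup.mem_centralizer_singleton_iff, ← hg]
      have : g * y * g⁻¹ * (g * z * g⁻¹) = g * (y * z) * g⁻¹ := by group
      rw [this, hcomm]; group
    let zc : Subgroup.centralizer ({rep c'} : Set G) := ⟨g * z * g⁻¹, hz'⟩
    have hzc : orderOf zc = orderOf z := by
      rw [← Subgroup.orderOf_coe]
      show orderOf (g * z * g⁻¹) = orderOf z
      exact (MulAut.conj g).orderOf_eq z
    let d : SCl σ (Subgroup.centralizer ({rep c'} : Set G)) := ⟨ConjClasses.mk zc,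
      (forall_carrier_iff zc (fun n => ∀ q : ℕ, q.Prime → q ∣ n → q ∈ σ)).mpr (by
        intro q hq hqz
        rw [hzc] at hqz
        have := hx q hq (hqz.trans hzx)
        rw [Finset.mem_insert] at this
        rcases this with rfl | h
        · exact absurd hqz hrz
        · exact h)⟩
    refine ⟨⟨c', d⟩, ?_⟩
    show ConjClasses.mk (rep c' * (((ConjClasses.exists_rep d.1).choose :
      Subgroup.centralizer ({rep c'} : Set G)) : G)) = ConjClasses.mk x
    have h2 := (ConjClasses.exists_rep d.1).choose_spec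
    set w := (ConjClasses.exists_rep d.1).choose with hw
    have h3 : ConjClasses.mk w = ConjClasses.mk zc := h2
    rw [ConjClasses.mk_eq_mk_iff_isConj, isConj_comm, isConj_iff] at h3
    obtain ⟨h, hh⟩ := h3
    rw [ConjClasses.mk_eq_mk_iff_isConj, isConj_comm, isConj_iff]
    refine ⟨(h : G) * g, ?_⟩
    have h4 : (w : G) = (h : G) * (g * z * g⁻¹) * (h : G)⁻¹ := by rw [← hh]; rfl
    have h5 : rep c' * (h : G) = (h : G) * rep c' := by
      have := h.2
      rw [Subgroup.mem_centralizer_singleton_iff] at this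
      exact this.symm
    rw [h4, ← hyz]
    calc (h : G) * g * (y * z) * ((h : G) * g)⁻¹
        = (h : G) * (g * y * g⁻¹) * (g * z * g⁻¹) * (h : G)⁻¹ := by group
      _ = (h : G) * rep c' * (g * z * g⁻¹) * (h : G)⁻¹ := by rw [hg]
      _ = rep c' * (h : G) * (g * z * g⁻¹) * (h : G)⁻¹ := by rw [h5]
      _ = rep c' * ((h : G) * (g * z * g⁻¹) * (h : G)⁻¹) := by group
  have h1 : Nat.card (SCl (insert r σ) G) ≤ Nat.card D := by
    have e1 : Nat.card (SCl (insert r σ) G) = Set.ncard {c : ConjClasses G | ∀ x ∈ c.carrier,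
        ∀ q : ℕ, q.Prime → q ∣ orderOf x → q ∈ insert r σ} := Nat.card_coe_set_eq _
    rw [e1]
    calc _ ≤ (Set.range f).ncard := Set.ncard_le_ncard hsub (Set.toFinite _)
      _ = Nat.card (Set.range f) := (Nat.card_coe_set_eq _).symm
      _ ≤ Nat.card D := Finite.card_range_le f
  have h2 : Nat.card D = ∑ c : RCl r G, Nat.card (SCl σ (Subgroup.centralizer ({rep c} : Set G))) :=
    Nat.card_sigma
  omega

/-- the `σ`-part drops by a factor two in a subgroup of even index (when `2 ∈ σ`) -/
lemma two_mul_prod_le (σ : Finset ℕ) (hσ : ∀ r ∈ σ, r.Prime) (h2 : 2 ∈ σ) (H : Subgroup G)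
    (hH : 2 ∣ H.index) :
    2 * σ.prod (fun q => q ^ (Nat.card H).factorization q) ≤
      σ.prod (fun q => q ^ (Nat.card G).factorization q) := by
  rw [← Finset.mul_prod_erase σ _ h2, ← Finset.mul_prod_erase σ _ h2]
  have hσ' : ∀ q ∈ σ.erase 2, q.Prime := fun q hq => hσ q (Finset.mem_of_mem_erase hq)
  have h1 := prod_mono (σ.erase 2) hσ' (Nat.card_pos (α := H)).ne' (Nat.card_pos (α := G)).ne'
    (Subgroup.card_subgroup_dvd_card H)
  have h3 : (Nat.card H).factorization 2 + 1 ≤ (Nat.card G).factorization 2 := by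
    rw [← H.card_mul_index, Nat.factorization_mul Nat.card_pos.ne' Subgroup.index_ne_zero_of_finite,
      Finsupp.add_apply]
    have := Nat.Prime.factorization_pos_of_dvd Nat.prime_two Subgroup.index_ne_zero_of_finite hH
    omega
  have h4 : 2 * 2 ^ (Nat.card H).factorization 2 ≤ 2 ^ (Nat.card G).factorization 2 := by
    rw [← pow_succ']
    exact Nat.pow_le_pow_right (by norm_num) h3
  calc 2 * (2 ^ (Nat.card H).factorization 2 *
        (σ.erase 2).prod (fun q => q ^ (Nat.card H).factorization q))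
      = (2 * 2 ^ (Nat.card H).factorization 2) *
        (σ.erase 2).prod (fun q => q ^ (Nat.card H).factorization q) := by ring
    _ ≤ _ := Nat.mul_le_mul h4 h1

/-- Case B: no `K`-fusion in the abelian Sylow `r`-subgroup `R`, but `N_G(R) ≠ C_G(R)` -/
lemma caseB (π : Finset ℕ) (hπ : ∀ q ∈ π, q.Prime) (h2 : 2 ∈ π) (r : ℕ) [Fact r.Prime]
    (hr : r ∈ π) (hr2 : r ≠ 2) (R : Sylow r G) (K : Subgroup G) [K.Normal]
    (hKi : ∃ j : ℕ, K.index = 2 ^ j)
    (hfus : ∀ x ∈ (R : Subgroup G), ∀ k ∈ K, k * x * k⁻¹ ∈ (R : Subgroup G) → k * x * k⁻¹ = x)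
    (n₀ : Subgroup.normalizer ((R : Subgroup G) : Set G))
    (hn₀ : (n₀ : G) ∉ Subgroup.centralizer ((R : Subgroup G) : Set G)) :
    2 * Nat.card (SCl π G) ≤ π.prod (fun q => q ^ (Nat.card G).factorization q) := by
  classical
  have hrp : r.Prime := Fact.out
  haveI : Fintype (RCl r G) := Fintype.ofFinite _
  haveI : Fintype (R : Subgroup G) := Fintype.ofFinite _
  -- representatives in `R`
  have hex : ∀ c : RCl r G, ∃ y ∈ (R : Subgroup G), ConjClasses.mk y = c.1 := by
    rintro ⟨c, hc⟩
    obtain ⟨y, rfl⟩ := ConjClasses.mk_surjective c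
    obtain ⟨k, hk⟩ := hc y ConjClasses.mem_carrier_mk
    obtain ⟨g, hg⟩ := exists_conj_mem R hk
    refine ⟨g * y * g⁻¹, hg, ?_⟩
    show ConjClasses.mk (g * y * g⁻¹) = ConjClasses.mk y
    rw [ConjClasses.mk_eq_mk_iff_isConj, isConj_iff]
    exact ⟨g⁻¹, by group⟩
  choose rep hrepR hrep using hex
  set iso : RCl r G → Prop := fun c =>
    ∀ g : G, g * rep c * g⁻¹ ∈ (R : Subgroup G) → g * rep c * g⁻¹ = rep c with hiso
  -- parity of the class size of a non-isolated element
  have hpar : ∀ c, ¬ iso c → 2 ∣ (Subgroup.centralizer ({rep c} : Set G)).index := by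
    intro c hc
    by_contra hodd
    apply hc
    intro g hg
    set C := Subgroup.centralizer ({rep c} : Set G) with hC
    have htop : K ⊔ C = ⊤ := by
      rw [← Subgroup.index_eq_one]
      obtain ⟨j, hj⟩ := hKi
      have h1 : (K ⊔ C).index ∣ 2 ^ j := hj ▸ Subgroup.index_dvd_of_le le_sup_left
      have h2' : (K ⊔ C).index ∣ C.index := Subgroup.index_dvd_of_le le_sup_right
      obtain ⟨i, -, hi⟩ := (Nat.dvd_prime_pow Nat.prime_two).mp h1
      rcases Nat.eq_zero_or_pos i with rfl | hpos
      · simpa using hi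
      · exfalso; apply hodd; rw [hi] at h2'; exact (dvd_pow_self 2 hpos.ne').trans h2'
    have hg' : g ∈ ((K ⊔ C : Subgroup G) : Set G) := by rw [htop]; trivial
    rw [Subgroup.normal_mul, Set.mem_mul] at hg'
    obtain ⟨k, hk, u, hu, rfl⟩ := hg'
    have hu' : u * rep c = rep c * u := by
      have := Subgroup.mem_centralizer_singleton_iff.mp hu
      exact this
    have e1 : k * u * rep c * (k * u)⁻¹ = k * rep c * k⁻¹ := by
      calc k * u * rep c * (k * u)⁻¹ = k * (u * rep c) * u⁻¹ * k⁻¹ := by group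
        _ = k * (rep c * u) * u⁻¹ * k⁻¹ := by rw [hu']
        _ = k * rep c * k⁻¹ := by group
    rw [e1] at hg ⊢
    exact hfus _ (hrepR c) k hk hg
  -- the pieces of the count
  have hr2π : 2 ∈ π.erase r := Finset.mem_erase.mpr ⟨fun h => hr2 h.symm, h2⟩
  have hπ' : ∀ q ∈ π.erase r, q.Prime := fun q hq => hπ q (Finset.mem_of_mem_erase hq)
  set M' := (π.erase r).prod (fun q => q ^ (Nat.card G).factorization q) with hM'
  set e : RCl r G → ℕ := fun c =>
    Nat.card (SCl (π.erase r) (Subgroup.centralizer ({rep c} : Set G))) with he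
  have he1 : ∀ c, e c ≤ M' := by
    intro c
    refine (card_scl_le (π.erase r) hπ' (Subgroup.centralizer ({rep c} : Set G))).trans ?_
    exact prod_mono _ hπ' Nat.card_pos.ne' Nat.card_pos.ne' (Subgroup.card_subgroup_dvd_card _)
  have he2 : ∀ c, ¬ iso c → 2 * e c ≤ M' := by
    intro c hc
    refine (Nat.mul_le_mul_left 2
      (card_scl_le (π.erase r) hπ' (Subgroup.centralizer ({rep c} : Set G)))).trans ?_
    exact two_mul_prod_le _ hπ' hr2π _ (hpar c hc)
  have hk1 : Nat.card (SCl π G) ≤ ∑ c : RCl r G, e c := by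
    have := card_insert_le_sum (G := G) (π.erase r) r rep hrep
    rwa [Finset.insert_erase hr] at this
  set i := (Finset.univ.filter iso).card with hi
  set j := (Finset.univ.filter (fun c => ¬ iso c)).card with hj
  have hsum1 : 2 * ∑ c : RCl r G, e c ≤ (2 * i + j) * M' := by
    have h1 : ∀ c ∈ (Finset.univ : Finset (RCl r G)), 2 * e c ≤ if iso c then 2 * M' else M' := by
      intro c _
      split_ifs with h
      · exact Nat.mul_le_mul_left 2 (he1 c)
      · exact he2 c h
    have h3 := Finset.sum_le_sum h1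
    rw [← Finset.mul_sum, Finset.sum_ite, Finset.sum_const, Finset.sum_const, smul_eq_mul,
      smul_eq_mul] at h3
    calc 2 * ∑ c : RCl r G, e c ≤ i * (2 * M') + j * M' := h3
      _ = (2 * i + j) * M' := by ring
  -- fibres of `R → RCl r G`
  set f : ↥(R : Subgroup G) → RCl r G := fun x => ⟨ConjClasses.mk (x : G), pcl_of_mem R x.2⟩ with hf
  have hfrep : ∀ c, f ⟨rep c, hrepR c⟩ = c := fun c => Subtype.ext (hrep c)
  have hcardR : Fintype.card (R : Subgroup G) =
      ∑ c : RCl r G, (Finset.univ.filter (fun x => f x = c)).card := by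
    rw [← Finset.card_univ]
    exact Finset.card_eq_sum_card_fiberwise (fun x _ => Finset.mem_univ _)
  have hfib : ∀ c ∈ (Finset.univ : Finset (RCl r G)),
      (if iso c then 1 else 2) ≤ (Finset.univ.filter (fun x => f x = c)).card := by
    intro c _
    split_ifs with h
    · exact Finset.card_pos.mpr ⟨⟨rep c, hrepR c⟩, by simp [hfrep c]⟩
    · have h' : ∃ g : G, g * rep c * g⁻¹ ∈ (R : Subgroup G) ∧ g * rep c * g⁻¹ ≠ rep c := by
        by_contra hcon
        push_neg at hcon
        exact h hcon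
      obtain ⟨g, hgR, hgne⟩ := h'
      have hsub : ({⟨rep c, hrepR c⟩, ⟨g * rep c * g⁻¹, hgR⟩} : Finset (R : Subgroup G)) ⊆
          Finset.univ.filter (fun x => f x = c) := by
        intro w hw
        rw [Finset.mem_insert, Finset.mem_singleton] at hw
        rw [Finset.mem_filter]
        refine ⟨Finset.mem_univ _, ?_⟩
        rcases hw with rfl | rfl
        · exact hfrep c
        · refine Eq.trans ?_ (hfrep c)
          apply Subtype.ext
          show ConjClasses.mk (g * rep c * g⁻¹) = ConjClasses.mk (rep c)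
          rw [ConjClasses.mk_eq_mk_iff_isConj, isConj_iff]
          exact ⟨g⁻¹, by group⟩
      have hne : (⟨rep c, hrepR c⟩ : (R : Subgroup G)) ≠ ⟨g * rep c * g⁻¹, hgR⟩ := by
        intro h
        apply hgne
        exact (congrArg Subtype.val h).symm
      calc 2 = ({⟨rep c, hrepR c⟩, ⟨g * rep c * g⁻¹, hgR⟩} : Finset (R : Subgroup G)).card :=
            (Finset.card_pair hne).symm
        _ ≤ _ := Finset.card_le_card hsub
  have hsum2 : i + 2 * j ≤ Nat.card (R : Subgroup G) := by
    have h3 := Finset.sum_le_sum hfib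
    rw [← hcardR, Finset.sum_ite, Finset.sum_const, Finset.sum_const, smul_eq_mul,
      smul_eq_mul] at h3
    rw [Nat.card_eq_fintype_card]
    rw [← hi, ← hj] at h3
    omega
  -- isolated representatives are fixed by `n₀`
  have hsum3 : r * i ≤ Nat.card (R : Subgroup G) := by
    refine le_trans (Nat.mul_le_mul_left r ?_) (p_mul_card_fixedBy_le R n₀ hn₀)
    have h1 : i = Nat.card {c : RCl r G // iso c} := by
      rw [hi, ← Fintype.card_subtype, Nat.card_eq_fintype_card]
    rw [h1]
    refine Nat.card_le_card_of_injective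
      (fun c : {c : RCl r G // iso c} => (⟨⟨rep c.1, hrepR c.1⟩, ?_⟩ :
        MulAction.fixedBy (R : Subgroup G) n₀)) ?_
    · rw [MulAction.mem_fixedBy]
      apply Subtype.ext
      show (n₀ : G) * rep c.1 * (n₀ : G)⁻¹ = rep c.1
      apply c.2
      exact (n₀.2 (rep c.1)).mp (hrepR c.1)
    · intro c c' hcc
      have h3 : rep c.1 = rep c'.1 :=
        congrArg (fun z : MulAction.fixedBy (R : Subgroup G) n₀ => ((z : (R : Subgroup G)) : G)) hcc
      apply Subtype.ext
      apply Subtype.ext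
      rw [← hrep c.1, ← hrep c'.1, h3]
  have hr3 : 3 ≤ r := by
    have := hrp.two_le
    omega
  have hfin : 2 * i + j ≤ Nat.card (R : Subgroup G) := by
    have : 3 * i ≤ r * i := Nat.mul_le_mul_right _ hr3
    omega
  rw [← Finset.mul_prod_erase π _ hr, ← Sylow.card_eq_multiplicity R, ← hM']
  calc 2 * Nat.card (SCl π G) ≤ 2 * ∑ c : RCl r G, e c := Nat.mul_le_mul_left 2 hk1
    _ ≤ (2 * i + j) * M' := hsum1
    _ ≤ Nat.card (R : Subgroup G) * M' := Nat.mul_le_mul_right _ hfin

/-- intersecting a family of normal `p`-complements -/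
lemma iInf_data {ι : Type*} (s : ι → ℕ) (hs : ∀ i, (s i).Prime) (Kf : ι → Subgroup G)
    (hKn : ∀ i, (Kf i).Normal) (hKc : ∀ i, (Nat.card (Kf i)).Coprime (s i))
    (hKi : ∀ i, ∃ j : ℕ, (Kf i).index = (s i) ^ j) :
    (⨅ i, Kf i).Normal ∧ (∀ q : ℕ, q.Prime → q ∣ Nat.card ↥(⨅ i, Kf i) → ∀ i, q ≠ s i) ∧
      (∀ q : ℕ, q.Prime → q ∣ (⨅ i, Kf i).index → ∃ i, q = s i) := by
  refine ⟨Subgroup.normal_iInf_normal hKn, ?_, ?_⟩
  · intro q hq hqd i hqi
    have h1 : (⨅ i, Kf i) ≤ Kf i := iInf_le _ _
    have h2 := Subgroup.card_dvd_of_le h1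
    have h3 := hKc i
    rw [← hqi] at h3
    exact (Nat.Prime.coprime_iff_not_dvd hq).mp h3.symm (hqd.trans h2)
  · intro q hq hqd
    by_contra hqπ
    push_neg at hqπ
    haveI : Fact q.Prime := ⟨hq⟩
    obtain ⟨Q⟩ : Nonempty (Sylow q G) := inferInstance
    have hQK : (Q : Subgroup G) ≤ ⨅ i, Kf i := by
      apply le_iInf
      intro i x hx
      obtain ⟨j, hj⟩ := hKi i
      haveI := hKn i
      have h1 : orderOf ((QuotientGroup.mk' (Kf i)) x) ∣ orderOf x := orderOf_map_dvd _ x
      have h2 : orderOf ((QuotientGroup.mk' (Kf i)) x) ∣ Nat.card (G ⧸ Kf i) :=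
        orderOf_dvd_natCard _
      rw [← Subgroup.index_eq_card, hj] at h2
      obtain ⟨a, ha⟩ := (IsPGroup.iff_orderOf.mp Q.isPGroup') ⟨x, hx⟩
      rw [Subgroup.orderOf_mk] at ha
      rw [ha] at h1
      have hne : q ≠ s i := hqπ i
      have hcop : Nat.Coprime (q ^ a) (s i ^ j) :=
        Nat.Coprime.pow _ _ ((Nat.coprime_primes hq (hs i)).mpr hne)
      have h3 : orderOf ((QuotientGroup.mk' (Kf i)) x) = 1 :=
        Nat.eq_one_of_dvd_coprimes hcop h1 h2
      rw [orderOf_eq_one_iff] at h3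
      exact (QuotientGroup.eq_one_iff x).mp h3
    have h1 := Subgroup.index_dvd_of_le hQK
    exact Q.not_dvd_index (hqd.trans h1)

/-- a complement to a normal Hall subgroup with abelian quotient -/
lemma exists_abelian_hall (K : Subgroup G) [K.Normal] (σ : Set ℕ)
    (hi : ∀ q : ℕ, q.Prime → q ∣ Nat.card K → q ∉ σ)
    (hii : ∀ q : ℕ, q.Prime → q ∣ K.index → q ∈ σ)
    (hcomm : ∀ a b : G, a * b * a⁻¹ * b⁻¹ ∈ K) :
    ∃ H : Subgroup G, Cfsg.IsPiHall σ H ∧ IsMulCommutative ↥H := by
  have hcop : Nat.Coprime (Nat.card K) K.index :=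
    Nat.coprime_of_dvd (fun q hq h1 h2 => hi q hq h1 (hii q hq h2))
  obtain ⟨H, hH⟩ := Subgroup.exists_right_complement'_of_coprime hcop
  have hcard : Nat.card K * Nat.card H = Nat.card G := hH.card_mul_card
  have hHcard : Nat.card H = K.index := by
    have := K.card_mul_index
    exact Nat.eq_of_mul_eq_mul_left Nat.card_pos (hcard.trans this.symm)
  have hHidx : H.index = Nat.card K := by
    have := H.card_mul_index
    rw [← this, mul_comm] at hcard
    exact (Nat.eq_of_mul_eq_mul_left Nat.card_pos hcard).symm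
  refine ⟨H, ⟨?_, ?_⟩, ?_⟩
  · intro q hq hqd; rw [hHcard] at hqd; exact hii q hq hqd
  · intro q hq hqπ hqd; rw [hHidx] at hqd; exact hi q hq hqd hqπ
  · constructor; constructor
    intro a b
    have h1 : (a : G) * b * (a : G)⁻¹ * (b : G)⁻¹ ∈ K := hcomm a b
    have h2 : (a : G) * b * (a : G)⁻¹ * (b : G)⁻¹ ∈ H :=
      H.mul_mem (H.mul_mem (H.mul_mem a.2 b.2) (H.inv_mem a.2)) (H.inv_mem b.2)
    have h3 : (a : G) * b * (a : G)⁻¹ * (b : G)⁻¹ = 1 := by
      have hd := hH.disjoint
      rw [Subgroup.disjoint_def] at hd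
      exact hd h1 h2
    apply Subtype.ext
    show (a : G) * b = b * a
    have h4 : (a : G) * (b : G) =
        ((a : G) * (b : G) * (a : G)⁻¹ * (b : G)⁻¹) * ((b : G) * (a : G)) := by group
    rw [h4, h3, one_mul]

theorem main (π : Finset ℕ) (hπ : ∀ r ∈ π, r.Prime) (h2 : 2 ∈ π)
    (hk : π.prod (fun r => r ^ (Nat.card G).factorization r) < 2 * Nat.card (SCl π G)) :
    (∃ N : Subgroup G, N.Normal ∧ (∀ r : ℕ, r.Prime → r ∣ Nat.card ↥N → r ∉ π) ∧
      ∀ r : ℕ, r.Prime → r ∣ N.index → r ∈ π) ∧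
    ∃ H : Subgroup G, Cfsg.IsPiHall ((↑π : Set ℕ) \ {2}) H ∧ IsMulCommutative ↥H := by
  haveI : Fact (Nat.Prime 2) := ⟨Nat.prime_two⟩
  have hloc : ∀ r ∈ π, r ^ (Nat.card G).factorization r < 2 * Nat.card (RCl r G) := by
    intro r hr
    haveI : Fact r.Prime := ⟨hπ r hr⟩
    have hσ : ∀ q ∈ π.erase r, q.Prime := fun q hq => hπ q (Finset.mem_of_mem_erase hq)
    have h1 := card_scl_insert_le (G := G) (π.erase r) hσ r
    rw [Finset.insert_erase hr] at h1
    rw [← Finset.mul_prod_erase π _ hr] at hk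
    set M := (π.erase r).prod (fun r => r ^ (Nat.card G).factorization r) with hM
    have hMpos : 0 < M := Finset.prod_pos (fun i hi => pow_pos (hσ i hi).pos _)
    have h3 : r ^ (Nat.card G).factorization r * M < 2 * Nat.card (RCl r G) * M := by
      calc _ < 2 * Nat.card (SCl π G) := hk
        _ ≤ 2 * (Nat.card (RCl r G) * M) := Nat.mul_le_mul_left _ h1
        _ = _ := by ring
    exact Nat.lt_of_mul_lt_mul_right h3
  obtain ⟨P⟩ : Nonempty (Sylow 2 G) := inferInstance
  have h2nil : Cfsg.HasNormalPComplement 2 G :=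
    twoNilpotent_of_many_classes _ G P rfl (by rw [Sylow.card_eq_multiplicity]; exact hloc 2 h2)
  obtain ⟨K, hKn, hKc, j, hKi⟩ := exists_normal_of_hasNormalPComplement h2nil
  haveI := hKn
  have step : ∀ r : π, ∃ Kr : Subgroup G, Kr.Normal ∧ (Nat.card Kr).Coprime r ∧
      (∃ j : ℕ, Kr.index = (r : ℕ) ^ j) ∧
      ((r : ℕ) ≠ 2 → ∀ a b : G, a * b * a⁻¹ * b⁻¹ ∈ Kr) := by
    rintro ⟨r, hr⟩
    by_cases hr2 : r = 2
    · subst hr2
      exact ⟨K, hKn, hKc, ⟨j, hKi⟩, fun h => absurd rfl h⟩
    · haveI : Fact r.Prime := ⟨hπ r hr⟩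
      obtain ⟨R⟩ : Nonempty (Sylow r G) := inferInstance
      have hlocr := hloc r hr
      rw [← Sylow.card_eq_multiplicity R] at hlocr
      have hRK : (R : Subgroup G) ≤ K := by
        intro x hx
        have h1 : orderOf ((QuotientGroup.mk' K) x) ∣ orderOf x := orderOf_map_dvd _ x
        have h2' : orderOf ((QuotientGroup.mk' K) x) ∣ Nat.card (G ⧸ K) := orderOf_dvd_natCard _
        rw [← Subgroup.index_eq_card, hKi] at h2'
        obtain ⟨a, ha⟩ := (IsPGroup.iff_orderOf.mp R.isPGroup') ⟨x, hx⟩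
        rw [Subgroup.orderOf_mk] at ha
        rw [ha] at h1
        have hcop : Nat.Coprime (r ^ a) (2 ^ j) :=
          Nat.Coprime.pow _ _ ((Nat.coprime_primes (hπ r hr) Nat.prime_two).mpr hr2)
        have h3 := Nat.eq_one_of_dvd_coprimes hcop h1 h2'
        rw [orderOf_eq_one_iff] at h3
        exact (QuotientGroup.eq_one_iff x).mp h3
      have hNC : Subgroup.normalizer ((R : Subgroup G) : Set G) ≤
          Subgroup.centralizer ((R : Subgroup G) : Set G) := by
        by_contra hNC
        obtain ⟨n₀, hn₀N, hn₀C⟩ := SetLike.not_le_iff_exists.mp hNC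
        set R' : Sylow r K := R.subtype hRK with hR'
        have hcardR' : Nat.card (R' : Subgroup K) = Nat.card (R : Subgroup G) := by
          rw [hR', Sylow.coe_subtype]
          exact Nat.card_congr (Subgroup.subgroupOfEquivOfLe hRK).toEquiv
        by_cases hK : Subgroup.normalizer ((R' : Subgroup K) : Set K) ≤
            Subgroup.centralizer ((R' : Subgroup K) : Set K)
        · have hnil : Cfsg.HasNormalPComplement r K :=
            ⟨R', _, inferInstance, MonoidHom.ker_transferSylow_isComplement' R' hK⟩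
          have hctl := controls_of_hasNormalPComplement R' hnil
          have hfus : ∀ x ∈ (R : Subgroup G), ∀ k ∈ K, k * x * k⁻¹ ∈ (R : Subgroup G) →
              k * x * k⁻¹ = x := by
            intro x hx k hk hkx
            have hx' : (⟨x, hRK hx⟩ : K) ∈ (R' : Subgroup K) := by
              rw [hR', Sylow.coe_subtype, Subgroup.mem_subgroupOf]; exact hx
            have hkx' : (⟨k, hk⟩ : K) * ⟨x, hRK hx⟩ * (⟨k, hk⟩ : K)⁻¹ ∈ (R' : Subgroup K) := by
              rw [hR', Sylow.coe_subtype, Subgroup.mem_subgroupOf]; exact hkx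
            obtain ⟨s, hs, hsx⟩ := hctl _ hx' _ hkx'
            have hsC : s ∈ Subgroup.centralizer ((R' : Subgroup K) : Set K) :=
              hK (Subgroup.le_normalizer hs)
            rw [Subgroup.mem_centralizer_iff] at hsC
            have h5 := hsC _ hx'
            have h6 : s * ⟨x, hRK hx⟩ * s⁻¹ = ⟨x, hRK hx⟩ := by rw [← h5]; group
            rw [h6] at hsx
            exact (congrArg Subtype.val hsx).symm
          have := caseB π hπ h2 r hr hr2 R K ⟨j, hKi⟩ hfus ⟨n₀, hn₀N⟩ hn₀C
          omega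
        · have hodd : ¬ 2 ∣ Nat.card K :=
            (Nat.Prime.coprime_iff_not_dvd Nat.prime_two).mp hKc.symm
          have h1 := two_card_rcl_le_of_odd R' hodd hK
          have h3 := card_rcl_le_of_le R K hRK
          rw [hcardR'] at h1
          omega
      have hnp : Cfsg.HasNormalPComplement r G :=
        ⟨R, _, inferInstance, MonoidHom.ker_transferSylow_isComplement' R hNC⟩
      have hab : IsMulCommutative (R : Subgroup G) := by
        constructor; constructor
        intro a b
        have ha : (a : G) ∈ Subgroup.centralizer ((R : Subgroup G) : Set G) :=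
          hNC (Subgroup.le_normalizer a.2)
        rw [Subgroup.mem_centralizer_iff] at ha
        exact Subtype.ext (ha b b.2).symm
      obtain ⟨Kr, h1, h2', h3, h4⟩ := exists_complement_data r R hnp hab
      exact ⟨Kr, h1, h2', h3, fun _ => h4⟩
  choose Kf hKfn hKfc hKfi hKfcomm using step
  obtain ⟨hN1, hN2, hN3⟩ :=
    iInf_data (fun r : π => (r : ℕ)) (fun r => hπ r r.2) Kf hKfn hKfc hKfi
  refine ⟨⟨⨅ r : π, Kf r, hN1, ?_, ?_⟩, ?_⟩
  · intro q hq hqd hqπ; exact hN2 q hq hqd ⟨q, hqπ⟩ rfl
  · intro q hq hqd; obtain ⟨i, rfl⟩ := hN3 q hq hqd; exact i.2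
  · obtain ⟨hM1, hM2, hM3⟩ := iInf_data (fun r : {r : π // (r : ℕ) ≠ 2} => ((r : π) : ℕ))
      (fun r => hπ _ r.1.2) (fun r : {r : π // (r : ℕ) ≠ 2} => Kf r.1) (fun r => hKfn r.1)
      (fun r => hKfc r.1) (fun r => hKfi r.1)
    haveI := hM1
    apply exists_abelian_hall (⨅ r : {r : π // (r : ℕ) ≠ 2}, Kf r.1)
    · intro q hq hqd hqσ
      obtain ⟨hqπ, hq2⟩ := hqσ
      exact hM2 q hq hqd ⟨⟨q, Finset.mem_coe.mp hqπ⟩, hq2⟩ rfl
    · intro q hq hqd
      obtain ⟨i, rfl⟩ := hM3 q hq hqd
      exact ⟨Finset.mem_coe.mpr i.1.2, i.2⟩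
    · intro a b
      rw [Subgroup.mem_iInf]; intro i; exact hKfcomm i.1 i.2 a b

end Cfsg.Agent.H1.PiClassesTwo
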