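import Mathlib
import Cfsg.Agent.H1.CoprimeAction

set_option autoImplicit false

namespace Cfsg.Agent.H1

open scoped Pointwise

theorem pi_irrational_quotient {G : Type*} [Group G] [Finite G] (π : Set ℕ)
    (hirr : ∀ x : G, (∀ r : ℕ, r.Prime → r ∣ orderOf x → r ∈ π) →
      Subgroup.normalizer ((Subgroup.zpowers x : Subgroup G) : Set G) ≤ Subgroup.centralizer {x})
    (N : Subgroup G) [N.Normal] (hN : ∀ r : ℕ, r.Prime → r ∣ Nat.card N → r ∉ π) :
    ∀ y : G ⧸ N, (∀ r : ℕ, r.Prime → r ∣ orderOf y → r ∈ π) →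
      Subgroup.normalizer ((Subgroup.zpowers y : Subgroup (G ⧸ N)) : Set (G ⧸ N)) ≤
        Subgroup.centralizer {y} := by
  intro y hy zb hzb
  obtain ⟨g, rfl⟩ := QuotientGroup.mk_surjective y
  obtain ⟨z, rfl⟩ := QuotientGroup.mk_surjective zb
  obtain ⟨n, hn⟩ : ∃ n, n = orderOf (g : G ⧸ N) := ⟨_, rfl⟩
  have hnpos : 0 < n := by rw [hn]; exact orderOf_pos _
  have hcop : Nat.Coprime (Nat.card N) n := by
    rw [Nat.coprime_comm]
    apply Nat.Coprime.symm
    rw [Nat.coprime_iff_gcd_eq_one] 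
    by_contra hne
    obtain ⟨r, hr, hrd⟩ := Nat.exists_prime_and_dvd hne
    exact hN r hr (hrd.trans (Nat.gcd_dvd_left _ _)) (hy r hr (hn ▸ hrd.trans (Nat.gcd_dvd_right _ _)))
  rcases Nat.lt_or_ge 1 n with h1n | h1n
  swap
  · -- y = 1
    have hn1 : orderOf (g : G ⧸ N) = 1 := by omega
    rw [orderOf_eq_one_iff] at hn1
    rw [hn1, Subgroup.mem_centralizer_iff]
    intro h hh
    rw [Set.mem_singleton_iff] at hh
    rw [hh, one_mul, mul_one]
  obtain ⟨c, -, hc⟩ := Nat.exists_mul_mod_eq_one_of_coprime hcop h1n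
  obtain ⟨x, hxdef⟩ : ∃ x, x = g ^ (Nat.card N * c) := ⟨_, rfl⟩
  have hx1 : ((x : G) : G ⧸ N) = (g : G ⧸ N) := by
    rw [hxdef, QuotientGroup.mk_pow, ← pow_mod_orderOf, ← hn, hc, pow_one]
  have hgn : g ^ n ∈ N := by
    rw [← QuotientGroup.eq_one_iff, QuotientGroup.mk_pow, hn, pow_orderOf_eq_one]
  have hx2 : x ^ n = 1 := by
    have h1 : (g ^ n) ^ Nat.card N = 1 := by
      have h0 := pow_card_eq_one' (G := N) (x := ⟨g ^ n, hgn⟩)
      have h00 := congrArg Subtype.val h0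
      rw [Subgroup.coe_pow, Subgroup.coe_one] at h00
      exact h00
    calc x ^ n = ((g ^ n) ^ Nat.card N) ^ c := by
          rw [hxdef, ← pow_mul, ← pow_mul, ← pow_mul]; congr 1; ring
      _ = 1 := by rw [h1, one_pow]
  have hxo : orderOf x ∣ n := orderOf_dvd_of_pow_eq_one hx2
  have hxπ : ∀ r : ℕ, r.Prime → r ∣ orderOf x → r ∈ π := fun r hr hrd =>
    hy r hr (hn ▸ hrd.trans hxo)
  have hNC := hirr x hxπ
  -- B
  obtain ⟨A, hA⟩ : ∃ A, A = Subgroup.zpowers x := ⟨_, rfl⟩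
  have hAN : A ≤ Subgroup.normalizer (N : Set G) := by
    rw [Subgroup.normalizer_eq_top]; exact le_top
  have hcardA : Nat.card A = orderOf x := by rw [hA]; exact Nat.card_zpowers x
  have hcopA : (Nat.card A).Coprime (Nat.card N) := by
    rw [hcardA]; exact (hcop.symm.coprime_dvd_left hxo)
  have hB : MulAut.conj z • A ≤ N ⊔ A := by
    intro b hb
    rw [mem_conj_smul] at hb
    rw [hA] at hb
    obtain ⟨k, hk⟩ := Subgroup.mem_zpowers_iff.1 hb
    -- mk b ∈ zpowers (mk x)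
    have h1 : (z : G ⧸ N) * (g : G ⧸ N) ^ k * (z : G ⧸ N)⁻¹ ∈ Subgroup.zpowers (g : G ⧸ N) := by
      have h2 := (Subgroup.mem_normalizer_iff.1 hzb ((g : G ⧸ N) ^ k)).1
        (Subgroup.zpow_mem_zpowers _ k)
      exact h2
    obtain ⟨j, hj⟩ := Subgroup.mem_zpowers_iff.1 h1
    have h3 : (x ^ j)⁻¹ * b ∈ N := by
      rw [← QuotientGroup.eq_one_iff]
      have hb' : b = z * x ^ k * z⁻¹ := by rw [hk]; group
      rw [hb']
      simp only [QuotientGroup.mk_mul, QuotientGroup.mk_inv, QuotientGroup.mk_zpow, hx1]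
      rw [← hj]; group
    have : b = x ^ j * ((x ^ j)⁻¹ * b) := by group
    rw [this]
    refine Subgroup.mul_mem _ (Subgroup.mem_sup_right ?_) (Subgroup.mem_sup_left h3)
    rw [hA]; exact Subgroup.zpow_mem_zpowers _ _
  have hsolv : Group.IsSolvable A ∨ Group.IsSolvable N := by
    left
    rw [hA]
    infer_instance
  obtain ⟨n₁, hn₁, hconj⟩ := coprime_conj A N (MulAut.conj z • A) hAN hcopA hsolv hB
    (by exact Subgroup.card_map_of_injective (MulAut.conj z).injective)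
  -- n₁⁻¹ z normalizes A
  have hnorm : n₁⁻¹ * z ∈ Subgroup.normalizer ((Subgroup.zpowers x : Subgroup G) : Set G) := by
    rw [← hA]
    apply mem_normalizer_of_map_conj_le
    intro w hw
    obtain ⟨a, ha, rfl⟩ := Subgroup.mem_map.1 hw
    have h1 : z * a * z⁻¹ ∈ MulAut.conj n₁ • A := by
      rw [hconj, mem_conj_smul]
      have : z⁻¹ * (z * a * z⁻¹) * z = a := by group
      rw [this]; exact ha
    rw [mem_conj_smul] at h1
    simp only [MulEquiv.coe_toMonoidHom, MulAut.conj_apply]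
    have : n₁⁻¹ * z * a * (n₁⁻¹ * z)⁻¹ = n₁⁻¹ * (z * a * z⁻¹) * n₁ := by group
    rw [this]; exact h1
  have hcent := hNC hnorm
  rw [Subgroup.mem_centralizer_iff] at hcent ⊢
  intro h hh
  rw [Set.mem_singleton_iff] at hh
  have h4 := hcent x rfl
  have h5 : ((n₁⁻¹ * z : G) : G ⧸ N) = (z : G ⧸ N) := by
    rw [QuotientGroup.mk_mul, QuotientGroup.mk_inv, (QuotientGroup.eq_one_iff n₁).2 hn₁, inv_one, one_mul]
  rw [hh, ← hx1, ← h5, ← QuotientGroup.mk_mul, ← QuotientGroup.mk_mul, h4]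

end Cfsg.Agent.H1
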