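import Mathlib

set_option autoImplicit false

namespace Cfsg.Agent.H1.PiSub

universe u
variable {G : Type u} [Group G]

/-- `x` is a `π`-element -/
def IsPi (π : Set ℕ) (x : G) : Prop := ∀ q : ℕ, q.Prime → q ∣ orderOf x → q ∈ π

/-- the type of classes of `π`-elements -/
abbrev PCl (π : Set ℕ) (G : Type u) [Group G] :=
  {C : ConjClasses G // ∀ q : ℕ, q.Prime →
    (∃ g : G, ConjClasses.mk g = C ∧ q ∣ orderOf g) → q ∈ π}

lemma pcl_mk_iff (π : Set ℕ) (x : G) :
    (∀ q : ℕ, q.Prime → (∃ g : G, ConjClasses.mk g = ConjClasses.mk x ∧ q ∣ orderOf g) → q ∈ π) ↔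
      IsPi π x := by
  constructor
  · intro h q hq hqx; exact h q hq ⟨x, rfl, hqx⟩
  · rintro h q hq ⟨g, hg, hqg⟩
    rw [ConjClasses.mk_eq_mk_iff_isConj, isConj_iff] at hg
    obtain ⟨c, hc⟩ := hg
    apply h q hq
    rw [← hc]
    have : orderOf (c * g * c⁻¹) = orderOf g := (MulAut.conj c).orderOf_eq g
    rw [this]; exact hqg

/-- the restricted class equation: commuting pairs with second entry a `π`-element -/
lemma card_cp [Finite G] (π : Set ℕ) :
    Nat.card {p : G × G // IsPi π p.2 ∧ p.1 * p.2 = p.2 * p.1} =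
      Nat.card (PCl π G) * Nat.card G := by
  classical
  let rep : ConjClasses G → G := fun C => (ConjClasses.exists_rep C).choose
  have hrep : ∀ C, ConjClasses.mk (rep C) = C := fun C => (ConjClasses.exists_rep C).choose_spec
  have ht : ∀ x : G, ∃ c : G, c * rep (ConjClasses.mk x) * c⁻¹ = x := by
    intro x
    have := hrep (ConjClasses.mk x)
    rw [ConjClasses.mk_eq_mk_iff_isConj, isConj_iff] at this
    exact this
  choose t ht using ht
  rw [← Nat.card_prod]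
  let f : {p : G × G // IsPi π p.2 ∧ p.1 * p.2 = p.2 * p.1} → PCl π G × G :=
    fun p => (⟨ConjClasses.mk p.1.2, (pcl_mk_iff π p.1.2).mpr p.2.1⟩, p.1.1 * t p.1.2)
  apply Nat.card_eq_of_bijective f
  constructor
  · rintro ⟨⟨a, x⟩, hx, hax⟩ ⟨⟨a', x'⟩, hx', hax'⟩ h
    simp only [f, Prod.mk.injEq, Subtype.mk.injEq] at h
    obtain ⟨h1, h2⟩ := h
    have e1 : x = (a * t x) * rep (ConjClasses.mk x) * (a * t x)⁻¹ := by
      calc x = a * x * a⁻¹ := by rw [hax]; group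
        _ = a * (t x * rep (ConjClasses.mk x) * (t x)⁻¹) * a⁻¹ := by rw [ht x]
        _ = _ := by group
    have e2 : x' = (a' * t x') * rep (ConjClasses.mk x') * (a' * t x')⁻¹ := by
      calc x' = a' * x' * a'⁻¹ := by rw [hax']; group
        _ = a' * (t x' * rep (ConjClasses.mk x') * (t x')⁻¹) * a'⁻¹ := by rw [ht x']
        _ = _ := by group
    have hxx : x = x' := by
      rw [e1, h2, h1]; exact e2.symm
    subst hxx
    have haa : a = a' := mul_right_cancel h2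
    subst haa
    rfl
  · rintro ⟨⟨C, hC⟩, g⟩
    set x := g * rep C * g⁻¹ with hxdef
    have hmk : ConjClasses.mk x = C := by
      calc ConjClasses.mk x = ConjClasses.mk (rep C) := by
            rw [ConjClasses.mk_eq_mk_iff_isConj, isConj_iff]; exact ⟨g⁻¹, by rw [hxdef]; group⟩
        _ = C := hrep C
    have hxπ : IsPi π x := (pcl_mk_iff π x).mp (by rw [hmk]; exact hC)
    have h1 : (t x)⁻¹ * x * t x = rep C := by
      have := ht x
      rw [hmk] at this
      calc (t x)⁻¹ * x * t x = (t x)⁻¹ * (t x * rep C * (t x)⁻¹) * t x := by rw [this]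
        _ = rep C := by group
    have hcomm : (g * (t x)⁻¹) * x = x * (g * (t x)⁻¹) := by
      calc g * (t x)⁻¹ * x = g * ((t x)⁻¹ * x * t x) * (t x)⁻¹ := by group
        _ = g * rep C * (t x)⁻¹ := by rw [h1]
        _ = (g * rep C * g⁻¹) * (g * (t x)⁻¹) := by group
    refine ⟨⟨(g * (t x)⁻¹, x), hxπ, hcomm⟩, ?_⟩
    simp only [f]
    refine Prod.ext (Subtype.ext hmk) ?_
    simp

lemma IsPi.mul {π : Set ℕ} {c c' : G} (h : IsPi π c) (h' : IsPi π c') (hc : Commute c c') :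
    IsPi π (c * c') := by
  intro q hq hqd
  have h1 := hc.orderOf_mul_dvd_lcm
  have h2 : q ∣ orderOf c * orderOf c' := (hqd.trans h1).trans (Nat.lcm_dvd_mul _ _)
  rcases (Nat.Prime.dvd_mul hq).mp h2 with h3 | h3
  · exact h q hq h3
  · exact h' q hq h3

lemma IsPi.inv {π : Set ℕ} {c : G} (h : IsPi π c) : IsPi π c⁻¹ := by
  unfold IsPi; rw [orderOf_inv]; exact h

lemma IsPi.of_mem_zpowers {π : Set ℕ} {c y : G} (h : IsPi π c) (hy : y ∈ Subgroup.zpowers c) :
    IsPi π y := fun q hq hqd => h q hq (hqd.trans (orderOf_dvd_of_mem_zpowers hy))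

lemma eq_one_of_isPi_compl {π : Set ℕ} {c : G} (h : IsPi π c) (h' : IsPi πᶜ c) : c = 1 := by
  rw [← orderOf_eq_one_iff]
  by_contra hne
  obtain ⟨q, hq, hqd⟩ := Nat.exists_prime_and_dvd hne
  exact h' q hq hqd (h q hq hqd)

lemma exists_pi_factor (π : Set ℕ) (o : ℕ) (ho : o ≠ 0) :
    ∃ a b : ℕ, a * b = o ∧ (∀ q : ℕ, q.Prime → q ∣ a → q ∈ π) ∧
      (∀ q : ℕ, q.Prime → q ∣ b → q ∉ π) := by
  induction o using Nat.recOnMul with
  | zero => exact absurd rfl ho
  | one =>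
    exact ⟨1, 1, rfl, fun q hq h => absurd (Nat.dvd_one.mp h) hq.ne_one,
      fun q hq h => absurd (Nat.dvd_one.mp h) hq.ne_one⟩
  | prime p hp =>
    have hp' : p.Prime := hp
    by_cases hpπ : p ∈ π
    · refine ⟨p, 1, mul_one _, ?_, fun q hq h => absurd (Nat.dvd_one.mp h) hq.ne_one⟩
      intro q hq hqd
      rw [(Nat.prime_dvd_prime_iff_eq hq hp').mp hqd]; exact hpπ
    · refine ⟨1, p, one_mul _, fun q hq h => absurd (Nat.dvd_one.mp h) hq.ne_one, ?_⟩
      intro q hq hqd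
      rw [(Nat.prime_dvd_prime_iff_eq hq hp').mp hqd]; exact hpπ
  | mul a b iha ihb =>
    have ha : a ≠ 0 := left_ne_zero_of_mul ho
    have hb : b ≠ 0 := right_ne_zero_of_mul ho
    obtain ⟨a₁, b₁, h1, h2, h3⟩ := iha ha
    obtain ⟨a₂, b₂, h1', h2', h3'⟩ := ihb hb
    refine ⟨a₁ * a₂, b₁ * b₂, by rw [← h1, ← h1']; ring, ?_, ?_⟩
    · intro q hq hqd
      rcases (Nat.Prime.dvd_mul hq).mp hqd with h | h
      · exact h2 q hq h
      · exact h2' q hq h
    · intro q hq hqd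
      rcases (Nat.Prime.dvd_mul hq).mp hqd with h | h
      · exact h3 q hq h
      · exact h3' q hq h

/-- the `π`/`π'`-decomposition of an element -/
lemma exists_pi_decomp [Finite G] (π : Set ℕ) (n : G) :
    ∃ y z : G, y * z = n ∧ y ∈ Subgroup.zpowers n ∧ z ∈ Subgroup.zpowers n ∧ IsPi π y ∧
      IsPi πᶜ z := by
  obtain ⟨a, b, hab, ha, hb⟩ := exists_pi_factor π (orderOf n) (orderOf_pos n).ne'
  have hcop : Nat.Coprime a b := Nat.coprime_of_dvd (fun q hq h1 h2 => hb q hq h2 (ha q hq h1))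
  have hco : IsCoprime (a : ℤ) (b : ℤ) := Nat.isCoprime_iff_coprime.mpr hcop
  obtain ⟨u, v, huv⟩ := hco
  refine ⟨n ^ (v * b), n ^ (u * a), ?_, ⟨_, rfl⟩, ⟨_, rfl⟩, ?_, ?_⟩
  · rw [← zpow_add, add_comm, huv, zpow_one]
  · intro q hq hqd
    have h1 : (n ^ (v * b)) ^ a = 1 := by
      rw [← zpow_natCast, ← zpow_mul]
      have : v * (b : ℤ) * (a : ℤ) = v * ((orderOf n : ℕ) : ℤ) := by rw [← hab]; push_cast; ring
      rw [this, zpow_mul', zpow_natCast, pow_orderOf_eq_one, one_zpow]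
    exact ha q hq (hqd.trans (orderOf_dvd_of_pow_eq_one h1))
  · intro q hq hqd
    have h1 : (n ^ (u * a)) ^ b = 1 := by
      rw [← zpow_natCast, ← zpow_mul]
      have : u * (a : ℤ) * (b : ℤ) = u * ((orderOf n : ℕ) : ℤ) := by rw [← hab]; push_cast; ring
      rw [this, zpow_mul', zpow_natCast, pow_orderOf_eq_one, one_zpow]
    exact hb q hq (hqd.trans (orderOf_dvd_of_pow_eq_one h1))

lemma commute_of_mem_zpowers {w x y : G} (hx : x ∈ Subgroup.zpowers w)
    (hy : y ∈ Subgroup.zpowers w) : Commute x y := by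
  obtain ⟨k, rfl⟩ := hx
  obtain ⟨k', rfl⟩ := hy
  exact (Commute.refl w).zpow_zpow k k'

/-- the `π`-part of a product of commuting `π`- and `π'`-elements is a power of the product -/
lemma mem_zpowers_mul [Finite G] {π : Set ℕ} {c b : G} (hc : IsPi π c) (hb : IsPi πᶜ b)
    (hcb : Commute c b) : c ∈ Subgroup.zpowers (c * b) := by
  have hcop : Nat.Coprime (orderOf c) (orderOf b) :=
    Nat.coprime_of_dvd (fun q hq h1 h2 => hb q hq h2 (hc q hq h1))
  obtain ⟨u, v, huv⟩ := Nat.isCoprime_iff_coprime.mpr hcop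
  refine ⟨v * orderOf b, ?_⟩
  show (c * b) ^ (v * (orderOf b : ℤ)) = c
  rw [hcb.mul_zpow]
  have h1 : b ^ (v * (orderOf b : ℤ)) = 1 := by
    rw [zpow_mul', zpow_natCast, pow_orderOf_eq_one, one_zpow]
  have h2 : c ^ (v * (orderOf b : ℤ)) = c := by
    have : v * (orderOf b : ℤ) = 1 - u * (orderOf c : ℤ) := by linarith
    rw [this, zpow_sub, zpow_one, zpow_mul', zpow_natCast, pow_orderOf_eq_one, one_zpow, inv_one,
      mul_one]
  rw [h1, h2, mul_one]

/-- uniqueness of the `π`/`π'`-decomposition -/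
lemma pi_decomp_unique [Finite G] {π : Set ℕ} {c b c' b' : G} (hc : IsPi π c) (hb : IsPi πᶜ b)
    (hc' : IsPi π c') (hb' : IsPi πᶜ b') (hcb : Commute c b) (hcb' : Commute c' b')
    (h : c * b = c' * b') : c = c' ∧ b = b' := by
  have h1 := mem_zpowers_mul hc hb hcb
  have h2 := mem_zpowers_mul hc' hb' hcb'
  rw [← h] at h2
  set w := c * b with hw
  have hww : w ∈ Subgroup.zpowers w := Subgroup.mem_zpowers w
  have hbw : b ∈ Subgroup.zpowers w := by
    have : b = c⁻¹ * w := by rw [hw]; group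
    rw [this]; exact Subgroup.mul_mem _ (Subgroup.inv_mem _ h1) hww
  have hb'w : b' ∈ Subgroup.zpowers w := by
    have : b' = c'⁻¹ * w := by rw [h]; group
    rw [this]; exact Subgroup.mul_mem _ (Subgroup.inv_mem _ h2) hww
  have he1 : IsPi π (c'⁻¹ * c) :=
    IsPi.mul hc'.inv hc (commute_of_mem_zpowers (Subgroup.inv_mem _ h2) h1)
  have he2 : c'⁻¹ * c = b' * b⁻¹ := by
    have e1 : b = c⁻¹ * w := by rw [hw]; group
    have e2 : b' = c'⁻¹ * w := by rw [h]; group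
    have hcw : Commute c w := commute_of_mem_zpowers h1 hww
    rw [e1, e2, mul_inv_rev, inv_inv]
    calc c'⁻¹ * c = c'⁻¹ * (c * w) * w⁻¹ := by group
      _ = c'⁻¹ * (w * c) * w⁻¹ := by rw [hcw.eq]
      _ = c'⁻¹ * w * (w⁻¹ * c) := by
        have : Commute c w⁻¹ := hcw.inv_right
        rw [← this.eq]; group
  have he3 : IsPi πᶜ (c'⁻¹ * c) := by
    rw [he2]
    exact IsPi.mul hb' hb.inv (commute_of_mem_zpowers hb'w (Subgroup.inv_mem _ hbw))
  have he : c'⁻¹ * c = 1 := eq_one_of_isPi_compl he1 he3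
  have hcc : c = c' := by
    have := inv_mul_eq_one.mp he
    exact this.symm
  refine ⟨hcc, ?_⟩
  rw [hw, hcc] at h
  exact mul_left_cancel h

/-- fibres of the reduction map have at most as many elements as `N` has commuting pairs -/
lemma ncard_fiber_le [Finite G] (N : Subgroup G) [N.Normal] (π : Set ℕ) (ab xb : G ⧸ N) :
    {p : G × G | IsPi π p.2 ∧ p.1 * p.2 = p.2 * p.1 ∧ (p.1 : G ⧸ N) = ab ∧
      (p.2 : G ⧸ N) = xb}.ncard ≤
      Nat.card {p : N × N // IsPi π p.2 ∧ p.1 * p.2 = p.2 * p.1} := by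
  classical
  set F : Set (G × G) := {p | IsPi π p.2 ∧ p.1 * p.2 = p.2 * p.1 ∧ (p.1 : G ⧸ N) = ab ∧
    (p.2 : G ⧸ N) = xb} with hF
  set F₁ : Set (G × G) := {p | p.1 ∈ N ∧ IsPi π p.2 ∧ p.1 * p.2 = p.2 * p.1 ∧
    (p.2 : G ⧸ N) = xb} with hF₁
  set F₂ : Set (G × G) := {p | p.1 ∈ N ∧ IsPi π p.1 ∧ p.1 * p.2 = p.2 * p.1 ∧
    (p.2 : G ⧸ N) = xb} with hF₂
  set A : Set (G × G) := {p | p.1 ∈ N ∧ p.2 ∈ N ∧ IsPi π p.2 ∧ p.1 * p.2 = p.2 * p.1} with hA
  have s1 : F.ncard ≤ F₁.ncard := by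
    let c : G → G := fun x =>
      if h : ∃ a' : G, (a' : G ⧸ N) = ab ∧ a' * x = x * a' then h.choose else 1
    have hc : ∀ a x : G, (a : G ⧸ N) = ab → a * x = x * a →
        ((c x : G) : G ⧸ N) = ab ∧ c x * x = x * c x := by
      intro a x h1 h2
      have h : ∃ a' : G, (a' : G ⧸ N) = ab ∧ a' * x = x * a' := ⟨a, h1, h2⟩
      simp only [c, dif_pos h]
      exact h.choose_spec
    apply Set.ncard_le_ncard_of_injOn (fun p => ((c p.2)⁻¹ * p.1, p.2))
    · rintro ⟨a, x⟩ ⟨hx, hax, ha, hxx⟩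
      obtain ⟨hc1, hc2⟩ := hc a x ha hax
      refine ⟨?_, hx, ?_, hxx⟩
      · show (c x)⁻¹ * a ∈ N
        rw [← QuotientGroup.eq]
        exact hc1.trans ha.symm
      · show (c x)⁻¹ * a * x = x * ((c x)⁻¹ * a)
        have hax' : a * x = x * a := hax
        calc (c x)⁻¹ * a * x = (c x)⁻¹ * (a * x) := by group
          _ = (c x)⁻¹ * (x * a) := by rw [hax']
          _ = (c x)⁻¹ * (x * c x) * (c x)⁻¹ * a := by group
          _ = (c x)⁻¹ * (c x * x) * (c x)⁻¹ * a := by rw [hc2]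
          _ = x * ((c x)⁻¹ * a) := by group
    · rintro ⟨a, x⟩ _ ⟨a', x'⟩ _ h
      simp only [Prod.mk.injEq] at h
      obtain ⟨h1, h2⟩ := h
      subst h2
      have := mul_left_cancel h1
      rw [this]
  have s2 : F₁.ncard ≤ F₂.ncard := by
    have hd : ∀ n : G, ∃ y z : G, y * z = n ∧ y ∈ Subgroup.zpowers n ∧ z ∈ Subgroup.zpowers n ∧
        IsPi π y ∧ IsPi πᶜ z := exists_pi_decomp π
    choose yπ zπ hyz hy hz hyπ hzπ using hd
    apply Set.ncard_le_ncard_of_injOn (fun p => (yπ p.1, p.2 * zπ p.1))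
    · rintro ⟨n, x⟩ ⟨hn, hx, hnx, hxx⟩
      have hn' : n ∈ N := hn
      have hnx' : Commute n x := hnx
      have hzN : zπ n ∈ N := (Subgroup.zpowers_le.mpr hn') (hz n)
      have hyN : yπ n ∈ N := (Subgroup.zpowers_le.mpr hn') (hy n)
      have hxcomm : ∀ w ∈ Subgroup.zpowers n, Commute w x := by
        rintro w ⟨k, rfl⟩
        exact hnx'.zpow_left k
      refine ⟨hyN, hyπ n, ?_, ?_⟩
      · show yπ n * (x * zπ n) = x * zπ n * yπ n
        have h1 := (hxcomm _ (hy n)).eq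
        have h2 := (commute_of_mem_zpowers (hy n) (hz n)).eq
        calc yπ n * (x * zπ n) = (yπ n * x) * zπ n := by group
          _ = x * (yπ n * zπ n) := by rw [h1]; group
          _ = x * zπ n * yπ n := by rw [h2]; group
      · show ((x * zπ n : G) : G ⧸ N) = xb
        rw [QuotientGroup.mk_mul, (QuotientGroup.eq_one_iff _).mpr hzN, mul_one]; exact hxx
    · rintro ⟨n, x⟩ ⟨hn, hx, hnx, hxx⟩ ⟨m, x'⟩ ⟨hm, hx', hmx', hxx'⟩ h
      simp only [Prod.mk.injEq] at h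
      obtain ⟨h1, h2⟩ := h
      have hnx' : Commute n x := hnx
      have hmx'' : Commute m x' := hmx'
      have hc1 : Commute x (zπ n) := by
        obtain ⟨k, hk⟩ := hz n
        rw [← hk]; exact hnx'.symm.zpow_right k
      have hc2 : Commute x' (zπ m) := by
        obtain ⟨k, hk⟩ := hz m
        rw [← hk]; exact hmx''.symm.zpow_right k
      obtain ⟨e1, e2⟩ := pi_decomp_unique hx (hzπ n) hx' (hzπ m) hc1 hc2 h2
      have hnm : n = m := by rw [← hyz n, ← hyz m, h1, e2]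
      have e1' : x = x' := e1
      rw [hnm, e1']
  have s3 : F₂.ncard ≤ A.ncard := by
    let d : G → G := fun y =>
      if h : ∃ w' : G, (w' : G ⧸ N) = xb ∧ y * w' = w' * y then h.choose else 1
    have hd : ∀ y w : G, (w : G ⧸ N) = xb → y * w = w * y →
        ((d y : G) : G ⧸ N) = xb ∧ y * d y = d y * y := by
      intro y w h1 h2
      have h : ∃ w' : G, (w' : G ⧸ N) = xb ∧ y * w' = w' * y := ⟨w, h1, h2⟩
      simp only [d, dif_pos h]
      exact h.choose_spec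
    apply Set.ncard_le_ncard_of_injOn (fun p => ((d p.1)⁻¹ * p.2, p.1))
    · rintro ⟨y, w⟩ ⟨hy, hyπ, hyw, hww⟩
      obtain ⟨hd1, hd2⟩ := hd y w hww hyw
      refine ⟨?_, hy, hyπ, ?_⟩
      · show (d y)⁻¹ * w ∈ N
        rw [← QuotientGroup.eq]; exact hd1.trans hww.symm
      · show (d y)⁻¹ * w * y = y * ((d y)⁻¹ * w)
        have hyw' : y * w = w * y := hyw
        calc (d y)⁻¹ * w * y = (d y)⁻¹ * (w * y) := by group
          _ = (d y)⁻¹ * (y * w) := by rw [hyw']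
          _ = (d y)⁻¹ * (y * d y) * (d y)⁻¹ * w := by group
          _ = (d y)⁻¹ * (d y * y) * (d y)⁻¹ * w := by rw [hd2]
          _ = y * ((d y)⁻¹ * w) := by group
    · rintro ⟨y, w⟩ _ ⟨y', w'⟩ _ h
      simp only [Prod.mk.injEq] at h
      obtain ⟨h1, h2⟩ := h
      subst h2
      have := mul_left_cancel h1
      rw [this]
  have s4 : A.ncard ≤ Nat.card {p : N × N // IsPi π p.2 ∧ p.1 * p.2 = p.2 * p.1} := by
    rw [← Nat.card_coe_set_eq]
    refine Nat.card_le_card_of_injective (fun p : A =>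
      (⟨(⟨p.1.1, p.2.1⟩, ⟨p.1.2, p.2.2.1⟩), ?_, ?_⟩ :
        {p : N × N // IsPi π p.2 ∧ p.1 * p.2 = p.2 * p.1})) ?_
    · have := p.2.2.2.1
      intro q hq hqd
      rw [Subgroup.orderOf_mk] at hqd
      exact this q hq hqd
    · apply Subtype.ext
      exact p.2.2.2.2
    · rintro ⟨⟨a, b⟩, ha⟩ ⟨⟨a', b'⟩, ha'⟩ h
      simp only [Subtype.mk.injEq, Prod.mk.injEq] at h
      apply Subtype.ext
      exact Prod.ext h.1 h.2
  exact s1.trans (s2.trans (s3.trans s4))

lemma IsPi.map_mk {π : Set ℕ} (N : Subgroup G) [N.Normal] {x : G} (h : IsPi π x) :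
    IsPi π (x : G ⧸ N) := fun q hq hqd =>
  h q hq (hqd.trans (orderOf_map_dvd (QuotientGroup.mk' N) x))

/-- `k_π(G) ≤ k_π(N) k_π(G/N)` -/
theorem main [Finite G] (N : Subgroup G) [N.Normal] (π : Set ℕ) :
    Nat.card (PCl π G) ≤ Nat.card (PCl π N) * Nat.card (PCl π (G ⧸ N)) := by
  classical
  have hG : Nat.card {p : G × G // IsPi π p.2 ∧ p.1 * p.2 = p.2 * p.1} =
      Nat.card (PCl π G) * Nat.card G := card_cp π
  have hN : Nat.card {p : N × N // IsPi π p.2 ∧ p.1 * p.2 = p.2 * p.1} =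
      Nat.card (PCl π N) * Nat.card N := card_cp π
  have hQ : Nat.card {p : (G ⧸ N) × (G ⧸ N) // IsPi π p.2 ∧ p.1 * p.2 = p.2 * p.1} =
      Nat.card (PCl π (G ⧸ N)) * Nat.card (G ⧸ N) := card_cp π
  let Φ : {p : G × G // IsPi π p.2 ∧ p.1 * p.2 = p.2 * p.1} →
      {p : (G ⧸ N) × (G ⧸ N) // IsPi π p.2 ∧ p.1 * p.2 = p.2 * p.1} :=
    fun p => ⟨((p.1.1 : G ⧸ N), (p.1.2 : G ⧸ N)), p.2.1.map_mk N, by
      show ((p.1.1 : G ⧸ N)) * (p.1.2 : G ⧸ N) = (p.1.2 : G ⧸ N) * (p.1.1 : G ⧸ N)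
      rw [← QuotientGroup.mk_mul, ← QuotientGroup.mk_mul, p.2.2]⟩
  have key : Nat.card {p : G × G // IsPi π p.2 ∧ p.1 * p.2 = p.2 * p.1} ≤
      Nat.card {p : N × N // IsPi π p.2 ∧ p.1 * p.2 = p.2 * p.1} *
      Nat.card {p : (G ⧸ N) × (G ⧸ N) // IsPi π p.2 ∧ p.1 * p.2 = p.2 * p.1} := by
    haveI : Fintype {p : (G ⧸ N) × (G ⧸ N) // IsPi π p.2 ∧ p.1 * p.2 = p.2 * p.1} :=
      Fintype.ofFinite _
    have e : Nat.card {p : G × G // IsPi π p.2 ∧ p.1 * p.2 = p.2 * p.1} =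
        Nat.card (Σ b, {p // Φ p = b}) := Nat.card_congr (Equiv.sigmaFiberEquiv Φ).symm
    rw [e, Nat.card_sigma]
    calc ∑ b, Nat.card {p // Φ p = b}
        ≤ ∑ _b : {p : (G ⧸ N) × (G ⧸ N) // IsPi π p.2 ∧ p.1 * p.2 = p.2 * p.1},
            Nat.card {p : N × N // IsPi π p.2 ∧ p.1 * p.2 = p.2 * p.1} := by
          refine Finset.sum_le_sum (fun b _ => ?_)
          refine le_trans ?_ (ncard_fiber_le N π b.1.1 b.1.2)
          rw [← Nat.card_coe_set_eq]
          refine Nat.card_le_card_of_injective (fun p : {p // Φ p = b} =>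
            (⟨p.1.1, p.1.2.1, p.1.2.2, ?_, ?_⟩ :
              ↥{p : G × G | IsPi π p.2 ∧ p.1 * p.2 = p.2 * p.1 ∧ (p.1 : G ⧸ N) = b.1.1 ∧
                (p.2 : G ⧸ N) = b.1.2})) ?_
          · have := p.2
            exact congrArg (fun z => z.1.1) this
          · have := p.2
            exact congrArg (fun z => z.1.2) this
          · rintro ⟨p, hp⟩ ⟨p', hp'⟩ h
            simp only [Subtype.mk.injEq] at h
            apply Subtype.ext
            apply Subtype.ext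
            exact h
      _ = _ := by
          rw [Finset.sum_const, Finset.card_univ, smul_eq_mul, ← Nat.card_eq_fintype_card,
            mul_comm]
  rw [hG, hN, hQ] at key
  have hcard : Nat.card G = Nat.card (G ⧸ N) * Nat.card N :=
    Subgroup.card_eq_card_quotient_mul_card_subgroup N
  apply Nat.le_of_mul_le_mul_right _ (Nat.card_pos (α := G))
  calc Nat.card (PCl π G) * Nat.card G
      ≤ Nat.card (PCl π N) * Nat.card N * (Nat.card (PCl π (G ⧸ N)) * Nat.card (G ⧸ N)) := key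
    _ = Nat.card (PCl π N) * Nat.card (PCl π (G ⧸ N)) * Nat.card G := by rw [hcard]; ring

end Cfsg.Agent.H1.PiSub
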