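import Mathlib
import Cfsg.Prelude.Def_Local
import Cfsg.Agent.H1.Cores
import Cfsg.Agent.H2.Layer
import Cfsg.Agent.H2.Components

set_option autoImplicit false
open scoped commutatorElement Pointwise

namespace Cfsg.Agent.H1.PrimPair

variable {X : Type*} [Group X]

/-- abstract coprime-action computation: a `p`-element `t` centralizing `V` and a `p'`-element
`v` centralizing `P` commute, provided the commutator lands in an abelian normal subgroup `Z`
whose `p`-elements lie in `P` and whose `p'`-elements lie in `V`. -/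
theorem commute_of_pElement [Finite X] (p : ℕ) [hp : Fact p.Prime]
    (P V Z : Subgroup X) [hPn : P.Normal] [hVn : V.Normal] [hZn : Z.Normal]
    (hZab : ∀ z ∈ Z, ∀ z' ∈ Z, z * z' = z' * z)
    (hZp : ∀ z ∈ Z, ∀ k : ℕ, z ^ (p ^ k) = 1 → z ∈ P)
    (hZp' : ∀ z ∈ Z, ∀ b : ℕ, b.Coprime p → z ^ b = 1 → z ∈ V)
    (hcomm : ∀ g : X, g ∈ Subgroup.centralizer (P : Set X) → g ∈ Subgroup.centralizer (V : Set X) →
      g ∈ Z)
    (t : X) (ht : t ∈ Subgroup.centralizer (V : Set X)) (k : ℕ) (htk : t ^ (p ^ k) = 1)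
    (v : X) (hv : v ∈ Subgroup.centralizer (P : Set X)) (n : ℕ) (hn : n.Coprime p) (hvn : v ^ n = 1) :
    t * v = v * t := by
  classical
  set c : X := t⁻¹ * v⁻¹ * t * v with hc
  -- c ∈ Z
  have hcV : c ∈ Subgroup.centralizer (V : Set X) := by
    haveI : (Subgroup.centralizer (V : Set X)).Normal := inferInstance
    have h1 : v⁻¹ * t * v⁻¹⁻¹ ∈ Subgroup.centralizer (V : Set X) :=
      (inferInstance : (Subgroup.centralizer (V : Set X)).Normal).conj_mem t ht v⁻¹
    have h2 := Subgroup.mul_mem _ (Subgroup.inv_mem _ ht) h1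
    have : t⁻¹ * (v⁻¹ * t * v⁻¹⁻¹) = c := by rw [hc]; group
    rwa [this] at h2
  have hvP : ∀ y ∈ P, y * v = v * y := fun y hy => Subgroup.mem_centralizer_iff.1 hv y hy
  have hvP' : ∀ y ∈ P, v⁻¹ * y * v = y := by
    intro y hy
    rw [mul_assoc, hvP y hy, ← mul_assoc, inv_mul_cancel, one_mul]
  have htV : ∀ y ∈ V, y * t = t * y := fun y hy => Subgroup.mem_centralizer_iff.1 ht y hy
  have htV' : ∀ y ∈ V, t⁻¹ * y * t = y := by
    intro y hy
    rw [mul_assoc, htV y hy, ← mul_assoc, inv_mul_cancel, one_mul]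
  have hcP : c ∈ Subgroup.centralizer (P : Set X) := by
    rw [Subgroup.mem_centralizer_iff]
    intro x hx
    have hy : t * x * t⁻¹ ∈ P := hPn.conj_mem x hx t
    have h1 := hvP x hx
    have h2 := hvP' _ hy
    -- c * x = x * c
    have : c * x = t⁻¹ * (v⁻¹ * (t * x * t⁻¹) * v) * (v⁻¹ * t * v) := by
      rw [hc]
      have : t⁻¹ * v⁻¹ * t * v * x = t⁻¹ * v⁻¹ * t * (v * x) := by group
      rw [this, ← h1]; group
    rw [this, h2, hc]; group
  have hcZ : c ∈ Z := hcomm c hcP hcV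
  -- decomposition of |Z|
  obtain ⟨e, b, hb, hcard⟩ := Nat.exists_eq_pow_mul_and_not_dvd (Nat.card_pos (α := Z)).ne' p
    hp.out.ne_one
  have hbc : b.Coprime p := ((Nat.Prime.coprime_iff_not_dvd hp.out).2 hb).symm
  have hpowcard : ∀ z ∈ Z, z ^ (p ^ e * b) = 1 := by
    intro z hz
    have := pow_card_eq_one' (G := Z) (x := ⟨z, hz⟩)
    rw [hcard] at this
    simpa using congrArg Subtype.val this
  have hZb : ∀ z ∈ Z, z ^ b ∈ P := by
    intro z hz
    apply hZp _ (Subgroup.pow_mem _ hz _) e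
    rw [← pow_mul, mul_comm]; exact hpowcard z hz
  have hZa : ∀ z ∈ Z, z ^ (p ^ e) ∈ V := by
    intro z hz
    apply hZp' _ (Subgroup.pow_mem _ hz _) b hbc
    rw [← pow_mul]; exact hpowcard z hz
  -- induction 1
  have hind1 : ∀ i : ℕ, ∃ d ∈ Z, v⁻¹ ^ i * t * v ^ i = t * d ∧ d ^ b = (c ^ b) ^ i := by
    intro i
    induction i with
    | zero => exact ⟨1, Subgroup.one_mem _, by simp, by simp⟩
    | succ i ih =>
      obtain ⟨d, hdZ, hd1, hd2⟩ := ih
      have hd' : v⁻¹ * d * v ∈ Z := by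
        have := hZn.conj_mem d hdZ v⁻¹
        simpa using this
      refine ⟨c * (v⁻¹ * d * v), Subgroup.mul_mem _ hcZ hd', ?_, ?_⟩
      · have : v⁻¹ ^ (i + 1) * t * v ^ (i + 1) = v⁻¹ * (v⁻¹ ^ i * t * v ^ i) * v := by
          rw [pow_succ', pow_succ]; group
        rw [this, hd1, hc]; group
      · have hcomm' : Commute c (v⁻¹ * d * v) := hZab _ hcZ _ hd'
        rw [hcomm'.mul_pow]
        have : (v⁻¹ * d * v) ^ b = v⁻¹ * d ^ b * v := by
          have := conj_pow (a := v⁻¹) (b := d) (i := b)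
          simpa using this
        rw [this, hd2, hvP' _ (Subgroup.pow_mem _ (hZb c hcZ) _), pow_succ']
  -- induction 2
  have hind2 : ∀ j : ℕ, ∃ d ∈ Z, t⁻¹ ^ j * v⁻¹ * t ^ j = d * v⁻¹ ∧
      d ^ (p ^ e) = (c ^ (p ^ e)) ^ j := by
    intro j
    induction j with
    | zero => exact ⟨1, Subgroup.one_mem _, by simp, by simp⟩
    | succ j ih =>
      obtain ⟨d, hdZ, hd1, hd2⟩ := ih
      have hd' : t⁻¹ * d * t ∈ Z := by
        have := hZn.conj_mem d hdZ t⁻¹
        simpa using this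
      refine ⟨(t⁻¹ * d * t) * c, Subgroup.mul_mem _ hd' hcZ, ?_, ?_⟩
      · have : t⁻¹ ^ (j + 1) * v⁻¹ * t ^ (j + 1) = t⁻¹ * (t⁻¹ ^ j * v⁻¹ * t ^ j) * t := by
          rw [pow_succ', pow_succ]; group
        rw [this, hd1, hc]; group
      · have hcomm' : Commute (t⁻¹ * d * t) c := hZab _ hd' _ hcZ
        rw [hcomm'.mul_pow]
        have : (t⁻¹ * d * t) ^ (p ^ e) = t⁻¹ * d ^ (p ^ e) * t := by
          have := conj_pow (a := t⁻¹) (b := d) (i := p ^ e)
          simpa using this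
        rw [this, hd2, htV' _ (Subgroup.pow_mem _ (hZa c hcZ) _), pow_succ]
  -- conclude
  obtain ⟨d1, -, h11, h12⟩ := hind1 n
  obtain ⟨d2, -, h21, h22⟩ := hind2 (p ^ k)
  have hd1 : d1 = 1 := by
    rw [inv_pow, hvn] at h11
    simpa using h11.symm
  have hd2 : d2 = 1 := by
    rw [inv_pow, htk] at h21
    have : v⁻¹ = d2 * v⁻¹ := by simpa using h21
    have := mul_right_cancel (a := 1) (b := v⁻¹) (c := d2) (by simpa using this)
    exact this.symm
  rw [hd1, one_pow] at h12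
  rw [hd2, one_pow] at h22
  have ho1 : orderOf c ∣ b * n := by
    apply orderOf_dvd_of_pow_eq_one
    rw [pow_mul]; exact h12.symm
  have ho2 : orderOf c ∣ p ^ e * p ^ k := by
    apply orderOf_dvd_of_pow_eq_one
    rw [pow_mul]; exact h22.symm
  have hcop : (b * n).Coprime (p ^ e * p ^ k) := by
    apply Nat.Coprime.mul_right
    · exact (Nat.Coprime.mul_left hbc hn).pow_right e
    · exact (Nat.Coprime.mul_left hbc hn).pow_right k
  have hc1 : c = 1 := by
    have := Nat.eq_one_of_dvd_coprimes hcop ho1 ho2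
    exact orderOf_eq_one_iff.1 this
  have : t⁻¹ * v⁻¹ * t * v = 1 := hc1
  have h := congrArg (fun y => v * t * y) this
  simp only [mul_one] at h
  rw [← h]; group


/-- `p`-elements of an abelian normal subgroup lie in `O_p`. -/
theorem mem_pCore_of_abelian_normal (p : ℕ) (Z : Subgroup X) [hZn : Z.Normal]
    (hZab : ∀ z ∈ Z, ∀ z' ∈ Z, z * z' = z' * z) (z : X) (hz : z ∈ Z) (k : ℕ)
    (hzk : z ^ (p ^ k) = 1) : z ∈ Cfsg.pCore p X := by
  let N : Subgroup X :=
    { carrier := {y | y ∈ Z ∧ y ^ (p ^ k) = 1}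
      mul_mem' := by
        rintro a b ⟨ha, ha'⟩ ⟨hb, hb'⟩
        refine ⟨Subgroup.mul_mem _ ha hb, ?_⟩
        have hc : Commute a b := hZab a ha b hb
        rw [hc.mul_pow, ha', hb', one_mul]
      one_mem' := ⟨Subgroup.one_mem _, one_pow _⟩
      inv_mem' := by
        rintro a ⟨ha, ha'⟩
        exact ⟨Subgroup.inv_mem _ ha, by rw [inv_pow, ha', inv_one]⟩ }
  have hNn : N.Normal := by
    refine ⟨fun a ha g => ?_⟩
    obtain ⟨ha, ha'⟩ := ha
    refine ⟨hZn.conj_mem a ha g, ?_⟩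
    rw [conj_pow, ha']; group
  have hNp : IsPGroup p N := by
    rintro ⟨y, hy⟩
    exact ⟨k, Subtype.ext hy.2⟩
  exact Cfsg.Agent.H1.le_pCore hNn hNp (show z ∈ N from ⟨hz, hzk⟩)

/-- `p'`-elements of an abelian normal subgroup lie in `F(X) ∩ O_{p'}(X)`. -/
theorem mem_pPrime_of_abelian_normal [Finite X] (p : ℕ) [hp : Fact p.Prime] (Z : Subgroup X)
    [hZn : Z.Normal]
    (hZab : ∀ z ∈ Z, ∀ z' ∈ Z, z * z' = z' * z) (z : X) (hz : z ∈ Z) (b : ℕ) (hb : b.Coprime p)
    (hzb : z ^ b = 1) : z ∈ Cfsg.fittingSubgroup X ⊓ Cfsg.pPrimeCore p X := by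
  let N : Subgroup X :=
    { carrier := {y | y ∈ Z ∧ y ^ b = 1}
      mul_mem' := by
        rintro a c ⟨ha, ha'⟩ ⟨hc, hc'⟩
        refine ⟨Subgroup.mul_mem _ ha hc, ?_⟩
        have hcm : Commute a c := hZab a ha c hc
        rw [hcm.mul_pow, ha', hc', one_mul]
      one_mem' := ⟨Subgroup.one_mem _, one_pow _⟩
      inv_mem' := by
        rintro a ⟨ha, ha'⟩
        exact ⟨Subgroup.inv_mem _ ha, by rw [inv_pow, ha', inv_one]⟩ }
  have hNn : N.Normal := by
    refine ⟨fun a ha g => ?_⟩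
    obtain ⟨ha, ha'⟩ := ha
    refine ⟨hZn.conj_mem a ha g, ?_⟩
    rw [conj_pow, ha']; group
  have hNab : ⁅N, N⁆ = ⊥ := by
    rw [Cfsg.Agent.H2.commutator_eq_bot_iff_forall_commute]
    intro a ha c hc
    exact hZab a ha.1 c hc.1
  have hNnil : Group.IsNilpotent N := Cfsg.Agent.H2.isNilpotent_of_commutator_eq_bot N hNab
  have hNc : (Nat.card N).Coprime p := by
    rw [Nat.coprime_comm, Nat.Prime.coprime_iff_not_dvd hp.out]
    intro hdvd
    obtain ⟨x, hx⟩ := exists_prime_orderOf_dvd_card' (G := N) p hdvd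
    have hxb : x ^ b = 1 := Subtype.ext x.2.2
    have : p ∣ b := hx ▸ orderOf_dvd_of_pow_eq_one hxb
    exact (Nat.Prime.coprime_iff_not_dvd hp.out).1 hb.symm this
  have hzN : z ∈ N := ⟨hz, hzb⟩
  exact ⟨Cfsg.Agent.H1.le_fittingSubgroup hNn hNnil hzN, Cfsg.Agent.H1.le_pPrimeCore hNn hNc hzN⟩

/-- Type-level key lemma: if `E(X) = 1`, a `p`-element centralizing `F(X) ∩ O_{p'}(X)` commutes with
any `p'`-element centralizing `O_p(X)`. -/
theorem commute_of_layer_eq_bot [Finite X] (p : ℕ) [hp : Fact p.Prime] (hE : Cfsg.layer X = ⊥)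
    (t : X) (ht : t ∈ Subgroup.centralizer
      ((Cfsg.fittingSubgroup X ⊓ Cfsg.pPrimeCore p X : Subgroup X) : Set X))
    (k : ℕ) (htk : t ^ (p ^ k) = 1)
    (v : X) (hv : v ∈ Subgroup.centralizer ((Cfsg.pCore p X : Subgroup X) : Set X))
    (n : ℕ) (hn : n.Coprime p) (hvn : v ^ n = 1) : t * v = v * t := by
  set F := Cfsg.fittingSubgroup X with hF
  set V := F ⊓ Cfsg.pPrimeCore p X with hV
  set P := Cfsg.pCore p X with hP
  set Z := Subgroup.centralizer (F : Set X) with hZ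
  haveI : P.Normal := Cfsg.Agent.H1.pCore_normal p
  haveI : V.Normal := inferInstance
  haveI : Z.Normal := inferInstance
  have hFs : Cfsg.generalizedFittingSubgroup X = F := by
    unfold Cfsg.generalizedFittingSubgroup
    rw [hE, bot_sup_eq]
  have hZF : Z ≤ F := by
    have := Cfsg.Agent.H2.centralizer_generalizedFittingSubgroup_le (G := X)
    rwa [hFs] at this
  have hZab : ∀ z ∈ Z, ∀ z' ∈ Z, z * z' = z' * z := by
    intro z hz z' hz'
    exact Subgroup.mem_centralizer_iff.1 hz' z (hZF hz)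
  have hFle : F ≤ P ⊔ V := by
    rw [hF, Cfsg.Agent.H1.fittingSubgroup_eq_iSup_pCore]
    apply iSup_le
    intro q
    by_cases hq : (q : ℕ) = p
    · rw [hq]; exact le_sup_left
    · refine le_trans (le_inf ?_ ?_) le_sup_right
      · rw [hF, Cfsg.Agent.H1.fittingSubgroup_eq_iSup_pCore]
        exact le_iSup (fun q : Nat.Primes => Cfsg.pCore (q : ℕ) X) q
      · exact Cfsg.Agent.H1.le_pPrimeCore (Cfsg.Agent.H1.pCore_normal _)
          (Cfsg.Agent.H1.pCore_coprime_of_ne hp.out q.2 hq)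
  apply commute_of_pElement p P V Z hZab
    (fun z hz k hzk => mem_pCore_of_abelian_normal p Z hZab z hz k hzk)
    (fun z hz b hb hzb => mem_pPrime_of_abelian_normal p Z hZab z hz b hb hzb)
    ?_ t ht k htk v hv n hn hvn
  intro g hgP hgV
  rw [hZ, Subgroup.mem_centralizer_iff]
  intro y hy
  have h1 : P ≤ Subgroup.centralizer ({g} : Set X) := by
    intro y hy
    rw [Subgroup.mem_centralizer_iff]
    intro h hh
    rw [Set.mem_singleton_iff] at hh
    rw [hh]
    exact (Subgroup.mem_centralizer_iff.1 hgP y hy).symm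
  have h2 : V ≤ Subgroup.centralizer ({g} : Set X) := by
    intro y hy
    rw [Subgroup.mem_centralizer_iff]
    intro h hh
    rw [Set.mem_singleton_iff] at hh
    rw [hh]
    exact (Subgroup.mem_centralizer_iff.1 hgV y hy).symm
  have h3 := hFle.trans (sup_le h1 h2) hy
  exact (Subgroup.mem_centralizer_iff.1 h3 g rfl).symm

end Cfsg.Agent.H1.PrimPair
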