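import Mathlib
import Cfsg.Prelude.Def_Local
import Cfsg.Agent.H1.Cores
import Cfsg.Agent.H1.PrimPairA
import Cfsg.Agent.H2.Layer
import Cfsg.Agent.H2.Components
import Cfsg.Agent.H2.LocalFStar
import Cfsg.Agent.H2.LocalFStar2
import Cfsg.Agent.H2.CharP
import Cfsg.Agent.H2.Equivariant

set_option autoImplicit false
open scoped commutatorElement Pointwise

namespace Cfsg.Agent.H1.PrimPair

variable {G : Type*} [Group G]

/-- `O_p(M)` as a subgroup of `G` -/
def PG (p : ℕ) (M : Subgroup G) : Subgroup G := (Cfsg.pCore p ↥M).map M.subtype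
/-- `F(M) ∩ O_{p'}(M)` as a subgroup of `G` -/
def VG (p : ℕ) (M : Subgroup G) : Subgroup G :=
  (Cfsg.fittingSubgroup ↥M ⊓ Cfsg.pPrimeCore p ↥M).map M.subtype
/-- `F*(M)` as a subgroup of `G` -/
def FS (M : Subgroup G) : Subgroup G := (Cfsg.generalizedFittingSubgroup ↥M).map M.subtype
/-- `E(M)` as a subgroup of `G` -/
def LS (M : Subgroup G) : Subgroup G := (Cfsg.layer ↥M).map M.subtype

theorem PG_le (p : ℕ) (M : Subgroup G) : PG p M ≤ M := Cfsg.Agent.H2.map_subtype_le _ _
theorem VG_le (p : ℕ) (M : Subgroup G) : VG p M ≤ M := Cfsg.Agent.H2.map_subtype_le _ _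
theorem FS_le (M : Subgroup G) : FS M ≤ M := Cfsg.Agent.H2.map_subtype_le _ _
theorem LS_le (M : Subgroup G) : LS M ≤ M := Cfsg.Agent.H2.map_subtype_le _ _

theorem LS_le_FS (M : Subgroup G) : LS M ≤ FS M :=
  Subgroup.map_mono Cfsg.Agent.H2.layer_le_generalizedFittingSubgroup

theorem VG_le_FS (p : ℕ) (M : Subgroup G) : VG p M ≤ FS M :=
  Subgroup.map_mono (inf_le_left.trans Cfsg.Agent.H2.fittingSubgroup_le_generalizedFittingSubgroup)

theorem PG_le_FS [Finite G] (p : ℕ) [Fact p.Prime] (M : Subgroup G) : PG p M ≤ FS M := by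
  refine Subgroup.map_mono (le_trans ?_ Cfsg.Agent.H2.fittingSubgroup_le_generalizedFittingSubgroup)
  exact Cfsg.Agent.H1.le_fittingSubgroup (Cfsg.Agent.H1.pCore_normal p)
    (Cfsg.Agent.H1.pCore_isPGroup (G := ↥M) p).isNilpotent

theorem le_normalizer_PG (p : ℕ) (M : Subgroup G) :
    M ≤ Subgroup.normalizer ((PG p M : Subgroup G) : Set G) := by
  haveI : (Cfsg.pCore p ↥M).Normal := Cfsg.Agent.H1.pCore_normal p
  exact Cfsg.Agent.H2.le_normalizer_map_subtype_of_normal M _

theorem le_normalizer_VG [Finite G] (p : ℕ) (M : Subgroup G) :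
    M ≤ Subgroup.normalizer ((VG p M : Subgroup G) : Set G) := by
  haveI : (Cfsg.fittingSubgroup ↥M ⊓ Cfsg.pPrimeCore p ↥M).Normal := inferInstance
  exact Cfsg.Agent.H2.le_normalizer_map_subtype_of_normal M _

theorem le_normalizer_FS (M : Subgroup G) :
    M ≤ Subgroup.normalizer ((FS M : Subgroup G) : Set G) :=
  Cfsg.Agent.H2.le_normalizer_map_subtype_of_normal M _

theorem le_normalizer_LS (M : Subgroup G) :
    M ≤ Subgroup.normalizer ((LS M : Subgroup G) : Set G) := by
  haveI := Cfsg.Agent.H2.layer_normal (G := ↥M)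
  exact Cfsg.Agent.H2.le_normalizer_map_subtype_of_normal M _

theorem PG_isPGroup (p : ℕ) (M : Subgroup G) : IsPGroup p (PG p M) :=
  (Cfsg.Agent.H1.pCore_isPGroup (G := ↥M) p).map _

theorem VG_coprime [Finite G] (p : ℕ) (M : Subgroup G) : (Nat.card (VG p M)).Coprime p := by
  have h1 : Nat.card (VG p M) = Nat.card (Cfsg.fittingSubgroup ↥M ⊓ Cfsg.pPrimeCore p ↥M :
      Subgroup ↥M) :=
    (Nat.card_congr ((Subgroup.equivMapOfInjective _ M.subtype M.subtype_injective).toEquiv)).symm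
  rw [h1]
  exact Nat.Coprime.coprime_dvd_left (Subgroup.card_dvd_of_le inf_le_right)
    (Cfsg.Agent.H1.pPrimeCore_coprime p)

/-- Bender's theorem transported to `G` -/
theorem mem_FS_of_centralizes [Finite G] (M : Subgroup G) (x : G) (hxM : x ∈ M)
    (hx : x ∈ Subgroup.centralizer ((FS M : Subgroup G) : Set G)) : x ∈ FS M := by
  have h1 : (⟨x, hxM⟩ : ↥M) ∈ Subgroup.centralizer
      ((Cfsg.generalizedFittingSubgroup ↥M : Subgroup ↥M) : Set ↥M) := by
    rw [Subgroup.mem_centralizer_iff]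
    intro y hy
    apply Subtype.ext
    exact Subgroup.mem_centralizer_iff.1 hx (y : G) (Subgroup.mem_map_of_mem M.subtype hy)
  have h2 := Cfsg.Agent.H2.centralizer_generalizedFittingSubgroup_le h1
  exact ⟨⟨x, hxM⟩, h2, rfl⟩

/-- key lemma transported to `G` -/
theorem commuteG [Finite G] (p : ℕ) [Fact p.Prime] (M : Subgroup G)
    (hE : Cfsg.layer ↥M = ⊥) (t : G) (htM : t ∈ M)
    (ht : t ∈ Subgroup.centralizer ((VG p M : Subgroup G) : Set G)) (k : ℕ) (htk : t ^ (p ^ k) = 1)
    (v : G) (hvM : v ∈ M) (hv : v ∈ Subgroup.centralizer ((PG p M : Subgroup G) : Set G))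
    (n : ℕ) (hn : n.Coprime p) (hvn : v ^ n = 1) : t * v = v * t := by
  have h := commute_of_layer_eq_bot (X := ↥M) p hE ⟨t, htM⟩ ?_ k (Subtype.ext htk) ⟨v, hvM⟩ ?_ n hn
    (Subtype.ext hvn)
  · exact congrArg Subtype.val h
  · rw [Subgroup.mem_centralizer_iff]
    intro y hy
    apply Subtype.ext
    exact Subgroup.mem_centralizer_iff.1 ht (y : G) (Subgroup.mem_map_of_mem M.subtype hy)
  · rw [Subgroup.mem_centralizer_iff]
    intro y hy
    apply Subtype.ext
    exact Subgroup.mem_centralizer_iff.1 hv (y : G) (Subgroup.mem_map_of_mem M.subtype hy)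

/-- a group acting on a set by conjugation normalizes the generated subgroup -/
theorem le_normalizer_closure (M : Subgroup G) (S : Set G)
    (h : ∀ m ∈ M, ∀ s ∈ S, m * s * m⁻¹ ∈ S) :
    M ≤ Subgroup.normalizer ((Subgroup.closure S : Subgroup G) : Set G) := by
  have key : ∀ m ∈ M, ∀ y ∈ Subgroup.closure S, m * y * m⁻¹ ∈ Subgroup.closure S := by
    intro m hm y hy
    induction hy using Subgroup.closure_induction with
    | mem x hx => exact Subgroup.subset_closure (h m hm x hx)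
    | one => simp
    | mul x y _ _ hx hy =>
      have : m * (x * y) * m⁻¹ = (m * x * m⁻¹) * (m * y * m⁻¹) := by group
      rw [this]; exact Subgroup.mul_mem _ hx hy
    | inv x _ hx =>
      have : m * x⁻¹ * m⁻¹ = (m * x * m⁻¹)⁻¹ := by group
      rw [this]; exact Subgroup.inv_mem _ hx
  intro m hm
  rw [Subgroup.mem_normalizer_iff]
  intro y
  constructor
  · exact key m hm y
  · intro hy
    have := key m⁻¹ (Subgroup.inv_mem _ hm) _ hy
    have h2 : m⁻¹ * (m * y * m⁻¹) * m⁻¹⁻¹ = y := by group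
    rwa [h2] at this

end Cfsg.Agent.H1.PrimPair
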