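import Mathlib
import Cfsg.Prelude.Def_Local
import Cfsg.Agent.H1.Cores
import Cfsg.Agent.H1.PrimPairA
import Cfsg.Agent.H1.PrimPairB
import Cfsg.Agent.H2.Layer
import Cfsg.Agent.H2.Components
import Cfsg.Agent.H2.LocalFStar
import Cfsg.Agent.H2.LocalFStar2
import Cfsg.Agent.H2.CharP
import Cfsg.Agent.H2.Equivariant

set_option autoImplicit false
open scoped commutatorElement Pointwise

namespace Cfsg.Agent.H1.PrimPair

variable {G : Type*} [Group G]

/-- restricting a relative component to an intermediate subgroup -/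
theorem component_subgroupOf_of_le {K D M : Subgroup G} (hKD : K ≤ D) (hDM : D ≤ M)
    (hK : Cfsg.IsComponent (K.subgroupOf M)) : Cfsg.IsComponent (K.subgroupOf D) := by
  have hL : (K.subgroupOf M) ≤ D.subgroupOf M := by
    intro x hx
    exact Subgroup.mem_subgroupOf.2 (hKD (Subgroup.mem_subgroupOf.1 hx))
  have h1 := Cfsg.Agent.H2.component_subgroupOf hK hL
  have h2 := Cfsg.Agent.H2.component_map_equiv (Subgroup.subgroupOfEquivOfLe hDM) h1
  have h3 : ((K.subgroupOf M).subgroupOf (D.subgroupOf M)).map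
      (Subgroup.subgroupOfEquivOfLe hDM).toMonoidHom = K.subgroupOf D := by
    ext x
    constructor
    · rintro ⟨y, hy, rfl⟩
      exact hy
    · intro hx
      refine ⟨(Subgroup.subgroupOfEquivOfLe hDM).symm x, ?_, by simp⟩
      exact hx
  rwa [h3] at h2

/-- every component of `M₁` lies in `E(M₂)` -/
theorem LS_le_LS [Finite G] (M₁ M₂ : Subgroup G) (h₁ : FS M₁ ≤ M₂) (h₂ : FS M₂ ≤ M₁) :
    LS M₁ ≤ LS M₂ := by
  unfold LS
  rw [Subgroup.map_le_iff_le_comap]
  apply Cfsg.Agent.H2.layer_le_iff.2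
  intro K hK
  set K' : Subgroup G := K.map M₁.subtype with hK'
  suffices hsuff : K' ≤ (Cfsg.layer ↥M₂).map M₂.subtype by
    intro x hx
    exact hsuff (Subgroup.mem_map_of_mem M₁.subtype hx)
  have hK'M₁ : K' ≤ M₁ := Cfsg.Agent.H2.map_subtype_le _ _
  have hK'F : K' ≤ FS M₁ := Subgroup.map_mono
    ((Cfsg.Agent.H2.component_le_layer hK).trans Cfsg.Agent.H2.layer_le_generalizedFittingSubgroup)
  have hK'M₂ : K' ≤ M₂ := hK'F.trans h₁
  set D : Subgroup G := M₁ ⊓ M₂ with hD
  have hK'D : K' ≤ D := le_inf hK'M₁ hK'M₂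
  have hsub : K'.subgroupOf M₁ = K := by
    rw [hK']
    exact Subgroup.comap_map_eq_self_of_injective M₁.subtype_injective K
  have hc1 : Cfsg.IsComponent (K'.subgroupOf M₁) := by rw [hsub]; exact hK
  have hcD : Cfsg.IsComponent (K'.subgroupOf D) := component_subgroupOf_of_le hK'D inf_le_left hc1
  have hqs : Cfsg.IsQuasisimple ↥K' :=
    (Cfsg.Agent.H2.isQuasisimple_map_of_injective _ M₁.subtype_injective K).2 hK.2
  have hFD : FS M₂ ≤ D := le_inf h₂ (FS_le M₂)
  have hNn : ((FS M₂).subgroupOf D).Normal :=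
    (Subgroup.normal_subgroupOf_iff_le_normalizer hFD).2 (inf_le_right.trans (le_normalizer_FS M₂))
  rcases Cfsg.Agent.H2.component_le_or_commutator_eq_bot _ _ hcD hNn.isSubnormal with hle | hcomm
  · -- K' ≤ F*(M₂)
    have hK'FS : K' ≤ FS M₂ := by
      intro x hx
      exact Subgroup.mem_subgroupOf.1 (hle (show (⟨x, hK'D hx⟩ : ↥D) ∈ K'.subgroupOf D from
        Subgroup.mem_subgroupOf.2 hx))
    set Fs := Cfsg.generalizedFittingSubgroup ↥M₂ with hFs
    have hrange : ∀ x : ↥Fs, ((x : ↥M₂) : G) ∈ D := by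
      intro x
      exact hFD (Subgroup.mem_map_of_mem M₂.subtype x.2)
    let f : ↥Fs →* ↥D := ((M₂.subtype).comp Fs.subtype).codRestrict D hrange
    have hcomap : (K'.subgroupOf D).comap f = (K'.subgroupOf M₂).subgroupOf Fs := by
      ext x
      simp only [Subgroup.mem_comap, Subgroup.mem_subgroupOf]
      rfl
    have hsn1 : ((K'.subgroupOf M₂).subgroupOf Fs).IsSubnormal := by
      rw [← hcomap]; exact hcD.1.comap f
    have hle2 : K'.subgroupOf M₂ ≤ Fs := by
      intro x hx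
      have : (x : G) ∈ FS M₂ := hK'FS (Subgroup.mem_subgroupOf.1 hx)
      obtain ⟨y, hy, hyx⟩ := this
      have : y = x := Subtype.ext hyx
      rwa [← this]
    have hFsn : Fs.IsSubnormal :=
      (inferInstance : (Cfsg.generalizedFittingSubgroup ↥M₂).Normal).isSubnormal
    have hsn2 : (K'.subgroupOf M₂).IsSubnormal := Subgroup.IsSubnormal.trans hle2 hsn1 hFsn
    have hc2 : Cfsg.IsComponent (K'.subgroupOf M₂) :=
      ⟨hsn2, (Cfsg.Agent.H2.isQuasisimple_subgroupOf hK'M₂).2 hqs⟩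
    have := Subgroup.map_mono (f := M₂.subtype) (Cfsg.Agent.H2.component_le_layer hc2)
    rwa [Subgroup.map_subgroupOf_eq_of_le hK'M₂] at this
  · -- K' centralizes F*(M₂): impossible
    exfalso
    have hcomm' : ⁅K', FS M₂⁆ = ⊥ :=
      (Cfsg.Agent.H2.commutator_subgroupOf_eq_bot_iff hK'D hFD).1 hcomm
    have hcent : K' ≤ Subgroup.centralizer ((FS M₂ : Subgroup G) : Set G) :=
      Subgroup.commutator_eq_bot_iff_le_centralizer.1 hcomm'
    have hK'FS : K' ≤ FS M₂ := fun x hx => mem_FS_of_centralizes M₂ x (hK'M₂ hx) (hcent hx)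
    have hab : ⁅K', K'⁆ = ⊥ := by
      rw [eq_bot_iff, ← hcomm']
      exact Subgroup.commutator_mono le_rfl hK'FS
    rw [Cfsg.Agent.H2.quasisimple_commutator_eq hqs] at hab
    exact Cfsg.Agent.H2.quasisimple_ne_bot hqs hab

end Cfsg.Agent.H1.PrimPair
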