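import Mathlib
import Cfsg.Prelude.Def_Local
import Cfsg.Agent.H1.Cores
import Cfsg.Agent.H1.PrimPairA
import Cfsg.Agent.H1.PrimPairB
import Cfsg.Agent.H1.PrimPairC
import Cfsg.Agent.H2.Layer
import Cfsg.Agent.H2.Components
import Cfsg.Agent.H2.LocalFStar
import Cfsg.Agent.H2.LocalFStar2
import Cfsg.Agent.H2.CharP
import Cfsg.Agent.H2.Equivariant

set_option autoImplicit false
open scoped commutatorElement Pointwise

namespace Cfsg.Agent.H1.PrimPair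

variable {G : Type*} [Group G]

/-- the primitive pair hypothesis, as in the statements -/
def Prim (M₁ M₂ : Subgroup G) : Prop :=
  ∀ A : Subgroup G, A ≠ ⊥ → A ≤ M₁ ⊓ M₂ →
    (M₁ ≤ Subgroup.normalizer (A : Set G) → M₂ ⊓ Subgroup.normalizer (A : Set G) = M₁ ⊓ M₂) ∧
    (M₂ ≤ Subgroup.normalizer (A : Set G) → M₁ ⊓ Subgroup.normalizer (A : Set G) = M₁ ⊓ M₂)

theorem Prim.symm {M₁ M₂ : Subgroup G} (h : Prim M₁ M₂) : Prim M₂ M₁ := by
  intro A hA hle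
  have := h A hA (by rwa [inf_comm])
  rw [inf_comm M₂ M₁]
  exact ⟨this.2, this.1⟩

theorem Prim.contra {M₁ M₂ : Subgroup G} (h : Prim M₁ M₂) (hne : M₁ ≠ M₂) (A : Subgroup G)
    (hA : A ≠ ⊥) (hle : A ≤ M₁ ⊓ M₂) (h1 : M₁ ≤ Subgroup.normalizer (A : Set G))
    (h2 : M₂ ≤ Subgroup.normalizer (A : Set G)) : False := by
  obtain ⟨ha, hb⟩ := h A hA hle
  have e1 := ha h1
  have e2 := hb h2
  rw [inf_eq_left.2 h2] at e1
  rw [inf_eq_left.2 h1] at e2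
  apply hne
  apply le_antisymm
  · rw [e2]; exact inf_le_right
  · rw [e1]; exact inf_le_left

/-- elements of `M₁` centralizing a nontrivial `A ⊴ M₂` inside `M₁ ∩ M₂` lie in `M₂` -/
theorem Prim.mem_of_centralizes {M₁ M₂ : Subgroup G} (h : Prim M₁ M₂) (A : Subgroup G)
    (hA : A ≠ ⊥) (hle : A ≤ M₁ ⊓ M₂) (h2 : M₂ ≤ Subgroup.normalizer (A : Set G))
    (x : G) (hx : x ∈ M₁) (hxc : x ∈ Subgroup.centralizer (A : Set G)) : x ∈ M₂ := by
  have e := (h A hA hle).2 h2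
  have : x ∈ M₁ ⊓ Subgroup.normalizer (A : Set G) :=
    ⟨hx, Subgroup.centralizer_le_normalizer _ hxc⟩
  rw [e] at this
  exact this.2

theorem layer_eq_bot_of_prim [Finite G] {M₁ M₂ : Subgroup G} (hne : M₁ ≠ M₂) (hP : Prim M₁ M₂)
    (h₁ : FS M₁ ≤ M₂) (h₂ : FS M₂ ≤ M₁) : Cfsg.layer ↥M₁ = ⊥ := by
  by_contra hE
  have heq : LS M₁ = LS M₂ := le_antisymm (LS_le_LS M₁ M₂ h₁ h₂) (LS_le_LS M₂ M₁ h₂ h₁)
  have hne' : LS M₁ ≠ ⊥ := by
    intro h
    apply hE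
    exact (Subgroup.map_eq_bot_iff_of_injective _ M₁.subtype_injective).1 h
  refine hP.contra hne (LS M₁) hne' (le_inf (LS_le M₁) ((LS_le_FS M₁).trans h₁))
    (le_normalizer_LS M₁) ?_
  rw [heq]; exact le_normalizer_LS M₂

theorem eq_bot_of_FS_eq_bot [Finite G] (M : Subgroup G) (h : FS M = ⊥) : M = ⊥ := by
  rw [eq_bot_iff]
  intro x hx
  have : x ∈ FS M := by
    apply mem_FS_of_centralizes M x hx
    rw [h]
    simp [Subgroup.mem_centralizer_iff]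
  rwa [h] at this

/-- `O_p(M₁)` and `F(M₂) ∩ O_{p'}(M₂)` commute -/
theorem PG_VG_commute [Finite G] (p : ℕ) [Fact p.Prime] (M₁ M₂ : Subgroup G)
    (h₁ : FS M₁ ≤ M₂) (h₂ : FS M₂ ≤ M₁) :
    ∀ x ∈ PG p M₁, ∀ y ∈ VG p M₂, x * y = y * x := by
  have hd : PG p M₁ ⊓ VG p M₂ = ⊥ := by
    rw [eq_bot_iff]
    intro x hx
    rw [Subgroup.mem_bot]
    apply Cfsg.Agent.H2.eq_one_of_isPGroup_of_coprime (PG_isPGroup p M₁) hx.1
    have : orderOf x ∣ Nat.card (VG p M₂) := by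
      have := orderOf_dvd_natCard (⟨x, hx.2⟩ : ↥(VG p M₂))
      rwa [Subgroup.orderOf_mk] at this
    exact Nat.Coprime.coprime_dvd_left this (VG_coprime p M₂)
  have h := Cfsg.Agent.H2.commutator_eq_bot_of_disjoint
    (A := PG p M₁) (B := VG p M₂)
    (((PG_le_FS p M₁).trans h₁).trans (le_normalizer_VG p M₂))
    (((VG_le_FS p M₂).trans h₂).trans (le_normalizer_PG p M₁)) hd
  exact (Cfsg.Agent.H2.commutator_eq_bot_iff_forall_commute _ _).1 h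

end Cfsg.Agent.H1.PrimPair
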