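import Mathlib
import Cfsg.Prelude.Def_Local
import Cfsg.Agent.H1.Cores
import Cfsg.Agent.H1.PrimPairA
import Cfsg.Agent.H1.PrimPairB
import Cfsg.Agent.H1.PrimPairC
import Cfsg.Agent.H1.PrimPairD
import Cfsg.Agent.H2.Layer
import Cfsg.Agent.H2.Components
import Cfsg.Agent.H2.LocalFStar
import Cfsg.Agent.H2.LocalFStar2
import Cfsg.Agent.H2.CharP
import Cfsg.Agent.H2.Equivariant

set_option autoImplicit false
open scoped commutatorElement Pointwise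

namespace Cfsg.Agent.H1.PrimPair

variable {G : Type*} [Group G]

theorem PG_inf_VG [Finite G] (p : ℕ) [Fact p.Prime] (M₁ M₂ : Subgroup G) :
    PG p M₁ ⊓ VG p M₂ = ⊥ := by
  rw [eq_bot_iff]
  intro x hx
  rw [Subgroup.mem_bot]
  apply Cfsg.Agent.H2.eq_one_of_isPGroup_of_coprime (PG_isPGroup p M₁) hx.1
  have : orderOf x ∣ Nat.card (VG p M₂) := by
    have := orderOf_dvd_natCard (⟨x, hx.2⟩ : ↥(VG p M₂))
    rwa [Subgroup.orderOf_mk] at this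
  exact Nat.Coprime.coprime_dvd_left this (VG_coprime p M₂)

theorem pCore_eq_bot_of_VG [Finite G] (p : ℕ) [hp : Fact p.Prime] (M : Subgroup G)
    (hV : VG p M = ⊥) : ∀ q : ℕ, q.Prime → q ≠ p → Cfsg.pCore q ↥M = ⊥ := by
  intro q hq hqp
  have hV' : Cfsg.fittingSubgroup ↥M ⊓ Cfsg.pPrimeCore p ↥M = ⊥ :=
    (Subgroup.map_eq_bot_iff_of_injective _ M.subtype_injective).1 hV
  rw [eq_bot_iff, ← hV']
  haveI := Fact.mk hq
  refine le_inf ?_ ?_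
  · exact Cfsg.Agent.H1.le_fittingSubgroup (Cfsg.Agent.H1.pCore_normal q)
      (Cfsg.Agent.H1.pCore_isPGroup (G := ↥M) q).isNilpotent
  · exact Cfsg.Agent.H1.le_pPrimeCore (Cfsg.Agent.H1.pCore_normal _)
      (Cfsg.Agent.H1.pCore_coprime_of_ne hp.out hq hqp)

theorem isCharP_of_VG [Finite G] (p : ℕ) [hp : Fact p.Prime] (M : Subgroup G)
    (hE : Cfsg.layer ↥M = ⊥) (hV : VG p M = ⊥) : Cfsg.Agent.H2.IsCharP p ↥M :=
  (Cfsg.Agent.H2.isCharP_iff p).2 ⟨hE, pCore_eq_bot_of_VG p M hV⟩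

theorem VG_eq_bot_of [Finite G] (p : ℕ) [hp : Fact p.Prime] (M N : Subgroup G)
    (hMN : FS M ≤ N) (hNM : FS N ≤ M) (hE : Cfsg.layer ↥M = ⊥) (hV : VG p M = ⊥) :
    VG p N = ⊥ := by
  have hFS : FS M = PG p M := by
    unfold FS PG
    rw [Cfsg.Agent.H2.generalizedFittingSubgroup_eq_pCore_of_forall p hE
      (pCore_eq_bot_of_VG p M hV)]
  rw [eq_bot_iff, ← PG_inf_VG p M N]
  intro x hx
  refine ⟨?_, hx⟩
  rw [← hFS]
  apply mem_FS_of_centralizes M x (hNM (VG_le_FS p N hx))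
  rw [hFS, Subgroup.mem_centralizer_iff]
  intro y hy
  exact PG_VG_commute p M N hMN hNM y hy x hx

/-- the set of `p`-elements of `M` centralizing `F(M) ∩ O_{p'}(M)` -/
def SP (p : ℕ) (M : Subgroup G) : Set G :=
  {g | g ∈ M ∧ (∃ k : ℕ, g ^ (p ^ k) = 1) ∧ g ∈ Subgroup.centralizer ((VG p M : Subgroup G) : Set G)}

theorem SP_conj [Finite G] (p : ℕ) (M : Subgroup G) :
    ∀ m ∈ M, ∀ s ∈ SP p M, m * s * m⁻¹ ∈ SP p M := by
  rintro m hm s ⟨hsM, ⟨k, hk⟩, hsc⟩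
  refine ⟨Subgroup.mul_mem _ (Subgroup.mul_mem _ hm hsM) (Subgroup.inv_mem _ hm), ⟨k, ?_⟩, ?_⟩
  · rw [conj_pow, hk]; group
  · have h1 := Cfsg.Agent.H2.normalizer_le_normalizer_centralizer' (VG p M) (le_normalizer_VG p M hm)
    exact (Subgroup.mem_normalizer_iff.1 h1 s).1 hsc

theorem SP_subset [Finite G] (p : ℕ) [hp : Fact p.Prime] (M N : Subgroup G) (hprim : Prim M N)
    (hMN : FS M ≤ N) (hNM : FS N ≤ M) (hE : Cfsg.layer ↥M = ⊥) (hV : VG p N ≠ ⊥) :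
    SP p M ⊆ SP p N := by
  rintro g ⟨hgM, ⟨k, hk⟩, hgc⟩
  have hgc' : g ∈ Subgroup.centralizer ((VG p N : Subgroup G) : Set G) := by
    rw [Subgroup.mem_centralizer_iff]
    intro v hv
    have hvM : v ∈ M := hNM (VG_le_FS p N hv)
    have hvc : v ∈ Subgroup.centralizer ((PG p M : Subgroup G) : Set G) := by
      rw [Subgroup.mem_centralizer_iff]
      intro y hy
      exact PG_VG_commute p M N hMN hNM y hy v hv
    have hvn : v ^ Nat.card (VG p N) = 1 := by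
      have h0 := pow_card_eq_one' (G := ↥(VG p N)) (x := ⟨v, hv⟩)
      have h1 := congrArg Subtype.val h0
      rwa [Subgroup.coe_pow] at h1
    exact (commuteG p M hE g hgM hgc k hk v hvM hvc _ (VG_coprime p N) hvn).symm
  refine ⟨?_, ⟨k, hk⟩, hgc'⟩
  exact hprim.mem_of_centralizes (VG p N) hV (le_inf ((VG_le_FS p N).trans hNM) (VG_le p N))
    (le_normalizer_VG p N) g hgM hgc'

theorem PG_subset_SP [Finite G] (p : ℕ) [hp : Fact p.Prime] (M : Subgroup G) :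
    ((PG p M : Subgroup G) : Set G) ⊆ SP p M := by
  intro x hx
  refine ⟨PG_le p M hx, ?_, ?_⟩
  · obtain ⟨k, hk⟩ := PG_isPGroup p M ⟨x, hx⟩
    exact ⟨k, by simpa using congrArg Subtype.val hk⟩
  · rw [Subgroup.mem_centralizer_iff]
    intro y hy
    exact (PG_VG_commute p M M (FS_le M) (FS_le M) x hx y hy).symm

theorem main [Finite G] (M₁ M₂ : Subgroup G) (hne : M₁ ≠ M₂) (hP : Prim M₁ M₂)
    (h₁ : FS M₁ ≤ M₂) (h₂ : FS M₂ ≤ M₁) :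
    ∃ p : ℕ, p.Prime ∧
      Subgroup.centralizer (Cfsg.pCore p ↥M₁ : Set ↥M₁) ≤ Cfsg.pCore p ↥M₁ ∧
      Subgroup.centralizer (Cfsg.pCore p ↥M₂ : Set ↥M₂) ≤ Cfsg.pCore p ↥M₂ ∧
      PG p M₁ ⊔ PG p M₂ ≤ M₁ ⊓ M₂ := by
  have hE₁ := layer_eq_bot_of_prim hne hP h₁ h₂
  have hE₂ := layer_eq_bot_of_prim hne.symm hP.symm h₂ h₁
  -- a prime with O_p(M₁) ≠ 1
  have hex : ∃ p : ℕ, p.Prime ∧ Cfsg.pCore p ↥M₁ ≠ ⊥ := by
    by_contra hall
    push Not at hall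
    have hF : Cfsg.fittingSubgroup ↥M₁ = ⊥ := by
      rw [Cfsg.Agent.H1.fittingSubgroup_eq_iSup_pCore, eq_bot_iff]
      apply iSup_le
      intro q
      rw [hall q q.2]
    have hFS1 : FS M₁ = ⊥ := by
      unfold FS Cfsg.generalizedFittingSubgroup
      rw [hE₁, hF, bot_sup_eq, Subgroup.map_bot]
    have hM1 : M₁ = ⊥ := eq_bot_of_FS_eq_bot M₁ hFS1
    have hFS2 : FS M₂ = ⊥ := by
      rw [eq_bot_iff, ← hM1]; exact h₂
    have hM2 : M₂ = ⊥ := eq_bot_of_FS_eq_bot M₂ hFS2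
    exact hne (hM1.trans hM2.symm)
  obtain ⟨p, hp, hP₁⟩ := hex
  haveI : Fact p.Prime := ⟨hp⟩
  have hconcl : VG p M₁ = ⊥ → VG p M₂ = ⊥ → _ := fun hV₁ hV₂ =>
    (⟨p, hp, (isCharP_of_VG p M₁ hE₁ hV₁).centralizer_pCore_le p,
      (isCharP_of_VG p M₂ hE₂ hV₂).centralizer_pCore_le p,
      sup_le (le_inf (PG_le p M₁) ((PG_le_FS p M₁).trans h₁))
        (le_inf ((PG_le_FS p M₂).trans h₂) (PG_le p M₂))⟩ : ∃ p : ℕ, p.Prime ∧
      Subgroup.centralizer (Cfsg.pCore p ↥M₁ : Set ↥M₁) ≤ Cfsg.pCore p ↥M₁ ∧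
      Subgroup.centralizer (Cfsg.pCore p ↥M₂ : Set ↥M₂) ≤ Cfsg.pCore p ↥M₂ ∧
      PG p M₁ ⊔ PG p M₂ ≤ M₁ ⊓ M₂)
  by_cases hV₁ : VG p M₁ = ⊥
  · exact hconcl hV₁ (VG_eq_bot_of p M₁ M₂ h₁ h₂ hE₁ hV₁)
  by_cases hV₂ : VG p M₂ = ⊥
  · exact hconcl (VG_eq_bot_of p M₂ M₁ h₂ h₁ hE₂ hV₂) hV₂
  exfalso
  have hS12 : SP p M₁ ⊆ SP p M₂ := SP_subset p M₁ M₂ hP h₁ h₂ hE₁ hV₂
  have hS21 : SP p M₂ ⊆ SP p M₁ := SP_subset p M₂ M₁ hP.symm h₂ h₁ hE₂ hV₁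
  have hSeq : SP p M₁ = SP p M₂ := Set.Subset.antisymm hS12 hS21
  set Y : Subgroup G := Subgroup.closure (SP p M₁) with hY
  have hYne : Y ≠ ⊥ := by
    intro hbot
    apply hP₁
    have : PG p M₁ ≤ Y := by
      rw [hY, ← Subgroup.closure_eq (PG p M₁)]
      exact Subgroup.closure_mono (PG_subset_SP p M₁)
    rw [hbot, le_bot_iff] at this
    exact (Subgroup.map_eq_bot_iff_of_injective _ M₁.subtype_injective).1 this
  have hYle : Y ≤ M₁ ⊓ M₂ := by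
    rw [hY, Subgroup.closure_le]
    intro g hg
    exact ⟨hg.1, (hS12 hg).1⟩
  refine hP.contra hne Y hYne hYle (le_normalizer_closure M₁ _ (SP_conj p M₁)) ?_
  rw [hY, hSeq]
  exact le_normalizer_closure M₂ _ (SP_conj p M₂)

end Cfsg.Agent.H1.PrimPair
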