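import Mathlib
import Cfsg.Agent.H1.Basic
import Cfsg.Agent.H1.Cores

/-! Reduction to elements of prime power order (helper1). -/

namespace Cfsg.Agent.H1

/-- if all prime-power-order powers of `k` commute with `x`, so does `k` -/
lemma commute_of_primePow_powers {G : Type*} [Group G] [Finite G] (k x : G)
    (h : ∀ j : ℤ, (∃ q b : ℕ, q.Prime ∧ orderOf (k ^ j) = q ^ b) → Commute (k ^ j) x) : Commute k x := by
  have htop : (Subgroup.centralizer ({x} : Set G)).subgroupOf (Subgroup.zpowers k) = ⊤ := by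
    apply eq_top_of_forall_sylow_le
    intro q hq
    obtain ⟨Q⟩ : Nonempty (Sylow q (Subgroup.zpowers k)) := inferInstance
    refine ⟨Q, ?_⟩
    intro y hy
    rw [Subgroup.mem_subgroupOf, mem_centralizer_singleton_iff]
    obtain ⟨j, hj⟩ := Subgroup.mem_zpowers_iff.mp y.2
    obtain ⟨b, hb⟩ := Q.isPGroup' ⟨y, hy⟩
    have hyb : (y : G) ^ q ^ b = 1 := by
      have := congrArg (fun z : Q => ((z : Subgroup.zpowers k) : G)) hb
      simpa using this
    have hord : ∃ c, orderOf (y : G) = q ^ c := by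
      obtain ⟨c, _, hc⟩ := (Nat.dvd_prime_pow hq.out).mp (orderOf_dvd_of_pow_eq_one hyb)
      exact ⟨c, hc⟩
    obtain ⟨c, hc⟩ := hord
    rw [← hj] at hc ⊢
    exact (h j ⟨q, c, hq.out, hc⟩).eq
  have hk : (⟨k, Subgroup.mem_zpowers k⟩ : Subgroup.zpowers k) ∈
      (Subgroup.centralizer ({x} : Set G)).subgroupOf (Subgroup.zpowers k) := by
    rw [htop]; exact Subgroup.mem_top _
  rw [Subgroup.mem_subgroupOf, mem_centralizer_singleton_iff] at hk
  exact hk

end Cfsg.Agent.H1
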