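import Mathlib
import Cfsg.Agent.H1.Basic
import Cfsg.Agent.H1.FrattiniExtra
import Cfsg.Agent.S0043

set_option autoImplicit false

namespace Cfsg.Agent.H1

universe u

/-- a `p`-subgroup is conjugate into any subgroup of index prime to `p` -/
lemma exists_conj_mem_of_pgroup_of_not_dvd_index {X : Type*} [Group X] [Finite X] {p : ℕ} [Fact p.Prime]
    (N0 H : Subgroup X) (hN0 : IsPGroup p N0) (hp : ¬ p ∣ H.index) :
    ∃ x : X, ∀ n ∈ N0, x⁻¹ * n * x ∈ H := by
  have hfix := hN0.nonempty_fixed_point_of_prime_not_dvd_card (X ⧸ H) hp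
  obtain ⟨c, hc⟩ := hfix
  obtain ⟨x, rfl⟩ := QuotientGroup.mk_surjective c
  refine ⟨x, ?_⟩
  intro n hn
  have h1 := hc ⟨n, hn⟩
  have h2 : ((n * x : X) : X ⧸ H) = (x : X ⧸ H) := h1
  rw [QuotientGroup.eq] at h2
  have h3 := H.inv_mem h2
  have e : ((n * x)⁻¹ * x)⁻¹ = x⁻¹ * n * x := by group
  rwa [e] at h3

/-- Lemma A -/
lemma map_le_normalCore_of_factorization {X : Type*} [Group X] [Finite X] {p : ℕ} [Fact p.Prime]
    (H1 H : Subgroup X) (hfac : ∀ g : X, ∃ x ∈ H1, ∃ y ∈ H, g = x * y)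
    (N : Subgroup H1) [hNn : N.Normal] (hNp : IsPGroup p N) (hp : ¬ p ∣ H.index) :
    N.map H1.subtype ≤ H.normalCore := by
  have hN0p : IsPGroup p (N.map H1.subtype) := hNp.map _
  obtain ⟨x, hx⟩ := exists_conj_mem_of_pgroup_of_not_dvd_index (N.map H1.subtype) H hN0p hp
  -- N0 is normalized by H1
  have hnorm : ∀ h1 ∈ H1, ∀ n ∈ N.map H1.subtype, h1 * n * h1⁻¹ ∈ N.map H1.subtype := by
    rintro h1 hh1 _ ⟨n, hn, rfl⟩
    exact ⟨⟨h1, hh1⟩ * n * ⟨h1, hh1⟩⁻¹, hNn.conj_mem n hn _, rfl⟩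
  have hle : N.map H1.subtype ≤ H := by
    intro n hn
    obtain ⟨h1, hh1, h, hh, hxe⟩ := hfac x
    have h2 := hx (h1 * n * h1⁻¹) (hnorm h1 hh1 n hn)
    rw [hxe] at h2
    have e : (h1 * h)⁻¹ * (h1 * n * h1⁻¹) * (h1 * h) = h⁻¹ * n * h := by group
    rw [e] at h2
    have := H.mul_mem (H.mul_mem hh h2) (H.inv_mem hh)
    have e2 : h * (h⁻¹ * n * h) * h⁻¹ = n := by group
    rwa [e2] at this
  intro n hn b
  obtain ⟨h1, hh1, h, hh, hbe⟩ := hfac b⁻¹
  have hb : b = h⁻¹ * h1⁻¹ := by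
    rw [← inv_inv b, hbe]; group
  have h3 : h1⁻¹ * n * h1 ∈ N.map H1.subtype := by
    have := hnorm h1⁻¹ (H1.inv_mem hh1) n hn
    rwa [inv_inv] at this
  have h4 := hle h3
  have := H.mul_mem (H.mul_mem (H.inv_mem hh) h4) hh
  have e : b * n * b⁻¹ = h⁻¹ * (h1⁻¹ * n * h1) * h := by rw [hb]; group
  rw [e]; exact this

theorem three_solvable_aux : ∀ n : ℕ, ∀ (X : Type u) [Group X] [Finite X], Nat.card X = n →
    ∀ (H₁ H₂ H₃ : Subgroup X), Group.IsSolvable H₁ → Group.IsSolvable H₂ → Group.IsSolvable H₃ →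
    (∀ g : X, ∃ x ∈ H₁, ∃ y ∈ H₂, g = x * y) → (∀ g : X, ∃ x ∈ H₁, ∃ y ∈ H₃, g = x * y) →
    H₂.index.Coprime H₃.index → Group.IsSolvable X := by
  intro n
  induction n using Nat.strong_induction_on with
  | _ n ih =>
    intro X _ _ hn H₁ H₂ H₃ h₁ h₂ h₃ h12 h13 hcop
    by_cases hH1bot : H₁ = ⊥
    · have hsurj : Function.Surjective H₂.subtype := by
        intro g
        obtain ⟨x, hx, y, hy, rfl⟩ := h12 g
        rw [hH1bot, Subgroup.mem_bot] at hx
        exact ⟨⟨y, hy⟩, by simp [hx]⟩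
      exact Group.isSolvable_of_surjective hsurj
    have htopne : (⊤ : Subgroup H₁) ≠ ⊥ := by
      intro h
      apply hH1bot
      rw [← Subgroup.subgroupOf_self, Subgroup.subgroupOf_eq_bot, disjoint_self] at h
      exact h
    obtain ⟨N, hNn, hNbot, -, hNmin⟩ := exists_minimal_normal_le (⊤ : Subgroup H₁) htopne
    obtain ⟨-, p, hp, hNexp⟩ := Cfsg.Agent.S0043.result N hNbot (fun M hM hMN => hNmin M hM hMN)
    haveI : Fact p.Prime := ⟨hp⟩
    have hNp : IsPGroup p N := by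
      intro x
      refine ⟨1, ?_⟩
      rw [pow_one]
      exact Subtype.ext (hNexp x x.2)
    -- key: a nontrivial normal solvable subgroup M
    have key : ∃ M : Subgroup X, M.Normal ∧ M ≠ ⊥ ∧ Group.IsSolvable M := by
      have hdich : ¬ p ∣ H₂.index ∨ ¬ p ∣ H₃.index := by
        by_contra hcon
        rw [not_or, not_not, not_not] at hcon
        exact hp.one_lt.ne' (Nat.eq_one_of_dvd_coprimes hcop hcon.1 hcon.2)
      have hgen : ∀ H : Subgroup X, Group.IsSolvable H → (∀ g : X, ∃ x ∈ H₁, ∃ y ∈ H, g = x * y) →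
          ¬ p ∣ H.index → ∃ M : Subgroup X, M.Normal ∧ M ≠ ⊥ ∧ Group.IsSolvable M := by
        intro H hHs hfac hpH
        have hle := map_le_normalCore_of_factorization H₁ H hfac N hNp hpH
        refine ⟨H.normalCore, inferInstance, ?_, ?_⟩
        · intro h
          rw [h, le_bot_iff, Subgroup.map_eq_bot_iff_of_injective _ H₁.subtype_injective] at hle
          exact hNbot hle
        · exact Group.isSolvable_of_isSolvable_injective (Subgroup.inclusion_injective (Subgroup.normalCore_le H))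
      rcases hdich with h | h
      · exact hgen H₂ h₂ h12 h
      · exact hgen H₃ h₃ h13 h
    obtain ⟨M, hMn, hMbot, s1⟩ := key
    have hQlt : Nat.card (X ⧸ M) < n := by
      rw [← hn, ← Subgroup.index_eq_card, ← Subgroup.card_mul_index M]
      have h1 : 1 < Nat.card M := by
        rw [Subgroup.one_lt_card_iff_ne_bot]; exact hMbot
      have h2 : 0 < M.index := Nat.pos_of_ne_zero Subgroup.index_ne_zero_of_finite
      nlinarith
    have hsolmap : ∀ H : Subgroup X, Group.IsSolvable H → Group.IsSolvable (H.map (QuotientGroup.mk' M)) := by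
      intro H hH
      exact Group.isSolvable_of_surjective ((QuotientGroup.mk' M).subgroupMap_surjective H)
    have hfacmap : ∀ H : Subgroup X, (∀ g : X, ∃ x ∈ H₁, ∃ y ∈ H, g = x * y) →
        ∀ g : X ⧸ M, ∃ x ∈ H₁.map (QuotientGroup.mk' M), ∃ y ∈ H.map (QuotientGroup.mk' M), g = x * y := by
      intro H hfac g
      obtain ⟨g, rfl⟩ := QuotientGroup.mk_surjective g
      obtain ⟨x, hx, y, hy, rfl⟩ := hfac g
      exact ⟨_, ⟨x, hx, rfl⟩, _, ⟨y, hy, rfl⟩, rfl⟩
    have s2 : Group.IsSolvable (X ⧸ M) := by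
      apply ih _ hQlt (X ⧸ M) rfl (H₁.map (QuotientGroup.mk' M)) (H₂.map (QuotientGroup.mk' M))
        (H₃.map (QuotientGroup.mk' M)) (hsolmap _ h₁) (hsolmap _ h₂) (hsolmap _ h₃) (hfacmap _ h12) (hfacmap _ h13)
      exact Nat.Coprime.coprime_dvd_left (Subgroup.index_map_dvd H₂ (QuotientGroup.mk'_surjective M))
        (Nat.Coprime.coprime_dvd_right (Subgroup.index_map_dvd H₃ (QuotientGroup.mk'_surjective M)) hcop)
    refine Group.isSolvable_of_ker_le_range M.subtype (QuotientGroup.mk' M) ?_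
    rw [QuotientGroup.ker_mk', Subgroup.range_subtype]


end Cfsg.Agent.H1
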