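import Mathlib
import Cfsg.Agent.H1.HallConverse
import Cfsg.Agent.H1.ThreeSolvable

set_option autoImplicit false
open scoped Pointwise commutatorElement

namespace Cfsg.Agent.H1

universe u

/-- subgroups of coprime indices factorize the group -/
lemma exists_mul_of_coprime_index {X : Type*} [Group X] [Finite X] (H K : Subgroup X)
    (h : H.index.Coprime K.index) (g : X) : ∃ x ∈ H, ∃ y ∈ K, g = x * y := by
  have hrel := relIndex_eq_index_of_coprime K H h.symm
  -- orbit of the base coset under H
  have hstab : MulAction.stabilizer H ((1 : X) : X ⧸ K) = K.subgroupOf H := by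
    ext x
    rw [MulAction.mem_stabilizer_iff, Subgroup.mem_subgroupOf]
    have : x • ((1 : X) : X ⧸ K) = (((x : X) * 1 : X) : X ⧸ K) := rfl
    rw [this, mul_one, QuotientGroup.eq]
    simp
  have hidx := MulAction.index_stabilizer H ((1 : X) : X ⧸ K)
  rw [hstab] at hidx
  have hcard : (MulAction.orbit H ((1 : X) : X ⧸ K)).ncard = Nat.card (X ⧸ K) := by
    rw [← hidx, ← Subgroup.index_eq_card]; exact hrel
  have huniv : MulAction.orbit H ((1 : X) : X ⧸ K) = Set.univ :=
    (Set.eq_univ_iff_ncard _).mpr hcard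
  have hg : ((g : X) : X ⧸ K) ∈ MulAction.orbit H ((1 : X) : X ⧸ K) := by rw [huniv]; trivial
  obtain ⟨x, hx⟩ := hg
  have hx' : (((x : X) * 1 : X) : X ⧸ K) = ((g : X) : X ⧸ K) := hx
  rw [mul_one, QuotientGroup.eq] at hx'
  exact ⟨x, x.2, (x : X)⁻¹ * g, hx', by group⟩

theorem solvable_of_prime_power_index_aux : ∀ n : ℕ, ∀ (G : Type u) [Group G] [Finite G], Nat.card G = n →
    (∀ H : Subgroup G, H ≠ ⊥ → ∀ p : ℕ, p.Prime → p ∣ Nat.card H →
      ∃ K : Subgroup H, K ≠ ⊤ ∧ ∃ k : ℕ, K.index = p ^ k) → Group.IsSolvable G := by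
  intro n
  induction n using Nat.strong_induction_on with
  | _ n ih =>
    intro G _ _ hn h
    by_cases htriv : Subsingleton G
    · infer_instance
    have hnt : Nontrivial G := not_subsingleton_iff_nontrivial.mp htriv
    have hn1 : 1 < Nat.card G := Finite.one_lt_card
    have htop : (⊤ : Subgroup G) ≠ ⊥ := top_ne_bot
    -- proper subgroups are solvable
    have hprop : ∀ L : Subgroup G, L ≠ ⊤ → Group.IsSolvable L := by
      intro L hL
      have hlt : Nat.card L < n := by
        rw [← hn]
        rcases (Subgroup.card_le_card_group L).lt_or_eq with h1 | h1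
        · exact h1
        · exact absurd (Subgroup.card_eq_iff_eq_top L |>.mp h1) hL
      apply ih _ hlt L rfl
      intro H hH p hp hpd
      -- transfer to G
      have hH' : H.map L.subtype ≠ ⊥ := by
        rw [Ne, Subgroup.map_eq_bot_iff_of_injective _ L.subtype_injective]; exact hH
      have hcard : Nat.card (H.map L.subtype) = Nat.card H := Subgroup.card_map_of_injective L.subtype_injective
      obtain ⟨K, hK, k, hk⟩ := h (H.map L.subtype) hH' p hp (by rw [hcard]; exact hpd)
      let e : H ≃* H.map L.subtype := H.equivMapOfInjective L.subtype L.subtype_injective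
      refine ⟨K.comap e.toMonoidHom, ?_, k, ?_⟩
      · intro h1
        apply hK
        have := congrArg (Subgroup.map e.toMonoidHom) h1
        rw [Subgroup.map_comap_eq_self_of_surjective e.surjective, ← MonoidHom.range_eq_map,
          MonoidHom.range_eq_top.mpr e.surjective] at this
        exact this
      · rw [Subgroup.index_comap_of_surjective _ e.surjective]; exact hk
    -- for each prime dividing |G|, a proper solvable subgroup of p-power index
    have hex : ∀ p : ℕ, p.Prime → p ∣ Nat.card G → ∃ L : Subgroup G, Group.IsSolvable L ∧ ∃ k : ℕ, L.index = p ^ k := by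
      intro p hp hpd
      obtain ⟨K, hK, k, hk⟩ := h ⊤ htop p hp (by rw [Subgroup.card_top]; exact hpd)
      refine ⟨K.map (⊤ : Subgroup G).subtype, ?_, k, ?_⟩
      · apply hprop
        intro h1
        apply hK
        rw [eq_top_iff]
        intro x _
        have : (x : G) ∈ K.map (⊤ : Subgroup G).subtype := by rw [h1]; trivial
        obtain ⟨y, hy, e⟩ := this
        have : y = x := Subtype.ext e
        rw [← this]; exact hy
      · rw [Subgroup.index_map_subtype, hk, Subgroup.index_top, mul_one]
    obtain ⟨p1, hp1, hp1n⟩ := Nat.exists_prime_and_dvd (by omega : Nat.card G ≠ 1)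
    by_cases h2 : ∃ p2 : ℕ, p2.Prime ∧ p2 ∣ Nat.card G ∧ p2 ≠ p1
    · obtain ⟨p2, hp2, hp2n, hp21⟩ := h2
      by_cases h3 : ∃ p3 : ℕ, p3.Prime ∧ p3 ∣ Nat.card G ∧ p3 ≠ p1 ∧ p3 ≠ p2
      · obtain ⟨p3, hp3, hp3n, hp31, hp32⟩ := h3
        obtain ⟨L1, s1, k1, hk1⟩ := hex p1 hp1 hp1n
        obtain ⟨L2, s2, k2, hk2⟩ := hex p2 hp2 hp2n
        obtain ⟨L3, s3, k3, hk3⟩ := hex p3 hp3 hp3n
        have c12 : L1.index.Coprime L2.index := by
          rw [hk1, hk2]; exact Nat.Coprime.pow _ _ ((Nat.coprime_primes hp1 hp2).mpr hp21.symm)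
        have c13 : L1.index.Coprime L3.index := by
          rw [hk1, hk3]; exact Nat.Coprime.pow _ _ ((Nat.coprime_primes hp1 hp3).mpr hp31.symm)
        have c23 : L2.index.Coprime L3.index := by
          rw [hk2, hk3]; exact Nat.Coprime.pow _ _ ((Nat.coprime_primes hp2 hp3).mpr hp32.symm)
        exact three_solvable_aux _ G rfl L1 L2 L3 s1 s2 s3 (exists_mul_of_coprime_index L1 L2 c12)
          (exists_mul_of_coprime_index L1 L3 c13) c23
      · have hab : ∃ a b : ℕ, Nat.card G = p1 ^ a * p2 ^ b := by
          apply exists_pow_mul_pow_of_prime_dvd (by omega) hp1 hp2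
          intro r hr hrn
          by_contra hcon
          rw [not_or] at hcon
          exact h3 ⟨r, hr, hrn, hcon.1, hcon.2⟩
        exact Cfsg.Agent.Lib.helper3.Burnside.isSolvable_of_card_eq p1 p2 hp1 hp2 _ G rfl hab
    · -- p-group
      have hcard : Nat.card G = p1 ^ (Nat.card G).primeFactorsList.length := by
        apply Nat.eq_prime_pow_of_unique_prime_dvd (by omega)
        intro d hd hdd
        by_contra hne
        exact h2 ⟨d, hd, hdd, hne⟩
      have : Fact p1.Prime := ⟨hp1⟩
      have hp : IsPGroup p1 G := IsPGroup.of_card hcard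
      have := hp.isNilpotent
      infer_instance

end Cfsg.Agent.H1

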