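import Mathlib

set_option autoImplicit false

namespace Cfsg.Agent.H1.PrincipalIdeal

open scoped commutatorElement

section Abstract

variable {G : Type*} [Group G] {R : Type*} [CommRing R] {N : Type*} [AddCommGroup N] [Module R N]

/-- crossed homomorphism w.r.t. a multiplicative character `X : G →* R`. -/
def IsCrossed (X : G →* R) (m : G → N) : Prop := ∀ g g', m (g * g') = m g + X g • m g'

namespace IsCrossed

variable {X : G →* R} {m : G → N}

theorem map_one (hm : IsCrossed X m) : m 1 = 0 := by
  have h := hm 1 1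
  rw [mul_one, _root_.map_one, one_smul] at h
  exact left_eq_add.mp h

theorem map_inv (hm : IsCrossed X m) (g : G) : m g⁻¹ = -(X g⁻¹ • m g) := by
  have h := hm g⁻¹ g
  rw [inv_mul_cancel, hm.map_one] at h
  exact eq_neg_of_add_eq_zero_left h.symm

theorem map_pow (hm : IsCrossed X m) (g : G) (k : ℕ) :
    m (g ^ k) = (∑ l ∈ Finset.range k, X g ^ l) • m g := by
  induction k with
  | zero => simp [hm.map_one]
  | succ k ih => rw [pow_succ, hm, ih, Finset.sum_range_succ, add_smul, _root_.map_pow]

theorem X_commutator (X : G →* R) (u v : G) : X ⁅u, v⁆ = 1 := by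
  rw [commutatorElement_def, map_mul, map_mul, map_mul]
  have h1 : X u * X u⁻¹ = 1 := by rw [← map_mul, mul_inv_cancel, _root_.map_one]
  have h2 : X v * X v⁻¹ = 1 := by rw [← map_mul, mul_inv_cancel, _root_.map_one]
  calc X u * X v * X u⁻¹ * X v⁻¹ = (X u * X u⁻¹) * (X v * X v⁻¹) := by ring
  _ = 1 := by rw [h1, h2, mul_one]

theorem map_commutator (hm : IsCrossed X m) (u v : G) :
    m ⁅u, v⁆ = (X u - 1) • m v - (X v - 1) • m u := by
  have h1 : ⁅u, v⁆ * (v * u) = u * v := by
    rw [commutatorElement_def]; group
  have h2 := hm ⁅u, v⁆ (v * u)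
  rw [h1, X_commutator, one_smul, hm u v, hm v u] at h2
  rw [sub_smul, sub_smul, one_smul, one_smul]
  have : m ⁅u, v⁆ = m u + X u • m v - (m v + X v • m u) := eq_sub_of_add_eq h2.symm
  rw [this]; abel

/-- The elements mapped into a given submodule form a subgroup. -/
def subgroup (hm : IsCrossed X m) (S : Submodule R N) : Subgroup G where
  carrier := {g | m g ∈ S}
  one_mem' := by
    show m 1 ∈ S
    rw [hm.map_one]; exact S.zero_mem
  mul_mem' := fun {a b} ha hb => by
    show m (a * b) ∈ S
    rw [hm a b]; exact S.add_mem ha (S.smul_mem _ hb)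
  inv_mem' := fun {a} ha => by
    show m a⁻¹ ∈ S
    rw [hm.map_inv]; exact S.neg_mem (S.smul_mem _ ha)

theorem mem_subgroup (hm : IsCrossed X m) (S : Submodule R N) (g : G) :
    g ∈ hm.subgroup S ↔ m g ∈ S := Iff.rfl

end IsCrossed

theorem det_smul_eq_zero {J : Type*} [Fintype J] [DecidableEq J] (Λ : Matrix J J R) (v : J → N)
    (h : ∀ i, ∑ j, Λ i j • v j = 0) (j : J) : Λ.det • v j = 0 := by
  have h1 : Λ.adjugate * Λ = Λ.det • (1 : Matrix J J R) := Matrix.adjugate_mul Λ
  have h2 : ∑ k, (Λ.adjugate * Λ) j k • v k = 0 := by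
    simp only [Matrix.mul_apply, Finset.sum_smul, mul_smul]
    rw [Finset.sum_comm]
    apply Finset.sum_eq_zero
    intro i _
    rw [← Finset.smul_sum, h i, smul_zero]
  rw [h1] at h2
  simpa [Matrix.smul_apply, Matrix.one_apply, ite_smul] using h2

theorem exists_generators (Q : Type*) [CommGroup Q] [Finite Q] :
    ∃ (ι : Type) (_ : Fintype ι) (n : ι → ℕ) (x : ι → Q), (∀ i, x i ^ n i = 1) ∧
      Subgroup.closure (Set.range x) = ⊤ ∧ ∏ i, n i = Nat.card Q := by
  classical
  obtain ⟨ι, hι, n, hn, ⟨e⟩⟩ := CommGroup.equiv_prod_multiplicative_zmod_of_finite Q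
  refine ⟨ι, hι, n, fun i => e.symm (Pi.mulSingle i (Multiplicative.ofAdd 1)), ?_, ?_, ?_⟩
  · intro i
    rw [← _root_.map_pow, ← Pi.mulSingle_pow, ← ofAdd_nsmul, nsmul_one, ZMod.natCast_self,
      ofAdd_zero, Pi.mulSingle_one, _root_.map_one]
  · rw [eq_top_iff]
    intro q _
    have hq : q = e.symm (∏ i, Pi.mulSingle i (e q i)) := by
      rw [Finset.univ_prod_mulSingle, e.symm_apply_apply]
    rw [hq, map_prod]
    refine Subgroup.prod_mem _ fun i _ => ?_
    haveI : NeZero (n i) := ⟨by have := hn i; omega⟩
    have h2 : e q i = (Multiplicative.ofAdd (1 : ZMod (n i))) ^ (Multiplicative.toAdd (e q i)).val := by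
      rw [← ofAdd_nsmul, nsmul_one, ZMod.natCast_zmod_val]; rfl
    rw [h2, Pi.mulSingle_pow, _root_.map_pow]
    exact Subgroup.pow_mem _ (Subgroup.subset_closure (Set.mem_range_self i)) _
  · rw [Nat.card_congr e.toEquiv, Nat.card_pi]
    refine Finset.prod_congr rfl fun i _ => ?_
    rw [Nat.card_congr Multiplicative.toAdd, Nat.card_zmod]

theorem exists_det [Finite G] (X : G →* R) (ε : R →+* ℤ) (hε : ∀ g, ε (X g) = 1)
    {M : Type*} [AddCommGroup M] [Module R M] (m : G → M) (hm : IsCrossed X m) :
    ∃ D : R, ε D = (Nat.card (Abelianization G) : ℤ) ∧ (∀ g, D * (X g - 1) = 0) ∧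
      ∀ g, D • m g = 0 := by
  classical
  -- extended crossed hom
  set mh : G → M × R := fun g => (m g, X g - 1) with hmh
  have hmh' : IsCrossed X mh := by
    intro g g'
    ext
    · simp [mh, hm g g']
    · simp [mh]; ring
  obtain ⟨ι, hι, n, x, hxn, hxgen, hprod⟩ := exists_generators (Abelianization G)
  have hsurj : Function.Surjective (Abelianization.of : G →* Abelianization G) :=
    QuotientGroup.mk_surjective
  choose gg hgg using fun i => hsurj (x i)
  haveI : Fintype ↥(commutator G) := Fintype.ofFinite _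
  let J := ι ⊕ ↥(commutator G)
  let vJ : J → M × R := Sum.elim (fun i => mh (gg i)) (fun h => mh h)
  let S : Submodule R (M × R) := Submodule.span R (Set.range vJ)
  let I : Ideal R := RingHom.ker ε
  have hXI : ∀ u, X u - 1 ∈ I := by
    intro u
    show ε (X u - 1) = 0
    rw [map_sub, hε, _root_.map_one, sub_self]
  -- span claim
  have hspan : ∀ g, mh g ∈ S := by
    have hK : hmh'.subgroup S = ⊤ := by
      have hker : (Abelianization.of : G →* Abelianization G).ker ≤ hmh'.subgroup S := by
        rw [Abelianization.ker_of]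
        intro h hh
        exact Submodule.subset_span ⟨Sum.inr ⟨h, hh⟩, rfl⟩
      have hmap : (hmh'.subgroup S).map Abelianization.of = ⊤ := by
        rw [eq_top_iff, ← hxgen, Subgroup.closure_le]
        rintro _ ⟨i, rfl⟩
        exact ⟨gg i, Submodule.subset_span ⟨Sum.inl i, rfl⟩, hgg i⟩
      rw [← Subgroup.comap_map_eq_self hker, hmap, Subgroup.comap_top]
    intro g
    have : g ∈ hmh'.subgroup S := hK ▸ Subgroup.mem_top g
    exact this
  -- the commutator subgroup maps into I • S
  have hIS : ∀ w ∈ commutator G, mh w ∈ I • S := by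
    have : commutator G ≤ hmh'.subgroup (I • S) := by
      rw [commutator_eq_closure, Subgroup.closure_le]
      rintro _ ⟨u, v, rfl⟩
      show mh ⁅u, v⁆ ∈ I • S
      rw [hmh'.map_commutator]
      exact Submodule.sub_mem _ (Submodule.smul_mem_smul (hXI u) (hspan v))
        (Submodule.smul_mem_smul (hXI v) (hspan u))
    exact fun w hw => this hw
  let w : J → G := Sum.elim (fun i => gg i ^ n i) (fun h => (h : G))
  have hw : ∀ j, w j ∈ commutator G := by
    rintro (i | h)
    · show gg i ^ n i ∈ commutator G
      rw [← Abelianization.ker_of, MonoidHom.mem_ker, _root_.map_pow, hgg, hxn]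
    · exact h.2
  let d : J → R := Sum.elim (fun i => ∑ l ∈ Finset.range (n i), X (gg i) ^ l) (fun _ => 1)
  have hd : ∀ j, d j • vJ j = mh (w j) := by
    rintro (i | h)
    · exact (hmh'.map_pow (gg i) (n i)).symm
    · exact one_smul _ _
  have hν : ∀ j, ∃ ν : J → R, (∀ j', ν j' ∈ I) ∧ ∑ j', ν j' • vJ j' = mh (w j) := by
    intro j
    obtain ⟨a, ha, hsum⟩ :=
      (Submodule.mem_ideal_smul_span_iff_exists_sum I vJ (mh (w j))).mp (hIS _ (hw j))
    refine ⟨a, ha, ?_⟩
    rw [← hsum, Finsupp.sum_fintype]
    intro; exact zero_smul _ _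
  choose ν hνI hνsum using hν
  let Λ : Matrix J J R := Matrix.diagonal d - Matrix.of ν
  have hΛ : ∀ i, ∑ j, Λ i j • vJ j = 0 := by
    intro i
    simp only [Λ, Matrix.sub_apply, Matrix.of_apply, sub_smul, Finset.sum_sub_distrib, hνsum]
    rw [sub_eq_zero, ← hd i]
    rw [Finset.sum_eq_single i]
    · rw [Matrix.diagonal_apply_eq]
    · intro b _ hb
      rw [Matrix.diagonal_apply_ne _ (Ne.symm hb), zero_smul]
    · intro h; exact absurd (Finset.mem_univ i) h
  have hdet := det_smul_eq_zero Λ vJ hΛ
  have hall : ∀ g, Λ.det • mh g = 0 := by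
    intro g
    have : S ≤ LinearMap.ker (LinearMap.lsmul R (M × R) Λ.det) := by
      rw [Submodule.span_le]; rintro _ ⟨j, rfl⟩; exact hdet j
    exact this (hspan g)
  refine ⟨Λ.det, ?_, ?_, ?_⟩
  · rw [RingHom.map_det]
    have : ε.mapMatrix Λ = Matrix.diagonal (fun j => ε (d j)) := by
      ext i j
      simp only [RingHom.mapMatrix_apply, Matrix.map_apply, Λ, Matrix.sub_apply, Matrix.of_apply,
        map_sub]
      rw [show ε (ν i j) = 0 from hνI i j, sub_zero]
      by_cases hij : i = j
      · subst hij; simp
      · simp [hij]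
    rw [this, Matrix.det_diagonal, Fintype.prod_sum_type]
    simp only [d, Sum.elim_inl, Sum.elim_inr, _root_.map_one, Finset.prod_const_one, mul_one]
    rw [← hprod, Nat.cast_prod]
    refine Finset.prod_congr rfl fun i _ => ?_
    rw [map_sum]; simp [hε]
  · intro g; have := congrArg Prod.snd (hall g); simpa [mh] using this
  · intro g; have := congrArg Prod.fst (hall g); simpa [mh] using this

end Abstract

section GroupRing

open MonoidAlgebra

/-- The augmentation map of the integral group ring. -/
noncomputable def aug (Q : Type*) [CommGroup Q] : MonoidAlgebra ℤ Q →+* ℤ :=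
  (MonoidAlgebra.lift ℤ ℤ Q (1 : Q →* ℤ)).toRingHom

theorem aug_single (Q : Type*) [CommGroup Q] (q : Q) (n : ℤ) : aug Q (single q n) = n := by
  show MonoidAlgebra.lift ℤ ℤ Q (1 : Q →* ℤ) (single q n) = n
  rw [MonoidAlgebra.lift_single]
  simp

theorem eq_norm {Q : Type*} [CommGroup Q] [Fintype Q] (D : MonoidAlgebra ℤ Q)
    (h1 : ∀ q, D * single q 1 = D) (h2 : aug Q D = (Nat.card Q : ℤ)) :
    D = ∑ q, single q (1 : ℤ) := by
  classical
  have hc : ∀ q, D.coeff q = D.coeff 1 := by
    intro q
    have := congrArg (fun f => f.coeff q) (h1 q)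
    simp only [coeff_mul_single_apply, mul_inv_cancel, mul_one] at this
    exact this.symm
  have hD : D = ∑ q, single q (D.coeff 1) := by
    conv_lhs => rw [← sum_coeff_single D]
    rw [Finsupp.sum_fintype _ _ (fun _ => single_zero _)]
    exact Finset.sum_congr rfl fun q _ => by rw [hc q]
  have h3 : aug Q D = (Nat.card Q : ℤ) * D.coeff 1 := by
    conv_lhs => rw [hD]
    rw [map_sum]
    simp only [aug_single, Finset.sum_const, Finset.card_univ, Nat.card_eq_fintype_card]
    simp
  have h4 : D.coeff 1 = 1 := by
    have hne : (Nat.card Q : ℤ) ≠ 0 := by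
      have : Nat.card Q ≠ 0 := Nat.card_pos.ne'
      exact_mod_cast this
    have : (Nat.card Q : ℤ) * D.coeff 1 = (Nat.card Q : ℤ) * 1 := by rw [← h3, h2, mul_one]
    exact mul_left_cancel₀ hne this
  rw [hD, h4]

theorem norm_smul_eq_zero {G : Type*} [Group G] [Finite G] [Fintype (Abelianization G)]
    {M : Type*} [AddCommGroup M] [Module (MonoidAlgebra ℤ (Abelianization G)) M] (m : G → M)
    (hm : IsCrossed ((MonoidAlgebra.of ℤ (Abelianization G)).comp Abelianization.of) m) (g : G) :
    (∑ q : Abelianization G, single q (1 : ℤ)) • m g = 0 := by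
  obtain ⟨D, hD1, hD2, hD3⟩ := exists_det
    ((MonoidAlgebra.of ℤ (Abelianization G)).comp Abelianization.of) (aug (Abelianization G))
    (fun g => by simp [aug_single]) m hm
  have hDN : D = ∑ q : Abelianization G, single q (1 : ℤ) := by
    refine eq_norm D ?_ hD1
    intro q
    obtain ⟨g', rfl⟩ : ∃ g', Abelianization.of g' = q := QuotientGroup.mk_surjective q
    have := hD2 g'
    rw [mul_sub, mul_one, sub_eq_zero] at this
    simpa using this
  rw [← hDN]
  exact hD3 g

end GroupRing

section Transfer

variable {G : Type*} [Group G]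

/-- The translation action of `Gᵃᵇ` on functions `Gᵃᵇ → B`. -/
def tau (G : Type*) [Group G] (B : Type*) [AddCommGroup B] :
    Abelianization G →* Module.End ℤ (Abelianization G → B) where
  toFun q₀ := LinearMap.funLeft ℤ B (fun q => q₀⁻¹ * q)
  map_one' := by
    ext φ q
    simp [LinearMap.funLeft_apply]
  map_mul' q₀ q₁ := by
    ext φ q
    simp [LinearMap.funLeft_apply, mul_assoc]

theorem tau_apply (B : Type*) [AddCommGroup B] (q₀ : Abelianization G)
    (φ : Abelianization G → B) (q : Abelianization G) : tau G B q₀ φ q = φ (q₀⁻¹ * q) := rfl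

/-- the ring hom from the group ring to the endomorphisms of the function module. -/
noncomputable def rho (G : Type*) [Group G] (B : Type*) [AddCommGroup B] :
    MonoidAlgebra ℤ (Abelianization G) →+* Module.End ℤ (Abelianization G → B) :=
  (MonoidAlgebra.lift ℤ (Module.End ℤ (Abelianization G → B)) (Abelianization G)
    (tau G B)).toRingHom

theorem rho_single (B : Type*) [AddCommGroup B] (q₀ : Abelianization G) :
    rho G B (MonoidAlgebra.single q₀ 1) = tau G B q₀ := by
  show MonoidAlgebra.lift ℤ (Module.End ℤ (Abelianization G → B)) (Abelianization G)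
    (tau G B) (MonoidAlgebra.single q₀ 1) = _
  rw [MonoidAlgebra.lift_single, one_smul]

/-- The "factor set" elements. -/
def sfun (t : Abelianization G → G) (ht : ∀ q, Abelianization.of (t q) = q) (g : G)
    (q : Abelianization G) : ↥(commutator G) :=
  ⟨(t q)⁻¹ * g * t ((Abelianization.of g)⁻¹ * q), by
    rw [← Abelianization.ker_of, MonoidHom.mem_ker]
    simp only [map_mul, map_inv, ht]
    rw [mul_assoc, mul_inv_cancel_left, inv_mul_cancel]⟩

theorem sfun_mul (t : Abelianization G → G) (ht : ∀ q, Abelianization.of (t q) = q) (g g' : G)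
    (q : Abelianization G) :
    sfun t ht (g * g') q = sfun t ht g q * sfun t ht g' ((Abelianization.of g)⁻¹ * q) := by
  apply Subtype.ext
  simp only [sfun, Subgroup.coe_mul, map_mul, mul_inv_rev]
  rw [mul_assoc (Abelianization.of g')⁻¹]
  group

theorem inv_smul_eq (g : G) (q : G ⧸ commutator G) :
    (g⁻¹ • q : G ⧸ commutator G) = ((Abelianization.of g)⁻¹ * (show Abelianization G from q) :
      Abelianization G) := by
  induction q using QuotientGroup.induction_on with
  | H x => rfl

theorem main [Finite G] :
    MonoidHom.transfer (Abelianization.of : ↥(commutator G) →* Abelianization ↥(commutator G)) =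
      (1 : G →* Abelianization ↥(commutator G)) := by
  classical
  ext g
  rw [MonoidHom.one_apply]
  let B := Additive (Abelianization ↥(commutator G))
  letI : Fintype (Abelianization G) := (commutator G).fintypeQuotientOfFiniteIndex
  letI : Module (MonoidAlgebra ℤ (Abelianization G)) (Abelianization G → B) :=
    Module.compHom (Abelianization G → B) (rho G B)
  have hsmul : ∀ (r : MonoidAlgebra ℤ (Abelianization G)) (φ : Abelianization G → B),
      r • φ = rho G B r φ := fun _ _ => rfl
  let T : (commutator G).LeftTransversal := default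
  let t : Abelianization G → G := fun q => (T.2.leftQuotientEquiv q : G)
  have ht : ∀ q, Abelianization.of (t q) = q := fun q => T.2.quotientGroupMk_leftQuotientEquiv q
  let m : G → (Abelianization G → B) :=
    fun g q => Additive.ofMul (Abelianization.of (sfun t ht g q))
  have hm : IsCrossed ((MonoidAlgebra.of ℤ (Abelianization G)).comp Abelianization.of) m := by
    intro g g'
    funext q
    show m (g * g') q = m g q + (_ • m g') q
    rw [hsmul]
    simp only [MonoidHom.comp_apply, MonoidAlgebra.of_apply, rho_single, tau_apply]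
    show Additive.ofMul (Abelianization.of (sfun t ht (g * g') q)) =
      Additive.ofMul (Abelianization.of (sfun t ht g q)) +
        Additive.ofMul (Abelianization.of (sfun t ht g' ((Abelianization.of g)⁻¹ * q)))
    rw [sfun_mul, map_mul, ofMul_mul]
  have key := norm_smul_eq_zero m hm g
  have key1 := congrFun key 1
  rw [Finset.sum_smul, Finset.sum_apply] at key1
  simp only [hsmul, rho_single, tau_apply, mul_one] at key1
  have key2 : ∑ q : Abelianization G, m g q = 0 := by
    rw [Pi.zero_apply] at key1
    rw [← key1]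
    exact (Fintype.sum_equiv (Equiv.inv _) (fun q => m g q⁻¹) (fun q => m g q) (fun q => rfl)).symm
  have hdiff : Subgroup.leftTransversals.diff
      (Abelianization.of : ↥(commutator G) →* Abelianization ↥(commutator G)) T (g • T) =
      ∏ q : Abelianization G, Abelianization.of (sfun t ht g q) := by
    refine Finset.prod_congr rfl fun (q : G ⧸ commutator G) _ => congrArg _ (Subtype.ext ?_)
    have h1 := Subgroup.smul_apply_eq_smul_apply_inv_smul g T q
    have h2 := inv_smul_eq g q
    show ((T.2.leftQuotientEquiv q : G))⁻¹ * ((g • T).2.leftQuotientEquiv q : G) =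
      (T.2.leftQuotientEquiv q : G)⁻¹ * g * (T.2.leftQuotientEquiv
        (show G ⧸ commutator G from
          ((Abelianization.of g)⁻¹ * (show Abelianization G from q) : Abelianization G)) : G)
    rw [h1, smul_eq_mul, mul_assoc, h2]
  rw [MonoidHom.transfer_def _ T g, hdiff]
  have key3 : Additive.ofMul (∏ q : Abelianization G, Abelianization.of (sfun t ht g q)) = 0 := by
    rw [ofMul_prod]; exact key2
  exact key3

end Transfer

end Cfsg.Agent.H1.PrincipalIdeal
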