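import Mathlib
import Cfsg.Agent.H1.Frattini
import Cfsg.Agent.H1.BaerTrick
import Cfsg.Prelude.Def_Transfer

set_option linter.style.haveILetI false
set_option linter.unusedSimpArgs false

namespace Cfsg.Agent.H1

open scoped commutatorElement

/-- sum of a `±1`-valued multiplicative function over a finite group -/
lemma sum_sign_char {H : Type*} [Group H] [Fintype H] (f : H → ℤ)
    (hmul : ∀ a b, f (a * b) = f a * f b) (hpm : ∀ a, f a = 1 ∨ f a = -1) :
    (∑ a, f a = Fintype.card H ∧ ∀ a, f a = 1) ∨ (∑ a, f a = 0 ∧ ∃ a, f a = -1) := by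
  by_cases h : ∀ a, f a = 1
  · left
    refine ⟨?_, h⟩
    simp [h]
  · right
    push Not at h
    obtain ⟨a, ha⟩ := h
    have ha' : f a = -1 := (hpm a).resolve_left ha
    refine ⟨?_, a, ha'⟩
    have h1 : ∑ x, f (a * x) = ∑ x, f x := Equiv.sum_comp (Equiv.mulLeft a) f
    have h2 : ∑ x, f (a * x) = - ∑ x, f x := by
      simp only [hmul, ha', neg_mul, one_mul, Finset.sum_neg_distrib]
    linarith

lemma int_sq_eq_two_pow {M : ℤ} {m : ℕ} (h : M * M = 2 ^ m) :
    ∃ e : ℕ, m = 2 * e ∧ (M = 2 ^ e ∨ M = -(2 ^ e)) := by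
  have h1 : M.natAbs * M.natAbs = 2 ^ m := by
    have := congrArg Int.natAbs h
    simpa [Int.natAbs_mul, Int.natAbs_pow] using this
  have h2 : M.natAbs ∣ 2 ^ m := ⟨M.natAbs, h1.symm⟩
  obtain ⟨e, he, he2⟩ := (Nat.dvd_prime_pow Nat.prime_two).1 h2
  refine ⟨e, ?_, ?_⟩
  · rw [he2, ← pow_add] at h1
    have := Nat.pow_right_injective (le_refl 2) h1
    omega
  · rcases Int.natAbs_eq M with h3 | h3
    · left; rw [h3, he2]; simp
    · right; rw [h3, he2]; simp

open Classical in
/-- the quadratic-form count: with `S = #{x² = 1} - #{x² ≠ 1}`, either `S = 0` or `S² = |G||Z(G)|` and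
`Z(G)` has exponent 2. -/
theorem quad_count_main {G : Type*} [Group G] [Fintype G] (hG : IsPGroup 2 G)
    (hΦ : Nat.card (frattini G) = 2) :
    (∑ x : G, (if x ^ 2 = 1 then (1:ℤ) else -1)) * (∑ x : G, (if x ^ 2 = 1 then (1:ℤ) else -1)) = 0 ∨
    ((∑ x : G, (if x ^ 2 = 1 then (1:ℤ) else -1)) * (∑ x : G, (if x ^ 2 = 1 then (1:ℤ) else -1))
        = (Fintype.card G : ℤ) * (Nat.card (Subgroup.center G) : ℤ) ∧
      ∀ z ∈ Subgroup.center G, z ^ 2 = 1) := by
  classical
  haveI : Fact (Nat.Prime 2) := ⟨Nat.prime_two⟩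
  set S : ℤ := ∑ x : G, (if x ^ 2 = 1 then (1:ℤ) else -1) with hSdef
  have hc : ∃ c ∈ frattini G, c ≠ 1 ∧ ∀ a ∈ frattini G, a = 1 ∨ a = c := by
    obtain ⟨c, hc1, hc2⟩ := (Nat.card_eq_two_iff' (1 : frattini G)).1 hΦ
    refine ⟨c, c.2, fun h => hc1 (Subtype.ext h), ?_⟩
    intro a ha
    by_cases h : a = 1
    · left; exact h
    · right
      have := hc2 ⟨a, ha⟩ (fun h' => h (congrArg Subtype.val h'))
      exact congrArg Subtype.val this
  obtain ⟨c, hcΦ, hc1, hcall⟩ := hc
  have hcc : c * c = 1 := by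
    have h := mul_mem hcΦ hcΦ
    rcases hcall _ h with h1 | h1
    · exact h1
    · exfalso; apply hc1
      have : c * c = c * 1 := by rw [h1, mul_one]
      exact mul_left_cancel this
  have hΦcen : ∀ a ∈ frattini G, a ∈ Subgroup.center G := by
    intro a ha
    rw [Subgroup.mem_center_iff]
    intro g
    rcases hcall a ha with h | h
    · rw [h]; simp
    · rw [h]
      have hn : (frattini G).Normal := inferInstance
      have h2 := hn.conj_mem c hcΦ g
      rcases hcall _ h2 with h3 | h3
      · exfalso; apply hc1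
        have : c = g⁻¹ * (g * c * g⁻¹) * g := by group
        rw [this, h3]; group
      · calc g * c = g * c * g⁻¹ * g := by group
          _ = c * g := by rw [h3]
  have hcomm : ∀ x y : G, ⁅x, y⁆ ∈ frattini G := by
    intro x y
    apply commutator_le_frattini hG
    rw [commutator_def]
    exact Subgroup.commutator_mem_commutator (Subgroup.mem_top x) (Subgroup.mem_top y)
  have hcl : ClassTwo G := fun x y => hΦcen _ (hcomm x y)
  have hsq : ∀ x : G, x ^ 2 ∈ frattini G := fun x => pow_p_mem_frattini hG x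
  set σ : G → ℤ := fun g => if g = 1 then 1 else -1 with hσ
  have hσmul : ∀ a ∈ frattini G, ∀ b ∈ frattini G, σ (a * b) = σ a * σ b := by
    intro a ha b hb
    rcases hcall a ha with h | h
    · rw [h]; simp [hσ]
    · rcases hcall b hb with h' | h'
      · rw [h']; simp [hσ]
      · rw [h, h']; simp [hσ, hcc, hc1]
  have hσpm : ∀ g, σ g = 1 ∨ σ g = -1 := by
    intro g; simp only [hσ]; split_ifs <;> simp
  have hσsq : ∀ g, σ g * σ g = 1 := by
    intro g; rcases hσpm g with h | h <;> rw [h] <;> norm_num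
  set ε : G → ℤ := fun x => σ (x ^ 2) with hε
  set β : G → G → ℤ := fun u x => σ ⁅u, x⁆ with hβ
  have hkey : ∀ x u : G, ε (x * u) = β u x * ε x * ε u := by
    intro x u
    have h1 : (x * u) ^ 2 = ⁅u, x⁆ * x ^ 2 * u ^ 2 := by
      have hz := Subgroup.mem_center_iff.1 (hcl u x) x
      have h2 : ⁅u, x⁆ * x ^ 2 * u ^ 2 = (⁅u, x⁆ * x) * (x * u * u) := by
        rw [pow_two, pow_two]; simp only [mul_assoc]
      rw [h2, ← hz, commutatorElement_def, pow_two]
      simp only [mul_assoc, inv_mul_cancel_left]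
    simp only [hε, hβ]
    rw [h1, hσmul _ (mul_mem (hcomm u x) (hsq x)) _ (hsq u), hσmul _ (hcomm u x) _ (hsq x)]
  have hβmul : ∀ u x y : G, β u (x * y) = β u x * β u y := by
    intro u x y
    simp only [hβ]
    rw [hcl.comm_mul_right, hσmul _ (hcomm u x) _ (hcomm u y)]
  have hβone : ∀ u x : G, β u x = 1 ↔ u * x = x * u := by
    intro u x
    simp only [hβ, hσ]
    rw [← commutatorElement_eq_one_iff_mul_comm]
    split_ifs with h <;> simp [h]
  have hsumβ : ∀ u : G, ∑ x, β u x = if u ∈ Subgroup.center G then (Fintype.card G : ℤ) else 0 := by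
    intro u
    rcases sum_sign_char (β u) (hβmul u) (fun x => hσpm _) with ⟨h1, h2⟩ | ⟨h1, a, ha⟩
    · have : u ∈ Subgroup.center G := by
        rw [Subgroup.mem_center_iff]; intro g
        exact ((hβone u g).1 (h2 g)).symm
      rw [if_pos this, h1]
    · have : u ∉ Subgroup.center G := by
        intro hu
        rw [Subgroup.mem_center_iff] at hu
        have := (hβone u a).2 (hu a).symm
        rw [ha] at this; norm_num at this
      rw [if_neg this, h1]
  have hS : S = ∑ x, ε x := by
    simp only [hSdef, hε, hσ]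
  have hSS : S * S = ∑ u, ε u * (if u ∈ Subgroup.center G then (Fintype.card G : ℤ) else 0) := by
    rw [hS, Finset.sum_mul_sum]
    have h1 : ∀ x : G, ∑ y, ε x * ε y = ∑ u, β u x * ε u := by
      intro x
      rw [← Equiv.sum_comp (Equiv.mulLeft x)]
      apply Finset.sum_congr rfl
      intro u _
      simp only [Equiv.coe_mulLeft]
      rw [hkey]
      calc ε x * (β u x * ε x * ε u) = (ε x * ε x) * (β u x * ε u) := by ring
        _ = β u x * ε u := by rw [show ε x * ε x = 1 from hσsq _, one_mul]
    rw [Finset.sum_congr rfl (fun x _ => h1 x), Finset.sum_comm]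
    apply Finset.sum_congr rfl
    intro u _
    rw [← hsumβ u, Finset.mul_sum]
    apply Finset.sum_congr rfl
    intro x _; ring
  have hZ : ∑ u, ε u * (if u ∈ Subgroup.center G then (Fintype.card G : ℤ) else 0)
      = (Fintype.card G : ℤ) * ∑ z : Subgroup.center G, ε (z : G) := by
    rw [Finset.mul_sum]
    simp only [mul_ite, mul_zero]
    rw [← Finset.sum_filter]
    rw [Finset.sum_subtype (Finset.univ.filter (· ∈ Subgroup.center G))
      (p := (· ∈ Subgroup.center G)) (by simp)]
    apply Finset.sum_congr rfl; intro z _; ring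
  have hεmul : ∀ a b : Subgroup.center G, ε ((a * b : Subgroup.center G) : G) = ε (a : G) * ε (b : G) := by
    intro a b
    have hb := Subgroup.mem_center_iff.1 b.2 (a : G)
    have : β (b : G) (a : G) = 1 := (hβone _ _).2 hb.symm
    rw [Subgroup.coe_mul, hkey, this, one_mul]
  rcases sum_sign_char (fun z : Subgroup.center G => ε (z : G)) hεmul (fun z => hσpm _)
    with ⟨h1, h2⟩ | ⟨h1, _⟩
  · right
    refine ⟨?_, ?_⟩
    · rw [hSS, hZ, h1, Nat.card_eq_fintype_card]
    · intro z hz
      have := h2 ⟨z, hz⟩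
      simp only [hε, hσ] at this
      by_contra hne
      rw [if_neg hne] at this; norm_num at this
  · left
    rw [hSS, hZ, h1, mul_zero]

theorem two_group_frattini_two_involution_count {G : Type*} [Group G] [Finite G] (hG : IsPGroup 2 G)
    (hΦ : Nat.card (frattini G) = 2) (d : ℕ) (hd : (frattini G).index = 2 ^ d) :
    (Nat.card {x : G // x ^ 2 = 1} = 2 ^ d ∨ ∃ r : ℕ, 1 ≤ r ∧ 2 * r ≤ d ∧
      (Nat.card {x : G // x ^ 2 = 1} = 2 ^ d + 2 ^ (d - r) ∨
        Nat.card {x : G // x ^ 2 = 1} + 2 ^ (d - r) = 2 ^ d)) ∧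
    (∀ r : ℕ, d = 2 * r → (Nat.card {x : G // x ^ 2 = 1} = 2 ^ d + 2 ^ r ∨
        Nat.card {x : G // x ^ 2 = 1} + 2 ^ r = 2 ^ d) → Cfsg.IsExtraspecial 2 G) := by
  classical
  haveI := Fintype.ofFinite G
  haveI : Fact (Nat.Prime 2) := ⟨Nat.prime_two⟩
  set N : ℕ := Nat.card {x : G // x ^ 2 = 1} with hN
  have hcardG : Nat.card G = 2 ^ (d + 1) := by
    rw [← (frattini G).card_mul_index, hΦ, hd, pow_succ]; ring
  have hcardG' : (Fintype.card G : ℤ) = 2 ^ (d + 1) := by
    rw [← Nat.card_eq_fintype_card, hcardG]; push_cast; rfl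
  have hSN : (∑ x : G, (if x ^ 2 = 1 then (1:ℤ) else -1)) = 2 * (N : ℤ) - 2 ^ (d + 1) := by
    have h1 : ∀ x : G, (if x ^ 2 = 1 then (1:ℤ) else -1) = 2 * (if x ^ 2 = 1 then 1 else 0) - 1 := by
      intro x; split_ifs <;> norm_num
    simp only [h1]
    rw [Finset.sum_sub_distrib, ← Finset.mul_sum, Finset.sum_boole]
    simp only [Finset.sum_const, Finset.card_univ, nsmul_eq_mul, mul_one]
    rw [hcardG', hN, Nat.card_eq_fintype_card, Fintype.card_subtype]
  have hΦZ : frattini G ≤ Subgroup.center G := by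
    -- a normal subgroup of order 2 is central
    intro a ha
    rw [Subgroup.mem_center_iff]
    intro g
    obtain ⟨c, hc1, hc2⟩ := (Nat.card_eq_two_iff' (1 : frattini G)).1 hΦ
    by_cases h : a = 1
    · rw [h]; simp
    · have hac : (⟨a, ha⟩ : frattini G) = c := hc2 ⟨a, ha⟩ (fun h' => h (congrArg Subtype.val h'))
      have hn : (frattini G).Normal := inferInstance
      have h2 := hn.conj_mem a ha g
      have h3 : g * a * g⁻¹ ≠ 1 := by
        intro h4
        apply h
        have : a = g⁻¹ * (g * a * g⁻¹) * g := by group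
        rw [this, h4]; group
      have h5 : (⟨g * a * g⁻¹, h2⟩ : frattini G) = c :=
        hc2 ⟨_, h2⟩ (fun h' => h3 (congrArg Subtype.val h'))
      have h6 : g * a * g⁻¹ = a := by
        have := h5.trans hac.symm
        exact congrArg Subtype.val this
      calc g * a = g * a * g⁻¹ * g := by group
        _ = a * g := by rw [h6]
  obtain ⟨j, hj⟩ := (hG.to_subgroup (Subgroup.center G)).exists_card_eq
  have hj1 : 1 ≤ j := by
    have h1 := Subgroup.card_dvd_of_le hΦZ
    rw [hΦ, hj] at h1
    rcases Nat.eq_zero_or_pos j with h0 | h0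
    · rw [h0] at h1; norm_num at h1
    · exact h0
  have hjle : j ≤ d + 1 := by
    have h1 := Subgroup.card_le_card_group (Subgroup.center G)
    rw [hj, hcardG] at h1
    exact (Nat.pow_le_pow_iff_right (by norm_num)).1 h1
  have hmain := quad_count_main hG hΦ
  rw [hSN, hcardG', hj] at hmain
  constructor
  · rcases hmain with h0 | ⟨h1, h2⟩
    · left
      have h3 : 2 * (N : ℤ) - 2 ^ (d + 1) = 0 := mul_self_eq_zero.1 h0
      have h4 : (N : ℤ) = 2 ^ d := by
        rw [pow_succ] at h3; linarith
      exact_mod_cast h4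
    · right
      -- Z ≠ ⊤
      have hjd : j ≤ d := by
        by_contra hcon
        have hj' : j = d + 1 := by omega
        have htop : Subgroup.center G = ⊤ := by
          rw [← Subgroup.card_eq_iff_eq_top, hj, hj', hcardG]
        have hcomm : ∀ a b : G, a * b = b * a := by
          intro a b
          have hb : b ∈ Subgroup.center G := by rw [htop]; exact Subgroup.mem_top b
          exact (Subgroup.mem_center_iff.1 hb a)
        have hexp : ∀ v : G, v ^ 2 = 1 := by
          intro v
          exact h2 v (by rw [htop]; exact Subgroup.mem_top v)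
        have := frattini_eq_bot_of_elementary_abelian (p := 2) hcomm hexp
        rw [this] at hΦ
        simp at hΦ
      obtain ⟨k, rfl⟩ : ∃ k, j = k + 1 := ⟨j - 1, by omega⟩
      have h3 : ((N : ℤ) - 2 ^ d) * ((N : ℤ) - 2 ^ d) = 2 ^ (d + k) := by
        have h4 : (2 * (N : ℤ) - 2 ^ (d + 1)) = 2 * ((N : ℤ) - 2 ^ d) := by
          rw [pow_succ]; ring
        rw [h4] at h1
        have h5 : (2:ℤ) ^ (d + 1) * ((2:ℕ) ^ (k + 1) : ℕ) = 4 * 2 ^ (d + k) := by
          push_cast
          rw [pow_succ, pow_succ, pow_add]; ring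
        rw [h5] at h1
        linarith
      obtain ⟨e, he, he2⟩ := int_sq_eq_two_pow h3
      refine ⟨d - e, by omega, by omega, ?_⟩
      have hde : d - (d - e) = e := by omega
      rw [hde]
      rcases he2 with h | h
      · left
        have : (N : ℤ) = 2 ^ d + 2 ^ e := by linarith
        exact_mod_cast this
      · right
        have : (N : ℤ) + 2 ^ e = 2 ^ d := by linarith
        exact_mod_cast this
  · intro r hdr hcount
    have hS2 : (2 * (N : ℤ) - 2 ^ (d + 1)) * (2 * (N : ℤ) - 2 ^ (d + 1)) = 2 ^ (d + 2) := by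
      have hpow : (2:ℤ) ^ (d + 2) = 4 * (2 ^ r * 2 ^ r) := by
        rw [hdr, ← pow_add]
        have : 2 * r + 2 = (r + r) + 2 := by ring
        rw [this, pow_add]; ring
      have hpow1 : (2:ℤ) ^ (d + 1) = 2 * 2 ^ d := by rw [pow_succ]; ring
      rcases hcount with h | h
      · have h' : (N : ℤ) = 2 ^ d + 2 ^ r := by exact_mod_cast h
        rw [hpow, hpow1, h']; ring
      · have h' : (N : ℤ) + 2 ^ r = 2 ^ d := by exact_mod_cast h
        have h'' : (N : ℤ) = 2 ^ d - 2 ^ r := by linarith
        rw [hpow, hpow1, h'']; ring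
    rcases hmain with h0 | ⟨h1, h2⟩
    · rw [hS2] at h0
      exact absurd h0 (by positivity)
    · rw [hS2] at h1
      have hj2 : j = 1 := by
        have h3 : (2:ℤ) ^ (d + 2) = 2 ^ (d + 1 + j) := by
          rw [h1]; push_cast; rw [← pow_add]
        have h4 : (2:ℕ) ^ (d + 2) = 2 ^ (d + 1 + j) := by exact_mod_cast h3
        have := Nat.pow_right_injective (le_refl 2) h4
        omega
      rw [hj2, pow_one] at hj
      have hΦeq : frattini G = Subgroup.center G :=
        Subgroup.eq_of_le_of_card_ge hΦZ (by rw [hj, hΦ])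
      have hGne : commutator G ≠ ⊥ := by
        intro hbot
        have hcomm : ∀ a b : G, a * b = b * a := by
          intro a b
          have : ⁅a, b⁆ ∈ commutator G := by
            rw [commutator_def]
            exact Subgroup.commutator_mem_commutator (Subgroup.mem_top a) (Subgroup.mem_top b)
          rw [hbot, Subgroup.mem_bot, commutatorElement_eq_one_iff_mul_comm] at this
          exact this
        have htop : Subgroup.center G = ⊤ := by
          rw [eq_top_iff]
          intro z _
          rw [Subgroup.mem_center_iff]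
          intro g; exact hcomm g z
        have hΦtop : frattini G = ⊤ := by rw [hΦeq, htop]
        have hbt : (⊥ : Subgroup G) = ⊤ := by
          apply frattini_nongenerating
          rw [hΦtop]; simp
        rw [hΦtop, ← hbt] at hΦ
        simp at hΦ
      have hGle : commutator G ≤ frattini G := commutator_le_frattini hG
      have hGeq : commutator G = frattini G := by
        apply Subgroup.eq_of_le_of_card_ge hGle
        rw [hΦ]
        have h1 : 1 < Nat.card (commutator G) := by
          rw [Subgroup.one_lt_card_iff_ne_bot]; exact hGne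
        omega
      exact ⟨⟨hG, hΦeq, hGeq.trans hΦeq⟩, hj⟩

end Cfsg.Agent.H1
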