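import Mathlib
import Cfsg.Agent.H1.HHModM
import Cfsg.Agent.H1.Frattini

/-! The quadratic-action lemma for `p = 3` behind `l_p ≤ d_p`: a central element `a` of a `3`-group `X`
lying in `⁅X, X⁆`, acting quadratically on a module in characteristic `3` and centralizing `[V, X, X]`,
centralizes every `X`-invariant `2`-group (group-theoretic helpers). -/

set_option linter.style.haveILetI false
set_option linter.unusedVariables false

namespace Cfsg.Agent.H1.QuadDer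
open Module Cfsg.Agent.H1.FrobFree Cfsg.Agent.H1.HHMod
open scoped commutatorElement

universe u v w

section Grp
variable {Γ : Type*} [Group Γ]

theorem conj_commutatorElement (b h a : Γ) :
    b * ⁅h, a⁆ * b⁻¹ = ⁅b * h * b⁻¹, b * a * b⁻¹⁆ := by
  simp only [commutatorElement_def]; group

/-- a commutator `⁅h, a⁆` of `2`-power order commuting with `a`, `a ^ 3 = 1`, is trivial -/
theorem comm_eq_one_of_commute (a h : Γ) (ha3 : a ^ 3 = 1) (k : ℕ)
    (hk : ⁅h, a⁆ ^ (2 ^ k) = 1) (hc : ⁅h, a⁆ * a = a * ⁅h, a⁆) : ⁅h, a⁆ = 1 := by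
  obtain ⟨c, hcdef⟩ : ∃ c, c = ⁅h, a⁆ := ⟨_, rfl⟩
  rw [← hcdef] at hk hc ⊢
  have h1 : h * a * h⁻¹ = c * a := by
    rw [hcdef, commutatorElement_def]; group
  have h2 : (h * a * h⁻¹) ^ 3 = 1 := by
    rw [conj_pow, ha3]; group
  have h3 : (c * a) ^ 3 = c ^ 3 * a ^ 3 := (show Commute c a from hc).mul_pow 3
  rw [h1, h3, ha3, mul_one] at h2
  have h4 : orderOf c ∣ Nat.gcd 3 (2 ^ k) :=
    Nat.dvd_gcd (orderOf_dvd_of_pow_eq_one h2) (orderOf_dvd_of_pow_eq_one hk)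
  have h5 : Nat.gcd 3 (2 ^ k) = 1 := by
    apply Nat.Coprime.pow_right
    decide
  rw [h5, Nat.dvd_one, orderOf_eq_one_iff] at h4
  exact h4

theorem closure_comm (k : Set Γ) (hk : ∀ x ∈ k, ∀ y ∈ k, x * y = y * x) :
    ∀ g ∈ Subgroup.closure k, ∀ h ∈ Subgroup.closure k, g * h = h * g := by
  have h1 : Subgroup.closure k ≤ Subgroup.centralizer k := by
    rw [Subgroup.closure_le]
    intro x hx
    rw [SetLike.mem_coe, Subgroup.mem_centralizer_iff]
    intro y hy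
    exact hk y hy x hx
  have h2 : Subgroup.closure k ≤ Subgroup.centralizer (Subgroup.closure k : Set Γ) := by
    rw [Subgroup.closure_le]
    intro x hx
    rw [SetLike.mem_coe, Subgroup.mem_centralizer_iff]
    intro y hy
    have := h1 hy
    rw [Subgroup.mem_centralizer_iff] at this
    exact (this x hx).symm
  intro g hg h hh
  have := h2 hh
  rw [Subgroup.mem_centralizer_iff] at this
  exact this g hg

theorem commutator_central_mul_left (β γ c : Γ) (h1 : β * c = c * β)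
    (h2 : β * ⁅γ, c⁆ = ⁅γ, c⁆ * β) : ⁅β * γ, c⁆ = ⁅γ, c⁆ := by
  have e1 : c * β⁻¹ * c⁻¹ = β⁻¹ := by
    have hcm : Commute β c := h1
    rw [hcm.inv_left.eq.symm]
    group
  calc ⁅β * γ, c⁆ = β * ⁅γ, c⁆ * (c * β⁻¹ * c⁻¹) := by
        simp only [commutatorElement_def]; group
    _ = β * ⁅γ, c⁆ * β⁻¹ := by rw [e1]
    _ = ⁅γ, c⁆ := by rw [h2, mul_inv_cancel_right]

/-- the subgroup generated by squares and commutators -/
def phi0 (Q : Subgroup Γ) : Subgroup Γ :=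
  Subgroup.closure ({x | ∃ g ∈ Q, x = g * g} ∪ {x | ∃ g ∈ Q, ∃ h ∈ Q, x = ⁅g, h⁆})

theorem commutatorElement_mem (Q : Subgroup Γ) {g h : Γ} (hg : g ∈ Q) (hh : h ∈ Q) : ⁅g, h⁆ ∈ Q := by
  rw [commutatorElement_def]
  exact Q.mul_mem (Q.mul_mem (Q.mul_mem hg hh) (Q.inv_mem hg)) (Q.inv_mem hh)

theorem phi0_le (Q : Subgroup Γ) : phi0 Q ≤ Q := by
  rw [phi0, Subgroup.closure_le]
  rintro x (⟨g, hg, rfl⟩ | ⟨g, hg, h, hh, rfl⟩)
  · exact Q.mul_mem hg hg
  · exact commutatorElement_mem Q hg hh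

theorem sq_mem_phi0 (Q : Subgroup Γ) {g : Γ} (hg : g ∈ Q) : g * g ∈ phi0 Q :=
  Subgroup.subset_closure (Or.inl ⟨g, hg, rfl⟩)

theorem comm_mem_phi0 (Q : Subgroup Γ) {g h : Γ} (hg : g ∈ Q) (hh : h ∈ Q) : ⁅g, h⁆ ∈ phi0 Q :=
  Subgroup.subset_closure (Or.inr ⟨g, hg, h, hh, rfl⟩)

theorem phi0_conj (Q : Subgroup Γ) (γ : Γ) (hγ : ∀ g ∈ Q, γ * g * γ⁻¹ ∈ Q) :
    ∀ u ∈ phi0 Q, γ * u * γ⁻¹ ∈ phi0 Q := by
  intro u hu
  unfold phi0 at hu
  induction hu using Subgroup.closure_induction with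
  | mem x hx =>
    rcases hx with ⟨g, hg, rfl⟩ | ⟨g, hg, h, hh, rfl⟩
    · have e : γ * (g * g) * γ⁻¹ = (γ * g * γ⁻¹) * (γ * g * γ⁻¹) := by group
      rw [e]
      exact sq_mem_phi0 Q (hγ g hg)
    · rw [conj_commutatorElement]
      exact comm_mem_phi0 Q (hγ g hg) (hγ h hh)
  | one =>
    have e : γ * 1 * γ⁻¹ = 1 := by group
    rw [e]; exact Subgroup.one_mem _
  | mul x y _ _ hx hy =>
    have e : γ * (x * y) * γ⁻¹ = (γ * x * γ⁻¹) * (γ * y * γ⁻¹) := by group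
    rw [e]; exact Subgroup.mul_mem _ hx hy
  | inv x _ hx =>
    have e : γ * x⁻¹ * γ⁻¹ = (γ * x * γ⁻¹)⁻¹ := by group
    rw [e]; exact Subgroup.inv_mem _ hx

theorem phi0_ne [Finite Γ] (Q : Subgroup Γ) (hQ : IsPGroup 2 Q) (hQ1 : Q ≠ ⊥) : phi0 Q ≠ Q := by
  intro heq
  haveI : Nontrivial Q := (Subgroup.nontrivial_iff_ne_bot Q).2 hQ1
  have hfr : frattini ↥Q ≠ ⊤ := by
    intro htop
    obtain h | ⟨M, hM, -⟩ := IsCoatomic.eq_top_or_exists_le_coatom (⊥ : Subgroup ↥Q)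
    · exact bot_ne_top h
    · have h1 := frattini_le_coatom hM
      rw [htop, top_le_iff] at h1
      exact hM.1 h1
  apply hfr
  rw [eq_top_iff]
  intro x _
  have hx : (x : Γ) ∈ phi0 Q := by rw [heq]; exact x.2
  have key : ∀ u ∈ phi0 Q, ∃ hu : u ∈ Q, (⟨u, hu⟩ : ↥Q) ∈ frattini ↥Q := by
    intro u hu
    unfold phi0 at hu
    induction hu using Subgroup.closure_induction with
    | mem y hy =>
      rcases hy with ⟨g, hg, rfl⟩ | ⟨g, hg, h, hh, rfl⟩
      · refine ⟨Q.mul_mem hg hg, ?_⟩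
        have h1 := Cfsg.Agent.H1.pow_p_mem_frattini hQ (⟨g, hg⟩ : ↥Q)
        rw [pow_two] at h1
        exact h1
      · refine ⟨commutatorElement_mem Q hg hh, ?_⟩
        have h1 : ⁅(⟨g, hg⟩ : ↥Q), ⟨h, hh⟩⁆ ∈ frattini ↥Q :=
          Cfsg.Agent.H1.commutator_le_frattini hQ
            (Subgroup.commutator_mem_commutator (Subgroup.mem_top _) (Subgroup.mem_top _))
        have e : (⟨⁅g, h⁆, commutatorElement_mem Q hg hh⟩ : ↥Q) = ⁅(⟨g, hg⟩ : ↥Q), ⟨h, hh⟩⁆ := by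
          apply Subtype.ext
          simp [commutatorElement_def]
        rw [e]
        exact h1
    | one => exact ⟨Q.one_mem, Subgroup.one_mem _⟩
    | mul y z _ _ ihy ihz =>
      obtain ⟨hy, hy'⟩ := ihy
      obtain ⟨hz, hz'⟩ := ihz
      exact ⟨Q.mul_mem hy hz, Subgroup.mul_mem _ hy' hz'⟩
    | inv y _ ihy =>
      obtain ⟨hy, hy'⟩ := ihy
      exact ⟨Q.inv_mem hy, Subgroup.inv_mem _ hy'⟩
  obtain ⟨hu, hmem⟩ := key x hx
  exact hmem

end Grp

section Rep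
variable {K : Type*} [Field K] {Γ : Type*} [Group Γ] {V : Type*} [AddCommGroup V] [Module K V]

/-- the stabilizer of a submodule, as a subgroup -/
def stabSub (ρ : Representation K Γ V) (U : Submodule K V) : Subgroup Γ where
  carrier := {γ | (∀ v ∈ U, ρ γ v ∈ U) ∧ (∀ v ∈ U, ρ γ⁻¹ v ∈ U)}
  one_mem' := by
    constructor
    · intro v hv; rw [map_one]; exact hv
    · intro v hv; rw [inv_one, map_one]; exact hv
  mul_mem' := by
    rintro x y ⟨hx, hx'⟩ ⟨hy, hy'⟩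
    refine ⟨fun v hv => ?_, fun v hv => ?_⟩
    · rw [map_mul, Module.End.mul_apply]; exact hx _ (hy v hv)
    · rw [mul_inv_rev, map_mul, Module.End.mul_apply]; exact hy' _ (hx' v hv)
  inv_mem' := by
    rintro x ⟨hx, hx'⟩
    exact ⟨hx', by rw [inv_inv]; exact hx⟩

theorem mem_stabSub (ρ : Representation K Γ V) (U : Submodule K V) (γ : Γ) :
    γ ∈ stabSub ρ U ↔ (∀ v ∈ U, ρ γ v ∈ U) ∧ (∀ v ∈ U, ρ γ⁻¹ v ∈ U) := Iff.rfl

theorem resRep_sub_one_coe [Finite Γ] (ρ : Representation K Γ V) (U : Submodule K V)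
    (hU : ∀ a : Γ, ∀ v ∈ U, ρ a v ∈ U) (g : Γ) (v : U) :
    (((resRep ρ U hU g - 1) v : U) : V) = (ρ g - 1) (v : V) := by
  rw [LinearMap.sub_apply, LinearMap.sub_apply, Submodule.coe_sub, resRep_apply]
  rfl

theorem rho_inv_apply_self (ρ : Representation K Γ V) (g : Γ) (v : V) : ρ g⁻¹ (ρ g v) = v := by
  rw [← Module.End.mul_apply, ← map_mul, inv_mul_cancel, map_one, Module.End.one_apply]

theorem rho_apply_inv_self (ρ : Representation K Γ V) (g : Γ) (v : V) : ρ g (ρ g⁻¹ v) = v := by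
  rw [← Module.End.mul_apply, ← map_mul, mul_inv_cancel, map_one, Module.End.one_apply]

end Rep

section Scal
variable {K : Type*} [Field K] [CharP K 3] {V : Type*} [AddCommGroup V] [Module K V]

/-- an involution with a single generalized eigenvalue is a scalar (characteristic `3`) -/
theorem scalar_of_sq_one [FiniteDimensional K V] (T : Module.End K V) (c : K)
    (h : T.maxGenEigenspace c = ⊤) (hT : T * T = 1) : ∃ c' : K, T = c' • (1 : Module.End K V) := by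
  have h1 : (T - c • 1) ^ (finrank K V) = 0 := by
    rw [Module.End.maxGenEigenspace_eq_genEigenspace_finrank, Module.End.genEigenspace_nat] at h
    exact LinearMap.ker_eq_top.1 h
  have h2 : finrank K V ≤ 3 ^ (finrank K V) := (Nat.lt_pow_self (by norm_num)).le
  have h3 : (T - c • 1) ^ (3 ^ (finrank K V)) = 0 := pow_eq_zero_of_le h2 h1
  have hpoly : (Polynomial.X - Polynomial.C c : Polynomial K) ^ (3 ^ (finrank K V)) =
      Polynomial.X ^ (3 ^ (finrank K V)) - Polynomial.C (c ^ (3 ^ (finrank K V))) := by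
    rw [sub_pow_char_pow, ← Polynomial.C_pow]
  have h4 := congrArg (Polynomial.aeval T) hpoly
  simp only [map_pow, map_sub, Polynomial.aeval_X, Polynomial.aeval_C] at h4
  have h5 : (algebraMap K (Module.End K V)) c = c • 1 := by
    rw [Algebra.algebraMap_eq_smul_one]
  rw [h5, h3] at h4
  -- T ^ (3^n) = T
  obtain ⟨t, ht⟩ : Odd (3 ^ (finrank K V)) := Odd.pow (by decide)
  have h6 : T ^ (3 ^ (finrank K V)) = T := by
    rw [ht, pow_succ, pow_mul, pow_two, hT, one_pow, one_mul]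
  rw [h6] at h4
  refine ⟨c ^ (3 ^ (finrank K V)), ?_⟩
  have h7 := sub_eq_zero.1 h4.symm
  rw [h7, smul_pow, one_pow]

end Scal

end Cfsg.Agent.H1.QuadDer
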