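import Mathlib
import Cfsg.Agent.H1.QuadDerA

/-! The quadratic-action lemma for `p = 3` behind `l_p ≤ d_p`: main induction. -/

set_option linter.style.haveILetI false
set_option linter.unusedVariables false
set_option maxHeartbeats 1600000

namespace Cfsg.Agent.H1.QuadDer
open Module Cfsg.Agent.H1.FrobFree Cfsg.Agent.H1.HHMod
open scoped commutatorElement

universe u v w

section Main
variable {K : Type w} [Field K] [CharP K 3] [IsAlgClosed K]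

/-- the statement proved by induction on the dimension -/
def Stmt (K : Type w) [Field K] (d : ℕ) : Prop :=
  ∀ (Γ : Type u) [Group Γ] [Finite Γ] (V : Type v) [AddCommGroup V] [Module K V]
    [FiniteDimensional K V] (ρ : Representation K Γ V) (Q X : Subgroup Γ) (a : Γ),
    finrank K V = d → IsPGroup 2 Q → IsPGroup 3 X → (∀ b ∈ X, ∀ g ∈ Q, b * g * b⁻¹ ∈ Q) →
    a ∈ X → (∀ b ∈ X, a * b = b * a) → a ∈ ⁅X, X⁆ →
    (ρ a - 1) * (ρ a - 1) = 0 →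
    (∀ b ∈ X, ∀ b' ∈ X, (ρ a - 1) * (ρ b - 1) * (ρ b' - 1) = 0) →
    ∀ g ∈ Q, ρ ⁅g, a⁆ = 1

/-- abelian case of Theorem B for a quadratic element of order three -/
theorem ab_case {Γ : Type u} [Group Γ] [Finite Γ] {V : Type v} [AddCommGroup V] [Module K V]
    [FiniteDimensional K V] (ρ : Representation K Γ V) (D : Subgroup Γ) (hD : IsPGroup 2 D) (a : Γ)
    (ha3 : a ^ 3 = 1) (hDa : ∀ g ∈ D, a * g * a⁻¹ ∈ D) (hab : ∀ g ∈ D, ∀ h ∈ D, g * h = h * g)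
    (hq : (ρ a - 1) * (ρ a - 1) = 0) : ∀ g ∈ D, ρ ⁅g, a⁆ = 1 := by
  intro g hg
  by_contra hne
  have hc := core (p := 3) (q := 2) (K := K) (by norm_num) Γ D a V ρ hD hDa 1 le_rfl
    (by simpa using ha3) ⟨g, hg, by simpa using hne⟩ 2 (by rw [pow_two]; exact hq)
  rcases hc with h | ⟨n₀, m, _, _, _, _, h5, _⟩
  · norm_num at h
  · exact h5 hab

theorem faithful_case {d : ℕ} (IH : ∀ d' < d, Stmt.{u, v, w} K d')
    (Γ : Type u) [Group Γ] [Finite Γ] (V : Type v) [AddCommGroup V] [Module K V]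
    [FiniteDimensional K V] (ρ : Representation K Γ V) (hinj : ∀ γ : Γ, ρ γ = 1 → γ = 1)
    (X : Subgroup Γ) (a : Γ) (hd : finrank K V = d) (hX : IsPGroup 3 X) (haX : a ∈ X)
    (hac : ∀ b ∈ X, a * b = b * a) (ha' : a ∈ ⁅X, X⁆) (hq : (ρ a - 1) * (ρ a - 1) = 0)
    (h2 : ∀ b ∈ X, ∀ b' ∈ X, (ρ a - 1) * (ρ b - 1) * (ρ b' - 1) = 0) :
    ∀ Q : Subgroup Γ, IsPGroup 2 Q → (∀ b ∈ X, ∀ g ∈ Q, b * g * b⁻¹ ∈ Q) →
      ∀ g ∈ Q, ⁅g, a⁆ = 1 := by
  classical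
  suffices H : ∀ n : ℕ, ∀ Q : Subgroup Γ, Nat.card Q = n → IsPGroup 2 Q →
      (∀ b ∈ X, ∀ g ∈ Q, b * g * b⁻¹ ∈ Q) → ∀ g ∈ Q, ⁅g, a⁆ = 1 from fun Q => H _ Q rfl
  intro n
  induction n using Nat.strong_induction_on with
  | _ n IHn =>
  intro Q hn hQ hXQ
  have IHQ : ∀ Q₁ : Subgroup Γ, Q₁ ≤ Q → Q₁ ≠ Q → (∀ b ∈ X, ∀ g ∈ Q₁, b * g * b⁻¹ ∈ Q₁) →
      ∀ g ∈ Q₁, ⁅g, a⁆ = 1 := by
    intro Q₁ hle hne hinv
    have hlt : Nat.card Q₁ < n := by
      rw [← hn]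
      exact lt_of_le_of_ne (Subgroup.card_le_of_le hle)
        (fun h => hne (Subgroup.eq_of_le_of_card_ge hle h.ge))
    exact IHn _ hlt Q₁ rfl (hQ.to_le hle) hinv
  by_contra hcon
  push Not at hcon
  obtain ⟨g₀, hg₀, hg₀a⟩ := hcon
  haveI : Nontrivial V := by
    by_contra hV
    rw [not_nontrivial_iff_subsingleton] at hV
    apply hg₀a
    apply hinj
    apply LinearMap.ext
    intro v
    exact Subsingleton.elim _ _
  have h2K : (2 : K) ≠ 0 := by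
    intro h
    have h' : ((2 : ℕ) : K) = 0 := by exact_mod_cast h
    have := (CharP.cast_eq_zero_iff K 3 2).1 h'
    omega
  have h3K : (3 : K) = 0 := by
    have := (CharP.cast_eq_zero_iff K 3 3).2 (dvd_refl 3)
    exact_mod_cast this
  obtain ⟨v₁, hv₁⟩ := exists_ne (0 : V)
  have hsinj : ∀ c c' : K, c • (1 : Module.End K V) = c' • 1 → c = c' := by
    intro c c' h
    have h1 := congrArg (fun T => T v₁) h
    simp only [LinearMap.smul_apply, Module.End.one_apply] at h1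
    by_contra hne
    have h3 : (c - c') • v₁ = 0 := by rw [sub_smul, h1, sub_self]
    rcases smul_eq_zero.mp h3 with h4 | h4
    · exact hne (sub_eq_zero.mp h4)
    · exact hv₁ h4
  have hneg : (-1 : Module.End K V) ≠ 1 := by
    intro h
    have h1 := congrArg (fun T => T v₁) h
    simp only [LinearMap.neg_apply, Module.End.one_apply] at h1
    have h3 : (2 : K) • v₁ = 0 := by
      rw [two_smul]
      nth_rewrite 1 [← h1]
      exact neg_add_cancel v₁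
    rcases smul_eq_zero.mp h3 with h4 | h4
    · exact h2K h4
    · exact hv₁ h4
  -- a has order three
  have hcube : (ρ a - 1) ^ 3 = 0 := by rw [pow_succ, pow_two, hq, zero_mul]
  have hρa3 : ρ a ^ 3 = 1 := by
    have h := sub_one_pow_char 3 (ρ a)
    rw [hcube] at h
    exact (sub_eq_zero.mp h.symm)
  have ha3 : a ^ 3 = 1 := by
    apply hinj; rw [map_pow]; exact hρa3
  have ha3' : a * a * a = 1 := by rw [← ha3, pow_succ, pow_two]
  have hainvX : a⁻¹ ∈ X := X.inv_mem haX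
  have haQ : ∀ g ∈ Q, a * g * a⁻¹ ∈ Q := hXQ a haX
  have hmul : ∀ s t : Γ, a * (s * t) * a⁻¹ = (a * s * a⁻¹) * (a * t * a⁻¹) := by
    intro s t; group
  have hcommQ : ∀ h ∈ Q, ⁅h, a⁆ ∈ Q := by
    intro h hh
    rw [commutatorElement_def]
    have e : h * a * h⁻¹ * a⁻¹ = h * (a * h⁻¹ * a⁻¹) := by group
    rw [e]
    exact Q.mul_mem hh (haQ _ (Q.inv_mem hh))
  have hkill : ∀ h ∈ Q, ⁅h, a⁆ * a = a * ⁅h, a⁆ → ⁅h, a⁆ = 1 := by
    intro h hh hc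
    obtain ⟨k, hk⟩ := hQ ⟨⁅h, a⁆, hcommQ h hh⟩
    have hk' : ⁅h, a⁆ ^ (2 ^ k) = 1 := by simpa using congrArg Subtype.val hk
    exact comm_eq_one_of_commute a h ha3 k hk' hc
  -- Q = [Q, a]
  obtain ⟨Q₁, hQ₁def⟩ : ∃ Q₁ : Subgroup Γ, Q₁ = Subgroup.closure {x | ∃ h ∈ Q, x = ⁅h, a⁆} :=
    ⟨_, rfl⟩
  have hQ₁le : Q₁ ≤ Q := by
    rw [hQ₁def, Subgroup.closure_le]
    rintro x ⟨h, hh, rfl⟩
    exact hcommQ h hh
  have hbab : ∀ b ∈ X, b * a * b⁻¹ = a := by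
    intro b hb
    rw [← hac b hb, mul_inv_cancel_right]
  have hQ₁X : ∀ b ∈ X, ∀ g ∈ Q₁, b * g * b⁻¹ ∈ Q₁ := by
    intro b hb g hg
    rw [hQ₁def] at hg ⊢
    induction hg using Subgroup.closure_induction with
    | mem x hx =>
      obtain ⟨h, hh, rfl⟩ := hx
      apply Subgroup.subset_closure
      refine ⟨b * h * b⁻¹, hXQ b hb h hh, ?_⟩
      rw [conj_commutatorElement, hbab b hb]
    | one =>
      have e : b * 1 * b⁻¹ = 1 := by group
      rw [e]; exact Subgroup.one_mem _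
    | mul x y _ _ hx hy =>
      have e : b * (x * y) * b⁻¹ = (b * x * b⁻¹) * (b * y * b⁻¹) := by group
      rw [e]; exact Subgroup.mul_mem _ hx hy
    | inv x _ hx =>
      have e : b * x⁻¹ * b⁻¹ = (b * x * b⁻¹)⁻¹ := by group
      rw [e]; exact Subgroup.inv_mem _ hx
  have hQ₁eq : Q₁ = Q := by
    by_contra hne
    have h1 := IHQ Q₁ hQ₁le hne hQ₁X
    apply hg₀a
    apply hkill g₀ hg₀
    have h3 := h1 ⁅g₀, a⁆ (by rw [hQ₁def]; exact Subgroup.subset_closure ⟨g₀, hg₀, rfl⟩)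
    rw [commutatorElement_eq_one_iff_mul_comm] at h3
    exact h3
  have hQgen : ∀ g ∈ Q, g ∈ Subgroup.closure {x | ∃ h ∈ Q, x = ⁅h, a⁆} := by
    intro g hg
    rw [← hQ₁def, hQ₁eq]; exact hg
  -- the centre
  obtain ⟨Z, hZdef⟩ : ∃ Z : Subgroup Γ, Z = Q ⊓ Subgroup.centralizer (Q : Set Γ) := ⟨_, rfl⟩
  have hZQ : Z ≤ Q := by rw [hZdef]; exact inf_le_left
  have hZc : ∀ z ∈ Z, ∀ g ∈ Q, g * z = z * g := by
    intro z hz g hg
    rw [hZdef] at hz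
    exact (Subgroup.mem_centralizer_iff.1 hz.2 g hg)
  have hZmem : ∀ z ∈ Q, (∀ g ∈ Q, g * z = z * g) → z ∈ Z := by
    intro z hz h
    rw [hZdef]
    exact ⟨hz, Subgroup.mem_centralizer_iff.2 h⟩
  have hZX : ∀ b ∈ X, ∀ z ∈ Z, b * z * b⁻¹ ∈ Z := by
    intro b hb z hz
    apply hZmem _ (hXQ b hb z (hZQ hz))
    intro g hg
    have h1 : b⁻¹ * g * b ∈ Q := by
      have := hXQ b⁻¹ (X.inv_mem hb) g hg
      rwa [inv_inv] at this
    have h3 := hZc z hz _ h1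
    calc g * (b * z * b⁻¹) = b * ((b⁻¹ * g * b) * z) * b⁻¹ := by group
      _ = b * (z * (b⁻¹ * g * b)) * b⁻¹ := by rw [h3]
      _ = (b * z * b⁻¹) * g := by group
  have hZne : Z ≠ Q := by
    intro heq
    apply hg₀a
    apply hinj
    apply ab_case ρ Q hQ a ha3 haQ ?_ hq g₀ hg₀
    intro g hg h hh
    exact hZc h (by rw [heq]; exact hh) g hg
  have hZa : ∀ z ∈ Z, a * z = z * a := by
    intro z hz
    have h1 := IHQ Z hZQ hZne hZX z hz
    rw [commutatorElement_eq_one_iff_mul_comm] at h1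
    exact h1.symm
  -- squares and commutators are central
  have hQbot : Q ≠ ⊥ := by
    intro hb
    apply hg₀a
    rw [hb, Subgroup.mem_bot] at hg₀
    rw [hg₀, commutatorElement_one_left]
  have hΦne : phi0 Q ≠ Q := phi0_ne Q hQ hQbot
  have hΦa : ∀ u ∈ phi0 Q, a * u = u * a := by
    intro u hu
    have h1 := IHQ (phi0 Q) (phi0_le Q) hΦne (fun b hb => phi0_conj Q b (hXQ b hb)) u hu
    rw [commutatorElement_eq_one_iff_mul_comm] at h1
    exact h1.symm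
  have hΦZ : phi0 Q ≤ Z := by
    intro u hu
    apply hZmem u (phi0_le Q hu)
    intro g hg
    have hle : Subgroup.closure {x | ∃ h ∈ Q, x = ⁅h, a⁆} ≤ Subgroup.centralizer ({u} : Set Γ) := by
      rw [Subgroup.closure_le]
      rintro x ⟨h, hh, rfl⟩
      rw [SetLike.mem_coe, Subgroup.mem_centralizer_iff]
      intro w hw
      rw [Set.mem_singleton_iff] at hw
      subst hw
      have h1 : h⁻¹ * w * h ∈ phi0 Q := by
        have := phi0_conj Q h⁻¹ (fun g hg => Q.mul_mem (Q.mul_mem (Q.inv_mem hh) hg)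
          (Q.inv_mem (Q.inv_mem hh))) w hu
        rwa [inv_inv] at this
      have h3 := hΦa _ h1
      have c3 : Commute a w := hΦa w hu
      calc w * ⁅h, a⁆ = h * ((h⁻¹ * w * h) * a) * h⁻¹ * a⁻¹ := by
            rw [commutatorElement_def]; group
        _ = h * (a * (h⁻¹ * w * h)) * h⁻¹ * a⁻¹ := by rw [h3]
        _ = h * a * h⁻¹ * (w * a⁻¹) := by group
        _ = h * a * h⁻¹ * (a⁻¹ * w) := by rw [c3.inv_left.eq]
        _ = ⁅h, a⁆ * w := by rw [commutatorElement_def]; group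
    have h4 := hle (hQgen g hg)
    rw [Subgroup.mem_centralizer_iff] at h4
    exact (h4 u rfl).symm
  have hsq : ∀ g ∈ Q, g * g ∈ Z := fun g hg => hΦZ (sq_mem_phi0 Q hg)
  have hcm : ∀ g ∈ Q, ∀ h ∈ Q, ⁅g, h⁆ ∈ Z := fun g hg h hh => hΦZ (comm_mem_phi0 Q hg hh)
  -- bilinearity
  have hB1 : ∀ g ∈ Q, ∀ h ∈ Q, ∀ k ∈ Q, ⁅g * h, k⁆ = ⁅g, k⁆ * ⁅h, k⁆ := by
    intro g hg h hh k hk
    have hz := hZc _ (hcm h hh k hk) g hg
    have hz2 := hZc _ (hcm h hh k hk) _ (hZQ (hcm g hg k hk))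
    calc ⁅g * h, k⁆ = g * ⁅h, k⁆ * g⁻¹ * ⁅g, k⁆ := by simp only [commutatorElement_def]; group
      _ = ⁅h, k⁆ * g * g⁻¹ * ⁅g, k⁆ := by rw [hz]
      _ = ⁅h, k⁆ * ⁅g, k⁆ := by rw [mul_inv_cancel_right]
      _ = ⁅g, k⁆ * ⁅h, k⁆ := hz2.symm
  have hB2 : ∀ g ∈ Q, ∀ h ∈ Q, ∀ k ∈ Q, ⁅g, h * k⁆ = ⁅g, h⁆ * ⁅g, k⁆ := by
    intro g hg h hh k hk
    have hz := hZc _ (hcm g hg k hk) h hh
    calc ⁅g, h * k⁆ = ⁅g, h⁆ * (h * ⁅g, k⁆) * h⁻¹ := by simp only [commutatorElement_def]; group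
      _ = ⁅g, h⁆ * (⁅g, k⁆ * h) * h⁻¹ := by rw [hz]
      _ = ⁅g, h⁆ * ⁅g, k⁆ := by rw [← mul_assoc, mul_inv_cancel_right]
  have hB3 : ∀ g ∈ Q, ∀ h ∈ Q, ⁅g, h⁆ * ⁅g, h⁆ = 1 := by
    intro g hg h hh
    rw [← hB1 g hg g hg h hh, commutatorElement_eq_one_iff_mul_comm]
    exact (hZc _ (hsq g hg) h hh).symm
  have hB4 : ∀ g ∈ Q, ∀ h ∈ Q, ⁅a * g * a⁻¹, a * h * a⁻¹⁆ = ⁅g, h⁆ := by
    intro g hg h hh
    rw [← conj_commutatorElement, hZa _ (hcm g hg h hh), mul_inv_cancel_right]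
  -- weight spaces of Z
  obtain ⟨f, hf⟩ : ∃ f : ↥Z → Module.End K V, ∀ z, f z = ρ (z : Γ) := ⟨fun z => ρ z, fun _ => rfl⟩
  have hfcomm : ∀ z z' : ↥Z, Commute (f z) (f z') := by
    intro z z'
    rw [hf, hf]
    show ρ (z : Γ) * ρ (z' : Γ) = ρ (z' : Γ) * ρ (z : Γ)
    rw [← map_mul, ← map_mul, hZc z' z'.2 z (hZQ z.2)]
  have htri : ∀ z : ↥Z, ⨆ μ, (f z).maxGenEigenspace μ = ⊤ :=
    fun z => Module.End.iSup_maxGenEigenspace_eq_top (f z)
  obtain ⟨W, hW⟩ : ∃ W : (↥Z → K) → Submodule K V,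
      ∀ χ, W χ = ⨅ z, (f z).maxGenEigenspace (χ z) := ⟨_, fun _ => rfl⟩
  have hWtop : ⨆ χ, W χ = ⊤ := by
    have := Module.End.iSup_iInf_maxGenEigenspace_eq_top_of_iSup_maxGenEigenspace_eq_top_of_commute
      f (fun z z' _ => hfcomm z z') htri
    simp_rw [hW]
    exact this
  have hWind : iSupIndep W := by
    have := Module.End.independent_iInf_maxGenEigenspace_of_forall_mapsTo f
      (fun z z' φ => Module.End.mapsTo_maxGenEigenspace_of_comm (hfcomm z' z) φ)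
    have e : W = fun χ => ⨅ z, (f z).maxGenEigenspace (χ z) := funext hW
    rw [e]
    exact this
  have hWcomm : ∀ γ : Γ, (∀ z ∈ Z, γ * z = z * γ) → ∀ χ, ∀ v ∈ W χ, ρ γ v ∈ W χ := by
    intro γ hγ χ v hv
    rw [hW, Submodule.mem_iInf] at hv ⊢
    intro z
    have hc : Commute (f z) (ρ γ) := by
      rw [hf]
      show ρ (z : Γ) * ρ γ = ρ γ * ρ (z : Γ)
      rw [← map_mul, ← map_mul, hγ z z.2]
    exact Module.End.mapsTo_maxGenEigenspace_of_comm hc (χ z) (hv z)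
  have htw : ∀ b : Γ, ∀ (hb : ∀ z ∈ Z, b⁻¹ * z * b ∈ Z), ∀ χ : ↥Z → K, ∀ v ∈ W χ,
      ρ b v ∈ W (fun z => χ ⟨b⁻¹ * z * b, hb z z.2⟩) := by
    intro b hb χ v hv
    rw [hW, Submodule.mem_iInf] at hv ⊢
    intro z
    have h1 := hv ⟨b⁻¹ * z * b, hb z z.2⟩
    rw [Module.End.mem_maxGenEigenspace] at h1 ⊢
    obtain ⟨k, hk⟩ := h1
    refine ⟨k, ?_⟩
    obtain ⟨c, hc⟩ : ∃ c : K, c = χ ⟨b⁻¹ * z * b, hb z z.2⟩ := ⟨_, rfl⟩
    rw [← hc] at hk
    suffices hgoal : ((f z - c • 1) ^ k) (ρ b v) = 0 by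
      rw [hc] at hgoal
      exact hgoal
    have e0 : ρ b * ρ (b⁻¹ * (z : Γ) * b) = ρ (z : Γ) * ρ b := by
      rw [← map_mul, ← map_mul]
      congr 1
      group
    have hsemi : SemiconjBy (ρ b) (f ⟨b⁻¹ * z * b, hb z z.2⟩ - c • 1) (f z - c • 1) := by
      unfold SemiconjBy
      rw [hf, hf, mul_sub, sub_mul]
      congr 1
      rw [mul_smul_comm, smul_mul_assoc, mul_one, one_mul]
    have h3 := (hsemi.pow_right k).eq
    have h4 := congrArg (fun T => T v) h3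
    simp only [Module.End.mul_apply] at h4
    rw [← h4, hk, map_zero]
  by_cases hB : ∃ χ₀, W χ₀ = ⊤
  swap
  · -- several weights
    push Not at hB
    apply hg₀a
    apply hinj
    have key : ∀ χ, ∀ v ∈ W χ, ρ ⁅g₀, a⁆ v = v := by
      intro χ
      by_cases hinvX : ∀ b ∈ X, ∀ v ∈ W χ, ρ b v ∈ W χ
      · -- smaller dimension
        have hlt : finrank K (W χ) < d := by
          rw [← hd]
          exact Submodule.finrank_lt (hB χ)
        obtain ⟨L, hLdef⟩ : ∃ L : Subgroup Γ, L = Q ⊔ X := ⟨_, rfl⟩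
        have hQL : Q ≤ L := by rw [hLdef]; exact le_sup_left
        have hXL : X ≤ L := by rw [hLdef]; exact le_sup_right
        have hLst : L ≤ stabSub ρ (W χ) := by
          rw [hLdef]
          apply sup_le
          · intro g hg
            rw [mem_stabSub]
            exact ⟨hWcomm g (fun z hz => hZc z hz g hg) χ,
              hWcomm g⁻¹ (fun z hz => hZc z hz g⁻¹ (Q.inv_mem hg)) χ⟩
          · intro b hb
            rw [mem_stabSub]
            exact ⟨hinvX b hb, hinvX b⁻¹ (X.inv_mem hb)⟩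
        obtain ⟨ρL, hρL⟩ : ∃ ρL : Representation K ↥L V, ρL = ρ.comp L.subtype := ⟨_, rfl⟩
        have hρLapp : ∀ γ : ↥L, ρL γ = ρ (γ : Γ) := by
          intro γ; rw [hρL]; rfl
        have hUinv : ∀ γ : ↥L, ∀ v ∈ W χ, ρL γ v ∈ W χ := by
          intro γ v hv
          rw [hρLapp]
          exact ((mem_stabSub ρ (W χ) γ).1 (hLst γ.2)).1 v hv
        have haL : a ∈ L := hXL haX
        have hcommmap : (⁅X.subgroupOf L, X.subgroupOf L⁆).map L.subtype = ⁅X, X⁆ := by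
          rw [Subgroup.map_commutator, Subgroup.subgroupOf_map_subtype, inf_of_le_left hXL]
        have ha'' : (⟨a, haL⟩ : ↥L) ∈ ⁅X.subgroupOf L, X.subgroupOf L⁆ := by
          rw [← hcommmap] at ha'
          obtain ⟨y, hy, hya⟩ := ha'
          have : y = ⟨a, haL⟩ := Subtype.ext hya
          rw [← this]; exact hy
        have hIH := IH (finrank K (W χ)) hlt ↥L ↥(W χ) (resRep ρL (W χ) hUinv) (Q.subgroupOf L)
          (X.subgroupOf L) ⟨a, haL⟩ rfl hQ.comap_subtype hX.comap_subtype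
          (by
            intro b hb g hg
            rw [Subgroup.mem_subgroupOf] at hb hg ⊢
            simpa using hXQ _ hb _ hg)
          (Subgroup.mem_subgroupOf.2 haX)
          (by
            intro b hb
            rw [Subgroup.mem_subgroupOf] at hb
            exact Subtype.ext (hac _ hb))
          ha''
          (by
            apply LinearMap.ext
            intro v
            apply Subtype.ext
            rw [Module.End.mul_apply, resRep_sub_one_coe, resRep_sub_one_coe, hρLapp]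
            have := congrArg (fun T => T (v : V)) hq
            simpa using this)
          (by
            intro b hb b' hb'
            rw [Subgroup.mem_subgroupOf] at hb hb'
            apply LinearMap.ext
            intro v
            apply Subtype.ext
            rw [Module.End.mul_apply, Module.End.mul_apply, resRep_sub_one_coe, resRep_sub_one_coe,
              resRep_sub_one_coe, hρLapp, hρLapp, hρLapp]
            have := congrArg (fun T => T (v : V)) (h2 _ hb _ hb')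
            simpa using this)
        intro v hv
        have h5 := hIH ⟨g₀, hQL hg₀⟩ (Subgroup.mem_subgroupOf.2 hg₀)
        have h6 := congrArg (fun T => ((T ⟨v, hv⟩ : ↥(W χ)) : V)) h5
        simp only [Module.End.one_apply] at h6
        rw [resRep_apply, hρLapp] at h6
        exact h6
      · push Not at hinvX
        obtain ⟨b, hb, v₀, hv₀, hv₀'⟩ := hinvX
        have hbZ : ∀ z ∈ Z, b⁻¹ * z * b ∈ Z := by
          intro z hz
          have := hZX b⁻¹ (X.inv_mem hb) z hz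
          rwa [inv_inv] at this
        have hbZ' : ∀ z ∈ Z, (b⁻¹)⁻¹ * z * b⁻¹ ∈ Z := by
          intro z hz
          rw [inv_inv]
          exact hZX b hb z hz
        obtain ⟨χ₁, hχ₁⟩ : ∃ χ₁ : ↥Z → K, χ₁ = fun z : ↥Z => χ ⟨b⁻¹ * (z : Γ) * b, hbZ z z.2⟩ :=
          ⟨_, rfl⟩
        obtain ⟨χ₂, hχ₂⟩ : ∃ χ₂ : ↥Z → K,
            χ₂ = fun z : ↥Z => χ ⟨(b⁻¹)⁻¹ * (z : Γ) * b⁻¹, hbZ' z z.2⟩ :=
          ⟨_, rfl⟩
        have hne₁ : χ₁ ≠ χ := by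
          intro h
          apply hv₀'
          have := htw b hbZ χ v₀ hv₀
          rw [← hχ₁, h] at this
          exact this
        have hne₂ : χ₂ ≠ χ := by
          intro h
          apply hne₁
          rw [hχ₁]
          funext z
          have h1 := congrFun h ⟨b⁻¹ * z * b, hbZ z z.2⟩
          rw [hχ₂] at h1
          simp only at h1
          rw [← h1]
          congr 1
          apply Subtype.ext
          show (b⁻¹)⁻¹ * (b⁻¹ * (z : Γ) * b) * b⁻¹ = (z : Γ)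
          group
        have htriv : ∀ v ∈ W χ, ρ a v = v := by
          intro v hv
          have hav : ∀ χ' : ↥Z → K, ∀ u ∈ W χ', (ρ a - 1) u ∈ W χ' := by
            intro χ' u hu
            rw [LinearMap.sub_apply, Module.End.one_apply]
            exact Submodule.sub_mem _ (hWcomm a hZa χ' u hu) hu
          have hu₀ : (ρ a - 1) v ∈ W χ := hav χ v hv
          have hu₁ : (ρ a - 1) (ρ b v) ∈ W χ₁ := by
            rw [hχ₁]; exact hav _ _ (htw b hbZ χ v hv)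
          have hu₂ : (ρ a - 1) (ρ b⁻¹ v) ∈ W χ₂ := by
            rw [hχ₂]; exact hav _ _ (htw b⁻¹ hbZ' χ v hv)
          have h5 := congrArg (fun T => T v) (h2 b⁻¹ (X.inv_mem hb) b hb)
          simp only [Module.End.mul_apply, LinearMap.zero_apply] at h5
          have h6 : (ρ b⁻¹ - 1) ((ρ b - 1) v) = (2 : K) • v - ρ b v - ρ b⁻¹ v := by
            simp only [LinearMap.sub_apply, Module.End.one_apply, map_sub, rho_inv_apply_self]
            rw [two_smul]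
            abel
          rw [h6, map_sub, map_sub, map_smul] at h5
          have h7 : (2 : K) • (ρ a - 1) v = (ρ a - 1) (ρ b v) + (ρ a - 1) (ρ b⁻¹ v) := by
            have := sub_eq_zero.1 h5
            rw [sub_eq_iff_eq_add] at this
            rw [this]
            abel
          have h8 : (2 : K) • (ρ a - 1) v ∈ W χ := Submodule.smul_mem _ _ hu₀
          have h9 : (2 : K) • (ρ a - 1) v ∈ ⨆ j, ⨆ (_ : j ≠ χ), W j := by
            rw [h7]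
            apply Submodule.add_mem
            · exact (le_iSup₂ (f := fun j (_ : j ≠ χ) => W j) χ₁ hne₁) hu₁
            · exact (le_iSup₂ (f := fun j (_ : j ≠ χ) => W j) χ₂ hne₂) hu₂
          have h10 := Submodule.disjoint_def.1 (hWind χ) _ h8 h9
          rcases smul_eq_zero.mp h10 with h11 | h11
          · exact absurd h11 h2K
          · rw [LinearMap.sub_apply, Module.End.one_apply] at h11
            exact sub_eq_zero.1 h11
        intro v hv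
        have e1 : ρ a⁻¹ v = v := by
          have := htriv v hv
          calc ρ a⁻¹ v = ρ a⁻¹ (ρ a v) := by rw [this]
            _ = v := rho_inv_apply_self ρ a v
        have e2 : ρ g₀⁻¹ v ∈ W χ :=
          hWcomm g₀⁻¹ (fun z hz => hZc z hz g₀⁻¹ (Q.inv_mem hg₀)) χ v hv
        rw [commutatorElement_def, map_mul, map_mul, map_mul, Module.End.mul_apply,
          Module.End.mul_apply, Module.End.mul_apply, e1, htriv _ e2, rho_apply_inv_self]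
    apply LinearMap.ext
    intro v
    have hv : v ∈ ⨆ χ, W χ := by rw [hWtop]; exact Submodule.mem_top
    refine Submodule.iSup_induction W (motive := fun v => ρ ⁅g₀, a⁆ v = (1 : Module.End K V) v) hv
      (fun χ v hv => key χ v hv) (by simp) (fun x y hx hy => by rw [map_add, hx, hy, map_add])
  -- a single weight: Z acts by scalars
  obtain ⟨χ₀, hχ₀⟩ := hB
  have hSC : ∀ z ∈ Z, z * z = 1 → ρ z = 1 ∨ ρ z = -1 := by
    intro z hz hzz
    have h1 : (f ⟨z, hz⟩).maxGenEigenspace (χ₀ ⟨z, hz⟩) = ⊤ := by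
      have := hχ₀
      rw [hW, iInf_eq_top] at this
      exact this ⟨z, hz⟩
    rw [hf] at h1
    have hTT : ρ z * ρ z = 1 := by rw [← map_mul, hzz, map_one]
    obtain ⟨c', hc'⟩ := scalar_of_sq_one (ρ z) _ h1 hTT
    have h3 : (c' * c') • (1 : Module.End K V) = (1 : K) • 1 := by
      rw [hc', smul_mul_smul_comm, mul_one] at hTT
      rw [hTT, one_smul]
    have h4 : c' * c' = 1 := hsinj _ _ h3
    rcases mul_self_eq_one_iff.mp h4 with h | h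
    · left; rw [hc', h, one_smul]
    · right; rw [hc', h, neg_smul, one_smul]
  -- (*)
  have hstar : ∀ w ∈ Q, ⁅w, a * w * a⁻¹⁆ = 1 → a * w * a⁻¹ = w := by
    intro w hw hf1
    obtain ⟨w₁, hw₁⟩ : ∃ w₁, w₁ = a * w * a⁻¹ := ⟨_, rfl⟩
    obtain ⟨w₂, hw₂⟩ : ∃ w₂, w₂ = a * w₁ * a⁻¹ := ⟨_, rfl⟩
    have hw₃ : a * w₂ * a⁻¹ = w := by
      rw [hw₂, hw₁]
      have e : a * (a * (a * w * a⁻¹) * a⁻¹) * a⁻¹ = (a * a * a) * w * (a * a * a)⁻¹ := by group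
      rw [e, ha3', one_mul, inv_one, mul_one]
    have c01 : w * w₁ = w₁ * w := by
      rw [hw₁]; exact commutatorElement_eq_one_iff_mul_comm.1 hf1
    have c12 : w₁ * w₂ = w₂ * w₁ := by
      calc w₁ * w₂ = (a * w * a⁻¹) * (a * w₁ * a⁻¹) := by rw [← hw₁, ← hw₂]
        _ = a * (w * w₁) * a⁻¹ := (hmul _ _).symm
        _ = a * (w₁ * w) * a⁻¹ := by rw [c01]
        _ = (a * w₁ * a⁻¹) * (a * w * a⁻¹) := hmul _ _
        _ = w₂ * w₁ := by rw [← hw₁, ← hw₂]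
    have c20 : w₂ * w = w * w₂ := by
      calc w₂ * w = (a * w₁ * a⁻¹) * (a * w₂ * a⁻¹) := by rw [← hw₂, hw₃]
        _ = a * (w₁ * w₂) * a⁻¹ := (hmul _ _).symm
        _ = a * (w₂ * w₁) * a⁻¹ := by rw [c12]
        _ = (a * w₂ * a⁻¹) * (a * w₁ * a⁻¹) := hmul _ _
        _ = w * w₂ := by rw [← hw₂, hw₃]
    have hw₁Q : w₁ ∈ Q := by rw [hw₁]; exact haQ w hw
    have hw₂Q : w₂ ∈ Q := by rw [hw₂]; exact haQ w₁ hw₁Q
    have hkc : ∀ x ∈ ({w, w₁, w₂} : Set Γ), ∀ y ∈ ({w, w₁, w₂} : Set Γ), x * y = y * x := by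
      intro x hx y hy
      simp only [Set.mem_insert_iff, Set.mem_singleton_iff] at hx hy
      rcases hx with hx | hx | hx <;> rcases hy with hy | hy | hy <;> rw [hx, hy] <;>
        first | exact c01 | exact c01.symm | exact c12 | exact c12.symm | exact c20 | exact c20.symm
    have hDcomm := closure_comm ({w, w₁, w₂} : Set Γ) hkc
    have hDQ : Subgroup.closure ({w, w₁, w₂} : Set Γ) ≤ Q := by
      rw [Subgroup.closure_le]
      intro x hx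
      simp only [Set.mem_insert_iff, Set.mem_singleton_iff] at hx
      rcases hx with rfl | rfl | rfl
      · exact hw
      · exact hw₁Q
      · exact hw₂Q
    have hDa : ∀ g ∈ Subgroup.closure ({w, w₁, w₂} : Set Γ),
        a * g * a⁻¹ ∈ Subgroup.closure ({w, w₁, w₂} : Set Γ) := by
      intro g hg
      induction hg using Subgroup.closure_induction with
      | mem x hx =>
        apply Subgroup.subset_closure
        simp only [Set.mem_insert_iff, Set.mem_singleton_iff] at hx ⊢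
        rcases hx with rfl | rfl | rfl
        · right; left; exact hw₁.symm
        · right; right; exact hw₂.symm
        · left; exact hw₃
      | one =>
        have e : a * 1 * a⁻¹ = 1 := by group
        rw [e]; exact Subgroup.one_mem _
      | mul x y _ _ hx hy =>
        rw [hmul]; exact Subgroup.mul_mem _ hx hy
      | inv x _ hx =>
        have e : a * x⁻¹ * a⁻¹ = (a * x * a⁻¹)⁻¹ := by group
        rw [e]; exact Subgroup.inv_mem _ hx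
    have h5 := ab_case ρ (Subgroup.closure ({w, w₁, w₂} : Set Γ)) (hQ.to_le hDQ) a ha3 hDa hDcomm hq
      w (Subgroup.subset_closure (by simp))
    have h6 := hinj _ h5
    rw [commutatorElement_eq_one_iff_mul_comm] at h6
    calc a * w * a⁻¹ = (w * a) * a⁻¹ := by rw [h6]
      _ = w := mul_inv_cancel_right w a
  -- (**)
  have hCZ : ∀ c ∈ Q, a * c = c * a → c ∈ Z := by
    intro c hc hca
    apply hZmem c hc
    intro g hg
    have hle : Subgroup.closure {x | ∃ h ∈ Q, x = ⁅h, a⁆} ≤ Subgroup.centralizer ({c} : Set Γ) := by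
      rw [Subgroup.closure_le]
      rintro x ⟨h, hh, rfl⟩
      rw [SetLike.mem_coe, Subgroup.mem_centralizer_iff]
      intro c' hc'
      rw [Set.mem_singleton_iff] at hc'
      subst hc'
      have hz : ⁅c', h⁆ ∈ Z := hcm c' hc h hh
      have e1 : c' * a * c'⁻¹ = a := by rw [← hca, mul_inv_cancel_right]
      have e2 : c' * h * c'⁻¹ = ⁅c', h⁆ * h := by rw [commutatorElement_def]; group
      have e3 : c' * ⁅h, a⁆ * c'⁻¹ = ⁅⁅c', h⁆ * h, a⁆ := by rw [conj_commutatorElement, e1, e2]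
      have hcz : Commute a ⁅c', h⁆ := hZa _ hz
      have e4 : ⁅⁅c', h⁆ * h, a⁆ = ⁅c', h⁆ * ⁅h, a⁆ * ⁅c', h⁆⁻¹ := by
        calc ⁅⁅c', h⁆ * h, a⁆ = ⁅c', h⁆ * (h * a * h⁻¹) * (⁅c', h⁆⁻¹ * a⁻¹) := by
              rw [commutatorElement_def (⁅c', h⁆ * h) a]; group
          _ = ⁅c', h⁆ * (h * a * h⁻¹) * (a⁻¹ * ⁅c', h⁆⁻¹) := by rw [hcz.inv_inv.eq.symm]
          _ = ⁅c', h⁆ * ⁅h, a⁆ * ⁅c', h⁆⁻¹ := by rw [commutatorElement_def h a]; group
      have e5 : ⁅c', h⁆ * ⁅h, a⁆ * ⁅c', h⁆⁻¹ = ⁅h, a⁆ := by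
        rw [← hZc _ hz _ (hcommQ h hh), mul_inv_cancel_right]
      have e6 : c' * ⁅h, a⁆ * c'⁻¹ = ⁅h, a⁆ := by rw [e3, e4, e5]
      exact mul_inv_eq_iff_eq_mul.1 e6
    have h4 := hle (hQgen g hg)
    rw [Subgroup.mem_centralizer_iff] at h4
    exact (h4 c rfl).symm
  -- signs
  obtain ⟨θ, hθ⟩ : ∃ θ : Γ → K, ∀ γ, θ γ = if ρ γ = 1 then 1 else -1 := ⟨_, fun _ => rfl⟩
  have hθ1 : θ 1 = 1 := by rw [hθ, if_pos (map_one ρ)]
  have hθρ : ∀ z ∈ Z, z * z = 1 → ρ z = θ z • (1 : Module.End K V) := by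
    intro z hz hzz
    rw [hθ]
    rcases hSC z hz hzz with h | h
    · rw [if_pos h, h, one_smul]
    · have hne : ρ z ≠ 1 := by rw [h]; exact hneg
      rw [if_neg hne, h, neg_smul, one_smul]
  have hθmul : ∀ z ∈ Z, ∀ z' ∈ Z, z * z = 1 → z' * z' = 1 → θ (z * z') = θ z * θ z' := by
    intro z hz z' hz' hzz hzz'
    have hcomm : z * z' = z' * z := hZc z' hz' z (hZQ hz)
    have hzz'' : (z * z') * (z * z') = 1 := by
      calc (z * z') * (z * z') = z * (z' * z) * z' := by group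
        _ = z * (z * z') * z' := by rw [hcomm]
        _ = (z * z) * (z' * z') := by group
        _ = 1 := by rw [hzz, hzz', one_mul]
    have h1 := hθρ (z * z') (Z.mul_mem hz hz') hzz''
    rw [map_mul, hθρ z hz hzz, hθρ z' hz' hzz', smul_mul_smul_comm, mul_one] at h1
    exact (hsinj _ _ h1).symm
  have hθneg : ∀ w ∈ Q, w ∉ Z → θ ⁅w, a * w * a⁻¹⁆ = -1 := by
    intro w hw hwZ
    rw [hθ]
    have hne : ρ ⁅w, a * w * a⁻¹⁆ ≠ 1 := by
      intro h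
      have h1 := hinj _ h
      have h3 := hstar w hw h1
      apply hwZ
      apply hCZ w hw
      calc a * w = (a * w * a⁻¹) * a := by group
        _ = w * a := by rw [h3]
    rw [if_neg hne]
  have hS1 : ∀ g ∈ Q, ∀ h ∈ Q, ∀ k ∈ Q, θ ⁅g * h, k⁆ = θ ⁅g, k⁆ * θ ⁅h, k⁆ := by
    intro g hg h hh k hk
    rw [hB1 g hg h hh k hk]
    exact hθmul _ (hcm g hg k hk) _ (hcm h hh k hk) (hB3 g hg k hk) (hB3 h hh k hk)
  have hS2 : ∀ g ∈ Q, ∀ h ∈ Q, ∀ k ∈ Q, θ ⁅g, h * k⁆ = θ ⁅g, h⁆ * θ ⁅g, k⁆ := by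
    intro g hg h hh k hk
    rw [hB2 g hg h hh k hk]
    exact hθmul _ (hcm g hg h hh) _ (hcm g hg k hk) (hB3 g hg h hh) (hB3 g hg k hk)
  -- counting
  have hcount : ∀ x ∈ Q, ∀ h ∈ Q, x ∉ Z → ⁅h, a⁆ ∉ Z →
      x * ⁅h, a⁆ ∈ Z ∨ x * (a * ⁅h, a⁆ * a⁻¹) ∈ Z ∨ x * (a * (a * ⁅h, a⁆ * a⁻¹) * a⁻¹) ∈ Z := by
    intro x hx h hh hxZ hyZ
    by_contra hcon
    push Not at hcon
    obtain ⟨hc0, hc1, hc2⟩ := hcon
    obtain ⟨y₀, hy₀⟩ : ∃ y₀, y₀ = ⁅h, a⁆ := ⟨_, rfl⟩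
    obtain ⟨y₁, hy₁⟩ : ∃ y₁, y₁ = a * y₀ * a⁻¹ := ⟨_, rfl⟩
    obtain ⟨y₂, hy₂⟩ : ∃ y₂, y₂ = a * y₁ * a⁻¹ := ⟨_, rfl⟩
    obtain ⟨x', hx'⟩ : ∃ x', x' = a * x * a⁻¹ := ⟨_, rfl⟩
    rw [← hy₀] at hyZ hc0 hc1 hc2
    rw [← hy₁] at hc1 hc2
    rw [← hy₂] at hc2
    have hy₀Q : y₀ ∈ Q := by rw [hy₀]; exact hcommQ h hh
    have hy₁Q : y₁ ∈ Q := by rw [hy₁]; exact haQ _ hy₀Q
    have hy₂Q : y₂ ∈ Q := by rw [hy₂]; exact haQ _ hy₁Q
    have hx'Q : x' ∈ Q := by rw [hx']; exact haQ _ hx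
    have hy₃ : a * y₂ * a⁻¹ = y₀ := by
      rw [hy₂, hy₁]
      have e : a * (a * (a * y₀ * a⁻¹) * a⁻¹) * a⁻¹ = (a * a * a) * y₀ * (a * a * a)⁻¹ := by group
      rw [e, ha3', one_mul, inv_one, mul_one]
    have h012 : y₀ * y₁ * y₂ = 1 := by
      rw [hy₂, hy₁, hy₀, commutatorElement_def]
      have e : h * a * h⁻¹ * a⁻¹ * (a * (h * a * h⁻¹ * a⁻¹) * a⁻¹) *
          (a * (a * (h * a * h⁻¹ * a⁻¹) * a⁻¹) * a⁻¹) = h * (a * a * a) * h⁻¹ * (a * a * a)⁻¹ := by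
        group
      rw [e, ha3', mul_one, inv_one, mul_one, mul_inv_cancel]
    have h120 : y₁ * y₂ * y₀ = 1 := by
      have e : y₁ * y₂ * y₀ = y₀⁻¹ * (y₀ * y₁ * y₂) * y₀ := by group
      rw [e, h012]; group
    -- the five values
    have v0 := hθneg (x * y₀) (Q.mul_mem hx hy₀Q) hc0
    have v1 := hθneg (x * y₁) (Q.mul_mem hx hy₁Q) hc1
    have v2 := hθneg (x * y₂) (Q.mul_mem hx hy₂Q) hc2
    have vx := hθneg x hx hxZ
    have vy := hθneg y₀ hy₀Q hyZ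
    rw [hmul, ← hx', ← hy₁] at v0
    rw [hmul, ← hx', ← hy₂] at v1
    rw [hmul, ← hx', hy₃] at v2
    rw [← hx'] at vx
    rw [← hy₁] at vy
    have vy1 : θ ⁅y₁, y₂⁆ = -1 := by
      rw [hy₂]
      nth_rewrite 1 [hy₁]
      rw [hB4 y₀ hy₀Q y₁ hy₁Q]; exact vy
    have vy2 : θ ⁅y₂, y₀⁆ = -1 := by
      rw [← hy₃]
      nth_rewrite 1 [hy₂]
      rw [hB4 y₁ hy₁Q y₂ hy₂Q]; exact vy1
    rw [hS1 x hx y₀ hy₀Q _ (Q.mul_mem hx'Q hy₁Q), hS2 x hx x' hx'Q y₁ hy₁Q,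
      hS2 y₀ hy₀Q x' hx'Q y₁ hy₁Q, vx, vy] at v0
    rw [hS1 x hx y₁ hy₁Q _ (Q.mul_mem hx'Q hy₂Q), hS2 x hx x' hx'Q y₂ hy₂Q,
      hS2 y₁ hy₁Q x' hx'Q y₂ hy₂Q, vx, vy1] at v1
    rw [hS1 x hx y₂ hy₂Q _ (Q.mul_mem hx'Q hy₀Q), hS2 x hx x' hx'Q y₀ hy₀Q,
      hS2 y₂ hy₂Q x' hx'Q y₀ hy₀Q, vx, vy2] at v2
    have hP : θ ⁅x, y₁⁆ * θ ⁅x, y₂⁆ * θ ⁅x, y₀⁆ = 1 := by
      rw [← hS2 x hx y₁ hy₁Q y₂ hy₂Q, ← hS2 x hx _ (Q.mul_mem hy₁Q hy₂Q) y₀ hy₀Q, h120,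
        commutatorElement_one_right, hθ1]
    have hR : θ ⁅y₀, x'⁆ * θ ⁅y₁, x'⁆ * θ ⁅y₂, x'⁆ = 1 := by
      rw [← hS1 y₀ hy₀Q y₁ hy₁Q x' hx'Q, ← hS1 _ (Q.mul_mem hy₀Q hy₁Q) y₂ hy₂Q x' hx'Q, h012,
        commutatorElement_one_left, hθ1]
    have hfin : (1 : K) = -1 := by
      calc (1 : K) = (θ ⁅x, y₁⁆ * θ ⁅x, y₂⁆ * θ ⁅x, y₀⁆) * (θ ⁅y₀, x'⁆ * θ ⁅y₁, x'⁆ * θ ⁅y₂, x'⁆) := by
            rw [hP, hR, one_mul]
        _ = (-1 * θ ⁅x, y₁⁆ * (θ ⁅y₀, x'⁆ * -1)) * (-1 * θ ⁅x, y₂⁆ * (θ ⁅y₁, x'⁆ * -1)) *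
            (-1 * θ ⁅x, y₀⁆ * (θ ⁅y₂, x'⁆ * -1)) := by ring
        _ = (-1) * (-1) * (-1) := by rw [v0, v1, v2]
        _ = -1 := by ring
    apply h2K
    have : (2 : K) = 1 + 1 := by norm_num
    rw [this]
    nth_rewrite 1 [hfin]
    exact neg_add_cancel 1
  -- the final contradiction
  have hex : ∃ h ∈ Q, ⁅h, a⁆ ∉ Z := by
    by_contra hcon
    push Not at hcon
    apply hg₀a
    apply hkill g₀ hg₀
    exact (hZa _ (hcon g₀ hg₀)).symm
  obtain ⟨h₀, hh₀, hxZ⟩ := hex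
  obtain ⟨x, hxdef⟩ : ∃ x, x = ⁅h₀, a⁆ := ⟨_, rfl⟩
  rw [← hxdef] at hxZ
  have hxQ : x ∈ Q := by rw [hxdef]; exact hcommQ h₀ hh₀
  obtain ⟨X₁, hX₁⟩ : ∃ X₁ : Subgroup Γ, ∀ γ, γ ∈ X₁ ↔ (γ ∈ X ∧ γ * x * γ⁻¹ * x⁻¹ ∈ Z) := by
    have h_one : (1 : Γ) ∈ X ∧ (1 : Γ) * x * 1⁻¹ * x⁻¹ ∈ Z := by
      refine ⟨X.one_mem, ?_⟩
      have e : (1 : Γ) * x * 1⁻¹ * x⁻¹ = 1 := by group
      rw [e]; exact Z.one_mem
    have h_mul : ∀ γ δ : Γ, (γ ∈ X ∧ γ * x * γ⁻¹ * x⁻¹ ∈ Z) → (δ ∈ X ∧ δ * x * δ⁻¹ * x⁻¹ ∈ Z) →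
        (γ * δ ∈ X ∧ (γ * δ) * x * (γ * δ)⁻¹ * x⁻¹ ∈ Z) := by
      rintro γ δ ⟨hγ, hγ'⟩ ⟨hδ, hδ'⟩
      refine ⟨X.mul_mem hγ hδ, ?_⟩
      have e : γ * δ * x * (γ * δ)⁻¹ * x⁻¹ =
          (γ * (δ * x * δ⁻¹ * x⁻¹) * γ⁻¹) * (γ * x * γ⁻¹ * x⁻¹) := by
        group
      rw [e]
      exact Z.mul_mem (hZX γ hγ _ hδ') hγ'
    have h_inv : ∀ γ : Γ, (γ ∈ X ∧ γ * x * γ⁻¹ * x⁻¹ ∈ Z) →
        (γ⁻¹ ∈ X ∧ γ⁻¹ * x * γ⁻¹⁻¹ * x⁻¹ ∈ Z) := by
      rintro γ ⟨hγ, hγ'⟩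
      refine ⟨X.inv_mem hγ, ?_⟩
      have e : γ⁻¹ * x * γ⁻¹⁻¹ * x⁻¹ = γ⁻¹ * (γ * x * γ⁻¹ * x⁻¹)⁻¹ * γ⁻¹⁻¹ := by group
      rw [e]
      exact hZX γ⁻¹ (X.inv_mem hγ) _ (Z.inv_mem hγ')
    exact ⟨{ carrier := {γ | γ ∈ X ∧ γ * x * γ⁻¹ * x⁻¹ ∈ Z}
             one_mem' := h_one
             mul_mem' := fun {γ δ} hγ hδ => h_mul γ δ hγ hδ
             inv_mem' := fun {γ} hγ => h_inv γ hγ }, fun γ => Iff.rfl⟩
  have haX₁ : a ∉ X₁ := by
    intro h
    rw [hX₁] at h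
    obtain ⟨z, hz⟩ : ∃ z, z = a * x * a⁻¹ * x⁻¹ := ⟨_, rfl⟩
    have hzZ : z ∈ Z := by rw [hz]; exact h.2
    have e : a * x * a⁻¹ = z * x := by rw [hz]; group
    have h1 : ⁅x, a * x * a⁻¹⁆ = 1 := by
      rw [e, commutatorElement_eq_one_iff_mul_comm, ← mul_assoc, hZc z hzZ x hxQ]
    have h3 := hstar x hxQ h1
    apply hxZ
    apply hCZ x hxQ
    calc a * x = (a * x * a⁻¹) * a := by group
      _ = x * a := by rw [h3]
  have hdecomp : ∀ b ∈ X, ∃ α ∈ X, (∀ c ∈ X, α * c = c * α) ∧ α * b ∈ X₁ := by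
    intro b hb
    have hbx : ⁅b * h₀ * b⁻¹, a⁆ = b * x * b⁻¹ := by
      rw [hxdef, conj_commutatorElement, hbab b hb]
    have hbxZ : ⁅b * h₀ * b⁻¹, a⁆ ∉ Z := by
      rw [hbx]
      intro h
      apply hxZ
      have := hZX b⁻¹ (X.inv_mem hb) _ h
      have e : b⁻¹ * (b * x * b⁻¹) * b⁻¹⁻¹ = x := by group
      rwa [e] at this
    have hmemX₁ : ∀ γ ∈ X, x * (γ * x * γ⁻¹) ∈ Z → γ ∈ X₁ := by
      intro γ hγ hz
      rw [hX₁]
      refine ⟨hγ, ?_⟩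
      have hγx : γ * x * γ⁻¹ ∈ Q := hXQ γ hγ x hxQ
      have e : γ * x * γ⁻¹ * x⁻¹ = x⁻¹ * (x * (γ * x * γ⁻¹)) * x⁻¹ := by group
      rw [e, hZc _ hz x⁻¹ (Q.inv_mem hxQ)]
      have e2 : x * (γ * x * γ⁻¹) * x⁻¹ * x⁻¹ = (x * (γ * x * γ⁻¹)) * (x * x)⁻¹ := by group
      rw [e2]
      exact Z.mul_mem hz (Z.inv_mem (hsq x hxQ))
    rcases hcount x hxQ (b * h₀ * b⁻¹) (hXQ b hb h₀ hh₀) hxZ hbxZ with h | h | h
    · refine ⟨1, X.one_mem, fun c _ => by rw [one_mul, mul_one], ?_⟩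
      rw [one_mul]
      rw [hbx] at h
      exact hmemX₁ b hb h
    · refine ⟨a, haX, hac, ?_⟩
      rw [hbx] at h
      have e : a * (b * x * b⁻¹) * a⁻¹ = (a * b) * x * (a * b)⁻¹ := by group
      rw [e] at h
      exact hmemX₁ _ (X.mul_mem haX hb) h
    · refine ⟨a * a, X.mul_mem haX haX, ?_, ?_⟩
      · intro c hc
        rw [mul_assoc, hac c hc, ← mul_assoc, hac c hc, mul_assoc]
      · rw [hbx] at h
        have e : a * (a * (b * x * b⁻¹) * a⁻¹) * a⁻¹ = (a * a * b) * x * (a * a * b)⁻¹ := by group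
        rw [e] at h
        exact hmemX₁ _ (X.mul_mem (X.mul_mem haX haX) hb) h
  have hcomX₁ : ⁅X, X⁆ ≤ X₁ := by
    rw [Subgroup.commutator_le]
    intro b hb b' hb'
    obtain ⟨α, hα, hαc, hαb⟩ := hdecomp b hb
    obtain ⟨α', hα', hαc', hαb'⟩ := hdecomp b' hb'
    obtain ⟨γ, hγ⟩ : ∃ γ, γ = α * b := ⟨_, rfl⟩
    obtain ⟨γ', hγ'⟩ : ∃ γ', γ' = α' * b' := ⟨_, rfl⟩
    rw [← hγ] at hαb
    rw [← hγ'] at hαb'
    have hγX : γ ∈ X := ((hX₁ γ).1 hαb).1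
    have hγ'X : γ' ∈ X := ((hX₁ γ').1 hαb').1
    have hb_eq : b = α⁻¹ * γ := by rw [hγ]; group
    have hb'_eq : b' = α'⁻¹ * γ' := by rw [hγ']; group
    have hinvc : ∀ c ∈ X, α⁻¹ * c = c * α⁻¹ := by
      intro c hc
      have : Commute α c := hαc c hc
      exact this.inv_left.eq
    have hinvc' : ∀ c ∈ X, α'⁻¹ * c = c * α'⁻¹ := by
      intro c hc
      have : Commute α' c := hαc' c hc
      exact this.inv_left.eq
    have e1 : ⁅b, b'⁆ = ⁅γ, b'⁆ := by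
      rw [hb_eq]
      apply commutator_central_mul_left
      · exact hinvc b' hb'
      · exact hinvc _ (commutatorElement_mem X hγX hb')
    have e2 : ⁅b', γ⁆ = ⁅γ', γ⁆ := by
      rw [hb'_eq]
      apply commutator_central_mul_left
      · exact hinvc' γ hγX
      · exact hinvc' _ (commutatorElement_mem X hγ'X hγX)
    have e3 : ⁅b, b'⁆ = ⁅γ, γ'⁆ := by
      rw [e1, ← commutatorElement_inv, e2, commutatorElement_inv]
    rw [e3]
    exact commutatorElement_mem X₁ hαb hαb'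
  exact haX₁ (hcomX₁ ha')

end Main

end Cfsg.Agent.H1.QuadDer
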