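import Mathlib
import Cfsg.Agent.H1.QuadDerB
import Cfsg.Agent.H1.HHModP

/-! The quadratic-action lemma for `p = 3`: conclusion, and its form for actions on elementary
abelian groups. -/

set_option linter.style.haveILetI false
set_option linter.unusedVariables false
set_option maxHeartbeats 1600000

namespace Cfsg.Agent.H1.QuadDer
open Module Cfsg.Agent.H1.FrobFree Cfsg.Agent.H1.FrobFix Cfsg.Agent.H1.HHMod
open scoped commutatorElement TensorProduct

universe u v w

section Main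
variable {K : Type w} [Field K] [CharP K 3] [IsAlgClosed K]

theorem main : ∀ d, Stmt.{u, v, w} K d := by
  intro d
  induction d using Nat.strong_induction_on with
  | _ d IH =>
  intro Γ _ _ V _ _ _ ρ Q X a hd hQ hX hXQ haX hac ha' hq h2 g hg
  obtain ⟨π, hπ⟩ : ∃ π : Γ →* Γ ⧸ MonoidHom.ker ρ, π = QuotientGroup.mk' (MonoidHom.ker ρ) := ⟨_, rfl⟩
  obtain ⟨ρ', hρ'⟩ : ∃ ρ' : Representation K (Γ ⧸ MonoidHom.ker ρ) V,
      ρ' = QuotientGroup.lift (MonoidHom.ker ρ) ρ (fun g hg => MonoidHom.mem_ker.1 hg) := ⟨_, rfl⟩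
  have hρπ : ∀ γ : Γ, ρ' (π γ) = ρ γ := by
    intro γ
    rw [hρ', hπ]
    rfl
  have hinj : ∀ γ : Γ ⧸ MonoidHom.ker ρ, ρ' γ = 1 → γ = 1 := by
    intro γ hγ
    obtain ⟨g, rfl⟩ := QuotientGroup.mk'_surjective _ γ
    rw [← hπ, hρπ] at hγ
    rw [QuotientGroup.mk'_apply, QuotientGroup.eq_one_iff]
    exact MonoidHom.mem_ker.2 hγ
  have k1 : IsPGroup 3 (X.map π) := hX.map π
  have k2 : π a ∈ X.map π := Subgroup.mem_map_of_mem π haX
  have k3 : ∀ b ∈ X.map π, π a * b = b * π a := by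
    rintro _ ⟨b, hb, rfl⟩
    rw [← map_mul, ← map_mul, hac b hb]
  have k4 : π a ∈ ⁅X.map π, X.map π⁆ := by
    rw [← Subgroup.map_commutator]
    exact Subgroup.mem_map_of_mem π ha'
  have k5 : (ρ' (π a) - 1) * (ρ' (π a) - 1) = 0 := by rw [hρπ]; exact hq
  have k6 : ∀ b ∈ X.map π, ∀ b' ∈ X.map π, (ρ' (π a) - 1) * (ρ' b - 1) * (ρ' b' - 1) = 0 := by
    rintro _ ⟨b, hb, rfl⟩ _ ⟨b', hb', rfl⟩
    rw [hρπ, hρπ, hρπ]
    exact h2 b hb b' hb'
  have k7 : IsPGroup 2 (Q.map π) := hQ.map π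
  have k8 : ∀ b ∈ X.map π, ∀ g ∈ Q.map π, b * g * b⁻¹ ∈ Q.map π := by
    rintro _ ⟨b, hb, rfl⟩ _ ⟨g, hg, rfl⟩
    rw [← map_mul, ← map_inv, ← map_mul]
    exact Subgroup.mem_map_of_mem π (hXQ b hb g hg)
  have k9 : π g ∈ Q.map π := Subgroup.mem_map_of_mem π hg
  have hfin := faithful_case.{u, v, w} IH (Γ ⧸ MonoidHom.ker ρ) V ρ' hinj (X.map π) (π a) hd k1 k2
    k3 k4 k5 k6 (Q.map π) k7 k8 (π g) k9
  rw [← map_commutatorElement] at hfin
  rw [← hρπ, hfin, map_one]

end Main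

/-- the "derivation" `v ↦ a(v) v⁻¹` of an automorphism -/
def dl {A H : Type*} [Group A] [Group H] (φ : A →* MulAut H) (a : A) (v : H) : H := φ a v * v⁻¹

/-- linearization of an action on an elementary abelian group -/
def linRep {A : Type*} [Group A] {H : Type*} [CommGroup H] (p : ℕ) [Module (ZMod p) (Additive H)]
    (φ : A →* MulAut H) : Representation (ZMod p) A (Additive H) where
  toFun f := actLin p (φ f)
  map_one' := by
    refine LinearMap.ext fun v => ?_
    rw [actLin_apply, map_one, MulAut.one_apply, Module.End.one_apply]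
    rfl
  map_mul' := by
    intro f g
    refine LinearMap.ext fun v => ?_
    rw [Module.End.mul_apply, actLin_apply, actLin_apply, actLin_apply, map_mul, MulAut.mul_apply]
    rfl

theorem linRep_apply {A : Type*} [Group A] {H : Type*} [CommGroup H] (p : ℕ)
    [Module (ZMod p) (Additive H)] (φ : A →* MulAut H) (f : A) (w : Additive H) :
    linRep p φ f w = Additive.ofMul (φ f (Additive.toMul w)) := rfl

theorem linRep_sub_one_apply {A : Type*} [Group A] {H : Type*} [CommGroup H] (p : ℕ)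
    [Module (ZMod p) (Additive H)] (φ : A →* MulAut H) (f : A) (w : Additive H) :
    (linRep p φ f - 1) w = Additive.ofMul (dl φ f (Additive.toMul w)) := by
  rw [LinearMap.sub_apply, Module.End.one_apply, linRep_apply]
  show Additive.ofMul (φ f (Additive.toMul w)) - Additive.ofMul (Additive.toMul w) = _
  rw [← ofMul_div, div_eq_mul_inv]
  rfl

theorem linRep_eq_one {A : Type*} [Group A] {H : Type*} [CommGroup H] (p : ℕ)
    [Module (ZMod p) (Additive H)] (φ : A →* MulAut H) (f : A) (h : linRep p φ f = 1) : φ f = 1 := by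
  ext v
  have h2 := congrArg (fun T => T (Additive.ofMul v)) h
  simp only [Module.End.one_apply] at h2
  rw [linRep_apply] at h2
  exact Additive.ofMul.injective h2

/-- the relations, linearized -/
theorem linRep_quad1 {A : Type*} [Group A] {H : Type*} [CommGroup H] (p : ℕ)
    [Module (ZMod p) (Additive H)] (φ : A →* MulAut H) (a : A)
    (hq1 : ∀ v, dl φ a (dl φ a v) = 1) : (linRep p φ a - 1) * (linRep p φ a - 1) = 0 := by
  refine LinearMap.ext fun w => ?_
  rw [Module.End.mul_apply, linRep_sub_one_apply, linRep_sub_one_apply, LinearMap.zero_apply]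
  show Additive.ofMul (dl φ a (dl φ a (Additive.toMul w))) = 0
  rw [hq1]
  rfl

theorem linRep_quad2 {A : Type*} [Group A] {H : Type*} [CommGroup H] (p : ℕ)
    [Module (ZMod p) (Additive H)] (φ : A →* MulAut H) (a b b' : A)
    (hq2 : ∀ v, dl φ a (dl φ b (dl φ b' v)) = 1) :
    (linRep p φ a - 1) * (linRep p φ b - 1) * (linRep p φ b' - 1) = 0 := by
  refine LinearMap.ext fun w => ?_
  rw [Module.End.mul_apply, Module.End.mul_apply, linRep_sub_one_apply, linRep_sub_one_apply,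
    linRep_sub_one_apply, LinearMap.zero_apply]
  show Additive.ofMul (dl φ a (dl φ b (dl φ b' (Additive.toMul w)))) = 0
  rw [hq2]
  rfl

theorem bc_quad1 {F : Type*} [Field F] {V : Type*} [AddCommGroup V] [Module F V] {A : Type*} [Group A]
    (K : Type*) [Field K] [Algebra F K] (ρ : Representation F A V) (a : A)
    (h : (ρ a - 1) * (ρ a - 1) = 0) : (bcRepG K ρ a - 1) * (bcRepG K ρ a - 1) = 0 := by
  rw [bcRepG_apply, ← LinearMap.baseChange_one F V, ← LinearMap.baseChange_sub,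
    ← LinearMap.baseChange_mul, h, LinearMap.baseChange_zero]

theorem bc_quad2 {F : Type*} [Field F] {V : Type*} [AddCommGroup V] [Module F V] {A : Type*} [Group A]
    (K : Type*) [Field K] [Algebra F K] (ρ : Representation F A V) (a b b' : A)
    (h : (ρ a - 1) * (ρ b - 1) * (ρ b' - 1) = 0) :
    (bcRepG K ρ a - 1) * (bcRepG K ρ b - 1) * (bcRepG K ρ b' - 1) = 0 := by
  rw [bcRepG_apply, bcRepG_apply, bcRepG_apply, ← LinearMap.baseChange_one F V,
    ← LinearMap.baseChange_sub, ← LinearMap.baseChange_sub, ← LinearMap.baseChange_sub,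
    ← LinearMap.baseChange_mul, ← LinearMap.baseChange_mul, h, LinearMap.baseChange_zero]

/-- the `p = 3`, `q = 2` case for actions on elementary abelian groups -/
theorem act_main3 {p q : ℕ} (hp3 : p = 3) (hq2' : q = 2) {A : Type u} [Group A] [Finite A]
    {H : Type u} [CommGroup H] [Finite H]
    [Module (ZMod p) (Additive H)] (φ : A →* MulAut H) (X Qb : Subgroup A) (hX : IsPGroup p X)
    (hQb : IsPGroup q Qb) (hXQ : ∀ b ∈ X, ∀ g ∈ Qb, b * g * b⁻¹ ∈ Qb) (a : A) (haX : a ∈ X)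
    (hac : ∀ b ∈ X, a * b = b * a) (ha' : a ∈ ⁅X, X⁆) (hq1 : ∀ v, dl φ a (dl φ a v) = 1)
    (hq2 : ∀ b ∈ X, ∀ b' ∈ X, ∀ v, dl φ a (dl φ b (dl φ b' v)) = 1) :
    ∀ g ∈ Qb, φ ⁅g, a⁆ = 1 := by
  subst hp3
  subst hq2'
  intro g hg
  haveI : Fact (Nat.Prime 3) := ⟨by norm_num⟩
  haveI : Finite (Additive H) := inferInstanceAs (Finite H)
  haveI : FiniteDimensional (ZMod 3) (Additive H) := Module.Finite.of_finite
  have h1 := main.{u, u, 0} (K := AlgebraicClosure (ZMod 3))
    (finrank (AlgebraicClosure (ZMod 3)) (AlgebraicClosure (ZMod 3) ⊗[ZMod 3] Additive H)) A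
    (AlgebraicClosure (ZMod 3) ⊗[ZMod 3] Additive H)
    (bcRepG (AlgebraicClosure (ZMod 3)) (linRep 3 φ)) Qb X a rfl hQb hX hXQ haX hac ha'
    (bc_quad1 _ _ a (linRep_quad1 3 φ a hq1))
    (fun b hb b' hb' => bc_quad2 _ _ a b b' (linRep_quad2 3 φ a b b' (hq2 b hb b' hb'))) g hg
  exact linRep_eq_one 3 φ _ (bcRepG_eq_one _ _ _ h1)

/-- in a quadratic situation the element has order dividing `p` -/
theorem pow_eq_one_of_quad {R : Type*} [Ring R] (T : R) (h : (T - 1) * (T - 1) = 0) (n : ℕ) :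
    T ^ n = 1 + n • (T - 1) := by
  induction n with
  | zero => simp
  | succ n ih =>
    obtain ⟨N, hN⟩ : ∃ N, N = T - 1 := ⟨_, rfl⟩
    have hT : T = 1 + N := by rw [hN]; abel
    rw [← hN] at h ih ⊢
    rw [pow_succ, ih, hT]
    rw [mul_add, mul_one, add_mul, one_mul, smul_mul_assoc, h, smul_zero, add_zero, succ_nsmul]
    abel

/-- general form: a central element of `X` lying in `X'` and acting quadratically (with the
additional triple relation) on an elementary abelian `p`-group, `p` odd, centralizes every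
`X`-invariant `q`-subgroup. -/
theorem act_main_module {A : Type u} [Group A] [Finite A] {H : Type u} [CommGroup H] [Finite H]
    (p : ℕ) [hp : Fact p.Prime] (hp2 : p ≠ 2) [Module (ZMod p) (Additive H)]
    (φ : A →* MulAut H) (hinj : ∀ γ : A, φ γ = 1 → γ = 1) (X : Subgroup A) (hX : IsPGroup p X)
    (q : ℕ) [hq : Fact q.Prime] (hpq : p ≠ q) (Qb : Subgroup A) (hQb : IsPGroup q Qb)
    (hXQ : ∀ b ∈ X, ∀ g ∈ Qb, b * g * b⁻¹ ∈ Qb) (a : A) (haX : a ∈ X)
    (hac : ∀ b ∈ X, a * b = b * a) (ha' : a ∈ ⁅X, X⁆) (hq1 : ∀ v, dl φ a (dl φ a v) = 1)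
    (hq2 : ∀ b ∈ X, ∀ b' ∈ X, ∀ v, dl φ a (dl φ b (dl φ b' v)) = 1) :
    ∀ g ∈ Qb, ⁅g, a⁆ = 1 := by
  classical
  have hpp : p.Prime := hp.out
  haveI : Finite (Additive H) := inferInstanceAs (Finite H)
  haveI : FiniteDimensional (ZMod p) (Additive H) := Module.Finite.of_finite
  have hquad := linRep_quad1 p φ a hq1
  have hap : a ^ p = 1 := by
    apply hinj
    apply linRep_eq_one p φ
    rw [map_pow, pow_eq_one_of_quad _ hquad p]
    have : (p : ℕ) • (linRep p φ a - 1) = 0 := by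
      rw [← Nat.cast_smul_eq_nsmul (ZMod p), ZMod.natCast_self, zero_smul]
    rw [this, add_zero]
  intro g hg
  by_contra hne
  have hne' : φ ⁅g, a⁆ ≠ 1 := fun h => hne (hinj _ h)
  obtain ⟨K, hK⟩ : ∃ K : Type, K = AlgebraicClosure (ZMod p) := ⟨_, rfl⟩
  have hact : ∃ g ∈ Qb, bcRepG (AlgebraicClosure (ZMod p)) (linRep p φ) ⁅g, a ^ (p ^ (1 - 1))⁆ ≠ 1 := by
    refine ⟨g, hg, ?_⟩
    intro h
    apply hne'
    rw [Nat.sub_self, pow_zero, pow_one] at h
    exact linRep_eq_one p φ _ (bcRepG_eq_one _ _ _ h)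
  have hs : (bcRepG (AlgebraicClosure (ZMod p)) (linRep p φ) a - 1) ^ 2 = 0 := by
    rw [pow_two]
    exact bc_quad1 _ _ a hquad
  have hc := core (K := AlgebraicClosure (ZMod p)) hpq A Qb a
    (AlgebraicClosure (ZMod p) ⊗[ZMod p] Additive H)
    (bcRepG (AlgebraicClosure (ZMod p)) (linRep p φ)) hQb (hXQ a haX) 1 le_rfl
    (by rw [pow_one]; exact hap) hact 2 hs
  have hp3 : 3 ≤ p := by
    have := hpp.two_le
    omega
  rcases hc with h | ⟨n₀, m, h1, h2, h3, h4, h5, h6⟩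
  · rw [pow_one] at h
    omega
  · have hn₀ : n₀ = 1 := le_antisymm h2 h1
    subst hn₀
    rw [Nat.sub_self, pow_zero, one_mul, pow_one] at h6
    have hp3' : p = 3 := by omega
    rw [pow_one, hp3'] at h4
    have hq2'' : q = 2 := by
      have hdvd : q ∣ 2 := by
        have : q ∣ q ^ m := dvd_pow_self q (by omega)
        rw [← h4] at this
        exact this
      exact (Nat.prime_dvd_prime_iff_eq hq.out Nat.prime_two).1 hdvd
    exact hne' (act_main3 hp3' hq2'' φ X Qb hX hQb hXQ a haX hac ha' hq1 hq2 g hg)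

/-- the same for a group given as commutative of exponent `p` by hypotheses -/
theorem act_main {A : Type u} [Group A] [Finite A] {H : Type u} [Group H] [Finite H]
    (hcomm : ∀ a b : H, a * b = b * a) (p : ℕ) [hp : Fact p.Prime] (hp2 : p ≠ 2)
    (hexp : ∀ x : H, x ^ p = 1)
    (φ : A →* MulAut H) (hinj : ∀ γ : A, φ γ = 1 → γ = 1) (X : Subgroup A) (hX : IsPGroup p X)
    (q : ℕ) [hq : Fact q.Prime] (hpq : p ≠ q) (Qb : Subgroup A) (hQb : IsPGroup q Qb)
    (hXQ : ∀ b ∈ X, ∀ g ∈ Qb, b * g * b⁻¹ ∈ Qb) (a : A) (haX : a ∈ X)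
    (hac : ∀ b ∈ X, a * b = b * a) (ha' : a ∈ ⁅X, X⁆) (hq1 : ∀ v, dl φ a (dl φ a v) = 1)
    (hq2 : ∀ b ∈ X, ∀ b' ∈ X, ∀ v, dl φ a (dl φ b (dl φ b' v)) = 1) :
    ∀ g ∈ Qb, ⁅g, a⁆ = 1 := by
  classical
  letI : CommGroup H := { (inferInstance : Group H) with mul_comm := hcomm }
  letI : Module (ZMod p) (Additive H) := AddCommGroup.zmodModule (n := p) (by
    intro x
    show Additive.ofMul ((Additive.toMul x) ^ p) = 0
    rw [hexp]
    rfl)
  exact act_main_module p hp2 φ hinj X hX q hpq Qb hQb hXQ a haX hac ha' hq1 hq2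

end Cfsg.Agent.H1.QuadDer
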