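import Mathlib
import Cfsg.Agent.H1.QuadDerC
import Cfsg.Agent.H1.HHAbE
import Cfsg.Agent.Lib.Lead.CarterSys

/-! `p`-length is at most the derived length of a Sylow `p`-subgroup, `p` odd (Hall–Higman). -/

set_option linter.style.haveILetI false
set_option linter.unusedVariables false
set_option maxHeartbeats 800000

namespace Cfsg.Agent.H1.QuadDer
open Cfsg Cfsg.Agent.Lib.Lead.PSolvable Cfsg.Agent.H1 Cfsg.Agent.H1.HHAb Cfsg.Agent.H1.FrobFree
open scoped commutatorElement

universe u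

section KC
variable {G : Type u} [Group G] [Finite G] {p : ℕ} [hp : Fact p.Prime]

omit [Finite G] hp in
theorem dser_map {H : Type*} [Group H] (f : G →* H) (Q : Subgroup G) (n : ℕ) :
    dser (Q.map f) n = (dser Q n).map f := by
  induction n with
  | zero => rfl
  | succ n ih =>
    show ⁅dser (Q.map f) n, dser (Q.map f) n⁆ = (⁅dser Q n, dser Q n⁆).map f
    rw [ih, Subgroup.map_commutator]

/-- commutator of an element with an element of a normal subgroup, as an element of it -/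
def cm (P : Subgroup G) [hPn : P.Normal] (g : G) (x : ↥P) : ↥P :=
  ⟨⁅g, (x : G)⁆, by
    rw [commutatorElement_def]
    exact P.mul_mem (hPn.conj_mem x x.2 g) (P.inv_mem x.2)⟩

omit [Finite G] in
theorem cm_coe (P : Subgroup G) [hPn : P.Normal] (g : G) (x : ↥P) :
    ((cm P g x : ↥P) : G) = ⁅g, (x : G)⁆ := rfl

theorem dl_fq (P : Subgroup G) [hPn : P.Normal] (hP : IsPGroup p ↥P) (g : G) (x : ↥P) :
    dl (fqActQ P hP) (QuotientGroup.mk g : G ⧸ P) (QuotientGroup.mk x : FQ P) =
      (QuotientGroup.mk (cm P g x) : FQ P) := by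
  unfold dl
  rw [fqActQ_mk, ← QuotientGroup.mk_inv, ← QuotientGroup.mk_mul]
  congr 1

/-- the key step: if `B` is a `p`-subgroup normalized by `O_p(G)` with `B'` abelian then
`B' ≤ O_p(G)` (`p` odd, `O_{p'}(G) = 1`). -/
theorem comm_le_pCore (hp2 : p ≠ 2) (hsol : IsPSolvable p G) (hbot : pPrimeCore p G = ⊥)
    (B : Subgroup G) (hB : IsPGroup p B)
    (hPB : ∀ x ∈ pCore p G, ∀ b ∈ B, x * b * x⁻¹ ∈ B)
    (hab : ∀ x ∈ ⁅B, B⁆, ∀ y ∈ ⁅B, B⁆, x * y = y * x) : ⁅B, B⁆ ≤ pCore p G := by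
  classical
  have hpp : p.Prime := hp.out
  have hBp : IsPGroup p ↥(pCore p G) := Cfsg.Agent.H1.pCore_isPGroup p
  have hc : Subgroup.centralizer ((pCore p G : Subgroup G) : Set G) ≤ pCore p G :=
    centralizer_pCore_le hsol hbot
  have hBmax : ∀ N : Subgroup G, N.Normal → IsPGroup p ↥N → N ≤ pCore p G :=
    fun N hN hNp => Cfsg.Agent.H1.le_pCore hN hNp
  have hsolA : IsPSolvable p (G ⧸ pCore p G) := IsPSolvable.quotient (pCore p G) hsol
  have hOpA : pCore p (G ⧸ pCore p G) = ⊥ :=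
    Cfsg.Agent.Lead.ExpSix.pCore_quotient_self_eq_bot (pCore p G) rfl
  have hCK := Cfsg.Agent.H1.centralizer_pPrimeCore_le hsolA hOpA
  obtain ⟨K, hK⟩ : ∃ K, K = pPrimeCore p (G ⧸ pCore p G) := ⟨_, rfl⟩
  rw [← hK] at hCK
  haveI hKn : K.Normal := by rw [hK]; exact Cfsg.Agent.H1.pPrimeCore_normal p
  have hKcop : (Nat.card K).Coprime p := by rw [hK]; exact Cfsg.Agent.H1.pPrimeCore_coprime p
  obtain ⟨π, hπ⟩ : ∃ π : G →* G ⧸ pCore p G, π = QuotientGroup.mk' (pCore p G) := ⟨_, rfl⟩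
  obtain ⟨X, hXdef⟩ : ∃ X, X = B.map π := ⟨_, rfl⟩
  have hX : IsPGroup p X := by rw [hXdef]; exact hB.map π
  by_contra hcon
  have hXX : ⁅X, X⁆ ≠ ⊥ := by
    intro h
    apply hcon
    intro a ha
    have h1 : π a ∈ ⁅X, X⁆ := by
      rw [hXdef, ← Subgroup.map_commutator]
      exact Subgroup.mem_map_of_mem π ha
    rw [h, Subgroup.mem_bot, hπ] at h1
    exact (QuotientGroup.eq_one_iff a).1 h1
  haveI : Group.IsNilpotent ↥X := hX.isNilpotent
  obtain ⟨N, hNdef⟩ : ∃ N : Subgroup ↥X, N = ⁅(⊤ : Subgroup ↥X), (⊤ : Subgroup ↥X)⁆ := ⟨_, rfl⟩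
  haveI hNn : N.Normal := by rw [hNdef]; infer_instance
  have hmapN : N.map X.subtype = ⁅X, X⁆ := by
    rw [hNdef, Subgroup.map_commutator, ← MonoidHom.range_eq_map, Subgroup.range_subtype]
  have hNne : N ≠ ⊥ := by
    intro h
    apply hXX
    rw [← hmapN, h, Subgroup.map_bot]
  have h1 := Cfsg.Agent.Lib.Lead.CarterSys.normal_inf_center_ne_bot_of_nilpotent N hNne
  rcases Subgroup.bot_or_exists_ne_one (N ⊓ Subgroup.center ↥X) with h2 | ⟨z, hz, hz1⟩
  · exact h1 h2
  obtain ⟨ab, hab_def⟩ : ∃ ab : G ⧸ pCore p G, ab = (z : G ⧸ pCore p G) := ⟨_, rfl⟩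
  have habX : ab ∈ X := by rw [hab_def]; exact z.2
  have hab' : ab ∈ ⁅X, X⁆ := by
    rw [← hmapN, hab_def]
    exact Subgroup.mem_map_of_mem X.subtype hz.1
  have habc : ∀ b ∈ X, ab * b = b * ab := by
    intro b hb
    have h3 := Subgroup.mem_center_iff.1 hz.2 ⟨b, hb⟩
    have h4 := congrArg Subtype.val h3
    rw [hab_def]
    simpa using h4.symm
  have hab1 : ab ≠ 1 := by
    intro h
    apply hz1
    apply Subtype.ext
    rw [← hab_def, h]; rfl
  -- lift
  have hab'' : ab ∈ (⁅B, B⁆).map π := by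
    rw [Subgroup.map_commutator, ← hXdef]; exact hab'
  obtain ⟨a, haA, haπ⟩ := hab''
  -- the action
  obtain ⟨φ, hφ⟩ : ∃ φ : G ⧸ pCore p G →* MulAut (FQ (pCore p G)), φ = fqActQ (pCore p G) hBp :=
    ⟨_, rfl⟩
  have hinj : ∀ γ : G ⧸ pCore p G, φ γ = 1 → γ = 1 := by
    intro γ hγ
    rw [hφ] at hγ
    exact fqActQ_faithful (pCore p G) hBp hBmax hc γ hγ
  have hmk : ∀ g : G, π g = QuotientGroup.mk g := by intro g; rw [hπ]; rfl
  have hdl : ∀ (g : G) (x : ↥(pCore p G)),
      dl φ (π g) (QuotientGroup.mk x : FQ (pCore p G)) =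
        (QuotientGroup.mk (cm (pCore p G) g x) : FQ (pCore p G)) := by
    intro g x
    rw [hφ, hmk]
    exact dl_fq (pCore p G) hBp g x
  -- commutator facts
  have hPA : ∀ x ∈ pCore p G, ∀ y ∈ ⁅B, B⁆, x * y * x⁻¹ ∈ ⁅B, B⁆ := by
    intro x hx y hy
    have h3 : (MulAut.conj x).toMonoidHom y ∈ (⁅B, B⁆).map (MulAut.conj x).toMonoidHom :=
      Subgroup.mem_map_of_mem _ hy
    rw [Subgroup.map_commutator] at h3
    have hle : B.map (MulAut.conj x).toMonoidHom ≤ B := by
      rintro _ ⟨b, hb, rfl⟩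
      exact hPB x hx b hb
    have h4 := Subgroup.commutator_mono hle hle h3
    simpa [MulAut.conj_apply] using h4
  have hcmgen : ∀ D : Subgroup G, (∀ x ∈ pCore p G, ∀ b ∈ D, x * b * x⁻¹ ∈ D) →
      ∀ b ∈ D, ∀ x : ↥(pCore p G), ((cm (pCore p G) b x : ↥(pCore p G)) : G) ∈ D := by
    intro D hD b hb x
    rw [cm_coe, commutatorElement_def]
    have h3 := hD x x.2 b⁻¹ (D.inv_mem hb)
    have e : b * (x : G) * b⁻¹ * (x : G)⁻¹ = b * ((x : G) * b⁻¹ * (x : G)⁻¹) := by group
    rw [e]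
    exact D.mul_mem hb h3
  have hcmB := hcmgen B hPB
  have hcmA := hcmgen ⁅B, B⁆ hPA
  have hq1 : ∀ v, dl φ ab (dl φ ab v) = 1 := by
    intro v
    induction v using QuotientGroup.induction_on with | _ x =>
    rw [← haπ, hdl, hdl]
    have : cm (pCore p G) a (cm (pCore p G) a x) = 1 := by
      apply Subtype.ext
      rw [cm_coe, Subgroup.coe_one, commutatorElement_eq_one_iff_mul_comm]
      exact hab a haA _ (hcmA a haA x)
    rw [this]; rfl
  have hq2 : ∀ b ∈ X, ∀ b' ∈ X, ∀ v, dl φ ab (dl φ b (dl φ b' v)) = 1 := by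
    intro b hb b' hb' v
    rw [hXdef] at hb hb'
    obtain ⟨g, hg, rfl⟩ := hb
    obtain ⟨g', hg', rfl⟩ := hb'
    induction v using QuotientGroup.induction_on with | _ x =>
    rw [← haπ, hdl, hdl, hdl]
    have : cm (pCore p G) a (cm (pCore p G) g (cm (pCore p G) g' x)) = 1 := by
      apply Subtype.ext
      rw [cm_coe, Subgroup.coe_one, commutatorElement_eq_one_iff_mul_comm]
      apply hab a haA
      rw [cm_coe]
      exact Subgroup.commutator_mem_commutator hg (hcmB g' hg' x)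
    rw [this]; rfl
  -- `ab` does not centralize `K`
  have habK : ab ∉ K := by
    intro h
    obtain ⟨k, hk⟩ := hX ⟨ab, habX⟩
    have hk' : ab ^ p ^ k = 1 := by simpa using congrArg Subtype.val hk
    have h3 : orderOf ab ∣ p ^ k := orderOf_dvd_of_pow_eq_one hk'
    have h4 : orderOf ab ∣ Nat.card K := by
      have := orderOf_dvd_natCard (⟨ab, h⟩ : ↥K)
      rwa [Subgroup.orderOf_mk] at this
    have h6 : Nat.gcd (Nat.card K) (p ^ k) = 1 := Nat.Coprime.pow_right k hKcop
    have h5 : orderOf ab ∣ 1 := by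
      have := Nat.dvd_gcd h4 h3
      rwa [h6] at this
    exact hab1 (orderOf_eq_one_iff.1 (Nat.dvd_one.1 h5))
  have habC : ¬ ab ∈ Subgroup.centralizer (K : Set (G ⧸ pCore p G)) := fun h => habK (hCK h)
  have hXcop : (Nat.card X).Coprime (Nat.card K) := by
    obtain ⟨k, hk⟩ := IsPGroup.iff_card.1 hX
    rw [hk]
    exact Nat.Coprime.pow_left k hKcop.symm
  have hXs : Group.IsSolvable X := inferInstance
  obtain ⟨q, hqf, Psyl, hPX, hPz⟩ := exists_invariant_sylow_not_centralized X K hXcop hXs ab habC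
  obtain ⟨Qb, hQbdef⟩ : ∃ Qb : Subgroup (G ⧸ pCore p G), Qb = (Psyl : Subgroup K).map K.subtype :=
    ⟨_, rfl⟩
  rw [← hQbdef] at hPX hPz
  have hQbq : IsPGroup q Qb := by rw [hQbdef]; exact Psyl.isPGroup'.map _
  have hqp : q ≠ p := by
    intro hqp
    apply hPz
    have hKq : (Nat.card K).Coprime q := by rw [hqp]; exact hKcop
    have hPbot : (Psyl : Subgroup K) = ⊥ := by
      obtain ⟨j, hj⟩ := IsPGroup.iff_card.1 Psyl.isPGroup'
      have h2 : q ^ j ∣ Nat.card K := by rw [← hj]; exact Subgroup.card_subgroup_dvd_card _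
      have h3 : j = 0 := by
        by_contra hj0
        have h4 : q ∣ Nat.card K := dvd_trans (dvd_pow_self q hj0) h2
        have h5 := Nat.dvd_gcd h4 (dvd_refl q)
        rw [hKq] at h5
        exact hqf.out.one_lt.ne' (Nat.dvd_one.1 h5)
      rw [h3, pow_zero] at hj
      exact Subgroup.card_eq_one.1 hj
    rw [hQbdef, hPbot, Subgroup.map_bot, Subgroup.mem_centralizer_iff]
    intro w hw
    rw [SetLike.mem_coe, Subgroup.mem_bot] at hw
    rw [hw, one_mul, mul_one]
  have hXQ : ∀ b ∈ X, ∀ g ∈ Qb, b * g * b⁻¹ ∈ Qb := by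
    intro b hb g hg
    exact (Subgroup.mem_normalizer_iff.1 (hPX hb) g).1 hg
  have hfin := act_main (fq_comm (pCore p G) hBp) p hp2 (fq_exp (pCore p G) hBp) φ hinj X hX q
    (Ne.symm hqp) Qb hQbq hXQ ab habX habc hab' hq1 hq2
  apply hPz
  rw [Subgroup.mem_centralizer_iff]
  intro g hg
  have := hfin g hg
  rw [commutatorElement_eq_one_iff_mul_comm] at this
  exact this

/-- the last nontrivial term of the derived series of a Sylow `p`-subgroup lies in `O_p(G)` -/
theorem dser_le_pCore (hp2 : p ≠ 2) (hsol : IsPSolvable p G) (hbot : pPrimeCore p G = ⊥)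
    (S : Sylow p G) (d : ℕ) (hd : dser (S : Subgroup G) (d + 1) = ⊥) :
    dser (S : Subgroup G) d ≤ pCore p G := by
  have hPS : pCore p G ≤ S := pCore_le_sylow S
  rcases d with _ | e
  · have hc : Subgroup.centralizer ((pCore p G : Subgroup G) : Set G) ≤ pCore p G :=
      centralizer_pCore_le hsol hbot
    show (S : Subgroup G) ≤ pCore p G
    intro s hs
    apply hc
    rw [Subgroup.mem_centralizer_iff]
    intro x hx
    have h1 : ⁅x, s⁆ ∈ ⁅(S : Subgroup G), (S : Subgroup G)⁆ :=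
      Subgroup.commutator_mem_commutator (hPS hx) hs
    have h2 : ⁅(S : Subgroup G), (S : Subgroup G)⁆ = ⊥ := hd
    rw [h2, Subgroup.mem_bot, commutatorElement_eq_one_iff_mul_comm] at h1
    exact h1
  · obtain ⟨B, hBdef⟩ : ∃ B, B = dser (S : Subgroup G) e := ⟨_, rfl⟩
    have hA : dser (S : Subgroup G) (e + 1) = ⁅B, B⁆ := by rw [hBdef]; rfl
    have hAA : ⁅⁅B, B⁆, ⁅B, B⁆⁆ = ⊥ := by rw [← hA]; exact hd
    have hBS : B ≤ S := by rw [hBdef, ← dser_eq_map]; exact Subgroup.map_subtype_le _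
    rw [hA]
    apply comm_le_pCore hp2 hsol hbot B (S.isPGroup'.to_le hBS)
    · intro x hx b hb
      rw [hBdef, ← dser_eq_map] at hb ⊢
      obtain ⟨b', hb', rfl⟩ := hb
      have hn : (derivedSeries ↥(S : Subgroup G) e).Normal := inferInstance
      have := hn.conj_mem b' hb' ⟨x, hPS hx⟩
      exact ⟨_, this, rfl⟩
    · intro x hx y hy
      have h1 : ⁅x, y⁆ ∈ ⁅⁅B, B⁆, ⁅B, B⁆⁆ := Subgroup.commutator_mem_commutator hx hy
      rw [hAA, Subgroup.mem_bot, commutatorElement_eq_one_iff_mul_comm] at h1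
      exact h1

end KC

/-- Sylow `p`-subgroups have derived length at most `d` -/
def Hd (p d : ℕ) (G : Type*) [Group G] : Prop :=
  ∀ P : Sylow p G, derivedSeries ↥(P : Subgroup G) d = ⊥

theorem Hd.dser_eq_bot {p d : ℕ} {G : Type u} [Group G] [Finite G] (h : Hd p d G) (S : Sylow p G) :
    dser (S : Subgroup G) d = ⊥ := by
  rw [← dser_eq_map, h S, Subgroup.map_bot]

theorem Hd.of_quotient {p : ℕ} [Fact p.Prime] {G : Type u} [Group G] [Finite G] (N : Subgroup G)
    [N.Normal] (d : ℕ) (h : ∀ S : Sylow p G, dser (S : Subgroup G) d ≤ N) : Hd p d (G ⧸ N) := by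
  intro Sb
  obtain ⟨S, hS⟩ := Sylow.mapSurjective_surjective (QuotientGroup.mk'_surjective N) p Sb
  have h1 : dser (Sb : Subgroup (G ⧸ N)) d = ⊥ := by
    rw [← hS, Sylow.coe_mapSurjective, dser_map, eq_bot_iff]
    rintro _ ⟨x, hx, rfl⟩
    rw [Subgroup.mem_bot]
    exact (QuotientGroup.eq_one_iff x).2 (h S hx)
  rw [← dser_eq_map] at h1
  exact (Subgroup.map_eq_bot_iff_of_injective _ (Subgroup.subtype_injective _)).1 h1

theorem plength_le_dl_aux {p : ℕ} [hp : Fact p.Prime] (hp2 : p ≠ 2) :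
    ∀ (r : ℕ) (G : Type u) [Group G] [Finite G],
    Nat.card G ≤ r → IsPSolvable p G → ∀ d : ℕ, Hd p d G → PLengthLE p d G := by
  intro r
  induction r with
  | zero =>
    intro G _ _ hcard
    exact absurd hcard (by have := Nat.card_pos (α := G); omega)
  | succ r ih =>
    intro G _ _ hcard hsol d hd
    have hpp : p.Prime := hp.out
    by_cases hN : pPrimeCore p G = ⊥
    swap
    · have hlt : Nat.card (G ⧸ pPrimeCore p G) < Nat.card G := by
        have h1 := Subgroup.card_eq_card_quotient_mul_card_subgroup (pPrimeCore p G)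
        have h2 : 1 < Nat.card (pPrimeCore p G) := by
          rw [Subgroup.one_lt_card_iff_ne_bot]; exact hN
        have h3 := Nat.card_pos (α := G ⧸ pPrimeCore p G)
        nlinarith
      have hdQ : Hd p d (G ⧸ pPrimeCore p G) :=
        Hd.of_quotient _ d (fun S => by rw [hd.dser_eq_bot S]; exact bot_le)
      have h1 := ih (G ⧸ pPrimeCore p G) (by omega) (IsPSolvable.quotient _ hsol) d hdQ
      have h2 : PLengthLE p 0 ↥(pPrimeCore p G) := plength_zero_of_coprime (pPrimeCore_coprime p)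
      have := plength_extension (pPrimeCore p G) h2 h1
      rwa [zero_add] at this
    · by_cases htriv : Nat.card G = 1
      · have : Subsingleton G := (Nat.card_eq_one_iff_unique.mp htriv).1
        unfold PLengthLE
        exact Subsingleton.elim _ _
      haveI : Nontrivial G := by
        rw [← Finite.one_lt_card_iff_nontrivial]
        have := Nat.card_pos (α := G)
        omega
      have hB := pCore_ne_bot hsol hN
      have hBp : IsPGroup p ↥(pCore p G) := pCore_isPGroup p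
      rcases d with _ | d
      · exfalso
        apply hB
        obtain ⟨S⟩ : Nonempty (Sylow p G) := inferInstance
        have h1 := hd.dser_eq_bot S
        have h2 : (S : Subgroup G) = ⊥ := h1
        rw [eq_bot_iff, ← h2]
        exact pCore_le_sylow S
      have hlt : Nat.card (G ⧸ pCore p G) < Nat.card G := by
        have h1 := Subgroup.card_eq_card_quotient_mul_card_subgroup (pCore p G)
        have h2 : 1 < Nat.card (pCore p G) := by
          rw [Subgroup.one_lt_card_iff_ne_bot]; exact hB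
        have h3 := Nat.card_pos (α := G ⧸ pCore p G)
        nlinarith
      have hdQ : Hd p d (G ⧸ pCore p G) :=
        Hd.of_quotient _ d (fun S => dser_le_pCore hp2 hsol hN S d (hd.dser_eq_bot S))
      have h1 := ih (G ⧸ pCore p G) (by omega) (IsPSolvable.quotient _ hsol) d hdQ
      have h2 : PLengthLE p 1 ↥(pCore p G) := plength_one_of_isPGroup hBp
      have := plength_extension (pCore p G) h2 h1
      rwa [add_comm] at this

end Cfsg.Agent.H1.QuadDer
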