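import Mathlib
import Cfsg.Prelude.Def_Transfer
import Cfsg.Prelude.Def_PLocal
import Cfsg.Agent.H1.QuadThree

set_option autoImplicit false
set_option linter.style.haveILetI false
set_option linter.unusedVariables false
set_option linter.unusedSectionVars false

open scoped commutatorElement Pointwise

namespace Cfsg.Agent.H1

section stab5
variable {G : Type*} [Group G] [Finite G] {p : ℕ} [Fact p.Prime]

theorem isPStableOn_of_pSolvable (hp5 : 5 ≤ p)
    (hsol : Cfsg.IsPSolvable p G) (V : Subgroup G) [V.Normal]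
    (hV : Cfsg.IsElementaryAbelian p V) : Cfsg.IsPStableOn p V := by
  classical
  haveI : Fact (Nat.Prime 2) := ⟨Nat.prime_two⟩
  intro a hq
  by_contra hna
  obtain ⟨ā, hā⟩ : ∃ ā : G ⧸ Subgroup.centralizer (V : Set G), ā = QuotientGroup.mk a := ⟨_, rfl⟩
  rw [← hā] at hna
  have hex : ∃ gq : G ⧸ Subgroup.centralizer (V : Set G),
      ¬ IsPGroup p ↥(Subgroup.zpowers ā ⊔ MulAut.conj gq • Subgroup.zpowers ā) := by
    by_contra hcon
    push Not at hcon
    have hXp : IsPGroup p ↥(Subgroup.zpowers ā) := IsPGroup.to_le (hcon 1) le_sup_left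
    obtain ⟨N, hNn, hNp, hXN⟩ := baer_suzuki (Subgroup.zpowers ā) hXp hcon
    apply hna
    have h1 : N ≤ Cfsg.pCore p (G ⧸ Subgroup.centralizer (V : Set G)) := le_sSup ⟨hNn, hNp⟩
    exact h1 (hXN (Subgroup.mem_zpowers _))
  obtain ⟨gq, hgq⟩ := hex
  obtain ⟨g, rfl⟩ := QuotientGroup.mk_surjective gq
  obtain ⟨H, hH⟩ : ∃ H : Subgroup G, H = Subgroup.closure {a, g * a * g⁻¹} := ⟨_, rfl⟩
  have hmap : H.map (QuotientGroup.mk' (Subgroup.centralizer (V : Set G))) =
      Subgroup.zpowers ā ⊔ MulAut.conj (QuotientGroup.mk g : G ⧸ Subgroup.centralizer (V : Set G)) • Subgroup.zpowers ā := by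
    rw [zpowers_sup_conj_eq_closure, hH, MonoidHom.map_closure, Set.image_pair, hā]
    rfl
  have hnorm : H ≤ Subgroup.normalizer (V : Set G) := by
    rw [Subgroup.normalizer_eq_top]
    exact le_top
  have hnp : ¬ ∀ h ∈ H, ∃ k : ℕ, h ^ p ^ k ∈ Subgroup.centralizer (V : Set G) := by
    intro hall
    apply hgq
    rw [← hmap]
    rintro ⟨x, hx⟩
    obtain ⟨h, hh, rfl⟩ := hx
    obtain ⟨k, hk⟩ := hall h hh
    refine ⟨k, ?_⟩
    apply Subtype.ext
    rw [Subgroup.coe_pow, Subgroup.coe_one, ← map_pow]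
    exact (QuotientGroup.eq_one_iff _).mpr hk
  have hp : p ≠ 2 := by omega
  have h3 := quad_pair_p_eq_three hp V H hV hnorm a (g * a * g⁻¹) hH hq
    (quadratic_conj V a g (by rw [Subgroup.normalizer_eq_top]; exact Subgroup.mem_top g) hq) hnp
    (Cfsg.Agent.Lib.Lead.PSolvable.IsPSolvable.subgroup H hsol)
  omega

theorem isPStableOnSection_of_pSolvable (hp5 : 5 ≤ p)
    (hsol : Cfsg.IsPSolvable p G) (K N : Subgroup G) [K.Normal] [N.Normal]
    (hcomm : ⁅K, K⁆ ≤ N) (hpow : ∀ x ∈ K, x ^ p ∈ N) : Cfsg.IsPStableOnSection p K N := by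
  classical
  haveI : Fact (Nat.Prime 2) := ⟨Nat.prime_two⟩
  obtain ⟨Vb, hVb⟩ : ∃ Vb : Subgroup (G ⧸ N), Vb = K.map (QuotientGroup.mk' N) := ⟨_, rfl⟩
  haveI hVbn : Vb.Normal := by
    rw [hVb]
    exact Subgroup.Normal.map inferInstance _ (QuotientGroup.mk'_surjective N)
  have hVbel : Cfsg.IsElementaryAbelian p Vb := by
    constructor
    · refine ⟨⟨fun u v => ?_⟩⟩
      obtain ⟨u, hu⟩ := u
      obtain ⟨v, hv⟩ := v
      rw [hVb] at hu hv
      obtain ⟨x, hx, rfl⟩ := hu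
      obtain ⟨y, hy, rfl⟩ := hv
      apply Subtype.ext
      show QuotientGroup.mk' N x * QuotientGroup.mk' N y = QuotientGroup.mk' N y * QuotientGroup.mk' N x
      rw [← map_mul, ← map_mul]
      apply QuotientGroup.eq.mpr
      have h1 : (x * y)⁻¹ * (y * x) = ⁅y⁻¹, x⁻¹⁆ := by rw [commutatorElement_def]; group
      rw [h1]
      exact hcomm (Subgroup.commutator_mem_commutator (K.inv_mem hy) (K.inv_mem hx))
    · intro u hu
      rw [hVb] at hu
      obtain ⟨x, hx, rfl⟩ := hu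
      rw [← map_pow]
      exact (QuotientGroup.eq_one_iff _).mpr (hpow x hx)
  have hsolq : Cfsg.IsPSolvable p (G ⧸ N) := Cfsg.Agent.Lib.Lead.PSolvable.IsPSolvable.quotient N hsol
  have hst := isPStableOn_of_pSolvable hp5 hsolq Vb hVbel
  intro a hq
  have hq' : ⁅⁅Vb, Subgroup.zpowers (QuotientGroup.mk a : G ⧸ N)⁆,
      Subgroup.zpowers (QuotientGroup.mk a : G ⧸ N)⁆ = ⊥ := by
    rw [eq_bot_iff]
    have h1 : (Subgroup.zpowers a).map (QuotientGroup.mk' N) = Subgroup.zpowers (QuotientGroup.mk a : G ⧸ N) := by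
      rw [MonoidHom.map_zpowers]
      rfl
    have h2 := Subgroup.map_mono (f := QuotientGroup.mk' N) hq
    rw [Subgroup.map_commutator, Subgroup.map_commutator, h1, ← hVb] at h2
    refine h2.trans ?_
    rw [QuotientGroup.map_mk'_self]
  have hmem := hst (QuotientGroup.mk a) hq'
  obtain ⟨f, hf⟩ : ∃ f : G →* (G ⧸ N) ⧸ Subgroup.centralizer (Vb : Set (G ⧸ N)),
    f = (QuotientGroup.mk' _).comp (QuotientGroup.mk' N) := ⟨_, rfl⟩
  have hfsurj : Function.Surjective f := by
    rw [hf]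
    exact (QuotientGroup.mk'_surjective _).comp (QuotientGroup.mk'_surjective N)
  have hker : Cfsg.sectionKernel K N = f.ker := by
    unfold Cfsg.sectionKernel
    rw [← hVb, hf, ← MonoidHom.comap_ker, QuotientGroup.ker_mk']
  refine ⟨(Cfsg.pCore p _).comap f, inferInstance, ?_, ?_, ?_⟩
  · rw [hker]
    intro x hx
    rw [Subgroup.mem_comap, MonoidHom.mem_ker.mp hx]
    exact one_mem _
  · rw [hker, Subgroup.relIndex_ker, Subgroup.map_comap_eq_self_of_surjective hfsurj]
    exact IsPGroup.iff_card.mp (pCore_isPGroup p)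
  · rw [Subgroup.mem_comap, hf]
    exact hmem

end stab5

end Cfsg.Agent.H1
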