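import Mathlib
import Cfsg.Agent.H1.QuadTwo
import Cfsg.Agent.H1.QuadRank
import Cfsg.Agent.H1.PGroup
import Cfsg.Agent.Lib.Lead.PGroup
import Cfsg.Agent.Lib.Helper7.Core
import Cfsg.Agent.H1.NilpCover
import Cfsg.Prelude.Def_Transfer
import Cfsg.Prelude.Def_Solvable

set_option autoImplicit false

namespace Cfsg.Agent.H1.RankThree

open scoped commutatorElement

section T

variable {H : Type*} [Group H]

/-- the preimage of `Ω₁(Z(H/Z(H)))` -/
def Bsub (H : Type*) [Group H] : Subgroup H where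
  carrier := {b | b ^ 2 ∈ Subgroup.center H ∧ ∀ g : H, ⁅b, g⁆ ∈ Subgroup.center H}
  one_mem' := by
    refine ⟨by rw [one_pow]; exact Subgroup.one_mem _, fun g => ?_⟩
    rw [commutatorElement_one_left]; exact Subgroup.one_mem _
  mul_mem' := by
    rintro b c ⟨hb2, hbc⟩ ⟨hc2, hcc⟩
    have hcb : ∀ x : H, ⁅c, b⁆ * x = x * ⁅c, b⁆ := fun x =>
      ((Subgroup.mem_center_iff.mp (hcc b)) x).symm
    refine ⟨?_, fun g => ?_⟩
    · rw [H2.QuadZero.sq_mul_of_central b c hcb]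
      exact mul_mem (mul_mem hb2 hc2) (hcc b)
    · have h1 : ⁅b * c, g⁆ = b * ⁅c, g⁆ * b⁻¹ * ⁅b, g⁆ := by
        simp only [commutatorElement_def]; group
      rw [h1]
      exact mul_mem ((Subgroup.center H).normal_of_characteristic.conj_mem _ (hcc g) b) (hbc g)
  inv_mem' := by
    rintro b ⟨hb2, hbc⟩
    refine ⟨by rw [inv_pow]; exact inv_mem hb2, fun g => ?_⟩
    have h1 : ⁅b⁻¹, g⁆ = b⁻¹ * (⁅b, g⁆)⁻¹ * b⁻¹⁻¹ := by
      simp only [commutatorElement_def]; group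
    rw [h1]
    exact (Subgroup.center H).normal_of_characteristic.conj_mem _ (inv_mem (hbc g)) b⁻¹

theorem mem_Bsub {b : H} : b ∈ Bsub H ↔
    b ^ 2 ∈ Subgroup.center H ∧ ∀ g : H, ⁅b, g⁆ ∈ Subgroup.center H := Iff.rfl

/-- an element of a `2`-group whose cube is trivial is trivial -/
theorem eq_one_of_cube (hH : IsPGroup 2 H) {c : H} (hc : c ^ 3 = 1) : c = 1 := by
  obtain ⟨k, hk⟩ := hH c
  have h1 : orderOf c ∣ 3 := orderOf_dvd_of_pow_eq_one hc
  have h2 : orderOf c ∣ 2 ^ k := orderOf_dvd_of_pow_eq_one hk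
  have h3 : orderOf c ∣ Nat.gcd 3 (2 ^ k) := Nat.dvd_gcd h1 h2
  have h4 : Nat.gcd 3 (2 ^ k) = 1 := Nat.Coprime.pow_right k (by norm_num)
  rw [h4, Nat.dvd_one, orderOf_eq_one_iff] at h3
  exact h3

/-- a nontrivial element of a `2`-group has a power which is an involution -/
theorem exists_pow_involution {K : Type*} [Group K] (hH : IsPGroup 2 K) {c : K} (hc : c ≠ 1) :
    ∃ e : ℕ, c ^ e ≠ 1 ∧ (c ^ e) ^ 2 = 1 := by
  haveI : Fact (Nat.Prime 2) := ⟨Nat.prime_two⟩
  obtain ⟨k, hk⟩ := (IsPGroup.iff_orderOf.mp hH) c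
  have hk0 : k ≠ 0 := by
    intro h0; rw [h0, pow_zero, orderOf_eq_one_iff] at hk; exact hc hk
  obtain ⟨j, rfl⟩ : ∃ j, k = j + 1 := ⟨k - 1, by omega⟩
  refine ⟨2 ^ j, ?_, ?_⟩
  · apply pow_ne_one_of_lt_orderOf (by positivity)
    rw [hk, pow_succ]
    have := Nat.one_le_two_pow (n := j)
    omega
  · rw [← pow_mul, ← pow_succ, ← hk]; exact pow_orderOf_eq_one c

/-- a nontrivial element of a `p`-group has a power of order `p` -/
theorem exists_pow_prime {p : ℕ} [hp : Fact p.Prime] {K : Type*} [Group K] (hH : IsPGroup p K)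
    {c : K} (hc : c ≠ 1) : ∃ e : ℕ, c ^ e ≠ 1 ∧ (c ^ e) ^ p = 1 := by
  obtain ⟨k, hk⟩ := (IsPGroup.iff_orderOf.mp hH) c
  have hk0 : k ≠ 0 := by
    intro h0; rw [h0, pow_zero, orderOf_eq_one_iff] at hk; exact hc hk
  obtain ⟨j, rfl⟩ : ∃ j, k = j + 1 := ⟨k - 1, by omega⟩
  refine ⟨p ^ j, ?_, ?_⟩
  · apply pow_ne_one_of_lt_orderOf (pow_pos hp.out.pos j).ne'
    rw [hk, pow_succ]
    have h1 := pow_pos hp.out.pos j
    have h2 := hp.out.two_le
    nlinarith
  · rw [← pow_mul, ← pow_succ, ← hk]; exact pow_orderOf_eq_one c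

variable [Finite H]

/-- first part: `α` fixes the centre pointwise -/
theorem alpha_center (hH : IsPGroup 2 H) (W : Subgroup H)
    (hinv : ∀ x : H, x ^ 2 = 1 → x ∈ W)
    (α : H →* H) (hα3 : ∀ h, α (α (α h)) = h) (hαW : ∀ w ∈ W, α w = w) :
    ∀ z ∈ Subgroup.center H, α z = z := by
  have hαsurj : Function.Surjective α := fun h => ⟨α (α h), hα3 h⟩
  have hαZ' : ∀ z ∈ Subgroup.center H, α z ∈ Subgroup.center H := by
    intro z hz
    rw [Subgroup.mem_center_iff] at hz ⊢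
    intro g
    obtain ⟨g', rfl⟩ := hαsurj g
    rw [← map_mul, ← map_mul, hz g']
  intro z hz
  by_contra hne
  set c := z⁻¹ * α z with hcdef
  have hcZ : c ∈ Subgroup.center H := mul_mem (inv_mem hz) (hαZ' z hz)
  have hc1 : c ≠ 1 := by
    intro h1
    apply hne
    have h2 : z * c = α z := by rw [hcdef]; group
    rw [← h2, h1, mul_one]
  have hnorm : c * α c * α (α c) = 1 := by
    rw [hcdef]
    simp only [map_mul, map_inv, hα3]
    group
  obtain ⟨e, he1, he2⟩ := exists_pow_involution hH hc1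
  have hu : α (c ^ e) = c ^ e := hαW _ (hinv _ he2)
  have hαcZ := hαZ' c hcZ
  have hααcZ := hαZ' _ hαcZ
  have hcomm1 : Commute c (α c) := (Subgroup.mem_center_iff.mp hcZ (α c)).symm
  have hcomm2 : Commute (c * α c) (α (α c)) := Subgroup.mem_center_iff.mp hααcZ _
  have e1 : (α c) ^ e = c ^ e := by rw [← map_pow, hu]
  have e2 : (α (α c)) ^ e = c ^ e := by rw [← map_pow, e1, hu]
  have h4 : (c * α c * α (α c)) ^ e = c ^ e * (α c) ^ e * (α (α c)) ^ e := by
    rw [hcomm2.mul_pow, hcomm1.mul_pow]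
  rw [hnorm, one_pow, e1, e2] at h4
  have h3 : (c ^ e) ^ 3 = 1 := by
    rw [pow_succ, pow_two]; exact h4.symm
  exact he1 (eq_one_of_cube hH h3)

/-- `δ`-invariant subgroups of the four-group `W` are trivial or everything -/
theorem irr_of_fpf (W : Subgroup H) (hW4 : Nat.card W = 4) (δ : H →* H)
    (hδinj : Function.Injective δ) (hδ : ∀ w ∈ W, δ w = w → w = 1)
    (X : Subgroup H) (hXW : X ≤ W) (hXδ : ∀ x ∈ X, δ x ∈ X) : X = ⊥ ∨ X = W := by
  have hdvd : Nat.card X ∣ 4 := by rw [← hW4]; exact Subgroup.card_dvd_of_le hXW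
  have hle : Nat.card X ≤ 4 := Nat.le_of_dvd (by norm_num) hdvd
  have hpos : 0 < Nat.card X := Nat.card_pos
  interval_cases hc : Nat.card X
  · left; exact Subgroup.card_eq_one.mp hc
  · exfalso
    obtain ⟨y, hy1, hyu⟩ := (Nat.card_eq_two_iff' (1 : ↥X)).mp hc
    have hy1' : (y : H) ≠ 1 := fun h => hy1 (Subtype.ext h)
    have hδy1 : (⟨δ y, hXδ y y.2⟩ : ↥X) ≠ 1 := by
      intro h
      have h2 : δ (y : H) = 1 := congrArg Subtype.val h
      exact hy1' (hδinj (by rw [h2, map_one]))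
    have h3 := hyu _ hδy1
    have h4 : δ (y : H) = y := congrArg Subtype.val h3
    exact hy1' (hδ y (hXW y.2) h4)
  · exfalso; norm_num at hdvd
  · right
    exact Subgroup.eq_of_le_of_card_ge hXW (by rw [hW4, hc])

/-- existence of a noncentral element of `Bsub H` -/
theorem exists_mem_Bsub (hH : IsPGroup 2 H) (hZtop : Subgroup.center H ≠ ⊤) :
    ∃ b₀ : H, b₀ ∈ Bsub H ∧ b₀ ∉ Subgroup.center H := by
  haveI : Fact (Nat.Prime 2) := ⟨Nat.prime_two⟩
  haveI : Nontrivial (H ⧸ Subgroup.center H) := by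
    rw [QuotientGroup.nontrivial_iff]; exact hZtop
  have hK : IsPGroup 2 (H ⧸ Subgroup.center H) := hH.to_quotient _
  haveI := hK.center_nontrivial
  obtain ⟨k, hk⟩ := exists_ne (1 : Subgroup.center (H ⧸ Subgroup.center H))
  have hk1 : (k : H ⧸ Subgroup.center H) ≠ 1 := fun h => hk (Subtype.ext h)
  obtain ⟨e, he1, he2⟩ := exists_pow_involution hK hk1
  have hkc : (k : H ⧸ Subgroup.center H) ^ e ∈ Subgroup.center (H ⧸ Subgroup.center H) :=
    pow_mem k.2 e
  obtain ⟨b₀, hb₀⟩ := QuotientGroup.mk_surjective ((k : H ⧸ Subgroup.center H) ^ e)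
  refine ⟨b₀, ⟨?_, fun g => ?_⟩, ?_⟩
  · rw [← QuotientGroup.eq_one_iff, QuotientGroup.mk_pow, hb₀]; exact he2
  · rw [← QuotientGroup.eq_one_iff]
    have h1 : ((⁅b₀, g⁆ : H) : H ⧸ Subgroup.center H) =
        ⁅(b₀ : H ⧸ Subgroup.center H), (g : H ⧸ Subgroup.center H)⁆ :=
      map_commutatorElement (QuotientGroup.mk' (Subgroup.center H)) b₀ g
    rw [h1, hb₀, commutatorElement_eq_one_iff_mul_comm]
    exact ((Subgroup.mem_center_iff.mp hkc) _).symm
  · rw [← QuotientGroup.eq_one_iff, hb₀]; exact he1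

/-- in the case `Z(H) = W`: the index of `W` in `Bsub H` is at most `16` -/
theorem relIndex_le_sixteen (W : Subgroup H) (hW4 : Nat.card W = 4)
    (hW2 : ∀ w ∈ W, w ^ 2 = 1) (hinv : ∀ x : H, x ^ 2 = 1 → x ∈ W)
    (hZW : Subgroup.center H = W) : W.relIndex (Bsub H) ≤ 16 := by
  have hWc : ∀ w ∈ W, ∀ x : H, w * x = x * w := fun w hw x =>
    ((Subgroup.mem_center_iff.mp (hZW ▸ hw)) x).symm
  have hB2 : ∀ x : ↥(Bsub H), ((x : H)) ^ 2 ∈ W := fun x => hZW ▸ x.2.1
  have hBc : ∀ x y : ↥(Bsub H), ⁅(x : H), (y : H)⁆ ∈ W := fun x y => hZW ▸ x.2.2 y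
  have hyp : QuadRank.Hyp0 ↥(Bsub H) := by
    refine ⟨fun a b x => ?_, fun x => ?_⟩
    · apply Subtype.ext
      rw [Subgroup.coe_mul, Subgroup.coe_mul]
      exact hWc _ (hBc a b) x
    · apply Subtype.ext
      have h1 : ((x ^ 4 : ↥(Bsub H)) : H) = (((x : H)) ^ 2) ^ 2 := by
        rw [Subgroup.coe_pow, ← pow_mul]
      rw [h1, hW2 _ (hB2 x)]; rfl
  haveI hWn : (W.subgroupOf (Bsub H)).Normal := ⟨fun z hz g => by
    rw [Subgroup.mem_subgroupOf] at hz ⊢
    rw [Subgroup.coe_mul, Subgroup.coe_mul, ← hWc _ hz, Subgroup.coe_inv, mul_inv_cancel_right]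
    exact hz⟩
  letI : CommGroup ↥W := { (inferInstance : Group ↥W) with
    mul_comm := fun a b => Subtype.ext (hWc a a.2 b) }
  have hcoe : ∀ a b : ↥(Bsub H), ((⁅a, b⁆ : ↥(Bsub H)) : H) = ⁅(a : H), (b : H)⁆ := by
    intro a b; simp [commutatorElement_def]
  have key := QuadTwo.index_le_sq (H := ↥(Bsub H)) (W.subgroupOf (Bsub H)) (T := ↥W)
    (fun t => Subtype.ext (hW2 t t.2))
    (fun x => Subgroup.mem_subgroupOf.mpr (by rw [Subgroup.coe_pow]; exact hB2 x))
    (fun x y => Subgroup.mem_subgroupOf.mpr (hBc x y))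
    (fun x => ⟨(x : H) ^ 2, hB2 x⟩)
    (fun x y => ⟨⁅(y : H), (x : H)⁆, hBc y x⟩)
    (fun x y => Subtype.ext (by
      have := congrArg Subtype.val (hyp.sq_mul x y)
      simpa [hcoe] using this))
    (fun x x' y => Subtype.ext (by
      have := congrArg Subtype.val (hyp.comm_mul_right y x x')
      simpa [hcoe] using this))
    (fun x y y' => Subtype.ext (by
      have := congrArg Subtype.val (hyp.comm_mul_left y y' x)
      simpa [hcoe] using this))
    (fun z hz => Subtype.ext (hW2 z (Subgroup.mem_subgroupOf.mp hz)))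
    (fun z hz x => Subtype.ext (by
      show ⁅(z : H), (x : H)⁆ = 1
      exact commutatorElement_eq_one_iff_mul_comm.mpr (hWc z (Subgroup.mem_subgroupOf.mp hz) x)))
    (fun x hx => Subgroup.mem_subgroupOf.mpr (hinv _ (congrArg Subtype.val hx)))
  have h16 : Nat.card ↥W ^ 2 = 16 := by rw [hW4]; norm_num
  rw [h16] at key
  exact key

/-- a bijective endomorphism preserves `Bsub H` in both directions -/
theorem map_mem_Bsub_iff (φ : H →* H) (hinj : Function.Injective φ)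
    (hsurj : Function.Surjective φ) (x : H) : φ x ∈ Bsub H ↔ x ∈ Bsub H := by
  have hcen : ∀ z, φ z ∈ Subgroup.center H ↔ z ∈ Subgroup.center H := by
    intro z
    simp only [Subgroup.mem_center_iff]
    constructor
    · intro h g
      apply hinj
      rw [map_mul, map_mul]; exact h (φ g)
    · intro h g
      obtain ⟨g', rfl⟩ := hsurj g
      rw [← map_mul, ← map_mul, h g']
  rw [mem_Bsub, mem_Bsub, ← map_pow, hcen]
  constructor
  · rintro ⟨h1, h2⟩
    refine ⟨h1, fun g => ?_⟩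
    rw [← hcen, map_commutatorElement]
    exact h2 (φ g)
  · rintro ⟨h1, h2⟩
    refine ⟨h1, fun g => ?_⟩
    obtain ⟨g', rfl⟩ := hsurj g
    rw [← map_commutatorElement, hcen]
    exact h2 g'

set_option maxHeartbeats 800000 in
/-- the case `Z(H) = W`: counting modulo `9` -/
theorem alpha_fix_caseB (hH : IsPGroup 2 H) (W : Subgroup H) (hW4 : Nat.card W = 4)
    (hW2 : ∀ w ∈ W, w ^ 2 = 1) (hinv : ∀ x : H, x ^ 2 = 1 → x ∈ W)
    (hZW : Subgroup.center H = W)
    (α δ : H →* H) (hα3 : ∀ h, α (α (α h)) = h) (hαW : ∀ w ∈ W, α w = w)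
    (hδinj : Function.Injective δ) (hcomm : ∀ h, α (δ h) = δ (α h))
    (hδ : ∀ w ∈ W, δ w = w → w = 1) : ∀ b ∈ Bsub H, α b = b := by
  classical
  haveI : Fintype H := Fintype.ofFinite H
  have hδsurj : Function.Surjective δ := Finite.injective_iff_surjective.mp hδinj
  have hαinj : Function.Injective α := fun a b hab => by rw [← hα3 a, ← hα3 b, hab]
  have hαsurj : Function.Surjective α := fun h => ⟨α (α h), hα3 h⟩
  have hαB := map_mem_Bsub_iff α hαinj hαsurj
  have hδB := map_mem_Bsub_iff δ hδinj hδsurj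
  have hδW : ∀ w ∈ W, δ w ∈ W := fun w hw => hinv _ (by rw [← map_pow, hW2 w hw, map_one])
  have hWc : ∀ w ∈ W, ∀ x : H, w * x = x * w := fun w hw x =>
    ((Subgroup.mem_center_iff.mp (hZW ▸ hw)) x).symm
  -- the fixed subgroup
  let F : Subgroup H :=
    { carrier := {b | b ∈ Bsub H ∧ α b = b}
      one_mem' := ⟨Subgroup.one_mem _, map_one α⟩
      mul_mem' := fun {a b} ha hb => ⟨mul_mem ha.1 hb.1, by rw [map_mul, ha.2, hb.2]⟩
      inv_mem' := fun {a} ha => ⟨inv_mem ha.1, by rw [map_inv, ha.2]⟩ }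
  have hmemF : ∀ x, x ∈ F ↔ x ∈ Bsub H ∧ α x = x := fun x => Iff.rfl
  have hFB : F ≤ Bsub H := fun b hb => hb.1
  have hWB : W ≤ Bsub H := by
    intro w hw
    have hwZ : w ∈ Subgroup.center H := hZW ▸ hw
    refine ⟨(Subgroup.center H).pow_mem hwZ 2, fun g => ?_⟩
    rw [commutatorElement_eq_one_iff_mul_comm.mpr ((Subgroup.mem_center_iff.mp hwZ g).symm)]
    exact Subgroup.one_mem _
  have hWF : W ≤ F := fun w hw => ⟨hWB hw, hαW w hw⟩
  suffices hsuff : Bsub H ≤ F from fun b hb => (hsuff hb).2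
  -- the three involutions
  obtain ⟨w₁, hw₁W, hw₁⟩ : ∃ w₁ ∈ W, w₁ ≠ 1 := by
    by_contra hall; push_neg at hall
    have : W = ⊥ := (Subgroup.eq_bot_iff_forall W).mpr hall
    rw [this, Subgroup.card_bot] at hW4; omega
  set w₂ := δ w₁ with hw₂def
  set w₃ := δ w₂ with hw₃def
  have hw₂W : w₂ ∈ W := hδW _ hw₁W
  have hw₃W : w₃ ∈ W := hδW _ hw₂W
  have hw₂ : w₂ ≠ 1 := fun h => hw₁ (hδinj (by rw [← hw₂def, h, map_one]))
  have hw₃ : w₃ ≠ 1 := fun h => hw₂ (hδinj (by rw [← hw₃def, h, map_one]))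
  have h12 : w₂ ≠ w₁ := fun h => hw₁ (hδ w₁ hw₁W h)
  have h23 : w₃ ≠ w₂ := fun h => hw₂ (hδ w₂ hw₂W h)
  have h13 : w₃ ≠ w₁ := by
    intro h
    have h1 : δ (w₁ * w₂) = w₁ * w₂ := by
      rw [map_mul, ← hw₂def, ← hw₃def, h, hWc w₁ hw₁W]
    have h2 := hδ _ (mul_mem hw₁W hw₂W) h1
    apply h12
    have h3 : w₁ * w₁ = 1 := by rw [← pow_two]; exact hW2 _ hw₁W
    calc w₂ = (w₁ * w₁) * w₂ := by rw [h3, one_mul]
      _ = w₁ * (w₁ * w₂) := by group
      _ = w₁ := by rw [h2, mul_one]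
  have hWenum : ∀ w ∈ W, w = 1 ∨ w = w₁ ∨ w = w₂ ∨ w = w₃ := by
    intro w hw
    haveI : Fintype ↥W := Fintype.ofFinite _
    let T : Finset ↥W := {1, ⟨w₁, hw₁W⟩, ⟨w₂, hw₂W⟩, ⟨w₃, hw₃W⟩}
    have hT : T.card = 4 := by
      have e1 : (⟨w₃, hw₃W⟩ : ↥W) ∉ (∅ : Finset ↥W) := by simp
      have e2 : (⟨w₂, hw₂W⟩ : ↥W) ∉ ({⟨w₃, hw₃W⟩} : Finset ↥W) := by
        simp only [Finset.mem_singleton, Subtype.mk.injEq]; exact fun h => h23 h.symm
      have e3 : (⟨w₁, hw₁W⟩ : ↥W) ∉ ({⟨w₂, hw₂W⟩, ⟨w₃, hw₃W⟩} : Finset ↥W) := by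
        simp only [Finset.mem_insert, Finset.mem_singleton, Subtype.mk.injEq, not_or]
        exact ⟨fun h => h12 h.symm, fun h => h13 h.symm⟩
      have e4 : (1 : ↥W) ∉ ({⟨w₁, hw₁W⟩, ⟨w₂, hw₂W⟩, ⟨w₃, hw₃W⟩} : Finset ↥W) := by
        simp only [Finset.mem_insert, Finset.mem_singleton, not_or]
        refine ⟨fun h => hw₁ ?_, fun h => hw₂ ?_, fun h => hw₃ ?_⟩
        · exact (congrArg Subtype.val h).symm
        · exact (congrArg Subtype.val h).symm
        · exact (congrArg Subtype.val h).symm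
      show (insert (1 : ↥W) (insert (⟨w₁, hw₁W⟩ : ↥W) (insert (⟨w₂, hw₂W⟩ : ↥W)
        ({⟨w₃, hw₃W⟩} : Finset ↥W)))).card = 4
      rw [Finset.card_insert_of_notMem e4, Finset.card_insert_of_notMem e3,
        Finset.card_insert_of_notMem e2, Finset.card_singleton]
    have hTu : T = Finset.univ := by
      apply Finset.eq_univ_of_card
      rw [hT, ← Nat.card_eq_fintype_card, hW4]
    have hmem : (⟨w, hw⟩ : ↥W) ∈ T := by rw [hTu]; exact Finset.mem_univ _
    simp only [T, Finset.mem_insert, Finset.mem_singleton, Subtype.ext_iff] at hmem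
    exact hmem
  -- the finsets
  set D : Finset H := Finset.univ.filter (fun x => x ∈ Bsub H ∧ α x ≠ x) with hD
  set S : H → Finset H := fun w =>
    Finset.univ.filter (fun x => x ∈ Bsub H ∧ α x ≠ x ∧ x ^ 2 = w) with hS
  have hmemS : ∀ w x, x ∈ S w ↔ x ∈ Bsub H ∧ α x ≠ x ∧ x ^ 2 = w := by
    intro w x; simp [hS]
  have hmemD : ∀ x, x ∈ D ↔ x ∈ Bsub H ∧ α x ≠ x := by
    intro x; simp [hD]
  have hsqD : ∀ x ∈ D, x ^ 2 = w₁ ∨ x ^ 2 = w₂ ∨ x ^ 2 = w₃ := by
    intro x hx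
    rw [hmemD] at hx
    have hx2 : x ^ 2 ∈ W := hZW ▸ hx.1.1
    rcases hWenum _ hx2 with h | h | h | h
    · exact absurd (hαW x (hinv x h)) hx.2
    · exact Or.inl h
    · exact Or.inr (Or.inl h)
    · exact Or.inr (Or.inr h)
  have hcardD : D.card = (S w₁).card + (S w₂).card + (S w₃).card := by
    have e1 := Finset.card_filter_add_card_filter_not (s := D) (fun x => x ^ 2 = w₁)
    have e2 := Finset.card_filter_add_card_filter_not
      (s := D.filter (fun x => ¬ x ^ 2 = w₁)) (fun x => x ^ 2 = w₂)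
    have f1 : D.filter (fun x => x ^ 2 = w₁) = S w₁ := by
      ext x; simp only [Finset.mem_filter, hmemD, hmemS]; tauto
    have f2 : (D.filter (fun x => ¬ x ^ 2 = w₁)).filter (fun x => x ^ 2 = w₂) = S w₂ := by
      ext x; simp only [Finset.mem_filter, hmemD, hmemS]
      constructor
      · rintro ⟨⟨⟨h1, h2⟩, -⟩, h4⟩; exact ⟨h1, h2, h4⟩
      · rintro ⟨h1, h2, h4⟩; exact ⟨⟨⟨h1, h2⟩, fun h => h12 (h4.symm.trans h)⟩, h4⟩
    have f3 : (D.filter (fun x => ¬ x ^ 2 = w₁)).filter (fun x => ¬ x ^ 2 = w₂) = S w₃ := by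
      ext x; simp only [Finset.mem_filter, hmemS]
      constructor
      · rintro ⟨⟨hxD, h3⟩, h4⟩
        rcases hsqD x hxD with h | h | h
        · exact absurd h h3
        · exact absurd h h4
        · exact ⟨((hmemD x).mp hxD).1, ((hmemD x).mp hxD).2, h⟩
      · rintro ⟨h1, h2, h4⟩
        exact ⟨⟨(hmemD x).mpr ⟨h1, h2⟩, fun h => h13 (h4.symm.trans h)⟩,
          fun h => h23 (h4.symm.trans h)⟩
    rw [f1] at e1
    rw [f2, f3] at e2
    omega
  have hcardδ : ∀ w, (S (δ w)).card = (S w).card := by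
    intro w
    symm
    apply Finset.card_bij (fun x _ => δ x)
    · intro x hx
      rw [hmemS] at hx ⊢
      refine ⟨(hδB x).mpr hx.1, fun h => hx.2.1 (hδinj (by rw [← hcomm]; exact h)), ?_⟩
      rw [← map_pow, hx.2.2]
    · intro x _ y _ hxy; exact hδinj hxy
    · intro y hy
      obtain ⟨x, rfl⟩ := hδsurj y
      rw [hmemS] at hy
      refine ⟨x, (hmemS w x).mpr ⟨(hδB x).mp hy.1, fun h => hy.2.1 (by rw [hcomm, h]), ?_⟩, rfl⟩
      apply hδinj; rw [map_pow]; exact hy.2.2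
  have h3dvd : ∀ w ∈ W, 3 ∣ (S w).card := by
    intro w hw
    by_contra hnd
    have hmemα : ∀ x : {x // x ∈ S w}, α (x : H) ∈ S w := by
      intro x
      have hx := (hmemS w x).mp x.2
      refine (hmemS w _).mpr ⟨(hαB x).mpr hx.1, fun h => hx.2.1 (hαinj h), ?_⟩
      rw [← map_pow, hx.2.2, hαW w hw]
    let σ : Equiv.Perm {x // x ∈ S w} :=
      { toFun := fun x => ⟨α x, hmemα x⟩
        invFun := fun x => ⟨α (α x), hmemα ⟨α x, hmemα x⟩⟩
        left_inv := fun x => Subtype.ext (hα3 x)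
        right_inv := fun x => Subtype.ext (hα3 x) }
    haveI : Fact (Nat.Prime 3) := ⟨Nat.prime_three⟩
    have hσ3 : σ ^ 3 ^ 1 = 1 := by
      ext x
      simp only [pow_one, pow_succ, pow_zero, one_mul, Equiv.Perm.mul_apply, Equiv.Perm.one_apply]
      exact hα3 x
    obtain ⟨a, ha⟩ := Equiv.Perm.exists_fixed_point_of_prime (p := 3) (n := 1)
      (by rwa [Fintype.card_coe]) hσ3
    exact ((hmemS w a).mp a.2).2.1 (congrArg Subtype.val ha)
  have h9 : 9 ∣ D.card := by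
    have e2 : (S w₂).card = (S w₁).card := hcardδ w₁
    have e3 : (S w₃).card = (S w₁).card := (hcardδ w₂).trans e2
    obtain ⟨t, ht⟩ := h3dvd w₁ hw₁W
    rw [hcardD, e2, e3, ht]
    exact ⟨t, by ring⟩
  -- cardinalities
  have hcB : Nat.card ↥(Bsub H) = Nat.card ↥F + D.card := by
    have e1 : Nat.card ↥(Bsub H) = (Finset.univ.filter (fun x : H => x ∈ Bsub H)).card := by
      rw [Nat.card_eq_fintype_card, Fintype.card_subtype]
    have e2 : Nat.card ↥F = (Finset.univ.filter (fun x : H => x ∈ F)).card := by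
      rw [Nat.card_eq_fintype_card, Fintype.card_subtype]
    have e3 := Finset.card_filter_add_card_filter_not
      (s := Finset.univ.filter (fun x : H => x ∈ Bsub H)) (fun x => α x = x)
    have f1 : (Finset.univ.filter (fun x : H => x ∈ Bsub H)).filter (fun x => α x = x) =
        Finset.univ.filter (fun x : H => x ∈ F) := by
      ext x; simp only [Finset.mem_filter, Finset.mem_univ, true_and, hmemF]
    have f2 : (Finset.univ.filter (fun x : H => x ∈ Bsub H)).filter (fun x => ¬ α x = x) = D := by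
      ext x; simp only [Finset.mem_filter, Finset.mem_univ, true_and, hmemD]
    rw [f1, f2] at e3
    omega
  have hcFr := QuadTwo.card_mul_relIndex_of_le hFB
  have hWFr := Subgroup.relIndex_mul_relIndex W F (Bsub H) hWF hFB
  have h16 := relIndex_le_sixteen W hW4 hW2 hinv hZW
  obtain ⟨n, hn⟩ := IsPGroup.iff_card.mp hH
  have hFdvd : Nat.card ↥F ∣ 2 ^ n := hn ▸ Subgroup.card_subgroup_dvd_card F
  have hrdvd : F.relIndex (Bsub H) ∣ 2 ^ n := by
    refine Dvd.dvd.trans ?_ (hn ▸ Subgroup.card_subgroup_dvd_card (Bsub H))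
    exact Dvd.intro_left _ hcFr
  obtain ⟨j, -, hj⟩ := (Nat.dvd_prime_pow Nat.prime_two).mp hrdvd
  have hrle : F.relIndex (Bsub H) ≤ 16 := by
    have hpos : 0 < W.relIndex F := by
      rcases Nat.eq_zero_or_pos (W.relIndex F) with h0 | hp
      · rw [h0, zero_mul] at hWFr
        have := QuadTwo.card_mul_relIndex_of_le hWB
        rw [← hWFr, mul_zero] at this
        have hpos' : 0 < Nat.card ↥(Bsub H) := Nat.card_pos
        omega
      · exact hp
    calc F.relIndex (Bsub H) ≤ W.relIndex F * F.relIndex (Bsub H) := Nat.le_mul_of_pos_left _ hpos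
      _ = W.relIndex (Bsub H) := hWFr
      _ ≤ 16 := h16
  have h9' : 9 ∣ F.relIndex (Bsub H) - 1 := by
    have hr1 : 1 ≤ F.relIndex (Bsub H) := by rw [hj]; exact Nat.one_le_two_pow
    have e1 : D.card = Nat.card ↥F * (F.relIndex (Bsub H) - 1) := by
      rw [Nat.mul_sub, mul_one, hcFr]; omega
    rw [e1] at h9
    have hcop : Nat.Coprime 9 (Nat.card ↥F) := by
      obtain ⟨i, -, hi⟩ := (Nat.dvd_prime_pow Nat.prime_two).mp hFdvd
      rw [hi]
      exact Nat.Coprime.pow_right i (by norm_num)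
    exact hcop.dvd_of_dvd_mul_left h9
  have hr1 : F.relIndex (Bsub H) = 1 := by
    rw [hj] at hrle h9' ⊢
    have hj4 : j ≤ 4 := by
      by_contra hgt
      push_neg at hgt
      have : 2 ^ 5 ≤ 2 ^ j := Nat.pow_le_pow_right (by norm_num) hgt
      omega
    rcases (by omega : j = 0 ∨ j = 1 ∨ j = 2 ∨ j = 3 ∨ j = 4) with rfl | rfl | rfl | rfl | rfl
    · norm_num
    · exfalso; norm_num at h9'
    · exfalso; norm_num at h9'
    · exfalso; norm_num at h9'
    · exfalso; norm_num at h9'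
  exact Subgroup.relIndex_eq_one.mp hr1

/-- the abstract contradiction -/
theorem main_T (hH : IsPGroup 2 H) (W : Subgroup H) (hW4 : Nat.card W = 4)
    (hWZ : W ≤ Subgroup.center H) (hW2 : ∀ w ∈ W, w ^ 2 = 1)
    (hinv : ∀ x : H, x ^ 2 = 1 → x ∈ W)
    (α δ : H →* H) (hα3 : ∀ h, α (α (α h)) = h) (hαW : ∀ w ∈ W, α w = w)
    (hδinj : Function.Injective δ) (hcomm : ∀ h, α (δ h) = δ (α h))
    (hδ : ∀ w ∈ W, δ w = w → w = 1)
    (hgen : Subgroup.closure {x : H | ∃ h : H, x = h⁻¹ * α h} = ⊤) : False := by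
  have hαZ := alpha_center hH W hinv α hα3 hαW
  have hδsurj : Function.Surjective δ := Finite.injective_iff_surjective.mp hδinj
  have hαinj : Function.Injective α := fun a b hab => by rw [← hα3 a, ← hα3 b, hab]
  have hαsurj : Function.Surjective α := fun h => ⟨α (α h), hα3 h⟩
  have hδZ' : ∀ z ∈ Subgroup.center H, δ z ∈ Subgroup.center H := by
    intro z hz
    rw [Subgroup.mem_center_iff] at hz ⊢
    intro g
    obtain ⟨g', rfl⟩ := hδsurj g
    rw [← map_mul, ← map_mul, hz g']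
  have hδW : ∀ w ∈ W, δ w ∈ W := fun w hw => hinv _ (by rw [← map_pow, hW2 w hw, map_one])
  have hZtop : Subgroup.center H ≠ ⊤ := by
    intro htop
    have hαid : ∀ h, α h = h := fun h => hαZ h (by rw [htop]; trivial)
    have hbot : Subgroup.closure {x : H | ∃ h : H, x = h⁻¹ * α h} = ⊥ := by
      rw [Subgroup.closure_eq_bot_iff]
      rintro x ⟨h, rfl⟩
      rw [hαid h, inv_mul_cancel]; rfl
    rw [hbot] at hgen
    have hWbot : W = ⊥ := by rw [eq_bot_iff, hgen]; exact le_top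
    rw [hWbot, Subgroup.card_bot] at hW4; omega
  obtain ⟨b₀, hb₀B, hb₀Z⟩ := exists_mem_Bsub hH hZtop
  have hfix : ∀ b ∈ Bsub H, α b = b := by
    let X : Subgroup H :=
      { carrier := {w | w ∈ W ∧ ∃ a ∈ Subgroup.center H, a ^ 2 = w}
        one_mem' := ⟨Subgroup.one_mem _, 1, Subgroup.one_mem _, one_pow 2⟩
        mul_mem' := by
          rintro x y ⟨hx, a, ha, rfl⟩ ⟨hy, a', ha', rfl⟩
          refine ⟨mul_mem hx hy, a * a', mul_mem ha ha', ?_⟩
          have hc : Commute a a' := (Subgroup.mem_center_iff.mp ha' a)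
          rw [hc.mul_pow]
        inv_mem' := by
          rintro x ⟨hx, a, ha, rfl⟩
          exact ⟨inv_mem hx, a⁻¹, inv_mem ha, inv_pow a 2⟩ }
    have hXW : X ≤ W := fun x hx => hx.1
    have hXδ : ∀ x ∈ X, δ x ∈ X := by
      rintro x ⟨hx, a, ha, rfl⟩
      exact ⟨hδW _ hx, δ a, hδZ' a ha, (map_pow δ a 2).symm⟩
    rcases irr_of_fpf W hW4 δ hδinj hδ X hXW hXδ with hbot | htop
    · have hZW : Subgroup.center H = W := by
        apply le_antisymm _ hWZ
        intro a ha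
        apply hinv
        by_contra hne
        obtain ⟨e, he1, he2⟩ := exists_pow_involution hH hne
        have hmem : (a ^ 2) ^ e ∈ X :=
          ⟨hinv _ he2, a ^ e, pow_mem ha e, by rw [← pow_mul, ← pow_mul, mul_comm]⟩
        rw [hbot, Subgroup.mem_bot] at hmem
        exact he1 hmem
      exact alpha_fix_caseB hH W hW4 hW2 hinv hZW α δ hα3 hαW hδinj hcomm hδ
    · intro b hb
      set c := b⁻¹ * α b with hcdef
      have hαb : α b ∈ Bsub H := (map_mem_Bsub_iff α hαinj hαsurj b).mpr hb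
      have hcent : ∀ x : H, ⁅α b, b⁻¹⁆ * x = x * ⁅α b, b⁻¹⁆ := fun x =>
        ((Subgroup.mem_center_iff.mp (hαb.2 b⁻¹)) x).symm
      have hc2 : c ^ 2 = ⁅α b, b⁻¹⁆ := by
        rw [hcdef, H2.QuadZero.sq_mul_of_central b⁻¹ (α b) hcent, ← map_pow, hαZ _ hb.1,
          inv_pow, inv_mul_cancel, one_mul]
      have hc2W : c ^ 2 ∈ W := by
        apply hinv
        rw [hc2, ← H1.commutator_pow_of_central _ _ (hαb.2 b⁻¹) 2,
          commutatorElement_eq_one_iff_mul_comm]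
        exact ((Subgroup.mem_center_iff.mp hαb.1) b⁻¹).symm
      have hc2X : c ^ 2 ∈ X := htop ▸ hc2W
      obtain ⟨-, a, haZ, ha2⟩ := hc2X
      have hca : (c * a⁻¹) ^ 2 = 1 := by
        have hac : Commute c a⁻¹ := (Subgroup.mem_center_iff.mp (inv_mem haZ)) c
        rw [hac.mul_pow, inv_pow, ha2, mul_inv_cancel]
      have hcZ : c ∈ Subgroup.center H := by
        have h1 : c * a⁻¹ ∈ Subgroup.center H := hWZ (hinv _ hca)
        have h2 : c = (c * a⁻¹) * a := by group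
        rw [h2]; exact mul_mem h1 haZ
      have hαc : α c = c := hαZ c hcZ
      have hαb' : α b = b * c := by rw [hcdef]; group
      have e1 : α (α b) = b * c * c := by
        calc α (α b) = α (b * c) := by rw [← hαb']
          _ = α b * α c := map_mul α b c
          _ = b * c * c := by rw [hαb', hαc]
      have e2 : α (α (α b)) = b * c * c * c := by
        calc α (α (α b)) = α (b * c * c) := by rw [← e1]
          _ = α b * α c * α c := by rw [map_mul, map_mul]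
          _ = b * c * c * c := by rw [hαb', hαc]
      rw [hα3] at e2
      have hc3 : c ^ 3 = 1 := by
        have h5 : b * 1 = b * c ^ 3 := by
          rw [mul_one]
          calc b = b * c * c * c := e2
            _ = b * c ^ 3 := by simp only [pow_succ, pow_zero, one_mul, mul_assoc]
        exact (mul_left_cancel h5).symm
      rw [hαb', eq_one_of_cube hH hc3, mul_one]
  apply hb₀Z
  have hle : Subgroup.closure {x : H | ∃ h : H, x = h⁻¹ * α h} ≤
      Subgroup.centralizer ({b₀} : Set H) := by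
    rw [Subgroup.closure_le]
    rintro x ⟨h, rfl⟩
    rw [SetLike.mem_coe, Subgroup.mem_centralizer_singleton_iff]
    set k := ⁅b₀, h⁆ with hk
    have hkZ : k ∈ Subgroup.center H := hb₀B.2 h
    have hαk : α k = k := hαZ k hkZ
    have hkc : ∀ x : H, k * x = x * k := fun x => ((Subgroup.mem_center_iff.mp hkZ) x).symm
    have e1 : b₀ * h * b₀⁻¹ = k * h := by rw [hk, commutatorElement_def]; group
    have e2 : b₀ * α h * b₀⁻¹ = k * α h := by
      have h1 := congrArg α e1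
      rw [map_mul, map_mul, map_mul, map_inv, hfix b₀ hb₀B, hαk] at h1
      exact h1
    have e3 : b₀ * (h⁻¹ * α h) * b₀⁻¹ = h⁻¹ * α h := by
      calc b₀ * (h⁻¹ * α h) * b₀⁻¹ = (b₀ * h * b₀⁻¹)⁻¹ * (b₀ * α h * b₀⁻¹) := by group
        _ = (k * h)⁻¹ * (k * α h) := by rw [e1, e2]
        _ = h⁻¹ * α h := by group
    calc h⁻¹ * α h * b₀ = (b₀ * (h⁻¹ * α h) * b₀⁻¹) * b₀ := by rw [e3]
      _ = b₀ * (h⁻¹ * α h) := by group
  rw [hgen] at hle
  rw [Subgroup.mem_center_iff]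
  intro g
  have := hle (Subgroup.mem_top g)
  rw [Subgroup.mem_centralizer_singleton_iff] at this
  exact this

end T

section Helpers

variable {G : Type*} [Group G] [Finite G]

/-- a `p`-group acting by conjugation on a nontrivial `p`-subgroup fixes a nontrivial element -/
theorem fixed_of_pgroup_normalizes {p : ℕ} [Fact p.Prime]
    (P N : Subgroup G) (hP : IsPGroup p P) (hN : IsPGroup p N) (hne : N ≠ ⊥)
    (hnorm : ∀ g ∈ P, ∀ n ∈ N, g * n * g⁻¹ ∈ N) :
    ∃ z ∈ N, z ≠ 1 ∧ ∀ g ∈ P, g * z * g⁻¹ = z := by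
  letI : MulAction ↥P ↥N :=
    { smul := fun g n => ⟨(g : G) * (n : G) * (g : G)⁻¹, hnorm g g.2 n n.2⟩
      one_smul := fun n => Subtype.ext (by
        show ((1 : ↥P) : G) * (n : G) * ((1 : ↥P) : G)⁻¹ = n
        simp)
      mul_smul := fun g h n => Subtype.ext (by
        show ((g * h : ↥P) : G) * (n : G) * ((g * h : ↥P) : G)⁻¹ =
          (g : G) * ((h : G) * (n : G) * (h : G)⁻¹) * (g : G)⁻¹
        simp [mul_assoc]) }
  have hp : p ∣ Nat.card ↥N := by
    haveI : Nontrivial ↥N := (Subgroup.nontrivial_iff_ne_bot N).mpr hne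
    obtain ⟨n, hn0, hn⟩ := hN.nontrivial_iff_card.mp inferInstance
    rw [hn]
    exact dvd_pow_self _ (ne_of_gt hn0)
  have hfix : (1 : ↥N) ∈ MulAction.fixedPoints ↥P ↥N := fun g => Subtype.ext (by
    show (g : G) * ((1 : ↥N) : G) * (g : G)⁻¹ = ((1 : ↥N) : G)
    simp)
  obtain ⟨b, hb, hb1⟩ := hP.exists_fixed_point_of_prime_dvd_card_of_fixed_point ↥N hp hfix
  refine ⟨b, b.2, fun h => hb1 (Subtype.ext h.symm), fun g hg => ?_⟩
  exact congrArg Subtype.val (hb ⟨g, hg⟩)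

/-- under the rank hypothesis, elementary abelian `2`-subgroups have order at most `4` -/
theorem card_le_four
    (hno : ¬ ∃ E : Subgroup G, Cfsg.IsElementaryAbelian 2 E ∧ Nat.card E = 8)
    (E : Subgroup G) (hE : Cfsg.IsElementaryAbelian 2 E) : Nat.card E ≤ 4 := by
  haveI : Fact (Nat.Prime 2) := ⟨Nat.prime_two⟩
  have hE2 : IsPGroup 2 E := fun x => ⟨1, Subtype.ext (by
    rw [pow_one, Subgroup.coe_pow]; exact hE.2 x x.2)⟩
  obtain ⟨k, hk⟩ := IsPGroup.iff_card.mp hE2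
  by_contra hgt
  push_neg at hgt
  have hk3 : 3 ≤ k := by
    by_contra hlt
    push_neg at hlt
    have : 2 ^ k ≤ 2 ^ 2 := Nat.pow_le_pow_right (by norm_num) (by omega)
    omega
  have hdvd : 2 ^ 3 ∣ Nat.card ↥E := by rw [hk]; exact pow_dvd_pow 2 hk3
  obtain ⟨K, hK⟩ := Sylow.exists_subgroup_card_pow_prime 2 hdvd
  apply hno
  refine ⟨K.map E.subtype, ⟨?_, ?_⟩, ?_⟩
  · refine ⟨⟨fun a b => ?_⟩⟩
    obtain ⟨a', -, ha'⟩ := a.2
    obtain ⟨b', -, hb'⟩ := b.2
    apply Subtype.ext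
    rw [Subgroup.coe_mul, Subgroup.coe_mul, ← ha', ← hb']
    exact congrArg Subtype.val (hE.1.is_comm.comm a' b')
  · rintro a ⟨a', -, rfl⟩
    exact hE.2 a' a'.2
  · rw [Subgroup.card_map_of_injective (Subgroup.subtype_injective E), hK]; norm_num

/-- an involution centralizing a four-group lies in it -/
theorem mem_of_sq_eq_one
    (hno : ¬ ∃ E : Subgroup G, Cfsg.IsElementaryAbelian 2 E ∧ Nat.card E = 8)
    (V : Subgroup G) (hV : Cfsg.IsElementaryAbelian 2 V) (hV4 : Nat.card V = 4)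
    (u : G) (hu2 : u ^ 2 = 1) (huV : u ∈ Subgroup.centralizer (V : Set G)) : u ∈ V := by
  have h1 := QuadRank.elementary_sup_zpowers V hV.1 hV.2 u huV hu2
  have h2 := card_le_four hno _ h1
  have h3 : V = V ⊔ Subgroup.zpowers u :=
    Subgroup.eq_of_le_of_card_ge le_sup_left (by rw [hV4]; exact h2)
  rw [h3]
  exact le_sup_right (a := V) (Subgroup.mem_zpowers u)

/-- an element of odd order normalizing a four-group and fixing one of its involutions
centralizes it -/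
theorem centralizes_of_fix (V : Subgroup G) (hV4 : Nat.card V = 4)
    (hV2 : ∀ v ∈ V, v ^ 2 = 1) (hVc : ∀ a ∈ V, ∀ b ∈ V, a * b = b * a)
    (y : G) (n : ℕ) (hy : y ^ (2 * n + 1) = 1)
    (hyV : ∀ v ∈ V, y * v * y⁻¹ ∈ V) (w₀ : G) (hw₀ : w₀ ∈ V) (hw₀1 : w₀ ≠ 1)
    (hfix : y * w₀ * y⁻¹ = w₀) : ∀ v ∈ V, y * v * y⁻¹ = v := by
  -- the fixed subgroup
  let X : Subgroup G :=
    { carrier := {v | v ∈ V ∧ y * v * y⁻¹ = v}
      one_mem' := ⟨Subgroup.one_mem _, by simp⟩
      mul_mem' := fun {a b} ha hb => ⟨mul_mem ha.1 hb.1, by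
        have : y * (a * b) * y⁻¹ = (y * a * y⁻¹) * (y * b * y⁻¹) := by group
        rw [this, ha.2, hb.2]⟩
      inv_mem' := fun {a} ha => ⟨inv_mem ha.1, by
        have : y * a⁻¹ * y⁻¹ = (y * a * y⁻¹)⁻¹ := by group
        rw [this, ha.2]⟩ }
  have hXV : X ≤ V := fun v hv => hv.1
  suffices hsuff : V ≤ X from fun v hv => (hsuff hv).2
  have hdvd : Nat.card X ∣ 4 := by rw [← hV4]; exact Subgroup.card_dvd_of_le hXV
  have hle : Nat.card X ≤ 4 := Nat.le_of_dvd (by norm_num) hdvd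
  have hpos : 0 < Nat.card X := Nat.card_pos
  have hw₀X : w₀ ∈ X := ⟨hw₀, hfix⟩
  interval_cases hc : Nat.card X
  · exfalso
    have := Subgroup.card_eq_one.mp hc
    rw [this, Subgroup.mem_bot] at hw₀X
    exact hw₀1 hw₀X
  · -- card 2
    intro w hw
    by_contra hwX
    obtain ⟨z, hz1, hzu⟩ := (Nat.card_eq_two_iff' (1 : ↥X)).mp hc
    have hXelts : ∀ x ∈ X, x = 1 ∨ x = w₀ := by
      intro x hx
      by_cases hx1 : x = 1
      · exact Or.inl hx1
      · right
        have e1 := hzu ⟨x, hx⟩ (fun h => hx1 (congrArg Subtype.val h))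
        have e2 := hzu ⟨w₀, hw₀X⟩ (fun h => hw₀1 (congrArg Subtype.val h))
        have := e1.trans e2.symm
        exact congrArg Subtype.val this
    set w' := y * w * y⁻¹ with hw'
    have hw'V : w' ∈ V := hyV w hw
    -- w * w' is fixed by y² ... first show w' = w * w₀
    have hidx : (X.subgroupOf V).index = 2 := by
      have h1 := QuadTwo.card_mul_relIndex_of_le hXV
      rw [hc, hV4] at h1
      show X.relIndex V = 2
      omega
    have hmul := Subgroup.mul_mem_iff_of_index_two hidx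
      (a := (⟨w, hw⟩ : ↥V)⁻¹) (b := (⟨w', hw'V⟩ : ↥V))
    have hw'X : w' ∉ X := by
      intro h
      apply hwX
      have h2 : y * w' * y⁻¹ = w' := h.2
      have h3 : w' = w := by
        have : y * w' * y⁻¹ = y * w * y⁻¹ := h2
        have h4 := mul_right_cancel this
        exact mul_left_cancel h4
      rw [← h3]; exact h
    have hprod : w⁻¹ * w' ∈ X := by
      have : ((⟨w, hw⟩ : ↥V)⁻¹ * ⟨w', hw'V⟩ ∈ X.subgroupOf V) := by
        rw [hmul]
        constructor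
        · intro h
          exfalso
          apply hwX
          have h2 : w⁻¹ ∈ X := by simpa [Subgroup.mem_subgroupOf] using h
          simpa using inv_mem h2
        · intro h
          exfalso
          apply hw'X
          simpa [Subgroup.mem_subgroupOf] using h
      simpa [Subgroup.mem_subgroupOf] using this
    rcases hXelts _ hprod with h1 | h1
    · apply hwX
      have : w' = w := by
        calc w' = w * (w⁻¹ * w') := by group
          _ = w := by rw [h1, mul_one]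
      exact ⟨hw, this⟩
    · -- w' = w * w₀
      have hw'eq : w' = w * w₀ := by
        calc w' = w * (w⁻¹ * w') := by group
          _ = w * w₀ := by rw [h1]
      -- y² fixes w
      have hy2 : y ^ 2 * w * (y ^ 2)⁻¹ = w := by
        have : y ^ 2 * w * (y ^ 2)⁻¹ = y * w' * y⁻¹ := by
          rw [hw', pow_two, mul_inv_rev]; simp only [mul_assoc]
        rw [this, hw'eq]
        have : y * (w * w₀) * y⁻¹ = (y * w * y⁻¹) * (y * w₀ * y⁻¹) := by group
        rw [this, hfix, ← hw', hw'eq, mul_assoc, ← pow_two, hV2 w₀ hw₀, mul_one]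
      -- y = (y²)^(n+1)
      have hyy : y = (y ^ 2) ^ (n + 1) := by
        rw [← pow_mul]
        have : 2 * (n + 1) = (2 * n + 1) + 1 := by ring
        rw [this, pow_succ, hy, one_mul]
      have hpowfix : ∀ m : ℕ, (y ^ 2) ^ m * w * ((y ^ 2) ^ m)⁻¹ = w := by
        intro m
        induction m with
        | zero => simp
        | succ m ih =>
          have : (y ^ 2) ^ (m + 1) * w * ((y ^ 2) ^ (m + 1))⁻¹ =
              (y ^ 2) ^ m * (y ^ 2 * w * (y ^ 2)⁻¹) * ((y ^ 2) ^ m)⁻¹ := by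
            rw [pow_succ]; group
          rw [this, hy2, ih]
      apply hwX
      refine ⟨hw, ?_⟩
      have := hpowfix (n + 1)
      rw [← hyy] at this
      exact this
  · exfalso; norm_num at hdvd
  · intro w hw
    have := Subgroup.eq_of_le_of_card_ge hXV (by rw [hV4, hc])
    rw [this]; exact hw

end Helpers

section Main

variable {G : Type*} [Group G] [Finite G]

/-- second stage: from the normalised configuration to the abstract contradiction -/
theorem stage_two (Q W : Subgroup G) (hQ2 : IsPGroup 2 Q)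
    (hWQ : W ≤ Q) (hWZ : ∀ w ∈ W, ∀ q ∈ Q, w * q = q * w) (hW4 : Nat.card W = 4)
    (hW2 : ∀ w ∈ W, w ^ 2 = 1) (hinv : ∀ x ∈ Q, x ^ 2 = 1 → x ∈ W)
    (y d : G) (hy3 : y ^ 3 = 1) (hyQ : ∀ q ∈ Q, y * q * y⁻¹ ∈ Q) (hdQ : ∀ q ∈ Q, d * q * d⁻¹ ∈ Q)
    (hyW : ∀ w ∈ W, y * w * y⁻¹ = w)
    (hyq : ∃ q ∈ Q, y * q * y⁻¹ ≠ q) (hyd : y * d = d * y)
    (hd : ∀ w ∈ W, d * w * d⁻¹ = w → w = 1) : False := by
  -- choose a minimal invariant subgroup not centralized by `y`
  let Pr : Subgroup G → Prop := fun R => R ≤ Q ∧ (∀ r ∈ R, y * r * y⁻¹ ∈ R) ∧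
    (∀ r ∈ R, d * r * d⁻¹ ∈ R) ∧ ∃ r ∈ R, y * r * y⁻¹ ≠ r
  have hPrQ : Pr Q := ⟨le_refl _, hyQ, hdQ, hyq⟩
  obtain ⟨Q₁, hQ₁min⟩ := exists_minimal_of_wellFoundedLT Pr ⟨Q, hPrQ⟩
  obtain ⟨hQ₁Q, hyQ₁, hdQ₁, r₀, hr₀, hr₀y⟩ := hQ₁min.prop
  have hQ₁2 : IsPGroup 2 Q₁ := hQ2.to_le hQ₁Q
  -- the commutator subgroup [Q₁, y] equals Q₁
  set S : Set G := {x | ∃ g ∈ Q₁, x = g⁻¹ * (y * g * y⁻¹)} with hS
  have hSQ₁ : S ⊆ Q₁ := by
    rintro x ⟨g, hg, rfl⟩
    exact mul_mem (inv_mem hg) (hyQ₁ g hg)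
  have hKle : Subgroup.closure S ≤ Q₁ := (Subgroup.closure_le _).mpr hSQ₁
  have hcube : ∀ c ∈ Q, c ^ 3 = 1 → c = 1 := by
    intro c hc h3
    have := eq_one_of_cube (H := ↥Q) hQ2 (c := ⟨c, hc⟩) (Subtype.ext (by
      rw [Subgroup.coe_pow]; exact h3))
    exact congrArg Subtype.val this
  have hKPr : Pr (Subgroup.closure S) := by
    refine ⟨hKle.trans hQ₁Q, ?_, ?_, ?_⟩
    · have hmap : (Subgroup.closure S).map (MulAut.conj y).toMonoidHom ≤ Subgroup.closure S := by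
        rw [MonoidHom.map_closure, Subgroup.closure_le]
        rintro _ ⟨x, ⟨g, hg, rfl⟩, rfl⟩
        apply Subgroup.subset_closure
        refine ⟨y * g * y⁻¹, hyQ₁ g hg, ?_⟩
        simp only [MulEquiv.coe_toMonoidHom, MulAut.conj_apply]
        group
      intro k hk
      have := hmap (Subgroup.mem_map_of_mem _ hk)
      simpa [MulAut.conj_apply] using this
    · have hmap : (Subgroup.closure S).map (MulAut.conj d).toMonoidHom ≤ Subgroup.closure S := by
        rw [MonoidHom.map_closure, Subgroup.closure_le]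
        rintro _ ⟨x, ⟨g, hg, rfl⟩, rfl⟩
        apply Subgroup.subset_closure
        refine ⟨d * g * d⁻¹, hdQ₁ g hg, ?_⟩
        simp only [MulEquiv.coe_toMonoidHom, MulAut.conj_apply]
        have e1 : d * (g⁻¹ * (y * g * y⁻¹)) * d⁻¹ = (d * g * d⁻¹)⁻¹ * ((d * y) * g * (d * y)⁻¹) := by
          group
        have e2 : y * (d * g * d⁻¹) * y⁻¹ = (y * d) * g * (y * d)⁻¹ := by group
        rw [e1, e2, hyd]
      intro k hk
      have := hmap (Subgroup.mem_map_of_mem _ hk)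
      simpa [MulAut.conj_apply] using this
    · by_contra hall
      push_neg at hall
      apply hr₀y
      set c := r₀⁻¹ * (y * r₀ * y⁻¹) with hc
      have hcK : c ∈ Subgroup.closure S := Subgroup.subset_closure ⟨r₀, hr₀, rfl⟩
      have hcy : y * c * y⁻¹ = c := hall c hcK
      have e1 : y * r₀ * y⁻¹ = r₀ * c := by rw [hc]; group
      have e2 : y ^ 3 * r₀ * (y ^ 3)⁻¹ = r₀ * c ^ 3 := by
        have a1 : y ^ 2 * r₀ * (y ^ 2)⁻¹ = r₀ * c * c := by
          calc y ^ 2 * r₀ * (y ^ 2)⁻¹ = y * (y * r₀ * y⁻¹) * y⁻¹ := by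
                rw [pow_two, mul_inv_rev]; simp only [mul_assoc]
            _ = y * (r₀ * c) * y⁻¹ := by rw [e1]
            _ = (y * r₀ * y⁻¹) * (y * c * y⁻¹) := by group
            _ = r₀ * c * c := by rw [e1, hcy]
        calc y ^ 3 * r₀ * (y ^ 3)⁻¹ = y * (y ^ 2 * r₀ * (y ^ 2)⁻¹) * y⁻¹ := by
              rw [pow_succ' y 2, mul_inv_rev]; simp only [mul_assoc]
          _ = y * (r₀ * c * c) * y⁻¹ := by rw [a1]
          _ = (y * r₀ * y⁻¹) * (y * c * y⁻¹) * (y * c * y⁻¹) := by group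
          _ = r₀ * c ^ 3 := by
              rw [e1, hcy]; simp only [pow_succ, pow_zero, one_mul, mul_assoc]
      rw [hy3, inv_one, one_mul, mul_one] at e2
      have hc3 : c ^ 3 = 1 := by
        have : r₀ * 1 = r₀ * c ^ 3 := by rw [mul_one]; exact e2
        exact (mul_left_cancel this).symm
      have hc1 := hcube c (hQ₁Q (hKle hcK)) hc3
      rw [e1, hc1, mul_one]
  have hKeq : Subgroup.closure S = Q₁ :=
    le_antisymm hKle (hQ₁min.le_of_le hKPr hKle)
  -- W ≤ Q₁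
  have hr₀1 : r₀ ≠ 1 := by
    intro h; apply hr₀y; rw [h]; group
  have hδWW : ∀ x ∈ W, d * x * d⁻¹ ∈ W := by
    intro x hxW
    apply hinv _ (hdQ x (hWQ hxW))
    have : (d * x * d⁻¹) ^ 2 = d * x ^ 2 * d⁻¹ := by rw [pow_two, pow_two]; group
    rw [this, hW2 x hxW]; group
  have hWQ₁ : W ≤ Q₁ := by
    obtain ⟨e, he1, he2⟩ := exists_pow_involution (K := ↥Q₁) hQ₁2 (c := ⟨r₀, hr₀⟩)
      (fun h => hr₀1 (congrArg Subtype.val h))
    have hu : r₀ ^ e ∈ Q₁ := pow_mem hr₀ e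
    have hu1 : r₀ ^ e ≠ 1 := fun h => he1 (Subtype.ext (by rw [Subgroup.coe_pow]; exact h))
    have hu2 : (r₀ ^ e) ^ 2 = 1 := by
      have := congrArg Subtype.val he2
      simpa using this
    have huW : r₀ ^ e ∈ W := hinv _ (hQ₁Q hu) hu2
    have hirr := irr_of_fpf W hW4 (MulAut.conj d).toMonoidHom (MulAut.conj d).injective
      (fun w hw h => hd w hw (by simpa [MulAut.conj_apply] using h)) (Q₁ ⊓ W) inf_le_right
      (fun x hx => ⟨by simpa [MulAut.conj_apply] using hdQ₁ x hx.1, by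
        simpa [MulAut.conj_apply] using hδWW x hx.2⟩)
    rcases hirr with hbot | htop
    · exfalso
      have : r₀ ^ e ∈ Q₁ ⊓ W := ⟨hu, huW⟩
      rw [hbot, Subgroup.mem_bot] at this
      exact hu1 this
    · rw [← htop]; exact inf_le_left
  -- the restricted automorphisms
  let α : ↥Q₁ →* ↥Q₁ := MonoidHom.mk' (fun g => ⟨y * g * y⁻¹, hyQ₁ g g.2⟩) (by
    intro a b; apply Subtype.ext; simp only [Subgroup.coe_mul]; group)
  let δ : ↥Q₁ →* ↥Q₁ := MonoidHom.mk' (fun g => ⟨d * g * d⁻¹, hdQ₁ g g.2⟩) (by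
    intro a b; apply Subtype.ext; simp only [Subgroup.coe_mul]; group)
  have hαval : ∀ g : ↥Q₁, ((α g : ↥Q₁) : G) = y * g * y⁻¹ := fun g => rfl
  have hδval : ∀ g : ↥Q₁, ((δ g : ↥Q₁) : G) = d * g * d⁻¹ := fun g => rfl
  refine main_T (H := ↥Q₁) hQ₁2 (W.subgroupOf Q₁) ?_ ?_ ?_ ?_ α δ ?_ ?_ ?_ ?_ ?_ ?_
  · rw [Nat.card_congr (Subgroup.subgroupOfEquivOfLe hWQ₁).toEquiv, hW4]
  · intro w hw
    rw [Subgroup.mem_subgroupOf] at hw
    rw [Subgroup.mem_center_iff]
    intro g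
    apply Subtype.ext
    rw [Subgroup.coe_mul, Subgroup.coe_mul]
    exact (hWZ _ hw g (hQ₁Q g.2)).symm
  · intro w hw
    apply Subtype.ext
    rw [Subgroup.coe_pow]; exact hW2 _ (Subgroup.mem_subgroupOf.mp hw)
  · intro x hx
    rw [Subgroup.mem_subgroupOf]
    apply hinv _ (hQ₁Q x.2)
    have := congrArg Subtype.val hx
    simpa using this
  · intro h
    apply Subtype.ext
    rw [hαval, hαval, hαval]
    have : y * (y * (y * (h : G) * y⁻¹) * y⁻¹) * y⁻¹ = y ^ 3 * h * (y ^ 3)⁻¹ := by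
      simp only [pow_succ, pow_zero, one_mul, mul_inv_rev, mul_assoc]
    rw [this, hy3]; group
  · intro w hw
    apply Subtype.ext
    rw [hαval]; exact hyW _ (Subgroup.mem_subgroupOf.mp hw)
  · intro a b hab
    apply Subtype.ext
    have := congrArg Subtype.val hab
    rw [hδval, hδval] at this
    exact mul_left_cancel (mul_right_cancel this)
  · intro h
    apply Subtype.ext
    rw [hαval, hδval, hδval, hαval]
    have e1 : y * (d * (h : G) * d⁻¹) * y⁻¹ = (y * d) * h * (y * d)⁻¹ := by group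
    have e2 : d * (y * (h : G) * y⁻¹) * d⁻¹ = (d * y) * h * (d * y)⁻¹ := by group
    rw [e1, e2, hyd]
  · intro w hw hfix
    apply Subtype.ext
    have := congrArg Subtype.val hfix
    rw [hδval] at this
    exact hd _ (Subgroup.mem_subgroupOf.mp hw) this
  · apply Subgroup.map_injective (Subgroup.subtype_injective Q₁)
    rw [MonoidHom.map_closure, ← MonoidHom.range_eq_map, Subgroup.range_subtype]
    refine Eq.trans ?_ hKeq
    congr 1
    ext x
    constructor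
    · rintro ⟨_, ⟨h, rfl⟩, rfl⟩
      exact ⟨h, h.2, by simp [hαval]⟩
    · rintro ⟨g, hg, rfl⟩
      exact ⟨(⟨g, hg⟩ : ↥Q₁)⁻¹ * α ⟨g, hg⟩, ⟨⟨g, hg⟩, rfl⟩, by simp [hαval]⟩

/-- a proper nontrivial subgroup of a group of order four has order two -/
theorem card_two_of_proper (V X : Subgroup G) (hV4 : Nat.card V = 4) (hXV : X ≤ V)
    (hX1 : X ≠ ⊥) (hXV' : X ≠ V) : Nat.card X = 2 := by
  have hdvd : Nat.card X ∣ 4 := by rw [← hV4]; exact Subgroup.card_dvd_of_le hXV
  have hle : Nat.card X ≤ 4 := Nat.le_of_dvd (by norm_num) hdvd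
  have hpos : 0 < Nat.card X := Nat.card_pos
  interval_cases hc : Nat.card X
  · exact absurd (Subgroup.card_eq_one.mp hc) hX1
  · rfl
  · exfalso; norm_num at hdvd
  · exact absurd (Subgroup.eq_of_le_of_card_ge hXV (by rw [hV4, hc])) hXV'

theorem main (hchar : Subgroup.centralizer (Cfsg.pCore 2 G : Set G) ≤ Cfsg.pCore 2 G)
    (hsix : ∃ g : G, orderOf g = 6) (d : G) (_hd1 : d ≠ 1)
    (hd : IsPGroup 3 ↥(Subgroup.zpowers d)) (W : Subgroup G)
    (hW : Cfsg.IsElementaryAbelian 2 W) (hW1 : W ≠ ⊥)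
    (hdW : d ∈ Subgroup.normalizer (W : Set G))
    (hfpf : W ⊓ Subgroup.centralizer {d} = ⊥) :
    ∃ E : Subgroup G, Cfsg.IsElementaryAbelian 2 E ∧ Nat.card E = 8 := by
  by_contra hno
  haveI : Fact (Nat.Prime 2) := ⟨Nat.prime_two⟩
  haveI : Fact (Nat.Prime 3) := ⟨Nat.prime_three⟩
  obtain ⟨Q, hQdef⟩ : ∃ Q, Q = Cfsg.pCore 2 G := ⟨_, rfl⟩
  rw [← hQdef] at hchar
  haveI hQn : Q.Normal := hQdef ▸ Lib.Helper7.pCore_normal 2 G
  have hQ2 : IsPGroup 2 Q := hQdef ▸ Lib.Helper7.pCore_isPGroup 2 G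
  have hdW' : ∀ w, w ∈ W ↔ d * w * d⁻¹ ∈ W := fun w => Subgroup.mem_normalizer_iff.mp hdW w
  have hdfix : ∀ w ∈ W, d * w * d⁻¹ = w → w = 1 := by
    intro w hw h
    have hmem : w ∈ W ⊓ Subgroup.centralizer {d} := by
      refine Subgroup.mem_inf.mpr ⟨hw, ?_⟩
      rw [Subgroup.mem_centralizer_singleton_iff]
      calc w * d = (d * w * d⁻¹) * d := by rw [h]
        _ = d * w := by group
    rw [hfpf, Subgroup.mem_bot] at hmem
    exact hmem
  have hWcomm : ∀ a ∈ W, ∀ b ∈ W, a * b = b * a := fun a ha b hb =>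
    congrArg Subtype.val (hW.1.is_comm.comm ⟨a, ha⟩ ⟨b, hb⟩)
  have hW2g : IsPGroup 2 W := fun x => ⟨1, Subtype.ext (by
    rw [pow_one, Subgroup.coe_pow]; exact hW.2 x x.2)⟩
  -- Step 1
  have hW4 : Nat.card W = 4 := by
    have hle := card_le_four hno W hW
    obtain ⟨k, hk⟩ := IsPGroup.iff_card.mp hW2g
    have hk0 : k ≠ 0 := by
      intro h0; rw [h0, pow_zero] at hk
      exact hW1 (Subgroup.card_eq_one.mp hk)
    have hk2 : k ≤ 2 := by
      by_contra hgt; push_neg at hgt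
      have : 2 ^ 3 ≤ 2 ^ k := Nat.pow_le_pow_right (by norm_num) hgt
      omega
    rcases (by omega : k = 1 ∨ k = 2) with rfl | rfl
    · exfalso
      rw [pow_one] at hk
      obtain ⟨z, hz1, hzu⟩ := (Nat.card_eq_two_iff' (1 : ↥W)).mp hk
      have hz1' : (z : G) ≠ 1 := fun h => hz1 (Subtype.ext h)
      have hdz : d * z * d⁻¹ ∈ W := (hdW' z).mp z.2
      have hdz1 : (⟨d * z * d⁻¹, hdz⟩ : ↥W) ≠ 1 := by
        intro h
        have h2 : d * (z : G) * d⁻¹ = 1 := congrArg Subtype.val h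
        apply hz1'
        have h3 : (z : G) = d⁻¹ * (d * z * d⁻¹) * d := by group
        rw [h3, h2]; group
      have h3 := hzu _ hdz1
      exact hz1' (hdfix z z.2 (congrArg Subtype.val h3))
    · rw [hk]; norm_num
  -- Step 2
  have hQne : Q ≠ ⊥ := by
    intro hbot
    have htop : (⊤ : Subgroup G) ≤ Q := by
      refine le_trans ?_ hchar
      intro g _
      rw [Subgroup.mem_centralizer_iff]
      intro h hh
      rw [SetLike.mem_coe, hbot, Subgroup.mem_bot] at hh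
      rw [hh]; simp
    rw [hbot] at htop
    apply hW1
    rw [eq_bot_iff]; exact le_trans le_top htop
  let Z₁ : Subgroup G :=
    { carrier := {x | x ∈ Q ∧ (∀ q ∈ Q, q * x = x * q) ∧ x ^ 2 = 1}
      one_mem' := ⟨Subgroup.one_mem _, fun q _ => by simp, one_pow 2⟩
      mul_mem' := fun {a b} ha hb => ⟨mul_mem ha.1 hb.1, fun q hq => by
        rw [← mul_assoc, ha.2.1 q hq, mul_assoc, hb.2.1 q hq, mul_assoc], by
        have hc : Commute a b := hb.2.1 a ha.1
        rw [hc.mul_pow, ha.2.2, hb.2.2, one_mul]⟩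
      inv_mem' := fun {a} ha => ⟨inv_mem ha.1, fun q hq => by
        have h1 := ha.2.1 q hq
        calc q * a⁻¹ = a⁻¹ * (a * q) * a⁻¹ := by group
          _ = a⁻¹ * (q * a) * a⁻¹ := by rw [h1]
          _ = a⁻¹ * q := by group, by rw [inv_pow, ha.2.2, inv_one]⟩ }
  have hZ₁mem : ∀ x, x ∈ Z₁ ↔ x ∈ Q ∧ (∀ q ∈ Q, q * x = x * q) ∧ x ^ 2 = 1 := fun x => Iff.rfl
  have hZ₁el : Cfsg.IsElementaryAbelian 2 Z₁ :=
    ⟨⟨⟨fun a b => Subtype.ext ((a.2.2.1 b b.2.1).symm)⟩⟩, fun a ha => ha.2.2⟩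
  have hZ₁n : Z₁.Normal := by
    refine ⟨fun x hx g => ?_⟩
    refine ⟨hQn.conj_mem x hx.1 g, fun q hq => ?_, ?_⟩
    · have hq' : g⁻¹ * q * g ∈ Q := by
        have := hQn.conj_mem q hq g⁻¹
        simpa using this
      have h1 := hx.2.1 _ hq'
      calc q * (g * x * g⁻¹) = g * ((g⁻¹ * q * g) * x) * g⁻¹ := by group
        _ = g * (x * (g⁻¹ * q * g)) * g⁻¹ := by rw [h1]
        _ = g * x * g⁻¹ * q := by group
    · have : (g * x * g⁻¹) ^ 2 = g * x ^ 2 * g⁻¹ := by rw [pow_two, pow_two]; group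
      rw [this, hx.2.2]; group
  have hZ₁ne : Z₁ ≠ ⊥ := by
    haveI : Nontrivial ↥Q := (Subgroup.nontrivial_iff_ne_bot Q).mpr hQne
    haveI : Finite ↥Q := inferInstance
    haveI := hQ2.center_nontrivial
    obtain ⟨k, hk⟩ := exists_ne (1 : Subgroup.center ↥Q)
    have hk1 : (k : ↥Q) ≠ 1 := fun h => hk (Subtype.ext h)
    obtain ⟨e, he1, he2⟩ := exists_pow_involution hQ2 hk1
    have hkc : (k : ↥Q) ^ e ∈ Subgroup.center ↥Q := pow_mem k.2 e
    intro hbot
    have hmem : (((k : ↥Q) ^ e : ↥Q) : G) ∈ Z₁ := by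
      refine ⟨((k : ↥Q) ^ e).2, fun q hq => ?_, ?_⟩
      · have := (Subgroup.mem_center_iff.mp hkc) ⟨q, hq⟩
        exact congrArg Subtype.val this
      · have := congrArg Subtype.val he2
        simpa using this
    rw [hbot, Subgroup.mem_bot] at hmem
    exact he1 (Subtype.ext hmem)
  have hZ₁Q : Z₁ ≤ Q := fun x hx => hx.1
  have hWeq : Z₁ = W := by
    have hirr := irr_of_fpf W hW4 (MulAut.conj d).toMonoidHom (MulAut.conj d).injective
      (fun w hw h => hdfix w hw (by simpa [MulAut.conj_apply] using h)) (Z₁ ⊓ W) inf_le_right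
      (fun x hx => ⟨by simpa [MulAut.conj_apply] using hZ₁n.conj_mem x hx.1 d, by
        simpa [MulAut.conj_apply] using (hdW' x).mp hx.2⟩)
    rcases hirr with hbot | htop
    · exfalso
      obtain ⟨S, hWS⟩ := hW2g.exists_le_sylow
      have hQS : Q ≤ (S : Subgroup G) := hQdef ▸ Lib.Helper7.pCore_le_sylow S
      have hZS : Z₁ ≤ (S : Subgroup G) := hZ₁Q.trans hQS
      haveI : (Z₁.subgroupOf (S : Subgroup G)).Normal := hZ₁n.subgroupOf _
      have hne' : Z₁.subgroupOf (S : Subgroup G) ≠ ⊥ := by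
        intro h
        rw [Subgroup.subgroupOf_eq_bot] at h
        apply hZ₁ne
        rw [eq_bot_iff]
        intro x hx
        exact (Subgroup.disjoint_def.mp h) hx (hZS hx)
      obtain ⟨z, hzZ, hzc, hz1⟩ :=
        Lib.Lead.PGroup.exists_mem_center_of_normal S.isPGroup' (Z₁.subgroupOf (S : Subgroup G)) hne'
      rw [Subgroup.mem_subgroupOf] at hzZ
      have hzW : (z : G) ∈ W := by
        apply mem_of_sq_eq_one hno W hW hW4 _ hzZ.2.2
        rw [Subgroup.mem_centralizer_iff]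
        intro w hw
        have := (Subgroup.mem_center_iff.mp hzc) ⟨w, hWS hw⟩
        exact congrArg Subtype.val this
      have hmem : (z : G) ∈ Z₁ ⊓ W := ⟨hzZ, hzW⟩
      rw [hbot, Subgroup.mem_bot] at hmem
      exact hz1 (Subtype.ext hmem)
    · have hWZ₁ : W ≤ Z₁ := by rw [← htop]; exact inf_le_left
      exact (Subgroup.eq_of_le_of_card_ge hWZ₁ (by
        rw [hW4]; exact card_le_four hno Z₁ hZ₁el)).symm
  have hWQ : W ≤ Q := hWeq ▸ hZ₁Q
  have hWZ : ∀ w ∈ W, ∀ q ∈ Q, w * q = q * w := by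
    intro w hw q hq
    have hw' : w ∈ Z₁ := hWeq ▸ hw
    exact (hw'.2.1 q hq).symm
  haveI hWn : W.Normal := hWeq ▸ hZ₁n
  -- Step 3
  have hinvC : ∀ x : G, x ^ 2 = 1 → x ∈ Subgroup.centralizer (W : Set G) → x ∈ W :=
    fun x hx hxC => mem_of_sq_eq_one hno W hW hW4 x hx hxC
  have hinvQ : ∀ x ∈ Q, x ^ 2 = 1 → x ∈ W := by
    intro x hx hx2
    apply hinvC x hx2
    rw [Subgroup.mem_centralizer_iff]
    intro w hw
    exact hWZ w hw x hx
  have hcentW : ∀ x : G, x ∈ Subgroup.centralizer (W : Set G) ↔ ∀ w ∈ W, x * w * x⁻¹ = w := by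
    intro x
    rw [Subgroup.mem_centralizer_iff]
    constructor
    · intro h w hw
      rw [← h w hw]; group
    · intro h w hw
      calc w * x = (x * w * x⁻¹) * x := by rw [h w hw]
        _ = x * w := by group
  -- Step 4
  obtain ⟨g, hg6⟩ := hsix
  have hg6' : g ^ 6 = 1 := by rw [← hg6]; exact pow_orderOf_eq_one g
  obtain ⟨t, ht⟩ : ∃ t, t = g ^ 3 := ⟨_, rfl⟩
  obtain ⟨y₀, hy₀⟩ : ∃ y₀, y₀ = g ^ 2 := ⟨_, rfl⟩
  have ht2 : t ^ 2 = 1 := by rw [ht, ← pow_mul]; exact hg6'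
  have hy₀3 : y₀ ^ 3 = 1 := by rw [hy₀, ← pow_mul]; exact hg6'
  have ht1 : t ≠ 1 := by
    intro h
    rw [ht] at h
    have : orderOf g ∣ 3 := orderOf_dvd_of_pow_eq_one h
    rw [hg6] at this; norm_num at this
  have hy₀1 : y₀ ≠ 1 := by
    intro h
    rw [hy₀] at h
    have : orderOf g ∣ 2 := orderOf_dvd_of_pow_eq_one h
    rw [hg6] at this; norm_num at this
  have hty : t * y₀ = y₀ * t := by rw [ht, hy₀, ← pow_add, ← pow_add]
  have hw₀ : ∃ w₀ ∈ W, w₀ ≠ 1 ∧ y₀ * w₀ * y₀⁻¹ = w₀ := by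
    by_cases htW : t ∈ W
    · refine ⟨t, htW, ht1, ?_⟩
      rw [← hty]; group
    · let X : Subgroup G :=
        { carrier := {v | v ∈ W ∧ t * v * t⁻¹ = v}
          one_mem' := ⟨Subgroup.one_mem _, by simp⟩
          mul_mem' := fun {a b} ha hb => ⟨mul_mem ha.1 hb.1, by
            have : t * (a * b) * t⁻¹ = (t * a * t⁻¹) * (t * b * t⁻¹) := by group
            rw [this, ha.2, hb.2]⟩
          inv_mem' := fun {a} ha => ⟨inv_mem ha.1, by
            have : t * a⁻¹ * t⁻¹ = (t * a * t⁻¹)⁻¹ := by group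
            rw [this, ha.2]⟩ }
      have hXmem : ∀ v, v ∈ X ↔ v ∈ W ∧ t * v * t⁻¹ = v := fun v => Iff.rfl
      have hXW : X ≤ W := fun v hv => hv.1
      have ht2g : IsPGroup 2 (Subgroup.zpowers t) := by
        intro x
        refine ⟨1, Subtype.ext ?_⟩
        obtain ⟨k, hk⟩ := Subgroup.mem_zpowers_iff.mp x.2
        rw [pow_one, Subgroup.coe_pow, Subgroup.coe_one, ← hk, ← zpow_natCast, ← zpow_mul,
          mul_comm, zpow_mul, zpow_natCast, ht2, one_zpow]
      obtain ⟨z, hzW, hz1, hzfix⟩ := fixed_of_pgroup_normalizes (p := 2) (Subgroup.zpowers t) W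
        ht2g hW2g hW1 (fun a _ n hn => hWn.conj_mem n hn a)
      have hzX : z ∈ X := ⟨hzW, hzfix t (Subgroup.mem_zpowers t)⟩
      have hX1 : X ≠ ⊥ := by
        intro h; rw [h, Subgroup.mem_bot] at hzX; exact hz1 hzX
      have hXW' : X ≠ W := by
        intro h
        apply htW
        apply hinvC t ht2
        rw [hcentW]
        intro w hw
        have : w ∈ X := h ▸ hw
        exact this.2
      have hX2 := card_two_of_proper W X hW4 hXW hX1 hXW'
      obtain ⟨u, hu1, huu⟩ := (Nat.card_eq_two_iff' (1 : ↥X)).mp hX2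
      have hzu : (⟨z, hzX⟩ : ↥X) = u := huu _ (fun h => hz1 (congrArg Subtype.val h))
      have hyz : y₀ * z * y₀⁻¹ ∈ X := by
        refine ⟨hWn.conj_mem z hzW y₀, ?_⟩
        have h1 : t * (y₀ * z * y₀⁻¹) * t⁻¹ = (t * y₀) * z * (t * y₀)⁻¹ := by group
        rw [h1, hty]
        have h2 : y₀ * t * z * (y₀ * t)⁻¹ = y₀ * (t * z * t⁻¹) * y₀⁻¹ := by group
        rw [h2, hzX.2]
      have hyz1 : (⟨y₀ * z * y₀⁻¹, hyz⟩ : ↥X) ≠ 1 := by
        intro h
        have h2 : y₀ * z * y₀⁻¹ = 1 := congrArg Subtype.val h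
        apply hz1
        have h3 : z = y₀⁻¹ * (y₀ * z * y₀⁻¹) * y₀ := by group
        rw [h3, h2]; group
      have h4 := huu _ hyz1
      refine ⟨z, hzW, hz1, ?_⟩
      have h5 : (⟨y₀ * z * y₀⁻¹, hyz⟩ : ↥X) = ⟨z, hzX⟩ := h4.trans hzu.symm
      exact congrArg Subtype.val h5
  obtain ⟨w₀, hw₀W, hw₀1, hw₀fix⟩ := hw₀
  have hy₀W : ∀ v ∈ W, y₀ * v * y₀⁻¹ = v :=
    centralizes_of_fix W hW4 hW.2 hWcomm y₀ 1 (by simpa using hy₀3)
      (fun v hv => hWn.conj_mem v hv y₀) w₀ hw₀W hw₀1 hw₀fix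
  -- Step 5
  haveI hCn : (Subgroup.centralizer (W : Set G)).Normal := Subgroup.normal_centralizer
  obtain ⟨P, hdP⟩ := hd.exists_le_sylow
  have hy₀g : IsPGroup 3 (Subgroup.zpowers y₀) := by
    intro x
    refine ⟨1, Subtype.ext ?_⟩
    obtain ⟨k, hk⟩ := Subgroup.mem_zpowers_iff.mp x.2
    rw [pow_one, Subgroup.coe_pow, Subgroup.coe_one, ← hk, ← zpow_natCast, ← zpow_mul,
      mul_comm, zpow_mul, zpow_natCast, hy₀3, one_zpow]
  obtain ⟨P₁, hyP₁⟩ := hy₀g.exists_le_sylow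
  obtain ⟨c, hc⟩ := MulAction.exists_smul_eq G P₁ P
  have hy₁P : c * y₀ * c⁻¹ ∈ (P : Subgroup G) := by
    rw [← hc]
    exact NilpCover.conj_mem_smul P₁ c (hyP₁ (Subgroup.mem_zpowers y₀))
  have hy₁C : c * y₀ * c⁻¹ ∈ Subgroup.centralizer (W : Set G) :=
    hCn.conj_mem y₀ ((hcentW y₀).mpr hy₀W) c
  have hy₁1 : c * y₀ * c⁻¹ ≠ 1 := by
    intro h
    apply hy₀1
    have h3 : y₀ = c⁻¹ * (c * y₀ * c⁻¹) * c := by group
    rw [h3, h]; group
  have hP₀ne : (P : Subgroup G) ⊓ Subgroup.centralizer (W : Set G) ≠ ⊥ := by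
    intro h
    have : c * y₀ * c⁻¹ ∈ (P : Subgroup G) ⊓ Subgroup.centralizer (W : Set G) :=
      Subgroup.mem_inf.mpr ⟨hy₁P, hy₁C⟩
    rw [h, Subgroup.mem_bot] at this
    exact hy₁1 this
  obtain ⟨y₂, hy₂mem, hy₂1, hy₂fix⟩ := fixed_of_pgroup_normalizes (p := 3) (P : Subgroup G)
    ((P : Subgroup G) ⊓ Subgroup.centralizer (W : Set G)) P.isPGroup'
    (P.isPGroup'.to_le inf_le_left) hP₀ne
    (fun a ha n hn => Subgroup.mem_inf.mpr
      ⟨mul_mem (mul_mem ha (Subgroup.mem_inf.mp hn).1) (inv_mem ha),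
        hCn.conj_mem n (Subgroup.mem_inf.mp hn).2 a⟩)
  have hy₂P : y₂ ∈ (P : Subgroup G) := (Subgroup.mem_inf.mp hy₂mem).1
  have hy₂C : y₂ ∈ Subgroup.centralizer (W : Set G) := (Subgroup.mem_inf.mp hy₂mem).2
  obtain ⟨e, he1, he3⟩ := exists_pow_prime (p := 3) P.isPGroup'
    (c := (⟨y₂, hy₂P⟩ : ↥(P : Subgroup G))) (fun h => hy₂1 (congrArg Subtype.val h))
  obtain ⟨y, hy⟩ : ∃ y, y = y₂ ^ e := ⟨_, rfl⟩
  have hy1 : y ≠ 1 := by
    intro h
    apply he1
    apply Subtype.ext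
    rw [Subgroup.coe_pow, Subgroup.coe_one]
    exact hy ▸ h
  have hy3 : y ^ 3 = 1 := by
    have := congrArg Subtype.val he3
    rw [Subgroup.coe_pow, Subgroup.coe_pow, Subgroup.coe_one] at this
    rw [hy]; exact this
  have hyC : y ∈ Subgroup.centralizer (W : Set G) := hy ▸ pow_mem hy₂C e
  have hyW : ∀ w ∈ W, y * w * y⁻¹ = w := (hcentW y).mp hyC
  have hyd : y * d = d * y := by
    have h1 : d * y₂ * d⁻¹ = y₂ := hy₂fix d (hdP (Subgroup.mem_zpowers d))
    have h2 : d * y * d⁻¹ = y := by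
      rw [hy]
      have : d * y₂ ^ e * d⁻¹ = (d * y₂ * d⁻¹) ^ e := by
        rw [conj_pow]
      rw [this, h1]
    calc y * d = (d * y * d⁻¹) * d := by rw [h2]
      _ = d * y := by group
  -- Step 6
  have hyq : ∃ q ∈ Q, y * q * y⁻¹ ≠ q := by
    by_contra hall
    push_neg at hall
    have hyQ : y ∈ Q := by
      apply hchar
      rw [Subgroup.mem_centralizer_iff]
      intro q hq
      calc q * y = (y * q * y⁻¹) * y := by rw [hall q hq]
        _ = y * q := by group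
    have : (⟨y, hyQ⟩ : ↥Q) = 1 := eq_one_of_cube hQ2 (Subtype.ext (by
      rw [Subgroup.coe_pow, Subgroup.coe_one]; exact hy3))
    exact hy1 (congrArg Subtype.val this)
  exact stage_two Q W hQ2 hWQ hWZ hW4 hW.2 hinvQ y d hy3 (fun q hq => hQn.conj_mem q hq y)
    (fun q hq => hQn.conj_mem q hq d) hyW hyq hyd hdfix

end Main

end Cfsg.Agent.H1.RankThree
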