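import Mathlib
import Cfsg.Agent.H1.Basic

/-! Real elements (helper1). -/

namespace Cfsg.Agent.H1

/-- a real element is inverted by a 2-element -/
lemma exists_two_elt_inverting {G : Type*} [Group G] [Finite G] (x : G) (hx : IsConj x x⁻¹) :
    ∃ t : G, (∃ j : ℕ, orderOf t = 2 ^ j) ∧ t * x * t⁻¹ = x⁻¹ := by
  obtain ⟨t₀, ht₀⟩ := isConj_iff.mp hx
  obtain ⟨j, m, hm, hjm⟩ := Nat.exists_eq_two_pow_mul_odd (orderOf_pos t₀).ne'
  have hiter : ∀ k : ℕ, t₀ ^ k * x * (t₀ ^ k)⁻¹ = if Even k then x else x⁻¹ := by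
    intro k
    induction k with
    | zero => simp
    | succ k ih =>
      have h1 : t₀ ^ (k + 1) * x * (t₀ ^ (k + 1))⁻¹ = t₀ * (t₀ ^ k * x * (t₀ ^ k)⁻¹) * t₀⁻¹ := by
        rw [pow_succ']; group
      rw [h1, ih]
      by_cases hk : Even k
      · have hk1 : ¬ Even (k + 1) := by
          rw [Nat.even_add_one]; exact not_not.mpr hk
        rw [if_pos hk, if_neg hk1, ht₀]
      · have hk1 : Even (k + 1) := by
          rw [Nat.even_add_one]; exact hk
        rw [if_neg hk, if_pos hk1]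
        have : t₀ * x⁻¹ * t₀⁻¹ = (t₀ * x * t₀⁻¹)⁻¹ := by group
        rw [this, ht₀, inv_inv]
  refine ⟨t₀ ^ m, ⟨j, ?_⟩, ?_⟩
  · have hm0 : m ≠ 0 := by
      rintro rfl
      exact (Nat.not_odd_iff_even.mpr (by decide : Even 0)) hm
    rw [orderOf_pow' t₀ hm0, hjm, Nat.gcd_mul_left_left, Nat.mul_div_cancel _ (Nat.pos_of_ne_zero hm0)]
  · rw [hiter m, if_neg (Nat.not_even_iff_odd.mpr hm)]

end Cfsg.Agent.H1
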