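import Mathlib
import Cfsg.Prelude.Def_Characters
import Cfsg.Prelude.Def_Blocks
import Cfsg.Agent.Lib.helper3.FullyRam
import Cfsg.Agent.Lib.helper3.Irr9
import Cfsg.Agent.Lib.helper3.Irr11
import Cfsg.Agent.Lib.helper3.Irr12
import Cfsg.Agent.Lib.helper3.Degrees
import Cfsg.Agent.Lib.helper3.Inflate2
import Cfsg.Agent.Lib.Helper8.FRam1
import Cfsg.Agent.Lib.Helper8.GS6

/-!
# S4862, character half: characters of `p'`-degree are trivial on normal subgroups inside `P'`
-/

set_option autoImplicit false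
set_option linter.style.haveILetI false
set_option linter.unusedSectionVars false
set_option linter.unusedVariables false
set_option maxHeartbeats 1000000

namespace Cfsg.Agent.H1.RealKer

open Cfsg Cfsg.Agent.Lib.helper3.Irr Cfsg.Agent.Lib.helper3.CharBasic
open Cfsg.Agent.Lib.helper3.IndFun
open scoped commutatorElement

universe u

variable {G : Type u} [Group G] [Finite G]

/-- a character of `p'`-degree has a linear constituent on a `p`-subgroup -/
theorem exists_linear_constituent (p : ℕ) [hp : Fact p.Prime] (P : Subgroup G) (hP : IsPGroup p P)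
    [Fintype P] (ψ : P → ℂ) (hψ : IsCharacter P ψ) (d : ℕ) (hd : ψ 1 = d) (hpd : ¬ p ∣ d) :
    ∃ μ : IrrCharacter P, classInner ψ (μ : P → ℂ) ≠ 0 ∧ (μ : P → ℂ) 1 = 1 := by
  classical
  have hpp := hp.out
  by_contra hcon
  push Not at hcon
  apply hpd
  have hdec := isCharacter_eq_sum_classInner hψ
  have h1 := congrFun hdec 1
  simp only [Finset.sum_apply, Pi.smul_apply, smul_eq_mul] at h1
  -- each term is a natural number divisible by p
  have hterm : ∀ ν : IrrCharacter P, ∃ k : ℕ,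
      classInner ψ (ν : P → ℂ) * (ν : P → ℂ) 1 = ((p * k : ℕ) : ℂ) := by
    intro ν
    obtain ⟨n, hn⟩ := exists_nat_classInner_of_isCharacter hψ ν
    obtain ⟨c, hc, hcdvd, hcpos⟩ := Cfsg.Agent.Lib.helper3.Central.irr_degree_dvd_card ν.2
    by_cases hn0 : n = 0
    · refine ⟨0, ?_⟩
      rw [hn, hn0]; simp
    · have hne : classInner ψ (ν : P → ℂ) ≠ 0 := by
        rw [hn]; exact_mod_cast hn0
      have hc1 : c ≠ 1 := by
        intro h
        apply hcon ν hne
        rw [hc, h]; simp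
      obtain ⟨e, he⟩ := hP.exists_card_eq
      rw [he] at hcdvd
      obtain ⟨j, hjk, hj⟩ := (Nat.dvd_prime_pow hpp).1 hcdvd
      have hj0 : j ≠ 0 := by
        intro h
        apply hc1
        rw [hj, h, pow_zero]
      obtain ⟨j', rfl⟩ := Nat.exists_eq_succ_of_ne_zero hj0
      refine ⟨n * p ^ j', ?_⟩
      rw [hn, hc, hj, pow_succ]
      push_cast
      ring
  choose k hk using hterm
  rw [hd, Finset.sum_congr rfl (fun ν _ => hk ν)] at h1
  have h2 : (d : ℂ) = ((p * ∑ ν : IrrCharacter P, k ν : ℕ) : ℂ) := by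
    rw [h1, Finset.mul_sum]
    push_cast
    rfl
  have h3 : d = p * ∑ ν : IrrCharacter P, k ν := by exact_mod_cast h2
  exact ⟨_, h3⟩

/-- a linear character is trivial on the commutator subgroup -/
theorem linear_apply_commutator {X : Type u} [Group X] [Finite X] (μ : X → ℂ)
    (hμ : IsCharacter X μ) (h1 : μ 1 = 1) (x : X) (hx : x ∈ ⁅(⊤ : Subgroup X), (⊤ : Subgroup X)⁆) : μ x = 1 := by
  have hmul := Cfsg.Agent.Lib.helper3.Lin.map_mul_of_apply_one_eq_one hμ h1
  let K : Subgroup X :=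
    { carrier := {x | μ x = 1}
      one_mem' := h1
      mul_mem' := by
        intro a b ha hb
        simp only [Set.mem_setOf_eq] at ha hb ⊢
        rw [hmul, ha, hb, mul_one]
      inv_mem' := by
        intro a ha
        simp only [Set.mem_setOf_eq] at ha ⊢
        have := hmul a a⁻¹
        rw [mul_inv_cancel, h1, ha, one_mul] at this
        exact this.symm }
  have hle : ⁅(⊤ : Subgroup X), (⊤ : Subgroup X)⁆ ≤ K := by
    rw [Subgroup.commutator_le]
    intro a _ b _
    change μ ⁅a, b⁆ = 1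
    rw [commutatorElement_def, hmul, hmul, hmul]
    have e1 : μ a * μ a⁻¹ = 1 := by rw [← hmul, mul_inv_cancel, h1]
    have e2 : μ b * μ b⁻¹ = 1 := by rw [← hmul, mul_inv_cancel, h1]
    calc μ a * μ b * μ a⁻¹ * μ b⁻¹ = (μ a * μ a⁻¹) * (μ b * μ b⁻¹) := by ring
      _ = 1 := by rw [e1, e2, mul_one]
  exact hle hx

/-- (a) a character of `p'`-degree is trivial on a normal subgroup contained in `P'` -/
theorem apply_eq_one_of_le_commutator (p : ℕ) [hp : Fact p.Prime] (P : Sylow p G)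
    (M : Subgroup G) [hM : M.Normal] (hMP : M ≤ ⁅(P : Subgroup G), (P : Subgroup G)⁆)
    (χ : IrrCharacter G) (hχ : ¬ p ∣ charDegree (χ : G → ℂ)) :
    ∀ m ∈ M, (χ : G → ℂ) m = (χ : G → ℂ) 1 := by
  classical
  letI : Fintype G := Fintype.ofFinite G
  letI : Fintype (P : Subgroup G) := Fintype.ofFinite _
  letI : Fintype M := Fintype.ofFinite _
  letI : Fintype ↥(M.subgroupOf (P : Subgroup G)) := Fintype.ofFinite _
  have hχc := isCharacter_of_isIrrCharacter χ.2
  obtain ⟨c, hc, hcdvd, hcpos⟩ := Cfsg.Agent.Lib.helper3.Central.irr_degree_dvd_card χ.2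
  have hdeg : charDegree (χ : G → ℂ) = c := Cfsg.Agent.Lib.Helper8.GSN.charDegree_eq_of_apply_one hc
  rw [hdeg] at hχ
  have hψ : IsCharacter (P : Subgroup G) (fun l : (P : Subgroup G) => (χ : G → ℂ) l) :=
    isCharacter_restrict hχc (P : Subgroup G)
  obtain ⟨μ, hμ, hμ1⟩ := exists_linear_constituent p (P : Subgroup G) P.isPGroup'
    (fun l : (P : Subgroup G) => (χ : G → ℂ) l) hψ c (by simpa using hc) hχ
  have hMleP : M ≤ (P : Subgroup G) := hMP.trans (Subgroup.commutator_le.2 fun a ha b hb => by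
    rw [commutatorElement_def]
    exact mul_mem (mul_mem (mul_mem ha hb) (inv_mem ha)) (inv_mem hb))
  -- `μ` is trivial on `M`
  have hcomm : ⁅(P : Subgroup G), (P : Subgroup G)⁆
      = (⁅(⊤ : Subgroup ↥(P : Subgroup G)), (⊤ : Subgroup ↥(P : Subgroup G))⁆).map
        (P : Subgroup G).subtype := by
    rw [Subgroup.map_commutator, ← MonoidHom.range_eq_map, Subgroup.range_subtype]
  have hμM : ∀ z : ↥(M.subgroupOf (P : Subgroup G)), (μ : ↥(P : Subgroup G) → ℂ) z = 1 := by
    intro z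
    apply linear_apply_commutator _ (isCharacter_of_isIrrCharacter μ.2) hμ1
    have hz : ((z : ↥(P : Subgroup G)) : G) ∈ ⁅(P : Subgroup G), (P : Subgroup G)⁆ :=
      hMP (Subgroup.mem_subgroupOf.1 z.2)
    rw [hcomm] at hz
    obtain ⟨y, hy, hyz⟩ := hz
    have : y = (z : ↥(P : Subgroup G)) := Subtype.ext hyz
    rw [← this]; exact hy
  have h1irr : IsIrrCharacter ↥(M.subgroupOf (P : Subgroup G)) (fun _ => (1 : ℂ)) :=
    isIrrCharacter_one
  have h11 : classInner (fun z : ↥(M.subgroupOf (P : Subgroup G)) =>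
      (μ : ↥(P : Subgroup G) → ℂ) ((M.subgroupOf (P : Subgroup G)).subtype z))
      (fun _ => (1 : ℂ)) ≠ 0 := by
    have : (fun z : ↥(M.subgroupOf (P : Subgroup G)) =>
      (μ : ↥(P : Subgroup G) → ℂ) ((M.subgroupOf (P : Subgroup G)).subtype z)) = fun _ => (1 : ℂ) := by
      funext z; exact hμM z
    rw [this, irr_classInner_eq h1irr h1irr]
    simp
  have h2 := Cfsg.Agent.Lib.Helper8.FRam.classInner_restrict_ne_zero_of_constituent
    (M.subgroupOf (P : Subgroup G)).subtype hψ μ.2 hμ ⟨_, h1irr⟩ h11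
  -- transfer to `M`
  let e : ↥(M.subgroupOf (P : Subgroup G)) ≃* ↥M := Subgroup.subgroupOfEquivOfLe hMleP
  have h3 : classInner (fun m : M => (χ : G → ℂ) m) (fun _ => (1 : ℂ)) ≠ 0 := by
    rw [← classInner_comp_mulEquiv e]
    exact h2
  have h1irrM : IsIrrCharacter ↥M (fun _ => (1 : ℂ)) := isIrrCharacter_one
  have hsm := restrict_eq_smul_of_invariant M (χ : G → ℂ) χ.2 (fun _ => (1 : ℂ)) h1irrM h3
    (fun _ _ => rfl)
  intro m hm
  have h4 := congrFun hsm ⟨m, hm⟩
  have h5 := congrFun hsm 1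
  simp only [Pi.smul_apply, smul_eq_mul, mul_one, OneMemClass.coe_one] at h4 h5
  rw [h4, h5]

/-- (b) if all real irreducible characters are trivial on `M`, inflation is a bijection on
real irreducible characters; we record the inequality of cardinalities. -/
theorem card_real_irr_le_quot (M : Subgroup G) [hM : M.Normal]
    (h : ∀ χ : IrrCharacter G, (∀ g, ((χ : G → ℂ) g).im = 0) →
      ∀ m ∈ M, (χ : G → ℂ) m = (χ : G → ℂ) 1) :
    Nat.card {χ : IrrCharacter G // ∀ g : G, ((χ : G → ℂ) g).im = 0}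
      ≤ Nat.card {ψ : IrrCharacter (G ⧸ M) // ∀ g : G ⧸ M, ((ψ : G ⧸ M → ℂ) g).im = 0} := by
  classical
  have hex : ∀ χ : {χ : IrrCharacter G // ∀ g : G, ((χ : G → ℂ) g).im = 0},
      ∃ ψ : G ⧸ M → ℂ, IsIrrCharacter (G ⧸ M) ψ ∧
        ((χ : IrrCharacter G) : G → ℂ) = Cfsg.Agent.Lib.helper3.Irr.inflate M ψ := by
    intro χ
    have hc : ∀ g n : G, n ∈ M → ((χ : IrrCharacter G) : G → ℂ) (g * n)
        = ((χ : IrrCharacter G) : G → ℂ) g := fun g n hn =>
      apply_mul_of_apply_eq_one (isCharacter_of_isIrrCharacter χ.1.2) (h χ.1 χ.2 n hn) g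
    exact exists_eq_inflate χ.1.2 M hc
  choose f hf using hex
  haveI : Finite (IrrCharacter (G ⧸ M)) := by
    letI : Fintype (G ⧸ M) := Fintype.ofFinite _
    infer_instance
  apply Nat.card_le_card_of_injective
    (fun χ => (⟨⟨f χ, (hf χ).1⟩, by
      intro g
      obtain ⟨x, rfl⟩ := QuotientGroup.mk_surjective g
      have := congrFun (hf χ).2 x
      rw [inflate_apply] at this
      change (f χ (x : G ⧸ M)).im = 0
      rw [← this]
      exact χ.2 x⟩ : {ψ : IrrCharacter (G ⧸ M) // ∀ g : G ⧸ M, ((ψ : G ⧸ M → ℂ) g).im = 0}))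
  intro χ₁ χ₂ h12
  have h1 : f χ₁ = f χ₂ := by
    exact congrArg Subtype.val (congrArg Subtype.val h12)
  apply Subtype.ext
  apply Subtype.ext
  rw [(hf χ₁).2, (hf χ₂).2, h1]

end Cfsg.Agent.H1.RealKer
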