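import Mathlib
import Cfsg.Prelude.Def_Characters
import Cfsg.Prelude.Def_Blocks

/-!
# S4863: statement shapes for Lemma L (shared between the pieces)
-/

set_option autoImplicit false

namespace Cfsg.Agent.H1.RealL

open Cfsg

universe u

/-- every real irreducible character of `K` is `P`-invariant -/
def RealInv {X : Type u} [Group X] (K P : Subgroup X) : Prop :=
  ∀ θ : IrrCharacter ↥K, (∀ k : ↥K, ((θ : ↥K → ℂ) k).im = 0) →
    ∀ x ∈ P, ∀ k k' : ↥K, (k' : X) = x * (k : X) * x⁻¹ → (θ : ↥K → ℂ) k' = (θ : ↥K → ℂ) k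

/-- Lemma L, minimal case: `K` a normal `p'`-subgroup generated by `2`-elements, `X = K P`,
`[K,P]` inside a solvable normal subgroup and inside every nontrivial normal subgroup of `X`
contained in `K`, all real irreducible characters of `K` `P`-invariant: then `[K,P] = 1`. -/
def LMinStmt (p : ℕ) : Prop :=
  ∀ (X : Type u) [Group X] [Finite X] (K P S : Subgroup X), K.Normal → S.Normal →
    IsPGroup p P → ¬ p ∣ Nat.card K → K ⊔ P = ⊤ →
    K ≤ Subgroup.closure {g : X | ∃ k : ℕ, orderOf g = 2 ^ k} →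
    Group.IsSolvable S → ⁅K, P⁆ ≤ S → RealInv K P →
    (∀ M : Subgroup X, M.Normal → M ≤ K → M ≠ ⊥ → ⁅K, P⁆ ≤ M) → ⁅K, P⁆ = ⊥

/-- Lemma L, general form: `Q₀ ≤ K` normal in `X` with `p ∤ |K : Q₀|`; then `[K,P] ≤ Q₀`. -/
def LStmt (p : ℕ) : Prop :=
  ∀ (X : Type u) [Group X] [Finite X] (K P S Q₀ : Subgroup X), K.Normal → S.Normal → Q₀.Normal →
    IsPGroup p P → Q₀ ≤ K → ¬ p ∣ Q₀.relIndex K → K ⊔ P = ⊤ →
    K ≤ Subgroup.closure {g : X | ∃ k : ℕ, orderOf g = 2 ^ k} →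
    Group.IsSolvable S → ⁅K, P⁆ ≤ S → RealInv K P → ⁅K, P⁆ ≤ Q₀

end Cfsg.Agent.H1.RealL
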