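import Mathlib
import Cfsg.Prelude.Def_Characters
import Cfsg.Prelude.Def_Blocks
import Cfsg.Agent.H1.RealL0
import Cfsg.Agent.Lib.Helper6.RealLift
import Cfsg.Agent.Lib.Helper6.RealSylow1
import Cfsg.Agent.S4911
import Cfsg.Agent.S0022
import Cfsg.Agent.S0027

/-!
# S4863: Lemma L, minimal case
-/

set_option autoImplicit false
set_option linter.style.haveILetI false
set_option linter.unusedSectionVars false
set_option linter.unusedVariables false
set_option maxHeartbeats 1000000

namespace Cfsg.Agent.H1.RealL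

open Cfsg
open scoped commutatorElement

universe u

theorem lemmaL_min (p : ℕ) [hp : Fact p.Prime] (hp2 : p ≠ 2) : LMinStmt.{u} p := by
  intro X _ _ K P S hKn hSn hP hK hKP hgen hS hKPS hinv hmin
  classical
  have hpp := hp.out
  by_contra hne
  -- basic facts
  have hPK : P ≤ Subgroup.normalizer (K : Set X) := by
    rw [Subgroup.normalizer_eq_top]; exact le_top
  obtain ⟨n, hn⟩ := hP.exists_card_eq
  have hcop : (Nat.card P).Coprime (Nat.card K) := by
    rw [hn]; exact Nat.Coprime.pow_left n ((Nat.Prime.coprime_iff_not_dvd hpp).2 hK)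
  have hPsolv : Group.IsSolvable P := by
    haveI : Group.IsNilpotent P := hP.isNilpotent
    infer_instance
  have hcomK : ⁅K, P⁆ ≤ K := Subgroup.commutator_le_left K P
  -- a minimal normal subgroup inside `S ⊓ K`
  have hSK : (S ⊓ K).Normal := inferInstance
  have hSKne : S ⊓ K ≠ ⊥ := by
    intro h
    apply hne
    rw [eq_bot_iff, ← h]
    exact le_inf hKPS hcomK
  have hnonempty : {N : Subgroup X | N.Normal ∧ N ≠ ⊥ ∧ N ≤ S ⊓ K}.Nonempty :=
    ⟨S ⊓ K, hSK, hSKne, le_rfl⟩
  obtain ⟨M, hMmem⟩ :=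
    (Set.toFinite {N : Subgroup X | N.Normal ∧ N ≠ ⊥ ∧ N ≤ S ⊓ K}).exists_minimal hnonempty
  have hMn : M.Normal := hMmem.1.1
  have hMne : M ≠ ⊥ := hMmem.1.2.1
  have hMSK : M ≤ S ⊓ K := hMmem.1.2.2
  have hMK : M ≤ K := hMSK.trans inf_le_right
  have hMS : M ≤ S := hMSK.trans inf_le_left
  have hMmin : ∀ N' : Subgroup X, N'.Normal → N' ≤ M → N' = ⊥ ∨ N' = M := by
    intro N' hN' hle
    by_cases h : N' = ⊥
    · exact Or.inl h
    · exact Or.inr (le_antisymm hle (hMmem.2 ⟨hN', h, hle.trans hMSK⟩ hle))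
  have hMminN : Cfsg.Agent.Lib.Helper6.RealSylow.IsMinNormal M := ⟨hMn, hMne, hMmin⟩
  have hMsolv : Group.IsSolvable M :=
    solvable_of_solvable_injective (Subgroup.inclusion_injective hMS)
  have hMab : ∀ a ∈ M, ∀ b ∈ M, a * b = b * a := hMminN.comm_of_solvable hMsolv
  have hcomM : ⁅K, P⁆ ≤ M := hmin M hMn hMK hMne
  -- conclusion of S4911
  have hii := (Cfsg.Agent.S4911.result p P K hP hK hPK).2 hinv
  -- K = C_K(P) M
  have hdecomp : ∀ k ∈ K, ∃ c ∈ K ⊓ Subgroup.centralizer (P : Set X), ∃ m ∈ M, k = c * m := by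
    intro k hk
    obtain ⟨c, hc, hcm⟩ := Cfsg.Agent.S0022.result P K hPK hcop (Or.inl hPsolv) M hMK
      (by rw [Subgroup.normalizer_eq_top]; exact le_top)
      (by rw [Subgroup.normalizer_eq_top]; exact le_top) k hk
      (by
        intro a ha
        apply hcomM
        rw [Subgroup.commutator_comm]
        have : a * k * a⁻¹ * k⁻¹ = ⁅a, k⁆ := by rw [commutatorElement_def]
        rw [this]
        exact Subgroup.commutator_mem_commutator ha hk)
    refine ⟨c, hc, (k⁻¹ * c)⁻¹, inv_mem hcm, ?_⟩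
    group
  -- no nontrivial P-fixed element in M
  have hE : ∀ e ∈ M, (∀ x ∈ P, x * e * x⁻¹ = e) → e = 1 := by
    intro e heM hefix
    by_contra he1
    let E : Subgroup X := M ⊓ Subgroup.centralizer (P : Set X)
    have heE : e ∈ E := by
      refine Subgroup.mem_inf.2 ⟨heM, Subgroup.mem_centralizer_iff.2 ?_⟩
      intro x hx
      have := hefix x hx
      calc x * e = (x * e * x⁻¹) * x := by group
        _ = e * x := by rw [this]
    have hEn : E.Normal := by
      constructor
      intro d hd g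
      have hg : g ∈ K ⊔ P := by rw [hKP]; exact Subgroup.mem_top g
      rw [← SetLike.mem_coe, Subgroup.normal_mul] at hg
      obtain ⟨k, hk, x, hx, rfl⟩ := Set.mem_mul.1 hg
      obtain ⟨c, hc, m, hm, rfl⟩ := hdecomp k hk
      have hdM : d ∈ M := (Subgroup.mem_inf.1 hd).1
      have hdP := Subgroup.mem_centralizer_iff.1 (Subgroup.mem_inf.1 hd).2
      have hcP := Subgroup.mem_centralizer_iff.1 (Subgroup.mem_inf.1 hc).2
      have h1 : x * d * x⁻¹ = d := by
        have := hdP x hx
        calc x * d * x⁻¹ = (x * d) * x⁻¹ := rfl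
          _ = (d * x) * x⁻¹ := by rw [this]
          _ = d := by group
      have h2 : m * d * m⁻¹ = d := by
        have := hMab m hm d hdM
        rw [this]; group
      have h3 : c * m * x * d * (c * m * x)⁻¹ = c * d * c⁻¹ := by
        calc c * m * x * d * (c * m * x)⁻¹ = c * (m * (x * d * x⁻¹) * m⁻¹) * c⁻¹ := by group
          _ = c * d * c⁻¹ := by rw [h1, h2]
      rw [h3]
      refine Subgroup.mem_inf.2 ⟨hMn.conj_mem d hdM c, Subgroup.mem_centralizer_iff.2 ?_⟩
      intro y hy
      have e1 := hcP y hy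
      have e2 := hdP y hy
      have e3 : y * c⁻¹ = c⁻¹ * y := by
        calc y * c⁻¹ = c⁻¹ * (c * y) * c⁻¹ := by group
          _ = c⁻¹ * (y * c) * c⁻¹ := by rw [e1]
          _ = c⁻¹ * y := by group
      calc y * (c * d * c⁻¹) = (y * c) * d * c⁻¹ := by group
        _ = (c * y) * d * c⁻¹ := by rw [e1]
        _ = c * (y * d) * c⁻¹ := by group
        _ = c * (d * y) * c⁻¹ := by rw [e2]
        _ = c * d * (y * c⁻¹) := by group
        _ = c * d * (c⁻¹ * y) := by rw [e3]
        _ = c * d * c⁻¹ * y := by group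
    have hEM : E = M := by
      rcases hMmin E hEn inf_le_left with h | h
      · exfalso
        rw [h, Subgroup.mem_bot] at heE
        exact he1 heE
      · exact h
    have hMP : M ≤ Subgroup.centralizer (P : Set X) := by
      rw [← hEM]; exact inf_le_right
    have h4 : ⁅M, P⁆ = ⊥ := Subgroup.commutator_eq_bot_iff_le_centralizer.2 hMP
    have h5 : ⁅⁅K, P⁆, P⁆ ≤ ⁅M, P⁆ := Subgroup.commutator_mono hcomM le_rfl
    have h6 := Cfsg.Agent.S0027.result P K hPK hcop (Or.inl hPsolv)
    apply hne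
    rw [← h6, eq_bot_iff, ← h4]
    exact h5
  -- no nontrivial real element of K inside M
  have hnoreal : ∀ v : ↥K, (v : X) ∈ M → IsConj v v⁻¹ → v = 1 := by
    intro v hvM hvreal
    obtain ⟨k', hconj, hfix⟩ := hii v hvreal
    obtain ⟨c, hc⟩ := isConj_iff.1 hconj
    have hk'M : (k' : X) ∈ M := by
      rw [← hc]
      exact hMn.conj_mem _ hvM _
    have hk'1 := hE (k' : X) hk'M hfix
    have hk'1' : k' = 1 := Subtype.ext hk'1
    rw [hk'1'] at hc
    have : v = c⁻¹ * 1 * c := by rw [← hc]; group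
    rw [this]; group
  -- M has odd order
  have hModd : ¬ 2 ∣ Nat.card M := by
    intro h2
    haveI : Fact (Nat.Prime 2) := ⟨Nat.prime_two⟩
    obtain ⟨v, hv⟩ := exists_prime_orderOf_dvd_card' 2 h2
    have hv2 : v * v = 1 := by
      have := pow_orderOf_eq_one v
      rw [hv, pow_two] at this
      exact this
    have hvinv : v⁻¹ = v := inv_eq_of_mul_eq_one_left hv2
    let v' : ↥K := ⟨(v : X), hMK v.2⟩
    have hv'inv : v'⁻¹ = v' := by
      apply Subtype.ext
      change ((v : X))⁻¹ = (v : X)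
      have := congrArg Subtype.val hvinv
      simpa using this
    have h1 := hnoreal v' v.2 (by rw [hv'inv])
    have hv1 : v = 1 := by
      apply Subtype.ext
      have : (v' : X) = 1 := congrArg Subtype.val h1
      exact this
    rw [hv1, orderOf_one] at hv
    norm_num at hv
  -- 2-elements of X lie in K
  have hidx : K.index ∣ p ^ n := by
    have h1 : K.index = K.relIndex (K ⊔ P) := by rw [hKP, Subgroup.relIndex_top_right]
    rw [h1, Subgroup.relIndex_sup_left, ← hn]
    exact Subgroup.relIndex_dvd_card K P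
  have htwoK : ∀ t : X, (∃ k : ℕ, orderOf t = 2 ^ k) → t ∈ K := by
    intro t ⟨k, hk⟩
    have h1 : orderOf (QuotientGroup.mk t : X ⧸ K) ∣ 2 ^ k := by
      rw [← hk]
      exact orderOf_map_dvd (QuotientGroup.mk' K) t
    have h2 : orderOf (QuotientGroup.mk t : X ⧸ K) ∣ p ^ n := by
      refine dvd_trans ?_ hidx
      rw [Subgroup.index_eq_card]
      exact orderOf_dvd_natCard _
    have hcop2 : Nat.Coprime (2 ^ k) (p ^ n) := by
      apply Nat.Coprime.pow
      exact (Nat.coprime_primes Nat.prime_two hpp).2 (Ne.symm hp2)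
    have h3 : orderOf (QuotientGroup.mk t : X ⧸ K) = 1 :=
      Nat.eq_one_of_dvd_coprimes hcop2 h1 h2
    rw [orderOf_eq_one_iff] at h3
    exact (QuotientGroup.eq_one_iff t).1 h3
  -- 2-elements centralize M
  have htwoM : ∀ t : X, (∃ k : ℕ, orderOf t = 2 ^ k) → ∀ m ∈ M, t * m = m * t := by
    intro t ht m hm
    by_contra hcon
    have htK := htwoK t ht
    haveI : (M.subgroupOf K).Normal := Subgroup.normal_subgroupOf
    have ht' : ∃ k : ℕ, orderOf (⟨t, htK⟩ : ↥K) = 2 ^ k := by
      obtain ⟨k, hk⟩ := ht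
      refine ⟨k, ?_⟩
      rw [← hk]
      exact Subgroup.orderOf_mk t htK
    have hm' : (⟨m, hMK hm⟩ : ↥K) ∈ M.subgroupOf K := Subgroup.mem_subgroupOf.2 hm
    have hne' : (⟨t, htK⟩ : ↥K) * ⟨m, hMK hm⟩ ≠ ⟨m, hMK hm⟩ * ⟨t, htK⟩ := by
      intro h
      exact hcon (congrArg Subtype.val h)
    obtain ⟨u, hu, hu1, hureal⟩ :=
      Cfsg.Agent.Lib.Helper6.RealLift.exists_real_of_not_commute (M.subgroupOf K) ht' hm' hne'
    exact hu1 (hnoreal u (Subgroup.mem_subgroupOf.1 hu) hureal)
  have hKcM : K ≤ Subgroup.centralizer (M : Set X) := by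
    refine hgen.trans ?_
    rw [Subgroup.closure_le]
    intro t ht
    rw [SetLike.mem_coe, Subgroup.mem_centralizer_iff]
    intro m hm
    exact (htwoM t ht m hm).symm
  -- the homomorphism k ↦ [k, x]
  have hfinal : ∀ x ∈ P, ∀ t : X, (∃ k : ℕ, orderOf t = 2 ^ k) → t * x = x * t := by
    intro x hx t ht
    have hmemM : ∀ k : ↥K, ⁅(k : X), x⁆ ∈ M := fun k =>
      hcomM (Subgroup.commutator_mem_commutator k.2 hx)
    let f : ↥K →* ↥M := MonoidHom.mk' (fun k => ⟨⁅(k : X), x⁆, hmemM k⟩) (by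
      intro a b
      apply Subtype.ext
      change ⁅((a * b : ↥K) : X), x⁆ = ⁅(a : X), x⁆ * ⁅(b : X), x⁆
      have hw := hmemM b
      have ha := Subgroup.mem_centralizer_iff.1 (hKcM a.2) _ hw
      have hab := hMab _ (hmemM a) _ hw
      rw [hab]
      rw [commutatorElement_def] at ha hw ⊢
      rw [commutatorElement_def, commutatorElement_def]
      have e1 : (a : X) * ((b : X) * x * (b : X)⁻¹ * x⁻¹) * (a : X)⁻¹
          = (b : X) * x * (b : X)⁻¹ * x⁻¹ := by
        rw [← ha]; group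
      calc ((a * b : ↥K) : X) * x * ((a * b : ↥K) : X)⁻¹ * x⁻¹
          = ((a : X) * ((b : X) * x * (b : X)⁻¹ * x⁻¹) * (a : X)⁻¹)
              * ((a : X) * x * (a : X)⁻¹ * x⁻¹) := by
            rw [Subgroup.coe_mul]; group
        _ = (b : X) * x * (b : X)⁻¹ * x⁻¹ * ((a : X) * x * (a : X)⁻¹ * x⁻¹) := by rw [e1])
    have htK := htwoK t ht
    obtain ⟨k, hk⟩ := ht
    have h1 : orderOf (f ⟨t, htK⟩) ∣ 2 ^ k := by
      rw [← hk, ← Subgroup.orderOf_mk t htK]
      exact orderOf_map_dvd f _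
    have h2 : orderOf (f ⟨t, htK⟩) ∣ Nat.card M := orderOf_dvd_natCard _
    have hcop2 : Nat.Coprime (2 ^ k) (Nat.card M) := by
      apply Nat.Coprime.pow_left
      exact (Nat.Prime.coprime_iff_not_dvd Nat.prime_two).2 hModd
    have h3 : orderOf (f ⟨t, htK⟩) = 1 := Nat.eq_one_of_dvd_coprimes hcop2 h1 h2
    rw [orderOf_eq_one_iff] at h3
    have h4 : ⁅t, x⁆ = 1 := by
      have := congrArg Subtype.val h3
      exact this
    rw [commutatorElement_eq_one_iff_mul_comm] at h4
    exact h4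
  apply hne
  rw [Subgroup.commutator_eq_bot_iff_le_centralizer]
  refine hgen.trans ?_
  rw [Subgroup.closure_le]
  intro t ht
  rw [SetLike.mem_coe, Subgroup.mem_centralizer_iff]
  intro x hx
  exact (hfinal x hx t ht).symm

end Cfsg.Agent.H1.RealL
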