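import Mathlib
import Cfsg.Agent.H1.SylowMore
import Cfsg.Agent.H1.FrattiniExtra
import Cfsg.Agent.H1.ConjMap
import Cfsg.Agent.S0043

set_option autoImplicit false

namespace Cfsg.Agent.H1

open scoped Pointwise

universe u

/-- If a Sylow 2-subgroup centralizes the odd-order element `x ≠ 1`, then `x` is not real. -/
lemma not_isConj_inv_of_sylow_le_centralizer {G : Type*} [Group G] [Finite G] (S : Sylow 2 G) (x : G)
    (hx : x ≠ 1) (hodd : Odd (orderOf x)) (hS : (S : Subgroup G) ≤ Subgroup.centralizer {x}) :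
    ¬ IsConj x x⁻¹ := by
  intro hconj
  obtain ⟨g, hg⟩ := isConj_iff.1 hconj
  have hsc : SemiconjBy g x x⁻¹ := by
    show g * x = x⁻¹ * g
    rw [← hg]; group
  have hsc' : SemiconjBy g x⁻¹ x := by
    have := hsc.inv_right
    rwa [inv_inv] at this
  have hcomm2 : Commute (g * g) x := hsc'.mul_left hsc
  obtain ⟨C, hC⟩ : ∃ C, C = Subgroup.centralizer ({x} : Set G) := ⟨_, rfl⟩
  have hmemC : ∀ c : G, c ∈ C ↔ Commute c x := by
    intro c
    rw [hC, Subgroup.mem_centralizer_singleton_iff]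
    exact Iff.rfl
  have hgN : g ∈ Subgroup.normalizer (C : Set G) := by
    apply mem_normalizer_of_map_conj_le
    intro w hw
    obtain ⟨c, hc, rfl⟩ := Subgroup.mem_map.1 hw
    simp only [MulEquiv.coe_toMonoidHom, MulAut.conj_apply]
    rw [hmemC] at hc ⊢
    have h1 : SemiconjBy (g * c) x⁻¹ x := SemiconjBy.mul_left hsc' hc.inv_right
    have h2 : SemiconjBy g⁻¹ x x⁻¹ := hsc'.inv_symm_left
    exact SemiconjBy.mul_left h1 h2
  obtain ⟨a, m, hm, hom⟩ := Nat.exists_eq_two_pow_mul_odd (orderOf_pos g).ne'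
  have hm0 : m ≠ 0 := by
    rintro rfl
    simp at hm
  have ho2 : orderOf (g ^ m) = 2 ^ a := by
    rw [orderOf_pow_of_dvd hm0
      (hom ▸ Dvd.intro_left _ rfl), hom, Nat.mul_div_cancel _ (Nat.pos_of_ne_zero hm0)]
  obtain ⟨j, hj⟩ := hm
  have hg2 : SemiconjBy (g ^ m) x x⁻¹ := by
    rw [hj, pow_succ, pow_mul, pow_two]
    exact SemiconjBy.mul_left ((hcomm2.pow_left j).inv_right) hsc
  have hg2N : g ^ m ∈ Subgroup.normalizer (C : Set G) := Subgroup.pow_mem _ hgN _
  have hp1 : IsPGroup 2 (Subgroup.zpowers (g ^ m)) := by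
    apply IsPGroup.of_card (n := a)
    rw [Nat.card_zpowers, ho2]
  have hSC : (S : Subgroup G) ≤ C := hC ▸ hS
  have hSL : (S : Subgroup G) ≤ Subgroup.normalizer (C : Set G) := hSC.trans Subgroup.le_normalizer
  have hidx : ¬ 2 ∣ (S : Subgroup G).relIndex (Subgroup.normalizer (C : Set G)) := by
    intro hd
    have := Subgroup.relIndex_mul_index hSL
    exact S.not_dvd_index (this ▸ Dvd.dvd.mul_right hd _)
  obtain ⟨k, hkL, hle⟩ := exists_le_map_conj_of_pgroup (Subgroup.normalizer (C : Set G)) (S : Subgroup G)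
    (Subgroup.zpowers (g ^ m)) hSL S.2 hidx (Subgroup.zpowers_le.2 hg2N) hp1
  have h3 : (S : Subgroup G).map (MulAut.conj k).toMonoidHom ≤ C := by
    rw [← (map_conj_eq_self_iff k C).2 hkL]
    exact Subgroup.map_mono hSC
  have h4 : g ^ m ∈ C := h3 (hle (Subgroup.mem_zpowers _))
  rw [hmemC] at h4
  have h5 : x = x⁻¹ := by
    have e1 : g ^ m * x = x * g ^ m := h4
    have e2 : g ^ m * x = x⁻¹ * g ^ m := hg2
    exact mul_right_cancel (e1.symm.trans e2)
  have h6 : x ^ 2 = 1 := by
    rw [pow_two]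
    nth_rewrite 1 [h5]
    exact inv_mul_cancel x
  have h7 : orderOf x ∣ 2 := orderOf_dvd_of_pow_eq_one h6
  have h8 : orderOf x = 1 := Nat.Coprime.eq_one_of_dvd (Nat.coprime_two_right.2 hodd) h7
  exact hx (orderOf_eq_one_iff.1 h8)

theorem not_real_aux : ∀ n : ℕ, ∀ (G : Type u) [Group G] [Finite G] [Group.IsSolvable G],
    Nat.card G = n → ∀ (S : Sylow 2 G) (x : G), x ≠ 1 → Odd (orderOf x) →
    x ∈ Subgroup.normalizer ((S : Subgroup G) : Set G) → ¬ IsConj x x⁻¹ := by
  intro n
  induction n using Nat.strong_induction_on with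
  | _ n ih =>
    intro G _ _ _ hn S x hx hodd hnorm
    have hnt : Nontrivial G := ⟨⟨x, 1, hx⟩⟩
    obtain ⟨N, hNn, hNne, -, hNmin⟩ := exists_minimal_normal_le (⊤ : Subgroup G) top_ne_bot
    obtain ⟨-, p, hp, hpow⟩ := Cfsg.Agent.S0043.result N hNne hNmin
    by_cases hxN : x ∈ N
    · -- x centralizes S
      apply not_isConj_inv_of_sylow_le_centralizer S x hx hodd
      have hxp : x ^ p = 1 := hpow x hxN
      have hop : orderOf x = p := by
        rcases (Nat.dvd_prime hp).1 (orderOf_dvd_of_pow_eq_one hxp) with h | h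
        · exact absurd (orderOf_eq_one_iff.1 h) hx
        · exact h
      have hpodd : Odd p := hop ▸ hodd
      have hNS : ∀ t : G, t ∈ N → t ∈ (S : Subgroup G) → t = 1 := by
        intro t htN htS
        obtain ⟨k, hk⟩ := (IsPGroup.iff_orderOf.1 S.2) ⟨t, htS⟩
        rw [Subgroup.orderOf_mk] at hk
        have h1 : orderOf t ∣ p := orderOf_dvd_of_pow_eq_one (hpow t htN)
        have h2 : Nat.Coprime (2 ^ k) p := Nat.Coprime.pow_left _ (Nat.coprime_two_left.2 hpodd)
        rw [← hk] at h2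
        have h3 : orderOf t = 1 := Nat.Coprime.eq_one_of_dvd h2 h1
        exact orderOf_eq_one_iff.1 h3
      intro s hs
      rw [Subgroup.mem_centralizer_singleton_iff]
      have h1 : x * s * x⁻¹ * s⁻¹ ∈ N := by
        have : x * s * x⁻¹ * s⁻¹ = x * (s * x⁻¹ * s⁻¹) := by group
        rw [this]
        exact N.mul_mem hxN (hNn.conj_mem _ (N.inv_mem hxN) s)
      have h2 : x * s * x⁻¹ * s⁻¹ ∈ (S : Subgroup G) := by
        exact Subgroup.mul_mem _ ((Subgroup.mem_normalizer_iff.1 hnorm s).1 hs) (Subgroup.inv_mem _ hs)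
      have h3 := hNS _ h1 h2
      symm
      calc x * s = x * s * x⁻¹ * s⁻¹ * s * x := by group
        _ = s * x := by rw [h3, one_mul]
    · -- pass to quotient
      intro hconj
      have hsurj := QuotientGroup.mk'_surjective N
      have hlt : Nat.card (G ⧸ N) < n := by
        rw [← hn, Subgroup.card_eq_card_quotient_mul_card_subgroup N]
        have h1 : 1 < Nat.card N := by
          rw [Subgroup.one_lt_card_iff_ne_bot]; exact hNne
        have h2 : 0 < Nat.card (G ⧸ N) := Nat.card_pos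
        nlinarith
      have hx1 : (QuotientGroup.mk' N x) ≠ 1 := by
        intro h
        exact hxN ((QuotientGroup.eq_one_iff x).1 h)
      have hodd' : Odd (orderOf (QuotientGroup.mk' N x)) := by
        have hd : orderOf (QuotientGroup.mk' N x) ∣ orderOf x := orderOf_map_dvd _ _
        exact Odd.of_dvd_nat hodd hd
      have hnorm' : QuotientGroup.mk' N x ∈ Subgroup.normalizer
          (((S.mapSurjective hsurj : Sylow 2 (G ⧸ N)) : Subgroup (G ⧸ N)) : Set (G ⧸ N)) := by
        rw [Sylow.coe_mapSurjective]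
        exact Subgroup.le_normalizer_map _ (Subgroup.mem_map_of_mem _ hnorm)
      have hconj' : IsConj (QuotientGroup.mk' N x) (QuotientGroup.mk' N x)⁻¹ := by
        rw [← map_inv]
        exact (QuotientGroup.mk' N).map_isConj hconj
      exact ih _ hlt (G ⧸ N) rfl (S.mapSurjective hsurj) _ hx1 hodd' hnorm' hconj'

end Cfsg.Agent.H1
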