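import Mathlib
import Cfsg.Prelude.Def_Characters
import Cfsg.Prelude.Def_Blocks
import Cfsg.Agent.Lib.helper3.RealOdd3
import Cfsg.Agent.Lib.helper3.Degrees
import Cfsg.Agent.Lib.Helper8.GS6
import Cfsg.Agent.S0887

/-!
# Real characters of `p'`-degree: the hypothesis passes to normal subgroups of odd index
-/

set_option autoImplicit false
set_option linter.style.haveILetI false
set_option linter.unusedSectionVars false
set_option linter.unusedVariables false

namespace Cfsg.Agent.H1.RealOddSub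

open Cfsg Cfsg.Agent.Lib.helper3.Irr Cfsg.Agent.Lib.helper3.CharBasic
open Cfsg.Agent.Lib.helper3.IndFun Cfsg.Agent.Lib.Helper4.FS
open scoped ComplexConjugate

universe u

variable {G : Type u} [Group G] [Finite G]

/-- over a real irreducible character of a normal subgroup of odd index lies a real irreducible
character, whose degree is a multiple -/
theorem exists_real_over (N : Subgroup G) [hN : N.Normal] (hodd : Odd N.index)
    (θ : IrrCharacter ↥N) (hθ : ∀ k, ((θ : ↥N → ℂ) k).im = 0) :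
    ∃ χ : IrrCharacter G, (∀ g, ((χ : G → ℂ) g).im = 0) ∧
      charDegree (θ : ↥N → ℂ) ∣ charDegree (χ : G → ℂ) := by
  classical
  letI : Fintype G := Fintype.ofFinite G
  letI : Fintype N := Fintype.ofFinite _
  obtain ⟨χ, hfs, hov⟩ := Cfsg.Agent.Lib.helper3.RealOdd.exists_real_over N hodd θ hθ
  have hre := real_of_fsInd_ne_zero χ.2 hfs
  obtain ⟨c, hc, -, -⟩ := Cfsg.Agent.Lib.helper3.Central.irr_degree_dvd_card χ.2
  obtain ⟨d, hd, -, -⟩ := Cfsg.Agent.Lib.helper3.Central.irr_degree_dvd_card θ.2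
  obtain ⟨hdc, -⟩ := Cfsg.Agent.S0887.result N (χ : G → ℂ) χ.2 (θ : ↥N → ℂ) θ.2 hov c d hc hd
  refine ⟨χ, fun g => Complex.conj_eq_iff_im.mp (hre g), ?_⟩
  rw [Cfsg.Agent.Lib.Helper8.GSN.charDegree_eq_of_apply_one hc,
    Cfsg.Agent.Lib.Helper8.GSN.charDegree_eq_of_apply_one hd]
  exact hdc

/-- (C1 / R1) the hypothesis "real irreducible characters have `p'`-degree" passes to normal
subgroups of odd index -/
theorem not_dvd_degree_of_odd_index (p : ℕ) (N : Subgroup G) [hN : N.Normal] (hodd : Odd N.index)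
    (hreal : ∀ χ : IrrCharacter G, (∀ g, ((χ : G → ℂ) g).im = 0) →
      ¬ p ∣ charDegree (χ : G → ℂ)) :
    ∀ θ : IrrCharacter ↥N, (∀ k, ((θ : ↥N → ℂ) k).im = 0) →
      ¬ p ∣ charDegree (θ : ↥N → ℂ) := by
  intro θ hθ hp
  obtain ⟨χ, hχ, hdvd⟩ := exists_real_over N hodd θ hθ
  exact hreal χ hχ (hp.trans hdvd)

end Cfsg.Agent.H1.RealOddSub
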