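import Cfsg.Agent.H1.RecGL23Defs

/-!
# S3304, piece (P-R), step (A2): standard generators of `Q ≅ Q8` permuted by an element of order 3
(helper1).  Uses `exists_sq_ne_one`, `q8_pair` (piece A1) as hypotheses-free imports is avoided:
they are passed as arguments `hA`, `hB` so that this file does not depend on A1's file.
-/

set_option autoImplicit false
set_option linter.unusedVariables false

namespace Cfsg.Agent.H1.RecGL23

variable {X : Type*} [Group X]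

theorem s1_q8_pow_four : ∀ x : QuaternionGroup 2, x ^ 4 = 1 := by decide

theorem s1_q8_exists_outside : ∀ x : QuaternionGroup 2, ∃ y : QuaternionGroup 2,
    y ≠ 1 ∧ y ≠ x ∧ y ≠ x ^ 2 ∧ y ≠ x ^ 3 := by decide

theorem s1_mem_pow_four (Q : Subgroup X) (e : ↥Q ≃* QuaternionGroup 2) (x : X) (hx : x ∈ Q) :
    x ^ 4 = 1 := by
  have h := s1_q8_pow_four (e ⟨x, hx⟩)
  rw [← map_pow, ← map_one e] at h
  have := e.injective h
  exact congrArg Subtype.val this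

theorem s1_exists_outside (Q : Subgroup X) (e : ↥Q ≃* QuaternionGroup 2) (x : X) (hx : x ∈ Q) :
    ∃ y ∈ Q, y ≠ 1 ∧ y ≠ x ∧ y ≠ x ^ 2 ∧ y ≠ x ^ 3 := by
  obtain ⟨y, h0, h1, h2, h3⟩ := s1_q8_exists_outside (e ⟨x, hx⟩)
  refine ⟨(e.symm y : X), (e.symm y).2, ?_, ?_, ?_, ?_⟩
  · intro h
    apply h0
    have : e.symm y = 1 := Subtype.ext h
    rw [← e.apply_symm_apply y, this, map_one]
  · intro h
    apply h1
    have : e.symm y = ⟨x, hx⟩ := Subtype.ext h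
    rw [← e.apply_symm_apply y, this]
  · intro h
    apply h2
    have : e.symm y = (⟨x, hx⟩ : ↥Q) ^ 2 := Subtype.ext (by rw [h]; rfl)
    rw [← e.apply_symm_apply y, this, map_pow]
  · intro h
    apply h3
    have : e.symm y = (⟨x, hx⟩ : ↥Q) ^ 3 := Subtype.ext (by rw [h]; rfl)
    rw [← e.apply_symm_apply y, this, map_pow]

/-- conjugation by `d` iterated -/
theorem s1_conj_pow_three (d x : X) (hd : d ^ 3 = 1) : d * (d * (d * x * d⁻¹) * d⁻¹) * d⁻¹ = x := by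
  have h3 : d * d * d = 1 := by rw [← hd, pow_succ, pow_two]
  have h : d * (d * (d * x * d⁻¹) * d⁻¹) * d⁻¹ = (d * d * d) * x * (d * d * d)⁻¹ := by group
  rw [h, h3]; simp

/-- Lemma B: an element of order 3 moves every cyclic subgroup of order 4 of `Q`. -/
theorem s1_lemmaB (Q : Subgroup X) [hQn : Q.Normal] (e : ↥Q ≃* QuaternionGroup 2)
    (hC : Subgroup.centralizer (Q : Set X) ≤ Q)
    (hB : ∀ x y : X, x ∈ Q → y ∈ Q → x ^ 2 ≠ 1 → y ≠ 1 → y ≠ x → y ≠ x ^ 2 → y ≠ x ^ 3 → Q8F Q x y)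
    (d : X) (hd3 : d ^ 3 = 1) (hd1 : d ≠ 1) (x : X) (hx : x ∈ Q) (hx2 : x ^ 2 ≠ 1) :
    d * x * d⁻¹ ∈ Q ∧ d * x * d⁻¹ ≠ 1 ∧ d * x * d⁻¹ ≠ x ∧ d * x * d⁻¹ ≠ x ^ 2 ∧
      d * x * d⁻¹ ≠ x ^ 3 := by
  have hx4 : x ^ 4 = 1 := s1_mem_pow_four Q e x hx
  have hx1 : x ≠ 1 := by rintro rfl; simp at hx2
  refine ⟨hQn.conj_mem x hx d, ?_, ?_, ?_, ?_⟩
  · intro h
    apply hx1
    have : x = d⁻¹ * (d * x * d⁻¹) * d := by group
    rw [this, h]; group
  · -- `d` commutes with `x`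
    intro hdx
    obtain ⟨y₀, hy₀Q, h0, h1, h2, h3⟩ := s1_exists_outside Q e x hx
    have hq := hB x y₀ hx hy₀Q hx2 h0 h1 h2 h3
    have hdx' : d * x = x * d := by
      calc d * x = (d * x * d⁻¹) * d := by group
        _ = x * d := by rw [hdx]
    have hdxa : ∀ a : ℕ, d * x ^ a * d⁻¹ = x ^ a := by
      intro a
      have : d * x ^ a * d⁻¹ = (d * x * d⁻¹) ^ a := by rw [conj_pow]
      rw [this, hdx]
    obtain ⟨a, b, hab⟩ := hq.span (d * y₀ * d⁻¹) (hQn.conj_mem y₀ hy₀Q d)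
    -- `b = 1`
    have hb : (b : ℕ) = 1 := by
      fin_cases b
      · exfalso
        simp only [Fin.zero_eta, Fin.val_zero, pow_zero, mul_one] at hab
        -- y₀ = x^a
        have : y₀ = x ^ (a : ℕ) := by
          have e1 : y₀ = d⁻¹ * (d * y₀ * d⁻¹) * d := by group
          rw [e1, hab]
          have := hdxa (a : ℕ)
          calc d⁻¹ * x ^ (a : ℕ) * d = d⁻¹ * (d * x ^ (a : ℕ) * d⁻¹) * d := by rw [this]
            _ = x ^ (a : ℕ) := by group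
        fin_cases a
        · exact h0 (by simpa using this)
        · exact h1 (by simpa using this)
        · exact h2 (by simpa using this)
        · exact h3 (by simpa using this)
      · rfl
    rw [hb, pow_one] at hab
    -- iterate: `x^(3a) = 1`
    have h3a : x ^ (3 * (a : ℕ)) = 1 := by
      have e1 := s1_conj_pow_three d y₀ hd3
      rw [hab] at e1
      have e2 : d * (x ^ (a : ℕ) * y₀) * d⁻¹ = x ^ (a : ℕ) * (x ^ (a : ℕ) * y₀) := by
        calc d * (x ^ (a : ℕ) * y₀) * d⁻¹ = (d * x ^ (a : ℕ) * d⁻¹) * (d * y₀ * d⁻¹) := by group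
          _ = x ^ (a : ℕ) * (x ^ (a : ℕ) * y₀) := by rw [hdxa, hab]
      rw [e2] at e1
      have e3 : d * (x ^ (a : ℕ) * (x ^ (a : ℕ) * y₀)) * d⁻¹ =
          x ^ (a : ℕ) * (x ^ (a : ℕ) * (x ^ (a : ℕ) * y₀)) := by
        calc d * (x ^ (a : ℕ) * (x ^ (a : ℕ) * y₀)) * d⁻¹
            = (d * x ^ (a : ℕ) * d⁻¹) * (d * (x ^ (a : ℕ) * y₀) * d⁻¹) := by group
          _ = x ^ (a : ℕ) * (x ^ (a : ℕ) * (x ^ (a : ℕ) * y₀)) := by rw [hdxa, e2]
      rw [e3] at e1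
      have e4 : x ^ (a : ℕ) * (x ^ (a : ℕ) * (x ^ (a : ℕ) * y₀)) = x ^ (3 * (a : ℕ)) * y₀ := by
        rw [show 3 * (a : ℕ) = (a : ℕ) + (a : ℕ) + (a : ℕ) by ring, pow_add, pow_add]; group
      rw [e4] at e1
      exact mul_right_cancel (e1.trans (one_mul y₀).symm)
    have ha : (a : ℕ) = 0 := by
      fin_cases a
      · rfl
      · exfalso
        simp only [Fin.mk_one, Fin.val_one, mul_one] at h3a
        apply hx1
        calc x = x ^ 4 * (x ^ 3)⁻¹ := by group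
          _ = 1 := by rw [hx4, h3a]; simp
      · exfalso
        have h6 : x ^ 6 = 1 := by simpa using h3a
        apply hx2
        calc x ^ 2 = x ^ 6 * (x ^ 4)⁻¹ := by group
          _ = 1 := by rw [h6, hx4]; simp
      · exfalso
        have h9 : x ^ 9 = 1 := by simpa using h3a
        apply hx1
        calc x = x ^ 9 * ((x ^ 4)⁻¹ * (x ^ 4)⁻¹) := by group
          _ = 1 := by rw [h9, hx4]; simp
    rw [ha, pow_zero, one_mul] at hab
    -- `d` centralizes `Q`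
    have hdy : d * y₀ = y₀ * d := by
      calc d * y₀ = (d * y₀ * d⁻¹) * d := by group
        _ = y₀ * d := by rw [hab]
    have hdC : d ∈ Subgroup.centralizer (Q : Set X) := by
      rw [Subgroup.mem_centralizer_iff]
      intro q hq'
      obtain ⟨a', b', hq''⟩ := hq.span q hq'
      rw [hq'']
      have c1 : x ^ (a' : ℕ) * d = d * x ^ (a' : ℕ) := ((Commute.pow_right hdx' _ : Commute d _)).eq.symm
      have c2 : y₀ ^ (b' : ℕ) * d = d * y₀ ^ (b' : ℕ) := ((Commute.pow_right hdy _ : Commute d _)).eq.symm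
      calc x ^ (a' : ℕ) * y₀ ^ (b' : ℕ) * d = x ^ (a' : ℕ) * (y₀ ^ (b' : ℕ) * d) := by group
        _ = x ^ (a' : ℕ) * (d * y₀ ^ (b' : ℕ)) := by rw [c2]
        _ = (x ^ (a' : ℕ) * d) * y₀ ^ (b' : ℕ) := by group
        _ = d * (x ^ (a' : ℕ) * y₀ ^ (b' : ℕ)) := by rw [c1]; group
    have hd4 : d ^ 4 = 1 := s1_mem_pow_four Q e d (hC hdC)
    apply hd1
    calc d = d ^ 4 * (d ^ 3)⁻¹ := by group
      _ = 1 := by rw [hd4, hd3]; simp
  · intro h
    -- squares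
    have hsq : (d * x * d⁻¹) ^ 2 = d * x ^ 2 * d⁻¹ := by rw [conj_pow]
    have h1 : d * x ^ 2 * d⁻¹ = 1 := by
      rw [← hsq, h, ← pow_mul]; exact hx4
    apply hx2
    have : x ^ 2 = d⁻¹ * (d * x ^ 2 * d⁻¹) * d := by group
    rw [this, h1]; group
  · intro h
    have hinv : x ^ 3 = x⁻¹ := by
      calc x ^ 3 = x ^ 4 * x⁻¹ := by group
        _ = x⁻¹ := by rw [hx4, one_mul]
    rw [hinv] at h
    have e1 := s1_conj_pow_three d x hd3
    rw [h] at e1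
    have e2 : d * x⁻¹ * d⁻¹ = x := by
      calc d * x⁻¹ * d⁻¹ = (d * x * d⁻¹)⁻¹ := by group
        _ = x := by rw [h, inv_inv]
    rw [e2, h] at e1
    apply hx2
    calc x ^ 2 = x * x := pow_two x
      _ = x * x⁻¹ := by rw [e1]
      _ = 1 := mul_inv_cancel x

/-- (A2) first step, with the piece (A1) passed as hypotheses. -/
theorem step1_aux (Q : Subgroup X) [hQn : Q.Normal] (e : ↥Q ≃* QuaternionGroup 2)
    (hC : Subgroup.centralizer (Q : Set X) ≤ Q)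
    (hA : ∃ x ∈ Q, x ^ 2 ≠ 1)
    (hB : ∀ x y : X, x ∈ Q → y ∈ Q → x ^ 2 ≠ 1 → y ≠ 1 → y ≠ x → y ≠ x ^ 2 → y ≠ x ^ 3 → Q8F Q x y)
    (c : X) (hc3 : c ^ 3 = 1) (hc1 : c ≠ 1) :
    ∃ i j : X, Q8F Q i j ∧ c * i * c⁻¹ = j ∧ c * j * c⁻¹ = i * j := by
  obtain ⟨i, hiQ, hi2⟩ := hA
  obtain ⟨hjQ, hj0, hj1, hj2, hj3⟩ := s1_lemmaB Q e hC hB c hc3 hc1 i hiQ hi2
  set j := c * i * c⁻¹ with hj
  have hq : Q8F Q i j := hB i j hiQ hjQ hi2 hj0 hj1 hj2 hj3
  have hjsq : j ^ 2 ≠ 1 := by rw [hq.j2]; exact hi2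
  obtain ⟨hkQ, hk0, hk1, hk2, hk3⟩ := s1_lemmaB Q e hC hB c hc3 hc1 j hjQ hjsq
  -- `c j c⁻¹ = c⁻¹ i c`
  have hcinv3 : c⁻¹ ^ 3 = 1 := by rw [inv_pow, hc3, inv_one]
  have hcinv1 : c⁻¹ ≠ 1 := by intro h; exact hc1 (inv_eq_one.1 h)
  obtain ⟨-, hm0, hm1, hm2, hm3⟩ := s1_lemmaB Q e hC hB c⁻¹ hcinv3 hcinv1 i hiQ hi2
  have hkk : c * j * c⁻¹ = c⁻¹ * i * c⁻¹⁻¹ := by
    have h1 : c * j * c⁻¹ = (c * c) * i * (c * c)⁻¹ := by rw [hj]; group
    have h3 : c * c * c = 1 := by rw [← hc3, pow_succ, pow_two]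
    have h2 : c * c = c⁻¹ := by
      calc c * c = (c * c * c) * c⁻¹ := by group
        _ = c⁻¹ := by rw [h3, one_mul]
    rw [h1, h2]
  rw [← hkk] at hm0 hm1 hm2 hm3
  obtain ⟨a, b, hab⟩ := hq.span (c * j * c⁻¹) hkQ
  have hi4 := hq.i4
  fin_cases b
  · exfalso
    simp only [Fin.zero_eta, Fin.val_zero, pow_zero, mul_one] at hab
    fin_cases a
    · exact hm0 (by simpa using hab)
    · exact hm1 (by simpa using hab)
    · exact hm2 (by simpa using hab)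
    · exact hm3 (by simpa using hab)
  · simp only [Fin.mk_one, Fin.val_one, pow_one] at hab
    fin_cases a
    · exfalso; exact hk1 (by simpa using hab)
    · exact ⟨i, j, hq, rfl, by simpa using hab⟩
    · exfalso
      apply hk3
      have : c * j * c⁻¹ = i ^ 2 * j := by simpa using hab
      rw [this, ← hq.j2]; group
    · -- `c j c⁻¹ = i³ j`: use `i⁻¹`, `j⁻¹`
      have hk : c * j * c⁻¹ = i ^ 3 * j := by simpa using hab
      have hinv : i ^ 3 = i⁻¹ := by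
        calc i ^ 3 = i ^ 4 * i⁻¹ := by group
          _ = i⁻¹ := by rw [hi4, one_mul]
      have hi2' : i⁻¹ ^ 2 ≠ 1 := by
        rw [inv_pow]; intro h; exact hi2 (inv_eq_one.1 h)
      have hq' : Q8F Q i⁻¹ j⁻¹ := by
        apply hB i⁻¹ j⁻¹ (Q.inv_mem hiQ) (Q.inv_mem hjQ) hi2'
        · intro h; exact hj0 (inv_eq_one.1 h)
        · intro h; exact hj1 (inv_injective h)
        · intro h
          apply hj2
          rw [inv_pow] at h
          exact inv_injective h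
        · intro h
          apply hj3
          rw [inv_pow] at h
          exact inv_injective h
      refine ⟨i⁻¹, j⁻¹, hq', ?_, ?_⟩
      · rw [hj]; group
      · have h1 : c * j⁻¹ * c⁻¹ = (c * j * c⁻¹)⁻¹ := by group
        rw [h1, hk, hinv]
        -- `(i⁻¹ j)⁻¹ = j⁻¹ i = i⁻¹ j⁻¹`
        have h2 : j⁻¹ * i = i⁻¹ * j⁻¹ := by
          have e1 : j⁻¹ * j⁻¹ = (i ^ 2)⁻¹ := by
            rw [← hq.j2, pow_two]; group
          have e2 : (i ^ 2)⁻¹ * i⁻¹ = i⁻¹ * (i ^ 2)⁻¹ := by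
            rw [pow_two]; group
          calc j⁻¹ * i = (j⁻¹ * j⁻¹) * (j * i * j⁻¹) * j := by group
            _ = (i ^ 2)⁻¹ * i⁻¹ * j := by rw [e1, hq.ji]
            _ = i⁻¹ * (i ^ 2)⁻¹ * j := by rw [e2]
            _ = i⁻¹ * (j⁻¹ * j⁻¹) * j := by rw [e1]
            _ = i⁻¹ * j⁻¹ := by group
        calc (i⁻¹ * j)⁻¹ = j⁻¹ * i := by group
          _ = i⁻¹ * j⁻¹ := h2

end Cfsg.Agent.H1.RecGL23
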