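import Mathlib

/-!
# S3304, piece (P-R): recognition of `GL(2,3)` — shared definitions (helper1)

`Q8F Q i j`: the subgroup `Q` of `X` is a quaternion group of order 8 with standard generators `i`, `j`
(elementwise form).
-/

set_option autoImplicit false

namespace Cfsg.Agent.H1.RecGL23

/-- `Q = {i^a j^b}` is quaternion of order 8 with standard generators `i`, `j`. -/
structure Q8F {X : Type*} [Group X] (Q : Subgroup X) (i j : X) : Prop where
  iQ : i ∈ Q
  jQ : j ∈ Q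
  i4 : i ^ 4 = 1
  i2 : i ^ 2 ≠ 1
  j2 : j ^ 2 = i ^ 2
  ji : j * i * j⁻¹ = i⁻¹
  span : ∀ q ∈ Q, ∃ a : Fin 4, ∃ b : Fin 2, q = i ^ (a : ℕ) * j ^ (b : ℕ)

end Cfsg.Agent.H1.RecGL23
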