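import Cfsg.Prelude.Def_Solvable
import Cfsg.Agent.H1.RecGL23Step1
import Cfsg.Agent.Lib.helper3.RecGL23A1
import Cfsg.Agent.Lib.Helper4.RecGL23A3
import Cfsg.Agent.Lib.Helper6.RecGL23A4
import Cfsg.Agent.H9.GL23R

/-!
# S3304, piece (P-R): recognition of `GL(2,3)` (helper1; pieces by helper3, helper4, helper6, helper9)
-/

set_option autoImplicit false
set_option linter.unusedVariables false

namespace Cfsg.Agent.H1.RecGL23

variable {X : Type*} [Group X]

/-- (A2) first step: standard generators permuted by an element `c` of order 3. -/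
theorem step1 (Q : Subgroup X) [Q.Normal] (e : ↥Q ≃* QuaternionGroup 2)
    (hC : Subgroup.centralizer (Q : Set X) ≤ Q) (c : X) (hc3 : c ^ 3 = 1) (hc1 : c ≠ 1) :
    ∃ i j : X, Q8F Q i j ∧ c * i * c⁻¹ = j ∧ c * j * c⁻¹ = i * j :=
  step1_aux Q e hC (exists_sq_ne_one Q e)
    (fun x y hx hy hx2 h0 h1 h2 h3 => q8_pair Q e x y hx hy hx2 h0 h1 h2 h3) c hc3 hc1

/-- Recognition of `GL(2,3)`. -/
theorem recog_GL23 {X : Type*} [Group X] [Finite X] (hcard : Nat.card X = 48) (Q : Subgroup X)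
    [Q.Normal] (hQ : Nonempty (↥Q ≃* QuaternionGroup 2))
    (hC : Subgroup.centralizer (Q : Set X) ≤ Q) (hO : Cfsg.pPrimeCore 2 X = ⊥) (u : X) (huQ : u ∉ Q)
    (hu : u * u = 1) : Nonempty (X ≃* GL (Fin 2) (ZMod 3)) := by
  classical
  obtain ⟨e⟩ := hQ
  have h3 : (3 : ℕ) ∣ Nat.card X := by rw [hcard]; norm_num
  haveI : Fact (Nat.Prime 3) := ⟨Nat.prime_three⟩
  obtain ⟨c, hc⟩ := exists_prime_orderOf_dvd_card' 3 h3
  have hc3 : c ^ 3 = 1 := by rw [← hc]; exact pow_orderOf_eq_one c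
  have hc1 : c ≠ 1 := by
    intro h; rw [h, orderOf_one] at hc; norm_num at hc
  obtain ⟨i, j, hq, hci, hcj⟩ := step1 Q e hC c hc3 hc1
  have hcQ : c ∉ Q := by
    intro hcQ
    have hc4 : c ^ 4 = 1 := s1_mem_pow_four Q e c hcQ
    apply hc1
    have h3' : c * c * c = 1 := by rw [← hc3, pow_succ, pow_two]
    have h4' : c * c * c * c = 1 := by rw [← hc4, pow_succ, pow_succ, pow_two]
    have h5 : c * c * c * c = (c * c * c) * c := by group
    rw [h5, h3', one_mul] at h4'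
    exact h4'
  obtain ⟨u', hu2, hui, huj, huc, hu'Q⟩ := step2 Q hC i j c hq hc3 hci hcj u huQ hu
  obtain ⟨i', j', c', n, h1, h2, h3, h4, h5, h6, h7, h8, h9, h10, h11, h12, h13⟩ :=
    step3 hcard Q hC i j c u' hq hc3 hcQ hci hcj hu2 hui huj huc hu'Q
  exact iso_of_relations hcard i' j' c' n h1 h2 h3 h4 h5 h6 h7 h8 h9 h10 h11 h12 h13

end Cfsg.Agent.H1.RecGL23
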