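import Mathlib
import Cfsg.Agent.Lib.Helper4.RobDefs
import Cfsg.Agent.H9.ClassSize

set_option autoImplicit false

/-! Piece A of Robinson's block count (S4443): the Sylow double count
`ω_S(x,y)/p^(a-d) ≡ (|x^G|/p^(a-d)) · cnt(x,y)  (mod p)`. -/

namespace Cfsg.Agent.H1.RobA

open Cfsg.Agent.Lib.Helper4.Rob

/-- sums of invariant functions are divisible by every common divisor of the orbit lengths of
the points in the support -/
theorem dvd_sum_of_invariant {Γ X : Type*} [Group Γ] [Fintype X] [MulAction Γ X]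
    (q : ℕ) (f : X → ℕ) (hf : ∀ (g : Γ) (x : X), f (g • x) = f x)
    (hstab : ∀ x, f x ≠ 0 → q ∣ (MulAction.stabilizer Γ x).index) : q ∣ ∑ x, f x := by
  classical
  rw [← Fintype.sum_fiberwise
    (fun x : X => (Quotient.mk'' x : MulAction.orbitRel.Quotient Γ X)) f]
  apply Finset.dvd_sum
  intro c _
  have hx0 : (Quotient.mk'' c.out : MulAction.orbitRel.Quotient Γ X) = c := Quotient.out_eq' c
  have hmem : ∀ i : X, (Quotient.mk'' i : MulAction.orbitRel.Quotient Γ X) = c ↔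
      i ∈ MulAction.orbit Γ c.out := by
    intro i
    have h1 := @Quotient.eq'' _ (MulAction.orbitRel Γ X) i c.out
    rw [hx0] at h1
    rw [h1, MulAction.orbitRel_apply]
  have hconst : ∀ i : {i : X // (Quotient.mk'' i : MulAction.orbitRel.Quotient Γ X) = c},
      f i = f c.out := by
    rintro ⟨i, hi⟩
    obtain ⟨g, rfl⟩ := (hmem i).1 hi
    exact hf g _
  rw [Finset.sum_congr rfl (fun i _ => hconst i), Finset.sum_const, smul_eq_mul]
  by_cases h0 : f c.out = 0
  · rw [h0, mul_zero]; exact dvd_zero _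
  · apply Dvd.dvd.mul_right
    have h1 := hstab _ h0
    rw [MulAction.index_stabilizer, ← Nat.card_coe_set_eq] at h1
    rw [Finset.card_univ, ← Nat.card_eq_fintype_card,
      Nat.card_congr (Equiv.subtypeEquivRight hmem)]
    exact h1

theorem natCard_subtype_eq_sum {α : Type*} [Fintype α] (P : α → Prop) [DecidablePred P] :
    Nat.card {a // P a} = ∑ a, if P a then 1 else 0 := by
  rw [Nat.card_eq_fintype_card, Fintype.card_subtype, Finset.card_filter]

variable {G : Type*} [Group G]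

section sylowCount

variable [Finite G] (p : ℕ) [Fact p.Prime]

/-- the number of Sylow `p`-subgroups containing `u` -/
noncomputable def nS (u : G) : ℕ := Nat.card {Q : Sylow p G // u ∈ Q}

theorem nS_modEq (u : G) (k : ℕ) (hu : orderOf u = p ^ k) : nS p u ≡ 1 [MOD p] := by
  have hP : IsPGroup p (Subgroup.zpowers u) :=
    IsPGroup.of_card (n := k) (by rw [Nat.card_zpowers, hu])
  have h1 := hP.card_modEq_card_fixedPoints (Sylow p G)
  have h2 : Nat.card (Sylow p G) ≡ 1 [MOD p] := card_sylow_modEq_one p G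
  have h3 : Nat.card (MulAction.fixedPoints (Subgroup.zpowers u) (Sylow p G)) =
      Nat.card {Q : Sylow p G // u ∈ Q} := by
    apply Nat.card_congr
    apply Equiv.subtypeEquivRight
    intro Q
    rw [hP.sylow_mem_fixedPoints_iff, Subgroup.zpowers_le]
    rfl
  unfold nS
  rw [← h3]
  exact h1.symm.trans h2

theorem nS_eq_zero (u : G) (hu : ¬ ∃ k : ℕ, orderOf u = p ^ k) : nS p u = 0 := by
  unfold nS
  rw [Nat.card_eq_zero]
  left
  constructor
  rintro ⟨Q, hQ⟩
  apply hu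
  obtain ⟨k, hk⟩ := Q.2 ⟨u, hQ⟩
  have h1 : u ^ p ^ k = 1 := by simpa using congrArg Subtype.val hk
  obtain ⟨j, _, hj⟩ := (Nat.dvd_prime_pow (Fact.out)).1 (orderOf_dvd_of_pow_eq_one h1)
  exact ⟨j, hj⟩

theorem mem_smul_sylow_iff (g u : G) (Q : Sylow p G) :
    u ∈ ((g • Q : Sylow p G) : Subgroup G) ↔ g⁻¹ * u * g ∈ (Q : Subgroup G) := by
  rw [Sylow.coe_subgroup_smul, Subgroup.mem_pointwise_smul_iff_inv_smul_mem, MulAut.smul_def,
    MulAut.conj_inv_apply]

theorem nS_conj (g u : G) : nS p (g * u * g⁻¹) = nS p u := by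
  unfold nS
  apply Nat.card_congr
  refine (Equiv.subtypeEquiv (MulAction.toPerm g : Equiv.Perm (Sylow p G)) (fun Q => ?_)).symm
  show u ∈ Q ↔ g * u * g⁻¹ ∈ ((g • Q : Sylow p G) : Subgroup G)
  rw [mem_smul_sylow_iff]
  have : g⁻¹ * (g * u * g⁻¹) * g = u := by group
  rw [this]
  rfl

/-- indicator of `p`-elements -/
noncomputable def iota (u : G) : ℕ := by
  classical exact if ∃ k : ℕ, orderOf u = p ^ k then 1 else 0

theorem nS_eq (u : G) : nS p u = iota p u + p * (nS p u / p) := by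
  classical
  unfold iota
  by_cases h : ∃ k : ℕ, orderOf u = p ^ k
  · obtain ⟨k, hk⟩ := h
    rw [if_pos ⟨k, hk⟩]
    have h1 := nS_modEq p u k hk
    have hp : 1 < p := (Fact.out : p.Prime).one_lt
    have h2 : nS p u % p = 1 := by
      have := h1
      unfold Nat.ModEq at this
      rw [this, Nat.mod_eq_of_lt hp]
    have h3 := Nat.div_add_mod (nS p u) p
    omega
  · rw [if_neg h, nS_eq_zero p u h]
    simp

theorem iota_conj (g u : G) : iota p (g * u * g⁻¹) = iota p u := by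
  classical
  unfold iota
  have : orderOf (g * u * g⁻¹) = orderOf u := by
    have := (MulAut.conj g).orderOf_eq u
    rwa [MulAut.conj_apply] at this
  rw [this]

end sylowCount

/-- the sum form of `omega` -/
theorem omega_eq_sum [Fintype G] [DecidableEq G] (S : Subgroup G) (x y : G)
    [DecidablePred fun w : G × G => IsConj w.1 x ∧ IsConj w.2 y ∧ w.2 * w.1⁻¹ ∈ S] :
    omega S x y = ∑ w : G × G,
      if (IsConj w.1 x ∧ IsConj w.2 y ∧ w.2 * w.1⁻¹ ∈ S) then 1 else 0 := by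
  rw [← natCard_subtype_eq_sum]
  unfold omega
  apply Nat.card_congr
  apply Equiv.subtypeEquivRight
  intro w
  rw [ConjClasses.mem_carrier_iff_mk_eq, ConjClasses.mem_carrier_iff_mk_eq,
    ConjClasses.mk_eq_mk_iff_isConj, ConjClasses.mk_eq_mk_iff_isConj]

/-- `omega` does not depend on the Sylow subgroup -/
theorem omega_smul [Finite G] (p : ℕ) [Fact p.Prime] (g : G) (S : Sylow p G) (x y : G) :
    omega ((g • S : Sylow p G) : Subgroup G) x y = omega (S : Subgroup G) x y := by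
  unfold omega
  apply Nat.card_congr
  refine Equiv.subtypeEquiv
    ⟨fun w => (g⁻¹ * w.1 * g, g⁻¹ * w.2 * g), fun w => (g * w.1 * g⁻¹, g * w.2 * g⁻¹),
      fun w => by ext <;> simp [mul_assoc], fun w => by ext <;> simp [mul_assoc]⟩ (fun w => ?_)
  show (w.1 ∈ (ConjClasses.mk x).carrier ∧ w.2 ∈ (ConjClasses.mk y).carrier ∧
      w.2 * w.1⁻¹ ∈ ((g • S : Sylow p G) : Subgroup G)) ↔
    (g⁻¹ * w.1 * g ∈ (ConjClasses.mk x).carrier ∧ g⁻¹ * w.2 * g ∈ (ConjClasses.mk y).carrier ∧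
      g⁻¹ * w.2 * g * (g⁻¹ * w.1 * g)⁻¹ ∈ (S : Subgroup G))
  rw [ConjClasses.mem_carrier_iff_mk_eq, ConjClasses.mem_carrier_iff_mk_eq,
    ConjClasses.mem_carrier_iff_mk_eq, ConjClasses.mem_carrier_iff_mk_eq,
    ConjClasses.mk_eq_mk_iff_isConj, ConjClasses.mk_eq_mk_iff_isConj,
    ConjClasses.mk_eq_mk_iff_isConj, ConjClasses.mk_eq_mk_iff_isConj, mem_smul_sylow_iff]
  have e1 : IsConj (g⁻¹ * w.1 * g) w.1 := by
    rw [isConj_comm, isConj_iff]
    exact ⟨g⁻¹, by simp⟩
  have e2 : IsConj (g⁻¹ * w.2 * g) w.2 := by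
    rw [isConj_comm, isConj_iff]
    exact ⟨g⁻¹, by simp⟩
  have e3 : g⁻¹ * w.2 * g * (g⁻¹ * w.1 * g)⁻¹ = g⁻¹ * (w.2 * w.1⁻¹) * g := by group
  rw [e3]
  constructor
  · rintro ⟨h1, h2, h3⟩
    exact ⟨e1.trans h1, e2.trans h2, h3⟩
  · rintro ⟨h1, h2, h3⟩
    exact ⟨e1.symm.trans h1, e2.symm.trans h2, h3⟩

theorem cnt_conj (p : ℕ) (u x y : G) (h : IsConj u x) : cnt p u y = cnt p x y := by
  obtain ⟨c, hc⟩ := isConj_iff.1 h
  -- hc : c * u * c⁻¹ = x
  unfold cnt
  apply Nat.card_congr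
  refine Equiv.subtypeEquiv (MulAut.conj c).toEquiv (fun t => ?_)
  show ((∃ k : ℕ, orderOf t = p ^ k) ∧ IsConj y (t * u)) ↔
    ((∃ k : ℕ, orderOf (c * t * c⁻¹) = p ^ k) ∧ IsConj y (c * t * c⁻¹ * x))
  have h1 : orderOf (c * t * c⁻¹) = orderOf t := by
    have := (MulAut.conj c).orderOf_eq t
    rwa [MulAut.conj_apply] at this
  have h2 : c * t * c⁻¹ * x = c * (t * u) * c⁻¹ := by rw [← hc]; group
  rw [h1, h2]
  have h3 : IsConj (t * u) (c * (t * u) * c⁻¹) := isConj_iff.2 ⟨c, rfl⟩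
  constructor
  · rintro ⟨ha, hb⟩
    exact ⟨ha, hb.trans h3⟩
  · rintro ⟨ha, hb⟩
    exact ⟨ha, hb.trans h3.symm⟩

end Cfsg.Agent.H1.RobA
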