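import Mathlib
import Cfsg.Agent.H1.RobA

set_option autoImplicit false

/-! Piece A of Robinson's block count (S4443), main statement `omega_cast`. -/

namespace Cfsg.Agent.H1.RobA

open Cfsg.Agent.Lib.Helper4.Rob

variable {G : Type*} [Group G]

theorem pow_dvd_index [Finite G] (p : ℕ) [Fact p.Prime] (D : Subgroup G) (x : G)
    (hx : Good p D x) : p ^ ad p D ∣ (Subgroup.centralizer ({x} : Set G)).index := by
  obtain ⟨_, Q, hQ⟩ := hx
  have hp : p.Prime := Fact.out
  have h1 : Nat.card D = p ^ (Nat.card ↥(Subgroup.centralizer ({x} : Set G))).factorization p := by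
    rw [← hQ, Subgroup.card_map_of_injective (Subgroup.subtype_injective _)]
    exact Q.card_eq_multiplicity
  have h2 : (Nat.card D).factorization p =
      (Nat.card ↥(Subgroup.centralizer ({x} : Set G))).factorization p := by
    rw [h1, Nat.Prime.factorization_pow hp, Finsupp.single_eq_same]
  have h3 := Subgroup.card_mul_index (Subgroup.centralizer ({x} : Set G))
  have h4 : (Nat.card G).factorization p =
      (Nat.card ↥(Subgroup.centralizer ({x} : Set G))).factorization p +
        ((Subgroup.centralizer ({x} : Set G)).index).factorization p := by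
    rw [← h3, Nat.factorization_mul Nat.card_pos.ne'
      (Subgroup.index_ne_zero_of_finite), Finsupp.add_apply]
  have h5 : ad p D = ((Subgroup.centralizer ({x} : Set G)).index).factorization p := by
    unfold ad
    rw [h2, h4]
    omega
  rw [h5]
  exact Nat.ordProj_dvd _ _

theorem index_dvd_stab_index (x : G) (w : G × G) (hw : IsConj w.1 x) :
    (Subgroup.centralizer ({x} : Set G)).index ∣
      (MulAction.stabilizer (ConjAct G) w).index := by
  have h1 : MulAction.stabilizer (ConjAct G) w ≤ MulAction.stabilizer (ConjAct G) w.1 := by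
    intro γ hγ
    rw [MulAction.mem_stabilizer_iff] at hγ ⊢
    have := congrArg Prod.fst hγ
    simpa using this
  have h2 := Subgroup.index_dvd_of_le h1
  have h3 : (MulAction.stabilizer (ConjAct G) w.1).index =
      (Subgroup.centralizer ({x} : Set G)).index := by
    rw [MulAction.index_stabilizer, ← Nat.card_coe_set_eq,
      Cfsg.Agent.H9.ClassSize.index_centralizer_eq_card_conj]
    apply Nat.card_congr
    apply Equiv.subtypeEquivRight
    intro h
    rw [ConjAct.mem_orbit_conjAct]
    constructor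
    · intro hh; exact (hh.trans hw).symm
    · intro hh; exact (hw.trans hh).symm
  rw [← h3]; exact h2

section main

variable [Finite G] (p : ℕ) [Fact p.Prime]

open Classical in
/-- summing `omega` over all Sylow subgroups -/
theorem card_sylow_mul_omega [Fintype G] (S : Sylow p G) (x y : G) :
    Nat.card (Sylow p G) * omega (S : Subgroup G) x y =
      ∑ w : G × G, if (IsConj w.1 x ∧ IsConj w.2 y) then nS p (w.2 * w.1⁻¹) else 0 := by
  haveI : Fintype (Sylow p G) := Fintype.ofFinite _
  have h1 : ∀ Q : Sylow p G, omega (Q : Subgroup G) x y = omega (S : Subgroup G) x y := by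
    intro Q
    obtain ⟨g, rfl⟩ := MulAction.exists_smul_eq G S Q
    exact omega_smul p g S x y
  have h2 : ∑ Q : Sylow p G, omega (Q : Subgroup G) x y =
      Nat.card (Sylow p G) * omega (S : Subgroup G) x y := by
    rw [Finset.sum_congr rfl (fun Q _ => h1 Q), Finset.sum_const, Finset.card_univ,
      smul_eq_mul, Nat.card_eq_fintype_card]
  rw [← h2]
  have h3 : ∀ Q : Sylow p G, omega (Q : Subgroup G) x y = ∑ w : G × G,
      if (IsConj w.1 x ∧ IsConj w.2 y ∧ w.2 * w.1⁻¹ ∈ (Q : Subgroup G)) then 1 else 0 :=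
    fun Q => omega_eq_sum _ x y
  rw [Finset.sum_congr rfl (fun Q _ => h3 Q), Finset.sum_comm]
  apply Finset.sum_congr rfl
  intro w _
  by_cases hc : IsConj w.1 x ∧ IsConj w.2 y
  · rw [if_pos hc]
    unfold nS
    rw [natCard_subtype_eq_sum]
    apply Finset.sum_congr rfl
    intro Q _
    by_cases hQ : w.2 * w.1⁻¹ ∈ Q
    · rw [if_pos hQ, if_pos ⟨hc.1, hc.2, hQ⟩]
    · rw [if_neg hQ, if_neg (fun h => hQ h.2.2)]
  · rw [if_neg hc]
    apply Finset.sum_eq_zero
    intro Q _
    rw [if_neg (fun h => hc ⟨h.1, h.2.1⟩)]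

open Classical in
/-- the pairs whose quotient is a `p`-element -/
theorem sum_iota [Fintype G] (x y : G) :
    (∑ w : G × G, if (IsConj w.1 x ∧ IsConj w.2 y) then iota p (w.2 * w.1⁻¹) else 0) =
      (Subgroup.centralizer ({x} : Set G)).index * cnt p x y := by
  rw [Fintype.sum_prod_type]
  have h1 : ∀ a : G, (∑ b : G, if (IsConj a x ∧ IsConj b y) then iota p (b * a⁻¹) else 0) =
      if IsConj a x then cnt p x y else 0 := by
    intro a
    by_cases ha : IsConj a x
    · rw [if_pos ha, ← cnt_conj p a x y ha]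
      unfold cnt
      rw [natCard_subtype_eq_sum]
      refine (Fintype.sum_equiv (Equiv.mulRight a)
        (fun t => if ((∃ k : ℕ, orderOf t = p ^ k) ∧ IsConj y (t * a)) then 1 else 0)
        (fun b => if (IsConj a x ∧ IsConj b y) then iota p (b * a⁻¹) else 0) (fun t => ?_)).symm
      show (if ((∃ k : ℕ, orderOf t = p ^ k) ∧ IsConj y (t * a)) then 1 else 0) =
        if (IsConj a x ∧ IsConj (t * a) y) then iota p (t * a * a⁻¹) else 0
      have e : t * a * a⁻¹ = t := by group
      rw [e]
      unfold iota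
      by_cases hb : IsConj (t * a) y
      · have hb' : IsConj y (t * a) := hb.symm
        by_cases hk : ∃ k : ℕ, orderOf t = p ^ k
        · rw [if_pos (show (∃ k : ℕ, orderOf t = p ^ k) ∧ IsConj y (t * a) from ⟨hk, hb'⟩),
            if_pos (show IsConj a x ∧ IsConj (t * a) y from ⟨ha, hb⟩), if_pos hk]
        · rw [if_neg (show ¬ ((∃ k : ℕ, orderOf t = p ^ k) ∧ IsConj y (t * a)) from
              fun h => hk h.1),
            if_pos (show IsConj a x ∧ IsConj (t * a) y from ⟨ha, hb⟩), if_neg hk]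
      · rw [if_neg (show ¬ ((∃ k : ℕ, orderOf t = p ^ k) ∧ IsConj y (t * a)) from
            fun h => hb h.2.symm),
          if_neg (show ¬ (IsConj a x ∧ IsConj (t * a) y) from fun h => hb h.2)]
    · rw [if_neg ha]
      apply Finset.sum_eq_zero
      intro b _
      rw [if_neg (fun h => ha h.1)]
  rw [Finset.sum_congr rfl (fun a _ => h1 a)]
  rw [Cfsg.Agent.H9.ClassSize.index_centralizer_eq_card_conj, natCard_subtype_eq_sum,
    Finset.sum_mul]
  apply Finset.sum_congr rfl
  intro a _
  by_cases ha : IsConj a x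
  · rw [if_pos ha, if_pos ha.symm, one_mul]
  · rw [if_neg ha, if_neg (fun h => ha h.symm), zero_mul]

open Classical in
theorem pow_dvd_sum_m [Fintype G] (D : Subgroup G) (x y : G) (hx : Good p D x) :
    p ^ ad p D ∣
      ∑ w : G × G, if (IsConj w.1 x ∧ IsConj w.2 y) then nS p (w.2 * w.1⁻¹) / p else 0 := by
  apply dvd_sum_of_invariant (Γ := ConjAct G)
  · intro γ w
    have e1 : (γ • w).1 = ConjAct.ofConjAct γ * w.1 * (ConjAct.ofConjAct γ)⁻¹ := by
      rw [Prod.smul_fst, ConjAct.smul_def]
    have e2 : (γ • w).2 = ConjAct.ofConjAct γ * w.2 * (ConjAct.ofConjAct γ)⁻¹ := by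
      rw [Prod.smul_snd, ConjAct.smul_def]
    set g := ConjAct.ofConjAct γ
    have c1 : IsConj (g * w.1 * g⁻¹) w.1 := (isConj_iff.2 ⟨g, rfl⟩).symm
    have c2 : IsConj (g * w.2 * g⁻¹) w.2 := (isConj_iff.2 ⟨g, rfl⟩).symm
    have e3 : g * w.2 * g⁻¹ * (g * w.1 * g⁻¹)⁻¹ = g * (w.2 * w.1⁻¹) * g⁻¹ := by group
    rw [e1, e2, e3, nS_conj]
    by_cases hc : IsConj w.1 x ∧ IsConj w.2 y
    · rw [if_pos hc, if_pos ⟨c1.trans hc.1, c2.trans hc.2⟩]
    · rw [if_neg hc, if_neg (fun h => hc ⟨c1.symm.trans h.1, c2.symm.trans h.2⟩)]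
  · intro w hw
    have hc : IsConj w.1 x ∧ IsConj w.2 y := by
      by_contra h
      exact hw (if_neg h)
    exact dvd_trans (pow_dvd_index p D x hx) (index_dvd_stab_index x w hc.1)

/-- **Piece A.** -/
theorem omega_cast (D : Subgroup G) (S : Sylow p G) (x y : G) (hx : Good p D x) :
    ((omega (S : Subgroup G) x y / p ^ ad p D : ℕ) : ZMod p) =
      (((Subgroup.centralizer ({x} : Set G)).index / p ^ ad p D : ℕ) : ZMod p) *
        ((cnt p x y : ℕ) : ZMod p) := by
  classical
  haveI : Fintype G := Fintype.ofFinite G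
  have hp : p.Prime := Fact.out
  set e := ad p D with he
  set N := Nat.card (Sylow p G) with hN
  set Ω := omega (S : Subgroup G) x y with hΩ
  set I := (Subgroup.centralizer ({x} : Set G)).index with hI
  set c := cnt p x y with hc
  have h1 := card_sylow_mul_omega p S x y
  have h2 : (∑ w : G × G, if (IsConj w.1 x ∧ IsConj w.2 y) then nS p (w.2 * w.1⁻¹) else 0) =
      (∑ w : G × G, if (IsConj w.1 x ∧ IsConj w.2 y) then iota p (w.2 * w.1⁻¹) else 0) +
        p * ∑ w : G × G, if (IsConj w.1 x ∧ IsConj w.2 y) then nS p (w.2 * w.1⁻¹) / p else 0 := by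
    rw [Finset.mul_sum, ← Finset.sum_add_distrib]
    apply Finset.sum_congr rfl
    intro w _
    by_cases hcw : IsConj w.1 x ∧ IsConj w.2 y
    · rw [if_pos hcw, if_pos hcw, if_pos hcw]
      exact nS_eq p _
    · rw [if_neg hcw, if_neg hcw, if_neg hcw]
      simp
  rw [h2, sum_iota p x y] at h1
  obtain ⟨M, hM⟩ := pow_dvd_sum_m p D x y hx
  obtain ⟨k, hk⟩ := pow_dvd_index p D x hx
  rw [hM] at h1
  rw [← hI, ← hc, ← he] at h1
  rw [← hI, ← he] at hk
  -- N * Ω = I * c + p * (p^e * M),  I = p^e * k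
  have hNmod : N ≡ 1 [MOD p] := card_sylow_modEq_one p G
  have hcop : Nat.Coprime (p ^ e) N := by
    apply Nat.Coprime.pow_left
    rw [Nat.Prime.coprime_iff_not_dvd hp]
    intro hd
    have := (Nat.modEq_zero_iff_dvd.2 hd).symm.trans hNmod
    have h0 : (0 : ℕ) % p = 1 % p := this
    rw [Nat.zero_mod, Nat.mod_eq_of_lt hp.one_lt] at h0
    exact absurd h0 (by norm_num)
  have hdvd : p ^ e ∣ N * Ω := by
    rw [h1, hk]
    exact ⟨k * c + p * M, by ring⟩
  have hdvdΩ : p ^ e ∣ Ω := (Nat.Coprime.dvd_mul_left hcop).1 hdvd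
  obtain ⟨w, hw⟩ := hdvdΩ
  have hpos : 0 < p ^ e := pow_pos hp.pos e
  have h3 : N * w = k * c + p * M := by
    have : p ^ e * (N * w) = p ^ e * (k * c + p * M) := by
      calc p ^ e * (N * w) = N * (p ^ e * w) := by ring
        _ = N * Ω := by rw [hw]
        _ = I * c + p * (p ^ e * M) := h1
        _ = p ^ e * (k * c + p * M) := by rw [hk]; ring
    exact Nat.eq_of_mul_eq_mul_left hpos this
  have h4 : Ω / p ^ e = w := by rw [hw, Nat.mul_div_cancel_left _ hpos]
  have h5 : I / p ^ e = k := by rw [hk, Nat.mul_div_cancel_left _ hpos]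
  rw [h4, h5]
  have h6 : ((N * w : ℕ) : ZMod p) = ((k * c + p * M : ℕ) : ZMod p) := by rw [h3]
  have h7 : ((N : ℕ) : ZMod p) = 1 := by
    have := (ZMod.natCast_eq_natCast_iff N 1 p).2 hNmod
    simpa using this
  push_cast at h6
  rw [h7, one_mul] at h6
  rw [h6]
  simp

end main

end Cfsg.Agent.H1.RobA

namespace Cfsg.Agent.H1.RobA

open Cfsg.Agent.Lib.Helper4.Rob

/-- **Piece A**, with the exact signature requested in `notes/S4443_helper4.md`. -/
theorem omega_cast' {G : Type*} [Group G] [Finite G] (p : ℕ) [Fact p.Prime] (D : Subgroup G)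
    [D.Normal] (_hD : IsPGroup p D) (S : Sylow p G) (x y : G) (hx : Good p D x)
    (_hy : Good p D y) :
    ((omega (S : Subgroup G) x y / p ^ ad p D : ℕ) : ZMod p) =
      (((Subgroup.centralizer ({x} : Set G)).index / p ^ ad p D : ℕ) : ZMod p) *
        ((cnt p x y : ℕ) : ZMod p) :=
  omega_cast p D S x y hx

end Cfsg.Agent.H1.RobA
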