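import Mathlib
import Cfsg.Agent.H1.QuadThree
import Cfsg.Agent.S2427

set_option autoImplicit false
set_option linter.style.haveILetI false
set_option linter.unusedVariables false
set_option linter.unusedSectionVars false

open scoped commutatorElement Pointwise

namespace Cfsg.Agent.H1

section sl2cent
open Matrix
variable {K : Type*} [Field K]

/-- the two-dimensional cross product -/
def cr2 (x y : Fin 2 → K) : K := x 0 * y 1 - x 1 * y 0

theorem cr2_mulVec (M : Matrix (Fin 2) (Fin 2) K) (x y : Fin 2 → K) :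
    cr2 (M.mulVec x) (M.mulVec y) = M.det * cr2 x y := by
  simp only [cr2, Matrix.mulVec, dotProduct, Fin.sum_univ_two, Matrix.det_fin_two]
  ring

theorem cr2_sub (v x y : Fin 2 → K) : cr2 v (x - y) = cr2 v x - cr2 v y := by
  simp only [cr2, Pi.sub_apply]
  ring

theorem cr2_smul_right (c : K) (v x : Fin 2 → K) : cr2 v (c • x) = c * cr2 v x := by
  simp only [cr2, Pi.smul_apply, smul_eq_mul]
  ring

theorem cr2_smul_left (c : K) (v x : Fin 2 → K) : cr2 (c • v) x = c * cr2 v x := by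
  simp only [cr2, Pi.smul_apply, smul_eq_mul]
  ring

theorem mem_span_of_cr2_eq_zero (v w : Fin 2 → K) (hv : v ≠ 0) (hD : cr2 v w = 0) :
    w ∈ Submodule.span K {v} := by
  unfold cr2 at hD
  rw [Submodule.mem_span_singleton]
  by_cases hv0 : v 0 = 0
  · have hv1 : v 1 ≠ 0 := by
      intro hv1
      apply hv
      ext i
      fin_cases i
      · exact hv0
      · exact hv1
    refine ⟨w 1 / v 1, ?_⟩
    ext i
    fin_cases i
    · simp only [Fin.zero_eta, Pi.smul_apply, smul_eq_mul]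
      rw [hv0, mul_zero]
      rw [hv0, zero_mul, zero_sub, neg_eq_zero] at hD
      exact ((mul_eq_zero.mp hD).resolve_left hv1).symm
    · simp only [Fin.mk_one, Pi.smul_apply, smul_eq_mul]
      field_simp
  · refine ⟨w 0 / v 0, ?_⟩
    ext i
    fin_cases i
    · simp only [Fin.zero_eta, Pi.smul_apply, smul_eq_mul]
      field_simp
    · simp only [Fin.mk_one, Pi.smul_apply, smul_eq_mul]
      field_simp
      linear_combination -hD

/-- an element of `SL₂(K)` commuting with a nontrivial unipotent element `a` has its square fixing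
the fixed vector of `a` -/
theorem sl2_sq_fix_of_commute (a g : Matrix.SpecialLinearGroup (Fin 2) K) (v : Fin 2 → K) (hv : v ≠ 0)
    (hav : a.1.mulVec v = v) (ha1 : a ≠ 1) (hcomm : g * a = a * g) : (g ^ 2).1.mulVec v = v := by
  have ha1' : a.1 ≠ 1 := fun h => ha1 (Subtype.ext h)
  have hcomm' : g.1 * a.1 = a.1 * g.1 := by
    rw [← Matrix.SpecialLinearGroup.coe_mul, ← Matrix.SpecialLinearGroup.coe_mul, hcomm]
  -- `g v = c v`
  have h1 : a.1.mulVec (g.1.mulVec v) = g.1.mulVec v := by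
    rw [Matrix.mulVec_mulVec, ← hcomm', ← Matrix.mulVec_mulVec, hav]
  obtain ⟨c, hc⟩ := Submodule.mem_span_singleton.mp (mat2_fixed_line a.1 ha1' v _ hv hav h1)
  -- `u` not fixed by `a`
  obtain ⟨u, hu⟩ : ∃ u : Fin 2 → K, a.1.mulVec u ≠ u := by
    by_contra hcon
    push Not at hcon
    apply ha1'
    rw [Matrix.ext_iff_mulVec]
    intro w
    rw [hcon w, Matrix.one_mulVec]
  -- `a u - u = t v`
  have h2 : ∀ w : Fin 2 → K, a.1.mulVec w - w ∈ Submodule.span K {v} := by
    intro w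
    apply mem_span_of_cr2_eq_zero v _ hv
    rw [cr2_sub]
    have := cr2_mulVec a.1 v w
    rw [hav, a.2, one_mul] at this
    rw [this, sub_self]
  obtain ⟨t, ht⟩ := Submodule.mem_span_singleton.mp (h2 u)
  have ht0 : t ≠ 0 := by
    intro h
    rw [h, zero_smul] at ht
    exact hu (sub_eq_zero.mp ht.symm)
  -- `c • g u - u = d v`
  have h3 : c • g.1.mulVec u - u ∈ Submodule.span K {v} := by
    apply mem_span_of_cr2_eq_zero v _ hv
    rw [cr2_sub, cr2_smul_right]
    have := cr2_mulVec g.1 v u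
    rw [← hc, g.2, one_mul, cr2_smul_left] at this
    rw [this, sub_self]
  obtain ⟨d, hd⟩ := Submodule.mem_span_singleton.mp h3
  -- apply `a - 1`
  have h4 : a.1.mulVec (c • g.1.mulVec u - u) - (c • g.1.mulVec u - u) = 0 := by
    rw [← hd, Matrix.mulVec_smul, hav, sub_self]
  have h5 : a.1.mulVec (g.1.mulVec u) - g.1.mulVec u = (t * c) • v := by
    rw [Matrix.mulVec_mulVec, ← hcomm', ← Matrix.mulVec_mulVec, ← Matrix.mulVec_sub, ← ht,
      Matrix.mulVec_smul, ← hc, smul_smul]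
  have h6 : (c * (t * c) - t) • v = 0 := by
    rw [sub_smul, ← smul_smul, ← h5, ht, ← h4, Matrix.mulVec_sub, Matrix.mulVec_smul]
    simp only [smul_sub]
    abel
  have hcc : c * c = 1 := by
    rcases smul_eq_zero.mp h6 with h | h
    · have h7 : t * (c * c - 1) = 0 := by linear_combination h
      rcases mul_eq_zero.mp h7 with h8 | h8
      · exact absurd h8 ht0
      · exact sub_eq_zero.mp h8
    · exact absurd h hv
  rw [pow_two, Matrix.SpecialLinearGroup.coe_mul, ← Matrix.mulVec_mulVec, ← hc, Matrix.mulVec_smul, ← hc,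
    smul_smul, hcc, one_smul]

end sl2cent

section sl2act
open Matrix
variable {K : Type*} [Field K] {p : ℕ} [Fact p.Prime] [CharP K p]

/-- a `p'`-element of `SL₂(K)` commuting with a nontrivial element of order `p` has square one -/
theorem sl2_sq_eq_one_of_commute (a g : Matrix.SpecialLinearGroup (Fin 2) K) (ha : a ^ p = 1) (ha1 : a ≠ 1)
    (hcomm : g * a = a * g) (m : ℕ) (hm : m.Coprime p) (hg : g ^ m = 1) : g ^ 2 = 1 := by
  obtain ⟨v, hv, hav⟩ := sl2_exists_fix_of_pow (p := p) a 1 (by rw [pow_one]; exact ha)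
  have h1 := sl2_sq_fix_of_commute a g v hv hav ha1 hcomm
  have h2 : (g ^ 2) ^ p = 1 := sl2_pow_char_of_fix (g ^ 2) v hv h1
  have h3 : (g ^ 2) ^ m = 1 := by rw [← pow_mul, mul_comm, pow_mul, hg, one_pow]
  have h4 : orderOf (g ^ 2) ∣ Nat.gcd m p :=
    Nat.dvd_gcd (orderOf_dvd_of_pow_eq_one h3) (orderOf_dvd_of_pow_eq_one h2)
  rw [hm, Nat.dvd_one] at h4
  exact orderOf_eq_one_iff.mp h4

theorem sl2_unique_involution (hp2 : p ≠ 2) :
    ∀ x y : Matrix.SpecialLinearGroup (Fin 2) K, x ^ 2 = 1 → y ^ 2 = 1 → x ≠ 1 → y ≠ 1 → x = y := by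
  have h2K : (2 : K) ≠ 0 := two_ne_zero_of_char (p := p) hp2
  intro x y hx hy hx1 hy1
  apply Subtype.ext
  rw [(sl2_sq_eq_one h2K x hx).resolve_left hx1, (sl2_sq_eq_one h2K y hy).resolve_left hy1]

theorem sl2_odd_sylow_normal (hp2 : p ≠ 2) (Y : Subgroup (Matrix.SpecialLinearGroup (Fin 2) K)) [Finite Y]
    (hodd : Odd (Nat.card Y)) (U : Sylow p ↥Y) : (U : Subgroup ↥Y).Normal := by
  obtain ⟨f, hf⟩ : ∃ f : Matrix.SpecialLinearGroup (Fin 2) K →* GL (Fin 2) K,
    f = Matrix.SpecialLinearGroup.toGL := ⟨_, rfl⟩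
  have hfinj : Function.Injective f := by
    rw [hf]
    exact Matrix.SpecialLinearGroup.toGL_injective
  obtain ⟨e, he⟩ : ∃ e : ↥Y ≃* ↥(Y.map f), e = Y.equivMapOfInjective f hfinj := ⟨_, rfl⟩
  haveI : Finite ↥(Y.map f) := Finite.of_equiv _ e.toEquiv
  have hcard : Nat.card ↥(Y.map f) = Nat.card ↥Y := (Nat.card_congr e.toEquiv).symm
  have hU' := Cfsg.Agent.Lib.Helper4.GL2Odd.sylow_normal (p := p) hp2 (Y.map f) (by rw [hcard]; exact hodd)
    (U.mapSurjective (f := e.toMonoidHom) e.surjective)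
  have hU'' : ((U : Subgroup ↥Y).map e.toMonoidHom).Normal := hU'
  have h1 : (U : Subgroup ↥Y) = ((U : Subgroup ↥Y).map e.toMonoidHom).comap e.toMonoidHom :=
    (Subgroup.comap_map_eq_self_of_injective e.injective _).symm
  rw [h1]
  exact Subgroup.Normal.comap hU'' _

end sl2act

section abs4
variable {X : Type*} [Group X]

/-- a group with a section of the same (finite) order as the group is isomorphic to it -/
theorem mulEquiv_of_section_card {G Z : Type*} [Group G] [Finite G] [Group Z] (H K' : Subgroup G)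
    [hK : (K'.subgroupOf H).Normal] (e : (↥H ⧸ K'.subgroupOf H) ≃* Z) (hcard : Nat.card G = Nat.card Z) :
    Nonempty (G ≃* Z) := by
  obtain ⟨ψ, hψ⟩ : ∃ ψ : ↥H →* Z, ψ = e.toMonoidHom.comp (QuotientGroup.mk' _) := ⟨_, rfl⟩
  have hψs : Function.Surjective ψ := by
    rw [hψ]
    exact e.surjective.comp (QuotientGroup.mk'_surjective _)
  haveI : Finite Z := Finite.of_surjective ψ hψs
  have h1 : Nat.card Z ≤ Nat.card ↥H := Nat.card_le_card_of_surjective ψ hψs
  have h2 : Nat.card ↥H ≤ Nat.card G := Subgroup.card_le_card_group H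
  have hH : H = ⊤ := Subgroup.eq_top_of_card_eq H (by omega)
  have hψb : Function.Bijective ψ := by
    rw [Nat.bijective_iff_surjective_and_card]
    exact ⟨hψs, by omega⟩
  exact ⟨(Subgroup.topEquiv.symm.trans (MulEquiv.subgroupCongr hH.symm)).trans (MulEquiv.ofBijective ψ hψb)⟩

/-- an element of odd prime order normalizing a generalized quaternion group either centralizes it or
there is a section `SL₂(3)` -/
theorem comm_or_section_of_quat [Finite X] {p : ℕ} [Fact p.Prime] (hp2 : p ≠ 2)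
    (S : Subgroup X) (hS : IsPGroup 2 S) (n : ℕ) (e : ↥S ≃* QuaternionGroup (2 ^ n)) (A : X) (hA : A ^ p = 1)
    (hAS : A ∈ Subgroup.normalizer (S : Set X)) :
    (∀ s ∈ S, s * A = A * s) ∨ ∃ (H K' : Subgroup ↥(S ⊔ Subgroup.zpowers A)) (hK : (K'.subgroupOf H).Normal),
      Nonempty ((↥H ⧸ K'.subgroupOf H) ≃* Matrix.SpecialLinearGroup (Fin 2) (ZMod 3)) := by
  haveI : Fact (Nat.Prime 2) := ⟨Nat.prime_two⟩
  have hp : p.Prime := Fact.out
  have hCS : Subgroup.zpowers A ≤ Subgroup.normalizer (S : Set X) := by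
    rw [Subgroup.zpowers_le]; exact hAS
  have hCcard := card_zpowers_dvd_prime A hA
  obtain ⟨k, hk⟩ := IsPGroup.iff_card.mp hS
  have hCodd : Odd (Nat.card ↥(Subgroup.zpowers A)) := Odd.of_dvd_nat (hp.odd_of_ne_two hp2) hCcard
  have hcop : (Nat.card S).Coprime (Nat.card ↥(Subgroup.zpowers A)) := by
    rw [hk]
    apply Nat.Coprime.pow_left
    exact (Nat.coprime_two_left).mpr hCodd
  have hcard := card_sup_of_le_normalizer_coprime S (Subgroup.zpowers A) hCS hcop
  obtain ⟨Y, hY⟩ : ∃ Y : Subgroup X, Y = S ⊔ Subgroup.zpowers A := ⟨_, rfl⟩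
  rw [← hY] at hcard ⊢
  have hAY : A ∈ Y := by rw [hY]; exact Subgroup.mem_sup_right (Subgroup.mem_zpowers A)
  have hSY : S ≤ Y := by rw [hY]; exact le_sup_left
  have hSp' : IsPGroup 2 ↥(S.subgroupOf Y) := hS.comap_subtype
  have hcardS' : Nat.card ↥(S.subgroupOf Y) = Nat.card S :=
    Nat.card_congr (Subgroup.subgroupOfEquivOfLe hSY).toEquiv
  have hidx : (S.subgroupOf Y).index = Nat.card ↥(Subgroup.zpowers A) := by
    have h1 := (S.subgroupOf Y).card_mul_index
    rw [hcardS', hcard] at h1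
    exact Nat.eq_of_mul_eq_mul_left Nat.card_pos h1
  have hidx' : ¬ 2 ∣ (S.subgroupOf Y).index := by
    rw [hidx]
    exact fun h => (Nat.not_even_iff_odd.mpr hCodd) (even_iff_two_dvd.mpr h)
  obtain ⟨T, hT⟩ : ∃ T : Sylow 2 ↥Y, (T : Subgroup ↥Y) = S.subgroupOf Y :=
    ⟨hSp'.toSylow hidx', hSp'.toSylow_coe hidx'⟩
  have hTe : Nonempty (↥(T : Subgroup ↥Y) ≃* QuaternionGroup (2 ^ n)) := by
    rw [hT]
    exact ⟨(Subgroup.subgroupOfEquivOfLe hSY).trans e⟩
  rcases Cfsg.Agent.Lead.QSyl.main T n hTe with ⟨P, N', hN'n, hcompl⟩ | hsec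
  · left
    haveI := hN'n
    have hcardP : Nat.card ↥(P : Subgroup ↥Y) = Nat.card S := by
      have h1 : Nat.card ↥(P : Subgroup ↥Y) = Nat.card ↥(T : Subgroup ↥Y) := by
        rw [Sylow.card_eq_multiplicity P, Sylow.card_eq_multiplicity T]
      rw [h1, hT, hcardS']
    have hcardN' : Nat.card ↥N' = Nat.card ↥(Subgroup.zpowers A) := by
      have h1 := hcompl.card_mul_card
      rw [hcardP, hcard, mul_comm] at h1
      exact Nat.eq_of_mul_eq_mul_left Nat.card_pos h1
    have hidxN' : N'.index = 2 ^ k := by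
      have h1 := N'.card_mul_index
      rw [hcardN', hcard, hk, mul_comm] at h1
      exact Nat.eq_of_mul_eq_mul_right Nat.card_pos h1
    apply commute_of_normal_disjoint (N'.map Y.subtype) S A
    · refine ⟨⟨A, hAY⟩, ?_, rfl⟩
      rw [SetLike.mem_coe, ← QuotientGroup.eq_one_iff]
      have h1 : (QuotientGroup.mk (⟨A, hAY⟩ : ↥Y) : ↥Y ⧸ N') ^ (2 ^ k) = 1 := by
        rw [← hidxN', Subgroup.index, ]
        exact pow_card_eq_one'
      have h2 : (QuotientGroup.mk (⟨A, hAY⟩ : ↥Y) : ↥Y ⧸ N') ^ p = 1 := by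
        rw [← QuotientGroup.mk_pow]
        have : (⟨A, hAY⟩ : ↥Y) ^ p = 1 := by
          apply Subtype.ext
          rw [Subgroup.coe_pow, Subgroup.coe_one]
          exact hA
        rw [this]
        rfl
      have h3 : orderOf (QuotientGroup.mk (⟨A, hAY⟩ : ↥Y) : ↥Y ⧸ N') ∣ Nat.gcd (2 ^ k) p :=
        Nat.dvd_gcd (orderOf_dvd_of_pow_eq_one h1) (orderOf_dvd_of_pow_eq_one h2)
      have h4 : Nat.gcd (2 ^ k) p = 1 := by
        apply Nat.Coprime.pow_left
        exact (Nat.coprime_primes Nat.prime_two hp).mpr (Ne.symm hp2)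
      rw [h4, Nat.dvd_one] at h3
      exact orderOf_eq_one_iff.mp h3
    · exact hSY.trans (le_normalizer_map_subtype_of_normal' Y N')
    · exact hAS
    · apply (Subgroup.disjoint_of_coprime_natCard _).eq_bot
      rw [Nat.card_congr (Subgroup.equivMapOfInjective N' _ Y.subtype_injective).toEquiv.symm, hcardN']
      exact hcop.symm
  · right
    exact hsec

end abs4

end Cfsg.Agent.H1
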