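import Mathlib
import Cfsg.Prelude.Def_Characters
import Cfsg.Prelude.Def_Blocks
import Cfsg.Agent.Lib.helper3.Irr9
import Cfsg.Agent.Lib.helper3.Irr11
import Cfsg.Agent.Lib.helper3.Irr13
import Cfsg.Agent.Lib.helper3.Clifford
import Cfsg.Agent.Lib.Helper4.FS

/-!
# S4872: assembly (strongly real characters over a real-conjugate character of 2-defect zero)
-/

set_option autoImplicit false
set_option linter.style.haveILetI false
set_option linter.unusedSectionVars false
set_option linter.unusedVariables false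
set_option maxHeartbeats 1000000

namespace Cfsg.Agent.H1.SReal

open Cfsg Cfsg.Agent.Lib.helper3.Irr Cfsg.Agent.Lib.helper3.CharBasic
open Cfsg.Agent.Lib.helper3.IndFun Cfsg.Agent.Lib.Helper4.FS
open scoped ComplexConjugate

universe u

/-- P1: a character of Frobenius–Schur indicator `-1` has an even-dimensional space of fixed
vectors for every subgroup -/
def P1Stmt : Prop :=
  ∀ (G : Type u) [Group G] [Fintype G] (χ : IrrCharacter G), fsInd (χ : G → ℂ) = -1 →
    ∀ (S : Subgroup G) [Fintype S], ∃ a : ℕ, Even a ∧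
      classInner (fun s : S => (χ : G → ℂ) s) (fun _ => (1 : ℂ)) = a

/-- P2: over a normal subgroup of `2`-power index odd ramification is trivial -/
def P2Stmt : Prop :=
  ∀ (G : Type u) [Group G] [Fintype G] (N : Subgroup G) [N.Normal] [Fintype N] (a : ℕ),
    N.index = 2 ^ a → ∀ (χ : IrrCharacter G) (φ : IrrCharacter N) (e : ℕ),
    classInner (fun n : N => (χ : G → ℂ) n) (φ : N → ℂ) = e → Odd e → e = 1

/-- P3: the counting identity -/
def P3Stmt : Prop :=
  ∀ (G : Type u) [Group G] [Fintype G] (N : Subgroup G) [N.Normal] [Fintype N] (S : Sylow 2 G)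
    [Fintype (S : Subgroup G)] (a : ℕ), N.index = 2 ^ a → ∀ (φ : IrrCharacter N),
    2 ^ (Nat.card N).factorization 2 ∣ charDegree (φ : N → ℂ) →
    ∃ u : ℕ, Odd u ∧ ∑ χ : IrrCharacter G,
      classInner (fun s : (S : Subgroup G) => (χ : G → ℂ) s) (fun _ => (1 : ℂ))
        * classInner (fun n : N => (χ : G → ℂ) n) (φ : N → ℂ) = u

/-- complex conjugation on irreducible characters -/
noncomputable def cj {G : Type u} [Group G] [Finite G] (χ : IrrCharacter G) : IrrCharacter G :=
  ⟨fun g => conj ((χ : G → ℂ) g), isIrrCharacter_conj χ.2⟩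

theorem main (h1 : P1Stmt.{u}) (h2 : P2Stmt.{u}) (h3 : P3Stmt.{u})
    {G : Type u} [Group G] [Finite G] (N : Subgroup G) [hN : N.Normal]
    (hq : IsPGroup 2 (G ⧸ N)) (φ : IrrCharacter ↥N)
    (hdef : 2 ^ (Nat.card ↥N).factorization 2 ∣ charDegree (φ : ↥N → ℂ))
    (hconj : ∃ g : G, ∀ n n' : ↥N, (n' : G) = g * (n : G) * g⁻¹ →
      (φ : ↥N → ℂ) n' = (starRingEnd ℂ) ((φ : ↥N → ℂ) n)) :
    ∃ χ : IrrCharacter G, (Nat.card G : ℂ)⁻¹ * ∑ᶠ g : G, (χ : G → ℂ) (g * g) = 1 ∧
      (Nat.card ↥N : ℂ)⁻¹ * ∑ᶠ n : ↥N, (χ : G → ℂ) n * (starRingEnd ℂ) ((φ : ↥N → ℂ) n) = 1 := by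
  classical
  letI : Fintype G := Fintype.ofFinite G
  letI : Fintype N := Fintype.ofFinite _
  let S : Sylow 2 G := default
  letI : Fintype (S : Subgroup G) := Fintype.ofFinite _
  haveI : Fact (Nat.Prime 2) := ⟨Nat.prime_two⟩
  obtain ⟨a, ha⟩ := hq.exists_card_eq
  have hidx : N.index = 2 ^ a := by rw [Subgroup.index_eq_card]; exact ha
  obtain ⟨u, hu, hsum⟩ := h3 G N S a hidx φ hdef
  -- multiplicities are natural numbers
  have hA : ∀ χ : IrrCharacter G, ∃ m : ℕ,
      classInner (fun s : (S : Subgroup G) => (χ : G → ℂ) s) (fun _ => (1 : ℂ)) = m := by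
    intro χ
    have hc : IsCharacter (S : Subgroup G) (fun s : (S : Subgroup G) => (χ : G → ℂ) s) :=
      isCharacter_restrict (isCharacter_of_isIrrCharacter χ.2) _
    exact exists_nat_classInner_of_isCharacter hc ⟨_, isIrrCharacter_one⟩
  have hE : ∀ χ : IrrCharacter G, ∃ m : ℕ,
      classInner (fun n : N => (χ : G → ℂ) n) (φ : N → ℂ) = m := by
    intro χ
    have hc : IsCharacter N (fun n : N => (χ : G → ℂ) n) :=
      isCharacter_restrict (isCharacter_of_isIrrCharacter χ.2) _
    exact exists_nat_classInner_of_isCharacter hc φ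
  choose A hA using hA
  choose E hE using hE
  have hsumN : ∑ χ : IrrCharacter G, A χ * E χ = u := by
    have : ((∑ χ : IrrCharacter G, A χ * E χ : ℕ) : ℂ) = (u : ℂ) := by
      rw [← hsum]
      push_cast
      apply Finset.sum_congr rfl
      intro χ _
      rw [hA χ, hE χ]
    exact_mod_cast this
  -- invariance under complex conjugation
  have hAcj : ∀ χ : IrrCharacter G, A (cj χ) = A χ := by
    intro χ
    have h := classInner_conj_conj (fun s : (S : Subgroup G) => (χ : G → ℂ) s) (fun _ => (1 : ℂ))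
    simp only [map_one] at h
    have h' : classInner (fun s : (S : Subgroup G) => ((cj χ : IrrCharacter G) : G → ℂ) s)
        (fun _ => (1 : ℂ)) = conj ((A χ : ℂ)) := by
      rw [← hA χ, ← h]
      rfl
    rw [hA (cj χ), Complex.conj_natCast] at h'
    exact_mod_cast h'
  obtain ⟨g, hg⟩ := hconj
  have hφg : (fun n : N => conj ((φ : N → ℂ) n)) = conjFun N (φ : N → ℂ) g := by
    funext n
    unfold conjFun
    exact (hg n ⟨g * n * g⁻¹, hN.conj_mem n n.2 g⟩ rfl).symm
  have hEcj : ∀ χ : IrrCharacter G, E (cj χ) = E χ := by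
    intro χ
    have h := classInner_conj_conj (fun n : N => (χ : G → ℂ) n)
      (fun n : N => conj ((φ : N → ℂ) n))
    have hcf := isClassFunction_of_isCharacter (isCharacter_of_isIrrCharacter χ.2)
    rw [hφg, classInner_restrict_conjFun N (χ : G → ℂ) hcf (φ : N → ℂ) g, hE χ,
      Complex.conj_natCast] at h
    have h' : classInner (fun n : N => ((cj χ : IrrCharacter G) : G → ℂ) n) (φ : N → ℂ)
        = (E χ : ℂ) := by
      rw [← h]
      congr 1
      funext n
      simp
    rw [hE (cj χ)] at h'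
    exact_mod_cast h'
  have hcjcj : ∀ χ : IrrCharacter G, cj (cj χ) = χ := by
    intro χ
    apply Subtype.ext
    funext x
    simp [cj]
  -- a real character with odd product
  have hex : ∃ χ : IrrCharacter G, cj χ = χ ∧ Odd (A χ * E χ) := by
    by_contra hcon
    push Not at hcon
    have hz : ∑ χ : IrrCharacter G, ((A χ * E χ : ℕ) : ZMod 2) = 0 := by
      apply Finset.sum_ninvolution cj
      · intro χ
        rw [hAcj, hEcj]
        exact CharTwo.add_self_eq_zero _
      · intro χ hχ hfix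
        apply hχ
        have := hcon χ hfix
        rw [Nat.not_odd_iff_even] at this
        exact (ZMod.natCast_eq_zero_iff_even).2 this
      · intro χ; exact Finset.mem_univ _
      · exact hcjcj
    have hz' : ((∑ χ : IrrCharacter G, A χ * E χ : ℕ) : ZMod 2) = 0 := by
      rw [← hz]; push_cast; rfl
    rw [hsumN] at hz'
    have := (ZMod.natCast_eq_zero_iff_even).1 hz'
    exact (Nat.not_even_iff_odd.2 hu) this
  obtain ⟨χ, hχfix, hodd⟩ := hex
  have hAodd : Odd (A χ) := (Nat.odd_mul.1 hodd).1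
  have hEodd : Odd (E χ) := (Nat.odd_mul.1 hodd).2
  have hE1 : E χ = 1 := h2 G N a hidx χ φ (E χ) (hE χ) hEodd
  have hreal : ∀ x, conj ((χ : G → ℂ) x) = (χ : G → ℂ) x := by
    intro x
    have := congrArg (fun ψ : IrrCharacter G => (ψ : G → ℂ) x) hχfix
    exact this
  have hν : fsInd (χ : G → ℂ) = 1 := by
    rcases fsInd_eq_or_of_real χ.2 hreal with h | h
    · exact h
    · exfalso
      obtain ⟨a', ha'even, ha'⟩ := h1 G χ h (S : Subgroup G)
      rw [hA χ] at ha'
      have : A χ = a' := by exact_mod_cast ha'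
      rw [this] at hAodd
      exact (Nat.not_even_iff_odd.2 hAodd) ha'even
  refine ⟨χ, ?_, ?_⟩
  · rw [finsum_eq_sum_of_fintype]
    exact hν
  · rw [finsum_eq_sum_of_fintype]
    have := hE χ
    rw [hE1, classInner_apply] at this
    simpa using this

end Cfsg.Agent.H1.SReal
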