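import Mathlib
import Cfsg.Agent.Lib.Helper4.FrobDiv
import Cfsg.Agent.H2.UniqueOrderP

namespace Cfsg.Agent.H1.SOT

open Cfsg.Agent.Lib.Helper4.FrobDiv

variable {G : Type*} [Group G] [Finite G]

/-- number of elements of order `m` -/
noncomputable abbrev cnt (G : Type*) [Group G] (m : ℕ) : ℕ := Nat.card {g : G // orderOf g = m}

/-- number of solutions of `x ^ d = 1` -/
noncomputable abbrev tor (G : Type*) [Group G] (d : ℕ) : ℕ := Nat.card {g : G // g ^ d = 1}

theorem tor_eq_sum (d : ℕ) (hd : d ≠ 0) :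
    tor G d = ∑ m ∈ d.divisors, cnt G m := by
  classical
  haveI := Fintype.ofFinite G
  unfold tor cnt
  have key := sum_card_orderOf_eq_card_pow_eq_one (G := G) hd
  rw [Nat.card_eq_fintype_card, Fintype.card_subtype]
  have h2 : ∀ m, Nat.card {g : G // orderOf g = m} = (Finset.univ.filter (fun x : G => orderOf x = m)).card := by
    intro m
    rw [Nat.card_eq_fintype_card, Fintype.card_subtype]
  simp_rw [h2]
  convert key.symm using 2

theorem divisors_eq_of (d : ℕ) (hd : d ≠ 0) (S : Finset ℕ) (hS : ∀ m, m ∈ S ↔ m ∣ d) :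
    d.divisors = S := by
  ext m
  simp [hS, hd]

theorem dvd_tor (d : ℕ) (hd : d ∣ Nat.card G) : d ∣ tor G d :=
  frobenius_dvd d hd

omit [Finite G] in
theorem cnt_one : cnt G 1 = 1 := by
  unfold cnt
  rw [Nat.card_eq_one_iff_unique]
  refine ⟨⟨?_⟩, ⟨⟨1, orderOf_one⟩⟩⟩
  intro a b
  apply Subtype.ext
  rw [orderOf_eq_one_iff.mp a.2, orderOf_eq_one_iff.mp b.2]

omit [Finite G] in
theorem cnt_eq_zero (m : ℕ) (h : ¬ ∃ g : G, orderOf g = m) : cnt G m = 0 := by
  unfold cnt
  haveI : IsEmpty {g : G // orderOf g = m} := ⟨fun g => h ⟨g.1, g.2⟩⟩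
  exact Nat.card_of_isEmpty

theorem cnt_pos (g : G) : 0 < cnt G (orderOf g) := by
  unfold cnt
  haveI : Nonempty {x : G // orderOf x = orderOf g} := ⟨⟨g, rfl⟩⟩
  exact Nat.card_pos

theorem two_le_cnt (g : G) (hg : 3 ≤ orderOf g) : 2 ≤ cnt G (orderOf g) := by
  unfold cnt
  have hne : g ≠ g⁻¹ := by
    intro h
    have h2 : g ^ 2 = 1 := by
      rw [pow_two]
      nth_rewrite 2 [h]
      exact mul_inv_cancel g
    have := orderOf_le_of_pow_eq_one (by norm_num) h2
    omega
  haveI : Nontrivial {x : G // orderOf x = orderOf g} :=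
    ⟨⟨⟨g, rfl⟩, ⟨g⁻¹, orderOf_inv g⟩, fun h => hne (congrArg Subtype.val h)⟩⟩
  exact Finite.one_lt_card

theorem tor_prime (p : ℕ) (hp : p.Prime) : tor G p = 1 + cnt G p := by
  rw [tor_eq_sum p hp.ne_zero, hp.divisors, Finset.sum_pair hp.one_lt.ne, cnt_one]

theorem tor_prime_sq (p : ℕ) (hp : p.Prime) : tor G (p ^ 2) = 1 + cnt G p + cnt G (p ^ 2) := by
  have hS : (p ^ 2).divisors = {1, p, p ^ 2} := by
    apply divisors_eq_of _ (pow_ne_zero 2 hp.ne_zero)
    intro m
    simp only [Finset.mem_insert, Finset.mem_singleton]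
    rw [Nat.dvd_prime_pow hp]
    constructor
    · rintro (h | h | h)
      · exact ⟨0, by norm_num, by simp [h]⟩
      · exact ⟨1, by norm_num, by simp [h]⟩
      · exact ⟨2, le_refl 2, h⟩
    · rintro ⟨k, hk, rfl⟩
      interval_cases k <;> simp
  have h1 : (1 : ℕ) ≠ p := hp.one_lt.ne
  have h2 : (1 : ℕ) ≠ p ^ 2 := by
    have := hp.one_lt
    nlinarith
  have h3 : p ≠ p ^ 2 := by
    have := hp.one_lt
    nlinarith
  rw [tor_eq_sum _ (pow_ne_zero 2 hp.ne_zero), hS, Finset.sum_insert (by simp [h1, h2]),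
    Finset.sum_pair h3, cnt_one]
  ring

theorem dvd_mul_primes {p q m : ℕ} (hp : p.Prime) (hq : q.Prime) :
    m ∣ p * q ↔ m = 1 ∨ m = p ∨ m = q ∨ m = p * q := by
  constructor
  · intro h
    by_cases hpm : p ∣ m
    · obtain ⟨k, rfl⟩ := hpm
      have hk : k ∣ q := Nat.dvd_of_mul_dvd_mul_left hp.pos h
      rcases (Nat.dvd_prime hq).mp hk with rfl | rfl
      · right; left; simp
      · right; right; right; rfl
    · have hco : Nat.Coprime m p := (Nat.Prime.coprime_iff_not_dvd hp).mpr hpm |>.symm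
      have hk : m ∣ q := hco.dvd_of_dvd_mul_left h
      rcases (Nat.dvd_prime hq).mp hk with rfl | rfl
      · left; rfl
      · right; right; left; rfl
  · rintro (rfl | rfl | rfl | rfl)
    · exact one_dvd _
    · exact dvd_mul_right _ _
    · exact dvd_mul_left _ _
    · exact dvd_refl _

theorem tor_mul_primes (p q : ℕ) (hp : p.Prime) (hq : q.Prime) (hpq : p ≠ q) :
    tor G (p * q) = 1 + cnt G p + cnt G q + cnt G (p * q) := by
  have hne : p * q ≠ 0 := mul_ne_zero hp.ne_zero hq.ne_zero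
  have hS : (p * q).divisors = {1, p, q, p * q} := by
    apply divisors_eq_of _ hne
    intro m
    simp only [Finset.mem_insert, Finset.mem_singleton]
    exact (dvd_mul_primes hp hq).symm
  have hp1 := hp.one_lt
  have hq1 := hq.one_lt
  have h1 : (1 : ℕ) ≠ p := hp1.ne
  have h2 : (1 : ℕ) ≠ q := hq1.ne
  have h3 : (1 : ℕ) ≠ p * q := by nlinarith
  have h4 : p ≠ p * q := by nlinarith
  have h5 : q ≠ p * q := by nlinarith
  rw [tor_eq_sum _ hne, hS, Finset.sum_insert (by simp [h1, h2, h3]),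
    Finset.sum_insert (by simp [hpq, h4]), Finset.sum_pair h5, cnt_one]
  ring

theorem tor_four : tor G 4 = 1 + cnt G 2 + cnt G 4 := by
  have h := tor_prime_sq (G := G) 2 Nat.prime_two
  norm_num at h
  exact h

theorem tor_eight : tor G 8 = 1 + cnt G 2 + cnt G 4 + cnt G 8 := by
  have hS : (8 : ℕ).divisors = {1, 2, 4, 8} := by decide
  rw [tor_eq_sum _ (by norm_num), hS, Finset.sum_insert (by decide), Finset.sum_insert (by decide),
    Finset.sum_pair (by decide), cnt_one]
  ring

theorem dvd_four_mul_prime {p m : ℕ} (hp : p.Prime) (hp2 : p ≠ 2) :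
    m ∣ 4 * p ↔ m = 1 ∨ m = 2 ∨ m = 4 ∨ m = p ∨ m = 2 * p ∨ m = 4 * p := by
  constructor
  · intro h
    have h4 : ∀ k : ℕ, k ∣ 4 → k = 1 ∨ k = 2 ∨ k = 4 := by
      intro k hk
      have hle := Nat.le_of_dvd (by norm_num) hk
      interval_cases k <;> simp_all
    by_cases hpm : p ∣ m
    · obtain ⟨k, rfl⟩ := hpm
      have hk : k ∣ 4 := by
        have : p * k ∣ p * 4 := by rwa [mul_comm p 4]
        exact Nat.dvd_of_mul_dvd_mul_left hp.pos this
      rcases h4 k hk with rfl | rfl | rfl
      · right; right; right; left; simp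
      · right; right; right; right; left; ring
      · right; right; right; right; right; ring
    · have hco : Nat.Coprime m p := (Nat.Prime.coprime_iff_not_dvd hp).mpr hpm |>.symm
      have hk : m ∣ 4 := hco.dvd_of_dvd_mul_right h
      rcases h4 m hk with rfl | rfl | rfl
      · left; rfl
      · right; left; rfl
      · right; right; left; rfl
  · rintro (rfl | rfl | rfl | rfl | rfl | rfl)
    · exact one_dvd _
    · exact Dvd.dvd.mul_right (by norm_num) _
    · exact dvd_mul_right _ _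
    · exact dvd_mul_left _ _
    · exact Nat.mul_dvd_mul_right (by norm_num) _
    · exact dvd_refl _

theorem tor_four_mul (p : ℕ) (hp : p.Prime) (hp2 : p ≠ 2) :
    tor G (4 * p) = 1 + cnt G 2 + cnt G 4 + cnt G p + cnt G (2 * p) + cnt G (4 * p) := by
  have hne : 4 * p ≠ 0 := mul_ne_zero (by norm_num) hp.ne_zero
  have hS : (4 * p).divisors = {1, 2, 4, p, 2 * p, 4 * p} := by
    apply divisors_eq_of _ hne
    intro m
    simp only [Finset.mem_insert, Finset.mem_singleton]
    exact (dvd_four_mul_prime hp hp2).symm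
  have hp3 : 3 ≤ p := by
    have := hp.two_le
    omega
  have hp4 : p ≠ 4 := by
    rintro rfl
    exact absurd hp (by norm_num)
  rw [tor_eq_sum _ hne, hS, Finset.sum_insert (by simp; omega),
    Finset.sum_insert (by simp; omega), Finset.sum_insert (by simp; omega),
    Finset.sum_insert (by simp; omega), Finset.sum_pair (by omega), cnt_one]
  ring

/-- `p ∣ |G|` prime implies `p ∣ 1 + cnt p`. -/
theorem prime_dvd_succ_cnt (p : ℕ) (hp : p.Prime) (hd : p ∣ Nat.card G) : p ∣ 1 + cnt G p := by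
  rw [← tor_prime p hp]
  exact dvd_tor p hd

/-- key two-prime lemma -/
theorem two_primes {n p q : ℕ} (hp : p.Prime) (hq : q.Prime) (hpq : p ≠ q)
    (hpd : p ∣ Nat.card G) (hqd : q ∣ Nat.card G) (hcp : cnt G p = n) (hcq : cnt G q = n)
    (hc : cnt G (p * q) = n ∨ cnt G (p * q) = 0) : p = 2 := by
  have hco : Nat.Coprime p q := (Nat.coprime_primes hp hq).mpr hpq
  have hd : p * q ∣ Nat.card G := hco.mul_dvd_of_dvd_of_dvd hpd hqd
  have h1 := dvd_tor (G := G) _ hd
  rw [tor_mul_primes p q hp hq hpq, hcp, hcq] at h1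
  have h2 : p ∣ 1 + n := hcp ▸ prime_dvd_succ_cnt p hp hpd
  have h3 : p ∣ 1 + n + n + cnt G (p * q) := (dvd_mul_right p q).trans h1
  rcases hc with hc | hc
  · rw [hc] at h3
    have h4 : p ∣ (1 + n + n + n) + 2 := by
      have : (1 + n + n + n) + 2 = 3 * (1 + n) := by ring
      rw [this]
      exact Dvd.dvd.mul_left h2 3
    have h5 : p ∣ 2 := (Nat.dvd_add_right h3).mp h4
    exact (Nat.prime_dvd_prime_iff_eq hp Nat.prime_two).mp h5
  · rw [hc] at h3
    have h4 : p ∣ (1 + n + n + 0) + 1 := by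
      have : (1 + n + n + 0) + 1 = 2 * (1 + n) := by ring
      rw [this]
      exact Dvd.dvd.mul_left h2 2
    have h5 : p ∣ 1 := (Nat.dvd_add_right h3).mp h4
    exact absurd (Nat.dvd_one.mp h5) hp.one_lt.ne'

/-- no elements of order `p^2` -/
theorem no_prime_sq {n p : ℕ} (hp : p.Prime) (hcp : cnt G p = n) (hc : cnt G (p ^ 2) = n)
    (hd : p ^ 2 ∣ Nat.card G) : False := by
  have hpd : p ∣ Nat.card G := (dvd_pow_self p (by norm_num)).trans hd
  have h1 := dvd_tor (G := G) _ hd
  rw [tor_prime_sq p hp, hcp, hc] at h1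
  have h2 : p ∣ 1 + n := hcp ▸ prime_dvd_succ_cnt p hp hpd
  have h3 : p ∣ 1 + n + n := (dvd_pow_self p (by norm_num)).trans h1
  have h4 : p ∣ (1 + n + n) + 1 := by
    have : (1 + n + n) + 1 = 2 * (1 + n) := by ring
    rw [this]
    exact Dvd.dvd.mul_left h2 2
  have h5 : p ∣ 1 := (Nat.dvd_add_right h3).mp h4
  exact absurd (Nat.dvd_one.mp h5) hp.one_lt.ne'

omit [Finite G] in
/-- from order `p^j`, `j ≥ i`, get an element of order `p^i`. -/
theorem exists_orderOf_pow {p : ℕ} (hp : p.Prime) (g : G) (j i : ℕ) (hij : i ≤ j)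
    (hg : orderOf g = p ^ j) : orderOf (g ^ (p ^ (j - i))) = p ^ i := by
  rw [orderOf_pow' g (pow_ne_zero _ hp.ne_zero), hg]
  have h1 : Nat.gcd (p ^ j) (p ^ (j - i)) = p ^ (j - i) :=
    Nat.gcd_eq_right (pow_dvd_pow p (Nat.sub_le j i))
  rw [h1, Nat.pow_div (Nat.sub_le j i) hp.pos]
  congr 1
  omega

omit [Finite G] in
theorem mix (n : ℕ) (hall : ∀ g : G, 3 ≤ orderOf g → cnt G (orderOf g) = n) (m : ℕ) (hm : 3 ≤ m) :
    cnt G m = n ∨ cnt G m = 0 := by
  by_cases h : ∃ g : G, orderOf g = m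
  · obtain ⟨g, rfl⟩ := h
    exact Or.inl (hall g hm)
  · exact Or.inr (cnt_eq_zero m h)

theorem caseA (n : ℕ) (hn1 : n ≠ 1) [Nontrivial G]
    (hall : ∀ g : G, g ≠ 1 → cnt G (orderOf g) = n) :
    ∃ p : ℕ, p.Prime ∧ IsPGroup p G ∧ 3 ≤ Nat.card G ∧ Monoid.exponent G = p := by
  have hcard : Nat.card G ≠ 1 := (Finite.one_lt_card (α := G)).ne'
  obtain ⟨p, hp, hpd⟩ := Nat.exists_prime_and_dvd hcard
  have hprime_cnt : ∀ q : ℕ, q.Prime → q ∣ Nat.card G → cnt G q = n := by
    intro q hq hqd
    haveI : Fact q.Prime := ⟨hq⟩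
    obtain ⟨x, hx⟩ := exists_prime_orderOf_dvd_card' q hqd
    have hx1 : x ≠ 1 := by
      rintro rfl
      rw [orderOf_one] at hx
      exact hq.one_lt.ne hx
    have := hall x hx1
    rwa [hx] at this
  have hmix : ∀ m : ℕ, m ≠ 1 → (cnt G m = n ∨ cnt G m = 0) := by
    intro m hm
    by_cases h : ∃ g : G, orderOf g = m
    · obtain ⟨g, rfl⟩ := h
      refine Or.inl (hall g ?_)
      rintro rfl
      exact hm orderOf_one
    · exact Or.inr (cnt_eq_zero m h)
  have huniq : ∀ q : ℕ, q.Prime → q ∣ Nat.card G → q = p := by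
    intro q hq hqd
    by_contra hne
    have hpq1 : p * q ≠ 1 := by
      have := hp.one_lt
      have := hq.one_lt
      nlinarith
    have h1 : p = 2 := two_primes hp hq (Ne.symm hne) hpd hqd (hprime_cnt p hp hpd)
      (hprime_cnt q hq hqd) (hmix _ hpq1)
    have h2 : q = 2 := two_primes hq hp hne hqd hpd (hprime_cnt q hq hqd)
      (hprime_cnt p hp hpd) (by rw [mul_comm]; exact hmix _ hpq1)
    exact hne (h2.trans h1.symm)
  have hpow : Nat.card G = p ^ (Nat.card G).primeFactorsList.length :=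
    Nat.eq_prime_pow_of_unique_prime_dvd Nat.card_pos.ne' (fun {d} hd hdd => huniq d hd hdd)
  haveI : Fact p.Prime := ⟨hp⟩
  have hG : IsPGroup p G := IsPGroup.of_card hpow
  have hord : ∀ g : G, g ≠ 1 → orderOf g = p := by
    intro g hg
    have hdvd : orderOf g ∣ p ^ (Nat.card G).primeFactorsList.length := hpow ▸ orderOf_dvd_natCard g
    obtain ⟨j, -, hj⟩ := (Nat.dvd_prime_pow hp).mp hdvd
    have hj0 : j ≠ 0 := by
      rintro rfl
      rw [pow_zero, orderOf_eq_one_iff] at hj
      exact hg hj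
    by_cases hj2 : 2 ≤ j
    · exfalso
      have hh := exists_orderOf_pow hp g j 2 hj2 hj
      set h := g ^ (p ^ (j - 2)) with hh_def
      have hh1 : h ≠ 1 := by
        intro h1
        rw [h1, orderOf_one] at hh
        have := hp.one_lt
        nlinarith
      have hc2 : cnt G (p ^ 2) = n := by
        have := hall h hh1
        rwa [hh] at this
      have hd2 : p ^ 2 ∣ Nat.card G := hh ▸ orderOf_dvd_natCard h
      exact no_prime_sq hp (hprime_cnt p hp hpd) hc2 hd2
    · have : j = 1 := by omega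
      rw [hj, this, pow_one]
  refine ⟨p, hp, hG, ?_, (Monoid.exponent_eq_prime_iff hp).mpr hord⟩
  -- card ≥ 3
  have hn2 : 2 ≤ cnt G p := by
    have h1 := hprime_cnt p hp hpd
    obtain ⟨x, hx⟩ := exists_prime_orderOf_dvd_card' p hpd
    have h2 := cnt_pos x
    rw [hx, h1] at h2
    rw [h1]
    omega
  haveI : Nontrivial {g : G // orderOf g = p} := Finite.one_lt_card_iff_nontrivial.mp hn2
  obtain ⟨a, b, hab⟩ := exists_pair_ne {g : G // orderOf g = p}
  classical
  haveI := Fintype.ofFinite G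
  have ha1 : (a : G) ≠ 1 := by
    intro h
    have := a.2
    rw [h, orderOf_one] at this
    exact hp.one_lt.ne this
  have hb1 : (b : G) ≠ 1 := by
    intro h
    have := b.2
    rw [h, orderOf_one] at this
    exact hp.one_lt.ne this
  have hab' : (a : G) ≠ b := fun h => hab (Subtype.ext h)
  have h3 : ({1, (a : G), (b : G)} : Finset G).card = 3 := by
    rw [Finset.card_insert_of_notMem (by simp [ha1.symm, hb1.symm]), Finset.card_pair hab']
  rw [Nat.card_eq_fintype_card, ← h3]
  exact Finset.card_le_univ _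

section caseB

variable (n : ℕ) (z : G) (hz : orderOf z = 2) (h2 : cnt G 2 = 1)
  (hall : ∀ g : G, 3 ≤ orderOf g → cnt G (orderOf g) = n)

include hz h2 in
omit [Finite G] in
theorem inv_unique (x : G) (hx : orderOf x = 2) : x = z := by
  have := (Nat.card_eq_one_iff_unique.mp h2).1
  exact congrArg Subtype.val (Subsingleton.elim (⟨x, hx⟩ : {g : G // orderOf g = 2}) ⟨z, hz⟩)

include hz h2 in
omit [Finite G] in
theorem z_central (g : G) : g * z = z * g := by
  have h1 : orderOf (g * z * g⁻¹) = 2 := by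
    rw [← hz]
    exact (MulAut.conj g).orderOf_eq z
  have := inv_unique z hz h2 _ h1
  calc g * z = (g * z * g⁻¹) * g := by group
    _ = z * g := by rw [this]

include h2 hall in
theorem no_eight (g : G) (hg : orderOf g = 8) : False := by
  have h8 : 8 ∣ Nat.card G := hg ▸ orderOf_dvd_natCard g
  have h4 : 4 ∣ Nat.card G := Dvd.dvd.trans (by norm_num) h8
  have hg2 : orderOf (g ^ 2) = 4 := by
    have := exists_orderOf_pow Nat.prime_two g 3 2 (by norm_num) (by rw [hg]; norm_num)
    norm_num at this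
    exact this
  have hc8 : cnt G 8 = n := by
    have := hall g (by rw [hg]; norm_num)
    rwa [hg] at this
  have hc4 : cnt G 4 = n := by
    have := hall (g ^ 2) (by rw [hg2]; norm_num)
    rwa [hg2] at this
  have t4 := dvd_tor (G := G) 4 h4
  have t8 := dvd_tor (G := G) 8 h8
  rw [tor_four, h2, hc4] at t4
  rw [tor_eight, h2, hc4, hc8] at t8
  omega

include h2 hall in
theorem two_pow_order_le (g : G) (k : ℕ) (hg : orderOf g = 2 ^ k) : k ≤ 2 := by
  by_contra hk
  push_neg at hk
  have := exists_orderOf_pow Nat.prime_two g k 3 hk hg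
  exact no_eight n h2 hall _ (by rw [this]; norm_num)

include hz h2 hall in
theorem caseB1 (hn1 : n ≠ 1) (hex : ∃ g : G, cnt G (orderOf g) = n) (k : ℕ) (hk : Nat.card G = 2 ^ k) :
    Nonempty (G ≃* QuaternionGroup 2) ∨ (IsCyclic G ∧ Nat.card G = 4) := by
  have hG2 : IsPGroup 2 G := IsPGroup.of_card hk
  have hzp : Nat.card (Subgroup.zpowers z) = 2 := by rw [Nat.card_zpowers, hz]
  have hsub : ∀ H : Subgroup G, Nat.card H = 2 → H = Subgroup.zpowers z := by
    intro H hH
    haveI : Nontrivial H := Finite.one_lt_card_iff_nontrivial.mp (by rw [hH]; norm_num)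
    obtain ⟨x, hx⟩ := exists_ne (1 : H)
    have hxd : orderOf x ∣ 2 := hH ▸ orderOf_dvd_natCard x
    have hx2 : orderOf x = 2 := by
      rcases (Nat.dvd_prime Nat.prime_two).mp hxd with h | h
      · exact absurd (orderOf_eq_one_iff.mp h) hx
      · exact h
    have hx2' : orderOf (x : G) = 2 := by rw [Subgroup.orderOf_coe]; exact hx2
    have hxz : (x : G) = z := inv_unique z hz h2 _ hx2'
    have hzH : z ∈ H := hxz ▸ x.2
    symm
    apply Subgroup.eq_of_le_of_card_ge
    · rw [Subgroup.zpowers_le]; exact hzH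
    · rw [hH, hzp]
  have huniq : ∀ H K : Subgroup G, Nat.card H = 2 → Nat.card K = 2 → H = K := by
    intro H K hH hK
    rw [hsub H hH, hsub K hK]
  have hcard1 : Nat.card G ≠ 1 := by
    intro h1
    haveI : Subsingleton G := (Nat.card_eq_one_iff_unique.mp h1).1
    have : z = 1 := Subsingleton.elim _ _
    rw [this, orderOf_one] at hz
    norm_num at hz
  have hcard2 : Nat.card G ≠ 2 := by
    intro h2'
    obtain ⟨g, hg⟩ := hex
    have hd : orderOf g ∣ 2 := h2' ▸ orderOf_dvd_natCard g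
    rcases (Nat.dvd_prime Nat.prime_two).mp hd with h | h
    · rw [h, cnt_one] at hg
      exact hn1 hg.symm
    · rw [h, h2] at hg
      exact hn1 hg.symm
  haveI : Fact (Nat.Prime 2) := ⟨Nat.prime_two⟩
  rcases Cfsg.Agent.H2.UOP.main 2 hG2 huniq with hcyc | ⟨-, j, ⟨e⟩⟩
  · right
    refine ⟨hcyc, ?_⟩
    obtain ⟨g, hg⟩ := hcyc.exists_generator
    have hog : orderOf g = Nat.card G := orderOf_eq_card_of_forall_mem_zpowers hg
    have hk2 : k ≤ 2 := two_pow_order_le n h2 hall g k (by rw [hog, hk])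
    interval_cases k
    · exact absurd hk hcard1
    · exact absurd hk hcard2
    · rw [hk]; norm_num
  · -- quaternion
    have ha : orderOf (e.symm (QuaternionGroup.a 1)) = 2 ^ (j + 1) := by
      rw [MulEquiv.orderOf_eq, QuaternionGroup.orderOf_a_one, pow_succ, mul_comm]
    have hj : j + 1 ≤ 2 := two_pow_order_le n h2 hall _ _ ha
    have hj' : j = 0 ∨ j = 1 := by omega
    rcases hj' with rfl | rfl
    · right
      rw [pow_zero] at e
      haveI := QuaternionGroup.quaternionGroup_one_isCyclic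
      refine ⟨isCyclic_of_surjective e.symm e.symm.surjective, ?_⟩
      rw [Nat.card_congr e.toEquiv, Nat.card_eq_fintype_card, QuaternionGroup.card, mul_one]
    · left
      rw [pow_one] at e
      exact ⟨e⟩

theorem exists_type0_copy (P : Type*) [Group P] [Finite P] :
    ∃ (P' : Type) (_ : Group P') (_ : Finite P'), Nonempty (P ≃* P') := by
  let k := Nat.card P
  let eq : {i : ℕ // i < k} ≃ P := (Fin.equivSubtype.symm).trans (Finite.equivFin P).symm
  refine ⟨{i : ℕ // i < k}, eq.group, Finite.of_equiv _ eq.symm, ⟨?_⟩⟩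
  letI := eq.group
  exact eq.mulEquiv.symm

include hz h2 hall in
theorem caseB2 (p : ℕ) (hp : p.Prime) (hp2 : p ≠ 2) (hpd : p ∣ Nat.card G) :
    ∃ (P : Type) (_ : Group P) (_ : Finite P), IsPGroup p P ∧ Monoid.exponent P = p ∧
        Nonempty (G ≃* Multiplicative (ZMod 2) × P) := by
  haveI : Fact p.Prime := ⟨hp⟩
  have hp3 : 3 ≤ p := by have := hp.two_le; omega
  have hcauchy : ∀ q : ℕ, q.Prime → 3 ≤ q → q ∣ Nat.card G → cnt G q = n := by
    intro q hq hq3 hqd
    haveI : Fact q.Prime := ⟨hq⟩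
    obtain ⟨x, hx⟩ := exists_prime_orderOf_dvd_card' q hqd
    have := hall x (by rw [hx]; exact hq3)
    rwa [hx] at this
  have hcp : cnt G p = n := hcauchy p hp hp3 hpd
  have hpn : p ∣ 1 + n := hcp ▸ prime_dvd_succ_cnt p hp hpd
  have h2d : 2 ∣ Nat.card G := hz ▸ orderOf_dvd_natCard z
  -- (i) 4 ∤ card
  have h4 : ¬ 4 ∣ Nat.card G := by
    intro h4
    have t4 := dvd_tor (G := G) 4 h4
    rw [tor_four, h2] at t4
    have hc4 : cnt G 4 = n := by
      rcases mix n hall 4 (by norm_num) with h | h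
      · exact h
      · rw [h] at t4; omega
    have hco2 : Nat.Coprime 2 p := (Nat.coprime_primes Nat.prime_two hp).mpr (Ne.symm hp2)
    have h2p : 2 * p ∣ Nat.card G := hco2.mul_dvd_of_dvd_of_dvd h2d hpd
    have t2p := dvd_tor (G := G) _ h2p
    rw [tor_mul_primes 2 p Nat.prime_two hp (Ne.symm hp2), h2, hcp] at t2p
    have t2p' : p ∣ 1 + 1 + n + cnt G (2 * p) := (dvd_mul_left p 2).trans t2p
    have hc2p : cnt G (2 * p) = n := by
      rcases mix n hall (2 * p) (by omega) with h | h
      · exact h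
      · exfalso
        rw [h] at t2p'
        have h5 : p ∣ (1 + n) + 1 := by
          have : (1 + n) + 1 = 1 + 1 + n + 0 := by ring
          rw [this]; exact t2p'
        have h6 : p ∣ 1 := (Nat.dvd_add_right hpn).mp h5
        exact absurd (Nat.dvd_one.mp h6) hp.one_lt.ne'
    have hco4 : Nat.Coprime 4 p := by
      have : Nat.Coprime (2 ^ 2) p := Nat.Coprime.pow_left 2 hco2
      simpa using this
    have h4p : 4 * p ∣ Nat.card G := hco4.mul_dvd_of_dvd_of_dvd h4 hpd
    have t4p := dvd_tor (G := G) _ h4p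
    rw [tor_four_mul p hp hp2, h2, hc4, hcp, hc2p] at t4p
    have t4p' : p ∣ 1 + 1 + n + n + n + cnt G (4 * p) := (dvd_mul_left p 4).trans t4p
    rcases mix n hall (4 * p) (by omega) with h | h
    · rw [h] at t4p'
      have h5 : p ∣ (1 + 1 + n + n + n + n) + 2 := by
        have : (1 + 1 + n + n + n + n) + 2 = 4 * (1 + n) := by ring
        rw [this]; exact Dvd.dvd.mul_left hpn 4
      have h6 : p ∣ 2 := (Nat.dvd_add_right t4p').mp h5
      exact hp2 ((Nat.prime_dvd_prime_iff_eq hp Nat.prime_two).mp h6)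
    · rw [h] at t4p'
      have h5 : p ∣ (1 + 1 + n + n + n + 0) + 1 := by
        have : (1 + 1 + n + n + n + 0) + 1 = 3 * (1 + n) := by ring
        rw [this]; exact Dvd.dvd.mul_left hpn 3
      have h6 : p ∣ 1 := (Nat.dvd_add_right t4p').mp h5
      exact absurd (Nat.dvd_one.mp h6) hp.one_lt.ne'
  -- (ii) only primes 2 and p
  have hodd : ∀ q : ℕ, q.Prime → q ∣ Nat.card G → q = 2 ∨ q = p := by
    intro q hq hqd
    by_contra hne
    push_neg at hne
    have hq3 : 3 ≤ q := by
      have := hq.two_le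
      have := hne.1
      omega
    have hcq : cnt G q = n := hcauchy q hq hq3 hqd
    have := two_primes hp hq (Ne.symm hne.2) hpd hqd hcp hcq (mix n hall (p * q) (by nlinarith))
    exact hp2 this
  -- (iii) Sylow subgroup has index 2
  obtain ⟨P⟩ := (inferInstance : Nonempty (Sylow p G))
  have hidx : (P : Subgroup G).index = 2 := by
    have hnd : ¬ p ∣ (P : Subgroup G).index := P.not_dvd_index
    have hidvd : (P : Subgroup G).index ∣ Nat.card G := Subgroup.index_dvd_card _
    have huni : ∀ {d : ℕ}, d.Prime → d ∣ (P : Subgroup G).index → d = 2 := by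
      intro d hd hdd
      rcases hodd d hd (hdd.trans hidvd) with h | h
      · exact h
      · exact absurd (h ▸ hdd) hnd
    obtain ⟨a, ha⟩ : ∃ a : ℕ, (P : Subgroup G).index = 2 ^ a :=
      ⟨_, Nat.eq_prime_pow_of_unique_prime_dvd Subgroup.index_ne_zero_of_finite huni⟩
    have ha1 : a ≤ 1 := by
      by_contra h
      push_neg at h
      apply h4
      have h44 : (4 : ℕ) ∣ 2 ^ a := by
        have : (2 : ℕ) ^ 2 ∣ 2 ^ a := pow_dvd_pow 2 h
        simpa using this
      exact (h44.trans (ha ▸ dvd_refl _)).trans hidvd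
    have ha0 : a ≠ 0 := by
      intro h0
      rw [h0, pow_zero] at ha
      have hcardP : Nat.card G = Nat.card (P : Subgroup G) := by
        have := (P : Subgroup G).card_mul_index
        rw [ha, mul_one] at this
        exact this.symm
      obtain ⟨b, hb⟩ := IsPGroup.iff_card.mp P.isPGroup'
      rw [hcardP, hb] at h2d
      have := Nat.Prime.dvd_of_dvd_pow Nat.prime_two h2d
      exact hp2 ((Nat.prime_dvd_prime_iff_eq Nat.prime_two hp).mp this).symm
    have : a = 1 := by omega
    rw [ha, this, pow_one]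
  haveI hPn : (P : Subgroup G).Normal := Subgroup.normal_of_index_eq_two hidx
  have hZc : Nat.card (Subgroup.zpowers z) = 2 := by rw [Nat.card_zpowers, hz]
  have hzc : z ∈ Subgroup.center G := Subgroup.mem_center_iff.mpr (z_central z hz h2)
  have comm : ∀ (a : Subgroup.zpowers z) (b : (P : Subgroup G)),
      Commute ((Subgroup.zpowers z).subtype a) ((P : Subgroup G).subtype b) := by
    intro a b
    have ha : (a : G) ∈ Subgroup.center G := (Subgroup.zpowers_le.mpr hzc) a.2
    exact (Subgroup.mem_center_iff.mp ha b).symm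
  let φ := MonoidHom.noncommCoprod (Subgroup.zpowers z).subtype (P : Subgroup G).subtype comm
  have hinj : Function.Injective φ := by
    rw [MonoidHom.noncommCoprod_injective]
    refine ⟨Subtype.coe_injective, Subtype.coe_injective, ?_⟩
    rw [Subgroup.range_subtype, Subgroup.range_subtype]
    haveI : Fact (Nat.Prime 2) := ⟨Nat.prime_two⟩
    exact IsPGroup.disjoint_of_ne 2 p (Ne.symm hp2) _ _
      (IsPGroup.of_card (n := 1) (by rw [hZc, pow_one])) P.isPGroup'
  have hcard : Nat.card (Subgroup.zpowers z × (P : Subgroup G)) = Nat.card G := by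
    rw [Nat.card_prod, hZc, ← (P : Subgroup G).card_mul_index, hidx, mul_comm]
  have hbij : Function.Bijective φ := (Nat.bijective_iff_injective_and_card φ).mpr ⟨hinj, hcard⟩
  let e1 : Subgroup.zpowers z × (P : Subgroup G) ≃* G := MulEquiv.ofBijective φ hbij
  have hc2 : Nat.card (Multiplicative (ZMod 2)) = 2 := by
    rw [Nat.card_eq_fintype_card]; rfl
  let e2 : Subgroup.zpowers z ≃* Multiplicative (ZMod 2) :=
    mulEquivOfCyclicCardEq (by rw [hZc, hc2])
  obtain ⟨P', hP'g, hP'f, ⟨e3⟩⟩ := exists_type0_copy (P : Subgroup G)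
  -- exponent of P
  have hPcard : p ∣ Nat.card (P : Subgroup G) := by
    have h1 := (P : Subgroup G).card_mul_index
    rw [hidx] at h1
    rw [← h1] at hpd
    rcases (Nat.Prime.dvd_mul hp).mp hpd with h | h
    · exact h
    · exact absurd ((Nat.prime_dvd_prime_iff_eq hp Nat.prime_two).mp h) hp2
  haveI : Nontrivial (P : Subgroup G) := by
    apply Finite.one_lt_card_iff_nontrivial.mp
    have := Nat.le_of_dvd Nat.card_pos hPcard
    omega
  have hexpP : Monoid.exponent (P : Subgroup G) = p := by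
    rw [Monoid.exponent_eq_prime_iff hp]
    intro x hx
    obtain ⟨j, hj⟩ := (IsPGroup.iff_orderOf.mp P.isPGroup') x
    have hj0 : j ≠ 0 := by
      rintro rfl
      rw [pow_zero, orderOf_eq_one_iff] at hj
      exact hx hj
    by_cases hj2 : 2 ≤ j
    · exfalso
      have hjG : orderOf (x : G) = p ^ j := by rw [Subgroup.orderOf_coe]; exact hj
      have hh := exists_orderOf_pow hp (x : G) j 2 hj2 hjG
      have hp22 : 3 ≤ p ^ 2 := by nlinarith
      have hc2 : cnt G (p ^ 2) = n := by
        have := hall _ (by rw [hh]; exact hp22)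
        rwa [hh] at this
      have hd2 : p ^ 2 ∣ Nat.card G := hh ▸ orderOf_dvd_natCard _
      exact no_prime_sq hp hcp hc2 hd2
    · have : j = 1 := by omega
      rw [hj, this, pow_one]
  refine ⟨P', hP'g, hP'f, P.isPGroup'.of_equiv e3, ?_,
    ⟨e1.symm.trans (MulEquiv.prodCongr e2 e3)⟩⟩
  rw [← Monoid.exponent_eq_of_mulEquiv e3]
  exact hexpP

end caseB

end Cfsg.Agent.H1.SOT
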