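import Mathlib
import Cfsg.Prelude.Def_SolvableStructure
import Cfsg.Agent.H1.Basic
import Cfsg.Agent.H1.Card
import Cfsg.Agent.H1.Cores
import Cfsg.Agent.H1.Frattini
import Cfsg.Agent.H1.SchmidtStructure
import Cfsg.Agent.Lib.Helper4.Nilpotent

set_option autoImplicit false

namespace Cfsg.Agent.H1

open scoped Pointwise commutatorElement

universe u

lemma card_eq_of_sylow_sup_eq_top {G : Type*} [Group G] [Finite G] {p q : ℕ} [Fact p.Prime] [Fact q.Prime]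
    (hpq : p ≠ q) (P : Sylow p G) (Q : Sylow q G) (hQn : (Q : Subgroup G).Normal)
    (hPQ : (P : Subgroup G) ⊔ Q = ⊤) : Nat.card G = Nat.card (P : Subgroup G) * Nat.card (Q : Subgroup G) := by
  have hcop : (Nat.card (P : Subgroup G)).Coprime (Nat.card (Q : Subgroup G)) := by
    obtain ⟨a, ha⟩ := P.isPGroup'.exists_card_eq
    obtain ⟨b, hb⟩ := Q.isPGroup'.exists_card_eq
    rw [ha, hb]
    exact Nat.Coprime.pow _ _ ((Nat.coprime_primes Fact.out Fact.out).mpr hpq)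
  have hn : (P : Subgroup G) ≤ Subgroup.normalizer ((Q : Subgroup G) : Set G) := by
    rw [Subgroup.normalizer_eq_top_iff.mpr hQn]; exact le_top
  have c2 := card_sup_mul_card_inf (P : Subgroup G) (Q : Subgroup G) hn
  have hi2 : (P : Subgroup G) ⊓ Q = ⊥ := (Subgroup.disjoint_of_coprime_natCard hcop).eq_bot
  rw [hi2, Subgroup.card_bot, mul_one, hPQ, Subgroup.card_top] at c2
  exact c2

/-- In `G = P Q` (`P` abelian Sylow `p`, `Q` normal Sylow `q`), commutators of elements of a nilpotent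
subgroup `T` lie in any normal subgroup containing the commutators of `Q`. -/
lemma commutator_mem_of_nilpotent_sub {G : Type*} [Group G] [Finite G] {p q : ℕ} [Fact p.Prime] [Fact q.Prime]
    (hpq : p ≠ q) (P : Sylow p G) (Q : Sylow q G) (hPc : ∀ a ∈ (P : Subgroup G), ∀ b ∈ (P : Subgroup G), a * b = b * a)
    (hQn : (Q : Subgroup G).Normal) (hPQ : (P : Subgroup G) ⊔ Q = ⊤) (T : Subgroup G) (hT : Group.IsNilpotent T)
    (D : Subgroup G) [hDn : D.Normal] (hD : ∀ u₁ ∈ (Q : Subgroup G), ∀ u₂ ∈ (Q : Subgroup G), ⁅u₁, u₂⁆ ∈ D) :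
    ∀ a ∈ T, ∀ b ∈ T, ⁅a, b⁆ ∈ D := by
  obtain S : Sylow p T := default
  -- T_q
  set Tq : Subgroup T := (Q : Subgroup G).subgroupOf T with hTq
  haveI hTqn : Tq.Normal := by rw [hTq]; infer_instance
  have hcardG := card_eq_of_sylow_sup_eq_top hpq P Q hQn hPQ
  -- S ⊔ Tq = ⊤
  have htop : (S : Subgroup T) ⊔ Tq = ⊤ := by
    rw [← Subgroup.index_eq_one]
    have h1 : ((S : Subgroup T) ⊔ Tq).index ∣ (S : Subgroup T).index := Subgroup.index_dvd_of_le le_sup_left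
    have h2 : ((S : Subgroup T) ⊔ Tq).index ∣ Tq.index := Subgroup.index_dvd_of_le le_sup_right
    have h3 : Tq.index ∣ (Q : Subgroup G).index := by
      have : Tq.index = (Q : Subgroup G).relIndex T := rfl
      rw [this]
      exact Subgroup.relIndex_dvd_index_of_normal (Q : Subgroup G) T
    have h4 : (Q : Subgroup G).index = Nat.card (P : Subgroup G) := by
      have := (Q : Subgroup G).card_mul_index
      rw [hcardG, mul_comm] at this
      exact Nat.eq_of_mul_eq_mul_right Nat.card_pos this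
    obtain ⟨k, hk⟩ := P.isPGroup'.exists_card_eq
    rw [h4, hk] at h3
    have h5 := h2.trans h3
    obtain ⟨j, -, hj⟩ := (Nat.dvd_prime_pow Fact.out).mp h5
    by_contra hne
    have hj0 : j ≠ 0 := by
      rintro rfl
      exact hne (by rw [hj, pow_zero])
    have hp : p ∣ ((S : Subgroup T) ⊔ Tq).index := by rw [hj]; exact dvd_pow_self p hj0
    exact S.not_dvd_index (hp.trans h1)
  -- S is commutative
  have hSc : ∀ s₁ ∈ (S : Subgroup T), ∀ s₂ ∈ (S : Subgroup T), (s₁ : G) * (s₂ : G) = (s₂ : G) * (s₁ : G) := by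
    have hSp : IsPGroup p ((S : Subgroup T).map T.subtype) := S.isPGroup'.map _
    obtain ⟨P', hP'⟩ := hSp.exists_le_sylow
    obtain ⟨g, rfl⟩ := MulAction.exists_smul_eq G P P'
    intro s₁ hs₁ s₂ hs₂
    have m1 : (s₁ : G) ∈ ((g • P : Sylow p G) : Subgroup G) := hP' ⟨s₁, hs₁, rfl⟩
    have m2 : (s₂ : G) ∈ ((g • P : Sylow p G) : Subgroup G) := hP' ⟨s₂, hs₂, rfl⟩
    rw [Sylow.coe_subgroup_smul, Subgroup.mem_smul_pointwise_iff_exists] at m1 m2
    obtain ⟨x₁, hx₁, e₁⟩ := m1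
    obtain ⟨x₂, hx₂, e₂⟩ := m2
    rw [← e₁, ← e₂]
    simp only [MulAut.smul_def, MulAut.conj_apply]
    have := hPc x₁ hx₁ x₂ hx₂
    calc g * x₁ * g⁻¹ * (g * x₂ * g⁻¹) = g * (x₁ * x₂) * g⁻¹ := by group
      _ = g * (x₂ * x₁) * g⁻¹ := by rw [this]
      _ = _ := by group
  -- elements of S commute with elements of Tq
  have hSQ : ∀ s ∈ (S : Subgroup T), ∀ u ∈ Tq, (s : G) * (u : G) = (u : G) * (s : G) := by
    intro s hs u hu
    have hco : (orderOf s).Coprime (orderOf u) := by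
      obtain ⟨i, hi⟩ := (IsPGroup.iff_orderOf.mp S.isPGroup') ⟨s, hs⟩
      rw [Subgroup.orderOf_mk] at hi
      have hu' : (u : G) ∈ (Q : Subgroup G) := hu
      obtain ⟨j, hj⟩ := (IsPGroup.iff_orderOf.mp Q.isPGroup') ⟨(u : G), hu'⟩
      rw [Subgroup.orderOf_mk, Subgroup.orderOf_coe] at hj
      rw [hi, hj]
      exact Nat.Coprime.pow _ _ ((Nat.coprime_primes Fact.out Fact.out).mpr hpq)
    have := Cfsg.Agent.Lib.Helper4.Nilpotent.commute_of_coprime_orderOf T s u hco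
    exact congrArg Subtype.val this
  have hdec : ∀ t : T, ∃ s ∈ (S : Subgroup T), ∃ u ∈ Tq, s * u = t := by
    intro t
    have : t ∈ (S : Subgroup T) ⊔ Tq := by rw [htop]; exact Subgroup.mem_top t
    exact Subgroup.mem_sup_of_normal_right.mp this
  intro a ha b hb
  obtain ⟨s₁, hs₁, u₁, hu₁, e₁⟩ := hdec ⟨a, ha⟩
  obtain ⟨s₂, hs₂, u₂, hu₂, e₂⟩ := hdec ⟨b, hb⟩
  have ea : a = (s₁ : G) * (u₁ : G) := by
    have := congrArg Subtype.val e₁; simpa using this.symm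
  have eb : b = (s₂ : G) * (u₂ : G) := by
    have := congrArg Subtype.val e₂; simpa using this.symm
  have c12 := hSQ s₁ hs₁ u₂ hu₂
  have c21 := hSQ s₂ hs₂ u₁ hu₁
  have c11 := hSQ s₁ hs₁ u₁ hu₁
  have c22 := hSQ s₂ hs₂ u₂ hu₂
  have css := hSc s₁ hs₁ s₂ hs₂
  have hu₁' : (u₁ : G) ∈ (Q : Subgroup G) := hu₁
  have hu₂' : (u₂ : G) ∈ (Q : Subgroup G) := hu₂
  have hcomm := hD _ hu₁' _ hu₂'
  -- ⁅a, b⁆ = ⁅u₁, u₂⁆
  have key : ⁅a, b⁆ = ⁅(u₁ : G), (u₂ : G)⁆ := by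
    rw [ea, eb, commutatorElement_def, commutatorElement_def]
    have h1 : (s₁ : G) * (u₁ : G) * ((s₂ : G) * (u₂ : G)) = (s₁ : G) * (s₂ : G) * ((u₁ : G) * (u₂ : G)) := by
      calc (s₁ : G) * (u₁ : G) * ((s₂ : G) * (u₂ : G)) = (s₁ : G) * ((u₁ : G) * (s₂ : G)) * (u₂ : G) := by group
        _ = (s₁ : G) * ((s₂ : G) * (u₁ : G)) * (u₂ : G) := by rw [c21]
        _ = _ := by group
    have h2 : ((s₁ : G) * (u₁ : G))⁻¹ * ((s₂ : G) * (u₂ : G))⁻¹ = ((s₁ : G) * (s₂ : G))⁻¹ * ((u₁ : G)⁻¹ * (u₂ : G)⁻¹) := by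
      have : ((s₂ : G) * (u₂ : G)) * ((s₁ : G) * (u₁ : G)) = ((u₂ : G) * (u₁ : G)) * ((s₁ : G) * (s₂ : G)) := by
        calc ((s₂ : G) * (u₂ : G)) * ((s₁ : G) * (u₁ : G)) = (s₂ : G) * ((u₂ : G) * (s₁ : G)) * (u₁ : G) := by group
          _ = (s₂ : G) * ((s₁ : G) * (u₂ : G)) * (u₁ : G) := by rw [c12]
          _ = ((s₂ : G) * (s₁ : G)) * ((u₂ : G) * (u₁ : G)) := by group
          _ = ((s₁ : G) * (s₂ : G)) * ((u₂ : G) * (u₁ : G)) := by rw [css]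
          _ = (s₁ : G) * ((s₂ : G) * (u₂ : G)) * (u₁ : G) := by group
          _ = (s₁ : G) * ((u₂ : G) * (s₂ : G)) * (u₁ : G) := by rw [c22]
          _ = ((s₁ : G) * (u₂ : G)) * ((s₂ : G) * (u₁ : G)) := by group
          _ = ((u₂ : G) * (s₁ : G)) * ((u₁ : G) * (s₂ : G)) := by rw [c12, c21]
          _ = (u₂ : G) * ((s₁ : G) * (u₁ : G)) * (s₂ : G) := by group
          _ = (u₂ : G) * ((u₁ : G) * (s₁ : G)) * (s₂ : G) := by rw [c11]
          _ = _ := by group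
      calc ((s₁ : G) * (u₁ : G))⁻¹ * ((s₂ : G) * (u₂ : G))⁻¹ = (((s₂ : G) * (u₂ : G)) * ((s₁ : G) * (u₁ : G)))⁻¹ := by group
        _ = (((u₂ : G) * (u₁ : G)) * ((s₁ : G) * (s₂ : G)))⁻¹ := by rw [this]
        _ = _ := by group
    calc (s₁ : G) * (u₁ : G) * ((s₂ : G) * (u₂ : G)) * ((s₁ : G) * (u₁ : G))⁻¹ * ((s₂ : G) * (u₂ : G))⁻¹
        = ((s₁ : G) * (u₁ : G) * ((s₂ : G) * (u₂ : G))) * (((s₁ : G) * (u₁ : G))⁻¹ * ((s₂ : G) * (u₂ : G))⁻¹) := by group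
      _ = ((s₁ : G) * (s₂ : G) * ((u₁ : G) * (u₂ : G))) * (((s₁ : G) * (s₂ : G))⁻¹ * ((u₁ : G)⁻¹ * (u₂ : G)⁻¹)) := by rw [h1, h2]
      _ = ((s₁ : G) * (s₂ : G)) * (((u₁ : G) * (u₂ : G)) * ((s₁ : G) * (s₂ : G))⁻¹) * ((u₁ : G)⁻¹ * (u₂ : G)⁻¹) := by group
      _ = ((s₁ : G) * (s₂ : G)) * (((s₁ : G) * (s₂ : G))⁻¹ * ((u₁ : G) * (u₂ : G))) * ((u₁ : G)⁻¹ * (u₂ : G)⁻¹) := by
          congr 2
          -- (u₁u₂)(s₁s₂)⁻¹ = (s₁s₂)⁻¹(u₁u₂)
          have hcm : Commute ((s₁ : G) * (s₂ : G)) ((u₁ : G) * (u₂ : G)) := by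
            apply Commute.mul_left
            · exact Commute.mul_right c11 c12
            · exact Commute.mul_right c21 c22
          exact (hcm.inv_left).eq.symm
      _ = _ := by group
  rw [key]; exact hcomm


end Cfsg.Agent.H1
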