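import Mathlib
import Cfsg.Agent.H1.Basic
import Cfsg.Agent.H1.BaerTrick
import Cfsg.Agent.H1.PerfectCover
import Cfsg.Prelude.Def_KGroupFacts

set_option autoImplicit false

namespace Cfsg.Agent.H1

open Cfsg
open scoped commutatorElement

universe u v w

section freeCentral

variable (Q : Type u) [Group Q]

/-- the relation subgroup `[R, F]` of the free central extension -/
def fcKer : Subgroup (FreeGroup Q) :=
  ⁅(FreeGroup.lift (id : Q → Q)).ker, (⊤ : Subgroup (FreeGroup Q))⁆

instance fcKer_normal : (fcKer Q).Normal := by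
  unfold fcKer; infer_instance

/-- the free central extension `F / [R, F]` of `Q` -/
abbrev FC : Type u := FreeGroup Q ⧸ fcKer Q

lemma fcKer_le_ker : fcKer Q ≤ (FreeGroup.lift (id : Q → Q)).ker :=
  Subgroup.commutator_le_left _ _

/-- the projection `F / [R, F] → Q` -/
def fcProj : FC Q →* Q := QuotientGroup.lift (fcKer Q) (FreeGroup.lift (id : Q → Q)) (fcKer_le_ker Q)

lemma fcProj_mk (f : FreeGroup Q) :
    fcProj Q (QuotientGroup.mk f) = FreeGroup.lift (id : Q → Q) f := rfl

lemma fcProj_surjective : Function.Surjective (fcProj Q) := by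
  intro q
  exact ⟨QuotientGroup.mk (FreeGroup.of q), by rw [fcProj_mk, FreeGroup.lift_apply_of]; rfl⟩

lemma fcProj_ker_le_center : (fcProj Q).ker ≤ Subgroup.center (FC Q) := by
  intro x hx
  obtain ⟨r, rfl⟩ := QuotientGroup.mk_surjective x
  rw [MonoidHom.mem_ker, fcProj_mk] at hx
  rw [Subgroup.mem_center_iff]
  intro y
  obtain ⟨f, rfl⟩ := QuotientGroup.mk_surjective y
  have h1 : ⁅r, f⁆ ∈ fcKer Q :=
    Subgroup.commutator_mem_commutator (MonoidHom.mem_ker.2 hx) trivial
  have h2 : ((⁅r, f⁆ : FreeGroup Q) : FC Q) = 1 := (QuotientGroup.eq_one_iff _).2 h1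
  have h3 : ⁅((r : FreeGroup Q) : FC Q), ((f : FreeGroup Q) : FC Q)⁆ = 1 := by
    rw [← h2]; rfl
  rw [commutatorElement_eq_one_iff_mul_comm] at h3
  exact h3.symm

/-- the free central extension maps to every central extension (in any universe) -/
theorem fc_lift {X : Type v} [Group X] (ξ : X →* Q) (hξs : Function.Surjective ξ)
    (hξc : ξ.ker ≤ Subgroup.center X) : ∃ θ : FC Q →* X, ξ.comp θ = fcProj Q := by
  classical
  choose s hs using hξs
  let θ : FreeGroup Q →* X := FreeGroup.lift s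
  have hθ : ξ.comp θ = FreeGroup.lift (id : Q → Q) := by
    apply FreeGroup.ext_hom
    intro q
    show ξ (FreeGroup.lift s (FreeGroup.of q)) = FreeGroup.lift id (FreeGroup.of q)
    rw [FreeGroup.lift_apply_of, FreeGroup.lift_apply_of, hs]; rfl
  have hθN : fcKer Q ≤ θ.ker := by
    unfold fcKer
    rw [Subgroup.commutator_le]
    intro r hr f _
    rw [MonoidHom.mem_ker, map_commutatorElement]
    apply comm_central_left
    apply hξc
    rw [MonoidHom.mem_ker]
    have : ξ (θ r) = FreeGroup.lift (id : Q → Q) r := DFunLike.congr_fun hθ r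
    rw [this]
    exact hr
  refine ⟨QuotientGroup.lift (fcKer Q) θ hθN, ?_⟩
  apply MonoidHom.ext
  intro x
  obtain ⟨f, rfl⟩ := QuotientGroup.mk_surjective x
  show ξ (θ f) = FreeGroup.lift (id : Q → Q) f
  exact DFunLike.congr_fun hθ f

/-- the multiplier, as a subgroup of the free central extension -/
def fcMult : Subgroup (FC Q) := (fcProj Q).ker ⊓ commutator (FC Q)

lemma fcMult_le_ker : fcMult Q ≤ (fcProj Q).ker := inf_le_left
lemma fcMult_le_comm : fcMult Q ≤ commutator (FC Q) := inf_le_right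
lemma fcMult_le_center : fcMult Q ≤ Subgroup.center (FC Q) :=
  le_trans (fcMult_le_ker Q) (fcProj_ker_le_center Q)

instance fc_finite_commutator [Finite Q] : Finite (commutator (FC Q)) := by
  have : Finite (commutatorSet (FC Q)) :=
    finite_commutatorSet_of_central (fcProj Q) (fcProj_ker_le_center Q)
  infer_instance

instance fcMult_finite [Finite Q] : Finite (fcMult Q) :=
  Finite.of_injective (fun x : fcMult Q => (⟨x.1, fcMult_le_comm Q x.2⟩ : commutator (FC Q)))
    (fun x y h => Subtype.ext (congrArg (fun z : commutator (FC Q) => (z : FC Q)) h))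

variable {Q}

/-- **central extensions**: for a central extension `ξ : X → Q` and a lift `θ` of the free central
extension, `ker ξ ∩ X' = θ(M)` -/
theorem ker_inf_commutator_eq_map {X : Type v} [Group X] (ξ : X →* Q)
    (hξc : ξ.ker ≤ Subgroup.center X) (θ : FC Q →* X) (hθ : ξ.comp θ = fcProj Q) :
    ξ.ker ⊓ commutator X = (fcMult Q).map θ ∧ commutator X = (commutator (FC Q)).map θ := by
  have hθ' : ∀ p, ξ (θ p) = fcProj Q p := fun p => DFunLike.congr_fun hθ p
  have hdec : ∀ x : X, ∃ p : FC Q, (θ p)⁻¹ * x ∈ Subgroup.center X := by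
    intro x
    obtain ⟨p, hp⟩ := fcProj_surjective Q (ξ x)
    refine ⟨p, hξc ?_⟩
    rw [MonoidHom.mem_ker, map_mul, map_inv, hθ', hp, inv_mul_cancel]
  have hcomm : commutator X = (commutator (FC Q)).map θ := by
    apply le_antisymm
    · rw [commutator_eq_closure, Subgroup.closure_le]
      rintro _ ⟨a, b, rfl⟩
      obtain ⟨p, hp⟩ := hdec a
      obtain ⟨q, hq⟩ := hdec b
      have ea : a = θ p * ((θ p)⁻¹ * a) := by group
      have eb : b = θ q * ((θ q)⁻¹ * b) := by group
      rw [ea, eb, comm_mul_central _ _ _ _ hp hq, ← map_commutatorElement]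
      exact Subgroup.mem_map_of_mem _ (Subgroup.commutator_mem_commutator trivial trivial)
    · rw [commutator_def, Subgroup.map_commutator, commutator_def]
      exact Subgroup.commutator_mono le_top le_top
  refine ⟨?_, hcomm⟩
  apply le_antisymm
  · intro x hx
    rw [Subgroup.mem_inf] at hx
    obtain ⟨hx1, hx2⟩ := hx
    rw [hcomm] at hx2
    obtain ⟨c, hc, rfl⟩ := hx2
    refine ⟨c, ?_, rfl⟩
    have : c ∈ fcMult Q := by
      unfold fcMult
      rw [Subgroup.mem_inf]
      refine ⟨?_, hc⟩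
      rw [MonoidHom.mem_ker, ← hθ']
      exact hx1
    exact this
  · rintro _ ⟨c, hc, rfl⟩
    rw [Subgroup.mem_inf]
    constructor
    · rw [MonoidHom.mem_ker, hθ']
      exact fcMult_le_ker Q hc
    · rw [hcomm]
      exact Subgroup.mem_map_of_mem _ (fcMult_le_comm Q hc)

/-- **stem extensions**: a lift of the free central extension to a stem extension is surjective and maps
the multiplier onto the kernel -/
theorem stem_lift_surjective {X : Type v} [Group X] (τ : X →* Q) (hτ : IsStemExtension τ)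
    (θ : FC Q →* X) (hθ : τ.comp θ = fcProj Q) :
    Function.Surjective θ ∧ τ.ker = (fcMult Q).map θ := by
  obtain ⟨hτs, hτc, hτd⟩ := hτ
  obtain ⟨h1, h2⟩ := ker_inf_commutator_eq_map τ hτc θ hθ
  have h3 : τ.ker = (fcMult Q).map θ := by rw [← h1]; exact (inf_eq_left.2 hτd).symm
  refine ⟨?_, h3⟩
  intro x
  have hθ' : ∀ p, τ (θ p) = fcProj Q p := fun p => DFunLike.congr_fun hθ p
  obtain ⟨p, hp⟩ := fcProj_surjective Q (τ x)
  have h4 : (θ p)⁻¹ * x ∈ τ.ker := by
    rw [MonoidHom.mem_ker, map_mul, map_inv, hθ', hp, inv_mul_cancel]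
  rw [h3] at h4
  obtain ⟨m, _, hm⟩ := h4
  refine ⟨p * m, ?_⟩
  rw [map_mul, hm]; group

end freeCentral

section complement

/-- the abelianization of a free group is torsion-free -/
lemma free_pow_mem_commutator {α : Type u} {f : FreeGroup α} {k : ℕ} (hk : 0 < k)
    (h : f ^ k ∈ commutator (FreeGroup α)) : f ∈ commutator (FreeGroup α) := by
  have h1 : (Abelianization.of f) ^ k = 1 := by
    rw [← map_pow]; exact (QuotientGroup.eq_one_iff _).2 h
  let a : FreeAbelianGroup α := Additive.ofMul (Abelianization.of f)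
  have h2 : k • a = 0 := by
    show Additive.ofMul ((Abelianization.of f) ^ k) = 0
    rw [h1]; rfl
  have h3 : k • (FreeAbelianGroup.equivFinsupp α a) = 0 := by rw [← map_nsmul, h2, map_zero]
  have h4 : FreeAbelianGroup.equivFinsupp α a = 0 := by
    rcases smul_eq_zero.1 h3 with h | h
    · omega
    · exact h
  have h5 : a = 0 := (AddEquiv.map_eq_zero_iff _).1 h4
  have h6 : Abelianization.of f = 1 := h5
  exact (QuotientGroup.eq_one_iff _).1 h6

variable {Q : Type u} [Group Q]

/-- `F / [R, F]` has torsion-free abelianization -/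
lemma fc_pow_mem_commutator {x : FC Q} {k : ℕ} (hk : 0 < k) (h : x ^ k ∈ commutator (FC Q)) :
    x ∈ commutator (FC Q) := by
  obtain ⟨f, rfl⟩ := QuotientGroup.mk_surjective x
  have hmap : commutator (FC Q) =
      (commutator (FreeGroup Q)).map (QuotientGroup.mk' (fcKer Q)) := by
    rw [commutator_def, commutator_def, Subgroup.map_commutator, ← MonoidHom.range_eq_map,
      QuotientGroup.range_mk']
  rw [hmap] at h ⊢
  obtain ⟨c, hc, hcf⟩ := h
  have h1 : c⁻¹ * f ^ k ∈ fcKer Q := by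
    rw [← QuotientGroup.eq]; exact hcf
  have h2 : fcKer Q ≤ commutator (FreeGroup Q) := by
    unfold fcKer; rw [commutator_def]; exact Subgroup.commutator_mono le_top le_rfl
  have h3 : f ^ k ∈ commutator (FreeGroup Q) := by
    have := mul_mem hc (h2 h1); rwa [mul_inv_cancel_left] at this
  have h4 : f ∈ commutator (FreeGroup Q) := free_pow_mem_commutator hk h3
  exact ⟨f, h4, rfl⟩

lemma pi_mulInt_torsionFree {j : Type} (a : j → Multiplicative ℤ) {n : ℕ} (hn : 0 < n)
    (h : a ^ n = 1) : a = 1 := by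
  funext i
  have h1 : (a i) ^ n = 1 := by
    have := congrFun h i
    rwa [Pi.pow_apply] at this
  have h2 : n • Multiplicative.toAdd (a i) = 0 := by
    rw [← toAdd_pow, h1]; rfl
  rw [nsmul_eq_mul, mul_eq_zero] at h2
  rcases h2 with h2 | h2
  · exfalso; have : n = 0 := by exact_mod_cast h2
    omega
  · exact h2

variable [Finite Q]

/-- **splitting**: inside any subgroup `K ≤ Z` with `K M = Z` there is a complement to the multiplier `M` in
`Z = ker (F/[R,F] → Q)` -/
theorem exists_complement (K : Subgroup (FC Q)) (hK : K ≤ (fcProj Q).ker)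
    (hKM : ∀ z ∈ (fcProj Q).ker, ∃ k ∈ K, ∃ m ∈ fcMult Q, z = k * m) :
    ∃ S : Subgroup (FC Q), S ≤ K ∧ S ⊓ fcMult Q = ⊥ ∧
      ∀ z ∈ (fcProj Q).ker, ∃ s ∈ S, ∃ m ∈ fcMult Q, z = s * m := by
  classical
  have hKc : K ≤ Subgroup.center (FC Q) := le_trans hK (fcProj_ker_le_center Q)
  haveI hKn : K.Normal := by
    constructor
    intro n hn g
    have := Subgroup.mem_center_iff.1 (hKc hn) g
    rw [this, mul_inv_cancel_right]; exact hn
  have hsup : K ⊔ fcMult Q = (fcProj Q).ker := by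
    apply le_antisymm (sup_le hK (fcMult_le_ker Q))
    intro z hz
    obtain ⟨k, hk, m, hm, rfl⟩ := hKM z hz
    exact mul_mem (Subgroup.mem_sup_left hk) (Subgroup.mem_sup_right hm)
  have hZi : (fcProj Q).ker.index ≠ 0 := by
    rw [Subgroup.index_ker, MonoidHom.range_eq_top.2 (fcProj_surjective Q)]
    rw [Nat.card_congr (Subgroup.topEquiv (G := Q)).toEquiv]
    exact Nat.card_pos.ne'
  have hKi : K.index ≠ 0 := by
    rw [← Subgroup.relIndex_mul_index hK]
    refine mul_ne_zero ?_ hZi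
    rw [← hsup, Subgroup.relIndex_sup_left]
    exact Subgroup.index_ne_zero_of_finite
  haveI : K.FiniteIndex := ⟨hKi⟩
  haveI : Group.FG K := inferInstance
  letI : CommGroup K := { (inferInstance : Group K) with
    mul_comm := fun a b => Subtype.ext (Subgroup.mem_center_iff.1 (hKc b.2) a.1) }
  obtain ⟨ι, j, _, _, p, hp, e, ⟨E⟩⟩ := CommGroup.equiv_free_prod_prod_multiplicative_zmod K
  haveI : ∀ i, NeZero (p i ^ e i) := fun i => ⟨pow_ne_zero _ (hp i).ne_zero⟩
  obtain ⟨n, hn, hntors⟩ : ∃ n : ℕ, 0 < n ∧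
      ∀ t : ((i : ι) → Multiplicative (ZMod (p i ^ e i))), t ^ n = 1 :=
    ⟨Nat.card ((i : ι) → Multiplicative (ZMod (p i ^ e i))), Nat.card_pos, fun t => pow_card_eq_one'⟩
  obtain ⟨m, hm, hmM⟩ : ∃ m : ℕ, 0 < m ∧ ∀ x ∈ fcMult Q, x ^ m = 1 := by
    refine ⟨Nat.card (fcMult Q), Nat.card_pos, fun x hx => ?_⟩
    have : (⟨x, hx⟩ : fcMult Q) ^ Nat.card (fcMult Q) = 1 := pow_card_eq_one'
    exact congrArg Subtype.val this
  refine ⟨(((MonoidHom.snd _ _).comp E.toMonoidHom).ker).map K.subtype, ?_, ?_, ?_⟩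
  · rintro _ ⟨k, _, rfl⟩; exact k.2
  · rw [eq_bot_iff]
    intro x hx
    rw [Subgroup.mem_inf] at hx
    obtain ⟨⟨k, hk, rfl⟩, hxM⟩ := hx
    have hk2 : (E k).2 = 1 := hk
    have hkm : k ^ m = 1 := Subtype.ext (hmM _ hxM)
    have h1 : (E k).1 ^ m = 1 := by
      have : E (k ^ m) = 1 := by rw [hkm, map_one]
      rw [map_pow] at this
      exact congrArg Prod.fst this
    have h2 : (E k).1 = 1 := pi_mulInt_torsionFree _ hm h1
    have h3 : E k = 1 := Prod.ext h2 hk2
    have h4 : k = 1 := (MulEquiv.map_eq_one_iff E).1 h3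
    rw [Subgroup.mem_bot, h4]; rfl
  · intro z hz
    obtain ⟨k, hk, m₀, hm₀, rfl⟩ := hKM z hz
    let kk : K := ⟨k, hk⟩
    let s : K := E.symm ((E kk).1, 1)
    let t : K := E.symm (1, (E kk).2)
    have hst : kk = s * t := by
      apply E.injective
      rw [map_mul, E.apply_symm_apply, E.apply_symm_apply]
      apply Prod.ext
      · show (E kk).1 = (E kk).1 * 1
        rw [mul_one]
      · show (E kk).2 = 1 * (E kk).2
        rw [one_mul]
    have hs : (s : FC Q) ∈ (((MonoidHom.snd _ _).comp E.toMonoidHom).ker).map K.subtype := by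
      refine ⟨s, ?_, rfl⟩
      show (E s).2 = 1
      rw [E.apply_symm_apply]
    have htn : t ^ n = 1 := by
      apply E.injective
      rw [map_pow, E.apply_symm_apply, map_one]
      apply Prod.ext
      · show (1 : j → Multiplicative ℤ) ^ n = 1
        rw [one_pow]
      · exact hntors _
    have htM : (t : FC Q) ∈ fcMult Q := by
      unfold fcMult
      rw [Subgroup.mem_inf]
      refine ⟨hK t.2, ?_⟩
      apply fc_pow_mem_commutator hn
      have : ((t ^ n : K) : FC Q) = 1 := by rw [htn]; rfl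
      rw [Subgroup.coe_pow] at this
      rw [this]; exact one_mem _
    refine ⟨(s : FC Q), hs, (t : FC Q) * m₀, mul_mem htM hm₀, ?_⟩
    have : k = (s : FC Q) * (t : FC Q) := congrArg Subtype.val hst
    rw [this, mul_assoc]

end complement

section cover

variable {Q : Type u} [Group Q] [Finite Q]

/-- a complement `S` to the multiplier in `Z` gives a Schur cover `F/[R,F]/S` -/
theorem cover_of_complement (S : Subgroup (FC Q)) [S.Normal] (hS : S ≤ (fcProj Q).ker)
    (hSM : S ⊓ fcMult Q = ⊥)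
    (hdec : ∀ z ∈ (fcProj Q).ker, ∃ s ∈ S, ∃ m ∈ fcMult Q, z = s * m) :
    Finite (FC Q ⧸ S) ∧ IsStemExtension (QuotientGroup.lift S (fcProj Q) hS) ∧
      Nonempty ((QuotientGroup.lift S (fcProj Q) hS).ker ≃* fcMult Q) := by
  obtain ⟨σ, hσdef⟩ : ∃ σ, σ = QuotientGroup.lift S (fcProj Q) hS := ⟨_, rfl⟩
  rw [← hσdef]
  have hσmk : ∀ p : FC Q, σ (QuotientGroup.mk p) = fcProj Q p := fun p => by rw [hσdef]; rfl
  have hkerel : ∀ x ∈ σ.ker, ∃ m ∈ fcMult Q, x = QuotientGroup.mk m := by
    intro x hx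
    obtain ⟨z, rfl⟩ := QuotientGroup.mk_surjective x
    rw [MonoidHom.mem_ker, hσmk] at hx
    obtain ⟨s, hs, m, hm, rfl⟩ := hdec z (MonoidHom.mem_ker.2 hx)
    refine ⟨m, hm, ?_⟩
    rw [QuotientGroup.mk_mul, (QuotientGroup.eq_one_iff s).2 hs, one_mul]
  have hmker : ∀ m ∈ fcMult Q, (QuotientGroup.mk m : FC Q ⧸ S) ∈ σ.ker := by
    intro m hm
    rw [MonoidHom.mem_ker, hσmk]
    exact fcMult_le_ker Q hm
  have hstem : IsStemExtension σ := by
    refine ⟨?_, ?_, ?_⟩
    · intro q
      obtain ⟨p, hp⟩ := fcProj_surjective Q q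
      exact ⟨QuotientGroup.mk p, by rw [hσmk, hp]⟩
    · intro x hx
      obtain ⟨m, hm, rfl⟩ := hkerel x hx
      rw [Subgroup.mem_center_iff]
      intro y
      obtain ⟨p, rfl⟩ := QuotientGroup.mk_surjective y
      rw [← QuotientGroup.mk_mul, ← QuotientGroup.mk_mul,
        Subgroup.mem_center_iff.1 (fcMult_le_center Q hm) p]
    · intro x hx
      obtain ⟨m, hm, rfl⟩ := hkerel x hx
      have h1 : (commutator (FC Q)).map (QuotientGroup.mk' S) ≤ commutator (FC Q ⧸ S) := by
        rw [commutator_def, Subgroup.map_commutator, commutator_def]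
        exact Subgroup.commutator_mono le_top le_top
      exact h1 ⟨m, fcMult_le_comm Q hm, rfl⟩
  let f : fcMult Q →* σ.ker :=
    { toFun := fun m => ⟨QuotientGroup.mk (m : FC Q), hmker _ m.2⟩
      map_one' := rfl
      map_mul' := fun a b => rfl }
  have hfinj : Function.Injective f := by
    intro a b hab
    have h1 : (QuotientGroup.mk (a : FC Q) : FC Q ⧸ S) = QuotientGroup.mk (b : FC Q) :=
      congrArg Subtype.val hab
    rw [QuotientGroup.eq] at h1
    have h2 : (a : FC Q)⁻¹ * b ∈ S ⊓ fcMult Q :=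
      Subgroup.mem_inf.2 ⟨h1, mul_mem (inv_mem a.2) b.2⟩
    rw [hSM, Subgroup.mem_bot] at h2
    apply Subtype.ext
    exact inv_mul_eq_one.1 h2
  have hfsurj : Function.Surjective f := by
    intro x
    obtain ⟨m, hm, hx⟩ := hkerel x.1 x.2
    exact ⟨⟨m, hm⟩, Subtype.ext hx.symm⟩
  have hfin : Finite (FC Q ⧸ S) := by
    rw [MonoidHom.finite_iff_finite_ker_range σ]
    exact ⟨Finite.of_surjective f hfsurj, inferInstance⟩
  exact ⟨hfin, hstem, ⟨(MulEquiv.ofBijective f ⟨hfinj, hfsurj⟩).symm⟩⟩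

/-- existence of a Schur cover, as a quotient of `F/[R,F]` by a complement inside a given `K` -/
theorem exists_cover (K : Subgroup (FC Q)) (hK : K ≤ (fcProj Q).ker)
    (hKM : ∀ z ∈ (fcProj Q).ker, ∃ k ∈ K, ∃ m ∈ fcMult Q, z = k * m) :
    ∃ (S : Subgroup (FC Q)) (_ : S.Normal) (hS : S ≤ (fcProj Q).ker), S ≤ K ∧ Finite (FC Q ⧸ S) ∧
      IsStemExtension (QuotientGroup.lift S (fcProj Q) hS) ∧
      Nonempty ((QuotientGroup.lift S (fcProj Q) hS).ker ≃* fcMult Q) := by
  obtain ⟨S, hSK, hSM, hdec⟩ := exists_complement K hK hKM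
  have hSc : S ≤ Subgroup.center (FC Q) := le_trans (le_trans hSK hK) (fcProj_ker_le_center Q)
  have hSn : S.Normal := by
    constructor
    intro n hn g
    have := Subgroup.mem_center_iff.1 (hSc hn) g
    rw [this, mul_inv_cancel_right]; exact hn
  obtain ⟨h1, h2, h3⟩ := cover_of_complement S (le_trans hSK hK) hSM hdec
  exact ⟨S, hSn, le_trans hSK hK, hSK, h1, h2, h3⟩

/-- a Schur cover exists, in the universe of `Q` -/
theorem exists_schur_cover (Q : Type u) [Group Q] [Finite Q] :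
    ∃ (Γ : Type u) (_ : Group Γ) (_ : Finite Γ) (σ : Γ →* Q), IsStemExtension σ ∧
      Nonempty (σ.ker ≃* fcMult Q) := by
  obtain ⟨S, hSn, hS, _, h1, h2, h3⟩ := exists_cover (Q := Q) (fcProj Q).ker le_rfl
    (fun z hz => ⟨z, hz, 1, one_mem _, (mul_one z).symm⟩)
  exact ⟨FC Q ⧸ S, inferInstance, h1, QuotientGroup.lift S (fcProj Q) hS, h2, h3⟩

/-- the kernel of every finite stem extension (any universe) is an image of the multiplier -/
theorem exists_surjective_mult_to_ker {X : Type v} [Group X] (τ : X →* Q) (hτ : IsStemExtension τ) :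
    ∃ f : fcMult Q →* τ.ker, Function.Surjective f := by
  obtain ⟨θ, hθ⟩ := fc_lift Q τ hτ.1 hτ.2.1
  obtain ⟨_, h2⟩ := stem_lift_surjective τ hτ θ hθ
  have hmem : ∀ m : fcMult Q, θ (m : FC Q) ∈ τ.ker := by
    intro m; rw [h2]; exact ⟨m, m.2, rfl⟩
  refine ⟨{ toFun := fun m => ⟨θ (m : FC Q), hmem m⟩
            map_one' := Subtype.ext (map_one θ)
            map_mul' := fun a b => Subtype.ext (map_mul θ _ _) }, ?_⟩
  have h3 : ∀ y ∈ τ.ker, ∃ m ∈ fcMult Q, θ m = y := by
    intro y hy; rw [h2] at hy; exact hy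
  intro x
  obtain ⟨m, hm, hmx⟩ := h3 x.1 x.2
  exact ⟨⟨m, hm⟩, Subtype.ext hmx⟩

/-- **the multiplier is `M`**: any `A` with `HasSchurMultiplier Q A` is isomorphic to `M = Z ∩ P'` -/
theorem mult_equiv_of_hasSchurMultiplier {A : Type w} [CommGroup A] (hA : HasSchurMultiplier Q A) :
    Nonempty (A ≃* fcMult Q) := by
  obtain ⟨⟨Γ₀, _, _, σ₀, hσ₀, ⟨e₀⟩⟩, h2⟩ := hA
  obtain ⟨f₁, hf₁⟩ := exists_surjective_mult_to_ker σ₀ hσ₀
  obtain ⟨Γ, _, _, σ, hσ, ⟨e⟩⟩ := exists_schur_cover Q
  obtain ⟨π, hπ⟩ := h2 Γ σ hσ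
  have hfinA : Finite A := Finite.of_surjective (fun m => e₀ (f₁ m)) (e₀.surjective.comp hf₁)
  have hle : Nat.card A ≤ Nat.card (fcMult Q) :=
    Nat.card_le_card_of_surjective (fun m => e₀ (f₁ m)) (e₀.surjective.comp hf₁)
  let g : A →* fcMult Q := e.toMonoidHom.comp π
  have hg : Function.Surjective g := e.surjective.comp hπ
  have hgb : Function.Bijective g := hg.bijective_of_nat_card_le hle
  exact ⟨MulEquiv.ofBijective g hgb⟩

end cover

end Cfsg.Agent.H1
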