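import Mathlib
import Cfsg.Agent.H1.Basic
import Cfsg.Agent.H1.BaerTrick
import Cfsg.Agent.H1.PerfectCover
import Cfsg.Agent.H1.SchurCover
import Cfsg.Agent.H1.StemMeta
import Cfsg.Prelude.Def_KGroupFacts

set_option autoImplicit false

namespace Cfsg.Agent.H1

open Cfsg
open scoped commutatorElement

universe u v w

section divisible

/-- `ℂˣ` is divisible -/
lemma complexUnits_root (z : ℂˣ) (n : ℤ) (hn : n ≠ 0) : ∃ w : ℂˣ, w ^ n = z := by
  have hk : 0 < n.natAbs := Int.natAbs_pos.2 hn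
  obtain ⟨w, hw⟩ := IsAlgClosed.exists_pow_nat_eq (z : ℂ) hk
  have hw0 : w ≠ 0 := by
    rintro rfl
    rw [zero_pow hk.ne'] at hw
    exact z.ne_zero hw.symm
  have hwu : (Units.mk0 w hw0) ^ n.natAbs = z := by
    apply Units.ext
    rw [Units.val_pow_eq_pow_val]
    exact hw
  rcases Int.natAbs_eq n with h | h
  · refine ⟨Units.mk0 w hw0, ?_⟩
    rw [h, zpow_natCast]; exact hwu
  · refine ⟨(Units.mk0 w hw0)⁻¹, ?_⟩
    rw [h, zpow_neg, zpow_natCast, inv_pow, inv_inv]; exact hwu

noncomputable instance complexUnits_divisible : DivisibleBy (Additive ℂˣ) ℤ := by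
  classical
  exact
    { div := fun a n => if h : n = 0 then 0 else
        Additive.ofMul (complexUnits_root (Additive.toMul a) n h).choose
      div_zero := fun a => dif_pos rfl
      div_cancel := fun {n} a hn => by
        rw [dif_neg hn]
        have := (complexUnits_root (Additive.toMul a) n hn).choose_spec
        show Additive.ofMul ((complexUnits_root (Additive.toMul a) n hn).choose ^ n) = a
        rw [this]; rfl }

lemma complexUnits_baer : Module.Baer ℤ (Additive ℂˣ) := Module.Baer.of_divisible _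

end divisible

section lifting

variable {Q : Type u} [Group Q] {Γ : Type v} [Group Γ]

/-- two homomorphisms that agree modulo the centre agree on the commutator subgroup -/
lemma commutator_le_eqLocus_of_central {G : Type*} {H : Type*} [Group G] [Group H] (f₁ f₂ : G →* H)
    (h : ∀ g, (f₂ g)⁻¹ * f₁ g ∈ Subgroup.center H) : commutator G ≤ f₁.eqLocus f₂ := by
  rw [commutator_eq_closure, Subgroup.closure_le]
  rintro _ ⟨a, b, rfl⟩
  show f₁ ⁅a, b⁆ = f₂ ⁅a, b⁆
  rw [map_commutatorElement, map_commutatorElement]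
  have ea : f₁ a = f₂ a * ((f₂ a)⁻¹ * f₁ a) := by group
  have eb : f₁ b = f₂ b * ((f₂ b)⁻¹ * f₁ b) := by group
  rw [ea, eb, comm_mul_central _ _ _ _ (h a) (h b)]

/-- if the lift `θ` of the free central extension to a stem extension is injective on the multiplier, the kernel
is isomorphic to the multiplier -/
lemma mult_equiv_ker_of_injOn (σ : Γ →* Q) (hσ : IsStemExtension σ) (θ : FC Q →* Γ)
    (hθ : σ.comp θ = fcProj Q) (hinj : ∀ m ∈ fcMult Q, θ m = 1 → m = 1) :
    Nonempty (fcMult Q ≃* σ.ker) := by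
  obtain ⟨_, hker⟩ := stem_lift_surjective σ hσ θ hθ
  have hmem : ∀ m : fcMult Q, θ (m : FC Q) ∈ σ.ker := by
    intro m; rw [hker]; exact ⟨m, m.2, rfl⟩
  let g : fcMult Q →* σ.ker :=
    { toFun := fun m => ⟨θ (m : FC Q), hmem m⟩
      map_one' := Subtype.ext (map_one θ)
      map_mul' := fun a b => Subtype.ext (map_mul θ _ _) }
  have hginj : Function.Injective g := by
    rw [injective_iff_map_eq_one]
    intro m hm
    have h3 : θ (m : FC Q) = 1 := congrArg Subtype.val hm
    exact Subtype.ext (hinj _ m.2 h3)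
  have hgsurj : Function.Surjective g := by
    have h3 : ∀ y ∈ σ.ker, ∃ m ∈ fcMult Q, θ m = y := by
      intro y hy; rw [hker] at hy; exact hy
    intro x
    obtain ⟨m, hm, hmx⟩ := h3 x.1 x.2
    exact ⟨⟨m, hm⟩, Subtype.ext hmx⟩
  exact ⟨MulEquiv.ofBijective g ⟨hginj, hgsurj⟩⟩

/-- **lifting to central extensions with divisible kernel**: a stem extension on which the multiplier embeds
lifts to every central extension of `Q` whose kernel is (the image of) a divisible group -/
theorem exists_lift_of_divisible (σ : Γ →* Q) (hσ : IsStemExtension σ) (θΓ : FC Q →* Γ)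
    (hθΓ : σ.comp θΓ = fcProj Q) (hinj : ∀ m ∈ fcMult Q, θΓ m = 1 → m = 1)
    {X : Type w} [Group X] (ξ : X →* Q) (hξs : Function.Surjective ξ)
    (hξc : ξ.ker ≤ Subgroup.center X) {D : Type} [CommGroup D] (hD : Module.Baer ℤ (Additive D))
    (ι : D →* X) (hιi : Function.Injective ι) (hιr : ι.range = ξ.ker) :
    ∃ ρ : Γ →* X, ξ.comp ρ = σ := by
  classical
  obtain ⟨θX, hθX⟩ := fc_lift Q ξ hξs hξc
  have hθX' : ∀ p, ξ (θX p) = fcProj Q p := fun p => DFunLike.congr_fun hθX p
  have hθΓ' : ∀ p, σ (θΓ p) = fcProj Q p := fun p => DFunLike.congr_fun hθΓ p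
  obtain ⟨hθΓs, _⟩ := stem_lift_surjective σ hσ θΓ hθΓ
  let L : Subgroup (FC Q) := θΓ.ker
  have hLZ : L ≤ (fcProj Q).ker := by
    intro x hx
    have hx' : θΓ x = 1 := hx
    rw [MonoidHom.mem_ker, ← hθΓ', hx', map_one]
  have hLc : L ≤ Subgroup.center (FC Q) := le_trans hLZ (fcProj_ker_le_center Q)
  have hLcomm : ∀ x ∈ L, x ∈ commutator (FC Q) → x = 1 := by
    intro x hx hxc
    exact hinj x (Subgroup.mem_inf.2 ⟨hLZ hx, hxc⟩) hx
  letI : CommGroup L := { (inferInstance : Group L) with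
    mul_comm := fun a b => Subtype.ext (Subgroup.mem_center_iff.1 (hLc b.2) a.1) }
  let f : Additive L →+ Additive (Abelianization (FC Q)) :=
    MonoidHom.toAdditive ((Abelianization.of).comp L.subtype)
  have hf : Function.Injective f := by
    rw [injective_iff_map_eq_zero]
    intro a ha
    have h1 : Abelianization.of ((Additive.toMul a : L) : FC Q) = 1 := ha
    have h2 : ((Additive.toMul a : L) : FC Q) ∈ commutator (FC Q) :=
      (QuotientGroup.eq_one_iff _).1 h1
    have h3 := hLcomm _ (Additive.toMul a : L).2 h2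
    have h4 : (Additive.toMul a : L) = 1 := Subtype.ext h3
    exact h4
  have hd : ∀ x : L, ∃ d : D, ι d = θX (x : FC Q) := by
    intro x
    have h1 : θX (x : FC Q) ∈ ξ.ker := by
      rw [MonoidHom.mem_ker, hθX']; exact hLZ x.2
    rw [← hιr] at h1
    exact h1
  choose d hd using hd
  let g₀ : L →* D :=
    { toFun := fun x => (d x)⁻¹
      map_one' := by
        rw [inv_eq_one]
        apply hιi
        rw [hd, map_one, Subgroup.coe_one, map_one]
      map_mul' := fun a b => by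
        rw [← mul_inv]
        congr 1
        apply hιi
        rw [hd, map_mul, hd, hd, Subgroup.coe_mul, map_mul] }
  let g : Additive L →+ Additive D := MonoidHom.toAdditive g₀
  obtain ⟨h, hh⟩ := hD.extension_property_addMonoidHom f hf g
  let χ₀ : FC Q →* D := (AddMonoidHom.toMultiplicative h : Multiplicative (Additive (Abelianization (FC Q))) →* Multiplicative (Additive D)).comp
    ((Abelianization.of : FC Q →* Abelianization (FC Q)))
  have hχ₀L : ∀ x : L, χ₀ (x : FC Q) = (d x)⁻¹ := by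
    intro x
    have := DFunLike.congr_fun hh (Additive.ofMul x)
    exact this
  let χ : FC Q →* X := ι.comp χ₀
  have hχc : ∀ p, χ p ∈ Subgroup.center X := by
    intro p
    apply hξc
    rw [← hιr]
    exact ⟨χ₀ p, rfl⟩
  have hχker : ∀ p, ξ (χ p) = 1 := by
    intro p
    have : χ p ∈ ξ.ker := by rw [← hιr]; exact ⟨χ₀ p, rfl⟩
    exact this
  let θ' : FC Q →* X := MonoidHom.mk' (fun p => θX p * χ p) (fun p q => by
    show θX (p * q) * χ (p * q) = θX p * χ p * (θX q * χ q)
    rw [map_mul, map_mul]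
    have := Subgroup.mem_center_iff.1 (hχc p) (θX q)
    calc θX p * θX q * (χ p * χ q) = θX p * (θX q * χ p) * χ q := by group
      _ = θX p * (χ p * θX q) * χ q := by rw [this]
      _ = θX p * χ p * (θX q * χ q) := by group)
  have hθ'L : L ≤ θ'.ker := by
    intro x hx
    rw [MonoidHom.mem_ker]
    show θX x * ι (χ₀ x) = 1
    have := hχ₀L ⟨x, hx⟩
    rw [this, map_inv, hd, mul_inv_cancel]
  let e := QuotientGroup.quotientKerEquivOfSurjective θΓ hθΓs
  have he : ∀ p, e.symm (θΓ p) = QuotientGroup.mk p := by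
    intro p
    rw [MulEquiv.symm_apply_eq]
    rfl
  refine ⟨(QuotientGroup.lift L θ' hθ'L).comp e.symm.toMonoidHom, ?_⟩
  apply MonoidHom.ext
  intro y
  obtain ⟨p, rfl⟩ := hθΓs y
  show ξ (QuotientGroup.lift L θ' hθ'L (e.symm (θΓ p))) = σ (θΓ p)
  rw [he, hθΓ']
  show ξ (θX p * χ p) = _
  rw [map_mul, hχker, mul_one, hθX']

end lifting

section projective

open Matrix

/-- the projective general linear group, as in the statements -/
abbrev PGLn (n : ℕ) : Type := GL (Fin n) ℂ ⧸ Subgroup.center (GL (Fin n) ℂ)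

variable {Q : Type u} [Group Q] {Γ : Type v} [Group Γ]

/-- **projective representations lift** along a stem extension on which the multiplier embeds -/
theorem exists_lift_pgl (σ : Γ →* Q) (hσ : IsStemExtension σ) (θΓ : FC Q →* Γ)
    (hθΓ : σ.comp θΓ = fcProj Q) (hinj : ∀ m ∈ fcMult Q, θΓ m = 1 → m = 1) (n : ℕ)
    (γ : Q →* PGLn n) :
    ∃ ρ : Γ →* GL (Fin n) ℂ,
      (QuotientGroup.mk' (Subgroup.center (GL (Fin n) ℂ))).comp ρ = γ.comp σ := by
  classical
  rcases Nat.eq_zero_or_pos n with hn | hn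
  · subst hn
    haveI : Subsingleton (GL (Fin 0) ℂ) := ⟨fun a b => Units.ext (Subsingleton.elim _ _)⟩
    refine ⟨1, ?_⟩
    apply MonoidHom.ext
    intro g
    obtain ⟨a, ha⟩ := QuotientGroup.mk_surjective (γ (σ g))
    show QuotientGroup.mk ((1 : Γ →* GL (Fin 0) ℂ) g) = γ (σ g)
    rw [← ha, Subsingleton.elim a ((1 : Γ →* GL (Fin 0) ℂ) g)]
  · haveI : Nonempty (Fin n) := ⟨⟨0, hn⟩⟩
    let C := Subgroup.center (GL (Fin n) ℂ)
    let X : Subgroup (Q × GL (Fin n) ℂ) :=
      (γ.comp (MonoidHom.fst Q (GL (Fin n) ℂ))).eqLocus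
        ((QuotientGroup.mk' C).comp (MonoidHom.snd Q (GL (Fin n) ℂ)))
    have hX : ∀ p : Q × GL (Fin n) ℂ, p ∈ X ↔ γ p.1 = QuotientGroup.mk p.2 := fun p => Iff.rfl
    let ξ : X →* Q := (MonoidHom.fst Q (GL (Fin n) ℂ)).comp X.subtype
    have hξ : ∀ x : X, ξ x = (x : Q × GL (Fin n) ℂ).1 := fun x => rfl
    have hscal : ∀ z : ℂˣ, GeneralLinearGroup.scalar (Fin n) z ∈ C := by
      intro z
      show _ ∈ Subgroup.center (GL (Fin n) ℂ)
      rw [GeneralLinearGroup.center_eq_range_scalar]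
      exact ⟨z, rfl⟩
    have hιmem : ∀ z : ℂˣ, ((1 : Q), GeneralLinearGroup.scalar (Fin n) z) ∈ X := by
      intro z
      rw [hX]
      show γ 1 = QuotientGroup.mk (GeneralLinearGroup.scalar (Fin n) z)
      rw [map_one, (QuotientGroup.eq_one_iff _).2 (hscal z)]
    let ι : ℂˣ →* X :=
      { toFun := fun z => ⟨(1, GeneralLinearGroup.scalar (Fin n) z), hιmem z⟩
        map_one' := by
          apply Subtype.ext
          show ((1 : Q), GeneralLinearGroup.scalar (Fin n) 1) = 1
          rw [map_one]; rfl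
        map_mul' := fun a b => by
          apply Subtype.ext
          show ((1 : Q), GeneralLinearGroup.scalar (Fin n) (a * b)) =
            ((1 : Q), GeneralLinearGroup.scalar (Fin n) a) * ((1 : Q), GeneralLinearGroup.scalar (Fin n) b)
          rw [map_mul, Prod.mk_mul_mk, one_mul] }
    have hιi : Function.Injective ι := by
      intro a b hab
      have h1 : GeneralLinearGroup.scalar (Fin n) a = GeneralLinearGroup.scalar (Fin n) b :=
        congrArg (fun x : X => (x : Q × GL (Fin n) ℂ).2) hab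
      have h2 : Matrix.scalar (Fin n) (a : ℂ) = Matrix.scalar (Fin n) (b : ℂ) :=
        congrArg Units.val h1
      exact Units.ext (Matrix.scalar_inj.1 h2)
    have hιr : ι.range = ξ.ker := by
      ext x
      constructor
      · rintro ⟨z, rfl⟩
        rw [MonoidHom.mem_ker]; rfl
      · intro hx
        rw [MonoidHom.mem_ker, hξ] at hx
        have h1 : (x : Q × GL (Fin n) ℂ).2 ∈ Subgroup.center (GL (Fin n) ℂ) := by
          have := (hX _).1 x.2
          rw [hx, map_one] at this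
          exact (QuotientGroup.eq_one_iff _).1 this.symm
        rw [GeneralLinearGroup.center_eq_range_scalar] at h1
        obtain ⟨z, hz⟩ := h1
        refine ⟨z, ?_⟩
        apply Subtype.ext
        exact Prod.ext hx.symm hz
    have hξc : ξ.ker ≤ Subgroup.center X := by
      rw [← hιr]
      rintro _ ⟨z, rfl⟩
      rw [Subgroup.mem_center_iff]
      intro y
      apply Subtype.ext
      apply Prod.ext
      · show (y : Q × GL (Fin n) ℂ).1 * 1 = 1 * (y : Q × GL (Fin n) ℂ).1
        rw [mul_one, one_mul]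
      · exact Subgroup.mem_center_iff.1 (hscal z) _
    have hξs : Function.Surjective ξ := by
      intro q
      obtain ⟨g, hg⟩ := QuotientGroup.mk_surjective (γ q)
      exact ⟨⟨(q, g), hg.symm⟩, rfl⟩
    obtain ⟨ρ₀, hρ₀⟩ := exists_lift_of_divisible σ hσ θΓ hθΓ hinj ξ hξs hξc complexUnits_baer ι hιi hιr
    refine ⟨((MonoidHom.snd Q (GL (Fin n) ℂ)).comp X.subtype).comp ρ₀, ?_⟩
    apply MonoidHom.ext
    intro g
    show QuotientGroup.mk ((ρ₀ g : Q × GL (Fin n) ℂ).2) = γ (σ g)
    rw [← (hX _).1 (ρ₀ g).2]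
    have : ξ (ρ₀ g) = σ g := DFunLike.congr_fun hρ₀ g
    rw [← this]
    rfl

/-- a finite group with a central subgroup `K` has, for each `1 ≠ k ∈ K`, a matrix representation in which `K` acts
by scalars and `k` acts non-trivially (induced from a character of `K`) -/
theorem exists_rep_scalar_on_central {G : Type u} [Group G] [Finite G] (K : Subgroup G)
    (hK : K ≤ Subgroup.center G) (k : G) (hk : k ∈ K) (hk1 : k ≠ 1) :
    ∃ (n : ℕ) (ρ : G →* GL (Fin n) ℂ), (∀ x ∈ K, ρ x ∈ Subgroup.center (GL (Fin n) ℂ)) ∧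
      ρ k ≠ 1 := by
  classical
  haveI hKn : K.Normal := by
    constructor
    intro n hn g
    have := Subgroup.mem_center_iff.1 (hK hn) g
    rw [this, mul_inv_cancel_right]; exact hn
  letI : CommGroup K := { (inferInstance : Group K) with
    mul_comm := fun a b => Subtype.ext (Subgroup.mem_center_iff.1 (hK b.2) a.1) }
  haveI : NeZero (Monoid.exponent K) := ⟨Monoid.exponent_ne_zero_of_finite⟩
  have hk' : (⟨k, hk⟩ : K) ≠ 1 := fun h => hk1 (congrArg Subtype.val h)
  obtain ⟨lam, hlam⟩ := CommGroup.exists_apply_ne_one_of_hasEnoughRootsOfUnity K ℂ hk'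
  let s : G ⧸ K → G := Quotient.out
  have hs : ∀ q : G ⧸ K, (QuotientGroup.mk (s q) : G ⧸ K) = q := fun q => QuotientGroup.out_eq' q
  let c : G ⧸ K → G → G := fun q g => s q * g * (s (q * QuotientGroup.mk g))⁻¹
  have hc : ∀ q g, c q g ∈ K := by
    intro q g
    apply (QuotientGroup.eq_one_iff _).1
    show (QuotientGroup.mk (s q * g * (s (q * QuotientGroup.mk g))⁻¹) : G ⧸ K) = 1
    rw [QuotientGroup.mk_mul, QuotientGroup.mk_mul, QuotientGroup.mk_inv, hs, hs, mul_inv_cancel]
  let cl : G ⧸ K → G → ℂ := fun q g => ((lam ⟨c q g, hc q g⟩ : ℂˣ) : ℂ)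
  have hcl_mul : ∀ q g h, cl q (g * h) = cl q g * cl (q * QuotientGroup.mk g) h := by
    intro q g h
    show ((lam ⟨c q (g * h), hc q (g * h)⟩ : ℂˣ) : ℂ) =
      ((lam ⟨c q g, hc q g⟩ : ℂˣ) : ℂ) * ((lam ⟨c (q * QuotientGroup.mk g) h, hc _ h⟩ : ℂˣ) : ℂ)
    rw [← Units.val_mul, ← map_mul]
    congr 2
    apply Subtype.ext
    show s q * (g * h) * (s (q * QuotientGroup.mk (g * h)))⁻¹ =
      s q * g * (s (q * QuotientGroup.mk g))⁻¹ *
        (s (q * QuotientGroup.mk g) * h * (s (q * QuotientGroup.mk g * QuotientGroup.mk h))⁻¹)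
    rw [QuotientGroup.mk_mul, ← mul_assoc q]
    group
  have hcl_K : ∀ q x (hx : x ∈ K), cl q x = ((lam ⟨x, hx⟩ : ℂˣ) : ℂ) := by
    intro q x hx
    show ((lam ⟨c q x, hc q x⟩ : ℂˣ) : ℂ) = _
    congr 2
    apply Subtype.ext
    show s q * x * (s (q * QuotientGroup.mk x))⁻¹ = x
    rw [(QuotientGroup.eq_one_iff x).2 hx, mul_one, Subgroup.mem_center_iff.1 (hK hx) (s q),
      mul_inv_cancel_right]
  let T : G → Module.End ℂ (G ⧸ K → ℂ) := fun g =>
    { toFun := fun φ q => cl q g * φ (q * QuotientGroup.mk g)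
      map_add' := fun φ ψ => by
        funext q
        show cl q g * (φ (q * QuotientGroup.mk g) + ψ (q * QuotientGroup.mk g)) = _
        rw [mul_add]; rfl
      map_smul' := fun a φ => by
        funext q
        show cl q g * (a * φ (q * QuotientGroup.mk g)) = a * (cl q g * φ (q * QuotientGroup.mk g))
        ring }
  have hT : ∀ g φ q, T g φ q = cl q g * φ (q * QuotientGroup.mk g) := fun _ _ _ => rfl
  have hTK : ∀ x (hx : x ∈ K), T x = ((lam ⟨x, hx⟩ : ℂˣ) : ℂ) • (1 : Module.End ℂ (G ⧸ K → ℂ)) := by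
    intro x hx
    apply LinearMap.ext
    intro φ
    funext q
    rw [hT, hcl_K q x hx, (QuotientGroup.eq_one_iff x).2 hx, mul_one]
    rfl
  let Trep : G →* Module.End ℂ (G ⧸ K → ℂ) :=
    { toFun := T
      map_one' := by
        rw [hTK 1 (one_mem _)]
        have : (⟨1, one_mem K⟩ : K) = 1 := rfl
        rw [this, map_one, Units.val_one, one_smul]
      map_mul' := fun g h => by
        apply LinearMap.ext
        intro φ
        funext q
        show T (g * h) φ q = T g (T h φ) q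
        rw [hT, hT, hT, hcl_mul, QuotientGroup.mk_mul, mul_assoc, mul_assoc] }
  haveI : Fintype (G ⧸ K) := Fintype.ofFinite _
  let n := Fintype.card (G ⧸ K)
  let e : (G ⧸ K) ≃ Fin n := Fintype.equivFin _
  let E : Module.End ℂ (G ⧸ K → ℂ) ≃ₐ[ℂ] Matrix (Fin n) (Fin n) ℂ :=
    LinearMap.toMatrixAlgEquiv'.trans (Matrix.reindexAlgEquiv ℂ ℂ e)
  let ρ : G →* GL (Fin n) ℂ := (Units.map (MonoidHomClass.toMonoidHom E)).comp Trep.toHomUnits
  have hρ : ∀ g, ((ρ g : GL (Fin n) ℂ) : Matrix (Fin n) (Fin n) ℂ) = E (T g) := fun g => rfl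
  refine ⟨n, ρ, ?_, ?_⟩
  · intro x hx
    rw [GeneralLinearGroup.mem_center_iff_val_mem_range_scalar]
    refine ⟨((lam ⟨x, hx⟩ : ℂˣ) : ℂ), ?_⟩
    rw [hρ, hTK x hx, map_smul, map_one]
    ext i j
    simp [Matrix.scalar_apply, Matrix.diagonal_apply, Matrix.one_apply]
  · intro h
    have h1 : E (T k) = 1 := by rw [← hρ, h]; rfl
    have h2 : T k = 1 := by
      apply E.injective
      rw [h1, map_one]
    rw [hTK k hk] at h2
    have h3 := congrFun (LinearMap.congr_fun h2 (fun _ => (1 : ℂ))) (1 : G ⧸ K)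
    have h4 : ((lam ⟨k, hk⟩ : ℂˣ) : ℂ) = 1 := by
      simpa using h3
    exact hlam (Units.ext h4)

end projective

section converse

open Matrix

variable {Q : Type u} [Group Q] {Γ : Type v} [Group Γ]

/-- if the kernel is at least as large as the multiplier, the multiplier embeds -/
lemma mult_injOn_of_card [Finite Q] (σ : Γ →* Q) (hσ : IsStemExtension σ) (θ : FC Q →* Γ)
    (hθ : σ.comp θ = fcProj Q) (hcard : Nat.card (fcMult Q) ≤ Nat.card σ.ker) :
    ∀ m ∈ fcMult Q, θ m = 1 → m = 1 := by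
  obtain ⟨_, hker⟩ := stem_lift_surjective σ hσ θ hθ
  have hmem : ∀ m : fcMult Q, θ (m : FC Q) ∈ σ.ker := by
    intro m; rw [hker]; exact ⟨m, m.2, rfl⟩
  let g : fcMult Q →* σ.ker :=
    { toFun := fun m => ⟨θ (m : FC Q), hmem m⟩
      map_one' := Subtype.ext (map_one θ)
      map_mul' := fun a b => Subtype.ext (map_mul θ _ _) }
  have hgsurj : Function.Surjective g := by
    have h3 : ∀ y ∈ σ.ker, ∃ m ∈ fcMult Q, θ m = y := by
      intro y hy; rw [hker] at hy; exact hy
    intro x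
    obtain ⟨m, hm, hmx⟩ := h3 x.1 x.2
    exact ⟨⟨m, hm⟩, Subtype.ext hmx⟩
  have hgb : Function.Bijective g := hgsurj.bijective_of_nat_card_le hcard
  intro m hm hθm
  have h1 : g ⟨m, hm⟩ = g 1 := by
    rw [map_one]; exact Subtype.ext hθm
  exact congrArg Subtype.val (hgb.1 h1)

/-- **converse**: if every projective representation of `Q` lifts along `σ`, the multiplier embeds -/
theorem mult_injOn_of_lifts [Finite Q] (σ : Γ →* Q)
    (hlift : ∀ (n : ℕ) (γ : Q →* PGLn n), ∃ ρ : Γ →* GL (Fin n) ℂ,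
      (QuotientGroup.mk' (Subgroup.center (GL (Fin n) ℂ))).comp ρ = γ.comp σ)
    (θΓ : FC Q →* Γ) (hθΓ : σ.comp θΓ = fcProj Q) :
    ∀ m ∈ fcMult Q, θΓ m = 1 → m = 1 := by
  intro m hm hθm
  by_contra hne
  obtain ⟨Γt, _, _, σt, hσt, ⟨et⟩⟩ := exists_schur_cover Q
  obtain ⟨θt, hθt⟩ := fc_lift Q σt hσt.1 hσt.2.1
  have hinjt := mult_injOn_of_card σt hσt θt hθt (Nat.card_congr et.symm.toEquiv).le
  have hθΓ' : ∀ p, σ (θΓ p) = fcProj Q p := fun p => DFunLike.congr_fun hθΓ p
  have hθt' : ∀ p, σt (θt p) = fcProj Q p := fun p => DFunLike.congr_fun hθt p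
  have hk1 : θt m ≠ 1 := fun h => hne (hinjt m hm h)
  have hk : θt m ∈ σt.ker := by
    rw [MonoidHom.mem_ker, hθt']
    exact fcMult_le_ker Q hm
  obtain ⟨n, ρt, hρtK, hρtk⟩ := exists_rep_scalar_on_central σt.ker hσt.2.1 (θt m) hk hk1
  let C := Subgroup.center (GL (Fin n) ℂ)
  have hle : σt.ker ≤ ((QuotientGroup.mk' C).comp ρt).ker := by
    intro x hx
    rw [MonoidHom.mem_ker]
    exact (QuotientGroup.eq_one_iff _).2 (hρtK x hx)
  let e := QuotientGroup.quotientKerEquivOfSurjective σt hσt.1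
  have he : ∀ g, e.symm (σt g) = QuotientGroup.mk g := by
    intro g
    rw [MulEquiv.symm_apply_eq]
    rfl
  let γ : Q →* PGLn n :=
    (QuotientGroup.lift σt.ker ((QuotientGroup.mk' C).comp ρt) hle).comp e.symm.toMonoidHom
  have hγ : ∀ g, γ (σt g) = QuotientGroup.mk (ρt g) := by
    intro g
    show QuotientGroup.lift σt.ker ((QuotientGroup.mk' C).comp ρt) hle (e.symm (σt g)) = _
    rw [he]; rfl
  obtain ⟨ρ, hρ⟩ := hlift n γ
  have hρ' : ∀ g, (QuotientGroup.mk (ρ g) : PGLn n) = γ (σ g) := fun g => DFunLike.congr_fun hρ g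
  have hab : ∀ p, ((ρt.comp θt) p)⁻¹ * (ρ.comp θΓ) p ∈ Subgroup.center (GL (Fin n) ℂ) := by
    intro p
    apply (QuotientGroup.eq_one_iff _).1
    show (QuotientGroup.mk ((ρt (θt p))⁻¹ * ρ (θΓ p)) : PGLn n) = 1
    rw [QuotientGroup.mk_mul, QuotientGroup.mk_inv, hρ', hθΓ', ← hγ, hθt', inv_mul_cancel]
  have h1 := commutator_le_eqLocus_of_central (ρ.comp θΓ) (ρt.comp θt) hab (fcMult_le_comm Q hm)
  have h2 : ρ (θΓ m) = ρt (θt m) := h1
  rw [hθm, map_one] at h2
  exact hρtk h2.symm

end converse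

end Cfsg.Agent.H1
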