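import Mathlib
import Cfsg.Agent.H1.Basic
import Cfsg.Agent.H1.BaerTrick
import Cfsg.Agent.H1.PerfectCover
import Cfsg.Agent.H1.SchurCover
import Cfsg.Agent.H1.SchurProj
import Cfsg.Prelude.Def_KGroupFacts

set_option autoImplicit false

namespace Cfsg.Agent.H1

open Cfsg
open scoped commutatorElement

universe u v w

section monomial

variable {G : Type u} [Group G] [Finite G]

/-- the monomial representation induced from a character `lam` of a central subgroup `K`, on functions on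
`G ⧸ K`, with explicit formula -/
theorem exists_monomial_rep (K : Subgroup G) [K.Normal] (hK : K ≤ Subgroup.center G)
    (lam : K →* ℂˣ) :
    ∃ (cl : G ⧸ K → G → ℂˣ) (T : G →* Module.End ℂ (G ⧸ K → ℂ)),
      (∀ g φ q, T g φ q = (cl q g : ℂ) * φ (q * QuotientGroup.mk g)) ∧
      (∀ q x (hx : x ∈ K), cl q x = lam ⟨x, hx⟩) := by
  classical
  let s : G ⧸ K → G := Quotient.out
  have hs : ∀ q : G ⧸ K, (QuotientGroup.mk (s q) : G ⧸ K) = q := fun q => QuotientGroup.out_eq' q
  let c : G ⧸ K → G → G := fun q g => s q * g * (s (q * QuotientGroup.mk g))⁻¹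
  have hc : ∀ q g, c q g ∈ K := by
    intro q g
    apply (QuotientGroup.eq_one_iff _).1
    show (QuotientGroup.mk (s q * g * (s (q * QuotientGroup.mk g))⁻¹) : G ⧸ K) = 1
    rw [QuotientGroup.mk_mul, QuotientGroup.mk_mul, QuotientGroup.mk_inv, hs, hs, mul_inv_cancel]
  let cl : G ⧸ K → G → ℂˣ := fun q g => lam ⟨c q g, hc q g⟩
  have hcl_mul : ∀ q g h, cl q (g * h) = cl q g * cl (q * QuotientGroup.mk g) h := by
    intro q g h
    show lam ⟨c q (g * h), hc q (g * h)⟩ =
      lam ⟨c q g, hc q g⟩ * lam ⟨c (q * QuotientGroup.mk g) h, hc _ h⟩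
    rw [← map_mul]
    congr 1
    apply Subtype.ext
    show s q * (g * h) * (s (q * QuotientGroup.mk (g * h)))⁻¹ =
      s q * g * (s (q * QuotientGroup.mk g))⁻¹ *
        (s (q * QuotientGroup.mk g) * h * (s (q * QuotientGroup.mk g * QuotientGroup.mk h))⁻¹)
    rw [QuotientGroup.mk_mul, ← mul_assoc q]
    group
  have hcl_K : ∀ q x (hx : x ∈ K), cl q x = lam ⟨x, hx⟩ := by
    intro q x hx
    show lam ⟨c q x, hc q x⟩ = _
    congr 1
    apply Subtype.ext
    show s q * x * (s (q * QuotientGroup.mk x))⁻¹ = x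
    rw [(QuotientGroup.eq_one_iff x).2 hx, mul_one, Subgroup.mem_center_iff.1 (hK hx) (s q),
      mul_inv_cancel_right]
  let T : G → Module.End ℂ (G ⧸ K → ℂ) := fun g =>
    { toFun := fun φ q => (cl q g : ℂ) * φ (q * QuotientGroup.mk g)
      map_add' := fun φ ψ => by
        funext q
        show (cl q g : ℂ) * (φ (q * QuotientGroup.mk g) + ψ (q * QuotientGroup.mk g)) = _
        rw [mul_add]; rfl
      map_smul' := fun a φ => by
        funext q
        show (cl q g : ℂ) * (a * φ (q * QuotientGroup.mk g)) =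
          a * ((cl q g : ℂ) * φ (q * QuotientGroup.mk g))
        ring }
  have hT : ∀ g φ q, T g φ q = (cl q g : ℂ) * φ (q * QuotientGroup.mk g) := fun _ _ _ => rfl
  let Trep : G →* Module.End ℂ (G ⧸ K → ℂ) :=
    { toFun := T
      map_one' := by
        apply LinearMap.ext
        intro φ
        funext q
        rw [hT, hcl_K q 1 (one_mem _)]
        have : (⟨1, one_mem K⟩ : K) = 1 := rfl
        rw [this, map_one, Units.val_one, one_mul, QuotientGroup.mk_one, mul_one]
        rfl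
      map_mul' := fun g h => by
        apply LinearMap.ext
        intro φ
        funext q
        show T (g * h) φ q = T g (T h φ) q
        rw [hT, hT, hT, hcl_mul, QuotientGroup.mk_mul, Units.val_mul, mul_assoc, mul_assoc] }
  exact ⟨cl, Trep, hT, hcl_K⟩

/-- **degrees of the twisted group algebra**: for a character `lam` of a central subgroup `K ≤ G'`, the index `|G : K|`
is a sum of squares of numbers `d` with `lam ^ d = 1` -/
theorem exists_degrees_of_central_character (K : Subgroup G) [K.Normal]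
    (hK : K ≤ Subgroup.center G) (hKd : K ≤ commutator G) (lam : K →* ℂˣ) :
    ∃ (r : ℕ) (d : Fin r → ℕ), ∑ i, (d i) ^ 2 = Nat.card (G ⧸ K) ∧ ∀ i, lam ^ (d i) = 1 := by
  classical
  obtain ⟨cl, T, hT, hclK⟩ := exists_monomial_rep K hK lam
  haveI : Fintype (G ⧸ K) := Fintype.ofFinite _
  let V := G ⧸ K → ℂ
  have hTK : ∀ x (hx : x ∈ K), T x = ((lam ⟨x, hx⟩ : ℂˣ) : ℂ) • (1 : Module.End ℂ V) := by
    intro x hx
    apply LinearMap.ext
    intro φ
    funext q
    rw [hT, hclK q x hx, (QuotientGroup.eq_one_iff x).2 hx, mul_one]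
    rfl
  haveI : NeZero (Nat.card G : ℂ) := ⟨Nat.cast_ne_zero.2 Nat.card_pos.ne'⟩
  let Φ : MonoidAlgebra ℂ G →ₐ[ℂ] Module.End ℂ V := MonoidAlgebra.lift ℂ (Module.End ℂ V) G T
  have hΦof : ∀ g, Φ (MonoidAlgebra.of ℂ G g) = T g := fun g => MonoidAlgebra.lift_of T g
  let 𝔄 : Subalgebra ℂ (Module.End ℂ V) := Φ.range
  haveI : IsSemisimpleRing (MonoidAlgebra ℂ G) :=
    inferInstanceAs (IsSemisimpleModule (MonoidAlgebra ℂ G) (MonoidAlgebra ℂ G))
  haveI : IsSemisimpleRing 𝔄 :=
    RingHom.isSemisimpleRing_of_surjective (Φ.rangeRestrict : MonoidAlgebra ℂ G →+* 𝔄)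
      Φ.rangeRestrict_surjective
  have hTmem : ∀ g, T g ∈ 𝔄 := fun g => ⟨MonoidAlgebra.of ℂ G g, hΦof g⟩
  -- the dimension of `𝔄`
  let s : G ⧸ K → G := Quotient.out
  have hs : ∀ q : G ⧸ K, (QuotientGroup.mk (s q) : G ⧸ K) = q := fun q => QuotientGroup.out_eq' q
  have hTspan : ∀ g, T g ∈ Submodule.span ℂ (Set.range (fun q => T (s q))) := by
    intro g
    have hk : g * (s (QuotientGroup.mk g))⁻¹ ∈ K := by
      apply (QuotientGroup.eq_one_iff _).1
      rw [QuotientGroup.mk_mul, QuotientGroup.mk_inv, hs, mul_inv_cancel]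
    have e : g = (g * (s (QuotientGroup.mk g))⁻¹) * s (QuotientGroup.mk g) := by group
    rw [e, map_mul, hTK _ hk, smul_mul_assoc, one_mul]
    exact Submodule.smul_mem _ _ (Submodule.subset_span ⟨_, rfl⟩)
  have hupper : Module.finrank ℂ 𝔄 ≤ Fintype.card (G ⧸ K) := by
    have h1 : Subalgebra.toSubmodule 𝔄 ≤ Submodule.span ℂ (Set.range (fun q => T (s q))) := by
      rintro _ ⟨f, rfl⟩
      show Φ f ∈ _
      have : Φ f = f.coeff.sum fun a b => b • T a := MonoidAlgebra.lift_apply T f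
      rw [this]
      apply Submodule.sum_mem
      intro a _
      exact Submodule.smul_mem _ _ (hTspan a)
    calc Module.finrank ℂ 𝔄 = Module.finrank ℂ (Subalgebra.toSubmodule 𝔄) := rfl
      _ ≤ Module.finrank ℂ (Submodule.span ℂ (Set.range (fun q => T (s q)))) :=
          Submodule.finrank_mono h1
      _ ≤ Fintype.card (G ⧸ K) := finrank_range_le_card _
  let ev : Module.End ℂ V →ₗ[ℂ] V :=
    { toFun := fun A y => A (Pi.single y 1) 1
      map_add' := fun A B => rfl
      map_smul' := fun a A => rfl }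
  have hev : ∀ y, ev (T (s y)) = ((cl 1 (s y) : ℂˣ) : ℂ) • (Pi.single y 1 : V) := by
    intro y
    funext z
    show T (s y) (Pi.single z 1) 1 = ((cl 1 (s y) : ℂˣ) : ℂ) * (Pi.single y 1 : V) z
    rw [hT, hs, one_mul]
    congr 1
    by_cases hzy : z = y
    · rw [hzy, Pi.single_eq_same]
    · rw [Pi.single_eq_of_ne hzy, Pi.single_eq_of_ne (Ne.symm hzy)]
  have hlower : Fintype.card (G ⧸ K) ≤ Module.finrank ℂ 𝔄 := by
    let ev' : 𝔄 →ₗ[ℂ] V := ev.comp (Subalgebra.val 𝔄).toLinearMap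
    have hsurj : LinearMap.range ev' = ⊤ := by
      rw [eq_top_iff]
      intro φ _
      have : φ = ∑ y, φ y • (Pi.single y 1 : V) := by
        funext z
        rw [Finset.sum_apply]
        simp [Pi.single_apply]
      rw [this]
      apply Submodule.sum_mem
      intro y _
      apply Submodule.smul_mem
      have h2 : (Pi.single y 1 : V) = ev' ((((cl 1 (s y) : ℂˣ) : ℂ)⁻¹) • ⟨T (s y), hTmem _⟩) := by
        rw [map_smul]
        show _ = (((cl 1 (s y) : ℂˣ) : ℂ)⁻¹) • ev (T (s y))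
        rw [hev, smul_smul, inv_mul_cancel₀ (Units.ne_zero _), one_smul]
      rw [h2]
      exact LinearMap.mem_range_self _ _
    calc Fintype.card (G ⧸ K) = Module.finrank ℂ V := (Module.finrank_fintype_fun_eq_card ℂ).symm
      _ = Module.finrank ℂ (LinearMap.range ev') := by rw [hsurj, finrank_top]
      _ ≤ Module.finrank ℂ 𝔄 := LinearMap.finrank_range_le ev'
  have hdim : Module.finrank ℂ 𝔄 = Nat.card (G ⧸ K) := by
    rw [Nat.card_eq_fintype_card]; exact le_antisymm hupper hlower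
  -- Wedderburn–Artin
  obtain ⟨r, d, hd, ⟨E⟩⟩ := IsSemisimpleRing.exists_algEquiv_pi_matrix_of_isAlgClosed ℂ 𝔄
  have hsum : ∑ i, (d i) ^ 2 = Nat.card (G ⧸ K) := by
    rw [← hdim, E.toLinearEquiv.finrank_eq, Module.finrank_pi_fintype]
    apply Finset.sum_congr rfl
    intro i _
    rw [Module.finrank_matrix, Fintype.card_fin, Module.finrank_self, mul_one, sq]
  refine ⟨r, d, hsum, ?_⟩
  intro i
  -- the representation on the `i`-th block
  let πi : 𝔄 →ₐ[ℂ] Matrix (Fin (d i)) (Fin (d i)) ℂ :=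
    (Pi.evalAlgHom ℂ (fun j => Matrix (Fin (d j)) (Fin (d j)) ℂ) i).comp E.toAlgHom
  let ρi : G →* Matrix (Fin (d i)) (Fin (d i)) ℂ :=
    { toFun := fun g => πi ⟨T g, hTmem g⟩
      map_one' := by
        have : (⟨T 1, hTmem 1⟩ : 𝔄) = 1 := Subtype.ext (map_one T)
        rw [this, map_one]
      map_mul' := fun g h => by
        have : (⟨T (g * h), hTmem (g * h)⟩ : 𝔄) = ⟨T g, hTmem g⟩ * ⟨T h, hTmem h⟩ :=
          Subtype.ext (map_mul T g h)
        rw [this, map_mul] }
  let δ : G →* ℂˣ := (Matrix.detMonoidHom.comp ρi).toHomUnits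
  have hδ : ∀ g, ((δ g : ℂˣ) : ℂ) = Matrix.det (ρi g) := fun g => rfl
  apply MonoidHom.ext
  intro k
  have hk1 : δ (k : G) = 1 := by
    have : (k : G) ∈ δ.ker := Abelianization.commutator_subset_ker δ (hKd k.2)
    exact this
  have hk2 : ρi (k : G) = ((lam k : ℂˣ) : ℂ) • (1 : Matrix (Fin (d i)) (Fin (d i)) ℂ) := by
    show πi ⟨T (k : G), hTmem _⟩ = _
    have : (⟨T (k : G), hTmem _⟩ : 𝔄) = ((lam k : ℂˣ) : ℂ) • (1 : 𝔄) := by
      apply Subtype.ext
      show T (k : G) = ((lam k : ℂˣ) : ℂ) • (1 : Module.End ℂ V)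
      rw [hTK _ k.2]
    rw [this, map_smul, map_one]
  have hk3 : ((δ (k : G) : ℂˣ) : ℂ) = ((lam k : ℂˣ) : ℂ) ^ (d i) := by
    rw [hδ, hk2, Matrix.det_smul, Matrix.det_one, mul_one, Fintype.card_fin]
  rw [hk1, Units.val_one] at hk3
  show (lam ^ (d i)) k = (1 : K →* ℂˣ) k
  rw [MonoidHom.pow_apply, MonoidHom.one_apply]
  apply Units.ext
  rw [Units.val_pow_eq_pow_val, ← hk3, Units.val_one]

end monomial

end Cfsg.Agent.H1
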