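import Mathlib
import Cfsg.Agent.H1.Basic
import Cfsg.Agent.H1.BaerTrick
import Cfsg.Agent.H1.PerfectCover
import Cfsg.Agent.H1.SchurCover
import Cfsg.Agent.H1.SchurProj
import Cfsg.Prelude.Def_KGroupFacts

set_option autoImplicit false

namespace Cfsg.Agent.H1

section alg

/-- the kernel of a map from `ℤ^r` to a free module of rank `n` with finite cokernel is generated by `r - n`
elements -/
lemma exists_linearMap_range_eq_ker {r n : ℕ} {M : Type*} [AddCommGroup M] [Module.Free ℤ M]
    [Module.Finite ℤ M] (hM : Module.finrank ℤ M = n) (L : (Fin r → ℤ) →ₗ[ℤ] M)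
    (hfin : Finite (M ⧸ LinearMap.range L)) :
    ∃ g : (Fin (r - n) → ℤ) →ₗ[ℤ] (Fin r → ℤ), LinearMap.range g = LinearMap.ker L := by
  have htors : Module.IsTorsion ℤ (M ⧸ LinearMap.range L) := by
    intro x
    have hk : 0 < addOrderOf x := addOrderOf_pos x
    refine ⟨⟨(addOrderOf x : ℤ), mem_nonZeroDivisors_of_ne_zero (by exact_mod_cast hk.ne')⟩, ?_⟩
    show (addOrderOf x : ℤ) • x = 0
    rw [Nat.cast_smul_eq_nsmul, addOrderOf_nsmul_eq_zero]
  have h0 : Module.finrank ℤ (M ⧸ LinearMap.range L) = 0 :=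
    Module.finrank_eq_zero_iff_isTorsion.2 htors
  have h1 : Module.finrank ℤ (LinearMap.range L) = n := by
    have := (LinearMap.range L).finrank_quotient_add_finrank
    rw [h0, zero_add, hM] at this
    exact this
  have h2 : Module.finrank ℤ ((Fin r → ℤ) ⧸ LinearMap.ker L) = n := by
    rw [← h1]
    exact L.quotKerEquivRange.finrank_eq
  have h3 : Module.finrank ℤ (LinearMap.ker L) = r - n := by
    have := (LinearMap.ker L).finrank_quotient_add_finrank
    rw [h2, Module.finrank_fin_fun] at this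
    omega
  let b := Module.finBasis ℤ (LinearMap.ker L)
  let e : (Fin (r - n) → ℤ) ≃ₗ[ℤ] LinearMap.ker L :=
    (LinearEquiv.funCongrLeft ℤ ℤ (finCongr h3)).trans b.equivFun.symm
  refine ⟨(LinearMap.ker L).subtype.comp e.toLinearMap, ?_⟩
  rw [LinearMap.range_comp, LinearEquiv.range, Submodule.map_top, Submodule.range_subtype]

end alg

section presentation

open Cfsg
open scoped commutatorElement
open scoped IsMulCommutative

variable {α : Type} (N : Subgroup (FreeGroup α)) [N.Normal]

/-- `[N, F]` -/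
def pcKer : Subgroup (FreeGroup α) := ⁅N, (⊤ : Subgroup (FreeGroup α))⁆

instance pcKer_normal : (pcKer N).Normal := by
  unfold pcKer; infer_instance

lemma pcKer_le : pcKer N ≤ N := Subgroup.commutator_le_left _ _

lemma pcKer_le_commutator : pcKer N ≤ commutator (FreeGroup α) := by
  unfold pcKer; rw [commutator_def]; exact Subgroup.commutator_mono le_top le_rfl

/-- the central extension `F / [N, F]` of `F / N` -/
abbrev PC : Type := FreeGroup α ⧸ pcKer N

/-- the projection `F / [N, F] → F / N` -/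
def pcProj : PC N →* FreeGroup α ⧸ N :=
  QuotientGroup.lift (pcKer N) (QuotientGroup.mk' N)
    (by rw [QuotientGroup.ker_mk']; exact pcKer_le N)

lemma pcProj_mk (f : FreeGroup α) : pcProj N (QuotientGroup.mk f) = QuotientGroup.mk f := rfl

lemma pcProj_surjective : Function.Surjective (pcProj N) := by
  intro q
  obtain ⟨f, rfl⟩ := QuotientGroup.mk_surjective q
  exact ⟨QuotientGroup.mk f, rfl⟩

lemma mem_pcProj_ker_iff (f : FreeGroup α) :
    (QuotientGroup.mk f : PC N) ∈ (pcProj N).ker ↔ f ∈ N := by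
  rw [MonoidHom.mem_ker, pcProj_mk, QuotientGroup.eq_one_iff]

lemma pcProj_ker_le_center : (pcProj N).ker ≤ Subgroup.center (PC N) := by
  intro x hx
  obtain ⟨r, rfl⟩ := QuotientGroup.mk_surjective x
  rw [mem_pcProj_ker_iff] at hx
  rw [Subgroup.mem_center_iff]
  intro y
  obtain ⟨f, rfl⟩ := QuotientGroup.mk_surjective y
  have h1 : ⁅r, f⁆ ∈ pcKer N := Subgroup.commutator_mem_commutator hx trivial
  have h2 : ((⁅r, f⁆ : FreeGroup α) : PC N) = 1 := (QuotientGroup.eq_one_iff _).2 h1
  have h3 : ⁅((r : FreeGroup α) : PC N), ((f : FreeGroup α) : PC N)⁆ = 1 := by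
    rw [← h2]; rfl
  rw [commutatorElement_eq_one_iff_mul_comm] at h3
  exact h3.symm

/-- the class map `F / [N, F] → Fᵃᵇ` -/
def pcCls : PC N →* Abelianization (FreeGroup α) :=
  QuotientGroup.lift (pcKer N) Abelianization.of
    (fun x hx => by
      rw [MonoidHom.mem_ker]
      exact (QuotientGroup.eq_one_iff _).2 (pcKer_le_commutator N hx))

lemma pcCls_mk (f : FreeGroup α) : pcCls N (QuotientGroup.mk f) = Abelianization.of f := rfl

lemma pcCls_eq_one_iff (x : PC N) : pcCls N x = 1 ↔ x ∈ commutator (PC N) := by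
  constructor
  · intro h
    obtain ⟨f, rfl⟩ := QuotientGroup.mk_surjective x
    rw [pcCls_mk] at h
    have hf : f ∈ commutator (FreeGroup α) := (QuotientGroup.eq_one_iff _).1 h
    have hmap : (commutator (FreeGroup α)).map (QuotientGroup.mk' (pcKer N)) ≤ commutator (PC N) := by
      rw [commutator_def, Subgroup.map_commutator, commutator_def]
      exact Subgroup.commutator_mono le_top le_top
    exact hmap ⟨f, hf, rfl⟩
  · intro h
    exact Abelianization.commutator_subset_ker (pcCls N) h

/-- the presentation extension maps to the free central extension -/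
theorem pc_to_fc : ∃ θ' : PC N →* FC (FreeGroup α ⧸ N),
    (fcProj (FreeGroup α ⧸ N)).comp θ' = pcProj N := by
  classical
  have hsec : ∀ a : α, ∃ x : FC (FreeGroup α ⧸ N),
      fcProj (FreeGroup α ⧸ N) x = QuotientGroup.mk (FreeGroup.of a) :=
    fun a => fcProj_surjective _ _
  choose s hs using hsec
  let θ₀ : FreeGroup α →* FC (FreeGroup α ⧸ N) := FreeGroup.lift s
  have hθ₀ : (fcProj (FreeGroup α ⧸ N)).comp θ₀ = QuotientGroup.mk' N := by
    apply FreeGroup.ext_hom
    intro a
    show fcProj _ (FreeGroup.lift s (FreeGroup.of a)) = _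
    rw [FreeGroup.lift_apply_of, hs]; rfl
  have hθ₀' : ∀ f, fcProj (FreeGroup α ⧸ N) (θ₀ f) = QuotientGroup.mk f :=
    fun f => DFunLike.congr_fun hθ₀ f
  have hker : pcKer N ≤ θ₀.ker := by
    unfold pcKer
    rw [Subgroup.commutator_le]
    intro r hr f _
    rw [MonoidHom.mem_ker, map_commutatorElement]
    apply comm_central_left
    apply fcProj_ker_le_center
    rw [MonoidHom.mem_ker, hθ₀']
    exact (QuotientGroup.eq_one_iff _).2 hr
  refine ⟨QuotientGroup.lift (pcKer N) θ₀ hker, ?_⟩
  apply MonoidHom.ext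
  intro x
  obtain ⟨f, rfl⟩ := QuotientGroup.mk_surjective x
  exact hθ₀' f

/-- **Hopf's formula for any presentation**: the multiplier is isomorphic to `(N ∩ F') / [N, F]` -/
theorem mult_equiv_pc :
    Nonempty (fcMult (FreeGroup α ⧸ N) ≃* ↥((pcProj N).ker ⊓ commutator (PC N))) := by
  obtain ⟨θ, hθ⟩ := fc_lift (FreeGroup α ⧸ N) (pcProj N) (pcProj_surjective N) (pcProj_ker_le_center N)
  obtain ⟨θ', hθ'⟩ := pc_to_fc N
  obtain ⟨h1, _⟩ := ker_inf_commutator_eq_map (pcProj N) (pcProj_ker_le_center N) θ hθ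
  have hcomp : ∀ x, (x)⁻¹ * θ' (θ x) ∈ Subgroup.center (FC (FreeGroup α ⧸ N)) := by
    intro x
    apply fcProj_ker_le_center
    rw [MonoidHom.mem_ker, map_mul, map_inv]
    have e1 : fcProj _ (θ' (θ x)) = pcProj N (θ x) := DFunLike.congr_fun hθ' (θ x)
    have e2 : pcProj N (θ x) = fcProj _ x := DFunLike.congr_fun hθ x
    rw [e1, e2, inv_mul_cancel]
  have hid := commutator_le_eqLocus_of_central (θ'.comp θ) (MonoidHom.id _) hcomp
  have hinj : ∀ m ∈ fcMult (FreeGroup α ⧸ N), θ' (θ m) = m :=
    fun m hm => hid (fcMult_le_comm _ hm)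
  have hmem : ∀ m : fcMult (FreeGroup α ⧸ N),
      θ (m : FC (FreeGroup α ⧸ N)) ∈ (pcProj N).ker ⊓ commutator (PC N) := by
    intro m; rw [h1]; exact ⟨m, m.2, rfl⟩
  let g : fcMult (FreeGroup α ⧸ N) →* ↥((pcProj N).ker ⊓ commutator (PC N)) :=
    { toFun := fun m => ⟨θ (m : FC (FreeGroup α ⧸ N)), hmem m⟩
      map_one' := Subtype.ext (map_one θ)
      map_mul' := fun a b => Subtype.ext (map_mul θ _ _) }
  have hginj : Function.Injective g := by
    intro a b hab
    have h2 : θ (a : FC (FreeGroup α ⧸ N)) = θ (b : FC (FreeGroup α ⧸ N)) :=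
      congrArg Subtype.val hab
    apply Subtype.ext
    rw [← hinj a a.2, ← hinj b b.2, h2]
  have hgsurj : Function.Surjective g := by
    have h3 : ∀ y ∈ (pcProj N).ker ⊓ commutator (PC N),
        ∃ m ∈ fcMult (FreeGroup α ⧸ N), θ m = y := by
      intro y hy; rw [h1] at hy; exact hy
    intro x
    obtain ⟨m, hm, hmx⟩ := h3 x.1 x.2
    exact ⟨⟨m, hm⟩, Subtype.ext hmx⟩
  exact ⟨MulEquiv.ofBijective g ⟨hginj, hgsurj⟩⟩

end presentation

section relators

open Cfsg
open scoped commutatorElement
open scoped IsMulCommutative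

lemma rank_multiplicative_pi_int_le (k : ℕ) [Group.FG (Multiplicative (Fin k → ℤ))] :
    Group.rank (Multiplicative (Fin k → ℤ)) ≤ k := by
  classical
  let S : Finset (Multiplicative (Fin k → ℤ)) :=
    Finset.univ.image (fun i : Fin k => Multiplicative.ofAdd (Pi.single i (1 : ℤ)))
  have hS : Subgroup.closure (S : Set (Multiplicative (Fin k → ℤ))) = ⊤ := by
    rw [eq_top_iff]
    intro v _
    have hv : v = ∏ i : Fin k,
        (Multiplicative.ofAdd (Pi.single i (1 : ℤ)) : Multiplicative (Fin k → ℤ)) ^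
          (Multiplicative.toAdd v i) := by
      have h1 : Multiplicative.toAdd v = ∑ i : Fin k, (Multiplicative.toAdd v i) • Pi.single i (1 : ℤ) := by
        funext j
        rw [Finset.sum_apply]
        simp [Pi.single_apply]
      calc v = Multiplicative.ofAdd (Multiplicative.toAdd v) := rfl
        _ = Multiplicative.ofAdd (∑ i : Fin k, (Multiplicative.toAdd v i) • Pi.single i (1 : ℤ)) := by
            rw [← h1]
        _ = _ := by
            rw [ofAdd_sum]
            exact Finset.prod_congr rfl (fun i _ => ofAdd_zsmul _ _)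
    rw [hv]
    apply Subgroup.prod_mem
    intro i _
    apply Subgroup.zpow_mem
    apply Subgroup.subset_closure
    exact Finset.mem_coe.2 (Finset.mem_image.2 ⟨i, Finset.mem_univ _, rfl⟩)
  calc Group.rank (Multiplicative (Fin k → ℤ)) ≤ S.card := Group.rank_le hS
    _ ≤ (Finset.univ : Finset (Fin k)).card := Finset.card_image_le
    _ = k := by rw [Finset.card_univ, Fintype.card_fin]

variable {α : Type} [Fintype α] (rels : Finset (FreeGroup α))

/-- **deficiency bound**: the multiplier of a finite group presented with `|α|` generators and `r` relators is an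
image of `ℤ^(r - |α|)` -/
theorem exists_surjective_to_mult_of_presentation
    [Finite (FreeGroup α ⧸ Subgroup.normalClosure (rels : Set (FreeGroup α)))] :
    ∃ f : Multiplicative (Fin (rels.card - Fintype.card α) → ℤ) →*
        fcMult (FreeGroup α ⧸ Subgroup.normalClosure (rels : Set (FreeGroup α))),
      Function.Surjective f := by
  classical
  obtain ⟨N, hN⟩ : ∃ N, N = Subgroup.normalClosure (rels : Set (FreeGroup α)) := ⟨_, rfl⟩
  haveI : N.Normal := by rw [hN]; infer_instance
  have hfinG : Finite (FreeGroup α ⧸ N) := by subst hN; infer_instance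
  have hrelN : ∀ x ∈ rels, x ∈ N := by
    intro x hx; rw [hN]; exact Subgroup.subset_normalClosure (Finset.mem_coe.2 hx)
  suffices h : ∃ f : Multiplicative (Fin (rels.card - Fintype.card α) → ℤ) →*
      fcMult (FreeGroup α ⧸ N), Function.Surjective f by
    subst hN; exact h
  let r := rels.card
  let en : rels ≃ Fin r := rels.equivFin
  let rel : Fin r → FreeGroup α := fun j => ((en.symm j : rels) : FreeGroup α)
  have hrel : ∀ j, rel j ∈ N := fun j => hrelN _ (en.symm j).2
  let zc : Fin r → Subgroup.center (PC N) := fun j =>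
    ⟨QuotientGroup.mk (rel j), pcProj_ker_le_center N ((mem_pcProj_ker_iff N _).2 (hrel j))⟩
  let Phom : Multiplicative (Fin r → ℤ) →* Subgroup.center (PC N) :=
    MonoidHom.mk' (fun v => ∏ j, zc j ^ (Multiplicative.toAdd v j)) (fun v w => by
      simp only [toAdd_mul, Pi.add_apply, zpow_add, Finset.prod_mul_distrib])
  have hP : ∀ v, Phom v = ∏ j, zc j ^ (Multiplicative.toAdd v j) := fun v => rfl
  let Pc : Multiplicative (Fin r → ℤ) →* PC N := (Subgroup.center (PC N)).subtype.comp Phom
  have hPker : ∀ v, Pc v ∈ (pcProj N).ker := by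
    intro v
    let Kc : Subgroup (Subgroup.center (PC N)) :=
      ((pcProj N).comp (Subgroup.center (PC N)).subtype).ker
    have hz : ∀ j, zc j ∈ Kc := by
      intro j
      show (pcProj N) ((Subgroup.center (PC N)).subtype (zc j)) = 1
      exact MonoidHom.mem_ker.1 ((mem_pcProj_ker_iff N _).2 (hrel j))
    have h1 : Phom v ∈ Kc := by
      rw [hP]
      apply Subgroup.prod_mem
      intro j _
      exact Subgroup.zpow_mem _ (hz j) _
    exact h1
  have hPsingle : ∀ j, Pc (Multiplicative.ofAdd (Pi.single j (1 : ℤ))) = QuotientGroup.mk (rel j) := by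
    intro j
    show ((Phom (Multiplicative.ofAdd (Pi.single j (1 : ℤ))) : Subgroup.center (PC N)) : PC N) = _
    rw [hP, Finset.prod_eq_single j]
    · simp [zc]
    · intro i _ hij
      simp [Pi.single_eq_of_ne hij]
    · intro h; exact absurd (Finset.mem_univ j) h
  have hZle : (pcProj N).ker ≤ Pc.range := by
    have hcen : Pc.range ≤ Subgroup.center (PC N) := by
      rintro _ ⟨v, rfl⟩
      exact (Phom v).2
    haveI : Pc.range.Normal := by
      constructor
      intro n hn g
      have := Subgroup.mem_center_iff.1 (hcen hn) g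
      rw [this, mul_inv_cancel_right]; exact hn
    have h1 : N ≤ Pc.range.comap (QuotientGroup.mk' (pcKer N)) := by
      intro y hy
      rw [hN] at hy
      refine Subgroup.normalClosure_le_normal ?_ hy
      intro x hx
      have hx' : x ∈ rels := Finset.mem_coe.1 hx
      show QuotientGroup.mk x ∈ Pc.range
      refine ⟨Multiplicative.ofAdd (Pi.single (en ⟨x, hx'⟩) (1 : ℤ)), ?_⟩
      rw [hPsingle]
      show (QuotientGroup.mk ((en.symm (en ⟨x, hx'⟩) : rels) : FreeGroup α) : PC N) = _
      rw [Equiv.symm_apply_apply]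
    intro x hx
    obtain ⟨f, rfl⟩ := QuotientGroup.mk_surjective x
    rw [mem_pcProj_ker_iff] at hx
    exact h1 hx
  let M := Additive (Abelianization (FreeGroup α))
  let L_add : (Fin r → ℤ) →+ M :=
    AddMonoidHom.mk' (fun v => Additive.ofMul (pcCls N (Pc (Multiplicative.ofAdd v))))
      (fun v w => by
        show Additive.ofMul (pcCls N (Pc (Multiplicative.ofAdd v * Multiplicative.ofAdd w))) = _
        rw [map_mul, map_mul]; rfl)
  let L : (Fin r → ℤ) →ₗ[ℤ] M := L_add.toIntLinearMap
  have hL : ∀ v, L v = Additive.ofMul (pcCls N (Pc (Multiplicative.ofAdd v))) := fun v => rfl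
  let eM : M ≃ₗ[ℤ] (α →₀ ℤ) := (FreeAbelianGroup.equivFinsupp α).toIntLinearEquiv
  haveI : Module.Free ℤ M := Module.Free.of_equiv eM.symm
  haveI : Module.Finite ℤ M := Module.Finite.equiv eM.symm
  have hMrank : Module.finrank ℤ M = Fintype.card α := by
    rw [eM.finrank_eq, Module.finrank_finsupp_self]
  have hNrange : ∀ x ∈ N, (Additive.ofMul (Abelianization.of x) : M) ∈ LinearMap.range L := by
    intro x hx
    obtain ⟨v, hv⟩ := hZle ((mem_pcProj_ker_iff N x).2 hx)
    refine ⟨Multiplicative.toAdd v, ?_⟩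
    rw [hL]
    show Additive.ofMul (pcCls N (Pc v)) = _
    rw [hv, pcCls_mk]
  have hfin : Finite (M ⧸ LinearMap.range L) := by
    let φ : (FreeGroup α ⧸ N) → M ⧸ LinearMap.range L := fun q =>
      Submodule.Quotient.mk (Additive.ofMul (Abelianization.of (Quotient.out q)))
    apply Finite.of_surjective φ
    intro y
    obtain ⟨m, rfl⟩ := Submodule.Quotient.mk_surjective _ y
    obtain ⟨f, hf⟩ := QuotientGroup.mk_surjective (Additive.toMul m)
    refine ⟨QuotientGroup.mk f, ?_⟩
    show Submodule.Quotient.mk (Additive.ofMul (Abelianization.of (Quotient.out (QuotientGroup.mk f : FreeGroup α ⧸ N)))) = _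
    rw [Submodule.Quotient.eq]
    have h1 : (QuotientGroup.mk (Quotient.out (QuotientGroup.mk f : FreeGroup α ⧸ N)) : FreeGroup α ⧸ N) = QuotientGroup.mk f :=
      QuotientGroup.out_eq' _
    rw [QuotientGroup.eq] at h1
    have h2 := hNrange _ (inv_mem h1)
    have h3 : (Additive.ofMul (Abelianization.of ((Quotient.out (QuotientGroup.mk f : FreeGroup α ⧸ N))⁻¹ * f)⁻¹) : M) =
        Additive.ofMul (Abelianization.of (Quotient.out (QuotientGroup.mk f : FreeGroup α ⧸ N))) - m := by
      have hm : m = Additive.ofMul (Abelianization.of f) := by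
        show m = Additive.ofMul (QuotientGroup.mk f); rw [hf]; rfl
      rw [hm, mul_inv_rev, inv_inv, map_mul, map_inv, ofMul_mul, ofMul_inv]
      abel
    rw [← h3]
    exact h2
  obtain ⟨g, hg⟩ := exists_linearMap_range_eq_ker hMrank L hfin
  let T : Subgroup (PC N) := (pcProj N).ker ⊓ commutator (PC N)
  let Xi0 : Multiplicative (Fin (r - Fintype.card α) → ℤ) →* PC N :=
    Pc.comp (AddMonoidHom.toMultiplicative g.toAddMonoidHom)
  have hXi0 : ∀ w, Xi0 w = Pc (Multiplicative.ofAdd (g (Multiplicative.toAdd w))) := fun w => rfl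
  have hXi0T : ∀ w, Xi0 w ∈ T := by
    intro w
    refine Subgroup.mem_inf.2 ⟨hPker _, ?_⟩
    rw [← pcCls_eq_one_iff, hXi0]
    have h1 : g (Multiplicative.toAdd w) ∈ LinearMap.ker L := by
      rw [← hg]; exact LinearMap.mem_range_self _ _
    have h2 : L (g (Multiplicative.toAdd w)) = 0 := h1
    rw [hL] at h2
    exact h2
  let Xi : Multiplicative (Fin (r - Fintype.card α) → ℤ) →* T := Xi0.codRestrict T hXi0T
  have hXis : Function.Surjective Xi := by
    intro t
    obtain ⟨v, hv⟩ := hZle (Subgroup.mem_inf.1 t.2).1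
    have h1 : pcCls N (Pc v) = 1 := by
      rw [hv, pcCls_eq_one_iff]; exact (Subgroup.mem_inf.1 t.2).2
    have h2 : Multiplicative.toAdd v ∈ LinearMap.ker L := by
      show L (Multiplicative.toAdd v) = 0
      rw [hL]
      exact h1
    rw [← hg] at h2
    obtain ⟨w, hw⟩ := h2
    refine ⟨Multiplicative.ofAdd w, ?_⟩
    apply Subtype.ext
    show Xi0 (Multiplicative.ofAdd w) = t
    rw [hXi0, ← hv]
    show Pc (Multiplicative.ofAdd (g w)) = Pc v
    rw [hw]; rfl
  obtain ⟨eT⟩ := mult_equiv_pc N
  exact ⟨eT.symm.toMonoidHom.comp Xi, eT.symm.surjective.comp hXis⟩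

end relators

end Cfsg.Agent.H1
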