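import Mathlib
import Cfsg.Agent.H1.Basic
import Cfsg.Agent.H1.BaerTrick
import Cfsg.Agent.H1.PerfectCover
import Cfsg.Agent.H1.SchurCover
import Cfsg.Prelude.Def_KGroupFacts

set_option autoImplicit false

namespace Cfsg.Agent.H1

open Cfsg
open scoped commutatorElement

universe u v w

/-- underlying type of the central extension of `G₁ × G₂` by `T` given by a bimultiplicative map -/
structure BiExt (G₁ : Type u) (G₂ : Type v) (T : Type w) [Group G₁] [Group G₂] [CommGroup T]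
    (β : G₂ →* G₁ →* T) where
  /-- first coordinate -/
  a : G₁
  /-- second coordinate -/
  b : G₂
  /-- central coordinate -/
  t : T

namespace BiExt
variable {G₁ : Type u} {G₂ : Type v} {T : Type w} [Group G₁] [Group G₂] [CommGroup T]
  {β : G₂ →* G₁ →* T}

lemma ext' {x y : BiExt G₁ G₂ T β} (h1 : x.a = y.a) (h2 : x.b = y.b) (h3 : x.t = y.t) : x = y := by
  cases x; cases y; simp_all

instance : Group (BiExt G₁ G₂ T β) where
  mul x y := ⟨x.a * y.a, x.b * y.b, x.t * y.t * β x.b y.a⟩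
  one := ⟨1, 1, 1⟩
  inv x := ⟨x.a⁻¹, x.b⁻¹, x.t⁻¹ * β x.b x.a⟩
  mul_assoc x y z := by
    apply ext'
    · exact mul_assoc _ _ _
    · exact mul_assoc _ _ _
    · show x.t * y.t * β x.b y.a * z.t * β (x.b * y.b) z.a =
        x.t * (y.t * z.t * β y.b z.a) * β x.b (y.a * z.a)
      simp only [map_mul, MonoidHom.mul_apply, mul_assoc, mul_comm, mul_left_comm]
  one_mul x := by
    apply ext'
    · exact one_mul _
    · exact one_mul _
    · show 1 * x.t * β 1 x.a = x.t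
      rw [map_one, MonoidHom.one_apply, one_mul, mul_one]
  mul_one x := by
    apply ext'
    · exact mul_one _
    · exact mul_one _
    · show x.t * 1 * β x.b 1 = x.t
      rw [map_one, mul_one, mul_one]
  inv_mul_cancel x := by
    apply ext'
    · exact inv_mul_cancel _
    · exact inv_mul_cancel _
    · show x.t⁻¹ * β x.b x.a * x.t * β x.b⁻¹ x.a = 1
      rw [map_inv, MonoidHom.inv_apply, mul_comm x.t⁻¹, mul_assoc (β x.b x.a), inv_mul_cancel,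
        mul_one, mul_inv_cancel]

lemma mul_a (x y : BiExt G₁ G₂ T β) : (x * y).a = x.a * y.a := rfl
lemma mul_b (x y : BiExt G₁ G₂ T β) : (x * y).b = x.b * y.b := rfl
lemma mul_t (x y : BiExt G₁ G₂ T β) : (x * y).t = x.t * y.t * β x.b y.a := rfl
lemma one_a : (1 : BiExt G₁ G₂ T β).a = 1 := rfl
lemma one_b : (1 : BiExt G₁ G₂ T β).b = 1 := rfl
lemma one_t : (1 : BiExt G₁ G₂ T β).t = 1 := rfl

/-- projection to `G₁ × G₂` -/
def proj : BiExt G₁ G₂ T β →* G₁ × G₂ where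
  toFun x := (x.a, x.b)
  map_one' := rfl
  map_mul' _ _ := rfl

/-- first embedding -/
def inl : G₁ →* BiExt G₁ G₂ T β where
  toFun g := ⟨g, 1, 1⟩
  map_one' := rfl
  map_mul' g h := by
    apply ext'
    · rfl
    · show (1 : G₂) = 1 * 1
      rw [one_mul]
    · show (1 : T) = 1 * 1 * β 1 h
      rw [map_one, MonoidHom.one_apply, one_mul, one_mul]

/-- second embedding -/
def inr : G₂ →* BiExt G₁ G₂ T β where
  toFun g := ⟨1, g, 1⟩
  map_one' := rfl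
  map_mul' g h := by
    apply ext'
    · show (1 : G₁) = 1 * 1
      rw [one_mul]
    · rfl
    · show (1 : T) = 1 * 1 * β g 1
      rw [map_one, one_mul, one_mul]

/-- central embedding -/
def inT : T →* BiExt G₁ G₂ T β where
  toFun t := ⟨1, 1, t⟩
  map_one' := rfl
  map_mul' s t := by
    apply ext'
    · show (1 : G₁) = 1 * 1
      rw [one_mul]
    · show (1 : G₂) = 1 * 1
      rw [one_mul]
    · show s * t = s * t * β 1 1
      simp

lemma decomp (x : BiExt G₁ G₂ T β) : x = inl x.a * inr x.b * inT x.t := by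
  apply ext'
  · show x.a = x.a * 1 * 1
    rw [mul_one, mul_one]
  · show x.b = 1 * x.b * 1
    rw [one_mul, mul_one]
  · show x.t = 1 * 1 * β 1 1 * x.t * β (1 * x.b) 1
    simp

lemma comm_inr_inl (g : G₂) (h : G₁) :
    ⁅(inr g : BiExt G₁ G₂ T β), (inl h : BiExt G₁ G₂ T β)⁆ = inT (β g h) := by
  rw [commutatorElement_def]
  apply ext'
  · show 1 * h * 1⁻¹ * h⁻¹ = 1
    simp
  · show g * 1 * g⁻¹ * 1⁻¹ = 1
    simp
  · show (1 * 1 * β g h * (1⁻¹ * β g 1) * β (g * 1) 1⁻¹) * (1⁻¹ * β 1 h) * β (g * 1 * g⁻¹) h⁻¹ = β g h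
    simp

end BiExt

section tensor

open TensorProduct

variable (Q₁ : Type u) (Q₂ : Type v) [Group Q₁] [Group Q₂]

/-- the tensor product of the abelianizations, written multiplicatively -/
abbrev AbTensor : Type (max u v) :=
  Multiplicative (TensorProduct ℤ (Additive (Abelianization Q₁)) (Additive (Abelianization Q₂)))

/-- pure tensor of the classes of `q₁` and `q₂` -/
def abTmul (q₁ : Q₁) (q₂ : Q₂) : AbTensor Q₁ Q₂ :=
  Multiplicative.ofAdd
    ((Additive.ofMul (Abelianization.of q₁)) ⊗ₜ[ℤ] (Additive.ofMul (Abelianization.of q₂)))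

variable {Q₁ Q₂}

lemma abTmul_mul_left (a b : Q₁) (q₂ : Q₂) :
    abTmul Q₁ Q₂ (a * b) q₂ = abTmul Q₁ Q₂ a q₂ * abTmul Q₁ Q₂ b q₂ := by
  unfold abTmul
  rw [map_mul, ofMul_mul, TensorProduct.add_tmul, ofAdd_add]

lemma abTmul_mul_right (q₁ : Q₁) (a b : Q₂) :
    abTmul Q₁ Q₂ q₁ (a * b) = abTmul Q₁ Q₂ q₁ a * abTmul Q₁ Q₂ q₁ b := by
  unfold abTmul
  rw [map_mul, ofMul_mul, TensorProduct.tmul_add, ofAdd_add]

variable (Q₁ Q₂)

/-- the tensor pairing `Q₂ →* Q₁ →* Q₁ᵃᵇ ⊗ Q₂ᵃᵇ` -/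
def tensB : Q₂ →* Q₁ →* AbTensor Q₁ Q₂ :=
  MonoidHom.mk' (fun q₂ => MonoidHom.mk' (fun q₁ => abTmul Q₁ Q₂ q₁ q₂)
    (fun a b => abTmul_mul_left a b q₂))
    (fun a b => by
      apply MonoidHom.ext
      intro q₁
      exact abTmul_mul_right q₁ a b)

lemma tensB_apply (q₂ : Q₂) (q₁ : Q₁) : tensB Q₁ Q₂ q₂ q₁ = abTmul Q₁ Q₂ q₁ q₂ := rfl

/-- induction principle for the multiplicative tensor product -/
lemma abTensor_induction {motive : AbTensor Q₁ Q₂ → Prop} (h1 : motive 1)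
    (hpure : ∀ q₁ q₂, motive (abTmul Q₁ Q₂ q₁ q₂))
    (hmul : ∀ x y, motive x → motive y → motive (x * y)) (x : AbTensor Q₁ Q₂) : motive x := by
  have key : ∀ z : TensorProduct ℤ (Additive (Abelianization Q₁)) (Additive (Abelianization Q₂)),
      motive (Multiplicative.ofAdd z) := by
    intro z
    induction z using TensorProduct.induction_on with
    | zero => exact h1
    | tmul a b =>
      obtain ⟨q₁, hq₁⟩ := QuotientGroup.mk_surjective (Additive.toMul a)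
      obtain ⟨q₂, hq₂⟩ := QuotientGroup.mk_surjective (Additive.toMul b)
      have := hpure q₁ q₂
      unfold abTmul at this
      have ea : Additive.ofMul (Abelianization.of q₁) = a := by
        show Additive.ofMul (QuotientGroup.mk q₁) = a
        rw [hq₁]; rfl
      have eb : Additive.ofMul (Abelianization.of q₂) = b := by
        show Additive.ofMul (QuotientGroup.mk q₂) = b
        rw [hq₂]; rfl
      rw [ea, eb] at this
      exact this
    | add x y hx hy => exact hmul _ _ hx hy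
  exact key (Multiplicative.toAdd x)

instance abTensor_finite [Finite Q₁] [Finite Q₂] : Finite (AbTensor Q₁ Q₂) := by
  have h1 : Module.IsTorsion ℤ
      (TensorProduct ℤ (Additive (Abelianization Q₁)) (Additive (Abelianization Q₂))) := by
    intro x
    have hn : (Nat.card (Additive (Abelianization Q₁)) : ℤ) ≠ 0 := by
      exact_mod_cast Nat.card_pos.ne'
    refine ⟨⟨(Nat.card (Additive (Abelianization Q₁)) : ℤ), mem_nonZeroDivisors_of_ne_zero hn⟩, ?_⟩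
    show (Nat.card (Additive (Abelianization Q₁)) : ℤ) • x = 0
    induction x using TensorProduct.induction_on with
    | zero => rw [smul_zero]
    | tmul a b =>
      rw [TensorProduct.smul_tmul', Nat.cast_smul_eq_nsmul, card_nsmul_eq_zero',
        TensorProduct.zero_tmul]
    | add x y hx hy => rw [smul_add, hx, hy, add_zero]
  have h0 : Module.Finite ℤ
      (TensorProduct ℤ (Additive (Abelianization Q₁)) (Additive (Abelianization Q₂))) :=
    Module.Finite.tensorProduct ℤ _ _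
  have h2 : Finite (TensorProduct ℤ (Additive (Abelianization Q₁)) (Additive (Abelianization Q₂))) :=
    Module.finite_of_fg_torsion _ h1
  exact Finite.of_equiv _ Multiplicative.ofAdd

end tensor

section stemProd

variable {Q₁ : Type u} {Q₂ : Type v} [Group Q₁] [Group Q₂]
variable {Γ₁ : Type u} {Γ₂ : Type v} [Group Γ₁] [Group Γ₂]

/-- the product of two stem extensions, twisted by the tensor pairing, is a stem extension -/
theorem exists_stem_prod [Finite Q₁] [Finite Q₂] [Finite Γ₁] [Finite Γ₂]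
    (σ₁ : Γ₁ →* Q₁) (σ₂ : Γ₂ →* Q₂) (h₁ : IsStemExtension σ₁)
    (h₂ : IsStemExtension σ₂) :
    ∃ (E : Type (max u v)) (_ : Group E) (_ : Finite E) (σ : E →* Q₁ × Q₂), IsStemExtension σ ∧
      Nonempty (σ.ker ≃* σ₁.ker × σ₂.ker × AbTensor Q₁ Q₂) := by
  let β : Γ₂ →* Γ₁ →* AbTensor Q₁ Q₂ := ((tensB Q₁ Q₂).comp σ₂).compl₂ σ₁
  have hβ : ∀ g h, β g h = abTmul Q₁ Q₂ (σ₁ h) (σ₂ g) := fun g h => rfl
  let E := BiExt Γ₁ Γ₂ (AbTensor Q₁ Q₂) β
  let σ : E →* Q₁ × Q₂ := (σ₁.prodMap σ₂).comp BiExt.proj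
  have hσ : ∀ x : E, σ x = (σ₁ x.a, σ₂ x.b) := fun x => rfl
  have hfin : Finite E :=
    Finite.of_injective (fun x : E => (x.a, x.b, x.t)) (fun x y h => by
      simp only [Prod.mk.injEq] at h
      exact BiExt.ext' h.1 h.2.1 h.2.2)
  have hkermem : ∀ x : E, x ∈ σ.ker ↔ x.a ∈ σ₁.ker ∧ x.b ∈ σ₂.ker := by
    intro x
    rw [MonoidHom.mem_ker, hσ, Prod.mk_eq_one, MonoidHom.mem_ker, MonoidHom.mem_ker]
  have hβ1 : ∀ g h, g ∈ σ₂.ker → β g h = 1 := by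
    intro g h hg
    rw [MonoidHom.mem_ker] at hg
    have : β g = 1 := by
      show ((tensB Q₁ Q₂).comp σ₂).compl₂ σ₁ g = 1
      apply MonoidHom.ext
      intro x
      rw [MonoidHom.compl₂_apply, MonoidHom.comp_apply, hg, map_one, MonoidHom.one_apply,
        MonoidHom.one_apply]
    rw [this, MonoidHom.one_apply]
  have hβ2 : ∀ g h, h ∈ σ₁.ker → β g h = 1 := by
    intro g h hh
    rw [MonoidHom.mem_ker] at hh
    show ((tensB Q₁ Q₂).comp σ₂).compl₂ σ₁ g h = 1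
    rw [MonoidHom.compl₂_apply, hh, map_one]
  have hTcomm : ∀ t : AbTensor Q₁ Q₂, (BiExt.inT t : E) ∈ commutator E := by
    intro t
    induction t using abTensor_induction with
    | h1 => rw [map_one]; exact one_mem _
    | hpure q₁ q₂ =>
      obtain ⟨g₁, rfl⟩ := h₁.1 q₁
      obtain ⟨g₂, rfl⟩ := h₂.1 q₂
      rw [← hβ, ← BiExt.comm_inr_inl]
      exact Subgroup.commutator_mem_commutator trivial trivial
    | hmul x y hx hy => rw [map_mul]; exact mul_mem hx hy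
  refine ⟨E, inferInstance, hfin, σ, ⟨?_, ?_, ?_⟩, ?_⟩
  · rintro ⟨q₁, q₂⟩
    obtain ⟨g₁, rfl⟩ := h₁.1 q₁
    obtain ⟨g₂, rfl⟩ := h₂.1 q₂
    exact ⟨⟨g₁, g₂, 1⟩, rfl⟩
  · intro x hx
    rw [hkermem] at hx
    rw [Subgroup.mem_center_iff]
    intro y
    apply BiExt.ext'
    · exact Subgroup.mem_center_iff.1 (h₁.2.1 hx.1) y.a
    · exact Subgroup.mem_center_iff.1 (h₂.2.1 hx.2) y.b
    · show y.t * x.t * β y.b x.a = x.t * y.t * β x.b y.a
      rw [hβ1 _ _ hx.2, hβ2 _ _ hx.1, mul_one, mul_one, mul_comm]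
  · intro x hx
    rw [hkermem] at hx
    rw [BiExt.decomp x]
    have hmap₁ : (commutator Γ₁).map (BiExt.inl : Γ₁ →* E) ≤ commutator E := by
      rw [commutator_def, Subgroup.map_commutator, commutator_def]
      exact Subgroup.commutator_mono le_top le_top
    have hmap₂ : (commutator Γ₂).map (BiExt.inr : Γ₂ →* E) ≤ commutator E := by
      rw [commutator_def, Subgroup.map_commutator, commutator_def]
      exact Subgroup.commutator_mono le_top le_top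
    exact mul_mem (mul_mem (hmap₁ ⟨x.a, h₁.2.2 hx.1, rfl⟩) (hmap₂ ⟨x.b, h₂.2.2 hx.2, rfl⟩))
      (hTcomm x.t)
  · refine ⟨{ toFun := fun x => (⟨x.1.a, ((hkermem x.1).1 x.2).1⟩, ⟨x.1.b, ((hkermem x.1).1 x.2).2⟩,
                x.1.t)
              invFun := fun y => ⟨⟨y.1.1, y.2.1.1, y.2.2⟩, (hkermem _).2 ⟨y.1.2, y.2.1.2⟩⟩
              left_inv := fun x => rfl
              right_inv := fun y => rfl
              map_mul' := fun x y => ?_ }⟩
    refine Prod.ext rfl (Prod.ext rfl ?_)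
    show x.1.t * y.1.t * β x.1.b y.1.a = x.1.t * y.1.t
    rw [hβ2 _ _ ((hkermem y.1).1 y.2).1, mul_one]

end stemProd

section prodImage

open scoped IsMulCommutative
open scoped Pointwise

lemma comm_mul_left_of_central {G : Type*} [Group G] (a b c : G)
    (h : ⁅b, c⁆ ∈ Subgroup.center G) : ⁅a * b, c⁆ = ⁅a, c⁆ * ⁅b, c⁆ := by
  have h1 : ⁅a * b, c⁆ = a * ⁅b, c⁆ * a⁻¹ * ⁅a, c⁆ := by
    simp only [commutatorElement_def]; group
  rw [h1, Subgroup.mem_center_iff.1 h a, mul_inv_cancel_right,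
    ← Subgroup.mem_center_iff.1 h ⁅a, c⁆]

lemma comm_mul_right_of_central {G : Type*} [Group G] (a b c : G)
    (h : ⁅a, c⁆ ∈ Subgroup.center G) : ⁅a, b * c⁆ = ⁅a, b⁆ * ⁅a, c⁆ := by
  have h1 : ⁅a, b * c⁆ = ⁅a, b⁆ * (b * ⁅a, c⁆ * b⁻¹) := by
    simp only [commutatorElement_def]; group
  rw [h1, Subgroup.mem_center_iff.1 h b, mul_inv_cancel_right]

/-- the multiplier of a quotient `Q` of `R` maps onto the part of the kernel of a central extension of `R`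
coming from commutators of a subgroup `D` covering `Q` -/
lemma exists_mult_hom_of_sub {Q : Type u} {R : Type v} [Group Q] [Group R] {Δ : Type w} [Group Δ]
    (σ : Δ →* R) (hc : σ.ker ≤ Subgroup.center Δ) (D : Subgroup Δ) (ρ : R →* Q)
    (hsurj : ∀ q, ∃ d ∈ D, ρ (σ d) = q) (hker : ∀ d ∈ D, ρ (σ d) = 1 → σ d = 1) :
    ∃ f : fcMult Q →* Subgroup.center Δ, (∀ m, σ (f m : Δ) = 1) ∧
      ∀ c ∈ ⁅D, D⁆, σ c = 1 → ∃ m, (f m : Δ) = c := by
  let ξ : D →* Q := (ρ.comp σ).comp D.subtype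
  have hξ : ∀ x : D, ξ x = ρ (σ (x : Δ)) := fun x => rfl
  have hξs : Function.Surjective ξ := by
    intro q
    obtain ⟨d, hd, hdq⟩ := hsurj q
    exact ⟨⟨d, hd⟩, hdq⟩
  have hξc : ξ.ker ≤ Subgroup.center D := by
    intro x hx
    rw [MonoidHom.mem_ker, hξ] at hx
    have h1 : (x : Δ) ∈ Subgroup.center Δ := hc (MonoidHom.mem_ker.2 (hker _ x.2 hx))
    rw [Subgroup.mem_center_iff]
    intro y
    exact Subtype.ext (Subgroup.mem_center_iff.1 h1 _)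
  obtain ⟨θ, hθ⟩ := fc_lift Q ξ hξs hξc
  obtain ⟨h1, _⟩ := ker_inf_commutator_eq_map ξ hξc θ hθ
  have hσθ : ∀ m ∈ fcMult Q, σ ((θ m : D) : Δ) = 1 := by
    intro m hm
    have h2 : θ m ∈ ξ.ker ⊓ commutator D := by rw [h1]; exact ⟨m, hm, rfl⟩
    have h3 : θ m ∈ ξ.ker := (Subgroup.mem_inf.1 h2).1
    rw [MonoidHom.mem_ker, hξ] at h3
    exact hker _ (θ m).2 h3
  refine ⟨{ toFun := fun m => ⟨((θ (m : FC Q) : D) : Δ), hc (MonoidHom.mem_ker.2 (hσθ _ m.2))⟩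
            map_one' := by
              apply Subtype.ext
              show ((θ ((1 : fcMult Q) : FC Q) : D) : Δ) = 1
              rw [Subgroup.coe_one, map_one, Subgroup.coe_one]
            map_mul' := fun a b => by
              apply Subtype.ext
              show ((θ ((a * b : fcMult Q) : FC Q) : D) : Δ) = ((θ (a : FC Q) : D) : Δ) * ((θ (b : FC Q) : D) : Δ)
              rw [Subgroup.coe_mul, map_mul, Subgroup.coe_mul] }, ?_, ?_⟩
  · intro m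
    exact hσθ _ m.2
  · intro c hc1 hc2
    rw [← Subgroup.map_subtype_commutator] at hc1
    obtain ⟨c', hc', rfl⟩ := hc1
    have h2 : c' ∈ ξ.ker ⊓ commutator D := by
      refine Subgroup.mem_inf.2 ⟨?_, hc'⟩
      rw [MonoidHom.mem_ker, hξ]
      have : σ (c' : Δ) = 1 := hc2
      rw [this, map_one]
    rw [h1] at h2
    obtain ⟨m, hm, hmc⟩ := h2
    exact ⟨⟨m, hm⟩, congrArg Subtype.val hmc⟩

variable {Q₁ : Type u} {Q₂ : Type v} [Group Q₁] [Group Q₂] {Δ : Type w} [Group Δ]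

/-- **the kernel of a stem extension of a direct product** is an image of
`M(Q₁) × M(Q₂) × (Q₁ᵃᵇ ⊗ Q₂ᵃᵇ)` -/
theorem exists_surjective_prod_to_ker (σ : Δ →* Q₁ × Q₂) (hσ : IsStemExtension σ) :
    ∃ π : fcMult Q₁ × fcMult Q₂ × AbTensor Q₁ Q₂ →* σ.ker, Function.Surjective π := by
  classical
  obtain ⟨hσs, hσc, hσd⟩ := hσ
  let Δ₁ : Subgroup Δ := ((MonoidHom.snd Q₁ Q₂).comp σ).ker
  let Δ₂ : Subgroup Δ := ((MonoidHom.fst Q₁ Q₂).comp σ).ker
  have hΔ₁ : ∀ d, d ∈ Δ₁ ↔ (σ d).2 = 1 := fun d => Iff.rfl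
  have hΔ₂ : ∀ d, d ∈ Δ₂ ↔ (σ d).1 = 1 := fun d => Iff.rfl
  -- sections
  have hs₁ : ∀ q₁ : Q₁, ∃ d, σ d = (q₁, 1) := fun q₁ => hσs (q₁, 1)
  have hs₂ : ∀ q₂ : Q₂, ∃ d, σ d = (1, q₂) := fun q₂ => hσs (1, q₂)
  choose s₁ hs₁ using hs₁
  choose s₂ hs₂ using hs₂
  -- commutators of Δ₁ and Δ₂ are in the kernel
  have hcommker : ∀ d₁ d₂, d₁ ∈ Δ₁ → d₂ ∈ Δ₂ → ⁅d₁, d₂⁆ ∈ σ.ker := by
    intro d₁ d₂ h1 h2
    rw [hΔ₁] at h1
    rw [hΔ₂] at h2
    rw [MonoidHom.mem_ker, map_commutatorElement]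
    apply Prod.ext
    · show ⁅(σ d₁).1, (σ d₂).1⁆ = 1
      rw [h2]; exact commutatorElement_one_right _
    · show ⁅(σ d₁).2, (σ d₂).2⁆ = 1
      rw [h1]; exact commutatorElement_one_left _
  have hcommcen : ∀ d₁ d₂, d₁ ∈ Δ₁ → d₂ ∈ Δ₂ → ⁅d₁, d₂⁆ ∈ Subgroup.center Δ :=
    fun d₁ d₂ h1 h2 => hσc (hcommker d₁ d₂ h1 h2)
  have hs₁mem : ∀ q, s₁ q ∈ Δ₁ := fun q => by rw [hΔ₁, hs₁]
  have hs₂mem : ∀ q, s₂ q ∈ Δ₂ := fun q => by rw [hΔ₂, hs₂]
  -- the pairing only depends on the images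
  have hspec : ∀ d₁ d₂ q₁ q₂, σ d₁ = (q₁, 1) → σ d₂ = (1, q₂) → ⁅d₁, d₂⁆ = ⁅s₁ q₁, s₂ q₂⁆ := by
    intro d₁ d₂ q₁ q₂ h1 h2
    have hk1 : (s₁ q₁)⁻¹ * d₁ ∈ Subgroup.center Δ := by
      apply hσc
      rw [MonoidHom.mem_ker, map_mul, map_inv, hs₁, h1, inv_mul_cancel]
    have hk2 : (s₂ q₂)⁻¹ * d₂ ∈ Subgroup.center Δ := by
      apply hσc
      rw [MonoidHom.mem_ker, map_mul, map_inv, hs₂, h2, inv_mul_cancel]
    have e1 : d₁ = s₁ q₁ * ((s₁ q₁)⁻¹ * d₁) := by group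
    have e2 : d₂ = s₂ q₂ * ((s₂ q₂)⁻¹ * d₂) := by group
    rw [e1, e2, comm_mul_central _ _ _ _ hk1 hk2]
  let pairHom : Q₁ →* Q₂ →* Subgroup.center Δ :=
    MonoidHom.mk' (fun q₁ => MonoidHom.mk'
      (fun q₂ => (⟨⁅s₁ q₁, s₂ q₂⁆, hcommcen _ _ (hs₁mem q₁) (hs₂mem q₂)⟩ : Subgroup.center Δ))
      (fun a b => by
        apply Subtype.ext
        show ⁅s₁ q₁, s₂ (a * b)⁆ = ⁅s₁ q₁, s₂ a⁆ * ⁅s₁ q₁, s₂ b⁆
        rw [← comm_mul_right_of_central _ _ _ (hcommcen _ _ (hs₁mem q₁) (hs₂mem b))]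
        refine (hspec _ _ q₁ (a * b) (hs₁ q₁) ?_).symm
        rw [map_mul, hs₂, hs₂]
        exact Prod.ext (one_mul 1) rfl))
      (fun a b => by
        apply MonoidHom.ext
        intro q₂
        apply Subtype.ext
        show ⁅s₁ (a * b), s₂ q₂⁆ = ⁅s₁ a, s₂ q₂⁆ * ⁅s₁ b, s₂ q₂⁆
        rw [← comm_mul_left_of_central _ _ _ (hcommcen _ _ (hs₁mem b) (hs₂mem q₂))]
        refine (hspec _ _ (a * b) q₂ ?_ (hs₂ q₂)).symm
        rw [map_mul, hs₁, hs₁]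
        exact Prod.ext rfl (one_mul 1))
  have hpair : ∀ q₁ q₂, ((pairHom q₁ q₂ : Subgroup.center Δ) : Δ) = ⁅s₁ q₁, s₂ q₂⁆ := fun _ _ => rfl
  let φ₁ : Abelianization Q₁ →* Q₂ →* Subgroup.center Δ := Abelianization.lift pairHom
  let φ₂ : Abelianization Q₂ →* Abelianization Q₁ →* Subgroup.center Δ :=
    Abelianization.lift φ₁.flip
  have hφ₂ : ∀ q₁ q₂, φ₂ (Abelianization.of q₂) (Abelianization.of q₁) = pairHom q₁ q₂ := by
    intro q₁ q₂
    show Abelianization.lift φ₁.flip (Abelianization.of q₂) (Abelianization.of q₁) = _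
    rw [Abelianization.lift_apply_of, MonoidHom.flip_apply]
    show Abelianization.lift pairHom (Abelianization.of q₁) q₂ = _
    rw [Abelianization.lift_apply_of]
  let Ψ : Additive (Abelianization Q₁) →+ Additive (Abelianization Q₂) →+
      Additive (Subgroup.center Δ) :=
    AddMonoidHom.mk' (fun a => AddMonoidHom.mk'
      (fun b => Additive.ofMul (φ₂ (Additive.toMul b) (Additive.toMul a)))
      (fun b b' => by
        show Additive.ofMul (φ₂ (Additive.toMul b * Additive.toMul b') (Additive.toMul a)) = _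
        rw [map_mul, MonoidHom.mul_apply]; rfl))
      (fun a a' => by
        apply AddMonoidHom.ext
        intro b
        show Additive.ofMul (φ₂ (Additive.toMul b) (Additive.toMul a * Additive.toMul a')) = _
        rw [map_mul]; rfl)
  have hΨ : ∀ (r : ℤ) (m : Additive (Abelianization Q₁)) (n : Additive (Abelianization Q₂)),
      Ψ (r • m) n = Ψ m (r • n) := by
    intro r m n
    rw [map_zsmul, map_zsmul, AddMonoidHom.smul_apply]
  let L := TensorProduct.liftAddHom Ψ hΨ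
  let f₃ : AbTensor Q₁ Q₂ →* Subgroup.center Δ :=
    MonoidHom.mk' (fun t => Additive.toMul (L (Multiplicative.toAdd t)))
      (fun a b => by
        show Additive.toMul (L (Multiplicative.toAdd a + Multiplicative.toAdd b)) = _
        rw [map_add]; rfl)
  have hf₃ : ∀ q₁ q₂, f₃ (abTmul Q₁ Q₂ q₁ q₂) = pairHom q₁ q₂ := by
    intro q₁ q₂
    show Additive.toMul (L (Additive.ofMul (Abelianization.of q₁) ⊗ₜ[ℤ]
      Additive.ofMul (Abelianization.of q₂))) = _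
    rw [TensorProduct.liftAddHom_tmul]
    exact hφ₂ q₁ q₂
  have hf₃ker : ∀ t, σ (f₃ t : Δ) = 1 := by
    intro t
    induction t using abTensor_induction with
    | h1 => rw [map_one, Subgroup.coe_one, map_one]
    | hpure q₁ q₂ =>
      rw [hf₃, hpair]
      exact MonoidHom.mem_ker.1 (hcommker _ _ (hs₁mem q₁) (hs₂mem q₂))
    | hmul x y hx hy => rw [map_mul, Subgroup.coe_mul, map_mul, hx, hy, one_mul]
  -- the two multiplier maps
  obtain ⟨f₁, hf₁ker, hf₁im⟩ := exists_mult_hom_of_sub σ hσc Δ₁ (MonoidHom.fst Q₁ Q₂)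
    (fun q => ⟨s₁ q, hs₁mem q, by rw [hs₁]; rfl⟩)
    (fun d hd h => Prod.ext h ((hΔ₁ d).1 hd))
  obtain ⟨f₂, hf₂ker, hf₂im⟩ := exists_mult_hom_of_sub σ hσc Δ₂ (MonoidHom.snd Q₁ Q₂)
    (fun q => ⟨s₂ q, hs₂mem q, by rw [hs₂]; rfl⟩)
    (fun d hd h => Prod.ext ((hΔ₂ d).1 hd) h)
  let π₀ : fcMult Q₁ × fcMult Q₂ × AbTensor Q₁ Q₂ →* Subgroup.center Δ :=
    f₁.coprod (f₂.coprod f₃)
  have hπ₀ : ∀ y, π₀ y = f₁ y.1 * (f₂ y.2.1 * f₃ y.2.2) := fun y => rfl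
  have hπ₀ker : ∀ y, ((π₀ y : Subgroup.center Δ) : Δ) ∈ σ.ker := by
    intro y
    rw [MonoidHom.mem_ker, hπ₀, Subgroup.coe_mul, Subgroup.coe_mul, map_mul, map_mul, hf₁ker,
      hf₂ker, hf₃ker, one_mul, one_mul]
  refine ⟨{ toFun := fun y => ⟨((π₀ y : Subgroup.center Δ) : Δ), hπ₀ker y⟩
            map_one' := by
              apply Subtype.ext
              show ((π₀ 1 : Subgroup.center Δ) : Δ) = 1
              rw [map_one]; rfl
            map_mul' := fun a b => by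
              apply Subtype.ext
              show ((π₀ (a * b) : Subgroup.center Δ) : Δ) = (π₀ a : Δ) * (π₀ b : Δ)
              rw [map_mul]; rfl }, ?_⟩
  -- surjectivity
  haveI hΔ₁n : Δ₁.Normal := MonoidHom.normal_ker _
  haveI hΔ₂n : Δ₂.Normal := MonoidHom.normal_ker _
  let C₁ : Subgroup Δ := ⁅Δ₁, Δ₁⁆
  let C₂ : Subgroup Δ := ⁅Δ₂, Δ₂⁆
  let C₃ : Subgroup Δ := ⁅Δ₁, Δ₂⁆
  let D : Subgroup Δ := (C₁ ⊔ C₂) ⊔ C₃
  haveI : C₁.Normal := Subgroup.commutator_normal _ _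
  haveI : C₂.Normal := Subgroup.commutator_normal _ _
  haveI : C₃.Normal := Subgroup.commutator_normal _ _
  haveI : D.Normal := inferInstance
  have hdecΔ : ∀ d : Δ, ∃ d₁ ∈ Δ₁, ∃ d₂ ∈ Δ₂, d = d₁ * d₂ := by
    intro d
    refine ⟨s₁ (σ d).1, hs₁mem _, (s₁ (σ d).1)⁻¹ * d, ?_, by group⟩
    rw [hΔ₂, map_mul, map_inv, hs₁]
    show (σ d).1⁻¹ * (σ d).1 = 1
    rw [inv_mul_cancel]
  have hcommD : ∀ x y : Δ, (x ∈ Δ₁ ∨ x ∈ Δ₂) → (y ∈ Δ₁ ∨ y ∈ Δ₂) →
      Commute (QuotientGroup.mk x : Δ ⧸ D) (QuotientGroup.mk y) := by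
    intro x y hx hy
    have : ⁅x, y⁆ ∈ D := by
      rcases hx with hx | hx <;> rcases hy with hy | hy
      · exact Subgroup.mem_sup_left (Subgroup.mem_sup_left
          (Subgroup.commutator_mem_commutator hx hy))
      · exact Subgroup.mem_sup_right (Subgroup.commutator_mem_commutator hx hy)
      · refine Subgroup.mem_sup_right ?_
        show ⁅x, y⁆ ∈ ⁅Δ₁, Δ₂⁆
        rw [Subgroup.commutator_comm]
        exact Subgroup.commutator_mem_commutator hx hy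
      · exact Subgroup.mem_sup_left (Subgroup.mem_sup_right
          (Subgroup.commutator_mem_commutator hx hy))
    have h2 : ((⁅x, y⁆ : Δ) : Δ ⧸ D) = 1 := (QuotientGroup.eq_one_iff _).2 this
    have h3 : ⁅(QuotientGroup.mk x : Δ ⧸ D), (QuotientGroup.mk y : Δ ⧸ D)⁆ = 1 := by
      rw [← h2]; rfl
    exact commutatorElement_eq_one_iff_commute.1 h3
  have hcommle : commutator Δ ≤ D := by
    rw [commutator_eq_closure, Subgroup.closure_le]
    rintro _ ⟨x, y, rfl⟩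
    obtain ⟨x₁, hx₁, x₂, hx₂, rfl⟩ := hdecΔ x
    obtain ⟨y₁, hy₁, y₂, hy₂, rfl⟩ := hdecΔ y
    have h1 : Commute (QuotientGroup.mk (x₁ * x₂) : Δ ⧸ D) (QuotientGroup.mk (y₁ * y₂)) := by
      rw [QuotientGroup.mk_mul, QuotientGroup.mk_mul]
      exact ((hcommD _ _ (Or.inl hx₁) (Or.inl hy₁)).mul_right
        (hcommD _ _ (Or.inl hx₁) (Or.inr hy₂))).mul_left
        ((hcommD _ _ (Or.inr hx₂) (Or.inl hy₁)).mul_right (hcommD _ _ (Or.inr hx₂) (Or.inr hy₂)))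
    have h2 : ⁅(QuotientGroup.mk (x₁ * x₂) : Δ ⧸ D), (QuotientGroup.mk (y₁ * y₂) : Δ ⧸ D)⁆ = 1 :=
      commutatorElement_eq_one_iff_commute.2 h1
    have h3 : ((⁅x₁ * x₂, y₁ * y₂⁆ : Δ) : Δ ⧸ D) = 1 := h2
    exact (QuotientGroup.eq_one_iff _).1 h3
  intro x
  have hxD : (x : Δ) ∈ D := hcommle (hσd x.2)
  have hxD' : (x : Δ) ∈ ((C₁ ⊔ C₂ : Subgroup Δ) : Set Δ) * (C₃ : Set Δ) := by
    rw [← Subgroup.mul_normal]; exact hxD
  obtain ⟨c₁₂, hc₁₂, c₃, hc₃, hx⟩ := Set.mem_mul.1 hxD'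
  have hc₁₂' : c₁₂ ∈ (C₁ : Set Δ) * (C₂ : Set Δ) := by
    rw [← Subgroup.mul_normal]; exact hc₁₂
  obtain ⟨c₁, hc₁, c₂, hc₂, hc⟩ := Set.mem_mul.1 hc₁₂'
  have hC₃ker : C₃ ≤ σ.ker := by
    show ⁅Δ₁, Δ₂⁆ ≤ σ.ker
    rw [Subgroup.commutator_le]
    intro d₁ h1 d₂ h2
    exact hcommker d₁ d₂ h1 h2
  have hσc₃ : σ c₃ = 1 := MonoidHom.mem_ker.1 (hC₃ker hc₃)
  have hc₁Δ : c₁ ∈ Δ₁ := Subgroup.commutator_le_self Δ₁ hc₁
  have hc₂Δ : c₂ ∈ Δ₂ := Subgroup.commutator_le_self Δ₂ hc₂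
  have hσx : σ c₁ * σ c₂ = 1 := by
    have : σ (x : Δ) = 1 := MonoidHom.mem_ker.1 x.2
    rw [← hx, ← hc, map_mul, map_mul, hσc₃, mul_one] at this
    exact this
  have hσc₁ : σ c₁ = 1 := by
    apply Prod.ext
    · have := congrArg Prod.fst hσx
      rw [Prod.fst_mul, (hΔ₂ c₂).1 hc₂Δ, mul_one] at this
      exact this
    · exact (hΔ₁ c₁).1 hc₁Δ
  have hσc₂ : σ c₂ = 1 := by rw [hσc₁, one_mul] at hσx; exact hσx
  obtain ⟨m₁, hm₁⟩ := hf₁im c₁ hc₁ hσc₁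
  obtain ⟨m₂, hm₂⟩ := hf₂im c₂ hc₂ hσc₂
  have hC₃im : C₃ ≤ (f₃.range).map (Subgroup.center Δ).subtype := by
    show ⁅Δ₁, Δ₂⁆ ≤ _
    rw [Subgroup.commutator_le]
    intro d₁ h1 d₂ h2
    refine ⟨f₃ (abTmul Q₁ Q₂ (σ d₁).1 (σ d₂).2), ⟨_, rfl⟩, ?_⟩
    show ((f₃ (abTmul Q₁ Q₂ (σ d₁).1 (σ d₂).2) : Subgroup.center Δ) : Δ) = ⁅d₁, d₂⁆
    rw [hf₃, hpair]
    refine (hspec d₁ d₂ _ _ ?_ ?_).symm
    · exact Prod.ext rfl ((hΔ₁ d₁).1 h1)
    · exact Prod.ext ((hΔ₂ d₂).1 h2) rfl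
  obtain ⟨_, ⟨t, rfl⟩, ht⟩ := hC₃im hc₃
  refine ⟨(m₁, m₂, t), ?_⟩
  apply Subtype.ext
  show ((π₀ (m₁, m₂, t) : Subgroup.center Δ) : Δ) = x
  rw [hπ₀, Subgroup.coe_mul, Subgroup.coe_mul, hm₁, hm₂, ← hx, ← hc, mul_assoc]
  congr 2

end prodImage

section congr

lemma hasSchurMultiplier_congr {G : Type u} [Group G] {A : Type v} {A' : Type w} [CommGroup A]
    [CommGroup A'] (e : A ≃* A') (h : HasSchurMultiplier G A) : HasSchurMultiplier G A' := by
  obtain ⟨⟨Γ, hΓ1, hΓ2, σ, hσ, ⟨e₁⟩⟩, h2⟩ := h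
  refine ⟨⟨Γ, hΓ1, hΓ2, σ, hσ, ⟨e₁.trans e⟩⟩, ?_⟩
  intro Γ' _ _ σ' hσ'
  obtain ⟨π, hπ⟩ := h2 Γ' σ' hσ'
  exact ⟨π.comp e.symm.toMonoidHom, hπ.comp e.symm.surjective⟩

lemma abTensor_eq_one_of_coprime {Q₁ : Type u} {Q₂ : Type v} [Group Q₁] [Group Q₂] [Finite Q₁]
    [Finite Q₂] (hcop : Nat.Coprime (Nat.card (Abelianization Q₁)) (Nat.card (Abelianization Q₂)))
    (t : AbTensor Q₁ Q₂) : t = 1 := by
  induction t using abTensor_induction with
  | h1 => rfl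
  | hpure q₁ q₂ =>
    unfold abTmul
    obtain ⟨a, ha⟩ : ∃ a : Additive (Abelianization Q₁), a = Additive.ofMul (Abelianization.of q₁) :=
      ⟨_, rfl⟩
    obtain ⟨b, hb⟩ : ∃ b : Additive (Abelianization Q₂), b = Additive.ofMul (Abelianization.of q₂) :=
      ⟨_, rfl⟩
    rw [← ha, ← hb]
    have h1 : Nat.card (Abelianization Q₁) • (a ⊗ₜ[ℤ] b) = 0 := by
      rw [TensorProduct.smul_tmul']
      have : Nat.card (Abelianization Q₁) • a = 0 := by
        have := card_nsmul_eq_zero' (G := Additive (Abelianization Q₁)) (x := a)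
        exact this
      rw [this, TensorProduct.zero_tmul]
    have h2 : Nat.card (Abelianization Q₂) • (a ⊗ₜ[ℤ] b) = 0 := by
      rw [← TensorProduct.tmul_smul]
      have : Nat.card (Abelianization Q₂) • b = 0 := by
        have := card_nsmul_eq_zero' (G := Additive (Abelianization Q₂)) (x := b)
        exact this
      rw [this, TensorProduct.tmul_zero]
    have h3 : addOrderOf (a ⊗ₜ[ℤ] b) ∣ 1 := by
      have := Nat.dvd_gcd (addOrderOf_dvd_of_nsmul_eq_zero h1) (addOrderOf_dvd_of_nsmul_eq_zero h2)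
      rwa [hcop.gcd_eq_one] at this
    have h4 : a ⊗ₜ[ℤ] b = 0 := AddMonoid.addOrderOf_eq_one_iff.1 (Nat.dvd_one.1 h3)
    rw [h4]; rfl
  | hmul x y hx hy => rw [hx, hy, one_mul]

/-- Schur multiplier of a direct product -/
theorem hasSchurMultiplier_prod {Q₁ : Type u} {Q₂ : Type v} [Group Q₁] [Group Q₂] [Finite Q₁] [Finite Q₂] {A B : Type w} [CommGroup A] [CommGroup B] (hA : Cfsg.HasSchurMultiplier Q₁ A) (hB : Cfsg.HasSchurMultiplier Q₂ B) : Cfsg.HasSchurMultiplier (Q₁ × Q₂) (A × B × Multiplicative (TensorProduct ℤ (Additive (Abelianization Q₁)) (Additive (Abelianization Q₂)))) := by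
  obtain ⟨eA⟩ := mult_equiv_of_hasSchurMultiplier hA
  obtain ⟨eB⟩ := mult_equiv_of_hasSchurMultiplier hB
  obtain ⟨⟨Γ₁, _, _, σ₁, hσ₁, ⟨e₁⟩⟩, _⟩ := hA
  obtain ⟨⟨Γ₂, _, _, σ₂, hσ₂, ⟨e₂⟩⟩, _⟩ := hB
  constructor
  · obtain ⟨E, hE1, hE2, σ, hσ, ⟨e⟩⟩ := exists_stem_prod σ₁ σ₂ hσ₁ hσ₂
    exact ⟨E, hE1, hE2, σ, hσ,
      ⟨e.trans (MulEquiv.prodCongr e₁ (MulEquiv.prodCongr e₂ (MulEquiv.refl _)))⟩⟩
  · intro Γ _ _ σ hσ
    obtain ⟨π, hπ⟩ := exists_surjective_prod_to_ker σ hσ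
    let e : A × B × AbTensor Q₁ Q₂ ≃* fcMult Q₁ × fcMult Q₂ × AbTensor Q₁ Q₂ :=
      MulEquiv.prodCongr eA (MulEquiv.prodCongr eB (MulEquiv.refl _))
    exact ⟨π.comp e.toMonoidHom, hπ.comp e.surjective⟩


end congr

end Cfsg.Agent.H1
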