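import Mathlib
import Cfsg.Agent.H1.Basic
import Cfsg.Agent.H1.BaerTrick
import Cfsg.Agent.H1.PerfectCover
import Cfsg.Agent.H1.SchurCover
import Cfsg.Prelude.Def_KGroupFacts

set_option autoImplicit false

namespace Cfsg.Agent.H1

open Cfsg
open scoped commutatorElement

universe u v w

section duality

/-- a quotient of a finite abelian group embeds into it (duality) -/
lemma exists_injective_of_surjective {B : Type u} {I : Type v} [CommGroup B] [Finite B] [Group I]
    (f : B →* I) (hf : Function.Surjective f) : ∃ g : I →* B, Function.Injective g := by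
  letI : CommGroup I := { (inferInstance : Group I) with
    mul_comm := fun a b => by
      obtain ⟨x, rfl⟩ := hf a
      obtain ⟨y, rfl⟩ := hf b
      rw [← map_mul, ← map_mul, mul_comm] }
  haveI : Finite I := Finite.of_surjective f hf
  haveI : NeZero (Monoid.exponent B) := ⟨Monoid.exponent_ne_zero_of_finite⟩
  haveI : NeZero (Monoid.exponent I) := ⟨Monoid.exponent_ne_zero_of_finite⟩
  obtain ⟨eB⟩ := CommGroup.monoidHom_mulEquiv_of_hasEnoughRootsOfUnity B ℂ
  obtain ⟨eI⟩ := CommGroup.monoidHom_mulEquiv_of_hasEnoughRootsOfUnity I ℂ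
  let c : (I →* ℂˣ) →* (B →* ℂˣ) := MonoidHom.compHom' f
  have hc : Function.Injective c := by
    intro χ₁ χ₂ h
    apply MonoidHom.ext
    intro y
    obtain ⟨x, rfl⟩ := hf y
    exact DFunLike.congr_fun h x
  exact ⟨(eB.toMonoidHom.comp c).comp eI.symm.toMonoidHom,
    (eB.injective.comp hc).comp eI.symm.injective⟩

end duality

section subgroupMult

variable {G : Type u} [Group G] [Finite G]

/-- **Schur multiplier of a subgroup**: the `|G:U|`-th powers of the kernel of a finite stem extension of `G`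
embed into the multiplier of `U` -/
theorem exists_injective_pow_to_mult (U : Subgroup G) {Γ : Type v} [Group Γ] [Finite Γ] (σ : Γ →* G)
    (hσ : IsStemExtension σ) :
    ∃ h : σ.ker →* fcMult U, ∀ a : σ.ker, h a = 1 ↔ (a : Γ) ^ U.index = 1 := by
  classical
  obtain ⟨hσs, hσc, hσd⟩ := hσ
  let ΓU : Subgroup Γ := U.comap σ
  have hidx : ΓU.index = U.index := Subgroup.index_comap_of_surjective U hσs
  let ξ : ΓU →* U := σ.subgroupComap U
  have hξ : ∀ x : ΓU, ((ξ x : U) : G) = σ (x : Γ) := fun x => rfl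
  have hξs : Function.Surjective ξ := σ.subgroupComap_surjective_of_surjective U hσs
  have hξc : ξ.ker ≤ Subgroup.center ΓU := by
    intro x hx
    rw [MonoidHom.mem_ker] at hx
    have h1 : σ (x : Γ) = 1 := by rw [← hξ, hx]; rfl
    have h2 : (x : Γ) ∈ Subgroup.center Γ := hσc (MonoidHom.mem_ker.2 h1)
    rw [Subgroup.mem_center_iff]
    intro y
    exact Subtype.ext (Subgroup.mem_center_iff.1 h2 _)
  obtain ⟨θ, hθ⟩ := fc_lift U ξ hξs hξc
  obtain ⟨h1, _⟩ := ker_inf_commutator_eq_map ξ hξc θ hθ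
  -- kernel elements lie in ΓU
  have hkerU : ∀ a ∈ σ.ker, a ∈ ΓU := by
    intro a ha
    show σ a ∈ U
    rw [MonoidHom.mem_ker.1 ha]; exact one_mem _
  -- transfer
  have hpow : ∀ (a : Γ) (ha : a ∈ σ.ker),
      (⟨a ^ U.index, pow_mem (hkerU a ha) _⟩ : ΓU) ∈ ξ.ker ⊓ commutator ΓU := by
    intro a ha
    refine Subgroup.mem_inf.2 ⟨?_, ?_⟩
    · rw [MonoidHom.mem_ker]
      apply Subtype.ext
      rw [hξ]
      show σ (a ^ U.index) = 1
      rw [map_pow, MonoidHom.mem_ker.1 ha, one_pow]
    · have hcen : a ∈ Subgroup.center Γ := hσc ha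
      have key : ∀ (k : ℕ) (g₀ : Γ), g₀⁻¹ * a ^ k * g₀ ∈ ΓU → g₀⁻¹ * a ^ k * g₀ = a ^ k := by
        intro k g₀ _
        have := Subgroup.mem_center_iff.1 (pow_mem hcen k) g₀
        rw [mul_assoc, ← this, inv_mul_cancel_left]
      have h2 := MonoidHom.transfer_eq_pow (Abelianization.of : ΓU →* Abelianization ΓU) a key
      have h3 : MonoidHom.transfer (Abelianization.of : ΓU →* Abelianization ΓU) a = 1 := by
        have h4 : a ∈ (MonoidHom.transfer (Abelianization.of : ΓU →* Abelianization ΓU)).ker :=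
          Abelianization.commutator_subset_ker _ (hσd ha)
        exact MonoidHom.mem_ker.1 h4
      rw [h3] at h2
      have h5 : (⟨a ^ ΓU.index, MonoidHom.transfer_eq_pow_aux a key⟩ : ΓU) ∈ commutator ΓU :=
        (QuotientGroup.eq_one_iff _).1 h2.symm
      have h6 : (⟨a ^ U.index, pow_mem (hkerU a ha) _⟩ : ΓU) =
          ⟨a ^ ΓU.index, MonoidHom.transfer_eq_pow_aux a key⟩ := by
        apply Subtype.ext
        show a ^ U.index = a ^ ΓU.index
        rw [hidx]
      rw [h6]; exact h5
  -- the power map into `I`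
  let I : Subgroup ΓU := ξ.ker ⊓ commutator ΓU
  let κ : σ.ker →* I :=
    { toFun := fun a => ⟨⟨(a : Γ) ^ U.index, pow_mem (hkerU a a.2) _⟩, hpow a a.2⟩
      map_one' := by
        apply Subtype.ext; apply Subtype.ext
        show ((1 : σ.ker) : Γ) ^ U.index = 1
        rw [Subgroup.coe_one, one_pow]
      map_mul' := fun a b => by
        apply Subtype.ext; apply Subtype.ext
        show ((a * b : σ.ker) : Γ) ^ U.index = (a : Γ) ^ U.index * (b : Γ) ^ U.index
        rw [Subgroup.coe_mul]
        have hcomm : Commute (a : Γ) (b : Γ) := (Subgroup.mem_center_iff.1 (hσc a.2) (b : Γ)).symm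
        exact hcomm.mul_pow _ }
  -- the multiplier of `U` maps onto `I`
  have hmem : ∀ m : fcMult U, θ (m : FC U) ∈ I := by
    intro m
    show θ (m : FC U) ∈ ξ.ker ⊓ commutator ΓU
    rw [h1]; exact ⟨m, m.2, rfl⟩
  let f : fcMult U →* I :=
    { toFun := fun m => ⟨θ (m : FC U), hmem m⟩
      map_one' := Subtype.ext (map_one θ)
      map_mul' := fun a b => Subtype.ext (map_mul θ _ _) }
  have hf : Function.Surjective f := by
    have h3 : ∀ y ∈ ξ.ker ⊓ commutator ΓU, ∃ m ∈ fcMult U, θ m = y := by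
      intro y hy; rw [h1] at hy; exact hy
    intro x
    obtain ⟨m, hm, hmx⟩ := h3 x.1 x.2
    exact ⟨⟨m, hm⟩, Subtype.ext hmx⟩
  haveI : Finite (fcMult U) := fcMult_finite U
  letI : CommGroup (fcMult U) := { (inferInstance : Group (fcMult U)) with
    mul_comm := fun a b =>
      Subtype.ext (Subgroup.mem_center_iff.1 (fcMult_le_center U b.2) a.1) }
  obtain ⟨g, hg⟩ := exists_injective_of_surjective f hf
  refine ⟨g.comp κ, ?_⟩
  intro a
  constructor
  · intro ha
    have h2 : κ a = 1 := by
      apply hg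
      rw [map_one]; exact ha
    have h3 := congrArg (fun x : I => ((x : ΓU) : Γ)) h2
    exact h3
  · intro ha
    have h2 : κ a = 1 := by
      apply Subtype.ext; apply Subtype.ext
      exact ha
    show g (κ a) = 1
    rw [h2, map_one]

end subgroupMult

end Cfsg.Agent.H1
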