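import Mathlib
import Cfsg.Prelude.Def_OddOrderLocal
import Cfsg.Prelude.Def_PLocal
import Cfsg.Agent.S0625
import Cfsg.Agent.S0027
import Cfsg.Agent.H1.Cores
import Cfsg.Agent.H2.BenderLemma
import Cfsg.Agent.H2.BG37a
import Cfsg.Agent.H2.AutFrattini
import Cfsg.Agent.Lib.Helper4.SolvPSolv
import Cfsg.Agent.Lib.Lead.PiCore
import Cfsg.Agent.H1.HallConverse

set_option autoImplicit false
set_option linter.unusedVariables false
set_option linter.style.haveILetI false
set_option linter.unusedSectionVars false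
open scoped commutatorElement

namespace Cfsg.Agent.H1.ScnHall

/-- Burnside: a `p'`-element acting trivially on `D / Φ(D)` centralizes the normal `p`-subgroup `D`. -/
theorem mem_centralizer_of_comm_mem_frattini {G : Type*} [Group G] [Finite G] {p : ℕ} [hp : Fact p.Prime]
    (D : Subgroup G) [hDn : D.Normal]
    (hD : IsPGroup p D) (x : G) (hx : ¬ p ∣ orderOf x)
    (hcomm : ∀ d ∈ D, x * d * x⁻¹ * d⁻¹ ∈ (frattini ↥D).map D.subtype) :
    x ∈ Subgroup.centralizer (D : Set G) := by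
  classical
  obtain ⟨α, hα⟩ : ∃ α : MulAut D, α = MulAut.conjNormal (H := D) x := ⟨_, rfl⟩
  have hαapp : ∀ (k : ℕ) (d : D), (((α ^ k) d : D) : G) = x ^ k * (d : G) * (x ^ k)⁻¹ := by
    intro k d
    rw [hα, ← map_pow]
    rfl
  have hpow : ∀ (k : ℕ), ∀ d ∈ D, x ^ k * d * (x ^ k)⁻¹ * d⁻¹ ∈ (frattini ↥D).map D.subtype := by
    intro k
    induction k with
    | zero =>
      intro d _
      simp
    | succ k ih =>
      intro d hd
      have h1 := ih d hd
      have hd' : x ^ k * d * (x ^ k)⁻¹ ∈ D := hDn.conj_mem d hd (x ^ k)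
      have h2 := hcomm _ hd'
      have : x ^ (k + 1) * d * (x ^ (k + 1))⁻¹ * d⁻¹
          = (x * (x ^ k * d * (x ^ k)⁻¹) * x⁻¹ * (x ^ k * d * (x ^ k)⁻¹)⁻¹)
            * (x ^ k * d * (x ^ k)⁻¹ * d⁻¹) := by
        rw [pow_succ']
        group
      rw [this]
      exact Subgroup.mul_mem _ h2 h1
  obtain ⟨n, hn⟩ := IsPGroup.iff_card.mp hD
  obtain ⟨r, hr⟩ : ∃ r : ℕ, (frattini D).index = p ^ r := by
    have h1 : (frattini D).index ∣ p ^ n := by
      rw [← hn]
      exact Subgroup.index_dvd_card _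
    obtain ⟨r, -, hr⟩ := (Nat.dvd_prime_pow hp.out).mp h1
    exact ⟨r, hr⟩
  have hA : ∀ β ∈ Subgroup.zpowers α, ∀ d : D, β d * d⁻¹ ∈ frattini D := by
    intro β hβ d
    have hfin : IsOfFinOrder α := isOfFinOrder_of_finite α
    rw [← hfin.mem_powers_iff_mem_zpowers] at hβ
    obtain ⟨k, rfl⟩ := (Submonoid.mem_powers_iff _ _).mp hβ
    have h1 := hpow k d d.2
    obtain ⟨y, hy, hyeq⟩ := h1
    have : y = (α ^ k) d * d⁻¹ := by
      apply Subtype.ext
      rw [Subgroup.coe_mul, hαapp, Subgroup.coe_inv]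
      exact hyeq
    rw [← this]
    exact hy
  have hdvd := Cfsg.Agent.H2.AutFrat.card_dvd_of_trivial_on_frattini_quotient hn hr
    (Subgroup.zpowers α) hA
  rw [Nat.card_zpowers] at hdvd
  have hdvd2 : orderOf α ∣ orderOf x := by
    rw [hα]
    exact orderOf_map_dvd _ x
  have hone : orderOf α = 1 := by
    obtain ⟨j, -, hj⟩ := (Nat.dvd_prime_pow hp.out).mp hdvd
    rcases Nat.eq_zero_or_pos j with h0 | hpos
    · rw [hj, h0, pow_zero]
    · exfalso
      apply hx
      exact (dvd_pow_self p hpos.ne').trans (hj ▸ hdvd2)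
  rw [orderOf_eq_one_iff] at hone
  rw [Subgroup.mem_centralizer_iff]
  intro d hd
  have h1 := hαapp 1 ⟨d, hd⟩
  rw [hone, pow_one, pow_one] at h1
  simp only [MulAut.one_apply] at h1
  calc d * x = (x * d * x⁻¹) * x := by rw [← h1]
    _ = x * d := by group

/-- membership in the section kernel, unfolded -/
theorem comm_mem_of_mem_sectionKernel {G : Type*} [Group G] (K N : Subgroup G) [N.Normal] {g : G}
    (hg : g ∈ Cfsg.sectionKernel K N) {d : G} (hd : d ∈ K) : g * d * g⁻¹ * d⁻¹ ∈ N := by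
  unfold Cfsg.sectionKernel at hg
  rw [Subgroup.mem_comap, Subgroup.mem_centralizer_iff] at hg
  have h1 := hg (QuotientGroup.mk' N d) ⟨d, hd, rfl⟩
  rw [← QuotientGroup.eq_one_iff (N := N)]
  have h2 : ((g * d * g⁻¹ * d⁻¹ : G) : G ⧸ N) =
      (QuotientGroup.mk' N g) * (QuotientGroup.mk' N d) * (QuotientGroup.mk' N g)⁻¹ * (QuotientGroup.mk' N d)⁻¹ := by
    simp
  rw [h2, ← h1]
  group

instance sectionKernel_normal {G : Type*} [Group G] (K N : Subgroup G) [K.Normal] [N.Normal] :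
    (Cfsg.sectionKernel K N).Normal := by
  unfold Cfsg.sectionKernel
  haveI : (K.map (QuotientGroup.mk' N)).Normal :=
    Subgroup.Normal.map inferInstance _ (QuotientGroup.mk'_surjective N)
  infer_instance

/-- **Main lemma.** `T` solvable, `p ≥ 5`, `B ≤ T` normalized by `F(T)` with `C_{F(T)}(B) ≤ B`:
every `p`-element centralizing `B` lies in `B`. -/
theorem main_lemma {T : Type*} [Group T] [Finite T] [hsol : Group.IsSolvable T] {p : ℕ} [hp : Fact p.Prime]
    (hp5 : 5 ≤ p) (B : Subgroup T)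
    (hB1 : ∀ f ∈ Cfsg.fittingSubgroup T, ∀ b ∈ B, f * b * f⁻¹ ∈ B)
    (hB2 : ∀ f ∈ Cfsg.fittingSubgroup T, (∀ b ∈ B, f * b = b * f) → f ∈ B)
    (x : T) (hxB : ∀ b ∈ B, x * b = b * x) (k : ℕ) (hxk : x ^ p ^ k = 1) : x ∈ B := by
  classical
  obtain ⟨F, hF⟩ : ∃ F : Subgroup T, F = Cfsg.fittingSubgroup T := ⟨_, rfl⟩
  haveI hFn : F.Normal := by rw [hF]; exact Cfsg.Agent.H1.fittingSubgroup_normal
  obtain ⟨Z, hZ⟩ : ∃ Z : Subgroup T, Z = Subgroup.zpowers x := ⟨_, rfl⟩
  -- elements of `Z` centralize `B`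
  have hZB : ∀ y ∈ Z, ∀ b ∈ B, y * b = b * y := by
    have h1 : Z ≤ Subgroup.centralizer (B : Set T) := by
      rw [hZ, Subgroup.zpowers_le, Subgroup.mem_centralizer_iff]
      intro b hb
      exact (hxB b hb).symm
    intro y hy b hb
    exact ((Subgroup.mem_centralizer_iff.mp (h1 hy)) b hb).symm
  -- (a) commutators `[f, y]` lie in `B`
  have hcommB : ∀ f ∈ F, ∀ y ∈ Z, ⁅f, y⁆ ∈ B := by
    intro f hf y hy
    rw [hF] at hf
    apply hB2
    · rw [commutatorElement_def]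
      have h1 : y * f⁻¹ * y⁻¹ ∈ Cfsg.fittingSubgroup T := by
        rw [← hF]; exact hFn.conj_mem _ (by rw [hF]; exact Subgroup.inv_mem _ hf) y
      have := Subgroup.mul_mem _ hf h1
      have e : f * (y * f⁻¹ * y⁻¹) = f * y * f⁻¹ * y⁻¹ := by group
      rwa [e] at this
    · intro b hb
      have hb' : f⁻¹ * b * f ∈ B := by
        have := hB1 f⁻¹ (Subgroup.inv_mem _ hf) b hb
        rwa [inv_inv] at this
      have e1 : y * (f⁻¹ * b * f) = (f⁻¹ * b * f) * y := hZB y hy _ hb'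
      have e2 : y⁻¹ * b = b * y⁻¹ := hZB y⁻¹ (Subgroup.inv_mem _ hy) b hb
      rw [commutatorElement_def]
      calc f * y * f⁻¹ * y⁻¹ * b = f * y * f⁻¹ * (y⁻¹ * b) := by group
        _ = f * y * f⁻¹ * (b * y⁻¹) := by rw [e2]
        _ = f * (y * (f⁻¹ * b * f)) * f⁻¹ * y⁻¹ := by group
        _ = f * ((f⁻¹ * b * f) * y) * f⁻¹ * y⁻¹ := by rw [e1]
        _ = b * (f * y * f⁻¹ * y⁻¹) := by group
  have hquad : ∀ K : Subgroup T, K ≤ F → ⁅⁅K, Z⁆, Z⁆ = ⊥ := by
    intro K hK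
    rw [Subgroup.commutator_eq_bot_iff_le_centralizer]
    have h1 : ⁅K, Z⁆ ≤ B := by
      rw [Subgroup.commutator_le]
      intro f hf y hy
      exact hcommB f (hK hf) y hy
    refine h1.trans ?_
    intro b hb
    rw [Subgroup.mem_centralizer_iff]
    intro y hy
    exact hZB y hy b hb
  -- (b) `x` centralizes `O_{p'}(F)`
  obtain ⟨Q, hQ⟩ : ∃ Q : Subgroup T, Q = Cfsg.Agent.H2.BenderLemma.Rp p T := ⟨_, rfl⟩
  haveI hQn : Q.Normal := by rw [hQ]; infer_instance
  have hQF : Q ≤ F := by rw [hQ, hF]; exact inf_le_left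
  have hZcard : Nat.card Z ∣ p ^ k := by
    rw [hZ, Nat.card_zpowers]
    exact orderOf_dvd_of_pow_eq_one hxk
  have hQcop : (Nat.card Q).Coprime p := by rw [hQ]; exact Cfsg.Agent.H2.BenderLemma.Rp_coprime p
  have hQZ : Q ≤ Subgroup.centralizer (Z : Set T) := by
    have hcop : (Nat.card Z).Coprime (Nat.card Q) :=
      Nat.Coprime.coprime_dvd_left hZcard (Nat.Coprime.pow_left k hQcop.symm)
    have hZQ : Z ≤ Subgroup.normalizer (Q : Set T) := by
      rw [Subgroup.normalizer_eq_top_iff.2 hQn]; exact le_top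
    have hZsol : Group.IsSolvable Z := by
      rw [hZ]
      haveI : IsCyclic (Subgroup.zpowers x) := inferInstance
      infer_instance
    have h27 := Cfsg.Agent.S0027.result Z Q hZQ hcop (Or.inl hZsol)
    rw [hquad Q hQF] at h27
    exact Subgroup.commutator_eq_bot_iff_le_centralizer.mp h27.symm
  have hxZ : x ∈ Z := by rw [hZ]; exact Subgroup.mem_zpowers x
  have hxQ : x ∈ Subgroup.centralizer (Q : Set T) := by
    rw [Subgroup.mem_centralizer_iff]
    intro r hr
    exact (Subgroup.mem_centralizer_iff.mp (hQZ hr)) x hxZ |>.symm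
  -- (c) p-stability on `P / Φ(P)`
  obtain ⟨P, hP⟩ : ∃ P : Subgroup T, P = Cfsg.pCore p T := ⟨_, rfl⟩
  haveI hPn : P.Normal := by rw [hP]; exact Cfsg.Agent.H1.pCore_normal p
  have hPp : IsPGroup p P := by rw [hP]; exact Cfsg.Agent.H1.pCore_isPGroup p
  have hPF : P ≤ F := by rw [hP, hF]; exact Cfsg.Agent.H2.BenderLemma.pCore_le_fitting p
  have hpsol : Cfsg.IsPSolvable p T := Cfsg.Agent.Lib.Helper4.SolvPSolv.isPSolvable_of_isSolvable p T
  have hst : Cfsg.IsPStableOnSection p P ((frattini ↥P).map P.subtype) := by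
    subst hP
    exact (Cfsg.Agent.S0625.result hp5 hpsol).2.1
  obtain ⟨D, hDn, hCD, ⟨k', hk'⟩, hxD⟩ := hst x (by rw [← hZ, hquad P hPF]; exact bot_le)
  haveI := hDn
  -- (d) the normal subgroup `N₁ = D ∩ C(Q)`
  obtain ⟨N₁, hN₁⟩ : ∃ N₁ : Subgroup T, N₁ = D ⊓ Subgroup.centralizer (Q : Set T) := ⟨_, rfl⟩
  haveI hN₁n : N₁.Normal := by rw [hN₁]; infer_instance
  have hxN₁ : x ∈ N₁ := by rw [hN₁]; exact ⟨hxD, hxQ⟩
  have hFsup : F = P ⊔ Q := by rw [hF, hP, hQ]; exact Cfsg.Agent.H2.BenderLemma.fitting_eq_sup p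
  -- `p'`-elements of `N₁` lie in `Q`
  have hpprime : ∀ g ∈ N₁, (orderOf g).Coprime p → g ∈ Q := by
    intro g hg hgcop
    rw [hN₁] at hg
    obtain ⟨hgD, hgQ⟩ := hg
    -- `g` lies in the section kernel
    have hgC : g ∈ Cfsg.sectionKernel P ((frattini ↥P).map P.subtype) := by
      haveI : ((Cfsg.sectionKernel P ((frattini ↥P).map P.subtype)).subgroupOf D).Normal := inferInstance
      have h1 := Subgroup.pow_index_mem ((Cfsg.sectionKernel P ((frattini ↥P).map P.subtype)).subgroupOf D)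
        (⟨g, hgD⟩ : D)
      have h2 : ((Cfsg.sectionKernel P ((frattini ↥P).map P.subtype)).subgroupOf D).index = p ^ k' := hk'
      rw [h2, Subgroup.mem_subgroupOf] at h1
      have h3 : g ^ p ^ k' ∈ Cfsg.sectionKernel P ((frattini ↥P).map P.subtype) := by
        simpa using h1
      have h4 : (p ^ k').Coprime (orderOf g) := Nat.Coprime.pow_left k' hgcop.symm
      obtain ⟨m, hm⟩ := exists_pow_eq_self_of_coprime h4
      rw [← hm]
      exact Subgroup.pow_mem _ h3 m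
    have hgP : g ∈ Subgroup.centralizer (P : Set T) := by
      apply mem_centralizer_of_comm_mem_frattini P hPp g
      · exact (Nat.Prime.coprime_iff_not_dvd hp.out).mp hgcop.symm
      · intro d hd
        exact comm_mem_of_mem_sectionKernel P _ hgC hd
    have hgF : g ∈ Subgroup.centralizer (F : Set T) := by
      have h1 : F ≤ Subgroup.centralizer ({g} : Set T) := by
        rw [hFsup]
        apply sup_le
        · intro u hu
          rw [Subgroup.mem_centralizer_singleton_iff]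
          exact (Subgroup.mem_centralizer_iff.mp hgP u hu)
        · intro u hu
          rw [Subgroup.mem_centralizer_singleton_iff]
          exact (Subgroup.mem_centralizer_iff.mp hgQ u hu)
      rw [Subgroup.mem_centralizer_iff]
      intro f hf
      have := h1 hf
      rw [Subgroup.mem_centralizer_singleton_iff] at this
      exact this
    have hgF' : g ∈ Cfsg.fittingSubgroup T := by
      rw [hF] at hgF
      exact Cfsg.Agent.H2.BG37.centralizer_fitting_le hgF
    rw [hQ]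
    exact Cfsg.Agent.H2.BenderLemma.mem_Rp_of_coprime p hgF' hgcop
  -- every element of `N₁` has a `p`-power in `Q`
  have hpowQ : ∀ g ∈ N₁, ∃ j : ℕ, g ^ p ^ j ∈ Q := by
    intro g hg
    have hn : orderOf g ≠ 0 := (orderOf_pos g).ne'
    obtain ⟨j, m, hm, hjm⟩ := Nat.exists_eq_pow_mul_and_not_dvd hn p hp.out.ne_one
    refine ⟨j, hpprime _ (Subgroup.pow_mem _ hg _) ?_⟩
    have h1 : (g ^ p ^ j) ^ m = 1 := by
      rw [← pow_mul, ← hjm, pow_orderOf_eq_one]
    have h2 := orderOf_dvd_of_pow_eq_one h1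
    exact Nat.Coprime.coprime_dvd_left h2 ((Nat.Prime.coprime_iff_not_dvd hp.out).mpr hm).symm
  -- (e) `N₁` is nilpotent
  have hN₁nil : Group.IsNilpotent ↥N₁ := by
    obtain ⟨f, hf⟩ : ∃ f : ↥N₁ →* T ⧸ Q, f = (QuotientGroup.mk' Q).comp N₁.subtype := ⟨_, rfl⟩
    have hrange : IsPGroup p ↥f.range := by
      rintro ⟨y, ⟨n, rfl⟩⟩
      obtain ⟨j, hj⟩ := hpowQ n n.2
      refine ⟨j, ?_⟩
      apply Subtype.ext
      rw [Subgroup.coe_pow, Subgroup.coe_one]
      show (f n) ^ p ^ j = 1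
      rw [← map_pow, hf]
      show (QuotientGroup.mk' Q) ((n ^ p ^ j : ↥N₁) : T) = 1
      rw [Subgroup.coe_pow, QuotientGroup.mk'_apply, QuotientGroup.eq_one_iff]
      exact hj
    haveI : Group.IsNilpotent ↥f.range := hrange.isNilpotent
    apply Subgroup.isNilpotent_of_ker_le_center f.rangeRestrict
    intro n hn
    rw [MonoidHom.mem_ker] at hn
    have hn' : f n = 1 := by
      have := congrArg Subtype.val hn
      simpa using this
    rw [hf] at hn'
    have hnQ : (n : T) ∈ Q := by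
      have : (QuotientGroup.mk' Q) (n : T) = 1 := hn'
      rwa [QuotientGroup.mk'_apply, QuotientGroup.eq_one_iff] at this
    rw [Subgroup.mem_center_iff]
    intro m
    apply Subtype.ext
    rw [Subgroup.coe_mul, Subgroup.coe_mul]
    have hle : N₁ ≤ Subgroup.centralizer (Q : Set T) := by rw [hN₁]; exact inf_le_right
    have hm : (m : T) ∈ Subgroup.centralizer (Q : Set T) := hle m.2
    exact (Subgroup.mem_centralizer_iff.mp hm _ hnQ).symm
  have hN₁F : N₁ ≤ Cfsg.fittingSubgroup T := Cfsg.Agent.H1.le_fittingSubgroup hN₁n hN₁nil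
  exact hB2 x (hN₁F hxN₁) hxB

open Cfsg.Agent.Lib.Lead.PiCore in
/-- `p`-elements (`p ∈ π`) of `C_S(A)` lie in `A`. -/
theorem pElement_mem {S : Type*} [Group S] [Finite S] [hsolS : Group.IsSolvable S]
    (π : Set ℕ) (h2 : 2 ∉ π) (h3 : 3 ∉ π) (H : Subgroup S) (hH : Cfsg.IsPiHall π H)
    (A : Subgroup S) (hA : Cfsg.IsSCN ((Cfsg.fittingSubgroup H).map H.subtype) A)
    {p : ℕ} [hp : Fact p.Prime] (hpπ : p ∈ π) (x : S) (hx : x ∈ Subgroup.centralizer (A : Set S))
    (k : ℕ) (hxk : x ^ p ^ k = 1) : x ∈ A := by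
  classical
  have hp5 : 5 ≤ p := by
    have h2' : p ≠ 2 := fun h => h2 (h ▸ hpπ)
    have h3' : p ≠ 3 := fun h => h3 (h ▸ hpπ)
    have h4' : p ≠ 4 := by
      intro h
      have := hp.out
      rw [h] at this
      exact absurd this (by decide)
    have := hp.out.two_le
    omega
  obtain ⟨hAF, hFN, hFC⟩ := hA
  obtain ⟨FH, hFH⟩ : ∃ FH : Subgroup S, FH = (Cfsg.fittingSubgroup H).map H.subtype := ⟨_, rfl⟩
  rw [← hFH] at hAF hFN hFC
  have hFHH : FH ≤ H := by rw [hFH]; exact Subgroup.map_subtype_le _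
  obtain ⟨R, hR⟩ : ∃ R : Subgroup S, R = Cfsg.piCore πᶜ S := ⟨_, rfl⟩
  haveI hRn : R.Normal := by rw [hR]; infer_instance
  have hRπ : IsPiNat πᶜ (Nat.card R) := by rw [hR]; exact piCore_isPiNat πᶜ
  haveI hTsol : Group.IsSolvable (S ⧸ R) := solvable_of_surjective (QuotientGroup.mk'_surjective R)
  -- coprimality
  have hcopHR : (Nat.card H).Coprime (Nat.card R) := by
    apply Nat.coprime_of_dvd
    intro q hq hqH hqR
    exact hRπ q hq hqR (hH.1 q hq hqH)
  have hHR : H ⊓ R = ⊥ := (Subgroup.disjoint_of_coprime_natCard hcopHR).eq_bot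
  have hAR : A ⊓ R = ⊥ := by
    rw [eq_bot_iff, ← hHR]
    exact inf_le_inf_right R (hAF.trans hFHH)
  -- `O_q(T) = 1` for `q ∉ π`
  have hTbot : Cfsg.piCore πᶜ (S ⧸ R) = ⊥ := piCore_quotient_eq_bot' πᶜ R hR
  have hOq : ∀ q : ℕ, q.Prime → q ∉ π → Cfsg.pCore q (S ⧸ R) = ⊥ := by
    intro q hq hqπ
    rw [eq_bot_iff, ← hTbot]
    apply le_piCore (Cfsg.Agent.H1.pCore_normal q)
    intro r hr hrdvd
    haveI : Fact q.Prime := ⟨hq⟩
    obtain ⟨n, hn⟩ := IsPGroup.iff_card.mp (Cfsg.Agent.H1.pCore_isPGroup (G := S ⧸ R) q)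
    rw [hn] at hrdvd
    have := (Nat.prime_dvd_prime_iff_eq hr hq).mp (hr.dvd_of_dvd_pow hrdvd)
    rw [this]
    exact hqπ
  -- `F(T) ≤ H̄`
  have hidx : ∀ q : ℕ, q.Prime → q ∈ π → ¬ q ∣ (H.map (QuotientGroup.mk' R)).index := by
    intro q hq hqπ hdvd
    exact hH.2 q hq hqπ (hdvd.trans (Subgroup.index_map_dvd H (QuotientGroup.mk'_surjective R)))
  have hFTH : Cfsg.fittingSubgroup (S ⧸ R) ≤ H.map (QuotientGroup.mk' R) := by
    rw [Cfsg.Agent.H1.fittingSubgroup_eq_iSup_pCore]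
    apply iSup_le
    intro q
    haveI : Fact (q : ℕ).Prime := ⟨q.2⟩
    by_cases hq : (q : ℕ) ∈ π
    · apply Cfsg.Agent.H1.normal_pgroup_le_of_coprime_index _ _ (Cfsg.Agent.H1.pCore_isPGroup _)
      rw [Nat.coprime_comm, Nat.Prime.coprime_iff_not_dvd q.2]
      exact hidx q q.2 hq
    · rw [hOq q q.2 hq]; exact bot_le
  -- `F(T) ≤ image of F(H)`
  obtain ⟨φ, hφ⟩ : ∃ φ : ↥H →* S ⧸ R, φ = (QuotientGroup.mk' R).comp H.subtype := ⟨_, rfl⟩
  have hφinj : Function.Injective φ := by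
    rw [injective_iff_map_eq_one]
    intro h hh
    rw [hφ] at hh
    have h1 : (h : S) ∈ R := by
      have : (QuotientGroup.mk' R) (h : S) = 1 := hh
      rwa [QuotientGroup.mk'_apply, QuotientGroup.eq_one_iff] at this
    have h2 : (h : S) ∈ H ⊓ R := ⟨h.2, h1⟩
    rw [hHR, Subgroup.mem_bot] at h2
    exact Subtype.ext h2
  have hFTF : ∀ fb ∈ Cfsg.fittingSubgroup (S ⧸ R), ∃ f ∈ FH, QuotientGroup.mk' R f = fb := by
    intro fb hfb
    obtain ⟨h, hhH, hh⟩ := hFTH hfb
    refine ⟨h, ?_, hh⟩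
    obtain ⟨N, hN⟩ : ∃ N : Subgroup ↥H, N = (Cfsg.fittingSubgroup (S ⧸ R)).comap φ := ⟨_, rfl⟩
    haveI hNn : N.Normal := by
      rw [hN]
      haveI : (Cfsg.fittingSubgroup (S ⧸ R)).Normal := Cfsg.Agent.H1.fittingSubgroup_normal
      infer_instance
    have hNnil : Group.IsNilpotent ↥N := by
      haveI : Group.IsNilpotent ↥(Cfsg.fittingSubgroup (S ⧸ R)) := Cfsg.Agent.H1.fittingSubgroup_nilpotent
      have hNle : N ≤ (Cfsg.fittingSubgroup (S ⧸ R)).comap φ := by rw [hN]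
      have hmem : ∀ n : ↥N, (φ.comp N.subtype) n ∈ Cfsg.fittingSubgroup (S ⧸ R) := by
        intro n
        exact hNle n.2
      apply Subgroup.isNilpotent_of_ker_le_center
        ((φ.comp N.subtype).codRestrict (Cfsg.fittingSubgroup (S ⧸ R)) hmem)
      intro n hn
      rw [MonoidHom.mem_ker] at hn
      have h1 : φ (n : ↥H) = 1 := by
        have := congrArg Subtype.val hn
        simpa using this
      have h2 : (n : ↥H) = 1 := hφinj (by rw [h1, map_one])
      have h3 : n = 1 := Subtype.ext h2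
      rw [h3]
      exact Subgroup.one_mem _
    have hNF : N ≤ Cfsg.fittingSubgroup ↥H := Cfsg.Agent.H1.le_fittingSubgroup hNn hNnil
    have hhN : (⟨h, hhH⟩ : ↥H) ∈ N := by
      rw [hN, Subgroup.mem_comap, hφ]
      show (QuotientGroup.mk' R) h ∈ _
      rw [hh]; exact hfb
    rw [hFH]
    exact ⟨⟨h, hhH⟩, hNF hhN, rfl⟩
  -- apply the main lemma
  have hmain : QuotientGroup.mk' R x ∈ A.map (QuotientGroup.mk' R) := by
    apply main_lemma hp5 (A.map (QuotientGroup.mk' R)) _ _ (QuotientGroup.mk' R x) _ k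
    · rw [← map_pow, hxk, map_one]
    · intro fb hfb b hb
      obtain ⟨f, hf, rfl⟩ := hFTF fb hfb
      obtain ⟨a, ha, rfl⟩ := hb
      refine ⟨f * a * f⁻¹, ?_, by simp⟩
      exact (Subgroup.mem_normalizer_iff.mp (hFN hf) a).mp ha
    · intro fb hfb hcomm
      obtain ⟨f, hf, rfl⟩ := hFTF fb hfb
      refine ⟨f, ?_, rfl⟩
      have hfC : f ∈ Subgroup.centralizer (A : Set S) := by
        rw [Subgroup.mem_centralizer_iff]
        intro a ha
        have h1 : f * a * f⁻¹ * a⁻¹ ∈ A :=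
          A.mul_mem ((Subgroup.mem_normalizer_iff.mp (hFN hf) a).mp ha) (A.inv_mem ha)
        have h2 : f * a * f⁻¹ * a⁻¹ ∈ R := by
          rw [← QuotientGroup.eq_one_iff (N := R)]
          have h3 := hcomm (QuotientGroup.mk' R a) ⟨a, ha, rfl⟩
          have h4 : ((f * a * f⁻¹ * a⁻¹ : S) : S ⧸ R) =
              (QuotientGroup.mk' R f) * (QuotientGroup.mk' R a) * (QuotientGroup.mk' R f)⁻¹ *
                (QuotientGroup.mk' R a)⁻¹ := by simp
          rw [h4, h3]
          group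
        have h5 : f * a * f⁻¹ * a⁻¹ ∈ A ⊓ R := ⟨h1, h2⟩
        rw [hAR, Subgroup.mem_bot] at h5
        calc a * f = (f * a * f⁻¹ * a⁻¹)⁻¹ * (f * a) := by group
          _ = f * a := by rw [h5, inv_one, one_mul]
      rw [← hFC]
      exact ⟨hf, hfC⟩
    · intro b hb
      obtain ⟨a, ha, rfl⟩ := hb
      rw [← map_mul, ← map_mul, (Subgroup.mem_centralizer_iff.mp hx a ha)]
  obtain ⟨a, ha, hax⟩ := hmain
  -- `r = a⁻¹ x ∈ R` has order dividing both a `π`-number and a `π'`-number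
  have hr : a⁻¹ * x ∈ R := by
    rw [← QuotientGroup.eq_one_iff (N := R)]
    have : ((a⁻¹ * x : S) : S ⧸ R) = (QuotientGroup.mk' R a)⁻¹ * (QuotientGroup.mk' R x) := by simp
    rw [this, hax]
    group
  have hcomm : Commute a⁻¹ x := by
    have := Subgroup.mem_centralizer_iff.mp hx a ha
    have h1 : Commute a x := this
    exact h1.inv_left
  have hpow : (a⁻¹ * x) ^ (Nat.card A * p ^ k) = 1 := by
    rw [hcomm.mul_pow, pow_mul, pow_mul', hxk, one_pow, mul_one, inv_pow]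
    have : a ^ Nat.card A = 1 := by
      have := orderOf_dvd_iff_pow_eq_one.mp (Subgroup.orderOf_dvd_natCard A ha)
      exact this
    rw [this, inv_one, one_pow]
  have hord1 : orderOf (a⁻¹ * x) ∣ Nat.card A * p ^ k := orderOf_dvd_of_pow_eq_one hpow
  have hord2 : orderOf (a⁻¹ * x) ∣ Nat.card R := Subgroup.orderOf_dvd_natCard R hr
  have hcop : (Nat.card A * p ^ k).Coprime (Nat.card R) := by
    apply Nat.coprime_of_dvd
    intro q hq hq1 hqR
    apply hRπ q hq hqR
    rcases (Nat.Prime.dvd_mul hq).mp hq1 with h | h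
    · exact hH.1 q hq (h.trans (Subgroup.card_dvd_of_le (hAF.trans hFHH)))
    · have := (Nat.prime_dvd_prime_iff_eq hq hp.out).mp (hq.dvd_of_dvd_pow h)
      rw [this]; exact hpπ
  have hone : orderOf (a⁻¹ * x) = 1 := Nat.eq_one_of_dvd_coprimes hcop hord1 hord2
  rw [orderOf_eq_one_iff] at hone
  have : x = a := by
    calc x = a * (a⁻¹ * x) := by group
      _ = a := by rw [hone, mul_one]
  rw [this]; exact ha

/-- **S1893.** `C_S(A) = A × D` with `D` a `π'`-group. -/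
theorem main {S : Type*} [Group S] [Finite S] [Group.IsSolvable S]
    (π : Set ℕ) (h2 : 2 ∉ π) (h3 : 3 ∉ π) (H : Subgroup S) (hH : Cfsg.IsPiHall π H)
    (A : Subgroup S) (hA : Cfsg.IsSCN ((Cfsg.fittingSubgroup H).map H.subtype) A) :
    ∃ D : Subgroup S, D ≤ Subgroup.centralizer (A : Set S) ∧
      (∀ c ∈ Subgroup.centralizer (A : Set S), ∀ d ∈ D, c * d * c⁻¹ ∈ D) ∧
      A ⊓ D = ⊥ ∧ A ⊔ D = Subgroup.centralizer (A : Set S) ∧
      ∀ q : ℕ, q.Prime → q ∣ Nat.card D → q ∉ π := by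
  classical
  have hpel := fun (p : ℕ) (hp : Fact p.Prime) => @pElement_mem S _ _ _ π h2 h3 H hH A hA p hp
  obtain ⟨hAF, hFN, hFC⟩ := hA
  obtain ⟨C, hC⟩ : ∃ C : Subgroup S, C = Subgroup.centralizer (A : Set S) := ⟨_, rfl⟩
  rw [← hC]
  have hAC : A ≤ C := by
    have h1 : (Cfsg.fittingSubgroup H).map H.subtype ⊓ Subgroup.centralizer (A : Set S) ≤
        Subgroup.centralizer (A : Set S) := inf_le_right
    rw [hFC] at h1
    rw [hC]; exact h1
  have hAH : A ≤ H := hAF.trans (Subgroup.map_subtype_le _)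
  have hCcomm : ∀ c ∈ C, ∀ a ∈ A, a * c = c * a := by
    intro c hc a ha
    rw [hC] at hc
    exact Subgroup.mem_centralizer_iff.mp hc a ha
  obtain ⟨A', hA'⟩ : ∃ A' : Subgroup ↥C, A' = A.subgroupOf C := ⟨_, rfl⟩
  have hA'mem : ∀ c : ↥C, c ∈ A' ↔ (c : S) ∈ A := by
    intro c; rw [hA']; exact Subgroup.mem_subgroupOf
  have hA'central : ∀ a ∈ A', ∀ c : ↥C, a * c = c * a := by
    intro a ha c
    apply Subtype.ext
    rw [Subgroup.coe_mul, Subgroup.coe_mul]
    exact hCcomm c c.2 a ((hA'mem a).mp ha)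
  haveI hA'n : A'.Normal := by
    constructor
    intro a ha c
    have : c * a * c⁻¹ = a := by
      rw [← hA'central a ha c]; group
    rw [this]; exact ha
  have hcardA' : Nat.card A' = Nat.card A := by
    rw [hA']
    exact Nat.card_congr (Subgroup.subgroupOfEquivOfLe hAC).toEquiv
  -- no prime of `π` divides the index
  have hidx : ∀ q : ℕ, q.Prime → q ∈ π → ¬ q ∣ A'.index := by
    intro q hq hqπ hdvd
    haveI : Fact q.Prime := ⟨hq⟩
    obtain ⟨Qs⟩ : Nonempty (Sylow q ↥C) := inferInstance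
    have hQA : (Qs : Subgroup ↥C) ≤ A' := by
      intro y hy
      rw [hA'mem]
      obtain ⟨j, hj⟩ := (Qs.isPGroup') ⟨y, hy⟩
      have hj' : (y : S) ^ q ^ j = 1 := by
        have := congrArg (fun z : ↥(Qs : Subgroup ↥C) => ((z : ↥C) : S)) hj
        simpa using this
      have hyC : (y : S) ∈ Subgroup.centralizer (A : Set S) := by rw [← hC]; exact y.2
      exact hpel q ⟨hq⟩ hqπ (y : S) hyC j hj'
    have h1 : A'.index ∣ (Qs : Subgroup ↥C).index := Subgroup.index_dvd_of_le hQA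
    exact Qs.not_dvd_index (hdvd.trans h1)
  have hcop : (Nat.card A').Coprime A'.index := by
    apply Nat.coprime_of_dvd
    intro q hq hq1 hq2
    rw [hcardA'] at hq1
    exact hidx q hq (hH.1 q hq (hq1.trans (Subgroup.card_dvd_of_le hAH))) hq2
  obtain ⟨D', hD'⟩ := Subgroup.exists_right_complement'_of_coprime hcop
  have hdecomp : ∀ c : ↥C, ∃ a ∈ A', ∃ e ∈ D', c = a * e := by
    intro c
    obtain ⟨⟨a, e⟩, hae, -⟩ := hD'.existsUnique c
    exact ⟨a, a.2, e, e.2, hae.symm⟩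
  refine ⟨D'.map C.subtype, Subgroup.map_subtype_le _, ?_, ?_, ?_, ?_⟩
  · intro c hc d hd
    obtain ⟨d', hd', rfl⟩ := hd
    obtain ⟨a, ha, e, he, hce⟩ := hdecomp ⟨c, hc⟩
    refine ⟨e * d' * e⁻¹, D'.mul_mem (D'.mul_mem he hd') (D'.inv_mem he), ?_⟩
    have h1 : (⟨c, hc⟩ : ↥C) * d' * (⟨c, hc⟩ : ↥C)⁻¹ = e * d' * e⁻¹ := by
      rw [hce]
      have := hA'central a ha (e * d' * e⁻¹)
      calc a * e * d' * (a * e)⁻¹ = a * (e * d' * e⁻¹) * a⁻¹ := by group
        _ = (e * d' * e⁻¹) * a * a⁻¹ := by rw [this]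
        _ = e * d' * e⁻¹ := by group
    have h2 := congrArg (fun z : ↥C => (z : S)) h1
    simp only [Subgroup.coe_mul, Subgroup.coe_inv] at h2
    rw [Subgroup.coe_subtype]
    simp only [Subgroup.coe_mul, Subgroup.coe_inv]
    exact h2.symm
  · rw [eq_bot_iff]
    intro y hy
    obtain ⟨hyA, d', hd', rfl⟩ := hy
    have h1 : d' ∈ A' ⊓ D' := ⟨(hA'mem d').mpr hyA, hd'⟩
    rw [hD'.disjoint.eq_bot, Subgroup.mem_bot] at h1
    rw [Subgroup.mem_bot, h1]
    rfl
  · apply le_antisymm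
    · exact sup_le hAC (Subgroup.map_subtype_le _)
    · intro c hc
      obtain ⟨a, ha, e, he, hce⟩ := hdecomp ⟨c, hc⟩
      have h2 := congrArg (fun z : ↥C => (z : S)) hce
      simp only [Subgroup.coe_mul] at h2
      rw [h2]
      exact Subgroup.mul_mem_sup ((hA'mem a).mp ha) ⟨e, he, rfl⟩
  · intro q hq hqD hqπ
    have hcardD : Nat.card ↥(D'.map C.subtype) = Nat.card D' :=
      Nat.card_congr (D'.equivMapOfInjective _ C.subtype_injective).symm.toEquiv
    rw [hcardD] at hqD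
    have h1 := hD'.card_mul_card
    have h2 := Subgroup.card_mul_index A'
    have h3 : Nat.card D' = A'.index := by
      have hpos : 0 < Nat.card A' := Nat.card_pos
      exact Nat.eq_of_mul_eq_mul_left hpos (h1.trans h2.symm)
    rw [h3] at hqD
    exact hidx q hq hqπ hqD

end Cfsg.Agent.H1.ScnHall
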