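import Mathlib
import Cfsg.Agent.H1.Basic
import Cfsg.Agent.H1.Card
import Cfsg.Agent.H1.Abelian
import Cfsg.Agent.H1.Hall
import Cfsg.Agent.H1.NormMap
import Cfsg.Agent.H1.CoprimeAction
import Cfsg.Agent.H1.MinNonPClosed
import Cfsg.Agent.H1.MinNonPClosed2
import Cfsg.Agent.H1.SchmidtStructure

set_option autoImplicit false

namespace Cfsg.Agent.H1

open scoped Pointwise commutatorElement

lemma isMulCommutative_of_le {G : Type*} [Group G] {H K : Subgroup G} (hHK : H ≤ K) (hK : IsMulCommutative K) :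
    IsMulCommutative H := by
  apply IsMulCommutative.of_setLike_mul_comm
  intro a ha b hb
  have := hK.is_comm.comm (⟨a, hHK ha⟩ : K) ⟨b, hHK hb⟩
  exact congrArg Subtype.val this

lemma comm_of_isMulCommutative {G : Type*} [Group G] {K : Subgroup G} (hK : IsMulCommutative K) {a b : G}
    (ha : a ∈ K) (hb : b ∈ K) : a * b = b * a := by
  have := hK.is_comm.comm (⟨a, ha⟩ : K) ⟨b, hb⟩
  exact congrArg Subtype.val this

/-- decomposition of elements in a group with a cyclic complement to a normal subgroup -/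
lemma exists_pow_mul_of_complement {G : Type*} [Group G] [Finite G] (x : G) (A : Subgroup G) [A.Normal]
    (hc : (Subgroup.zpowers x).IsComplement' A) (g : G) : ∃ i : ℕ, ∃ a ∈ A, g = x ^ i * a := by
  have h1 : g ∈ ((Subgroup.zpowers x ⊔ A : Subgroup G) : Set G) := by
    rw [hc.sup_eq_top]; trivial
  rw [Subgroup.mul_normal] at h1
  obtain ⟨y, hy, a, ha, rfl⟩ := h1
  have hy' : y ∈ Submonoid.powers x := mem_powers_iff_mem_zpowers.mpr hy
  obtain ⟨i, rfl⟩ := hy'
  exact ⟨i, a, ha, rfl⟩

/-- sufficiency: in the described semidirect products every non-abelian subgroup is self-normalizing -/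
theorem selfnorm_of_structure {G : Type*} [Group G] [Finite G] (x : G) (A : Subgroup G) (p : ℕ) (hp : p.Prime)
    [hAn : A.Normal] (hAc : IsMulCommutative A) (k : ℕ) (hx : orderOf x = p ^ k)
    (hc : (Subgroup.zpowers x).IsComplement' A) (hxp : x ^ p ∈ Subgroup.center G)
    (hfpf : ∀ a : G, a ∈ A → a ≠ 1 → x * a * x⁻¹ ≠ a)
    (H : Subgroup G) (hH : ¬ IsMulCommutative H) : Subgroup.normalizer (H : Set G) = H := by
  -- an element of H outside ⟨x^p⟩A
  have hZ0 : IsMulCommutative (A ⊔ Subgroup.zpowers (x ^ p) : Subgroup G) := by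
    apply isMulCommutative_sup_zpowers A hAc
    rw [Subgroup.mem_centralizer_iff]
    intro b _
    exact (Subgroup.mem_center_iff.mp hxp b)
  obtain ⟨h, hhH, hhZ⟩ : ∃ h ∈ H, h ∉ (A ⊔ Subgroup.zpowers (x ^ p) : Subgroup G) := by
    by_contra hcon
    push_neg at hcon
    exact hH (isMulCommutative_of_le hcon hZ0)
  obtain ⟨i, a, ha, hia⟩ := exists_pow_mul_of_complement x A hc h
  have hpi : ¬ p ∣ i := by
    rintro ⟨j, rfl⟩
    apply hhZ
    rw [hia, pow_mul]
    exact mul_mem (Subgroup.mem_sup_right (Subgroup.pow_mem _ (Subgroup.mem_zpowers _) j)) (Subgroup.mem_sup_left ha)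
  have hcop : Nat.Coprime i (orderOf x) := by
    rw [hx]
    exact Nat.Coprime.pow_right k ((Nat.Prime.coprime_iff_not_dvd hp).mpr hpi).symm
  obtain ⟨u, hu⟩ := exists_pow_eq_self_of_coprime hcop
  -- h acts fixed-point-freely on A
  have hconj : ∀ b ∈ A, h * b * h⁻¹ = x ^ i * b * (x ^ i)⁻¹ := by
    intro b hb
    rw [hia]
    have : a * b = b * a := comm_of_isMulCommutative hAc ha hb
    calc x ^ i * a * b * (x ^ i * a)⁻¹ = x ^ i * (a * b) * a⁻¹ * (x ^ i)⁻¹ := by group
      _ = x ^ i * (b * a) * a⁻¹ * (x ^ i)⁻¹ := by rw [this]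
      _ = x ^ i * b * (x ^ i)⁻¹ := by group
  have hhfpf : ∀ b ∈ A, h * b * h⁻¹ = b → b = 1 := by
    intro b hb hfix
    by_contra hb1
    apply hfpf b hb hb1
    rw [hconj b hb] at hfix
    have hcomm : Commute (x ^ i) b := by
      have : x ^ i * b = b * x ^ i := by
        calc x ^ i * b = x ^ i * b * (x ^ i)⁻¹ * x ^ i := by group
          _ = b * x ^ i := by rw [hfix]
      exact this
    have hcomm2 : Commute x b := by
      rw [← hu]
      exact hcomm.pow_left u
    calc x * b * x⁻¹ = b * x * x⁻¹ := by rw [hcomm2.eq]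
      _ = b := by group
  -- the map φ(d) = d⁻¹ h d h⁻¹ on H ⊓ A
  have hφmem : ∀ d ∈ H ⊓ A, d⁻¹ * (h * d * h⁻¹) ∈ H ⊓ A := by
    intro d hd
    refine ⟨?_, ?_⟩
    · exact H.mul_mem (H.inv_mem hd.1) (H.mul_mem (H.mul_mem hhH hd.1) (H.inv_mem hhH))
    · exact A.mul_mem (A.inv_mem hd.2) (hAn.conj_mem d hd.2 h)
  have hφinj : ∀ d ∈ A, ∀ d' ∈ A, d⁻¹ * (h * d * h⁻¹) = d'⁻¹ * (h * d' * h⁻¹) → d = d' := by
    intro d hd d' hd' he
    have hdd : d * d'⁻¹ ∈ A := A.mul_mem hd (A.inv_mem hd')
    have h1 : h * (d * d'⁻¹) * h⁻¹ = d * d'⁻¹ := by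
      have e1 : h * (d * d'⁻¹) * h⁻¹ = (h * d * h⁻¹) * (h * d' * h⁻¹)⁻¹ := by group
      have e2 : h * d * h⁻¹ = d * (d'⁻¹ * (h * d' * h⁻¹)) := by rw [← he]; group
      rw [e1, e2]
      group
    have := hhfpf _ hdd h1
    exact mul_inv_eq_one.mp this
  let f : ↥(H ⊓ A) → ↥(H ⊓ A) := fun d => ⟨(d : G)⁻¹ * (h * d * h⁻¹), hφmem d d.2⟩
  have hfinj : Function.Injective f := by
    intro d d' he
    apply Subtype.ext
    exact hφinj d d.2.2 d' d'.2.2 (congrArg Subtype.val he)
  have hfsurj : Function.Surjective f := Finite.injective_iff_surjective.mp hfinj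
  apply le_antisymm _ Subgroup.le_normalizer
  intro g hg
  obtain ⟨j, a', ha', hja⟩ := exists_pow_mul_of_complement x A hc g
  -- b = h^{-uj} g lies in A
  set t := u * j with ht
  have hmk : ((h ^ t : G) : G ⧸ A) = ((x ^ j : G) : G ⧸ A) := by
    rw [hia, QuotientGroup.mk_pow, QuotientGroup.mk_mul, (QuotientGroup.eq_one_iff a).mpr ha, mul_one,
      ← QuotientGroup.mk_pow, ht, pow_mul, hu]
  set b := (h ^ t)⁻¹ * g with hb
  have hbA : b ∈ A := by
    rw [← QuotientGroup.eq_one_iff (N := A), hb, QuotientGroup.mk_mul, QuotientGroup.mk_inv, hmk, hja,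
      QuotientGroup.mk_mul, (QuotientGroup.eq_one_iff a').mpr ha', mul_one]
    simp
  have hhtH : h ^ t ∈ H := H.pow_mem hhH t
  have hbN : b ∈ Subgroup.normalizer (H : Set G) :=
    Subgroup.mul_mem _ (Subgroup.inv_mem _ (Subgroup.le_normalizer hhtH)) hg
  have hcH : b⁻¹ * (h * b * h⁻¹) ∈ H ⊓ A := by
    refine ⟨?_, A.mul_mem (A.inv_mem hbA) (hAn.conj_mem b hbA h)⟩
    have h1 : b⁻¹ * h * b⁻¹⁻¹ ∈ H := (Subgroup.mem_normalizer_iff.mp (Subgroup.inv_mem _ hbN) h).mp hhH
    have e : b⁻¹ * (h * b * h⁻¹) = (b⁻¹ * h * b⁻¹⁻¹) * h⁻¹ := by group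
    rw [e]
    exact H.mul_mem h1 (H.inv_mem hhH)
  obtain ⟨d, hd⟩ := hfsurj ⟨_, hcH⟩
  have hdb : (d : G) = b := hφinj d d.2.2 b hbA (congrArg Subtype.val hd)
  have hbH : b ∈ H := hdb ▸ d.2.1
  have : g = h ^ t * b := by rw [hb]; group
  rw [this]
  exact H.mul_mem hhtH hbH


/-- necessity: the structure of solvable non-nilpotent groups with self-normalizing non-abelian subgroups -/
theorem structure_of_selfnorm {G : Type*} [Group G] [Finite G] [Group.IsSolvable G] (hnn : ¬ Group.IsNilpotent G)
    (hself : ∀ H : Subgroup G, ¬ IsMulCommutative H → Subgroup.normalizer (H : Set G) = H) :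
    ∃ (x : G) (A : Subgroup G) (p : ℕ), p.Prime ∧ A.Normal ∧ IsMulCommutative A ∧ (∃ k : ℕ, orderOf x = p ^ k) ∧
      ¬ p ∣ Nat.card A ∧ (Subgroup.zpowers x).IsComplement' A ∧ x ^ p ∈ Subgroup.center G ∧
      ∀ a : G, a ∈ A → a ≠ 1 → x * a * x⁻¹ ≠ a := by
  haveI : Nontrivial G := by
    by_contra hnt
    rw [not_nontrivial_iff_subsingleton] at hnt
    exact hnn inferInstance
  obtain ⟨M, hMn, hMp⟩ := exists_normal_prime_index_of_solvable (G := G)
  set p := M.index with hpdef
  haveI : Fact p.Prime := ⟨hMp⟩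
  -- M is abelian
  have hMc : IsMulCommutative M := by
    by_contra h
    have h1 := hself M h
    rw [Subgroup.normalizer_eq_top] at h1
    rw [← h1, Subgroup.index_top] at hpdef
    exact hMp.ne_one hpdef
  -- Hall p'-subgroup
  set N := Nat.card G with hN
  have hN0 : N ≠ 0 := Nat.card_pos.ne'
  set a := N.factorization p with ha
  set n := N / p ^ a with hn
  have hNfac : N = n * p ^ a := by rw [mul_comm]; exact (Nat.ordProj_mul_ordCompl_eq_self N p).symm
  have hcop : Nat.Coprime n p := (Nat.coprime_ordCompl hMp hN0).symm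
  have hcop' : Nat.Coprime n (p ^ a) := Nat.Coprime.pow_right a hcop
  obtain ⟨A, hAcard⟩ := hall_exists n (p ^ a) hNfac hcop'
  have hpA : ¬ p ∣ Nat.card A := by
    rw [hAcard]
    exact fun h => hMp.ne_one (Nat.eq_one_of_dvd_coprimes hcop.symm (dvd_refl p) h)
  -- elements of order prime to p lie in M
  have hM_of_cop : ∀ y : G, (orderOf y).Coprime p → y ∈ M := by
    intro y hy
    rw [← QuotientGroup.eq_one_iff (N := M), ← orderOf_eq_one_iff]
    have h1 : orderOf (y : G ⧸ M) ∣ orderOf y := orderOf_map_dvd (QuotientGroup.mk' M) y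
    have h2 : orderOf (y : G ⧸ M) ∣ p := by
      have : Nat.card (G ⧸ M) = p := rfl
      rw [← this]
      exact orderOf_dvd_natCard _
    exact Nat.eq_one_of_dvd_coprimes hy h1 h2
  have hAM : A ≤ M := by
    intro y hy
    apply hM_of_cop
    have h1 : orderOf y ∣ n := hAcard ▸ Subgroup.orderOf_dvd_natCard A hy
    exact Nat.Coprime.coprime_dvd_left h1 hcop
  have hAc : IsMulCommutative A := isMulCommutative_of_le hAM hMc
  -- uniqueness of A in M
  have huniq : ∀ A₂ : Subgroup G, A₂ ≤ M → Nat.card A₂ = n → A₂ = A := by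
    intro A₂ hA₂M hA₂card
    have hnorm : A₂ ≤ Subgroup.normalizer (A : Set G) := by
      intro y hy
      apply mem_normalizer_of_conj_mem
      intro b hb
      have : y * b = b * y := comm_of_isMulCommutative hMc (hA₂M hy) (hAM hb)
      rw [this]
      simpa using hb
    have h1 := card_sup_mul_card_inf A₂ A hnorm
    rw [hA₂card, hAcard] at h1
    have h2 : Nat.card (A₂ ⊔ A : Subgroup G) ∣ n * n := Dvd.intro _ h1
    have h3 : Nat.Coprime (Nat.card (A₂ ⊔ A : Subgroup G)) (p ^ a) :=
      Nat.Coprime.coprime_dvd_left h2 (Nat.Coprime.mul_left hcop' hcop')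
    have h4 : Nat.card (A₂ ⊔ A : Subgroup G) ∣ p ^ a * n := by
      rw [mul_comm, ← hNfac]
      exact Subgroup.card_subgroup_dvd_card _
    have h5 : Nat.card (A₂ ⊔ A : Subgroup G) ∣ n := Nat.Coprime.dvd_of_dvd_mul_left h3 h4
    have h6 : A = A₂ ⊔ A := Subgroup.eq_of_le_of_card_ge le_sup_right (by
      rw [hAcard]; exact Nat.le_of_dvd (Nat.pos_of_ne_zero (fun h0 => by rw [h0, zero_mul] at hNfac; exact hN0 hNfac)) h5)
    have h7 : A₂ ≤ A := by rw [h6]; exact le_sup_left
    exact Subgroup.eq_of_le_of_card_ge h7 (by rw [hAcard, hA₂card])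
  have hAn : A.Normal := by
    constructor
    intro y hy g
    have h1 : A.map (MulAut.conj g).toMonoidHom = A := by
      apply huniq
      · rintro _ ⟨z, hz, rfl⟩
        exact hMn.conj_mem z (hAM hz) g
      · rw [Subgroup.card_map_of_injective (MulAut.conj g).injective, hAcard]
    rw [← h1]
    exact ⟨y, hy, by simp [MulAut.conj_apply]⟩
  -- Sylow p-subgroup
  let P : Sylow p G := default
  have hPcard : Nat.card (P : Subgroup G) = p ^ a := P.card_eq_multiplicity
  have hPA : (P : Subgroup G).IsComplement' A := by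
    apply Subgroup.isComplement'_of_coprime
    · rw [hPcard, hAcard, mul_comm, ← hNfac]
    · rw [hPcard, hAcard]; exact hcop'.symm
  have hPAdisj : (P : Subgroup G) ⊓ A = ⊥ := disjoint_iff.mp hPA.disjoint
  have hPAtop : (P : Subgroup G) ⊔ A = ⊤ := hPA.sup_eq_top
  -- P does not centralize A
  have hPnc : ¬ (P : Subgroup G) ≤ Subgroup.centralizer (A : Set G) := by
    intro hle
    apply hnn
    have hAZ : A ≤ Subgroup.center G := by
      intro y hy
      rw [Subgroup.mem_center_iff]
      intro g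
      have hg : g ∈ ((P : Subgroup G) ⊔ A : Subgroup G) := by rw [hPAtop]; trivial
      have hcent : (P : Subgroup G) ⊔ A ≤ Subgroup.centralizer ({y} : Set G) := by
        apply sup_le
        · intro u hu
          rw [mem_centralizer_singleton_iff]
          exact (Subgroup.mem_centralizer_iff.mp (hle hu) y hy).symm
        · intro v hv
          rw [mem_centralizer_singleton_iff]
          exact comm_of_isMulCommutative hAc hv hy
      exact (mem_centralizer_singleton_iff g y).mp (hcent hg)
    apply Group.of_quotient_center_nilpotent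
    have hidx : (Subgroup.center G).index ∣ p ^ a := by
      have h1 : (Subgroup.center G).index ∣ A.index := Subgroup.index_dvd_of_le hAZ
      have h2 : A.index = p ^ a := by
        have := Subgroup.card_mul_index A
        rw [hAcard, ← hN, hNfac] at this
        exact Nat.eq_of_mul_eq_mul_left (Nat.pos_of_ne_zero (fun h0 => by rw [h0, zero_mul] at hNfac; exact hN0 hNfac)) this
      rwa [h2] at h1
    have hpg : IsPGroup p (G ⧸ Subgroup.center G) := by
      obtain ⟨b, -, hb⟩ := (Nat.dvd_prime_pow hMp).mp hidx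
      exact IsPGroup.of_card hb
    exact hpg.isNilpotent
  -- choose x ∈ P outside M
  obtain ⟨x, hxP, hxM⟩ : ∃ x ∈ (P : Subgroup G), x ∉ M := by
    by_contra hcon
    push_neg at hcon
    apply hPnc
    intro y hy
    rw [Subgroup.mem_centralizer_iff]
    intro b hb
    exact comm_of_isMulCommutative hMc (hAM hb) (hcon y hy)
  have hxA : x ∉ Subgroup.centralizer (A : Set G) := by
    intro hx
    apply hPnc
    have h1 : M ⊔ Subgroup.zpowers x = ⊤ := by
      apply sup_eq_top_of_index_prime M _ hMp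
      intro hle
      exact hxM (hle (Subgroup.mem_zpowers x))
    have h2 : M ⊔ Subgroup.zpowers x ≤ Subgroup.centralizer (A : Set G) := by
      apply sup_le
      · intro y hy
        rw [Subgroup.mem_centralizer_iff]
        intro b hb
        exact comm_of_isMulCommutative hMc (hAM hb) hy
      · rw [Subgroup.zpowers_le]; exact hx
    rw [h1] at h2
    exact le_top.trans h2
  -- H = ⟨x⟩A is non-abelian, hence self-normalizing
  set H : Subgroup G := Subgroup.zpowers x ⊔ A with hHdef
  have hHna : ¬ IsMulCommutative H := by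
    intro hHc
    apply hxA
    rw [Subgroup.mem_centralizer_iff]
    intro b hb
    exact comm_of_isMulCommutative hHc (Subgroup.mem_sup_right hb) (Subgroup.mem_sup_left (Subgroup.mem_zpowers x))
  have hHself := hself H hHna
  have hzP : Subgroup.zpowers x ≤ (P : Subgroup G) := by rw [Subgroup.zpowers_le]; exact hxP
  have hHP : H ⊓ (P : Subgroup G) ≤ Subgroup.zpowers x := by
    intro y hy
    have h1 : y ∈ ((Subgroup.zpowers x ⊔ A : Subgroup G) : Set G) := hy.1
    rw [Subgroup.mul_normal] at h1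
    obtain ⟨z, hz, v, hv, rfl⟩ := h1
    have hvP : v ∈ (P : Subgroup G) := by
      have : v = z⁻¹ * (z * v) := by group
      rw [this]
      exact (P : Subgroup G).mul_mem ((P : Subgroup G).inv_mem (hzP hz)) hy.2
    have : v ∈ (P : Subgroup G) ⊓ A := ⟨hvP, hv⟩
    rw [hPAdisj, Subgroup.mem_bot] at this
    show z * v ∈ Subgroup.zpowers x
    rw [this, mul_one]; exact hz
  -- P = ⟨x⟩ by the normalizer condition
  have hPz : (P : Subgroup G) = Subgroup.zpowers x := by
    apply le_antisymm _ hzP
    by_contra hnle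
    set K : Subgroup (P : Subgroup G) := (Subgroup.zpowers x).subgroupOf (P : Subgroup G) with hK
    have hKtop : K < ⊤ := by
      refine lt_of_le_of_ne le_top ?_
      intro h
      apply hnle
      intro y hy
      have : (⟨y, hy⟩ : (P : Subgroup G)) ∈ K := by rw [h]; trivial
      exact Subgroup.mem_subgroupOf.mp this
    haveI : Group.IsNilpotent (P : Subgroup G) := P.2.isNilpotent
    have hnc := Group.normalizerCondition_of_isNilpotent (G := (P : Subgroup G)) K hKtop
    obtain ⟨y, hyN, hyK⟩ := SetLike.exists_of_lt hnc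
    apply hyK
    rw [hK, Subgroup.mem_subgroupOf]
    apply hHP
    refine ⟨?_, y.2⟩
    rw [← hHself]
    apply mem_normalizer_of_conj_mem
    intro b hb
    have h1 : b ∈ ((Subgroup.zpowers x ⊔ A : Subgroup G) : Set G) := hb
    rw [Subgroup.mul_normal] at h1
    obtain ⟨z, hz, v, hv, rfl⟩ := h1
    have e : (y : G) * (z * v) * (y : G)⁻¹ = ((y : G) * z * (y : G)⁻¹) * ((y : G) * v * (y : G)⁻¹) := by group
    rw [e]
    refine mul_mem (Subgroup.mem_sup_left ?_) (Subgroup.mem_sup_right (hAn.conj_mem v hv _))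
    have hzK : (⟨z, hzP hz⟩ : (P : Subgroup G)) ∈ K := Subgroup.mem_subgroupOf.mpr hz
    have := (Subgroup.mem_normalizer_iff.mp hyN _).mp hzK
    exact Subgroup.mem_subgroupOf.mp this
  have hcompl : (Subgroup.zpowers x).IsComplement' A := hPz ▸ hPA
  -- x ^ p is central
  have hxpM : x ^ p ∈ M := by
    rw [← QuotientGroup.eq_one_iff (N := M), QuotientGroup.mk_pow]
    have : Nat.card (G ⧸ M) = p := rfl
    rw [← this]
    exact pow_card_eq_one'
  have hxpZ : x ^ p ∈ Subgroup.center G := by
    rw [Subgroup.mem_center_iff]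
    intro g
    have hg : g ∈ (Subgroup.zpowers x ⊔ A : Subgroup G) := by rw [hcompl.sup_eq_top]; trivial
    have hcent : Subgroup.zpowers x ⊔ A ≤ Subgroup.centralizer ({x ^ p} : Set G) := by
      apply sup_le
      · rw [Subgroup.zpowers_le, mem_centralizer_singleton_iff]
        rw [← pow_succ', ← pow_succ]
      · intro v hv
        rw [mem_centralizer_singleton_iff]
        exact comm_of_isMulCommutative hMc (hAM hv) hxpM
    exact (mem_centralizer_singleton_iff g (x ^ p)).mp (hcent hg)
  obtain ⟨k, hk⟩ := (IsPGroup.iff_orderOf.mp P.2) ⟨x, hxP⟩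
  rw [Subgroup.orderOf_mk] at hk
  refine ⟨x, A, p, hMp, hAn, hAc, ⟨k, hk⟩, hpA, hcompl, hxpZ, ?_⟩
  -- fixed-point-freeness
  intro b hb hb1 hfix
  have hPnorm : (P : Subgroup G) ≤ Subgroup.normalizer (A : Set G) := by
    rw [Subgroup.normalizer_eq_top]; exact le_top
  have hcopPA : (Nat.card (P : Subgroup G)).Coprime (Nat.card A) := by
    rw [hPcard, hAcard]; exact hcop'.symm
  have hinf := commutator_inf_centralizer_eq_bot_of_abelian A (P : Subgroup G) hAc hPnorm hcopPA
  have hsup := commutator_sup_centralizer_eq_of_abelian A (P : Subgroup G) hAc hPnorm hcopPA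
  set B : Subgroup G := ⁅A, (P : Subgroup G)⁆ with hB
  have hBA : B ≤ A := by
    rw [hB, Subgroup.commutator_le]
    intro v hv u _
    rw [commutatorElement_def]
    have : v * u * v⁻¹ * u⁻¹ = v * (u * v⁻¹ * u⁻¹) := by group
    rw [this]
    exact A.mul_mem hv (hAn.conj_mem _ (A.inv_mem hv) u)
  -- b centralizes P
  have hbP : b ∈ Subgroup.centralizer ((P : Subgroup G) : Set G) := by
    rw [hPz, Subgroup.mem_centralizer_iff]
    intro z hz
    have hxb : x * b = b * x := by
      calc x * b = x * b * x⁻¹ * x := by group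
        _ = b * x := by rw [hfix]
    have : Subgroup.zpowers x ≤ Subgroup.centralizer ({b} : Set G) := by
      rw [Subgroup.zpowers_le, mem_centralizer_singleton_iff]; exact hxb
    exact ((mem_centralizer_singleton_iff z b).mp (this hz))
  -- b is central in G
  have hbZ : ∀ g : G, g * b = b * g := by
    intro g
    have hg : g ∈ ((P : Subgroup G) ⊔ A : Subgroup G) := by rw [hPAtop]; trivial
    have hcent : (P : Subgroup G) ⊔ A ≤ Subgroup.centralizer ({b} : Set G) := by
      apply sup_le
      · intro u hu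
        rw [mem_centralizer_singleton_iff]
        exact (Subgroup.mem_centralizer_iff.mp hbP u hu)
      · intro v hv
        rw [mem_centralizer_singleton_iff]
        exact comm_of_isMulCommutative hAc hv hb
    exact (mem_centralizer_singleton_iff g b).mp (hcent hg)
  -- H' = P ⊔ B is non-abelian
  set H' : Subgroup G := (P : Subgroup G) ⊔ B with hH'
  have hH'na : ¬ IsMulCommutative H' := by
    intro hc
    have hBcent : B ≤ Subgroup.centralizer ((P : Subgroup G) : Set G) := by
      intro v hv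
      rw [Subgroup.mem_centralizer_iff]
      intro u hu
      exact comm_of_isMulCommutative hc (Subgroup.mem_sup_left hu) (Subgroup.mem_sup_right hv)
    have hBbot : B = ⊥ := by
      rw [eq_bot_iff, ← hinf]
      exact le_inf le_rfl hBcent
    rw [hBbot, bot_sup_eq] at hsup
    apply hPnc
    intro u hu
    rw [Subgroup.mem_centralizer_iff]
    intro v hv
    have : v ∈ A ⊓ Subgroup.centralizer ((P : Subgroup G) : Set G) := by rw [hsup]; exact hv
    exact (Subgroup.mem_centralizer_iff.mp this.2 u hu).symm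
  have hH'self := hself H' hH'na
  have hbH' : b ∈ H' := by
    rw [← hH'self]
    apply mem_normalizer_of_conj_mem
    intro c hc
    have : b * c * b⁻¹ = c := by rw [← hbZ c]; group
    rw [this]; exact hc
  -- so b ∈ B
  have hBnorm : (P : Subgroup G) ≤ Subgroup.normalizer (B : Set G) := by
    intro u hu
    apply mem_normalizer_of_conj_mem
    intro c hc
    have h1 : (MulAut.conj u).toMonoidHom c ∈ B.map (MulAut.conj u).toMonoidHom := ⟨c, hc, rfl⟩
    have h2 : B.map (MulAut.conj u).toMonoidHom = B := by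
      rw [hB, Subgroup.map_commutator]
      congr 1
      · apply le_antisymm
        · rintro _ ⟨z, hz, rfl⟩
          exact hAn.conj_mem z hz u
        · intro z hz
          refine ⟨u⁻¹ * z * u, ?_, by simp [MulAut.conj_apply]; group⟩
          have := hAn.conj_mem z hz u⁻¹
          simpa using this
      · apply le_antisymm
        · rintro _ ⟨z, hz, rfl⟩
          exact (P : Subgroup G).mul_mem ((P : Subgroup G).mul_mem hu hz) ((P : Subgroup G).inv_mem hu)
        · intro z hz
          refine ⟨u⁻¹ * z * u, ?_, by simp [MulAut.conj_apply]; group⟩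
          exact (P : Subgroup G).mul_mem ((P : Subgroup G).mul_mem ((P : Subgroup G).inv_mem hu) hz) hu
    rw [h2] at h1
    simpa [MulAut.conj_apply] using h1
  have hbB : b ∈ B := by
    have h1 : b ∈ B ⊔ (P : Subgroup G) := by rw [sup_comm]; exact hbH'
    obtain ⟨c, hc, u, hu, hcu⟩ := (mem_sup_of_le_normalizer B (P : Subgroup G) hBnorm).mp h1
    have huA : u ∈ A := by
      have : u = c⁻¹ * b := by rw [hcu]; group
      rw [this]
      exact A.mul_mem (A.inv_mem (hBA hc)) hb
    have : u ∈ (P : Subgroup G) ⊓ A := ⟨hu, huA⟩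
    rw [hPAdisj, Subgroup.mem_bot] at this
    rw [hcu, this, mul_one]; exact hc
  have : b ∈ B ⊓ Subgroup.centralizer ((P : Subgroup G) : Set G) := ⟨hbB, hbP⟩
  rw [hinf, Subgroup.mem_bot] at this
  exact hb1 this

end Cfsg.Agent.H1
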