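import Mathlib

set_option autoImplicit false

namespace Cfsg.Agent.H1.Soft

universe u

variable {P : Type u} [Group P]

/-- soft pair: abelian, self-centralizing, index `p` in its normalizer -/
structure IsSoft (p : ℕ) (E : Subgroup P) : Prop where
  comm : ∀ a ∈ E, ∀ b ∈ E, a * b = b * a
  cent : Subgroup.centralizer (E : Set P) ≤ E
  idx : E.relIndex (Subgroup.normalizer (E : Set P)) = p

theorem between {p : ℕ} (hp : p.Prime) {E N D : Subgroup P} (h : E.relIndex N = p)
    (hED : E ≤ D) (hDN : D ≤ N) : D ≤ E ∨ N ≤ D := by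
  have h1 := Subgroup.relIndex_mul_relIndex E D N hED hDN
  rw [h] at h1
  have h2 : E.relIndex D ∣ p := Dvd.intro _ h1
  rcases (Nat.dvd_prime hp).mp h2 with h3 | h3
  · left; exact Subgroup.relIndex_eq_one.mp h3
  · right
    rw [h3] at h1
    have : D.relIndex N = 1 := by
      have hp0 := hp.pos
      exact Nat.eq_of_mul_eq_mul_left hp0 (by rw [h1, mul_one])
    exact Subgroup.relIndex_eq_one.mp this

theorem card_eq_relIndex_mul {E N : Subgroup P} (h : E ≤ N) :
    Nat.card N = E.relIndex N * Nat.card E := by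
  have := Subgroup.relIndex_mul_relIndex ⊥ E N bot_le h
  rw [Subgroup.relIndex_bot_left, Subgroup.relIndex_bot_left] at this
  rw [← this, mul_comm]

theorem normalizer_le_of_lt [Finite P] {p : ℕ} [hp : Fact p.Prime] (hP : IsPGroup p P)
    {E K : Subgroup P} (hE : IsSoft p E) (hEK : E < K) :
    Subgroup.normalizer (E : Set P) ≤ K := by
  haveI : Group.IsNilpotent K := (hP.to_subgroup K).isNilpotent
  have hnc := Group.normalizerCondition_of_isNilpotent (G := K)
  have hlt : E.subgroupOf K < ⊤ := by
    rw [lt_top_iff_ne_top]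
    intro h
    rw [Subgroup.subgroupOf_eq_top] at h
    exact absurd (le_antisymm hEK.le h) (ne_of_lt hEK)
  have h1 := hnc _ hlt
  obtain ⟨x, hxN, hxE⟩ := SetLike.exists_of_lt h1
  have hxN' : (x : P) ∈ Subgroup.normalizer (E : Set P) := by
    rw [Subgroup.mem_normalizer_iff] at hxN ⊢
    intro h
    constructor
    · intro hh
      have := (hxN ⟨h, hEK.le hh⟩).mp (by simpa [Subgroup.mem_subgroupOf] using hh)
      simpa [Subgroup.mem_subgroupOf] using this
    · intro hh
      have hhK : h ∈ K := by
        have h3 : (x⁻¹ : K).1 * ((x : P) * h * (x : P)⁻¹) * (x : P) ∈ K :=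
          K.mul_mem (K.mul_mem (x⁻¹).2 (hEK.le hh)) x.2
        simpa [mul_assoc] using h3
      have := (hxN ⟨h, hhK⟩).mpr (by simpa [Subgroup.mem_subgroupOf] using hh)
      simpa [Subgroup.mem_subgroupOf] using this
  have hxE' : (x : P) ∉ E := by simpa [Subgroup.mem_subgroupOf] using hxE
  rcases between hp.out hE.idx (le_inf Subgroup.le_normalizer hEK.le) inf_le_left with h | h
  · exact absurd (h ⟨hxN', x.2⟩) hxE'
  · exact h.trans inf_le_right

section Quot

variable (U : Subgroup P) [U.Normal]

theorem comap_map_mk {K : Subgroup P} (hUK : U ≤ K) :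
    (K.map (QuotientGroup.mk' U)).comap (QuotientGroup.mk' U) = K := by
  rw [Subgroup.comap_map_eq_self]
  rwa [QuotientGroup.ker_mk']

theorem relIndex_map_mk {K : Subgroup P} (L : Subgroup P) (hUK : U ≤ K) :
    (K.map (QuotientGroup.mk' U)).relIndex (L.map (QuotientGroup.mk' U)) = K.relIndex L := by
  conv_rhs => rw [← comap_map_mk U hUK]
  rw [Subgroup.relIndex_comap]

theorem normalizer_map_mk {K : Subgroup P} (hUK : U ≤ K) :
    Subgroup.normalizer ((K.map (QuotientGroup.mk' U) : Subgroup (P ⧸ U)) : Set (P ⧸ U)) =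
      (Subgroup.normalizer (K : Set P)).map (QuotientGroup.mk' U) := by
  apply Subgroup.comap_injective (QuotientGroup.mk'_surjective U)
  rw [Subgroup.comap_normalizer_eq_of_surjective _ (QuotientGroup.mk'_surjective U),
    comap_map_mk U hUK, comap_map_mk U (hUK.trans Subgroup.le_normalizer)]

theorem relIndex_normalizer_map_mk {K : Subgroup P} (hUK : U ≤ K) :
    (K.map (QuotientGroup.mk' U)).relIndex
      (Subgroup.normalizer ((K.map (QuotientGroup.mk' U) : Subgroup (P ⧸ U)) : Set (P ⧸ U))) =
      K.relIndex (Subgroup.normalizer (K : Set P)) := by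
  rw [normalizer_map_mk U hUK, relIndex_map_mk U _ hUK]

/-- preimage of the centralizer of the image of `E` -/
def C1 (E : Subgroup P) : Subgroup P :=
  (Subgroup.centralizer ((E.map (QuotientGroup.mk' U) : Subgroup (P ⧸ U)) : Set (P ⧸ U))).comap
    (QuotientGroup.mk' U)

theorem mem_C1 {E : Subgroup P} {x : P} :
    x ∈ C1 U E ↔ ∀ e ∈ E, e⁻¹ * x⁻¹ * e * x ∈ U := by
  unfold C1
  rw [Subgroup.mem_comap, Subgroup.mem_centralizer_iff]
  constructor
  · intro h e he
    have := h (QuotientGroup.mk' U e) (Subgroup.mem_map_of_mem _ he)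
    rw [← map_mul, ← map_mul] at this
    have h2 := (QuotientGroup.eq (s := U)).mp this.symm
    simpa [mul_assoc] using h2
  · rintro h _ ⟨e, he, rfl⟩
    rw [← map_mul, ← map_mul]
    symm
    apply (QuotientGroup.eq (s := U)).mpr
    simpa [mul_assoc] using h e he

theorem le_C1 {E : Subgroup P} (hcomm : ∀ a ∈ E, ∀ b ∈ E, a * b = b * a) : E ≤ C1 U E := by
  intro x hx
  rw [mem_C1]
  intro e he
  have : e⁻¹ * x⁻¹ * e * x = 1 := by
    have h1 := hcomm e he x hx
    calc e⁻¹ * x⁻¹ * e * x = e⁻¹ * x⁻¹ * (e * x) := by group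
      _ = e⁻¹ * x⁻¹ * (x * e) := by rw [h1]
      _ = 1 := by group
  rw [this]; exact U.one_mem

theorem C1_le_normalizer {E : Subgroup P} (hUE : U ≤ E) :
    C1 U E ≤ Subgroup.normalizer (E : Set P) := by
  have key : ∀ x ∈ C1 U E, ∀ e ∈ E, x * e * x⁻¹ ∈ E := by
    intro x hx e he
    have hx' : x⁻¹ ∈ C1 U E := (C1 U E).inv_mem hx
    rw [mem_C1] at hx'
    have h1 := hUE (hx' e⁻¹ (E.inv_mem he))
    have h2 : x * e * x⁻¹ = (e⁻¹ * ((e⁻¹)⁻¹ * (x⁻¹)⁻¹ * e⁻¹ * x⁻¹))⁻¹ := by group
    rw [h2]
    exact E.inv_mem (E.mul_mem (E.inv_mem he) h1)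
  intro x hx
  rw [Subgroup.mem_normalizer_iff]
  intro h
  constructor
  · intro hh; exact key x hx h hh
  · intro hh
    have := key x⁻¹ ((C1 U E).inv_mem hx) _ hh
    simpa [mul_assoc] using this

theorem centralizer_map_eq (E : Subgroup P) :
    Subgroup.centralizer ((E.map (QuotientGroup.mk' U) : Subgroup (P ⧸ U)) : Set (P ⧸ U)) =
      (C1 U E).map (QuotientGroup.mk' U) := by
  unfold C1
  rw [Subgroup.map_comap_eq_self_of_surjective (QuotientGroup.mk'_surjective U)]

theorem soft_map_of_C1_le {p : ℕ} {E : Subgroup P} (hE : IsSoft p E) (hUE : U ≤ E)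
    (h : C1 U E ≤ E) : IsSoft p (E.map (QuotientGroup.mk' U)) := by
  refine ⟨?_, ?_, ?_⟩
  · rintro _ ⟨a, ha, rfl⟩ _ ⟨b, hb, rfl⟩
    rw [← map_mul, ← map_mul, hE.comm a ha b hb]
  · rw [centralizer_map_eq]
    exact Subgroup.map_mono h
  · rw [relIndex_normalizer_map_mk U hUE]; exact hE.idx

theorem soft_map_normalizer {p : ℕ} (hp : p.Prime) {E : Subgroup P} (hE : IsSoft p E)
    (hUE : U ≤ E)
    (h : Subgroup.normalizer (E : Set P) ≤ C1 U E)
    (hN2 : (Subgroup.normalizer (E : Set P)).relIndex
      (Subgroup.normalizer ((Subgroup.normalizer (E : Set P) : Subgroup P) : Set P)) = p) :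
    IsSoft p ((Subgroup.normalizer (E : Set P)).map (QuotientGroup.mk' U)) := by
  set N1 := Subgroup.normalizer (E : Set P) with hN1
  have hEN : E ≤ N1 := Subgroup.le_normalizer
  -- an element of N1 outside E
  have hne : ¬ N1 ≤ E := by
    intro hle
    have := Subgroup.relIndex_eq_one.mpr hle
    rw [hE.idx] at this
    exact hp.one_lt.ne' this
  obtain ⟨x, hxN, hxE⟩ := SetLike.not_le_iff_exists.mp hne
  have hsup : N1 ≤ E ⊔ Subgroup.zpowers x := by
    rcases between hp hE.idx (le_sup_left : E ≤ E ⊔ Subgroup.zpowers x)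
      (sup_le hEN (by rw [Subgroup.zpowers_le]; exact hxN)) with h1 | h1
    · exact absurd (h1 (le_sup_right (a := E) (Subgroup.mem_zpowers x))) hxE
    · exact h1
  set A := N1.map (QuotientGroup.mk' U) with hA
  set EE := E.map (QuotientGroup.mk' U) with hEE
  set X := Subgroup.zpowers (QuotientGroup.mk' U x) with hX
  have hAle : A ≤ EE ⊔ X := by
    rw [hA, hEE, hX, ← MonoidHom.map_zpowers, ← Subgroup.map_sup]
    exact Subgroup.map_mono hsup
  have hEA : EE ≤ A := Subgroup.map_mono hEN
  have hXA : X ≤ A := by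
    rw [hX, Subgroup.zpowers_le]; exact Subgroup.mem_map_of_mem _ hxN
  have hAC : A ≤ Subgroup.centralizer (EE : Set (P ⧸ U)) := by
    rw [hA, Subgroup.map_le_iff_le_comap]; exact h
  have hEC : EE ≤ Subgroup.centralizer (A : Set (P ⧸ U)) := Subgroup.le_centralizer_iff.mp hAC
  have hXC : X ≤ Subgroup.centralizer (A : Set (P ⧸ U)) := by
    rw [Subgroup.le_centralizer_iff]
    refine hAle.trans (sup_le ?_ ?_)
    · rw [Subgroup.le_centralizer_iff]; exact hXA.trans hAC
    · intro a ha
      rw [Subgroup.mem_centralizer_iff]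
      intro b hb
      obtain ⟨i, rfl⟩ := Subgroup.mem_zpowers_iff.mp ha
      obtain ⟨j, rfl⟩ := Subgroup.mem_zpowers_iff.mp hb
      rw [← zpow_add, ← zpow_add, add_comm]
  have hcomm : A ≤ Subgroup.centralizer (A : Set (P ⧸ U)) := hAle.trans (sup_le hEC hXC)
  refine ⟨?_, ?_, ?_⟩
  · intro a ha b hb
    have := hcomm hb
    rw [Subgroup.mem_centralizer_iff] at this
    exact this a ha
  · calc Subgroup.centralizer (A : Set (P ⧸ U)) ≤ Subgroup.centralizer (EE : Set (P ⧸ U)) :=
          Subgroup.centralizer_le hEA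
      _ = (C1 U E).map (QuotientGroup.mk' U) := centralizer_map_eq U E
      _ ≤ A := Subgroup.map_mono (C1_le_normalizer U hUE)
  · rw [hA, relIndex_normalizer_map_mk U (hUE.trans hEN)]; exact hN2

end Quot

theorem ncard_coe_subgroup (H : Subgroup P) : (H : Set P).ncard = Nat.card H := by
  rw [← Nat.card_coe_set_eq]; rfl

/-- second step of the normalizer tower has index `p` -/
theorem relIndex_normalizer_normalizer [Finite P] {p : ℕ} [hp : Fact p.Prime]
    (hP : IsPGroup p P) {E : Subgroup P} (hE : IsSoft p E)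
    (hN : Subgroup.normalizer (E : Set P) ≠ ⊤) :
    (Subgroup.normalizer (E : Set P)).relIndex
      (Subgroup.normalizer ((Subgroup.normalizer (E : Set P) : Subgroup P) : Set P)) = p := by
  set N1 := Subgroup.normalizer (E : Set P) with hN1
  set N2 := Subgroup.normalizer (N1 : Set P) with hN2
  have hEN : E ≤ N1 := Subgroup.le_normalizer
  have hN12 : N1 ≤ N2 := Subgroup.le_normalizer
  obtain ⟨k, hk⟩ := (hP.to_subgroup N2).index (N1.subgroupOf N2)
  have hc : N1.relIndex N2 = p ^ k := hk
  haveI : Group.IsNilpotent P := hP.isNilpotent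
  have hlt : N1 < N2 := Group.normalizerCondition_of_isNilpotent (G := P) N1 (lt_top_iff_ne_top.mpr hN)
  have hk0 : k ≠ 0 := by
    intro h0
    rw [h0, pow_zero] at hc
    exact absurd (Subgroup.relIndex_eq_one.mp hc) (not_le_of_gt hlt)
  by_cases hk1 : k = 1
  · rw [hc, hk1, pow_one]
  exfalso
  have hk2 : 2 ≤ k := by omega
  have hp2 : 2 ≤ p := hp.out.two_le
  have hcge : p ^ 2 ≤ N1.relIndex N2 := by
    rw [hc]; exact Nat.pow_le_pow_right hp.out.pos hk2
  -- the centre of N1
  set Z := N1 ⊓ Subgroup.centralizer (N1 : Set P) with hZ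
  have hZE : Z ≤ E := by
    intro x hx
    exact hE.cent (Subgroup.centralizer_le (show (E : Set P) ⊆ N1 from hEN)
      (Subgroup.mem_inf.mp hx).2)
  have hZne : Z ≠ E := by
    intro h
    have h1 : E ≤ Subgroup.centralizer (N1 : Set P) := by rw [← h]; exact inf_le_right
    have h2 : N1 ≤ Subgroup.centralizer (E : Set P) := Subgroup.le_centralizer_iff.mp h1
    have h3 := Subgroup.relIndex_eq_one.mpr (h2.trans hE.cent)
    rw [hE.idx] at h3
    exact hp.out.one_lt.ne' h3
  have hZconj1 : ∀ g ∈ N2, ∀ a ∈ Z, g * a * g⁻¹ ∈ Z := by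
    intro g hg a ha
    have ha1 : a ∈ N1 := (Subgroup.mem_inf.mp ha).1
    have ha2 : a ∈ Subgroup.centralizer (N1 : Set P) := (Subgroup.mem_inf.mp ha).2
    refine Subgroup.mem_inf.mpr ⟨((Subgroup.mem_normalizer_iff.mp hg) a).mp ha1, ?_⟩
    rw [Subgroup.mem_centralizer_iff]
    intro n hn
    have hn' : g⁻¹ * n * g ∈ N1 := by
      have := ((Subgroup.mem_normalizer_iff.mp (N2.inv_mem hg)) n).mp hn
      simpa using this
    have hc1 := (Subgroup.mem_centralizer_iff.mp ha2) _ hn'
    calc n * (g * a * g⁻¹) = g * ((g⁻¹ * n * g) * a) * g⁻¹ := by group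
      _ = g * (a * (g⁻¹ * n * g)) * g⁻¹ := by rw [hc1]
      _ = g * a * g⁻¹ * n := by group
  have hZconj : ∀ g ∈ N2, ∀ a, g * a * g⁻¹ ∈ Z → a ∈ Z := by
    intro g hg a ha
    have := hZconj1 g⁻¹ (N2.inv_mem hg) _ ha
    simpa [mul_assoc] using this
  -- distinct conjugates of E meet in Z
  have hmeet : ∀ g ∈ N2, g ∉ N1 → ∀ a ∈ E, ∀ e ∈ E, a = g * e * g⁻¹ → a ∈ Z := by
    intro g hg hgN a ha e he hae
    set Eg := E.map (MulAut.conj g).toMonoidHom with hEg
    have hEgmem : ∀ y, y ∈ Eg ↔ ∃ e ∈ E, g * e * g⁻¹ = y := by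
      intro y
      rw [hEg, Subgroup.mem_map]
      simp [MulAut.conj_apply]
    have hEgN : Eg ≤ N1 := by
      intro y hy
      obtain ⟨e', he', rfl⟩ := (hEgmem y).mp hy
      exact ((Subgroup.mem_normalizer_iff.mp hg) e').mp (hEN he')
    rcases between hp.out hE.idx (le_sup_left : E ≤ E ⊔ Eg) (sup_le hEN hEgN) with h1 | h1
    · exfalso
      have hle : Eg ≤ E := le_sup_right.trans h1
      have hcard : Nat.card Eg = Nat.card E :=
        Subgroup.card_map_of_injective (MulAut.conj g).injective
      have heq : Eg = E := Subgroup.eq_of_le_of_card_ge hle hcard.ge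
      apply hgN
      rw [hN1, Subgroup.mem_normalizer_iff]
      intro h
      constructor
      · intro hh
        rw [← heq]; exact (hEgmem _).mpr ⟨h, hh, rfl⟩
      · intro hh
        rw [← heq] at hh
        obtain ⟨e', he', h2⟩ := (hEgmem _).mp hh
        have : e' = h := by
          have := mul_right_cancel h2
          exact mul_left_cancel this
        rw [← this]; exact he'
    · have hEc : E ≤ Subgroup.centralizer ({a} : Set P) := by
        intro y hy
        rw [Subgroup.mem_centralizer_iff]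
        intro b hb
        rw [Set.mem_singleton_iff] at hb
        rw [hb]; exact hE.comm a ha y hy
      have hEgc : Eg ≤ Subgroup.centralizer ({a} : Set P) := by
        intro y hy
        obtain ⟨e', he', rfl⟩ := (hEgmem y).mp hy
        rw [Subgroup.mem_centralizer_iff]
        intro b hb
        rw [Set.mem_singleton_iff] at hb
        rw [hb, hae]
        have := hE.comm e he e' he'
        calc g * e * g⁻¹ * (g * e' * g⁻¹) = g * (e * e') * g⁻¹ := by group
          _ = g * (e' * e) * g⁻¹ := by rw [this]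
          _ = g * e' * g⁻¹ * (g * e * g⁻¹) := by group
      have hN1c : N1 ≤ Subgroup.centralizer ({a} : Set P) := h1.trans (sup_le hEc hEgc)
      refine Subgroup.mem_inf.mpr ⟨hEN ha, ?_⟩
      rw [Subgroup.mem_centralizer_iff]
      intro n hn
      have := (Subgroup.mem_centralizer_iff.mp (hN1c hn)) a (Set.mem_singleton a)
      exact this.symm
  have hmeet2 : ∀ g ∈ N2, ∀ g' ∈ N2, g⁻¹ * g' ∉ N1 → ∀ e ∈ E, ∀ e' ∈ E,
      g * e * g⁻¹ = g' * e' * g'⁻¹ → e ∈ Z := by
    intro g hg g' hg' hgg e he e' he' heq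
    apply hmeet (g⁻¹ * g') (N2.mul_mem (N2.inv_mem hg) hg') hgg e he e' he'
    have : e = g⁻¹ * (g * e * g⁻¹) * g := by group
    rw [this, heq]; group
  -- the injection
  let Tq := ↥N2 ⧸ (N1.subgroupOf N2)
  let f : Tq × ↥((E : Set P) \ (Z : Set P)) → ↥((N1 : Set P) \ (Z : Set P)) := fun qe =>
    ⟨((qe.1.out : ↥N2) : P) * (qe.2 : P) * ((qe.1.out : ↥N2) : P)⁻¹, by
      constructor
      · exact ((Subgroup.mem_normalizer_iff.mp (qe.1.out : ↥N2).2) _).mp (hEN qe.2.2.1)
      · intro h
        exact qe.2.2.2 (hZconj _ (qe.1.out : ↥N2).2 _ h)⟩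
  have hf : Function.Injective f := by
    rintro ⟨q, e⟩ ⟨q', e'⟩ h
    have hv : ((q.out : ↥N2) : P) * (e : P) * ((q.out : ↥N2) : P)⁻¹ =
        ((q'.out : ↥N2) : P) * (e' : P) * ((q'.out : ↥N2) : P)⁻¹ := congrArg Subtype.val h
    by_cases hq : q = q'
    · subst hq
      have h2 : (e : P) = e' := by
        have := mul_right_cancel hv
        exact mul_left_cancel this
      have h3 : e = e' := Subtype.ext h2
      rw [h3]
    · exfalso
      have hnot : ((q.out : ↥N2) : P)⁻¹ * ((q'.out : ↥N2) : P) ∉ N1 := by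
        intro hin
        apply hq
        have h5 : (q.out : ↥N2)⁻¹ * (q'.out : ↥N2) ∈ N1.subgroupOf N2 := by
          rw [Subgroup.mem_subgroupOf]; simpa using hin
        have h6 : (QuotientGroup.mk (q.out : ↥N2) : Tq) = QuotientGroup.mk (q'.out : ↥N2) :=
          QuotientGroup.eq.mpr h5
        rw [QuotientGroup.out_eq', QuotientGroup.out_eq'] at h6
        exact h6
      exact e.2.2 (hmeet2 _ (q.out : ↥N2).2 _ (q'.out : ↥N2).2 hnot _ e.2.1 _ e'.2.1 hv)
  have hcard := Nat.card_le_card_of_injective f hf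
  rw [Nat.card_prod, Nat.card_coe_set_eq, Nat.card_coe_set_eq] at hcard
  have hTq : Nat.card Tq = N1.relIndex N2 := rfl
  have h1 := Set.ncard_sdiff_add_ncard_of_subset (show (Z : Set P) ⊆ E from hZE)
  have h2 := Set.ncard_sdiff_add_ncard_of_subset (show (Z : Set P) ⊆ N1 from hZE.trans hEN)
  rw [ncard_coe_subgroup, ncard_coe_subgroup] at h1 h2
  have hN1card : Nat.card N1 = p * Nat.card E := by
    rw [card_eq_relIndex_mul hEN, hE.idx]
  have hdvd : Nat.card Z ∣ Nat.card E := Subgroup.card_dvd_of_le hZE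
  have hZpos : 0 < Nat.card Z := Nat.card_pos
  have hEZ : Nat.card Z ≠ Nat.card E := by
    intro h
    exact hZne (Subgroup.eq_of_le_of_card_ge hZE h.ge)
  obtain ⟨m, hm⟩ := hdvd
  have hm2 : 2 ≤ m := by
    rcases Nat.lt_or_ge m 2 with h | h
    · interval_cases m
      · rw [mul_zero] at hm
        have : 0 < Nat.card E := Nat.card_pos
        omega
      · rw [mul_one] at hm; exact absurd hm.symm hEZ
    · exact h
  set d := ((E : Set P) \ (Z : Set P)).ncard with hd
  set s := ((N1 : Set P) \ (Z : Set P)).ncard with hs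
  set z := Nat.card Z with hz
  set c := N1.relIndex N2 with hcdef
  rw [hTq] at hcard
  -- d + z = |E|, s + z = p |E|, c d ≤ s, z ≤ d
  have hzd : z ≤ d := by
    have : d + z = z * m := by rw [h1, hm]
    nlinarith
  have h3 : s + z = p * (d + z) := by rw [h2, hN1card, h1]
  have h4 : p ^ 2 * d ≤ c * d := Nat.mul_le_mul_right d hcge
  have h5 : p ^ 2 * d + z ≤ p * (d + z) := by
    calc p ^ 2 * d + z ≤ c * d + z := by omega
      _ ≤ s + z := by omega
      _ = p * (d + z) := h3
  nlinarith

/-- a central subgroup of order `p` -/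
theorem exists_central_order_p [Finite P] [Nontrivial P] {p : ℕ} [hp : Fact p.Prime]
    (hP : IsPGroup p P) :
    ∃ U : Subgroup P, U.Normal ∧ U ≤ Subgroup.center P ∧ Nat.card U = p := by
  haveI := hP.center_nontrivial
  have hpc : IsPGroup p (Subgroup.center P) := hP.to_subgroup _
  obtain ⟨n, hn⟩ := IsPGroup.iff_card.mp hpc
  have hn0 : n ≠ 0 := by
    intro h0
    rw [h0, pow_zero] at hn
    have := (Nat.card_eq_one_iff_unique.mp hn).1
    exact not_subsingleton _ this
  have hdvd : p ∣ Nat.card (Subgroup.center P) := by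
    rw [hn]; exact dvd_pow_self p hn0
  obtain ⟨z, hz⟩ := exists_prime_orderOf_dvd_card' p hdvd
  refine ⟨Subgroup.zpowers (z : P), ?_, ?_, ?_⟩
  · refine ⟨fun a ha g => ?_⟩
    obtain ⟨i, rfl⟩ := Subgroup.mem_zpowers_iff.mp ha
    have hzc : (z : P) ^ i ∈ Subgroup.center P := (Subgroup.center P).zpow_mem z.2 i
    have : g * (z : P) ^ i * g⁻¹ = (z : P) ^ i := by
      rw [Subgroup.mem_center_iff] at hzc
      rw [hzc g]; group
    rw [this]; exact Subgroup.zpow_mem _ (Subgroup.mem_zpowers _) i
  · rw [Subgroup.zpowers_le]; exact z.2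
  · rw [Nat.card_zpowers, Subgroup.orderOf_coe]; exact hz

theorem card_quotient_lt [Finite P] (U : Subgroup P) [U.Normal] (hU : 1 < Nat.card U) :
    Nat.card (P ⧸ U) < Nat.card P := by
  have h := Subgroup.card_eq_card_quotient_mul_card_subgroup U
  have hpos : 0 < Nat.card (P ⧸ U) := Nat.card_pos
  rw [h]
  nlinarith

/-- Theorem B: every proper overgroup of a soft subgroup has index `p` in its normalizer -/
theorem thmB : ∀ (n : ℕ) (P : Type u) [Group P] [Finite P] (p : ℕ) [Fact p.Prime],
    Nat.card P ≤ n → IsPGroup p P → ∀ E : Subgroup P, IsSoft p E → ∀ K : Subgroup P, E ≤ K →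
    K ≠ ⊤ → K.relIndex (Subgroup.normalizer (K : Set P)) = p := by
  intro n
  induction n with
  | zero =>
    intro P _ _ p _ hn
    have : 0 < Nat.card P := Nat.card_pos
    omega
  | succ n ih =>
    intro P _ _ p hp hn hP E hE K hEK hK
    by_cases hKE : K = E
    · rw [hKE]; exact hE.idx
    have hlt : E < K := lt_of_le_of_ne hEK (Ne.symm hKE)
    have hN1K := normalizer_le_of_lt hP hE hlt
    have hN1top : Subgroup.normalizer (E : Set P) ≠ ⊤ := by
      intro h; rw [h] at hN1K; exact hK (top_le_iff.mp hN1K)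
    haveI : Nontrivial P := by
      by_contra hnt
      rw [not_nontrivial_iff_subsingleton] at hnt
      exact hK (Subsingleton.elim _ _)
    obtain ⟨U, hUn, hUc, hUcard⟩ := exists_central_order_p hP
    haveI := hUn
    have hUE : U ≤ E := by
      intro x hx
      apply hE.cent
      rw [Subgroup.mem_centralizer_iff]
      intro e _
      exact (Subgroup.mem_center_iff.mp (hUc hx) e)
    have hcardQ : Nat.card (P ⧸ U) ≤ n := by
      have := card_quotient_lt U (by rw [hUcard]; exact hp.out.one_lt)
      omega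
    have hPQ : IsPGroup p (P ⧸ U) := hP.to_quotient U
    have hKmap : K.map (QuotientGroup.mk' U) ≠ ⊤ := by
      intro h
      apply hK
      rw [← comap_map_mk U (hUE.trans hEK), h, Subgroup.comap_top]
    rcases between hp.out hE.idx (le_C1 U hE.comm) (C1_le_normalizer U hUE) with h | h
    · have hsoft := soft_map_of_C1_le U hE hUE h
      have := ih (P ⧸ U) p hcardQ hPQ _ hsoft (K.map (QuotientGroup.mk' U))
        (Subgroup.map_mono hEK) hKmap
      rwa [relIndex_normalizer_map_mk U (hUE.trans hEK)] at this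
    · have hN2 := relIndex_normalizer_normalizer hP hE hN1top
      have hsoft := soft_map_normalizer U hp.out hE hUE h hN2
      have := ih (P ⧸ U) p hcardQ hPQ _ hsoft (K.map (QuotientGroup.mk' U))
        (Subgroup.map_mono hN1K) hKmap
      rwa [relIndex_normalizer_map_mk U (hUE.trans hEK)] at this

theorem thmB' [Finite P] {p : ℕ} [Fact p.Prime] (hP : IsPGroup p P) {E : Subgroup P}
    (hE : IsSoft p E) {K : Subgroup P} (hEK : E ≤ K) (hK : K ≠ ⊤) :
    K.relIndex (Subgroup.normalizer (K : Set P)) = p :=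
  thmB (Nat.card P) P p le_rfl hP E hE K hEK hK

/-- Theorem A: the overgroups form a chain -/
theorem thmA [Finite P] {p : ℕ} [hp : Fact p.Prime] (hP : IsPGroup p P) {E : Subgroup P}
    (hE : IsSoft p E) {K L : Subgroup P} (hEK : E ≤ K) (hEL : E ≤ L) : K ≤ L ∨ L ≤ K := by
  by_contra hcon
  push_neg at hcon
  obtain ⟨h1, h2⟩ := hcon
  set D := K ⊓ L with hD
  have hDK : D < K := lt_of_le_of_ne inf_le_left (fun h => h1 (by rw [← h]; exact inf_le_right))
  have hDL : D < L := lt_of_le_of_ne inf_le_right (fun h => h2 (by rw [← h]; exact inf_le_left))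
  have hED : E ≤ D := le_inf hEK hEL
  have hDtop : D ≠ ⊤ := by
    intro h; rw [h] at hDK; exact not_top_lt hDK
  have hidx := thmB' hP hE hED hDtop
  -- D is soft-like: use normalizer growth inside K and L
  have grow : ∀ M : Subgroup P, D < M → Subgroup.normalizer (D : Set P) ≤ M := by
    intro M hDM
    haveI : Group.IsNilpotent M := (hP.to_subgroup M).isNilpotent
    have hnc := Group.normalizerCondition_of_isNilpotent (G := M)
    have hlt : D.subgroupOf M < ⊤ := by
      rw [lt_top_iff_ne_top]
      intro h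
      rw [Subgroup.subgroupOf_eq_top] at h
      exact absurd (le_antisymm hDM.le h) (ne_of_lt hDM)
    obtain ⟨x, hxN, hxD⟩ := SetLike.exists_of_lt (hnc _ hlt)
    have hxN' : (x : P) ∈ Subgroup.normalizer (D : Set P) := by
      rw [Subgroup.mem_normalizer_iff] at hxN ⊢
      intro h
      constructor
      · intro hh
        have := (hxN ⟨h, hDM.le hh⟩).mp (by simpa [Subgroup.mem_subgroupOf] using hh)
        simpa [Subgroup.mem_subgroupOf] using this
      · intro hh
        have hhM : h ∈ M := by
          have h3 : (x⁻¹ : M).1 * ((x : P) * h * (x : P)⁻¹) * (x : P) ∈ M :=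
            M.mul_mem (M.mul_mem (x⁻¹).2 (hDM.le hh)) x.2
          simpa [mul_assoc] using h3
        have := (hxN ⟨h, hhM⟩).mpr (by simpa [Subgroup.mem_subgroupOf] using hh)
        simpa [Subgroup.mem_subgroupOf] using this
    have hxD' : (x : P) ∉ D := by simpa [Subgroup.mem_subgroupOf] using hxD
    rcases between hp.out hidx (le_inf Subgroup.le_normalizer hDM.le) inf_le_left with h | h
    · exact absurd (h ⟨hxN', x.2⟩) hxD'
    · exact h.trans inf_le_right
  have h3 : Subgroup.normalizer (D : Set P) ≤ D := le_inf (grow K hDK) (grow L hDL)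
  have := Subgroup.relIndex_eq_one.mpr h3
  rw [hidx] at this
  exact hp.out.one_lt.ne' this

/-- the centre of a normal proper overgroup is the core of `E` -/
theorem center_eq_normalCore [Finite P] {p : ℕ} [hp : Fact p.Prime] (hP : IsPGroup p P)
    {E : Subgroup P} (hE : IsSoft p E) {K : Subgroup P} (hEK : E ≤ K) [hKn : K.Normal]
    (hK : K ≠ ⊤) : K ⊓ Subgroup.centralizer (K : Set P) = E.normalCore := by
  apply le_antisymm
  · intro x hx
    obtain ⟨hxK, hxC⟩ := Subgroup.mem_inf.mp hx
    intro b
    apply hE.cent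
    rw [Subgroup.mem_centralizer_iff]
    intro e he
    have h1 : b⁻¹ * e * b ∈ K := by
      have := hKn.conj_mem e (hEK he) b⁻¹
      simpa using this
    have h2 := (Subgroup.mem_centralizer_iff.mp hxC) _ h1
    calc e * (b * x * b⁻¹) = b * ((b⁻¹ * e * b) * x) * b⁻¹ := by group
      _ = b * (x * (b⁻¹ * e * b)) * b⁻¹ := by rw [h2]
      _ = b * x * b⁻¹ * e := by group
  · intro x hx
    have hxE : x ∈ E := Subgroup.normalCore_le E hx
    refine Subgroup.mem_inf.mpr ⟨hEK hxE, ?_⟩
    set L := K ⊓ Subgroup.centralizer ((E.normalCore : Subgroup P) : Set P) with hL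
    have hEL : E ≤ L := by
      refine le_inf hEK ?_
      intro e he
      rw [Subgroup.mem_centralizer_iff]
      intro y hy
      exact hE.comm y (Subgroup.normalCore_le E hy) e he
    haveI : L.Normal := Subgroup.normal_inf_normal K _
    have hLK : L = K := by
      by_contra hne
      have hLltK : L < K := lt_of_le_of_ne inf_le_left hne
      have hLtop : L ≠ ⊤ := ne_top_of_lt hLltK
      have h1 := thmB' hP hE hEL hLtop
      rw [Subgroup.normalizer_eq_top, Subgroup.relIndex_top_right] at h1
      have h2 := Subgroup.relIndex_mul_index hLltK.le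
      rw [h1] at h2
      have h3 : K.index ∣ p := Dvd.intro_left _ h2
      rcases (Nat.dvd_prime hp.out).mp h3 with h4 | h4
      · exact hK (Subgroup.index_eq_one.mp h4)
      · rw [h4] at h2
        have : L.relIndex K = 1 :=
          Nat.eq_of_mul_eq_mul_right hp.out.pos (by rw [h2, one_mul])
        exact absurd (Subgroup.relIndex_eq_one.mp this) (not_le_of_gt hLltK)
    rw [Subgroup.mem_centralizer_iff]
    intro k hk
    have hkL : k ∈ L := by rw [hLK]; exact hk
    have := (Subgroup.mem_centralizer_iff.mp (Subgroup.mem_inf.mp hkL).2) x hx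
    exact this.symm

theorem nilpotencyClass_congr {G H : Type*} [Group G] [Group H] (e : G ≃* H)
    [Group.IsNilpotent G] [Group.IsNilpotent H] :
    Group.nilpotencyClass G = Group.nilpotencyClass H :=
  le_antisymm (Group.nilpotencyClass_le_of_surjective e.symm.toMonoidHom e.symm.surjective)
    (Group.nilpotencyClass_le_of_surjective e.toMonoidHom e.surjective)

/-- `K / Z(K)` is isomorphic to the image of `K` modulo `U = K ⊓ C(K)` -/
noncomputable def quotCenterEquiv (K : Subgroup P) [K.Normal] :
    (↥K ⧸ Subgroup.center ↥K) ≃*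
      ↥(K.map (QuotientGroup.mk' (K ⊓ Subgroup.centralizer (K : Set P)))) := by
  let U := K ⊓ Subgroup.centralizer (K : Set P)
  let f : ↥K →* P ⧸ U := (QuotientGroup.mk' U).comp K.subtype
  have hker : f.ker = Subgroup.center ↥K := by
    ext x
    rw [MonoidHom.mem_ker, Subgroup.mem_center_iff]
    show (QuotientGroup.mk' U) (x : P) = 1 ↔ _
    rw [QuotientGroup.mk'_apply, QuotientGroup.eq_one_iff]
    constructor
    · intro hx g
      have := (Subgroup.mem_centralizer_iff.mp (Subgroup.mem_inf.mp hx).2) g g.2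
      exact Subtype.ext this
    · intro hx
      refine Subgroup.mem_inf.mpr ⟨x.2, ?_⟩
      rw [Subgroup.mem_centralizer_iff]
      intro k hk
      have := hx ⟨k, hk⟩
      exact congrArg Subtype.val this
  have hrange : f.range = K.map (QuotientGroup.mk' U) := by
    show ((QuotientGroup.mk' U).comp K.subtype).range = _
    rw [← MonoidHom.map_range, Subgroup.range_subtype]
  exact (QuotientGroup.quotientMulEquivOfEq hker.symm).trans
    ((QuotientGroup.quotientKerEquivRange f).trans (MulEquiv.subgroupCongr hrange))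

theorem soft_ne_bot {p : ℕ} (hp : p.Prime) {E : Subgroup P} (hE : IsSoft p E) : E ≠ ⊥ := by
  intro h
  have h1 : Subgroup.normalizer (E : Set P) ≤ E := by
    intro x _
    apply hE.cent
    rw [Subgroup.mem_centralizer_iff]
    intro e he
    have he' : e ∈ E := he
    rw [h, Subgroup.mem_bot] at he'
    rw [he']; simp
  have := Subgroup.relIndex_eq_one.mpr h1
  rw [hE.idx] at this
  exact hp.one_lt.ne' this

/-- Theorem C for a normal proper overgroup -/
theorem thmC : ∀ (n : ℕ) (P : Type u) [Group P] [Finite P] (p : ℕ) [Fact p.Prime],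
    Nat.card P ≤ n → IsPGroup p P → ∀ E : Subgroup P, IsSoft p E → ∀ K : Subgroup P, E ≤ K →
    K.Normal → K ≠ ⊤ → ∀ i : ℕ, E.relIndex K = p ^ i → Group.nilpotencyClass ↥K = i + 1 := by
  intro n
  induction n with
  | zero =>
    intro P _ _ p _ hn
    have : 0 < Nat.card P := Nat.card_pos
    omega
  | succ n ih =>
    intro P _ _ p hp hn hP E hE K hEK hKn hK i hi
    haveI := hKn
    have hPK : IsPGroup p ↥K := hP.to_subgroup K
    haveI : Group.IsNilpotent ↥K := hPK.isNilpotent
    have hEne := soft_ne_bot hp.out hE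
    haveI : Nontrivial ↥K := by
      obtain ⟨x, hx, hx1⟩ : ∃ x ∈ E, x ≠ 1 := by
        by_contra hcon
        push_neg at hcon
        exact hEne ((Subgroup.eq_bot_iff_forall E).mpr hcon)
      exact ⟨⟨⟨x, hEK hx⟩, 1, fun h => hx1 (congrArg Subtype.val h)⟩⟩
    rw [Group.nilpotencyClass_eq_quotient_center_plus_one (G := ↥K)]
    congr 1
    rcases i with _ | j
    · have hKE : K ≤ E := Subgroup.relIndex_eq_one.mp (by simpa using hi)
      have hcen : Subgroup.center ↥K = ⊤ := by
        rw [eq_top_iff]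
        intro x _
        rw [Subgroup.mem_center_iff]
        intro g
        exact Subtype.ext (hE.comm g (hKE g.2) x (hKE x.2))
      haveI : Subsingleton (↥K ⧸ Subgroup.center ↥K) := by
        rw [hcen]; exact QuotientGroup.subsingleton_quotient_top
      exact Group.nilpotencyClass_zero_iff_subsingleton.mpr inferInstance
    · have hlt : E < K := by
        refine lt_of_le_of_ne hEK ?_
        intro h
        have h1 : E.relIndex K = 1 := Subgroup.relIndex_eq_one.mpr (by rw [h])
        rw [hi] at h1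
        have : 1 < p ^ (j + 1) := Nat.one_lt_pow (by omega) hp.out.one_lt
        omega
      have hN1K := normalizer_le_of_lt hP hE hlt
      have hEN1 : E ≤ Subgroup.normalizer (E : Set P) := Subgroup.le_normalizer
      have hN1top : Subgroup.normalizer (E : Set P) ≠ ⊤ := by
        intro h; rw [h] at hN1K; exact hK (top_le_iff.mp hN1K)
      set U := K ⊓ Subgroup.centralizer (K : Set P) with hU
      haveI hUn : U.Normal := Subgroup.normal_inf_normal K _
      have hUE : U ≤ E := by
        intro x hx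
        exact hE.cent (Subgroup.centralizer_le (show (E : Set P) ⊆ K from hEK)
          (Subgroup.mem_inf.mp hx).2)
      have hU1 : 1 < Nat.card U := by
        haveI := hPK.center_nontrivial
        obtain ⟨z, hz⟩ := exists_ne (1 : Subgroup.center ↥K)
        rw [Finite.one_lt_card_iff_nontrivial]
        have hzU : ((z : ↥K) : P) ∈ U := by
          refine Subgroup.mem_inf.mpr ⟨(z : ↥K).2, ?_⟩
          rw [Subgroup.mem_centralizer_iff]
          intro k hk
          have := (Subgroup.mem_center_iff.mp z.2) ⟨k, hk⟩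
          exact congrArg Subtype.val this
        refine ⟨⟨⟨_, hzU⟩, 1, fun h => hz ?_⟩⟩
        have h1 : ((z : ↥K) : P) = 1 := congrArg Subtype.val h
        exact Subtype.ext (Subtype.ext h1)
      have hcardQ : Nat.card (P ⧸ U) ≤ n := by
        have := card_quotient_lt U hU1
        omega
      have hPQ : IsPGroup p (P ⧸ U) := hP.to_quotient U
      set KK := K.map (QuotientGroup.mk' U) with hKK
      have hKKn : KK.Normal := hKn.map _ (QuotientGroup.mk'_surjective U)
      have hKKtop : KK ≠ ⊤ := by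
        intro h
        apply hK
        rw [← comap_map_mk U (hUE.trans hEK), ← hKK, h, Subgroup.comap_top]
      haveI : Group.IsNilpotent ↥KK := (hPQ.to_subgroup KK).isNilpotent
      rw [nilpotencyClass_congr (quotCenterEquiv K)]
      rcases between hp.out hE.idx (le_C1 U hE.comm) (C1_le_normalizer U hUE) with h | h
      · exfalso
        have hsoft := soft_map_of_C1_le U hE hUE h
        haveI := hKKn
        have hZ1 := center_eq_normalCore hPQ hsoft (K := KK) (Subgroup.map_mono hEK) hKKtop
        have hZ0 := center_eq_normalCore hP hE hEK hK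
        have hcore : (E.map (QuotientGroup.mk' U)).normalCore = ⊥ := by
          rw [eq_bot_iff]
          intro y hy
          obtain ⟨x, rfl⟩ := QuotientGroup.mk'_surjective U y
          have hx : x ∈ E.normalCore := by
            intro b
            have h1 := hy (QuotientGroup.mk' U b)
            rw [← map_inv, ← map_mul, ← map_mul] at h1
            have h2 : b * x * b⁻¹ ∈ (E.map (QuotientGroup.mk' U)).comap (QuotientGroup.mk' U) := h1
            rwa [comap_map_mk U hUE] at h2
          rw [← hZ0] at hx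
          rw [Subgroup.mem_bot]
          exact (QuotientGroup.eq_one_iff x).mpr hx
        -- KK is a nontrivial p-group
        obtain ⟨x, hxK, hxE⟩ := SetLike.exists_of_lt hlt
        haveI : Nontrivial ↥KK := by
          refine ⟨⟨⟨QuotientGroup.mk' U x, Subgroup.mem_map_of_mem _ hxK⟩, 1, fun h => hxE ?_⟩⟩
          have h1 : QuotientGroup.mk' U x = 1 := congrArg Subtype.val h
          exact hUE ((QuotientGroup.eq_one_iff x).mp h1)
        haveI := (hPQ.to_subgroup KK).center_nontrivial
        obtain ⟨z, hz⟩ := exists_ne (1 : Subgroup.center ↥KK)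
        have hzU : ((z : ↥KK) : P ⧸ U) ∈ KK ⊓ Subgroup.centralizer (KK : Set (P ⧸ U)) := by
          refine Subgroup.mem_inf.mpr ⟨(z : ↥KK).2, ?_⟩
          rw [Subgroup.mem_centralizer_iff]
          intro k hk
          have := (Subgroup.mem_center_iff.mp z.2) ⟨k, hk⟩
          exact congrArg Subtype.val this
        rw [hZ1, hcore, Subgroup.mem_bot] at hzU
        exact hz (Subtype.ext (Subtype.ext hzU))
      · have hN2 := thmB' hP hE hEN1 hN1top
        have hsoft := soft_map_normalizer U hp.out hE hUE h hN2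
        have hrel : ((Subgroup.normalizer (E : Set P)).map (QuotientGroup.mk' U)).relIndex KK
            = p ^ j := by
          rw [hKK, relIndex_map_mk U K (hUE.trans hEN1)]
          have h1 := Subgroup.relIndex_mul_relIndex E _ K hEN1 hN1K
          rw [hE.idx, hi, pow_succ, mul_comm] at h1
          exact Nat.eq_of_mul_eq_mul_right hp.out.pos h1
        exact ih (P ⧸ U) p hcardQ hPQ _ hsoft KK (Subgroup.map_mono hN1K) hKKn hKKtop j hrel

/-- softness passes to an intermediate subgroup containing the normalizer of `E` -/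
theorem soft_subgroupOf {p : ℕ} {E M : Subgroup P} (hE : IsSoft p E)
    (hN1M : Subgroup.normalizer (E : Set P) ≤ M) : IsSoft p (E.subgroupOf M) := by
  have hEM : E ≤ M := Subgroup.le_normalizer.trans hN1M
  refine ⟨?_, ?_, ?_⟩
  · intro a ha b hb
    exact Subtype.ext (hE.comm a ha b hb)
  · intro x hx
    rw [Subgroup.mem_subgroupOf]
    apply hE.cent
    rw [Subgroup.mem_centralizer_iff]
    intro e he
    have := (Subgroup.mem_centralizer_iff.mp hx) ⟨e, hEM he⟩
      (by simpa [Subgroup.mem_subgroupOf] using he)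
    exact congrArg Subtype.val this
  · rw [← Subgroup.subgroupOf_normalizer_eq hEM, Subgroup.relIndex_subgroupOf hN1M]
    exact hE.idx

theorem main [Finite P] (p : ℕ) [hp : Fact p.Prime] (hP : IsPGroup p P)
    (E : Subgroup P) (hEab : IsMulCommutative ↥E) (hC : Subgroup.centralizer (E : Set P) ≤ E)
    (hN : (E.subgroupOf (Subgroup.normalizer (E : Set P))).index = p) :
    (∀ K L : Subgroup P, E ≤ K → E ≤ L → K ≤ L ∨ L ≤ K) ∧
      (∀ K : Subgroup P, E ≤ K → K ≠ ⊤ →
        (K.subgroupOf (Subgroup.normalizer (K : Set P))).index = p) ∧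
      ∀ (i : ℕ) (K : Subgroup P), E ≤ K → K ≠ ⊤ → K.index * p ^ i = E.index →
        Group.nilpotencyClass ↥K = i + 1 := by
  have hE : IsSoft p E := by
    refine ⟨?_, hC, hN⟩
    intro a ha b hb
    have := hEab.is_comm.comm ⟨a, ha⟩ ⟨b, hb⟩
    exact congrArg Subtype.val this
  refine ⟨fun K L hK hL => thmA hP hE hK hL, fun K hK hKt => thmB' hP hE hK hKt, ?_⟩
  intro i K hEK hKt hidx
  set M := Subgroup.normalizer (K : Set P) with hM
  have hKM : K ≤ M := Subgroup.le_normalizer
  have hN1M : Subgroup.normalizer (E : Set P) ≤ M := by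
    by_cases hKE : K = E
    · rw [hM, hKE]
    · exact (normalizer_le_of_lt hP hE (lt_of_le_of_ne hEK (Ne.symm hKE))).trans hKM
  have hsoft := soft_subgroupOf hE hN1M
  have hrelKM : K.relIndex M = p := thmB' hP hE hEK hKt
  have hKtop : K.subgroupOf M ≠ ⊤ := by
    intro h
    rw [Subgroup.subgroupOf_eq_top] at h
    have := Subgroup.relIndex_eq_one.mpr h
    rw [hrelKM] at this
    exact hp.out.one_lt.ne' this
  have hrel : (E.subgroupOf M).relIndex (K.subgroupOf M) = p ^ i := by
    rw [Subgroup.relIndex_subgroupOf hKM]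
    have h1 := Subgroup.relIndex_mul_index hEK
    rw [← hidx] at h1
    have hKpos : 0 < K.index := Nat.pos_of_ne_zero Subgroup.index_ne_zero_of_finite
    rw [mul_comm K.index] at h1
    exact Nat.eq_of_mul_eq_mul_right hKpos h1
  have hPM : IsPGroup p ↥M := hP.to_subgroup M
  have hcl := thmC (Nat.card ↥M) ↥M p le_rfl hPM _ hsoft (K.subgroupOf M)
    (by intro x hx; rw [Subgroup.mem_subgroupOf] at hx ⊢; exact hEK hx)
    (Subgroup.normal_in_normalizer) hKtop i hrel
  haveI : Group.IsNilpotent ↥(K.subgroupOf M) := (hPM.to_subgroup _).isNilpotent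
  haveI : Group.IsNilpotent ↥K := (hP.to_subgroup K).isNilpotent
  rw [← nilpotencyClass_congr (Subgroup.subgroupOfEquivOfLe hKM)]
  exact hcl

end Cfsg.Agent.H1.Soft
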