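import Mathlib
import Cfsg.Agent.H1.SelfNormNonab
import Cfsg.Agent.H1.PGroup
import Cfsg.Agent.H1.Soft

set_option autoImplicit false

namespace Cfsg.Agent.H1.SelfNormSimple

open scoped commutatorElement

/-- normalizers grow in `p`-groups -/
theorem exists_normalizer_of_lt {Q : Type*} [Group Q] [Finite Q] {p : ℕ} [Fact p.Prime]
    (P : Subgroup Q) (hP : IsPGroup p P) (H : Subgroup Q) (hlt : H < P) :
    ∃ g ∈ P, g ∉ H ∧ g ∈ Subgroup.normalizer (H : Set Q) := by
  haveI : Group.IsNilpotent P := hP.isNilpotent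
  have hnc := Group.normalizerCondition_of_isNilpotent (G := P)
  have hlt' : H.subgroupOf P < ⊤ := by
    rw [lt_top_iff_ne_top]
    intro h
    rw [Subgroup.subgroupOf_eq_top] at h
    exact absurd (le_antisymm hlt.le h) (ne_of_lt hlt)
  have h1 := hnc _ hlt'
  obtain ⟨x, hxN, hxE⟩ := SetLike.exists_of_lt h1
  rw [← Subgroup.subgroupOf_normalizer_eq hlt.le] at hxN
  exact ⟨x, x.2, fun h => hxE (Subgroup.mem_subgroupOf.mpr h), Subgroup.mem_subgroupOf.mp hxN⟩

/-- a perfect finite group has no nontrivial abelian self-normalizing `p`-subgroup -/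
theorem false_of_selfnorm {Q : Type*} [Group Q] [Finite Q] (hperf : commutator Q = ⊤)
    {p : ℕ} [Fact p.Prime] (H : Subgroup Q) (hHp : IsPGroup p H) (hHne : H ≠ ⊥)
    (hHc : ∀ a ∈ H, ∀ b ∈ H, a * b = b * a)
    (hHn : Subgroup.normalizer (H : Set Q) = H) : False := by
  obtain ⟨P, hHP⟩ := hHp.exists_le_sylow
  have hPH : (P : Subgroup Q) = H := by
    by_contra hne
    have hlt : H < P := lt_of_le_of_ne hHP (Ne.symm hne)
    obtain ⟨g, -, hgH, hgN⟩ := exists_normalizer_of_lt (P : Subgroup Q) P.2 H hlt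
    rw [hHn] at hgN
    exact hgH hgN
  have hP : Subgroup.normalizer ((P : Subgroup Q) : Set Q) ≤
      Subgroup.centralizer ((P : Subgroup Q) : Set Q) := by
    rw [hPH, hHn]
    intro a ha
    rw [Subgroup.mem_centralizer_iff]
    intro b hb
    exact hHc b hb a ha
  have hcompl := MonoidHom.ker_transferSylow_isComplement' P hP
  have hker : (MonoidHom.transferSylow P hP).ker = ⊤ := by
    rw [eq_top_iff, ← hperf, commutator_def, Subgroup.commutator_le]
    intro a _ b _
    rw [MonoidHom.mem_ker, map_commutatorElement]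
    apply commutatorElement_eq_one_iff_mul_comm.mpr
    apply Subtype.ext
    have h1 : ((MonoidHom.transferSylow P hP a : ↥(P : Subgroup Q)) : Q) ∈ H :=
      hPH ▸ (MonoidHom.transferSylow P hP a).2
    have h2 : ((MonoidHom.transferSylow P hP b : ↥(P : Subgroup Q)) : Q) ∈ H :=
      hPH ▸ (MonoidHom.transferSylow P hP b).2
    exact hHc _ h1 _ h2
  rw [hker] at hcompl
  have hc := hcompl.card_mul_card
  rw [Subgroup.card_top] at hc
  have hpos : 0 < Nat.card Q := Nat.card_pos
  have h1 : Nat.card (P : Subgroup Q) = 1 := by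
    have : Nat.card Q * Nat.card (P : Subgroup Q) = Nat.card Q * 1 := by rw [hc, mul_one]
    exact Nat.eq_of_mul_eq_mul_left hpos this
  apply hHne
  rw [← hPH]
  exact Subgroup.card_eq_one.mp h1

/-- in a `p`-group all of whose proper subgroups are abelian, the commutators all lie in a
cyclic group of order dividing `p` -/
theorem mna_comm {X : Type*} [Group X] [Finite X] {p : ℕ} [Fact p.Prime] (hX : IsPGroup p X)
    (hmin : ∀ K : Subgroup X, K ≠ ⊤ → ∀ a ∈ K, ∀ b ∈ K, a * b = b * a) :
    ∃ c : X, c ^ p = 1 ∧ (∀ x : X, c * x = x * c) ∧ ∀ a b : X, ⁅a, b⁆ ∈ Subgroup.zpowers c := by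
  by_cases hab : ∀ a b : X, a * b = b * a
  · refine ⟨1, one_pow p, fun x => by rw [one_mul, mul_one], fun a b => ?_⟩
    rw [commutatorElement_eq_one_iff_mul_comm.mpr (hab a b)]
    exact Subgroup.one_mem _
  push_neg at hab
  obtain ⟨a, b, hab⟩ := hab
  have hgen : Subgroup.closure ({a, b} : Set X) = ⊤ := by
    by_contra hne
    exact hab (hmin _ hne a (Subgroup.subset_closure (by simp)) b (Subgroup.subset_closure (by simp)))
  have hcoatom : ∀ x : X, ∃ M : Subgroup X, IsCoatom M ∧ x ∈ M := by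
    intro x
    rcases eq_top_or_exists_le_coatom (Subgroup.zpowers x) with h | ⟨M, hM, hxM⟩
    · exfalso
      apply hab
      have ha : a ∈ Subgroup.zpowers x := h ▸ Subgroup.mem_top a
      have hb : b ∈ Subgroup.zpowers x := h ▸ Subgroup.mem_top b
      obtain ⟨i, rfl⟩ := Subgroup.mem_zpowers_iff.mp ha
      obtain ⟨j, rfl⟩ := Subgroup.mem_zpowers_iff.mp hb
      exact (Commute.refl x).zpow_zpow i j
    · exact ⟨M, hM, hxM (Subgroup.mem_zpowers x)⟩
  obtain ⟨M₁, hM₁, haM₁⟩ := hcoatom a
  obtain ⟨M₂, hM₂, hbM₂⟩ := hcoatom b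
  obtain ⟨hM₁n, hM₁i⟩ := coatom_normal_index_of_pgroup hX M₁ hM₁
  obtain ⟨hM₂n, hM₂i⟩ := coatom_normal_index_of_pgroup hX M₂ hM₂
  set c := ⁅a, b⁆ with hc
  have hcM₁ : c ∈ M₁ := by
    have : c = a * (b * a⁻¹ * b⁻¹) := by rw [hc, commutatorElement_def]; group
    rw [this]
    exact M₁.mul_mem haM₁ (hM₁n.conj_mem _ (M₁.inv_mem haM₁) b)
  have hcM₂ : c ∈ M₂ := by
    have : c = (a * b * a⁻¹) * b⁻¹ := by rw [hc, commutatorElement_def]
    rw [this]
    exact M₂.mul_mem (hM₂n.conj_mem _ hbM₂ a) (M₂.inv_mem hbM₂)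
  have hca : c * a = a * c := hmin M₁ hM₁.1 c hcM₁ a haM₁
  have hcb : c * b = b * c := hmin M₂ hM₂.1 c hcM₂ b hbM₂
  have hcc : ∀ x : X, c * x = x * c := by
    intro x
    have hx : x ∈ Subgroup.closure ({a, b} : Set X) := hgen ▸ Subgroup.mem_top x
    have hle : Subgroup.closure ({a, b} : Set X) ≤ Subgroup.centralizer ({c} : Set X) := by
      rw [Subgroup.closure_le]
      intro y hy
      rw [SetLike.mem_coe, Subgroup.mem_centralizer_iff]
      intro d hd
      rw [Set.mem_singleton_iff] at hd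
      subst hd
      rcases hy with rfl | hy
      · exact hca
      · rw [Set.mem_singleton_iff] at hy; subst hy; exact hcb
    have := (Subgroup.mem_centralizer_iff.mp (hle hx)) c (Set.mem_singleton c)
    exact this
  have hcp : c ^ p = 1 := by
    have hcen : ⁅a, b⁆ ∈ Subgroup.center X := by
      rw [Subgroup.mem_center_iff]; intro x; exact (hcc x).symm
    have h1 := commutator_pow_of_central a b hcen p
    rw [← hc] at h1
    rw [← h1]
    apply commutatorElement_eq_one_iff_mul_comm.mpr
    have hapM₂ : a ^ p ∈ M₂ := by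
      rw [← hM₂i]; exact Subgroup.pow_index_mem M₂ a
    exact hmin M₂ hM₂.1 _ hapM₂ b hbM₂
  refine ⟨c, hcp, hcc, ?_⟩
  haveI hCn : (Subgroup.zpowers c).Normal := ⟨fun n hn g => by
    obtain ⟨i, rfl⟩ := Subgroup.mem_zpowers_iff.mp hn
    have : g * c ^ i * g⁻¹ = c ^ i := by
      have h1 : Commute c g := hcc g
      rw [(h1.zpow_left i).symm.eq, mul_inv_cancel_right]
    rw [this]
    exact Subgroup.zpow_mem _ (Subgroup.mem_zpowers c) i⟩
  -- the quotient is commutative
  have hq : ∀ x y : X ⧸ Subgroup.zpowers c, x * y = y * x := by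
    have hcl : Subgroup.closure ({(a : X ⧸ Subgroup.zpowers c), (b : X ⧸ Subgroup.zpowers c)} :
        Set (X ⧸ Subgroup.zpowers c)) = ⊤ := by
      have := congrArg (Subgroup.map (QuotientGroup.mk' (Subgroup.zpowers c))) hgen
      rw [MonoidHom.map_closure, Subgroup.map_top_of_surjective _
        (QuotientGroup.mk'_surjective _)] at this
      rw [← this]
      congr 1
      ext y
      simp [Set.image_pair]
    have habq : (a : X ⧸ Subgroup.zpowers c) * (b : X ⧸ Subgroup.zpowers c) =
        (b : X ⧸ Subgroup.zpowers c) * (a : X ⧸ Subgroup.zpowers c) := by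
      have e : a * b = c * (b * a) := by rw [hc, commutatorElement_def]; group
      rw [← QuotientGroup.mk_mul, ← QuotientGroup.mk_mul, e, QuotientGroup.mk_mul,
        (QuotientGroup.eq_one_iff c).mpr (Subgroup.mem_zpowers c), one_mul]
    have hcenter : Subgroup.center (X ⧸ Subgroup.zpowers c) = ⊤ := by
      rw [eq_top_iff, ← hcl, Subgroup.closure_le]
      have hone : ∀ u v : X ⧸ Subgroup.zpowers c, u * v = v * u →
          (∀ w ∈ ({(a : X ⧸ Subgroup.zpowers c), (b : X ⧸ Subgroup.zpowers c)} :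
            Set (X ⧸ Subgroup.zpowers c)), w * u = u * w) → u ∈ Subgroup.center _ := by
        intro u v _ hw
        rw [Subgroup.mem_center_iff]
        intro g
        have hg : g ∈ Subgroup.closure ({(a : X ⧸ Subgroup.zpowers c),
            (b : X ⧸ Subgroup.zpowers c)} : Set (X ⧸ Subgroup.zpowers c)) :=
          hcl ▸ Subgroup.mem_top g
        have hle : Subgroup.closure ({(a : X ⧸ Subgroup.zpowers c),
            (b : X ⧸ Subgroup.zpowers c)} : Set (X ⧸ Subgroup.zpowers c)) ≤
            Subgroup.centralizer ({u} : Set (X ⧸ Subgroup.zpowers c)) := by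
          rw [Subgroup.closure_le]
          intro w hw'
          rw [SetLike.mem_coe, Subgroup.mem_centralizer_iff]
          intro d hd
          rw [Set.mem_singleton_iff] at hd
          subst hd
          exact (hw w hw').symm
        exact ((Subgroup.mem_centralizer_iff.mp (hle hg)) u (Set.mem_singleton u)).symm
      intro w hw
      rcases hw with rfl | hw
      · refine hone _ 1 (by rw [mul_one, one_mul]) ?_
        intro w hw
        rcases hw with rfl | hw
        · rfl
        · rw [Set.mem_singleton_iff] at hw; subst hw; exact habq.symm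
      · rw [Set.mem_singleton_iff] at hw; subst hw
        refine hone _ 1 (by rw [mul_one, one_mul]) ?_
        intro w hw
        rcases hw with rfl | hw
        · exact habq
        · rw [Set.mem_singleton_iff] at hw; subst hw; rfl
    intro x y
    have : x ∈ Subgroup.center (X ⧸ Subgroup.zpowers c) := hcenter ▸ Subgroup.mem_top x
    exact ((Subgroup.mem_center_iff.mp this) y).symm
  intro x y
  rw [← QuotientGroup.eq_one_iff (N := Subgroup.zpowers c)]
  show (QuotientGroup.mk' (Subgroup.zpowers c)) ⁅x, y⁆ = 1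
  rw [map_commutatorElement]
  exact commutatorElement_eq_one_iff_mul_comm.mpr (hq _ _)

section Main

variable {G : Type*} [Group G] [Finite G]

theorem abelian_of_normal
    (hS : ∀ H : Subgroup G, ¬ IsMulCommutative H → Subgroup.normalizer (H : Set G) = H)
    (M : Subgroup G) [M.Normal] (hM : M ≠ ⊤) : IsMulCommutative M := by
  by_contra h
  have h1 := hS M h
  rw [Subgroup.normalizer_eq_top] at h1
  exact hM h1.symm

theorem perfect_of
    (hS : ∀ H : Subgroup G, ¬ IsMulCommutative H → Subgroup.normalizer (H : Set G) = H)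
    (hns : ¬ Group.IsSolvable G) : commutator G = ⊤ := by
  by_contra h
  have hc := abelian_of_normal hS (commutator G) h
  apply hns
  rw [Group.isSolvable_def]
  refine ⟨2, ?_⟩
  rw [derivedSeries_succ, derivedSeries_one, Subgroup.commutator_eq_bot_iff_le_centralizer]
  intro a ha
  rw [Subgroup.mem_centralizer_iff]
  intro b hb
  exact comm_of_isMulCommutative hc hb ha

theorem perfect_quotient (hperf : commutator G = ⊤) (M : Subgroup G) [M.Normal] :
    commutator (G ⧸ M) = ⊤ := by
  have h1 := Subgroup.map_commutator (⊤ : Subgroup G) ⊤ (QuotientGroup.mk' M)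
  rw [Subgroup.map_top_of_surjective _ (QuotientGroup.mk'_surjective M), ← commutator_def,
    ← commutator_def, hperf, Subgroup.map_top_of_surjective _ (QuotientGroup.mk'_surjective M)]
    at h1
  exact h1.symm

/-- case of trivial centre -/
theorem false_of_center_eq_bot
    (hS : ∀ H : Subgroup G, ¬ IsMulCommutative H → Subgroup.normalizer (H : Set G) = H)
    (hperf : commutator G = ⊤) (hZ : Subgroup.center G = ⊥)
    (N0 : Subgroup G) [N0.Normal] (hN0b : N0 ≠ ⊥) (hN0t : N0 ≠ ⊤) : False := by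
  have hN0c := abelian_of_normal hS N0 hN0t
  set M := Subgroup.centralizer (N0 : Set G) with hM
  have hMt : M ≠ ⊤ := by
    intro h
    apply hN0b
    rw [eq_bot_iff, ← hZ]
    intro n hn
    rw [Subgroup.mem_center_iff]
    intro g
    have hg : g ∈ M := h ▸ Subgroup.mem_top g
    exact ((Subgroup.mem_centralizer_iff.mp hg) n hn).symm
  have hN0M : N0 ≤ M := by
    intro n hn
    rw [hM, Subgroup.mem_centralizer_iff]
    intro m hm
    exact comm_of_isMulCommutative hN0c hm hn
  have hQperf := perfect_quotient hperf M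
  haveI : Nontrivial (G ⧸ M) := by
    rw [← not_subsingleton_iff_nontrivial]
    intro hsub
    apply hMt
    rw [eq_top_iff]
    intro g _
    rw [← QuotientGroup.eq_one_iff]
    exact Subsingleton.elim _ _
  have hcard : Nat.card (G ⧸ M) ≠ 1 := by
    intro h
    have := (Nat.card_eq_one_iff_unique.mp h).1
    exact not_subsingleton (G ⧸ M) this
  obtain ⟨p, hp, hpd⟩ := Nat.exists_prime_and_dvd hcard
  haveI : Fact p.Prime := ⟨hp⟩
  obtain ⟨x, hx⟩ := exists_prime_orderOf_dvd_card' p hpd
  set Hb := Subgroup.zpowers x with hHb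
  have hHbp : IsPGroup p Hb := by
    apply IsPGroup.of_card (n := 1)
    rw [Nat.card_zpowers, hx, pow_one]
  have hHbne : Hb ≠ ⊥ := by
    intro h
    have : x ∈ (⊥ : Subgroup (G ⧸ M)) := h ▸ Subgroup.mem_zpowers x
    rw [Subgroup.mem_bot] at this
    rw [this, orderOf_one] at hx
    exact hp.ne_one hx.symm
  have hHbc : ∀ a ∈ Hb, ∀ b ∈ Hb, a * b = b * a := by
    intro a ha b hb
    obtain ⟨i, rfl⟩ := Subgroup.mem_zpowers_iff.mp ha
    obtain ⟨j, rfl⟩ := Subgroup.mem_zpowers_iff.mp hb
    exact (Commute.refl x).zpow_zpow i j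
  set H := Hb.comap (QuotientGroup.mk' M) with hH
  have hMH : M ≤ H := by
    intro m hm
    rw [hH, Subgroup.mem_comap]
    have : (QuotientGroup.mk' M) m = 1 := (QuotientGroup.eq_one_iff m).mpr hm
    rw [this]; exact Subgroup.one_mem _
  have hmap : H.map (QuotientGroup.mk' M) = Hb :=
    Subgroup.map_comap_eq_self_of_surjective (QuotientGroup.mk'_surjective M) Hb
  have hHna : ¬ IsMulCommutative H := by
    intro hc
    apply hHbne
    rw [← hmap, eq_bot_iff]
    rintro _ ⟨h, hh, rfl⟩
    rw [Subgroup.mem_bot]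
    refine (QuotientGroup.eq_one_iff h).mpr ?_
    rw [hM, Subgroup.mem_centralizer_iff]
    intro n hn
    exact comm_of_isMulCommutative hc (hMH (hN0M hn)) hh
  have hHn := hS H hHna
  have hHbn : Subgroup.normalizer (Hb : Set (G ⧸ M)) = Hb := by
    have := Soft.normalizer_map_mk M hMH
    rw [hHn, hmap] at this
    exact this
  exact false_of_selfnorm hQperf Hb hHbp hHbne hHbc hHbn

/-- case of nontrivial centre -/
theorem false_of_center_ne_bot
    (hS : ∀ H : Subgroup G, ¬ IsMulCommutative H → Subgroup.normalizer (H : Set G) = H)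
    (hperf : commutator G = ⊤) (hZ : Subgroup.center G ≠ ⊥) : False := by
  have hcard : Nat.card (Subgroup.center G) ≠ 1 := fun h => hZ (Subgroup.card_eq_one.mp h)
  obtain ⟨p, hp, hpd⟩ := Nat.exists_prime_and_dvd hcard
  haveI : Fact p.Prime := ⟨hp⟩
  obtain ⟨z', hz'⟩ := exists_prime_orderOf_dvd_card' p hpd
  obtain ⟨z, hz⟩ : ∃ z : G, z = (z' : G) := ⟨_, rfl⟩
  have hzo : orderOf z = p := by rw [hz, Subgroup.orderOf_coe, hz']
  have hzc : ∀ g : G, z * g = g * z := fun g => by
    rw [hz]; exact ((Subgroup.mem_center_iff.mp z'.2) g).symm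
  have hz1 : z ≠ 1 := by
    intro h
    rw [h, orderOf_one] at hzo
    exact hp.ne_one hzo.symm
  have hzp : IsPGroup p (Subgroup.zpowers z) :=
    IsPGroup.of_card (n := 1) (by rw [Nat.card_zpowers, hzo, pow_one])
  obtain ⟨P, hzP⟩ := hzp.exists_le_sylow
  have hzP' : z ∈ (P : Subgroup G) := hzP (Subgroup.mem_zpowers z)
  -- transfer into the abelianization of `P`
  let ϕ : ↥(P : Subgroup G) →* Abelianization ↥(P : Subgroup G) := Abelianization.of
  have hV : MonoidHom.transfer ϕ z = 1 := by
    have h1 := Abelianization.commutator_subset_ker (MonoidHom.transfer ϕ)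
    rw [hperf] at h1
    exact MonoidHom.mem_ker.mp (h1 (Subgroup.mem_top z))
  have key : ∀ (k : ℕ) (g₀ : G), g₀⁻¹ * z ^ k * g₀ ∈ (P : Subgroup G) →
      g₀⁻¹ * z ^ k * g₀ = z ^ k := by
    intro k g₀ _
    have hcm : Commute (z ^ k) g₀ := Commute.pow_left (hzc g₀) k
    rw [mul_assoc, hcm.eq, inv_mul_cancel_left]
  rw [MonoidHom.transfer_eq_pow ϕ z key] at hV
  have hmem : (⟨z ^ (P : Subgroup G).index, MonoidHom.transfer_eq_pow_aux z key⟩ :
      ↥(P : Subgroup G)) ∈ commutator ↥(P : Subgroup G) := by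
    rw [← Abelianization.ker_of]; exact MonoidHom.mem_ker.mpr hV
  have hcop : ((P : Subgroup G).index).Coprime (orderOf z) := by
    rw [hzo]
    exact ((Nat.Prime.coprime_iff_not_dvd hp).mpr P.not_dvd_index).symm
  obtain ⟨k, hk⟩ := exists_pow_eq_self_of_coprime hcop
  have hzcomm : (⟨z, hzP'⟩ : ↥(P : Subgroup G)) ∈ commutator ↥(P : Subgroup G) := by
    have h1 := Subgroup.pow_mem _ hmem k
    have h2 : (⟨z ^ (P : Subgroup G).index, MonoidHom.transfer_eq_pow_aux z key⟩ :
        ↥(P : Subgroup G)) ^ k = ⟨z, hzP'⟩ := Subtype.ext hk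
    rwa [h2] at h1
  -- `P` is nonabelian
  have hPna : ¬ IsMulCommutative (P : Subgroup G) := by
    intro hc
    have hbot : commutator ↥(P : Subgroup G) = ⊥ := by
      rw [commutator_def, Subgroup.commutator_eq_bot_iff_le_centralizer]
      intro a _
      rw [Subgroup.mem_centralizer_iff]
      intro b _
      exact hc.is_comm.comm b a
    rw [hbot, Subgroup.mem_bot] at hzcomm
    exact hz1 (congrArg Subtype.val hzcomm)
  have hPn := hS P hPna
  have hmin : ∀ K : Subgroup G, K < (P : Subgroup G) → IsMulCommutative K := by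
    intro K hK
    by_contra hna
    have hKn := hS K hna
    obtain ⟨g, -, hgK, hgN⟩ := exists_normalizer_of_lt (P : Subgroup G) P.2 K hK
    rw [hKn] at hgN
    exact hgK hgN
  have hmin' : ∀ K : Subgroup ↥(P : Subgroup G), K ≠ ⊤ → ∀ a ∈ K, ∀ b ∈ K, a * b = b * a := by
    intro K hK a ha b hb
    have hlt : K.map (P : Subgroup G).subtype < (P : Subgroup G) := by
      refine lt_of_le_of_ne (Subgroup.map_subtype_le K) ?_
      intro h
      apply hK
      rw [eq_top_iff]
      intro x _
      have hx : (x : G) ∈ K.map (P : Subgroup G).subtype := by rw [h]; exact x.2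
      obtain ⟨y, hy, hyx⟩ := hx
      have : y = x := Subtype.ext hyx
      rwa [← this]
    have hc := hmin _ hlt
    exact Subtype.ext (comm_of_isMulCommutative hc (Subgroup.mem_map_of_mem _ ha)
      (Subgroup.mem_map_of_mem _ hb))
  obtain ⟨c, hcp, -, hcomm⟩ := mna_comm (X := ↥(P : Subgroup G)) P.2 hmin'
  have hle : commutator ↥(P : Subgroup G) ≤ Subgroup.zpowers c := by
    rw [commutator_def, Subgroup.commutator_le]
    intro a _ b _
    exact hcomm a b
  have hzc' : (⟨z, hzP'⟩ : ↥(P : Subgroup G)) ∈ Subgroup.zpowers c := hle hzcomm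
  have hzeq : Subgroup.zpowers (⟨z, hzP'⟩ : ↥(P : Subgroup G)) = Subgroup.zpowers c := by
    apply Subgroup.eq_of_le_of_card_ge ((Subgroup.zpowers_le).mpr hzc')
    rw [Nat.card_zpowers, Nat.card_zpowers]
    have h1 : orderOf (⟨z, hzP'⟩ : ↥(P : Subgroup G)) = p := by
      rw [← Subgroup.orderOf_coe]; exact hzo
    rw [h1]
    exact Nat.le_of_dvd hp.pos (orderOf_dvd_of_pow_eq_one hcp)
  have hcommz : ∀ a ∈ (P : Subgroup G), ∀ b ∈ (P : Subgroup G), ⁅a, b⁆ ∈ Subgroup.zpowers z := by
    intro a ha b hb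
    have h1 := hcomm ⟨a, ha⟩ ⟨b, hb⟩
    rw [← hzeq] at h1
    obtain ⟨i, hi⟩ := Subgroup.mem_zpowers_iff.mp h1
    refine Subgroup.mem_zpowers_iff.mpr ⟨i, ?_⟩
    have := congrArg Subtype.val hi
    rw [Subgroup.coe_zpow] at this
    exact this
  -- the quotient by `⟨z⟩`
  haveI hCn : (Subgroup.zpowers z).Normal := ⟨fun n hn g => by
    obtain ⟨i, rfl⟩ := Subgroup.mem_zpowers_iff.mp hn
    have : g * z ^ i * g⁻¹ = z ^ i := by
      have h1 : Commute z g := hzc g
      rw [(h1.zpow_left i).symm.eq, mul_inv_cancel_right]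
    rw [this]
    exact Subgroup.zpow_mem _ (Subgroup.mem_zpowers z) i⟩
  set Pb := (P : Subgroup G).map (QuotientGroup.mk' (Subgroup.zpowers z)) with hPb
  have hPbp : IsPGroup p Pb := P.2.map _
  have hPbne : Pb ≠ ⊥ := by
    intro h
    apply hPna
    apply IsMulCommutative.of_setLike_mul_comm
    intro a ha b hb
    have ha' : (QuotientGroup.mk' (Subgroup.zpowers z)) a ∈ Pb := Subgroup.mem_map_of_mem _ ha
    have hb' : (QuotientGroup.mk' (Subgroup.zpowers z)) b ∈ Pb := Subgroup.mem_map_of_mem _ hb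
    rw [h, Subgroup.mem_bot] at ha' hb'
    have ha2 : a ∈ Subgroup.zpowers z := (QuotientGroup.eq_one_iff a).mp ha'
    have hb2 : b ∈ Subgroup.zpowers z := (QuotientGroup.eq_one_iff b).mp hb'
    obtain ⟨i, rfl⟩ := Subgroup.mem_zpowers_iff.mp ha2
    obtain ⟨j, rfl⟩ := Subgroup.mem_zpowers_iff.mp hb2
    exact (Commute.refl z).zpow_zpow i j
  have hPbc : ∀ a ∈ Pb, ∀ b ∈ Pb, a * b = b * a := by
    rintro _ ⟨a, ha, rfl⟩ _ ⟨b, hb, rfl⟩
    have e : a * b = ⁅a, b⁆ * (b * a) := by rw [commutatorElement_def]; group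
    rw [← map_mul, ← map_mul, e, map_mul]
    have : (QuotientGroup.mk' (Subgroup.zpowers z)) ⁅a, b⁆ = 1 :=
      (QuotientGroup.eq_one_iff _).mpr (hcommz a ha b hb)
    rw [this, one_mul]
  have hPbn : Subgroup.normalizer (Pb : Set (G ⧸ Subgroup.zpowers z)) = Pb := by
    have := Soft.normalizer_map_mk (Subgroup.zpowers z) hzP
    rw [hPn] at this
    exact this
  exact false_of_selfnorm (perfect_quotient hperf _) Pb hPbp hPbne hPbc hPbn

theorem main
    (hS : ∀ H : Subgroup G, ¬ IsMulCommutative H → Subgroup.normalizer (H : Set G) = H) :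
    Group.IsSolvable G ∨ IsSimpleGroup G := by
  by_contra hcon
  push_neg at hcon
  obtain ⟨hns, hnsimp⟩ := hcon
  have hperf := perfect_of hS hns
  haveI : Nontrivial G := by
    by_contra hnt
    rw [not_nontrivial_iff_subsingleton] at hnt
    exact hns inferInstance
  by_cases hZ : Subgroup.center G = ⊥
  · obtain ⟨N0, hN0n, hN0b, hN0t⟩ : ∃ N0 : Subgroup G, N0.Normal ∧ N0 ≠ ⊥ ∧ N0 ≠ ⊤ := by
      by_contra h
      push_neg at h
      apply hnsimp
      exact { exists_pair_ne := exists_pair_ne G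
              eq_bot_or_eq_top_of_normal := fun H hH => by
                by_cases hb : H = ⊥
                · exact Or.inl hb
                · exact Or.inr (h H hH hb) }
    exact false_of_center_eq_bot hS hperf hZ N0 hN0b hN0t
  · exact false_of_center_ne_bot hS hperf hZ

end Main

end Cfsg.Agent.H1.SelfNormSimple
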