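import Mathlib
import Cfsg.Prelude.Def_Local
import Cfsg.Agent.H2.Components
import Cfsg.Agent.H2.Layer

/-!
(P5) of S3048 (helper1): a normal nonabelian simple subgroup with trivial centralizer is `F*(G)`.
-/

set_option autoImplicit false
open scoped commutatorElement

namespace Cfsg.Agent.H1.Sidki

universe u
variable {G : Type u} [Group G]

theorem map_subtype_normalized (L : Subgroup G) (N : Subgroup ↥L) [hN : N.Normal] :
    L ≤ Subgroup.normalizer ((N.map L.subtype : Subgroup G) : Set G) := by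
  intro l hl
  rw [Subgroup.mem_normalizer_iff]
  intro x
  constructor
  · rintro ⟨y, hy, rfl⟩
    exact ⟨⟨l, hl⟩ * y * ⟨l, hl⟩⁻¹, hN.conj_mem y hy ⟨l, hl⟩, rfl⟩
  · rintro ⟨y, hy, hxy⟩
    refine ⟨⟨l, hl⟩⁻¹ * y * ⟨l, hl⟩, ?_, ?_⟩
    · have := hN.conj_mem y hy ⟨l, hl⟩⁻¹
      simpa using this
    · simp only [Subgroup.subtype_apply, Subgroup.coe_mul, Subgroup.coe_inv] at hxy ⊢
      rw [hxy]; group

theorem isSimpleGroup_of_hsimple (L : Subgroup G) (hL1 : L ≠ ⊥)
    (hsimple : ∀ L' : Subgroup G, L' ≤ L → L ≤ Subgroup.normalizer (L' : Set G) → L' = ⊥ ∨ L' = L) :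
    IsSimpleGroup ↥L := by
  haveI : Nontrivial ↥L := (Subgroup.nontrivial_iff_ne_bot L).2 hL1
  refine ⟨fun N hN => ?_⟩
  rcases hsimple (N.map L.subtype) (Subgroup.map_subtype_le N) (map_subtype_normalized L N) with h | h
  · left
    rw [eq_bot_iff]
    intro x hx
    have : (x : G) ∈ N.map L.subtype := ⟨x, hx, rfl⟩
    rw [h, Subgroup.mem_bot] at this
    rw [Subgroup.mem_bot]
    exact Subtype.ext this
  · right
    rw [eq_top_iff]
    intro x _
    have : (x : G) ∈ N.map L.subtype := by rw [h]; exact x.2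
    obtain ⟨y, hy, hyx⟩ := this
    have : y = x := Subtype.ext hyx
    rwa [← this]

variable [Finite G]

theorem fstar_eq_of_simple_normal (L : Subgroup G) (hL : L.Normal) (hL1 : L ≠ ⊥)
    (hsimple : ∀ L' : Subgroup G, L' ≤ L → L ≤ Subgroup.normalizer (L' : Set G) → L' = ⊥ ∨ L' = L)
    (hna : ¬ ∀ a ∈ L, ∀ b ∈ L, a * b = b * a)
    (hC : Subgroup.centralizer (L : Set G) = ⊥) :
    Cfsg.generalizedFittingSubgroup G = L ∧ IsSimpleGroup ↥L ∧ ¬ IsMulCommutative ↥L := by
  classical
  have hS : IsSimpleGroup ↥L := isSimpleGroup_of_hsimple L hL1 hsimple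
  have hnc : ¬ IsMulCommutative ↥L := by
    intro h
    apply hna
    intro a ha b hb
    have := h.is_comm.comm (⟨a, ha⟩ : ↥L) ⟨b, hb⟩
    exact congrArg Subtype.val this
  refine ⟨?_, hS, hnc⟩
  -- center of L is trivial
  have hZ : Subgroup.center ↥L = ⊥ := by
    rcases hS.eq_bot_or_eq_top_of_normal (Subgroup.center ↥L) inferInstance with h | h
    · exact h
    · exfalso
      apply hnc
      refine ⟨⟨fun a b => ?_⟩⟩
      have : a ∈ Subgroup.center ↥L := by rw [h]; trivial
      exact (Subgroup.mem_center_iff.1 this b).symm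
  -- L is perfect
  have hperf : Group.IsPerfect ↥L := by
    rcases hS.eq_bot_or_eq_top_of_normal (commutator ↥L) inferInstance with h | h
    · exfalso
      apply hnc
      refine ⟨⟨fun a b => ?_⟩⟩
      have : ⁅a, b⁆ ∈ commutator ↥L := Subgroup.commutator_mem_commutator (Subgroup.mem_top a) (Subgroup.mem_top b)
      rw [h, Subgroup.mem_bot, commutatorElement_eq_one_iff_mul_comm] at this
      exact this
    · exact ⟨h⟩
  -- the Fitting subgroup is trivial
  have hF : Cfsg.fittingSubgroup G = ⊥ := by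
    rw [eq_bot_iff]
    apply sSup_le
    rintro A ⟨hAn, hAnil⟩
    have h1 : A ⊓ L ≤ L := inf_le_right
    have hALn : (A ⊓ L).Normal := inferInstance
    have h2 : L ≤ Subgroup.normalizer ((A ⊓ L : Subgroup G) : Set G) := by
      rw [Subgroup.normalizer_eq_top_iff.2 hALn]; exact le_top
    rcases hsimple _ h1 h2 with h | h
    · rw [← hC]
      intro a ha
      rw [Subgroup.mem_centralizer_iff]
      intro l hl
      have hmem : ⁅a, l⁆ ∈ A ⊓ L := by
        refine ⟨?_, ?_⟩
        · rw [commutatorElement_def]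
          have : l * a⁻¹ * l⁻¹ ∈ A := hAn.conj_mem _ (A.inv_mem ha) l
          have h3 : a * (l * a⁻¹ * l⁻¹) ∈ A := A.mul_mem ha this
          have e : a * l * a⁻¹ * l⁻¹ = a * (l * a⁻¹ * l⁻¹) := by group
          rw [e]; exact h3
        · rw [commutatorElement_def]
          have : a * l * a⁻¹ ∈ L := hL.conj_mem _ hl a
          exact L.mul_mem this (L.inv_mem hl)
      rw [h, Subgroup.mem_bot, commutatorElement_eq_one_iff_mul_comm] at hmem
      exact hmem.symm
    · exfalso
      have hLA : L ≤ A := by rw [← h]; exact inf_le_left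
      haveI : Group.IsNilpotent ↥(L.subgroupOf A) := inferInstance
      haveI : Group.IsNilpotent ↥L :=
        Group.nilpotent_of_mulEquiv (Subgroup.subgroupOfEquivOfLe hLA)
      apply hnc
      refine ⟨⟨fun a b => ?_⟩⟩
      exact (IsSimpleGroup.comm_iff_isSolvable (G := ↥L)).2 inferInstance a b
  -- L is a component
  have hquot : IsSimpleGroup (↥L ⧸ Subgroup.center ↥L) := by
    haveI : Nontrivial (↥L ⧸ Subgroup.center ↥L) := by
      rw [hZ]
      haveI : Nontrivial ↥L := hS.toNontrivial
      exact (QuotientGroup.quotientBot (G := ↥L)).toEquiv.nontrivial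
    exact IsSimpleGroup.isSimpleGroup_of_surjective (QuotientGroup.mk' (Subgroup.center ↥L))
      (QuotientGroup.mk'_surjective _)
  have hcomp : Cfsg.IsComponent L := ⟨hL.isSubnormal, hperf, hquot⟩
  have hlayer : Cfsg.layer G = L := by
    apply le_antisymm
    · rw [Cfsg.Agent.H2.layer_le_iff]
      intro K hK
      rcases Cfsg.Agent.H2.component_le_or_commutator_eq_bot K L hK hL.isSubnormal with h | h
      · exact h
      · exfalso
        have hKC : K ≤ Subgroup.centralizer (L : Set G) :=
          Subgroup.commutator_eq_bot_iff_le_centralizer.1 h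
        rw [hC] at hKC
        exact Cfsg.Agent.H2.quasisimple_ne_bot hK.2 (le_bot_iff.1 hKC)
    · exact Cfsg.Agent.H2.component_le_layer hcomp
  unfold Cfsg.generalizedFittingSubgroup
  rw [hF, hlayer, sup_bot_eq]

end Cfsg.Agent.H1.Sidki
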