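import Mathlib
import Cfsg.Agent.S3969

set_option autoImplicit false
open scoped Pointwise commutatorElement

namespace Cfsg.Agent.H1

theorem solvable_of_small_abelian_sylows_aux : ∀ (n : ℕ) (G : Type*) [Group G] [Finite G], Nat.card G = n →
    (∀ p : ℕ, p.Prime → p ∣ Nat.card G → (∃ q : ℕ, q.Prime ∧ q ∣ Nat.card G ∧ p < q) → ∀ P : Sylow p G, IsMulCommutative (P : Subgroup G) ∧ Group.rank (P : Subgroup G) ≤ 2) → (¬ 12 ∣ Nat.card G) → Group.IsSolvable G := by
  intro n
  induction n using Nat.strong_induction_on with
  | _ n ih =>
    intro G _ _ hn h h12
    by_cases hn1 : n = 1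
    · have : Subsingleton G := (Nat.card_eq_one_iff_unique.mp (hn.trans hn1)).1
      infer_instance
    set p := n.minFac with hpdef
    have hp : p.Prime := Nat.minFac_prime hn1
    haveI : Fact p.Prime := ⟨hp⟩
    have hpn : p ∣ Nat.card G := by rw [hn]; exact Nat.minFac_dvd n
    by_cases hbig : ∃ q : ℕ, q.Prime ∧ q ∣ Nat.card G ∧ p < q
    · -- normal p-complement
      obtain ⟨P⟩ : Nonempty (Sylow p G) := inferInstance
      obtain ⟨hab, hrk⟩ := h p hp hpn hbig P
      have hmin : ∀ l : ℕ, l.Prime → l ∣ Nat.card G → p ≤ l := by
        intro l hl hlG
        rw [hn] at hlG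
        exact Nat.minFac_le_of_dvd hl.two_le hlG
      have hcop : Nat.Coprime (Nat.card G) (∏ i ∈ Finset.Icc 1 (Group.rank (P : Subgroup G)), (p ^ i - 1)) := by
        apply Nat.coprime_of_dvd
        intro l hl hlG hlprod
        rw [Prime.dvd_finset_prod_iff hl.prime] at hlprod
        obtain ⟨i, hi, hli⟩ := hlprod
        rw [Finset.mem_Icc] at hi
        have hpl := hmin l hl hlG
        have hp2le := hp.two_le
        have hone : ¬ l ∣ p - 1 := by
          intro hd
          have := Nat.le_of_dvd (by omega) hd
          omega
        have hi12 : i = 1 ∨ i = 2 := by omega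
        rcases hi12 with rfl | rfl
        · rw [pow_one] at hli
          exact hone hli
        · have hfac : p ^ 2 - 1 = (p - 1) * (p + 1) := by
            have := Nat.sq_sub_sq p 1
            rw [one_pow, mul_comm] at this
            exact this
          rw [hfac, hl.dvd_mul] at hli
          rcases hli with hli | hli
          · exact hone hli
          · -- l ∣ p + 1, l ≥ p
            have hle := Nat.le_of_dvd (by omega) hli
            have hlp : l ≠ p := by
              intro hlp
              rw [hlp] at hli
              have : p ∣ 1 := (Nat.dvd_add_right (dvd_refl p)).mp hli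
              exact hp.one_lt.ne' (Nat.dvd_one.mp this)
            have hl1 : l = p + 1 := by omega
            -- p = 2, l = 3
            have hp2 : p = 2 := by
              rcases hp.eq_two_or_odd' with h2 | hodd
              · exact h2
              · exfalso
                have heven : Even l := by rw [hl1]; exact hodd.add_one
                have : l = 2 := (Nat.Prime.even_iff hl).mp heven
                have := hp.two_le
                omega
            have hl3 : l = 3 := by omega
            -- 4 ∤ card G
            have h4 : ¬ 4 ∣ Nat.card G := by
              intro h4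
              apply h12
              have h3 : 3 ∣ Nat.card G := hl3 ▸ hlG
              have : Nat.Coprime 4 3 := by norm_num
              exact this.mul_dvd_of_dvd_of_dvd h4 h3
            -- |P| = 2
            obtain ⟨k, hk⟩ := IsPGroup.iff_card.mp P.2
            have hPdvd : Nat.card (P : Subgroup G) ∣ Nat.card G := Subgroup.card_subgroup_dvd_card _
            have hk1 : k ≤ 1 := by
              by_contra hk2
              apply h4
              have : p ^ 2 ∣ p ^ k := pow_dvd_pow p (by omega)
              rw [hp2] at this
              rw [hk, hp2] at hPdvd
              exact dvd_trans (by norm_num at this ⊢; exact this) hPdvd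
            have hcyc : IsCyclic (P : Subgroup G) := by
              rcases Nat.le_one_iff_eq_zero_or_eq_one.mp hk1 with rfl | rfl
              · rw [pow_zero] at hk
                have : Subsingleton (P : Subgroup G) := (Nat.card_eq_one_iff_unique.mp hk).1
                exact isCyclic_of_subsingleton
              · rw [pow_one] at hk
                exact isCyclic_of_prime_card hk
            obtain ⟨g, hg⟩ := hcyc.exists_generator
            have hrk1 : Group.rank (P : Subgroup G) ≤ 1 := by
              have hS : Subgroup.closure (({g} : Finset (P : Subgroup G)) : Set (P : Subgroup G)) = ⊤ := by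
                rw [Finset.coe_singleton, ← Subgroup.zpowers_eq_closure, Subgroup.eq_top_iff']
                exact hg
              have := Group.rank_le (G := (P : Subgroup G)) hS
              simpa using this
            omega
      obtain ⟨P', N, hNn, hNc⟩ := S3969.result p P hab hcop
      have hcardN : Nat.card N * Nat.card (P' : Subgroup G) = Nat.card G := hNc.card_mul_card
      have hP'1 : 1 < Nat.card (P' : Subgroup G) := by
        have hdvd : p ∣ Nat.card (P' : Subgroup G) := by
          have := P'.card_eq_multiplicity
          rw [this]
          have hfac : 0 < (Nat.card G).factorization p :=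
            hp.factorization_pos_of_dvd Nat.card_pos.ne' hpn
          exact dvd_pow_self p hfac.ne'
        have := Nat.le_of_dvd Nat.card_pos hdvd
        have := hp.two_le
        omega
      have hNlt : Nat.card N < n := by
        rw [← hn, ← hcardN]
        have : 0 < Nat.card N := Nat.card_pos
        nlinarith
      have hQp : IsPGroup p (G ⧸ N) := by
        have h1 : Nat.card (G ⧸ N) = Nat.card (P' : Subgroup G) := by
          have h2 := Subgroup.card_mul_index N
          rw [Subgroup.index_eq_card, ← hcardN] at h2
          exact Nat.eq_of_mul_eq_mul_left Nat.card_pos h2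
        obtain ⟨k, hk⟩ := IsPGroup.iff_card.mp P'.2
        exact IsPGroup.of_card (h1.trans hk)
      have hNsolv : Group.IsSolvable N := by
        apply ih (Nat.card N) hNlt N rfl
        · intro p' hp' hp'N hbig' R
          haveI : Fact p'.Prime := ⟨hp'⟩
          obtain ⟨q', hq', hq'N, hlt⟩ := hbig'
          have hNG : Nat.card N ∣ Nat.card G := Subgroup.card_subgroup_dvd_card N
          have hRp : IsPGroup p' ((R : Subgroup N).map N.subtype) := R.2.map _
          obtain ⟨S, hS⟩ := hRp.exists_le_sylow
          obtain ⟨habS, hrkS⟩ := h p' hp' (hp'N.trans hNG) ⟨q', hq', hq'N.trans hNG, hlt⟩ S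
          -- p' ≠ p
          have hp'p : p' ≠ p := by
            intro hpp'
            rw [hpp'] at hp'N
            have h1 : ¬ p ∣ (P' : Subgroup G).index := P'.not_dvd_index
            apply h1
            have h2 := Subgroup.card_mul_index (P' : Subgroup G)
            rw [← hcardN, mul_comm] at h2
            have h3 : (P' : Subgroup G).index = Nat.card N := Nat.eq_of_mul_eq_mul_right Nat.card_pos h2
            rw [h3]; exact hp'N
          have hSN : (S : Subgroup G) ≤ N := by
            intro x hx
            obtain ⟨a, ha⟩ := (IsPGroup.iff_orderOf.mp S.2) ⟨x, hx⟩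
            obtain ⟨b, hb⟩ := (IsPGroup.iff_orderOf.mp hQp) (QuotientGroup.mk x : G ⧸ N)
            have h1 : orderOf (QuotientGroup.mk x : G ⧸ N) ∣ orderOf x :=
              orderOf_dvd_of_pow_eq_one (by rw [← QuotientGroup.mk_pow, pow_orderOf_eq_one]; rfl)
            have h2 : orderOf x = p' ^ a := by
              rw [← ha]; exact (Subgroup.orderOf_mk x hx).symm
            rw [hb, h2] at h1
            have h3 : Nat.Coprime (p ^ b) (p' ^ a) :=
              Nat.Coprime.pow _ _ ((Nat.coprime_primes hp hp').mpr (Ne.symm hp'p))
            have h4 : p ^ b = 1 := Nat.Coprime.eq_one_of_dvd h3 h1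
            rw [h4] at hb
            have h5 : (QuotientGroup.mk x : G ⧸ N) = 1 := orderOf_eq_one_iff.mp hb
            exact (QuotientGroup.eq_one_iff x).mp h5
          have hRS : (R : Subgroup N) = (S : Subgroup G).subgroupOf N := by
            have hle : (R : Subgroup N) ≤ (S : Subgroup G).subgroupOf N := by
              intro x hx
              rw [Subgroup.mem_subgroupOf]
              exact hS ⟨x, hx, rfl⟩
            have hSp : IsPGroup p' ((S : Subgroup G).subgroupOf N) := S.2.comap_subtype
            exact (R.is_maximal' hSp hle).symm
          have e : (R : Subgroup N) ≃* (S : Subgroup G) :=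
            (MulEquiv.subgroupCongr hRS).trans (Subgroup.subgroupOfEquivOfLe hSN)
          constructor
          · refine ⟨⟨fun x y => ?_⟩⟩
            apply e.injective
            rw [map_mul, map_mul]
            exact habS.is_comm.comm _ _
          · rw [Group.rank_congr e]
            exact hrkS
        · intro h
          exact h12 (h.trans (Subgroup.card_subgroup_dvd_card N))
      haveI := hNsolv
      haveI : Group.IsSolvable (G ⧸ N) := by
        haveI := hQp.isNilpotent
        infer_instance
      apply solvable_of_ker_le_range N.subtype (QuotientGroup.mk' N)
      rw [QuotientGroup.ker_mk', Subgroup.range_subtype]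
    · -- G is a p-group
      have hG : IsPGroup p G := by
        have hne : Nat.card G ≠ 0 := Nat.card_pos.ne'
        have : Nat.card G = p ^ (Nat.card G).factorization p := by
          apply Nat.eq_pow_of_factorization_eq_single hne
          ext l
          by_cases hl : l = p
          · rw [hl]; simp
          · rw [Finsupp.single_apply, if_neg (Ne.symm hl)]
            by_contra hfac
            have hlpr : l.Prime := Nat.prime_of_mem_primeFactors (Nat.support_factorization _ ▸ Finsupp.mem_support_iff.mpr hfac)
            have hlG : l ∣ Nat.card G := Nat.dvd_of_factorization_pos hfac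
            have hpl : p ≤ l := by
              rw [hn] at hlG
              exact Nat.minFac_le_of_dvd hlpr.two_le hlG
            apply hbig
            exact ⟨l, hlpr, hlG, lt_of_le_of_ne hpl (Ne.symm hl)⟩
        exact IsPGroup.of_card this
      haveI := hG.isNilpotent
      infer_instance

end Cfsg.Agent.H1
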