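import Mathlib
import Cfsg.Prelude.Def_PLocal
import Cfsg.Agent.H1.SncNormal
import Cfsg.Agent.H1.PStableQuot
import Cfsg.Agent.H2.PPrimeCore
import Cfsg.Agent.Lib.Lead.PSolvable
import Cfsg.Agent.S0624
import Cfsg.Agent.S0625

set_option autoImplicit false
set_option linter.style.haveILetI false
set_option linter.unusedVariables false
set_option linter.unusedSectionVars false

open scoped commutatorElement

namespace Cfsg.Agent.H1

open Cfsg

section sncquot
universe u
variable {G H : Type u} [Group G] [Group H] [Finite G] [Finite H] {p : ℕ}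

/-- `W(·)` commutes with homomorphisms that are injective on the `p`-group in question -/
theorem stableNormalClosure_map_of_injOn (f : G →* H) (P : Subgroup G)
    (hinj : ∀ x ∈ P, f x = 1 → x = 1) :
    (Cfsg.stableNormalClosure p ↥(P.map f)).map (P.map f).subtype =
      ((Cfsg.stableNormalClosure p ↥P).map P.subtype).map f := by
  have hbij : Function.Bijective (f.subgroupMap P) := by
    refine ⟨?_, f.subgroupMap_surjective P⟩
    rw [injective_iff_map_eq_one]
    intro x hx
    have h1 := congrArg Subtype.val hx
    have h2 : f (x : G) = 1 := h1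
    exact Subtype.ext (hinj x x.2 h2)
  obtain ⟨e, hedef⟩ : ∃ e : ↥P ≃* ↥(P.map f), e = MulEquiv.ofBijective (f.subgroupMap P) hbij :=
    ⟨_, rfl⟩
  have h1 := stableNormalClosure_map_equiv (p := p) e
  rw [← h1, Subgroup.map_map, Subgroup.map_map]
  congr 1
  ext x
  rw [hedef]
  rfl

end sncquot

end Cfsg.Agent.H1
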