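import Mathlib
import Cfsg.Prelude.Def_PLocal
import Cfsg.Agent.H1.SncNormal
import Cfsg.Agent.H1.SncQuot
import Cfsg.Agent.H1.PStableQuot
import Cfsg.Agent.H1.GTStructure
import Cfsg.Agent.H1.ThompsonNPC

set_option autoImplicit false
set_option linter.style.haveILetI false
set_option linter.unusedVariables false
set_option linter.unusedSectionVars false

open scoped commutatorElement

namespace Cfsg.Agent.H1

open Cfsg Cfsg.Agent.Lib.Helper4.PNil Cfsg.Agent.Lib.Helper4.GT

section sncnpc
universe u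
variable {G : Type u} [Group G] [Finite G] {p : ℕ}

/-- `W(D)` viewed inside the ambient group -/
abbrev sncOf (p : ℕ) (D : Subgroup G) : Subgroup G :=
  (Cfsg.stableNormalClosure p ↥D).map D.subtype

theorem sncOf_le (D : Subgroup G) : sncOf p D ≤ D := Subgroup.map_subtype_le _

theorem sncOf_subgroupOf {L D : Subgroup G} (hDL : D ≤ L) :
    sncOf p (D.subgroupOf L) = (sncOf p D).subgroupOf L := by
  have hmap : (D.subgroupOf L).map L.subtype = D := Subgroup.map_subgroupOf_eq_of_le hDL
  have h1 := stableNormalClosure_map_of_injOn (p := p) L.subtype (D.subgroupOf L) (fun x _ hx => by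
    have h1 : L.subtype x = L.subtype 1 := by rw [hx, map_one]
    exact L.subtype_injective h1)
  have h2 : sncOf p ((D.subgroupOf L).map L.subtype) = (sncOf p (D.subgroupOf L)).map L.subtype := h1
  rw [hmap] at h2
  rw [h2]
  exact (Subgroup.comap_map_eq_self_of_injective L.subtype_injective _).symm

theorem pnil_normalizer_snc_subgroupOf [Fact p.Prime] {L D : Subgroup G} (hDL : D ≤ L)
    (hN : PNil p (Subgroup.normalizer (sncOf p D : Set G))) :
    PNil p (Subgroup.normalizer (sncOf p (D.subgroupOf L) : Set ↥L)) := by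
  have hle : sncOf p D ≤ L := (sncOf_le D).trans hDL
  rw [sncOf_subgroupOf hDL, ← Subgroup.subgroupOf_normalizer_eq hle,
    ← Subgroup.inf_subgroupOf_right, pnil_subgroupOf_iff inf_le_right]
  exact pnil_mono inf_le_left hN

/-- a `p`-group acts `p`-stably on each of its normal subgroups -/
theorem isPStableOn_of_isPGroup {X : Type*} [Group X] (hX : IsPGroup p X) (V : Subgroup X) [V.Normal] :
    Cfsg.IsPStableOn p V := by
  intro a _
  have h1 : (⊤ : Subgroup (X ⧸ Subgroup.centralizer (V : Set X))) ≤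
      Cfsg.pCore p (X ⧸ Subgroup.centralizer (V : Set X)) := by
    apply le_pCore inferInstance
    have h2 : IsPGroup p (X ⧸ Subgroup.centralizer (V : Set X)) := hX.to_quotient _
    exact h2.to_subgroup _
  exact h1 (Subgroup.mem_top _)

/-- `p`-stability of the action on a normal subgroup is transported by isomorphisms -/
theorem isPStableOn_of_mulEquiv {X Y : Type*} [Group X] [Group Y] (e : X ≃* Y) (V : Subgroup X) [V.Normal]
    (V' : Subgroup Y) [V'.Normal] (hV : V.map e.toMonoidHom = V') (h : Cfsg.IsPStableOn p V) :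
    Cfsg.IsPStableOn p V' := by
  intro a' ha'
  obtain ⟨a, rfl⟩ := e.surjective a'
  have hq : ⁅⁅V, Subgroup.zpowers a⁆, Subgroup.zpowers a⁆ = ⊥ := by
    apply quad_of_map_injective e.toMonoidHom e.injective
    rw [hV]
    exact ha'
  have h1 := h a hq
  -- the induced map on quotients
  have hker : Subgroup.centralizer (V : Set X) ≤
      (Subgroup.centralizer (V' : Set Y)).comap e.toMonoidHom := by
    intro x hx
    rw [Subgroup.mem_comap, Subgroup.mem_centralizer_iff]
    intro v' hv'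
    rw [SetLike.mem_coe, ← hV] at hv'
    obtain ⟨v, hv, rfl⟩ := hv'
    have h2 := Subgroup.mem_centralizer_iff.mp hx v hv
    show e v * e x = e x * e v
    rw [← map_mul, ← map_mul, h2]
  obtain ⟨φ, hφdef⟩ : ∃ φ : X ⧸ Subgroup.centralizer (V : Set X) →* Y ⧸ Subgroup.centralizer (V' : Set Y),
      φ = QuotientGroup.map _ _ e.toMonoidHom hker := ⟨_, rfl⟩
  have hφs : Function.Surjective φ := by
    intro y
    obtain ⟨y, rfl⟩ := QuotientGroup.mk_surjective y
    obtain ⟨x, rfl⟩ := e.surjective y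
    refine ⟨QuotientGroup.mk x, ?_⟩
    rw [hφdef]
    rfl
  have h2 := pCore_map_le_of_surjective (p := p) φ hφs (Subgroup.mem_map_of_mem φ h1)
  have h3 : φ (QuotientGroup.mk a) = QuotientGroup.mk (e a) := by rw [hφdef]; rfl
  rw [h3] at h2
  exact h2

/-- a subgroup which is the whole group acts `p`-stably on `V` as soon as the group does on the image of `V` -/
theorem isPStableOn_of_eq_top (N : Subgroup G) (hN : N = ⊤) (V : Subgroup ↥N) [V.Normal]
    (h : ∀ (U : Subgroup G) [U.Normal], U = V.map N.subtype → Cfsg.IsPStableOn p U) :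
    Cfsg.IsPStableOn p V := by
  subst hN
  haveI hUn : (V.map (⊤ : Subgroup G).subtype).Normal := by
    constructor
    rintro _ ⟨v, hv, rfl⟩ g
    have h1 := ‹V.Normal›.conj_mem v hv ⟨g, Subgroup.mem_top g⟩
    exact ⟨_, h1, rfl⟩
  have h1 := h _ rfl
  refine isPStableOn_of_mulEquiv (Subgroup.topEquiv (G := G)).symm (V.map (⊤ : Subgroup G).subtype) V ?_ h1
  ext x
  rw [Subgroup.mem_map]
  constructor
  · rintro ⟨_, ⟨v, hv, rfl⟩, rfl⟩
    have : (Subgroup.topEquiv (G := G)).symm.toMonoidHom ((⊤ : Subgroup G).subtype v) = v :=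
      Subtype.ext rfl
    rw [this]; exact hv
  · intro hx
    exact ⟨x.1, ⟨x, hx, rfl⟩, Subtype.ext rfl⟩

variable [Fact p.Prime]

/-- in a group of characteristic `p` acting `p`-stably on `O_p(G)`, every element acting quadratically on `O_p(G)` lies
in `O_p(G)`. -/
theorem mem_pCore_of_quad_pCore
    (hc : Subgroup.centralizer (Cfsg.pCore p G : Set G) ≤ Cfsg.pCore p G)
    (hstB : Cfsg.IsPStableOn p (Cfsg.pCore p G)) (z : G)
    (hq : ⁅⁅Cfsg.pCore p G, Subgroup.zpowers z⁆, Subgroup.zpowers z⁆ = ⊥) : z ∈ Cfsg.pCore p G := by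
  have hQp : IsPGroup p ↥(Cfsg.pCore p G) := Cfsg.Agent.H1.pCore_isPGroup p
  have h1 := hstB z hq
  haveI hPn : (Cfsg.pCore p (G ⧸ Subgroup.centralizer (Cfsg.pCore p G : Set G))).Normal :=
    Cfsg.Agent.H1.pCore_normal p
  have hPp : IsPGroup p ↥(Cfsg.pCore p (G ⧸ Subgroup.centralizer (Cfsg.pCore p G : Set G))) :=
    Cfsg.Agent.H1.pCore_isPGroup p
  obtain ⟨LQ, hLQ⟩ : ∃ LQ, LQ =
      (Cfsg.pCore p (G ⧸ Subgroup.centralizer (Cfsg.pCore p G : Set G))).comap
        (QuotientGroup.mk' (Subgroup.centralizer (Cfsg.pCore p G : Set G))) := ⟨_, rfl⟩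
  have hLQn : LQ.Normal := by rw [hLQ]; exact hPn.comap _
  have hLQp : IsPGroup p ↥LQ := by
    intro ⟨l, hl⟩
    rw [hLQ] at hl
    have hl' : (QuotientGroup.mk l : G ⧸ Subgroup.centralizer (Cfsg.pCore p G : Set G)) ∈
        Cfsg.pCore p (G ⧸ Subgroup.centralizer (Cfsg.pCore p G : Set G)) := hl
    obtain ⟨k, hk⟩ := hPp ⟨_, hl'⟩
    have hk' : (QuotientGroup.mk l : G ⧸ Subgroup.centralizer (Cfsg.pCore p G : Set G)) ^
        (p ^ k) = 1 := by
      have h2 := congrArg Subtype.val hk
      simpa using h2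
    rw [← QuotientGroup.mk_pow, QuotientGroup.eq_one_iff] at hk'
    obtain ⟨m, hm⟩ := hQp ⟨_, hc hk'⟩
    have hm' : (l ^ p ^ k) ^ p ^ m = 1 := by
      have h2 := congrArg Subtype.val hm
      simpa using h2
    refine ⟨k + m, Subtype.ext ?_⟩
    rw [Subgroup.coe_pow, Subgroup.coe_one, pow_add, pow_mul]
    exact hm'
  have hle : LQ ≤ Cfsg.pCore p G := le_pCore hLQn hLQp
  apply hle
  rw [hLQ]
  exact h1

theorem snc_tnpc_final (hp2 : p ≠ 2) (P : Sylow p G)
    (hN : PNil p (Subgroup.normalizer (sncOf p (P : Subgroup G) : Set G)))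
    (ihP : ∀ L : Subgroup G, (P : Subgroup G) ≤ L → L ≠ ⊤ → PNil p L)
    (hO : Cfsg.pPrimeCore p G = ⊥) : PNil p (⊤ : Subgroup G) := by
  have hp : p.Prime := Fact.out
  by_contra hnot
  obtain ⟨K₁, hK₁n, hHK, hC, hcop, ⟨k, hidx⟩, hab, hst, hmax⟩ :=
    minimal_nonPNil_structure hp2 P ihP hO hnot
  have hPp : IsPGroup p ↥(P : Subgroup G) := P.isPGroup'
  have hPN : (P : Subgroup G) ≤
      Subgroup.normalizer (Cfsg.thompsonSubgroupOf p (P : Subgroup G) : Set G) :=
    Subgroup.le_normalizer.trans (normalizer_le_normalizer_J (P : Subgroup G))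
  have hWn : (sncOf p (P : Subgroup G)).Normal := by
    apply snc_normal_core P hC
    · intro V _ hV
      apply hst V
      intro ⟨v, hv⟩
      refine ⟨1, Subtype.ext ?_⟩
      rw [Subgroup.coe_pow, Subgroup.coe_one, pow_one]
      exact hV.2 v hv
    · intro z hz
      apply mem_pCore_of_quad_pCore hC (hst _ (Cfsg.Agent.H1.pCore_isPGroup p))
      exact quad_of_mem_omegaCenterThompson P _ (pCore_le_sylow P) z hz
    · intro V _ hV
      rcases hmax _ hPN with h | h
      · have hNp : IsPGroup p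
            ↥(Subgroup.normalizer (Cfsg.thompsonSubgroupOf p (P : Subgroup G) : Set G)) := by
          rw [h]; exact hPp
        exact isPStableOn_of_isPGroup hNp V
      · apply isPStableOn_of_eq_top _ h V
        intro U _ hU
        apply hst U
        rw [hU]
        exact hPp.to_le (hV.trans (Subgroup.map_subtype_le _))
  apply hnot
  have h1 : Subgroup.normalizer (sncOf p (P : Subgroup G) : Set G) = ⊤ :=
    Subgroup.normalizer_eq_top_iff.mpr hWn
  rw [h1] at hN
  exact hN

theorem snc_tnpc_all (hp2 : p ≠ 2) :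
    ∀ n : ℕ, ∀ (G : Type u) [Group G] [Finite G], Nat.card G = n → ∀ P : Sylow p G,
      PNil p (Subgroup.normalizer (sncOf p (P : Subgroup G) : Set G)) →
      PNil p (⊤ : Subgroup G) := by
  intro n
  induction n using Nat.strong_induction_on with
  | _ n ih =>
  intro G _ _ hn P hN
  have hPp : IsPGroup p ↥(P : Subgroup G) := P.isPGroup'
  have ihP : ∀ L : Subgroup G, (P : Subgroup G) ≤ L → L ≠ ⊤ → PNil p L := by
    intro L hPL hL
    have hRp' : IsPGroup p ↥((P : Subgroup G).subgroupOf L) :=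
      hPp.comap_of_injective L.subtype L.subtype_injective
    have hRi : ¬ p ∣ ((P : Subgroup G).subgroupOf L).index := by
      intro hdvd
      exact P.not_dvd_index (dvd_trans hdvd (Subgroup.relIndex_dvd_index_of_le hPL))
    obtain ⟨PL, hPL'⟩ : ∃ PL : Sylow p ↥L, (PL : Subgroup ↥L) = (P : Subgroup G).subgroupOf L :=
      ⟨hRp'.toSylow hRi, IsPGroup.toSylow_coe _ _⟩
    have h1 := ih (Nat.card ↥L) (by rw [← hn]; exact card_subgroup_lt L hL) ↥L rfl PL
    rw [hPL'] at h1
    exact (pnil_top_subtype_iff L).mp (h1 (pnil_normalizer_snc_subgroupOf hPL hN))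
  by_cases hO : Cfsg.pPrimeCore p G = ⊥
  · exact snc_tnpc_final hp2 P hN ihP hO
  · obtain ⟨M, hMdef⟩ : ∃ M : Subgroup G, M = Cfsg.pPrimeCore p G := ⟨_, rfl⟩
    rw [← hMdef] at hO
    haveI hMn : M.Normal := by rw [hMdef]; exact Cfsg.Agent.H1.pPrimeCore_normal p
    have hM : (Nat.card ↥M).Coprime p := by rw [hMdef]; exact Cfsg.Agent.H1.pPrimeCore_coprime p
    have hs := QuotientGroup.mk'_surjective M
    have hinf : M ⊓ (P : Subgroup G) = ⊥ := inf_eq_bot_of_pgroup_coprime M P hPp hM
    have hinj : ∀ x ∈ (P : Subgroup G), QuotientGroup.mk' M x = 1 → x = 1 := by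
      intro x hx h1
      rw [QuotientGroup.mk'_apply, QuotientGroup.eq_one_iff] at h1
      have h2 : x ∈ M ⊓ (P : Subgroup G) := ⟨h1, hx⟩
      rw [hinf] at h2
      exact Subgroup.mem_bot.mp h2
    have h1 := ih (Nat.card (G ⧸ M)) (by rw [← hn]; exact card_quotient_lt M hO) (G ⧸ M) rfl
      (P.mapSurjective hs)
    rw [Sylow.coe_mapSurjective] at h1
    have h2 : sncOf p ((P : Subgroup G).map (QuotientGroup.mk' M)) =
        (sncOf p (P : Subgroup G)).map (QuotientGroup.mk' M) :=
      stableNormalClosure_map_of_injOn _ _ hinj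
    rw [h2] at h1
    apply pnil_top_of_quotient M hM
    apply h1
    have hWp : IsPGroup p ↥(sncOf p (P : Subgroup G)) := hPp.to_le (sncOf_le _)
    have hle : Subgroup.normalizer (((sncOf p (P : Subgroup G)).map
        (QuotientGroup.mk' M) : Subgroup (G ⧸ M)) : Set (G ⧸ M)) ≤
        (Subgroup.normalizer (sncOf p (P : Subgroup G) : Set G)).map (QuotientGroup.mk' M) := by
      intro gbar hg
      obtain ⟨g, rfl⟩ := hs gbar
      obtain ⟨n', hn', hng⟩ := exists_mem_normalizer_lift M _ hWp hM hg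
      exact ⟨n', hn', hng⟩
    exact pnil_mono hle (pnil_map (QuotientGroup.mk' M) hN)

end sncnpc

end Cfsg.Agent.H1
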