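import Mathlib
import Cfsg.Agent.H2.Gaschutz
import Cfsg.Agent.H1.MinNonPClosed
import Cfsg.Agent.H1.PResidual

set_option autoImplicit false

namespace Cfsg.Agent.H1

open scoped Pointwise

/-- Splitting lemma: `Q ≤ M` normal in `L`, `Q` an abelian Sylow `p`-subgroup of `M` meeting the
centre of `M` trivially, and `L/M` a `p`-group: then `M` has a complement in `L`. -/
theorem exists_complement_of_abelian_sylow_aux {L : Type*} [Group L] [Finite L] {p : ℕ} [Fact p.Prime]
    (Q M : Subgroup L) [hQn : Q.Normal] [hMn : M.Normal]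
    (hQab : ∀ a ∈ Q, ∀ b ∈ Q, a * b = b * a) (hQp : IsPGroup p Q)
    (hcop : Nat.Coprime (Q.relIndex M) p)
    (hZ : Q ⊓ Subgroup.centralizer (M : Set L) = ⊥)
    (hLM : ∃ k, M.index = p ^ k) :
    ∃ K : Subgroup L, K ⊓ M = ⊥ ∧ K ⊔ M = ⊤ := by
  classical
  have hp : p.Prime := Fact.out
  -- Schur–Zassenhaus in M
  haveI hQmn : (Q.subgroupOf M).Normal := inferInstance
  haveI hQmc : IsMulCommutative (Q.subgroupOf M) := ⟨⟨fun a b => by
    apply Subtype.ext
    apply Subtype.ext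
    exact hQab _ a.2 _ b.2⟩⟩
  have hQmp : IsPGroup p (Q.subgroupOf M) := hQp.comap_subtype
  obtain ⟨n, hn⟩ := IsPGroup.iff_card.1 hQmp
  have hcop1 : Nat.Coprime (Nat.card (Q.subgroupOf M)) (Q.subgroupOf M).index := by
    rw [hn]
    exact Nat.Coprime.pow_left n hcop.symm
  obtain ⟨H', hH'⟩ := Subgroup.exists_right_complement'_of_coprime hcop1
  obtain ⟨H, hHdef⟩ : ∃ H : Subgroup L, H = H'.map M.subtype := ⟨_, rfl⟩
  have hHM : H ≤ M := hHdef ▸ Subgroup.map_subtype_le H'
  have hmemH : ∀ x : M, (x : L) ∈ H ↔ x ∈ H' := by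
    intro x
    rw [hHdef]
    constructor
    · intro hx
      obtain ⟨y, hy, hyx⟩ := Subgroup.mem_map.1 hx
      have : y = x := Subtype.ext hyx
      exact this ▸ hy
    · intro hx
      exact Subgroup.mem_map.2 ⟨x, hx, rfl⟩
  have hHQ : ∀ x, x ∈ H → x ∈ Q → x = 1 := by
    intro x hxH hxQ
    have hxM : x ∈ M := hHM hxH
    have h1 : (⟨x, hxM⟩ : M) ∈ Q.subgroupOf M ⊓ H' :=
      Subgroup.mem_inf.2 ⟨Subgroup.mem_subgroupOf.2 hxQ, (hmemH ⟨x, hxM⟩).1 hxH⟩
    rw [hH'.disjoint.eq_bot, Subgroup.mem_bot] at h1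
    exact congrArg Subtype.val h1
  have hMeq : ∀ m ∈ M, ∃ q ∈ Q, ∃ h ∈ H, m = q * h := by
    intro m hm
    obtain ⟨⟨q, h⟩, hqh⟩ := hH'.2 ⟨m, hm⟩
    simp only at hqh
    refine ⟨(q : M), Subgroup.mem_subgroupOf.1 q.2, (h : M), (hmemH h).2 h.2, ?_⟩
    have := congrArg Subtype.val hqh
    simpa using this.symm
  have hcardH' : Nat.card H' = Q.relIndex M := hH'.symm.index_eq_card.symm
  have hcardH : Nat.card H = Q.relIndex M := by
    rw [hHdef, Subgroup.card_map_of_injective M.subtype_injective, hcardH']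
  have hcardM : Nat.card (Q.subgroupOf M) * Nat.card H = Nat.card M := by
    rw [hcardH, ← hcardH']; exact hH'.card_mul_card
  -- conjugates of H are complements too
  have hconj : ∀ l : L, ∃ m ∈ M, m⁻¹ * l ∈ Subgroup.normalizer (H : Set L) := by
    intro l
    obtain ⟨H₁, hH₁def⟩ : ∃ H₁ : Subgroup L, H₁ = H.map (MulAut.conj l).toMonoidHom := ⟨_, rfl⟩
    have hH₁M : H₁ ≤ M := by
      rw [hH₁def]
      intro x hx
      obtain ⟨y, hy, rfl⟩ := Subgroup.mem_map.1 hx
      exact hMn.conj_mem y (hHM hy) l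
    have hcardH₁ : Nat.card H₁ = Nat.card H := by
      rw [hH₁def]
      exact Subgroup.card_map_of_injective (MulAut.conj l).injective
    have hcardH₁' : Nat.card (H₁.subgroupOf M) = Nat.card H₁ :=
      Nat.card_congr (Subgroup.subgroupOfEquivOfLe hH₁M).toEquiv
    have hdisj : Disjoint (Q.subgroupOf M) (H₁.subgroupOf M) := by
      rw [Subgroup.disjoint_def]
      intro x hxQ hxH
      rw [Subgroup.mem_subgroupOf] at hxQ hxH
      rw [hH₁def] at hxH
      obtain ⟨y, hy, hyx⟩ := Subgroup.mem_map.1 hxH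
      have hyQ : y ∈ Q := by
        have h1 := hQn.conj_mem _ hxQ l⁻¹
        rw [← hyx] at h1
        simpa [mul_assoc] using h1
      have hy1 := hHQ y hy hyQ
      rw [hy1, map_one] at hyx
      exact Subtype.ext hyx.symm
    have hcompl : Subgroup.IsComplement' (Q.subgroupOf M) (H₁.subgroupOf M) := by
      apply Subgroup.isComplement'_of_card_mul_and_disjoint _ hdisj
      rw [hcardH₁', hcardH₁]
      exact hcardM
    obtain ⟨m, hm⟩ := Cfsg.Agent.H2.Gasch.conj_complements (Q.subgroupOf M) (Q.subgroupOf M)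
      le_rfl hcop1 H' (H₁.subgroupOf M) hH' hcompl (by
        rw [inf_comm, hH'.disjoint.eq_bot, inf_comm, hdisj.eq_bot])
    refine ⟨(m : L), m.2, ?_⟩
    apply mem_normalizer_of_conj_mem
    intro b hb
    -- l b l⁻¹ ∈ H₁
    have h1 : l * b * l⁻¹ ∈ H₁ := by
      rw [hH₁def]
      exact Subgroup.mem_map.2 ⟨b, hb, rfl⟩
    have h2 : (⟨l * b * l⁻¹, hH₁M h1⟩ : M) ∈ H₁.subgroupOf M := Subgroup.mem_subgroupOf.2 h1
    rw [← hm, Subgroup.mem_pointwise_smul_iff_inv_smul_mem] at h2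
    rw [MulAut.smul_def, ← map_inv, MulAut.conj_apply] at h2
    have h3 := (hmemH _).2 h2
    simp only [Subgroup.coe_mul, Subgroup.coe_inv, inv_inv] at h3
    have e : (m : L)⁻¹ * l * b * ((m : L)⁻¹ * l)⁻¹ = (m : L)⁻¹ * (l * b * l⁻¹) * (m : L) := by group
    rw [e]
    exact h3
  obtain ⟨T, hTdef⟩ : ∃ T : Subgroup L, T = Subgroup.normalizer (H : Set L) := ⟨_, rfl⟩
  have hHT : H ≤ T := hTdef ▸ Subgroup.le_normalizer
  -- T ∩ Q = 1
  have hTQ : ∀ x, x ∈ T → x ∈ Q → x = 1 := by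
    intro x hxT hxQ
    have hxc : x ∈ Subgroup.centralizer (M : Set L) := by
      rw [Subgroup.mem_centralizer_iff]
      intro m hm
      obtain ⟨q, hq, h, hh, rfl⟩ := hMeq m hm
      have h1 : x * h * x⁻¹ * h⁻¹ = 1 := by
        apply hHQ
        · rw [hTdef, Subgroup.mem_normalizer_iff] at hxT
          exact mul_mem ((hxT h).1 hh) (inv_mem hh)
        · have := hQn.conj_mem _ (inv_mem hxQ) h
          have e : x * h * x⁻¹ * h⁻¹ = x * (h * x⁻¹ * h⁻¹) := by group
          rw [e]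
          exact mul_mem hxQ this
      have h2 : x * h = h * x := by
        have : x * h = (x * h * x⁻¹ * h⁻¹) * (h * x) := by group
        rw [this, h1, one_mul]
      have h3 : q * x = x * q := hQab q hq x hxQ
      calc q * h * x = q * (h * x) := by group
        _ = q * (x * h) := by rw [h2]
        _ = (q * x) * h := by group
        _ = (x * q) * h := by rw [h3]
        _ = x * (q * h) := by group
    have : x ∈ Q ⊓ Subgroup.centralizer (M : Set L) := Subgroup.mem_inf.2 ⟨hxQ, hxc⟩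
    rw [hZ, Subgroup.mem_bot] at this
    exact this
  -- T ⊔ M = ⊤
  have hTM : T ⊔ M = ⊤ := by
    rw [eq_top_iff]
    intro l _
    obtain ⟨m, hm, hml⟩ := hconj l
    have : l = m * (m⁻¹ * l) := by group
    rw [this]
    exact mul_mem (Subgroup.mem_sup_right hm) (Subgroup.mem_sup_left (hTdef ▸ hml))
  -- T ∩ M = H
  have hTMH : T ⊓ M = H := by
    apply le_antisymm
    · intro x hx
      obtain ⟨hxT, hxM⟩ := Subgroup.mem_inf.1 hx
      obtain ⟨q, hq, h, hh, rfl⟩ := hMeq x hxM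
      have hqT : q ∈ T := by
        have : q = (q * h) * h⁻¹ := by group
        rw [this]
        exact mul_mem hxT (inv_mem (hHT hh))
      rw [hTQ q hqT hq, one_mul]
      exact hh
    · exact le_inf hHT hHM
  -- Schur–Zassenhaus in T
  obtain ⟨k, hk⟩ := hLM
  have hrel : H.relIndex T = p ^ k := by
    rw [← hTMH, Subgroup.inf_relIndex_left, ← Subgroup.relIndex_sup_right, hTM,
      Subgroup.relIndex_top_right, hk]
  haveI hHTn : (H.subgroupOf T).Normal := by
    rw [hTdef]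
    exact Subgroup.normal_in_normalizer
  have hcop2 : Nat.Coprime (Nat.card (H.subgroupOf T)) (H.subgroupOf T).index := by
    have h1 : Nat.card (H.subgroupOf T) = Nat.card H :=
      Nat.card_congr (Subgroup.subgroupOfEquivOfLe hHT).toEquiv
    rw [h1, hcardH]
    show Nat.Coprime _ (H.relIndex T)
    rw [hrel]
    exact Nat.Coprime.pow_right k hcop
  obtain ⟨K', hK'⟩ := Subgroup.exists_right_complement'_of_coprime hcop2
  refine ⟨K'.map T.subtype, ?_, ?_⟩
  · rw [eq_bot_iff]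
    intro x hx
    obtain ⟨hxK, hxM⟩ := Subgroup.mem_inf.1 hx
    obtain ⟨y, hy, rfl⟩ := Subgroup.mem_map.1 hxK
    have hyH : (y : L) ∈ H := by
      rw [← hTMH]
      exact Subgroup.mem_inf.2 ⟨y.2, hxM⟩
    have h1 : y ∈ H.subgroupOf T ⊓ K' := Subgroup.mem_inf.2 ⟨Subgroup.mem_subgroupOf.2 hyH, hy⟩
    rw [hK'.disjoint.eq_bot, Subgroup.mem_bot] at h1
    rw [Subgroup.mem_bot, h1]
    rfl
  · rw [eq_top_iff, ← hTM]
    apply sup_le _ le_sup_right
    intro t ht
    obtain ⟨⟨h, k'⟩, hhk⟩ := hK'.2 ⟨t, ht⟩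
    simp only at hhk
    have e : t = (h : T) * (k' : T) := by
      have := congrArg Subtype.val hhk
      simpa using this.symm
    rw [e]
    have hh : ((h : T) : L) ∈ M := hHM (Subgroup.mem_subgroupOf.1 h.2)
    have hk'' : ((k' : T) : L) ∈ K'.map T.subtype := Subgroup.mem_map.2 ⟨k', k'.2, rfl⟩
    -- h * k' ∈ K ⊔ M
    exact mul_mem (Subgroup.mem_sup_right hh) (Subgroup.mem_sup_left hk'')

/-- a group with `O^p(N) = N` has no nontrivial homomorphism to a `p`-group -/
lemma hom_eq_one_of_pResidual_eq_top {N A : Type*} [Group N] [Group A] {p : ℕ}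
    (hres : Cfsg.pResidual p N = ⊤) (hA : IsPGroup p A) (φ : N →* A) (g : N) : φ g = 1 := by
  have hle : Cfsg.pResidual p N ≤ φ.ker := by
    unfold Cfsg.pResidual
    rw [Subgroup.closure_le]
    intro x hx
    have hx' : Nat.Coprime (orderOf x) p := hx
    obtain ⟨k, hk⟩ := hA (φ x)
    have h1 : orderOf (φ x) ∣ Nat.gcd (orderOf x) (p ^ k) :=
      Nat.dvd_gcd (orderOf_map_dvd φ x) (orderOf_dvd_of_pow_eq_one hk)
    rw [Nat.Coprime.pow_right k hx', Nat.dvd_one, orderOf_eq_one_iff] at h1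
    exact h1
  have : g ∈ φ.ker := hle (hres ▸ Subgroup.mem_top g)
  exact this

/-- `O^p(O^p(G)) = O^p(G)` -/
lemma pResidual_pResidual {G : Type*} [Group G] (p : ℕ) :
    Cfsg.pResidual p (Cfsg.pResidual p G) = ⊤ := by
  rw [eq_top_iff]
  rintro ⟨x, hx⟩ _
  have key : ∀ (y : G) (hy : y ∈ Cfsg.pResidual p G),
      (⟨y, hy⟩ : Cfsg.pResidual p G) ∈ Cfsg.pResidual p (Cfsg.pResidual p G) := by
    intro y hy
    unfold Cfsg.pResidual at hy
    induction hy using Subgroup.closure_induction with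
    | mem y hy =>
      apply Subgroup.subset_closure
      show Nat.Coprime (orderOf _) p
      rw [← Subgroup.orderOf_coe]
      exact hy
    | one => exact one_mem _
    | mul a b ha hb iha ihb =>
      have := mul_mem iha ihb
      exact this
    | inv a ha iha =>
      have := inv_mem iha
      exact this
  exact key x hx

open scoped IsMulCommutative in
/-- if `O^p(N) = N` and the Sylow `p`-subgroup `Q` of `N` is abelian then `Q ∩ Z(N_N(Q)) = 1` -/
theorem sylow_inf_center_normalizer_eq_one {N : Type*} [Group N] [Finite N] {p : ℕ} [Fact p.Prime]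
    (hres : Cfsg.pResidual p N = ⊤) (Q : Sylow p N) [hQ : IsMulCommutative Q] (z : N)
    (hz : z ∈ Q)
    (hzc : ∀ n ∈ Subgroup.normalizer ((Q : Subgroup N) : Set N), n * z = z * n) : z = 1 := by
  have hp : p.Prime := Fact.out
  have key : ∀ (k : ℕ) (g₀ : N), g₀⁻¹ * z ^ k * g₀ ∈ (Q : Subgroup N) →
      g₀⁻¹ * z ^ k * g₀ = z ^ k := by
    intro k g hg
    obtain ⟨n, hn, hnz⟩ := Sylow.conj_eq_normalizer_conj_of_mem Q (z ^ k) g (pow_mem hz k) hg
    rw [hnz]
    have h1 : Commute n z := hzc n hn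
    have h2 : n * z ^ k = z ^ k * n := h1.pow_right k
    rw [mul_assoc, ← h2, inv_mul_cancel_left]
  have h1 := MonoidHom.transfer_eq_pow (MonoidHom.id (Q : Subgroup N)) z key
  have h2 : MonoidHom.transfer (MonoidHom.id (Q : Subgroup N)) z = 1 :=
    hom_eq_one_of_pResidual_eq_top hres Q.isPGroup' _ z
  rw [h2] at h1
  have h3 : z ^ (Q : Subgroup N).index = 1 := by
    have := congrArg Subtype.val h1
    simpa using this.symm
  obtain ⟨k, hk⟩ := (IsPGroup.iff_orderOf.1 Q.isPGroup') ⟨z, hz⟩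
  rw [Subgroup.orderOf_mk] at hk
  have h4 : orderOf z ∣ Nat.gcd (p ^ k) (Q : Subgroup N).index :=
    Nat.dvd_gcd (hk ▸ dvd_rfl) (orderOf_dvd_of_pow_eq_one h3)
  have h5 : Nat.Coprime (p ^ k) (Q : Subgroup N).index :=
    Nat.Coprime.pow_left k ((Nat.Prime.coprime_iff_not_dvd hp).2 Q.not_dvd_index)
  rw [h5, Nat.dvd_one, orderOf_eq_one_iff] at h4
  exact h4

/-- If the Sylow `p`-subgroups of `O^p(G)` are abelian then `G` splits over `O^p(G)`. -/
theorem exists_complement_pResidual_of_abelian_sylow {G : Type*} [Group G] [Finite G] {p : ℕ}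
    [Fact p.Prime] (h : ∀ Q : Sylow p (Cfsg.pResidual p G), IsMulCommutative Q) :
    ∃ K : Subgroup G, K.IsComplement' (Cfsg.pResidual p G) := by
  have hp : p.Prime := Fact.out
  obtain ⟨N, hNdef⟩ : ∃ N : Subgroup G, N = Cfsg.pResidual p G := ⟨_, rfl⟩
  haveI hNn : N.Normal := hNdef ▸ inferInstance
  have hresN : Cfsg.pResidual p N = ⊤ := by subst hNdef; exact pResidual_pResidual p
  have hab : ∀ Q : Sylow p N, IsMulCommutative Q := by subst hNdef; exact h
  rw [← hNdef]
  obtain ⟨Q₀⟩ : Nonempty (Sylow p N) := inferInstance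
  haveI := hab Q₀
  obtain ⟨Q, hQdef⟩ : ∃ Q : Subgroup G, Q = (Q₀ : Subgroup N).map N.subtype := ⟨_, rfl⟩
  have hQN : Q ≤ N := hQdef ▸ Subgroup.map_subtype_le _
  have hmemQ : ∀ x : N, (x : G) ∈ Q ↔ x ∈ Q₀ := by
    intro x
    rw [hQdef]
    constructor
    · intro hx
      obtain ⟨y, hy, hyx⟩ := Subgroup.mem_map.1 hx
      have : y = x := Subtype.ext hyx
      exact this ▸ hy
    · intro hx
      exact Subgroup.mem_map.2 ⟨x, hx, rfl⟩
  obtain ⟨L, hLdef⟩ : ∃ L : Subgroup G, L = Subgroup.normalizer (Q : Set G) := ⟨_, rfl⟩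
  have hLN : L ⊔ N = ⊤ := by
    rw [hLdef, hQdef]
    exact Sylow.normalizer_sup_eq_top Q₀
  haveI hQ'n : (Q.subgroupOf L).Normal := by
    rw [hLdef]; exact Subgroup.normal_in_normalizer
  haveI hM'n : (N.subgroupOf L).Normal := inferInstance
  have hQab : ∀ a ∈ Q.subgroupOf L, ∀ b ∈ Q.subgroupOf L, a * b = b * a := by
    intro a ha b hb
    rw [Subgroup.mem_subgroupOf] at ha hb
    have haN := hQN ha
    have hbN := hQN hb
    have h1 := (hab Q₀).is_comm.comm (⟨⟨(a : G), haN⟩, (hmemQ ⟨_, haN⟩).1 ha⟩ : Q₀)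
      ⟨⟨(b : G), hbN⟩, (hmemQ ⟨_, hbN⟩).1 hb⟩
    have h2 := congrArg (fun t : Q₀ => ((t : N) : G)) h1
    apply Subtype.ext
    simpa using h2
  have hQp : IsPGroup p Q := by
    rw [hQdef]; exact Q₀.isPGroup'.map _
  have hQ'p : IsPGroup p (Q.subgroupOf L) := hQp.comap_subtype
  have hcop : Nat.Coprime ((Q.subgroupOf L).relIndex (N.subgroupOf L)) p := by
    have h1 : (Q.subgroupOf L).relIndex (N.subgroupOf L) = Q.relIndex (N ⊓ L) := by
      rw [← Subgroup.inf_subgroupOf_right N L, Subgroup.relIndex_subgroupOf inf_le_right]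
    have h2 : Q.relIndex (N ⊓ L) * (N ⊓ L).relIndex N = Q.relIndex N :=
      Subgroup.relIndex_mul_relIndex _ _ _ (le_inf hQN (hLdef ▸ Subgroup.le_normalizer)) inf_le_left
    have h3 : Q.relIndex N = (Q₀ : Subgroup N).index := by
      show (Q.subgroupOf N).index = _
      congr 1
      ext x
      rw [Subgroup.mem_subgroupOf]
      exact hmemQ x
    rw [h1]
    apply Nat.Coprime.coprime_dvd_left (Dvd.intro _ h2)
    rw [h3, Nat.coprime_comm]
    exact (Nat.Prime.coprime_iff_not_dvd hp).2 Q₀.not_dvd_index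
  have hZ : Q.subgroupOf L ⊓ Subgroup.centralizer ((N.subgroupOf L : Subgroup L) : Set L) = ⊥ := by
    rw [eq_bot_iff]
    intro x hx
    obtain ⟨hxQ, hxc⟩ := Subgroup.mem_inf.1 hx
    rw [Subgroup.mem_subgroupOf] at hxQ
    rw [Subgroup.mem_centralizer_iff] at hxc
    have hxN := hQN hxQ
    have hz1 : (⟨(x : G), hxN⟩ : N) = 1 := by
      apply sylow_inf_center_normalizer_eq_one hresN Q₀ _ ((hmemQ ⟨_, hxN⟩).1 hxQ)
      intro n hn
      have hnL : (n : G) ∈ L := by
        rw [hLdef]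
        apply mem_normalizer_of_conj_mem
        intro b hb
        have hbN := hQN hb
        have hb0 : (⟨b, hbN⟩ : N) ∈ (Q₀ : Subgroup N) := (hmemQ ⟨_, hbN⟩).1 hb
        rw [Subgroup.mem_normalizer_iff] at hn
        have h5 := (hmemQ _).2 ((hn ⟨b, hbN⟩).1 hb0)
        simpa using h5
      have h1 := hxc ⟨(n : G), hnL⟩ (Subgroup.mem_subgroupOf.2 n.2)
      have h2 := congrArg Subtype.val h1
      apply Subtype.ext
      simpa using h2
    rw [Subgroup.mem_bot]
    exact Subtype.ext (show (x : G) = 1 from congrArg Subtype.val hz1)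
  have hLM : ∃ k, (N.subgroupOf L).index = p ^ k := by
    have h1 : (N.subgroupOf L).index = N.index := by
      show N.relIndex L = _
      rw [← Subgroup.relIndex_sup_right, hLN, Subgroup.relIndex_top_right]
    have h2 : IsPGroup p (G ⧸ N) := by subst hNdef; exact isPGroup_quotient_pResidual p
    obtain ⟨k, hk⟩ := IsPGroup.iff_card.1 h2
    exact ⟨k, by rw [h1, Subgroup.index_eq_card, hk]⟩
  obtain ⟨K', hK1, hK2⟩ := exists_complement_of_abelian_sylow_aux (Q.subgroupOf L) (N.subgroupOf L)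
    hQab hQ'p hcop hZ hLM
  refine ⟨K'.map L.subtype, ?_⟩
  apply Subgroup.isComplement'_of_disjoint_and_mul_eq_univ
  · rw [Subgroup.disjoint_def]
    intro x hxK hxN
    obtain ⟨y, hy, rfl⟩ := Subgroup.mem_map.1 hxK
    have h1 : y ∈ K' ⊓ N.subgroupOf L := Subgroup.mem_inf.2 ⟨hy, Subgroup.mem_subgroupOf.2 hxN⟩
    rw [hK1, Subgroup.mem_bot] at h1
    rw [h1]; rfl
  · rw [← Subgroup.mul_normal, Set.eq_univ_iff_forall]
    intro g
    have hg : g ∈ L ⊔ N := hLN ▸ Subgroup.mem_top g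
    have hle : L ⊔ N ≤ K'.map L.subtype ⊔ N := by
      apply sup_le _ le_sup_right
      intro l hl
      have h1 : (⟨l, hl⟩ : L) ∈ K' ⊔ N.subgroupOf L := hK2 ▸ Subgroup.mem_top _
      have h2 : l ∈ (K' ⊔ N.subgroupOf L).map L.subtype := Subgroup.mem_map.2 ⟨_, h1, rfl⟩
      rw [Subgroup.map_sup] at h2
      have hle2 : K'.map L.subtype ⊔ (N.subgroupOf L).map L.subtype ≤ K'.map L.subtype ⊔ N := by
        apply sup_le_sup_left
        rw [Subgroup.subgroupOf_map_subtype]
        exact inf_le_left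
      exact hle2 h2
    exact hle hg

end Cfsg.Agent.H1
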