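import Mathlib
import Cfsg.Agent.H1.Basic
import Cfsg.Agent.H1.MinNonPClosed
import Cfsg.Agent.Lib.Lead.Subnormal
import Cfsg.Agent.Lib.Helper7.SubnormalPRes
import Cfsg.Prelude.Def_PLocal

set_option autoImplicit false

namespace Cfsg.Agent.H1

open Cfsg
open scoped commutatorElement

section stabchain
variable {G : Type*} [Group G]

/-- the elements of `E` moving `V` only inside `W` -/
def quotStab (E V W : Subgroup G) (hEV : E ≤ Subgroup.normalizer (V : Set G))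
    (hEW : E ≤ Subgroup.normalizer (W : Set G)) : Subgroup G where
  carrier := {g | g ∈ E ∧ ∀ v ∈ V, g * v * g⁻¹ * v⁻¹ ∈ W}
  one_mem' := ⟨one_mem _, fun v _ => by simp⟩
  mul_mem' := by
    rintro g h ⟨hg, hgv⟩ ⟨hh, hhv⟩
    refine ⟨mul_mem hg hh, fun v hv => ?_⟩
    have e : g * h * v * (g * h)⁻¹ * v⁻¹ = (g * (h * v * h⁻¹ * v⁻¹) * g⁻¹) * (g * v * g⁻¹ * v⁻¹) := by group
    rw [e]
    exact mul_mem ((Subgroup.mem_normalizer_iff.1 (hEW hg) _).1 (hhv v hv)) (hgv v hv)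
  inv_mem' := by
    rintro g ⟨hg, hgv⟩
    refine ⟨inv_mem hg, fun v hv => ?_⟩
    have hu : g⁻¹ * v * g⁻¹⁻¹ ∈ V := (Subgroup.mem_normalizer_iff.1 (hEV (inv_mem hg)) v).1 hv
    have h1 := hgv _ hu
    have e : g⁻¹ * v * g⁻¹⁻¹ * v⁻¹ = (g * (g⁻¹ * v * g⁻¹⁻¹) * g⁻¹ * (g⁻¹ * v * g⁻¹⁻¹)⁻¹)⁻¹ := by group
    rw [e]
    exact inv_mem h1

lemma mem_quotStab {E V W : Subgroup G} {hEV : E ≤ Subgroup.normalizer (V : Set G)}
    {hEW : E ≤ Subgroup.normalizer (W : Set G)} {g : G} :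
    g ∈ quotStab E V W hEV hEW ↔ g ∈ E ∧ ∀ v ∈ V, g * v * g⁻¹ * v⁻¹ ∈ W := Iff.rfl

lemma conj_mem_quotStab {E V W : Subgroup G} {hEV : E ≤ Subgroup.normalizer (V : Set G)}
    {hEW : E ≤ Subgroup.normalizer (W : Set G)} {g e : G} (he : e ∈ E)
    (hg : g ∈ quotStab E V W hEV hEW) : e * g * e⁻¹ ∈ quotStab E V W hEV hEW := by
  obtain ⟨hgE, hgv⟩ := hg
  refine ⟨mul_mem (mul_mem he hgE) (inv_mem he), fun v hv => ?_⟩
  have hu : e⁻¹ * v * e⁻¹⁻¹ ∈ V := (Subgroup.mem_normalizer_iff.1 (hEV (inv_mem he)) v).1 hv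
  have h1 := hgv _ hu
  have e1 : e * g * e⁻¹ * v * (e * g * e⁻¹)⁻¹ * v⁻¹ =
      e * (g * (e⁻¹ * v * e⁻¹⁻¹) * g⁻¹ * (e⁻¹ * v * e⁻¹⁻¹)⁻¹) * e⁻¹ := by group
  rw [e1]
  exact (Subgroup.mem_normalizer_iff.1 (hEW he) _).1 h1

lemma conj_mem_inf_centralizer {E W : Subgroup G} (hEW : E ≤ Subgroup.normalizer (W : Set G)) {g e : G}
    (he : e ∈ E) (hg : g ∈ E ⊓ Subgroup.centralizer (W : Set G)) :
    e * g * e⁻¹ ∈ E ⊓ Subgroup.centralizer (W : Set G) := by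
  rw [Subgroup.mem_inf] at hg ⊢
  refine ⟨mul_mem (mul_mem he hg.1) (inv_mem he), ?_⟩
  rw [Subgroup.mem_centralizer_iff]
  intro w hw
  have hu : e⁻¹ * w * e⁻¹⁻¹ ∈ W := (Subgroup.mem_normalizer_iff.1 (hEW (inv_mem he)) w).1 hw
  have h1 := Subgroup.mem_centralizer_iff.1 hg.2 _ hu
  calc w * (e * g * e⁻¹) = e * ((e⁻¹ * w * e⁻¹⁻¹) * g) * e⁻¹ := by group
    _ = e * (g * (e⁻¹ * w * e⁻¹⁻¹)) * e⁻¹ := by rw [h1]
    _ = e * g * e⁻¹ * w := by group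

/-- `E₁ ≤ N(⁅V, E₁⁆)` when `E₁ ≤ N(V)` -/
lemma le_normalizer_commutator [Finite G] (V E₁ : Subgroup G) (h : E₁ ≤ Subgroup.normalizer (V : Set G)) :
    E₁ ≤ Subgroup.normalizer ((⁅V, E₁⁆ : Subgroup G) : Set G) := by
  intro x hx
  apply mem_normalizer_of_conj_mem
  have hle : ⁅V, E₁⁆ ≤ (⁅V, E₁⁆).comap (MulAut.conj x).toMonoidHom := by
    rw [Subgroup.commutator_le]
    intro v hv e he
    rw [Subgroup.mem_comap, map_commutatorElement]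
    apply Subgroup.commutator_mem_commutator
    · exact (Subgroup.mem_normalizer_iff.1 (h hx) v).1 hv
    · exact mul_mem (mul_mem hx he) (inv_mem hx)
  intro b hb
  exact hle hb

/-- the stability group of the chain `1 ≤ W ≤ V` is a `p`-group when the action is faithful -/
lemma stab_pow_eq_one {p : ℕ} (V W H : Subgroup G) (hWV : W ≤ V) (hVp : ∀ v ∈ V, v ^ p = 1)
    (hf : H ⊓ Subgroup.centralizer (V : Set G) = ⊥) {g : G} (hgH : g ∈ H)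
    (hgW : g ∈ Subgroup.centralizer (W : Set G)) (hgV : ∀ v ∈ V, g * v * g⁻¹ * v⁻¹ ∈ W) :
    g ^ p = 1 := by
  have key : ∀ v ∈ V, ∀ k : ℕ, g ^ k * v * (g ^ k)⁻¹ = (g * v * g⁻¹ * v⁻¹) ^ k * v := by
    intro v hv k
    induction k with
    | zero => simp
    | succ k ih =>
      have hw := hgV v hv
      have hwk : (g * v * g⁻¹ * v⁻¹) ^ k ∈ W := pow_mem hw k
      have hc := Subgroup.mem_centralizer_iff.1 hgW _ hwk
      calc g ^ (k + 1) * v * (g ^ (k + 1))⁻¹ = g * (g ^ k * v * (g ^ k)⁻¹) * g⁻¹ := by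
            rw [pow_succ']; group
        _ = g * ((g * v * g⁻¹ * v⁻¹) ^ k * v) * g⁻¹ := by rw [ih]
        _ = (g * (g * v * g⁻¹ * v⁻¹) ^ k) * v * g⁻¹ := by group
        _ = ((g * v * g⁻¹ * v⁻¹) ^ k * g) * v * g⁻¹ := by rw [hc]
        _ = (g * v * g⁻¹ * v⁻¹) ^ k * (g * v * g⁻¹ * v⁻¹) * v := by group
        _ = (g * v * g⁻¹ * v⁻¹) ^ (k + 1) * v := by rw [pow_succ]
  have h1 : g ^ p ∈ H ⊓ Subgroup.centralizer (V : Set G) := by
    rw [Subgroup.mem_inf]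
    refine ⟨pow_mem hgH p, ?_⟩
    rw [Subgroup.mem_centralizer_iff]
    intro v hv
    have h2 := key v hv p
    rw [hVp _ (hWV (hgV v hv)), one_mul] at h2
    calc v * g ^ p = (g ^ p * v * (g ^ p)⁻¹) * g ^ p := by rw [h2]
      _ = g ^ p * v := by group
  rw [hf, Subgroup.mem_bot] at h1
  exact h1

end stabchain

end Cfsg.Agent.H1
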