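import Mathlib
import Cfsg.Prelude.Def_SolvableStructure
import Cfsg.Agent.H1.Basic
import Cfsg.Agent.H1.Supersolvable
import Cfsg.Agent.H1.Misc

/-! Supersolvable groups: derived subgroup and direct products (helper1). -/

set_option autoImplicit false
open scoped Pointwise commutatorElement

namespace Cfsg.Agent.H1

universe u v

/-- if `K ⊴ G` and `K ⊔ ⟨g⟩ ⊴ G` then `[K ⊔ ⟨g⟩, G'] ≤ K` -/
lemma commutator_mem_of_cyclic_step {G : Type*} [Group G] (K : Subgroup G) [hK : K.Normal] (g : G)
    (hKg : (K ⊔ Subgroup.zpowers g).Normal) (x y : G) (hx : x ∈ K ⊔ Subgroup.zpowers g)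
    (hy : y ∈ commutator G) : x * y * x⁻¹ * y⁻¹ ∈ K := by
  -- conjugation acts on `ā` by powers
  have hn : ∀ q : G ⧸ K, ∃ m : ℤ, q * (QuotientGroup.mk' K g) * q⁻¹ = (QuotientGroup.mk' K g) ^ m := by
    intro q
    obtain ⟨a, rfl⟩ := QuotientGroup.mk'_surjective K q
    have h1 : a * g * a⁻¹ ∈ K ⊔ Subgroup.zpowers g :=
      hKg.conj_mem g (Subgroup.mem_sup_right (Subgroup.mem_zpowers g)) a
    obtain ⟨k, hk, z, hz, hkz⟩ := Subgroup.mem_sup_of_normal_left.mp h1
    obtain ⟨m, rfl⟩ := Subgroup.mem_zpowers_iff.mp hz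
    refine ⟨m, ?_⟩
    have hk1 : QuotientGroup.mk' K k = 1 := (QuotientGroup.eq_one_iff k).mpr hk
    rw [← map_inv, ← map_mul, ← map_mul, ← hkz, map_mul, hk1, one_mul, map_zpow]
  -- `mk y` commutes with `ā`
  have hy' : y ∈ (Subgroup.centralizer {QuotientGroup.mk' K g}).comap (QuotientGroup.mk' K) := by
    have hle : commutator G ≤ (Subgroup.centralizer {QuotientGroup.mk' K g}).comap (QuotientGroup.mk' K) := by
      rw [commutator_eq_closure, Subgroup.closure_le]
      rintro _ ⟨a, b, rfl⟩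
      show QuotientGroup.mk' K ⁅a, b⁆ ∈ Subgroup.centralizer {QuotientGroup.mk' K g}
      rw [map_commutatorElement, mem_centralizer_singleton_iff]
      exact comm_commute_of_conj_pow _ hn _ _
    exact hle hy
  rw [Subgroup.mem_comap, mem_centralizer_singleton_iff] at hy'
  -- `mk x` is a power of `ā`
  obtain ⟨k, hk, z, hz, hkz⟩ := Subgroup.mem_sup_of_normal_left.mp hx
  obtain ⟨m, rfl⟩ := Subgroup.mem_zpowers_iff.mp hz
  have hk1 : QuotientGroup.mk' K k = 1 := (QuotientGroup.eq_one_iff k).mpr hk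
  have hxq : QuotientGroup.mk' K x = (QuotientGroup.mk' K g) ^ m := by
    rw [← hkz, map_mul, hk1, one_mul, map_zpow]
  rw [← QuotientGroup.eq_one_iff, ← QuotientGroup.mk'_apply, map_mul, map_mul, map_mul, map_inv, map_inv, hxq]
  have hc : Commute (QuotientGroup.mk' K y) ((QuotientGroup.mk' K g) ^ m) := (Commute.zpow_right hy' m)
  rw [← hc.eq, mul_inv_cancel_right, mul_inv_cancel]

theorem ssreach_prod_bot {G : Type u} {H : Type v} [Group G] [Group H] {K : Subgroup G} (hK : SSReach K) :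
    SSReach (K.prod (⊥ : Subgroup H)) := by
  induction hK with
  | bot => rw [Subgroup.bot_prod_bot]; exact SSReach.bot
  | step K g _ hKn hKgn ih =>
    have e : (K ⊔ Subgroup.zpowers g).prod (⊥ : Subgroup H) = K.prod ⊥ ⊔ Subgroup.zpowers ((g, 1) : G × H) := by
      apply le_antisymm
      · rintro ⟨a, b⟩ hab
        rw [Subgroup.mem_prod] at hab
        obtain ⟨k, hk, z, hz, hkz⟩ := Subgroup.mem_sup_of_normal_left.mp hab.1
        obtain ⟨j, rfl⟩ := Subgroup.mem_zpowers_iff.mp hz
        have hb : b = 1 := Subgroup.mem_bot.mp hab.2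
        have : ((a, b) : G × H) = (k, 1) * ((g, 1) : G × H) ^ j := by
          rw [Prod.pow_mk, one_zpow, Prod.mk_mul_mk, mul_one, hkz, hb]
        rw [this]
        exact mul_mem (Subgroup.mem_sup_left (Subgroup.mem_prod.mpr ⟨hk, Subgroup.mem_bot.mpr rfl⟩))
          (Subgroup.mem_sup_right (Subgroup.zpow_mem_zpowers _ j))
      · apply sup_le (Subgroup.prod_mono_left _ le_sup_left)
        rw [Subgroup.zpowers_le, Subgroup.mem_prod]
        exact ⟨Subgroup.mem_sup_right (Subgroup.mem_zpowers g), Subgroup.mem_bot.mpr rfl⟩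
    rw [e]
    refine SSReach.step _ _ ih inferInstance ?_
    rw [← e]; infer_instance

theorem ssreach_top_prod {G : Type u} {H : Type v} [Group G] [Group H] (hG : SSReach (⊤ : Subgroup G))
    {L : Subgroup H} (hL : SSReach L) : SSReach ((⊤ : Subgroup G).prod L) := by
  induction hL with
  | bot => exact ssreach_prod_bot hG
  | step L h _ hLn hLhn ih =>
    have e : (⊤ : Subgroup G).prod (L ⊔ Subgroup.zpowers h) = (⊤ : Subgroup G).prod L ⊔ Subgroup.zpowers ((1, h) : G × H) := by
      apply le_antisymm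
      · rintro ⟨a, b⟩ hab
        rw [Subgroup.mem_prod] at hab
        obtain ⟨l, hl, z, hz, hlz⟩ := Subgroup.mem_sup_of_normal_left.mp hab.2
        obtain ⟨j, rfl⟩ := Subgroup.mem_zpowers_iff.mp hz
        have : ((a, b) : G × H) = (a, l) * ((1, h) : G × H) ^ j := by
          rw [Prod.pow_mk, one_zpow, Prod.mk_mul_mk, mul_one, hlz]
        rw [this]
        exact mul_mem (Subgroup.mem_sup_left (Subgroup.mem_prod.mpr ⟨Subgroup.mem_top a, hl⟩))
          (Subgroup.mem_sup_right (Subgroup.zpow_mem_zpowers _ j))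
      · apply sup_le (Subgroup.prod_mono_right _ le_sup_left)
        rw [Subgroup.zpowers_le, Subgroup.mem_prod]
        exact ⟨Subgroup.mem_top _, Subgroup.mem_sup_right (Subgroup.mem_zpowers h)⟩
    rw [e]
    refine SSReach.step _ _ ih inferInstance ?_
    rw [← e]; infer_instance

end Cfsg.Agent.H1
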