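import Mathlib
import Cfsg.Prelude.Def_SolvableStructure
import Cfsg.Agent.H1.Basic
import Cfsg.Agent.H1.Supersolvable
import Cfsg.Agent.H1.SupersolvableCLT
import Cfsg.Agent.H1.SylowMore

set_option autoImplicit false

namespace Cfsg.Agent.H1

open scoped Pointwise commutatorElement


/-- a group of order `2 * p ^ (n+1)` has a normal subgroup of order `p` -/
lemma exists_normal_card_prime_of_card_two_mul_pow {G : Type*} [Group G] [Finite G] (p n : ℕ) (hp : p.Prime)
    (hG : Nat.card G = 2 * p ^ (n + 1)) : ∃ N : Subgroup G, N.Normal ∧ Nat.card N = p := by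
  haveI : Fact p.Prime := ⟨hp⟩
  by_cases hp2 : p = 2
  · -- a 2-group: central element of order 2
    subst hp2
    have hG' : Nat.card G = 2 ^ (n + 2) := by rw [hG]; ring
    have hpg : IsPGroup 2 G := IsPGroup.of_card hG'
    have hnt : Nontrivial G := by
      rw [← Finite.one_lt_card_iff_nontrivial, hG']
      exact Nat.one_lt_two_pow (by omega)
    have hZ : Nontrivial (Subgroup.center G) := hpg.center_nontrivial
    have h2 : 2 ∣ Nat.card (Subgroup.center G) := by
      obtain ⟨k, hk⟩ := (hpg.to_subgroup (Subgroup.center G)).exists_card_eq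
      have hk0 : k ≠ 0 := by
        rintro rfl
        rw [pow_zero] at hk
        exact (Finite.one_lt_card_iff_nontrivial.mpr hZ).ne' hk
      rw [hk]; exact dvd_pow_self 2 hk0
    obtain ⟨z, hz⟩ := exists_prime_orderOf_dvd_card' 2 h2
    refine ⟨Subgroup.zpowers (z : G), ?_, by rw [Nat.card_zpowers, Subgroup.orderOf_coe, hz]⟩
    constructor
    intro y hy x
    obtain ⟨j, rfl⟩ := Subgroup.mem_zpowers_iff.mp hy
    have hc : x * (z : G) ^ j * x⁻¹ = (z : G) ^ j := by
      have hzc : (z : G) ^ j ∈ Subgroup.center G := zpow_mem z.2 j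
      rw [Subgroup.mem_center_iff] at hzc
      rw [hzc x, mul_inv_cancel_right]
    rw [hc]; exact Subgroup.zpow_mem_zpowers _ j
  · -- p odd: the Sylow p-subgroup has index 2
    obtain ⟨K, hK⟩ := Sylow.exists_subgroup_card_pow_prime p (n := n + 1) (by rw [hG]; exact Dvd.intro_left _ rfl)
    have hKidx : K.index = 2 := by
      have := K.card_mul_index
      rw [hK, hG, mul_comm 2] at this
      exact Nat.eq_of_mul_eq_mul_left (pow_pos hp.pos _) this
    have hKn : K.Normal := Subgroup.normal_of_index_eq_two hKidx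
    have hKp : IsPGroup p K := IsPGroup.of_card hK
    have hKnt : Nontrivial K := by
      rw [← Finite.one_lt_card_iff_nontrivial, hK]
      exact Nat.one_lt_pow (by omega) hp.one_lt
    have hZnt : Nontrivial (Subgroup.center K) := hKp.center_nontrivial
    have hpZ : p ∣ Nat.card (Subgroup.center K) := by
      obtain ⟨k, hk⟩ := (hKp.to_subgroup (Subgroup.center K)).exists_card_eq
      have hk0 : k ≠ 0 := by
        rintro rfl
        rw [pow_zero] at hk
        exact (Finite.one_lt_card_iff_nontrivial.mpr hZnt).ne' hk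
      rw [hk]; exact dvd_pow_self p hk0
    obtain ⟨v, hv⟩ := exists_prime_orderOf_dvd_card' p hpZ
    obtain ⟨Zc, hZc⟩ : ∃ Zc : Subgroup G, Zc = (Subgroup.center K).map K.subtype := ⟨_, rfl⟩
    have hZcn : Zc.Normal := by rw [hZc]; infer_instance
    have hZcK : Zc ≤ K := by rw [hZc]; exact Subgroup.map_subtype_le _
    have hZcomm : ∀ z ∈ Zc, ∀ k ∈ K, z * k = k * z := by
      intro z hz k hk
      rw [hZc] at hz
      obtain ⟨z', hz', rfl⟩ := hz
      have := (Subgroup.mem_center_iff.mp hz') ⟨k, hk⟩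
      have h2 := congrArg Subtype.val this
      simpa using h2.symm
    obtain ⟨v', hv'def⟩ : ∃ v' : G, v' = ((v : K) : G) := ⟨_, rfl⟩
    have hv'Z : v' ∈ Zc := by rw [hZc, hv'def]; exact ⟨v, v.2, rfl⟩
    have hv'ord : orderOf v' = p := by rw [hv'def, Subgroup.orderOf_coe, Subgroup.orderOf_coe]; exact hv
    have h2dvd : 2 ∣ Nat.card G := by rw [hG]; exact Dvd.intro _ rfl
    obtain ⟨t, ht⟩ := exists_prime_orderOf_dvd_card' 2 h2dvd
    have htK : t ∉ K := by
      intro h
      have h1 : orderOf t ∣ Nat.card K := by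
        have := orderOf_dvd_natCard (⟨t, h⟩ : K)
        rwa [Subgroup.orderOf_mk] at this
      rw [ht, hK] at h1
      have := (Nat.Prime.dvd_of_dvd_pow Nat.prime_two h1)
      exact hp2 ((Nat.prime_dvd_prime_iff_eq Nat.prime_two hp).mp this).symm
    have htop : K ⊔ Subgroup.zpowers t = ⊤ := by
      have h1 : (K ⊔ Subgroup.zpowers t).index ∣ 2 := hKidx ▸ Subgroup.index_dvd_of_le le_sup_left
      rcases (Nat.dvd_prime Nat.prime_two).mp h1 with h2 | h2
      · exact Subgroup.index_eq_one.mp h2
      · exfalso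
        apply htK
        have h3 : K = K ⊔ Subgroup.zpowers t := by
          apply Subgroup.eq_of_le_of_card_ge le_sup_left
          have e1 := K.card_mul_index
          have e2 := (K ⊔ Subgroup.zpowers t).card_mul_index
          rw [hKidx] at e1
          rw [h2] at e2
          have : Nat.card (K ⊔ Subgroup.zpowers t : Subgroup G) * 2 = Nat.card K * 2 := by rw [e1, e2]
          exact (Nat.eq_of_mul_eq_mul_right two_pos this).le
        rw [h3]; exact Subgroup.mem_sup_right (Subgroup.mem_zpowers t)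
    have htt : t * t = 1 := by rw [← pow_two, ← ht]; exact pow_orderOf_eq_one t
    have htinv : t⁻¹ = t := inv_eq_of_mul_eq_one_left htt
    -- key: an element u ∈ Zc of order p with t u t⁻¹ ∈ ⟨u⟩
    have key : ∃ u ∈ Zc, orderOf u = p ∧ t * u * t⁻¹ ∈ Subgroup.zpowers u := by
      have hconjZ : t * v' * t⁻¹ ∈ Zc := hZcn.conj_mem v' hv'Z t
      by_cases hw : v' * (t * v' * t⁻¹) = 1
      · refine ⟨v', hv'Z, hv'ord, ?_⟩
        have : t * v' * t⁻¹ = v'⁻¹ := (eq_inv_of_mul_eq_one_right hw)
        rw [this]; exact inv_mem (Subgroup.mem_zpowers v')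
      · refine ⟨v' * (t * v' * t⁻¹), mul_mem hv'Z hconjZ, ?_, ?_⟩
        · have hcomm : Commute v' (t * v' * t⁻¹) := hZcomm v' hv'Z _ (hZcK hconjZ)
          have hpow : (v' * (t * v' * t⁻¹)) ^ p = 1 := by
            have h1 : v' ^ p = 1 := by rw [← hv'ord]; exact pow_orderOf_eq_one v'
            rw [hcomm.mul_pow, conj_pow, h1, mul_one, mul_inv_cancel, one_mul]
          exact orderOf_eq_prime hpow hw
        · have hcomm : Commute v' (t * v' * t⁻¹) := hZcomm v' hv'Z _ (hZcK hconjZ)
          have : t * (v' * (t * v' * t⁻¹)) * t⁻¹ = v' * (t * v' * t⁻¹) := by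
            calc t * (v' * (t * v' * t⁻¹)) * t⁻¹ = (t * v' * t⁻¹) * ((t * t) * v' * (t * t)⁻¹) := by group
              _ = (t * v' * t⁻¹) * v' := by rw [htt]; group
              _ = _ := hcomm.eq.symm
          rw [this]; exact Subgroup.mem_zpowers _
    obtain ⟨u, huZ, huord, hut⟩ := key
    refine ⟨Subgroup.zpowers u, ?_, by rw [Nat.card_zpowers, huord]⟩
    rw [← Subgroup.normalizer_eq_top_iff, eq_top_iff, ← htop]
    apply sup_le
    · intro k hk
      apply mem_normalizer_of_map_conj_le
      rw [MonoidHom.map_zpowers]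
      show Subgroup.zpowers (k * u * k⁻¹) ≤ _
      have : k * u * k⁻¹ = u := by rw [← hZcomm u huZ k hk, mul_inv_cancel_right]
      rw [this]
    · rw [Subgroup.zpowers_le]
      apply mem_normalizer_of_map_conj_le
      rw [MonoidHom.map_zpowers]
      show Subgroup.zpowers (t * u * t⁻¹) ≤ _
      rw [Subgroup.zpowers_le]; exact hut


theorem ssreach_two_mul_pow_aux.{v} (p : ℕ) (hp : p.Prime) : ∀ n, ∀ (G : Type v) [Group G] [Finite G],
    Nat.card G = 2 * p ^ n → SSReach (⊤ : Subgroup G) := by
  intro n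
  induction n with
  | zero =>
    intro G _ _ hG
    rw [pow_zero, mul_one] at hG
    haveI : Fact (Nat.Prime 2) := ⟨Nat.prime_two⟩
    haveI : IsCyclic G := isCyclic_of_prime_card hG
    haveI : IsCyclic (⊤ : Subgroup G) := (Subgroup.topEquiv (G := G)).isCyclic.mpr inferInstance
    exact ssreach_of_isCyclic_normal (⊤ : Subgroup G)
  | succ n ih =>
    intro G _ _ hG
    obtain ⟨N, hNn, hNc⟩ := exists_normal_card_prime_of_card_two_mul_pow p n hp hG
    haveI := hNn
    haveI : Fact p.Prime := ⟨hp⟩
    haveI : IsCyclic N := isCyclic_of_prime_card hNc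
    have hq : Nat.card (G ⧸ N) = 2 * p ^ n := by
      have h1 := N.card_mul_index
      rw [hNc, hG] at h1
      have : p * N.index = p * (2 * p ^ n) := by rw [h1]; ring
      rw [← Subgroup.index_eq_card]
      exact Nat.eq_of_mul_eq_mul_left hp.pos this
    have h := ih (G ⧸ N) hq
    have := SSReach.comap_mk N (ssreach_of_isCyclic_normal N) h
    rwa [Subgroup.comap_top] at this


end Cfsg.Agent.H1
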