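import Mathlib
import Cfsg.Agent.H1.SylNumE
import Cfsg.Agent.H1.SylFiveA

set_option autoImplicit false

namespace Cfsg.Agent.H1.SylFiveB

open SylNumA SylNumB SylNumC SylNumD SylNumE SylFiveA

instance fact3 : Fact (Nat.Prime 3) := ⟨by norm_num⟩

variable {G : Type*} [Group G] [Finite G]

/-- number of Sylow 5-subgroups fixed by `g` -/
noncomputable def fx (g : G) : ℕ := Nat.card {Q : Sylow 5 G // g • Q = Q}

/-- the standing hypotheses: a faithful action on 21 Sylow 5-subgroups and no proper normal subgroup of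
index prime to 5 -/
structure Hyp (G : Type*) [Group G] [Finite G] : Prop where
  hn : Nat.card (Sylow 5 G) = 21
  hfaith : ∀ g : G, (∀ Q : Sylow 5 G, g • Q = Q) → g = 1
  hA : ∀ (M : Subgroup G) [M.Normal], ¬ 5 ∣ M.index → M = ⊤

/-- congruence for the fixed points of a prime power order element on an invariant family -/
theorem card_modEq_of_invariant (g : G) {q n : ℕ} [Fact q.Prime] (hg : g ^ q ^ n = 1)
    (p : Sylow 5 G → Prop) (hp : ∀ Q, p Q → p (g • Q)) :
    Nat.card {Q : Sylow 5 G // p Q} ≡ Nat.card {Q : Sylow 5 G // p Q ∧ g • Q = Q} [MOD q] := by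
  classical
  haveI : Fintype (Sylow 5 G) := Fintype.ofFinite _
  set σ : Equiv.Perm (Sylow 5 G) := MulAction.toPerm g with hσ
  have hσpow : σ ^ q ^ n = 1 := by
    rw [hσ, ← MulAction.toPermHom_apply, ← map_pow, hg, map_one]
  have h := card_modEq_card_filter_fixed σ hσpow (Finset.univ.filter p) (by
    intro a ha
    rw [Finset.mem_filter] at ha ⊢
    exact ⟨Finset.mem_univ _, hp a ha.2⟩)
  rw [Finset.filter_filter] at h
  rw [Nat.card_eq_fintype_card, Nat.card_eq_fintype_card, Fintype.card_subtype, Fintype.card_subtype]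
  exact h

theorem fx_modEq (g : G) {q n : ℕ} [Fact q.Prime] (hg : g ^ q ^ n = 1) :
    Nat.card (Sylow 5 G) ≡ fx g [MOD q] := by
  have h := card_modEq_of_invariant g hg (fun _ => True) (fun _ _ => trivial)
  have e1 : Nat.card {Q : Sylow 5 G // True} = Nat.card (Sylow 5 G) :=
    Nat.card_congr (Equiv.subtypeUnivEquiv (fun _ => trivial))
  have e2 : Nat.card {Q : Sylow 5 G // True ∧ g • Q = Q} = fx g := by
    unfold fx
    exact Nat.card_congr (Equiv.subtypeEquivRight (fun Q => by simp))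
  rwa [e1, e2] at h

theorem fx_le (g : G) : fx g ≤ Nat.card (Sylow 5 G) :=
  Nat.card_le_card_of_injective (fun Q : {Q : Sylow 5 G // g • Q = Q} => (Q : Sylow 5 G))
    Subtype.val_injective

theorem eq_one_of_fx_eq (h : Hyp G) (g : G) (hg : fx g = 21) : g = 1 := by
  classical
  haveI : Fintype (Sylow 5 G) := Fintype.ofFinite _
  apply h.hfaith
  intro Q
  unfold fx at hg
  rw [Nat.card_eq_fintype_card, Fintype.card_subtype] at hg
  have h1 : (Finset.univ.filter (fun Q : Sylow 5 G => g • Q = Q)) = Finset.univ := by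
    apply Finset.eq_univ_of_card
    rw [hg, ← Nat.card_eq_fintype_card, h.hn]
  have : Q ∈ Finset.univ.filter (fun Q : Sylow 5 G => g • Q = Q) := by
    rw [h1]; exact Finset.mem_univ _
  exact (Finset.mem_filter.mp this).2

/-- every element acts as an even permutation -/
theorem sign_eq_one (h : Hyp G) [Fintype (Sylow 5 G)] [DecidableEq (Sylow 5 G)] (g : G) :
    Equiv.Perm.sign (MulAction.toPerm g : Equiv.Perm (Sylow 5 G)) = 1 := by
  let f : G →* ℤˣ := (Equiv.Perm.sign).comp (MulAction.toPermHom G (Sylow 5 G))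
  have hidx : f.ker.index ∣ 2 := by
    rw [Subgroup.index_ker]
    have := Subgroup.card_subgroup_dvd_card f.range
    rwa [Nat.card_eq_fintype_card (α := ℤˣ), Fintype.card_units_int] at this
  have h5 : ¬ 5 ∣ f.ker.index := by
    intro h5
    have := Nat.le_of_dvd (by norm_num) (h5.trans hidx)
    omega
  have htop := h.hA f.ker h5
  have : g ∈ f.ker := htop ▸ Subgroup.mem_top g
  exact this

/-- involutions have `1` modulo `4` fixed points -/
theorem fx_involution (h : Hyp G) (g : G) (hg : g ^ 2 = 1) : fx g % 4 = 1 := by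
  classical
  haveI : Fintype (Sylow 5 G) := Fintype.ofFinite _
  set σ : Equiv.Perm (Sylow 5 G) := MulAction.toPerm g with hσ
  have hσpow : σ ^ 2 = 1 := by
    rw [hσ, ← MulAction.toPermHom_apply, ← map_pow, hg, map_one]
  have h4 := four_dvd_card_support σ hσpow (sign_eq_one h g)
  have h5 := card_support_add_card_fixed σ
  rw [← Nat.card_eq_fintype_card, h.hn] at h5
  have h6 : (Finset.univ.filter (fun a => σ a = a)).card = fx g := by
    unfold fx
    rw [Nat.card_eq_fintype_card, Fintype.card_subtype]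
    rfl
  rw [h6] at h5
  omega

/-- elements of order dividing four without 2-cycles have `5` modulo `8` fixed points -/
theorem fx_order_four (h : Hyp G) (g : G) (hg : g ^ 4 = 1)
    (h2 : ∀ Q : Sylow 5 G, g • g • Q = Q → g • Q = Q) : fx g % 8 = 5 := by
  classical
  haveI : Fintype (Sylow 5 G) := Fintype.ofFinite _
  set σ : Equiv.Perm (Sylow 5 G) := MulAction.toPerm g with hσ
  have hσpow : σ ^ 4 = 1 := by
    rw [hσ, ← MulAction.toPermHom_apply, ← map_pow, hg, map_one]
  have h4 := eight_dvd_card_support σ hσpow (fun a ha => h2 a ha) (sign_eq_one h g)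
  have h5 := card_support_add_card_fixed σ
  rw [← Nat.card_eq_fintype_card, h.hn] at h5
  have h6 : (Finset.univ.filter (fun a => σ a = a)).card = fx g := by
    unfold fx
    rw [Nat.card_eq_fintype_card, Fintype.card_subtype]
    rfl
  rw [h6] at h5
  omega

omit [Finite G] in
/-- an element of `P` fixing another Sylow subgroup `Q` lies in `Q` -/
theorem mem_of_smul_eq (P Q : Sylow 5 G) (p : G) (hp : p ∈ (P : Subgroup G)) (h : p • Q = Q) :
    p ∈ (Q : Subgroup G) := by
  have h1 : p ∈ (P : Subgroup G) ⊓ Subgroup.normalizer ((Q : Subgroup G) : Set G) :=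
    ⟨hp, Sylow.smul_eq_iff_mem_normalizer.mp h⟩
  have h0 := P.isPGroup'.inf_normalizer_sylow Q
  have h2 : p ∈ (P : Subgroup G) ⊓ (Q : Subgroup G) := h0 ▸ h1
  exact h2.2

omit [Finite G] in
theorem smul_eq_of_mem (Q : Sylow 5 G) (p : G) (hp : p ∈ (Q : Subgroup G)) : p • Q = Q :=
  Sylow.smul_eq_iff_mem_normalizer.mpr (Subgroup.le_normalizer hp)

/-- with 21 Sylow 5-subgroups, two distinct ones meet in a subgroup of index five -/
theorem relIndex_inf_eq_five (hn : Nat.card (Sylow 5 G) = 21) (P Q : Sylow 5 G) (hPQ : Q ≠ P) :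
    ((P : Subgroup G) ⊓ Q).relIndex P = 5 := by
  classical
  haveI : Fintype (Sylow 5 G) := Fintype.ofFinite _
  set K : Subgroup ↥(P : Subgroup G) := MulAction.stabilizer ↥(P : Subgroup G) Q with hK
  have hKeq : K = ((P : Subgroup G) ⊓ Q).subgroupOf P := by
    ext p
    rw [hK, MulAction.mem_stabilizer_iff, Subgroup.mem_subgroupOf, Subgroup.smul_def]
    constructor
    · intro h
      exact ⟨p.2, mem_of_smul_eq P Q p p.2 h⟩
    · intro h
      exact smul_eq_of_mem Q p h.2
  have hidx : K.index = (MulAction.orbit ↥(P : Subgroup G) Q).ncard := MulAction.index_stabilizer _ _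
  have hsub : MulAction.orbit ↥(P : Subgroup G) Q ⊆ {R : Sylow 5 G | R ≠ P} := by
    rintro R ⟨p, rfl⟩ h
    apply hPQ
    have h1 : (p : G) • Q = P := h
    have h2 : Q = (p : G)⁻¹ • P := eq_inv_smul_iff.mpr h1
    rw [h2]
    exact smul_eq_of_mem P _ (Subgroup.inv_mem _ p.2)
  have hle : K.index ≤ 20 := by
    rw [hidx]
    have h1 := Set.ncard_le_ncard hsub (Set.toFinite _)
    have h2 : ({R : Sylow 5 G | R ≠ P} : Set (Sylow 5 G)).ncard = 20 := by
      rw [Set.ncard_eq_toFinset_card']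
      have : ({R : Sylow 5 G | R ≠ P} : Set (Sylow 5 G)).toFinset = Finset.univ.erase P := by
        ext R; simp
      rw [this, Finset.card_erase_of_mem (Finset.mem_univ _), Finset.card_univ,
        ← Nat.card_eq_fintype_card, hn]
    omega
  have hdvd : K.index ∣ Nat.card ↥(P : Subgroup G) := Subgroup.index_dvd_card K
  obtain ⟨k, hk⟩ := IsPGroup.iff_card.mp P.isPGroup'
  rw [hk] at hdvd
  obtain ⟨j, _, hj⟩ := (Nat.dvd_prime_pow (by norm_num : Nat.Prime 5)).mp hdvd
  have hne1 : K.index ≠ 1 := by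
    intro h1
    rw [Subgroup.index_eq_one] at h1
    apply hPQ
    symm
    apply sylow_eq_of_le
    intro p hp
    have : (⟨p, hp⟩ : ↥(P : Subgroup G)) ∈ K := h1 ▸ Subgroup.mem_top _
    rw [hKeq, Subgroup.mem_subgroupOf] at this
    exact this.2
  have hj1 : j = 1 := by
    rcases j with _ | _ | j
    · exact absurd (by simpa using hj) hne1
    · rfl
    · exfalso
      have : 25 ≤ K.index := by
        rw [hj]
        calc 25 = 5 ^ 2 := by norm_num
          _ ≤ 5 ^ (j + 1 + 1) := Nat.pow_le_pow_right (by norm_num) (by omega)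
      omega
  rw [Subgroup.relIndex, ← hKeq, hj, hj1, pow_one]

/-- commutators of elements of `P` lie in every Sylow 5-subgroup -/
theorem commutator_mem (hn : Nat.card (Sylow 5 G) = 21) (P Q : Sylow 5 G) (a b : G)
    (ha : a ∈ (P : Subgroup G)) (hb : b ∈ (P : Subgroup G)) : a * b * a⁻¹ * b⁻¹ ∈ (Q : Subgroup G) := by
  by_cases hPQ : Q = P
  · rw [hPQ]
    exact Subgroup.mul_mem _ (Subgroup.mul_mem _ (Subgroup.mul_mem _ ha hb) (Subgroup.inv_mem _ ha))
      (Subgroup.inv_mem _ hb)
  have h5 := relIndex_inf_eq_five hn P Q hPQ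
  set K : Subgroup ↥(P : Subgroup G) := ((P : Subgroup G) ⊓ Q).subgroupOf P with hK
  have hKidx : K.index = 5 := h5
  obtain ⟨k, hk⟩ := IsPGroup.iff_card.mp P.isPGroup'
  have hk0 : k ≠ 0 := by
    rintro rfl
    have := Subgroup.index_dvd_card K
    rw [hKidx, hk] at this
    norm_num at this
  haveI hKn : K.Normal := by
    apply Subgroup.normal_of_index_eq_minFac_card
    rw [hKidx, hk, Nat.Prime.pow_minFac (by norm_num) hk0]
  have hq : Nat.card (↥(P : Subgroup G) ⧸ K) = 5 := hKidx
  haveI : IsCyclic (↥(P : Subgroup G) ⧸ K) := isCyclic_of_prime_card hq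
  have hcomm : ∀ x y : ↥(P : Subgroup G) ⧸ K, x * y = y * x :=
    fun x y => (IsCyclic.isMulCommutative (α := ↥(P : Subgroup G) ⧸ K)).is_comm.comm x y
  have hmem : (⟨a, ha⟩ * ⟨b, hb⟩ * (⟨a, ha⟩)⁻¹ * (⟨b, hb⟩)⁻¹ : ↥(P : Subgroup G)) ∈ K := by
    rw [← QuotientGroup.eq_one_iff]
    simp only [QuotientGroup.mk_mul, QuotientGroup.mk_inv]
    rw [hcomm (↑(⟨a, ha⟩ : ↥(P : Subgroup G))) (↑(⟨b, hb⟩ : ↥(P : Subgroup G)))]
    group
  rw [hK, Subgroup.mem_subgroupOf] at hmem
  exact hmem.2

/-- **every Sylow 5-subgroup has order 5** -/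
theorem card_sylow_eq_five (hn : Nat.card (Sylow 5 G) = 21)
    (hfaith : ∀ g : G, (∀ Q : Sylow 5 G, g • Q = Q) → g = 1) (P : Sylow 5 G) :
    Nat.card (P : Subgroup G) = 5 := by
  have hab : ∀ P : Sylow 5 G, ∀ a ∈ (P : Subgroup G), ∀ b ∈ (P : Subgroup G), a * b = b * a := by
    intro P a ha b hb
    have h1 : a * b * a⁻¹ * b⁻¹ = 1 := by
      apply hfaith
      intro Q
      exact smul_eq_of_mem Q _ (commutator_mem hn P Q a b ha hb)
    have h2 : a * b = (a * b * a⁻¹ * b⁻¹) * (b * a) := by group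
    rw [h2, h1, one_mul]
  obtain ⟨S, T, hST⟩ := brodkey hab
  have hbot : (S : Subgroup G) ⊓ T = ⊥ := by
    rw [eq_bot_iff]
    intro g hg
    rw [Subgroup.mem_bot]
    apply hfaith
    intro Q
    exact smul_eq_of_mem Q g (hST Q hg)
  have hne : T ≠ S := by
    intro hTS
    rw [hTS, inf_idem] at hbot
    have h1 : Nat.card (S : Subgroup G) = 1 := by rw [hbot]; exact Subgroup.card_bot
    have h2 : Nat.card (Sylow 5 G) = 1 := by
      rw [Nat.card_eq_one_iff_unique]
      refine ⟨⟨fun A B => ?_⟩, ⟨S⟩⟩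
      have hA : A = S := (sylow_eq_of_le (by rw [hbot]; exact bot_le)).symm
      have hB : B = S := (sylow_eq_of_le (by rw [hbot]; exact bot_le)).symm
      rw [hA, hB]
    omega
  have h5 := relIndex_inf_eq_five hn S T hne
  rw [hbot, Subgroup.relIndex_bot_left] at h5
  have hk : Nat.card (P : Subgroup G) = 5 ^ (Nat.card G).factorization 5 := Sylow.card_eq_multiplicity P
  have hk' : Nat.card (S : Subgroup G) = 5 ^ (Nat.card G).factorization 5 := Sylow.card_eq_multiplicity S
  rw [hk, ← hk', h5]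

end Cfsg.Agent.H1.SylFiveB
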