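import Mathlib
import Cfsg.Agent.H1.SylFiveB

set_option autoImplicit false

namespace Cfsg.Agent.H1.SylFiveC

open SylNumA SylNumB SylNumC SylNumD SylNumE SylFiveA SylFiveB

variable {G : Type*} [Group G] [Finite G]

theorem hcard (h : Hyp G) (Q : Sylow 5 G) : Nat.card (Q : Subgroup G) = 5 :=
  card_sylow_eq_five h.hn h.hfaith Q

/-- `P` acts semiregularly on the other Sylow subgroups -/
theorem semireg (h : Hyp G) (P Q : Sylow 5 G) (hPQ : Q ≠ P) (p : G) (hp : p ∈ (P : Subgroup G))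
    (hpQ : p • Q = Q) : p = 1 := by
  have h1 : p ∈ (P : Subgroup G) ⊓ Q := ⟨hp, mem_of_smul_eq P Q p hp hpQ⟩
  rw [inf_eq_bot_of_ne (hcard h) hPQ, Subgroup.mem_bot] at h1
  exact h1

theorem pow_five_eq_one (h : Hyp G) (P : Sylow 5 G) (p : G) (hp : p ∈ (P : Subgroup G)) : p ^ 5 = 1 := by
  have : (⟨p, hp⟩ : (P : Subgroup G)) ^ Nat.card (P : Subgroup G) = 1 := pow_card_eq_one'
  rw [hcard h P] at this
  exact congrArg Subtype.val this

theorem exists_ne_one (h : Hyp G) (P : Sylow 5 G) : ∃ x ∈ (P : Subgroup G), x ≠ 1 := by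
  by_contra hcon
  push Not at hcon
  have : (P : Subgroup G) = ⊥ := by
    rw [eq_bot_iff]
    intro x hx
    exact Subgroup.mem_bot.mpr (hcon x hx)
  have h5 := hcard h P
  rw [this, Subgroup.card_bot] at h5
  omega

omit [Finite G] in
theorem smul_self_of_mem_centralizer (P : Sylow 5 G) (k : G)
    (hk : k ∈ Subgroup.centralizer ((P : Subgroup G) : Set G)) : k • P = P :=
  Sylow.smul_eq_iff_mem_normalizer.mpr (Subgroup.centralizer_le_normalizer _ hk)

/-- the fixed points of an element of the centralizer are `1` modulo `5` -/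
theorem fx_centralizer (h : Hyp G) (P : Sylow 5 G) (k : G)
    (hk : k ∈ Subgroup.centralizer ((P : Subgroup G) : Set G)) : fx k % 5 = 1 := by
  classical
  haveI : Fintype (Sylow 5 G) := Fintype.ofFinite _
  obtain ⟨x, hxP, hx1⟩ := exists_ne_one h P
  have hx5 : x ^ 5 ^ 1 = 1 := by rw [pow_one]; exact pow_five_eq_one h P x hxP
  have hkx : ∀ Q : Sylow 5 G, k • x • Q = x • k • Q := by
    intro Q
    rw [← mul_smul, ← mul_smul, Subgroup.mem_centralizer_iff.mp hk x hxP]
  have hxP' : x • P = P := smul_eq_of_mem P x hxP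
  have hmod := card_modEq_of_invariant x hx5 (fun Q : Sylow 5 G => k • Q = Q ∧ Q ≠ P) (by
    rintro Q ⟨h1, h2⟩
    refine ⟨by rw [hkx, h1], ?_⟩
    intro h3
    apply h2
    have : Q = x⁻¹ • P := eq_inv_smul_iff.mpr h3
    rw [this]
    exact smul_eq_of_mem P _ (Subgroup.inv_mem _ hxP))
  have hempty : Nat.card {Q : Sylow 5 G // (k • Q = Q ∧ Q ≠ P) ∧ x • Q = Q} = 0 := by
    rw [Nat.card_eq_zero]
    left
    constructor
    rintro ⟨Q, ⟨_, h2⟩, h3⟩
    exact hx1 (semireg h P Q h2 x hxP h3)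
  rw [hempty] at hmod
  have hkP := smul_self_of_mem_centralizer P k hk
  have hfx : fx k = Nat.card {Q : Sylow 5 G // k • Q = Q ∧ Q ≠ P} + 1 := by
    unfold fx
    rw [Nat.card_eq_fintype_card, Nat.card_eq_fintype_card, Fintype.card_subtype, Fintype.card_subtype]
    have : Finset.univ.filter (fun Q : Sylow 5 G => k • Q = Q) =
        insert P (Finset.univ.filter (fun Q : Sylow 5 G => k • Q = Q ∧ Q ≠ P)) := by
      ext Q
      simp only [Finset.mem_filter, Finset.mem_univ, true_and, Finset.mem_insert]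
      constructor
      · intro hQ
        by_cases hQP : Q = P
        · left; exact hQP
        · right; exact ⟨hQ, hQP⟩
      · rintro (rfl | hQ)
        · exact hkP
        · exact hQ.1
    rw [this, Finset.card_insert_of_notMem (by simp)]
  have := hmod.symm
  rw [Nat.ModEq] at this
  omega

/-- a nontrivial involution of the centralizer fixes only `P` -/
theorem fx_involution_centralizer (h : Hyp G) (P : Sylow 5 G) (u : G)
    (hu : u ∈ Subgroup.centralizer ((P : Subgroup G) : Set G)) (hu2 : u ^ 2 = 1) (hu1 : u ≠ 1) :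
    fx u = 1 := by
  have h1 := fx_centralizer h P u hu
  have h2 := fx_involution h u hu2
  have h3 := fx_le u
  rw [h.hn] at h3
  have h4 : fx u ≠ 21 := fun h4 => hu1 (eq_one_of_fx_eq h u h4)
  omega

omit [Finite G] in
theorem eq_of_fx_eq_one (P : Sylow 5 G) (g : G) (hg : fx g = 1) (hP : g • P = P) (Q : Sylow 5 G)
    (hQ : g • Q = Q) : Q = P := by
  unfold fx at hg
  rw [Nat.card_eq_one_iff_unique] at hg
  have := hg.1.elim ⟨Q, hQ⟩ ⟨P, hP⟩
  exact congrArg Subtype.val this

omit [Finite G] in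
theorem fx_eq_one_of_forall (P : Sylow 5 G) (g : G) (hP : g • P = P)
    (hQ : ∀ Q : Sylow 5 G, g • Q = Q → Q = P) : fx g = 1 := by
  unfold fx
  rw [Nat.card_eq_one_iff_unique]
  refine ⟨⟨fun a b => ?_⟩, ⟨⟨P, hP⟩⟩⟩
  apply Subtype.ext
  rw [hQ a a.2, hQ b b.2]

/-- no elements of order four in the centralizer -/
theorem sq_eq_one_of_pow_four (h : Hyp G) (P : Sylow 5 G) (g : G)
    (hg : g ∈ Subgroup.centralizer ((P : Subgroup G) : Set G)) (hg4 : g ^ 4 = 1) : g ^ 2 = 1 := by
  by_contra hne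
  have hu : g ^ 2 ∈ Subgroup.centralizer ((P : Subgroup G) : Set G) := Subgroup.pow_mem _ hg 2
  have hu2 : (g ^ 2) ^ 2 = 1 := by rw [← pow_mul]; exact hg4
  have hfx := fx_involution_centralizer h P (g ^ 2) hu hu2 hne
  have hgP := smul_self_of_mem_centralizer P g hg
  have huP := smul_self_of_mem_centralizer P _ hu
  have hfix2 : ∀ Q : Sylow 5 G, g • g • Q = Q → Q = P := by
    intro Q hQ
    apply eq_of_fx_eq_one P (g ^ 2) hfx huP Q
    rw [pow_two, mul_smul, hQ]
  have h2 : ∀ Q : Sylow 5 G, g • g • Q = Q → g • Q = Q := by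
    intro Q hQ
    rw [hfix2 Q hQ, hgP]
  have h8 := fx_order_four h g hg4 h2
  have h1 : fx g = 1 := by
    apply fx_eq_one_of_forall P g hgP
    intro Q hQ
    apply hfix2
    rw [hQ, hQ]
  omega

/-- a nontrivial 2-element of the centralizer is an involution fixing only `P` -/
theorem two_element (h : Hyp G) (P : Sylow 5 G) (w : G)
    (hw : w ∈ Subgroup.centralizer ((P : Subgroup G) : Set G)) (j : ℕ) (hwj : w ^ 2 ^ j = 1) :
    w ^ 2 = 1 := by
  obtain ⟨i, hi, hord⟩ := (Nat.dvd_prime_pow Nat.prime_two).mp (orderOf_dvd_of_pow_eq_one hwj)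
  rcases i with _ | _ | i
  · rw [pow_zero, orderOf_eq_one_iff] at hord
    rw [hord, one_pow]
  · rw [← orderOf_dvd_iff_pow_eq_one, hord]; norm_num
  · exfalso
    set g := w ^ 2 ^ i with hgdef
    have hg : g ∈ Subgroup.centralizer ((P : Subgroup G) : Set G) := Subgroup.pow_mem _ hw _
    have hg4 : g ^ 4 = 1 := by
      rw [hgdef, ← pow_mul, ← orderOf_dvd_iff_pow_eq_one, hord]
      exact ⟨1, by ring⟩
    have hg2 := sq_eq_one_of_pow_four h P g hg hg4
    rw [hgdef, ← pow_mul, ← orderOf_dvd_iff_pow_eq_one, hord] at hg2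
    have : 2 ^ (i + 1 + 1) ≤ 2 ^ i * 2 := Nat.le_of_dvd (by positivity) hg2
    have h3 : 2 ^ (i + 1 + 1) = 2 ^ i * 4 := by ring
    have : 0 < 2 ^ i := by positivity
    omega

/-- nontrivial 3-elements of the centralizer fix exactly six points -/
theorem fx_three (h : Hyp G) (P : Sylow 5 G) (y : G)
    (hy : y ∈ Subgroup.centralizer ((P : Subgroup G) : Set G)) (n : ℕ) (hy3 : y ^ 3 ^ n = 1)
    (hy1 : y ≠ 1) : fx y = 6 := by
  have h1 := fx_centralizer h P y hy
  have h2 := fx_modEq y hy3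
  rw [h.hn, Nat.ModEq] at h2
  have h3 := fx_le y
  rw [h.hn] at h3
  have h4 : fx y ≠ 21 := fun h4 => hy1 (eq_one_of_fx_eq h y h4)
  omega

/-- no elements of prime order other than 2, 3, 5 in the centralizer -/
theorem no_big_prime (h : Hyp G) (P : Sylow 5 G) (k : G)
    (hk : k ∈ Subgroup.centralizer ((P : Subgroup G) : Set G)) (q : ℕ) (hq : q.Prime)
    (hkq : orderOf k = q) (h2 : q ≠ 2) (h3 : q ≠ 3) (h5 : q ≠ 5) : False := by
  haveI : Fact q.Prime := ⟨hq⟩
  have h1 := fx_centralizer h P k hk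
  have hkq' : k ^ q ^ 1 = 1 := by rw [pow_one, ← hkq]; exact pow_orderOf_eq_one k
  have hmod := fx_modEq k hkq'
  rw [h.hn] at hmod
  have hle := fx_le k
  rw [h.hn] at hle
  have hk1 : k ≠ 1 := by
    intro hk1
    rw [hk1, orderOf_one] at hkq
    exact hq.one_lt.ne' hkq.symm
  have h4 : fx k ≠ 21 := fun h4 => hk1 (eq_one_of_fx_eq h k h4)
  have hdvd : q ∣ 21 - fx k := (Nat.modEq_iff_dvd' hle).mp hmod.symm
  obtain ⟨m, hm⟩ : ∃ m, 21 - fx k = 5 * m := ⟨(21 - fx k) / 5, by omega⟩
  have hm4 : m ≤ 4 := by omega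
  have hm0 : m ≠ 0 := by omega
  rw [hm] at hdvd
  rcases (Nat.Prime.dvd_mul hq).mp hdvd with h6 | h6
  · exact h5 ((Nat.prime_dvd_prime_iff_eq hq (by norm_num)).mp h6)
  · have hqle : q ≤ m := Nat.le_of_dvd (by omega) h6
    have := hq.two_le
    have hq4 : q ≤ 4 := by omega
    interval_cases q
    · exact h2 rfl
    · exact h3 rfl
    · exact absurd hq (by norm_num)

theorem fx_one (h : Hyp G) : fx (1 : G) = 21 := by
  unfold fx
  rw [← h.hn]
  exact Nat.card_congr (Equiv.subtypeUnivEquiv (fun Q => one_smul G Q))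

/-- **Burnside's lemma**: the order of a subgroup whose non-identity elements all fix `f0` points
divides `21 - f0` -/
theorem card_dvd_of_fx_const (h : Hyp G) (Y : Subgroup G) (f0 : ℕ) (hf0 : f0 ≤ 21)
    (hY : ∀ y ∈ Y, y ≠ 1 → fx y = f0) : Nat.card Y ∣ 21 - f0 := by
  classical
  haveI : Fintype (Sylow 5 G) := Fintype.ofFinite _
  haveI : Fintype Y := Fintype.ofFinite _
  haveI : Fintype (Quotient (MulAction.orbitRel Y (Sylow 5 G))) := Fintype.ofFinite _
  have hB := MulAction.sum_card_fixedBy_eq_card_orbits_mul_card_group Y (Sylow 5 G)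
  have hterm : ∀ y : Y, Fintype.card (MulAction.fixedBy (Sylow 5 G) y) = fx (y : G) := by
    intro y
    rw [← Nat.card_eq_fintype_card]
    rfl
  rw [Finset.sum_congr rfl (fun y _ => hterm y)] at hB
  rw [← Finset.add_sum_erase Finset.univ (fun y : Y => fx (y : G)) (Finset.mem_univ (1 : Y))] at hB
  have hrest : ∑ y ∈ Finset.univ.erase (1 : Y), fx (y : G) = (Fintype.card Y - 1) * f0 := by
    have hc : ∀ y ∈ Finset.univ.erase (1 : Y), fx (y : G) = f0 := by
      intro y hy
      exact hY y y.2 (fun h1 => (Finset.mem_erase.mp hy).1 (Subtype.ext h1))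
    rw [Finset.sum_congr rfl hc, Finset.sum_const, Finset.card_erase_of_mem (Finset.mem_univ _), Finset.card_univ, smul_eq_mul]
  rw [hrest, Subgroup.coe_one, fx_one h] at hB
  rw [Nat.card_eq_fintype_card]
  set m := Fintype.card Y with hm
  set k := Fintype.card (Quotient (MulAction.orbitRel Y (Sylow 5 G))) with hk
  have hmpos : 0 < m := Fintype.card_pos
  -- `21 + (m - 1) * f0 = k * m`
  have h1 : 21 - f0 + m * f0 = k * m := by
    have : (m - 1) * f0 + f0 = m * f0 := by
      rw [← Nat.succ_mul, Nat.succ_eq_add_one, Nat.sub_add_cancel hmpos]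
    omega
  have h2 : m ∣ 21 - f0 + m * f0 := h1 ▸ Dvd.intro_left k rfl
  exact (Nat.dvd_add_left (Dvd.intro f0 rfl)).mp h2


/-- a 2-subgroup of the centralizer has order dividing four -/
theorem card_two_subgroup (h : Hyp G) (P : Sylow 5 G) (W : Subgroup G)
    (hW : W ≤ Subgroup.centralizer ((P : Subgroup G) : Set G)) (hW2 : IsPGroup 2 W) :
    Nat.card W ∣ 4 := by
  have hsq : ∀ w ∈ W, w ^ 2 = 1 := by
    intro w hw
    obtain ⟨j, hj⟩ := hW2 ⟨w, hw⟩
    have hj' : w ^ 2 ^ j = 1 := congrArg Subtype.val hj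
    exact two_element h P w (hW hw) j hj'
  have h1 : Nat.card W ∣ 21 - 1 := by
    apply card_dvd_of_fx_const h W 1 (by norm_num)
    intro w hw hw1
    exact fx_involution_centralizer h P w (hW hw) (hsq w hw) hw1
  obtain ⟨a, ha⟩ := IsPGroup.iff_card.mp hW2
  rw [ha] at h1 ⊢
  rcases a with _ | _ | _ | a
  · norm_num
  · norm_num
  · norm_num
  · exfalso
    have h8 : 2 ^ 3 ∣ 2 ^ (a + 1 + 1 + 1) := pow_dvd_pow 2 (by omega)
    have := h8.trans h1
    norm_num at this

/-- a 3-subgroup of the centralizer has order dividing three -/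
theorem card_three_subgroup (h : Hyp G) (P : Sylow 5 G) (Y : Subgroup G)
    (hY : Y ≤ Subgroup.centralizer ((P : Subgroup G) : Set G)) (hY3 : IsPGroup 3 Y) :
    Nat.card Y ∣ 3 := by
  have h1 : Nat.card Y ∣ 21 - 6 := by
    apply card_dvd_of_fx_const h Y 6 (by norm_num)
    intro y hy hy1
    obtain ⟨j, hj⟩ := hY3 ⟨y, hy⟩
    have hj' : y ^ 3 ^ j = 1 := congrArg Subtype.val hj
    exact fx_three h P y (hY hy) j hj' hy1
  obtain ⟨a, ha⟩ := IsPGroup.iff_card.mp hY3
  rw [ha] at h1 ⊢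
  rcases a with _ | _ | a
  · norm_num
  · norm_num
  · exfalso
    have h9 : 3 ^ 2 ∣ 3 ^ (a + 1 + 1) := pow_dvd_pow 3 (by omega)
    have := h9.trans h1
    norm_num at this

/-- a 5-subgroup has order dividing five -/
theorem card_five_subgroup (h : Hyp G) (Y : Subgroup G) (hY5 : IsPGroup 5 Y) : Nat.card Y ∣ 5 := by
  obtain ⟨Q, hQ⟩ := hY5.exists_le_sylow
  have := Subgroup.card_dvd_of_le hQ
  rwa [hcard h Q] at this

/-- **the centralizer of a Sylow 5-subgroup has order dividing 60** -/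
theorem card_centralizer_dvd (h : Hyp G) (P : Sylow 5 G) :
    Nat.card (Subgroup.centralizer ((P : Subgroup G) : Set G)) ∣ 60 := by
  set C := Subgroup.centralizer ((P : Subgroup G) : Set G) with hC
  rw [Nat.dvd_iff_prime_pow_dvd_dvd]
  intro q k hq hqk
  haveI : Fact q.Prime := ⟨hq⟩
  rcases Nat.eq_zero_or_pos k with rfl | hk
  · simp
  have hqc : q ∣ Nat.card C := (dvd_pow_self q hk.ne').trans hqk
  obtain ⟨S⟩ := (Sylow.nonempty : Nonempty (Sylow q C))
  have hS : Nat.card (S : Subgroup C) = q ^ (Nat.card C).factorization q := Sylow.card_eq_multiplicity S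
  have hkle : k ≤ (Nat.card C).factorization q :=
    (hq.pow_dvd_iff_le_factorization Nat.card_pos.ne').mp hqk
  have hqkS : q ^ k ∣ Nat.card (S : Subgroup C) := hS ▸ pow_dvd_pow q hkle
  set Y : Subgroup G := (S : Subgroup C).map C.subtype with hY
  have hYcard : Nat.card Y = Nat.card (S : Subgroup C) :=
    Subgroup.card_map_of_injective C.subtype_injective
  have hYC : Y ≤ C := by
    rintro _ ⟨y, _, rfl⟩
    exact y.2
  have hYq : IsPGroup q Y := S.isPGroup'.map C.subtype
  rw [← hYcard] at hqkS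
  by_cases h2 : q = 2
  · subst h2
    exact hqkS.trans ((card_two_subgroup h P Y hYC hYq).trans (by norm_num))
  by_cases h3 : q = 3
  · subst h3
    exact hqkS.trans ((card_three_subgroup h P Y hYC hYq).trans (by norm_num))
  by_cases h5 : q = 5
  · subst h5
    exact hqkS.trans ((card_five_subgroup h Y hYq).trans (by norm_num))
  exfalso
  obtain ⟨k0, hk0⟩ := exists_prime_orderOf_dvd_card' (G := C) q hqc
  have hk0' : orderOf (k0 : G) = q := by rw [Subgroup.orderOf_coe, hk0]
  exact no_big_prime h P k0 k0.2 q hq hk0' h2 h3 h5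

end Cfsg.Agent.H1.SylFiveC
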