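import Mathlib
import Cfsg.Agent.H1.SylFiveC

set_option autoImplicit false

namespace Cfsg.Agent.H1.SylFiveD

open SylNumA SylNumB SylNumC SylNumD SylNumE SylFiveA SylFiveB SylFiveC

universe u

variable {G : Type u} [Group G] [Finite G]

/-- `|G| = 21 · d · |C|` -/
theorem card_eq (h : Hyp G) (P : Sylow 5 G) :
    Nat.card G = 21 * ((Subgroup.centralizer ((P : Subgroup G) : Set G)).relIndex
      (Subgroup.normalizer ((P : Subgroup G) : Set G)) *
      Nat.card (Subgroup.centralizer ((P : Subgroup G) : Set G))) := by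
  set C := Subgroup.centralizer ((P : Subgroup G) : Set G) with hC
  set N := Subgroup.normalizer ((P : Subgroup G) : Set G) with hN
  have hNidx : N.index = 21 := by
    rw [← h.hn]; exact (Sylow.card_eq_index_normalizer P).symm
  have hG : Nat.card G = 21 * Nat.card N := by
    rw [← Subgroup.card_mul_index N, hNidx, mul_comm]
  have hNC : Nat.card N = C.relIndex N * Nat.card C :=
    Cfsg.Agent.H1.card_eq_relIndex_mul_card (Subgroup.centralizer_le_normalizer _)
  rw [hG, hNC]

theorem relIndex_dvd (h : Hyp G) (P : Sylow 5 G) :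
    (Subgroup.centralizer ((P : Subgroup G) : Set G)).relIndex
      (Subgroup.normalizer ((P : Subgroup G) : Set G)) ∣ 4 :=
  relIndex_centralizer_normalizer_dvd P (hcard h P)

theorem card_dvd (h : Hyp G) : Nat.card G ∣ 5040 := by
  obtain ⟨P⟩ := (Sylow.nonempty : Nonempty (Sylow 5 G))
  rw [card_eq h P]
  have h1 := relIndex_dvd h P
  have h2 := card_centralizer_dvd h P
  have : (5040 : ℕ) = 21 * (4 * 60) := by norm_num
  rw [this]
  exact Nat.mul_dvd_mul_left 21 (Nat.mul_dvd_mul h1 h2)

theorem card_sylow_seven (h : Hyp G) (S : Sylow 7 G) : Nat.card (S : Subgroup G) = 7 := by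
  obtain ⟨P⟩ := (Sylow.nonempty : Nonempty (Sylow 5 G))
  have h1 := card_eq h P
  set m := (Subgroup.centralizer ((P : Subgroup G) : Set G)).relIndex
      (Subgroup.normalizer ((P : Subgroup G) : Set G)) *
      Nat.card (Subgroup.centralizer ((P : Subgroup G) : Set G)) with hm
  apply card_sylow_of_card_eq S (m := 3 * m) (by rw [h1]; ring)
  intro h7
  have h2 : 7 * (3 * m) ∣ 5040 := by
    have := card_dvd h
    rw [h1] at this
    have e : 7 * (3 * m) = 21 * m := by ring
    rw [e]; exact this
  obtain ⟨t, ht⟩ := h7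
  rw [ht] at h2
  have h49 : 49 ∣ 5040 := dvd_trans ⟨t, by ring⟩ h2
  norm_num at h49

/-- the normalizer of a Sylow 7-subgroup has order prime to 5 -/
theorem not_dvd_card_normalizer (h : Hyp G) (S : Sylow 7 G) :
    ¬ 5 ∣ Nat.card (Subgroup.normalizer ((S : Subgroup G) : Set G)) := by
  intro h5
  set NS := Subgroup.normalizer ((S : Subgroup G) : Set G) with hNS
  set CS := Subgroup.centralizer ((S : Subgroup G) : Set G) with hCS
  obtain ⟨y, hy⟩ := exists_prime_orderOf_dvd_card' (G := NS) 5 h5
  have hS7 := card_sylow_seven h S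
  have hd : CS.relIndex NS ∣ 6 := relIndex_centralizer_normalizer_dvd S hS7
  have hy1 : (y : G) ^ CS.relIndex NS ∈ CS := by
    have := Subgroup.pow_index_mem (CS.subgroupOf NS) y
    rw [Subgroup.mem_subgroupOf] at this
    exact this
  have hy6 : (y : G) ^ 6 ∈ CS := by
    obtain ⟨t, ht⟩ := hd
    rw [ht, pow_mul]
    exact Subgroup.pow_mem _ hy1 t
  have hy5 : (y : G) ^ 5 = 1 := by
    have : y ^ 5 = 1 := by rw [← hy]; exact pow_orderOf_eq_one y
    exact congrArg Subtype.val this
  have hyC : (y : G) ∈ CS := by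
    have : (y : G) ^ 6 = y := by rw [pow_succ, hy5, one_mul]
    rwa [this] at hy6
  have hyord : orderOf (y : G) = 5 := by rw [Subgroup.orderOf_coe, hy]
  -- the Sylow 5-subgroup generated by `y`
  have hzp : IsPGroup 5 (Subgroup.zpowers (y : G)) := by
    apply IsPGroup.of_card (n := 1)
    rw [Nat.card_zpowers, hyord, pow_one]
  obtain ⟨P', hP'⟩ := hzp.exists_le_sylow
  have hP'eq : Subgroup.zpowers (y : G) = P' := by
    apply Subgroup.eq_of_le_of_card_ge hP'
    rw [Nat.card_zpowers, hyord, hcard h P']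
  -- an element of order 7 in `S`
  obtain ⟨s, hs⟩ := exists_prime_orderOf_dvd_card' (G := (S : Subgroup G)) 7 (by rw [hS7])
  have hsord : orderOf (s : G) = 7 := by rw [Subgroup.orderOf_coe, hs]
  have hcomm : (s : G) * (y : G) = (y : G) * (s : G) :=
    (Subgroup.mem_centralizer_iff.mp hyC (s : G) s.2)
  have hsC : (s : G) ∈ Subgroup.centralizer ((P' : Subgroup G) : Set G) := by
    rw [Subgroup.mem_centralizer_iff]
    intro g hg
    have hg' : g ∈ Subgroup.zpowers (y : G) := by rw [hP'eq]; exact hg
    obtain ⟨i, rfl⟩ := Subgroup.mem_zpowers_iff.mp hg'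
    exact ((Commute.zpow_left (show Commute (y : G) (s : G) from hcomm.symm) i)).eq
  exact no_big_prime h P' s hsC 7 (by norm_num) hsord (by norm_num) (by norm_num) (by norm_num)

/-- **there are exactly 120 Sylow 7-subgroups** -/
theorem card_sylow_seven_eq (h : Hyp G) : Nat.card (Sylow 7 G) = 120 := by
  obtain ⟨S⟩ := (Sylow.nonempty : Nonempty (Sylow 7 G))
  set NS := Subgroup.normalizer ((S : Subgroup G) : Set G) with hNS
  set n7 := Nat.card (Sylow 7 G) with hn7
  have hidx : n7 = NS.index := Sylow.card_eq_index_normalizer S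
  have hmul : Nat.card NS * n7 = Nat.card G := by rw [hidx]; exact Subgroup.card_mul_index NS
  have hmod : n7 % 7 = 1 := by
    have := card_sylow_modEq_one 7 G
    rw [Nat.ModEq] at this
    simpa using this
  have h5G : 5 ∣ Nat.card G := by
    obtain ⟨P⟩ := (Sylow.nonempty : Nonempty (Sylow 5 G))
    rw [← hcard h P]
    exact Subgroup.card_subgroup_dvd_card _
  have h5 : 5 ∣ n7 := by
    rw [← hmul] at h5G
    rcases (Nat.Prime.dvd_mul (by norm_num)).mp h5G with h1 | h1
    · exact absurd h1 (not_dvd_card_normalizer h S)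
    · exact h1
  have h7N : 7 ∣ Nat.card NS := by
    rw [← card_sylow_seven h S]
    exact Subgroup.card_dvd_of_le Subgroup.le_normalizer
  have h720 : n7 ∣ 720 := by
    obtain ⟨t, ht⟩ := h7N
    have h1 : 7 * (t * n7) ∣ 5040 := by
      have := card_dvd h
      rw [← hmul, ht] at this
      rwa [mul_assoc] at this
    have h2 : (5040 : ℕ) = 7 * 720 := by norm_num
    rw [h2] at h1
    have h3 := Nat.dvd_of_mul_dvd_mul_left (by norm_num) h1
    exact (Dvd.intro_left t rfl).trans h3
  have hne : n7 ≠ 15 := SylNumE.main (Nat.card G) G rfl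
  obtain ⟨k, hk⟩ := h5
  have hk144 : k ∣ 144 := by
    rw [hk] at h720
    have e : (720 : ℕ) = 5 * 144 := by norm_num
    rw [e] at h720
    exact Nat.dvd_of_mul_dvd_mul_left (by norm_num) h720
  have hmem : k ∈ Nat.divisors 144 := Nat.mem_divisors.mpr ⟨hk144, by norm_num⟩
  have key : ∀ k ∈ Nat.divisors 144, (5 * k) % 7 = 1 → k = 3 ∨ k = 24 := by decide
  rw [hk] at hmod
  rcases key k hmem hmod with h1 | h1
  · exfalso; apply hne; rw [hk, h1]
  · rw [hk, h1]

/-- `8` divides `d · |C|` -/
theorem eight_dvd (h : Hyp G) (P : Sylow 5 G) :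
    8 ∣ (Subgroup.centralizer ((P : Subgroup G) : Set G)).relIndex
      (Subgroup.normalizer ((P : Subgroup G) : Set G)) *
      Nat.card (Subgroup.centralizer ((P : Subgroup G) : Set G)) := by
  obtain ⟨S⟩ := (Sylow.nonempty : Nonempty (Sylow 7 G))
  set NS := Subgroup.normalizer ((S : Subgroup G) : Set G) with hNS
  have hidx : Nat.card (Sylow 7 G) = NS.index := Sylow.card_eq_index_normalizer S
  have hmul : Nat.card NS * NS.index = Nat.card G := Subgroup.card_mul_index NS
  rw [← hidx, card_sylow_seven_eq h, card_eq h P] at hmul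
  have h8 : 8 ∣ 21 * ((Subgroup.centralizer ((P : Subgroup G) : Set G)).relIndex
      (Subgroup.normalizer ((P : Subgroup G) : Set G)) *
      Nat.card (Subgroup.centralizer ((P : Subgroup G) : Set G))) := by
    rw [← hmul]
    exact ⟨Nat.card NS * 15, by ring⟩
  exact (Nat.Coprime.dvd_of_dvd_mul_left (by norm_num) h8)

/-- the case `|G| = 840` is impossible -/
theorem card_ne_840 (h : Hyp G) : Nat.card G ≠ 840 := by
  intro hG
  obtain ⟨S⟩ := (Sylow.nonempty : Nonempty (Sylow 7 G))
  set NS := Subgroup.normalizer ((S : Subgroup G) : Set G) with hNS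
  have hidx : Nat.card (Sylow 7 G) = NS.index := Sylow.card_eq_index_normalizer S
  have hmul : Nat.card NS * NS.index = Nat.card G := Subgroup.card_mul_index NS
  rw [← hidx, card_sylow_seven_eq h, hG] at hmul
  have hNS7 : Nat.card NS = 7 := by omega
  have hS7 := card_sylow_seven h S
  have hSN : (S : Subgroup G) = NS :=
    Subgroup.eq_of_le_of_card_ge Subgroup.le_normalizer (by rw [hNS7, hS7])
  have hcyc : IsCyclic (S : Subgroup G) := isCyclic_of_prime_card hS7
  have hle : NS ≤ Subgroup.centralizer ((S : Subgroup G) : Set G) := by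
    rw [← hSN]
    intro x hx
    rw [Subgroup.mem_centralizer_iff]
    intro y hy
    have := (IsCyclic.isMulCommutative (α := (S : Subgroup G))).is_comm.comm ⟨y, hy⟩ ⟨x, hx⟩
    exact congrArg Subtype.val this
  obtain ⟨K, hKn, hKi⟩ := exists_normal_of_transfer S hle
  rw [hS7] at hKi
  haveI := hKn
  have htop := h.hA K (by rw [hKi]; norm_num)
  rw [htop, Subgroup.index_top] at hKi
  omega

end Cfsg.Agent.H1.SylFiveD
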