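import Mathlib
import Cfsg.Agent.H1.SylFiveD

set_option autoImplicit false

namespace Cfsg.Agent.H1.SylFiveE

open SylNumA SylNumB SylNumC SylNumD SylNumE SylFiveA SylFiveB SylFiveC SylFiveD

universe u

variable {G : Type u} [Group G] [Finite G]

/-- `P` is contained in its centralizer -/
theorem le_centralizer (h : Hyp G) (P : Sylow 5 G) :
    (P : Subgroup G) ≤ Subgroup.centralizer ((P : Subgroup G) : Set G) := by
  haveI : IsCyclic (P : Subgroup G) := isCyclic_of_prime_card (hcard h P)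
  intro x hx
  rw [Subgroup.mem_centralizer_iff]
  intro y hy
  have := (IsCyclic.isMulCommutative (α := (P : Subgroup G))).is_comm.comm ⟨y, hy⟩ ⟨x, hx⟩
  exact congrArg Subtype.val this

/-- the case `|C| = 30` is impossible -/
theorem card_centralizer_ne_30 (h : Hyp G) (P : Sylow 5 G) :
    Nat.card (Subgroup.centralizer ((P : Subgroup G) : Set G)) ≠ 30 := by
  intro hc
  set C := Subgroup.centralizer ((P : Subgroup G) : Set G) with hC
  -- elements of order 2, 3, 5
  obtain ⟨u, hu⟩ := exists_prime_orderOf_dvd_card' (G := C) 2 (by rw [hc]; norm_num)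
  obtain ⟨k, hk⟩ := exists_prime_orderOf_dvd_card' (G := C) 3 (by rw [hc]; norm_num)
  obtain ⟨x, hxP, hx1⟩ := exists_ne_one h P
  have hx5 : x ^ 5 = 1 := pow_five_eq_one h P x hxP
  have hxord : orderOf x = 5 := orderOf_eq_prime hx5 hx1
  have hxC : x ∈ C := le_centralizer h P hxP
  have hkord : orderOf (k : G) = 3 := by rw [Subgroup.orderOf_coe, hk]
  have huord : orderOf (u : G) = 2 := by rw [Subgroup.orderOf_coe, hu]
  have hk3 : (k : G) ^ 3 = 1 := by rw [← hkord]; exact pow_orderOf_eq_one _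
  have hu2 : (u : G) ^ 2 = 1 := by rw [← huord]; exact pow_orderOf_eq_one _
  have hu1 : (u : G) ≠ 1 := by
    intro h1
    rw [h1, orderOf_one] at huord
    omega
  have hk1 : (k : G) ≠ 1 := by
    intro h1
    rw [h1, orderOf_one] at hkord
    omega
  have hkx : Commute (k : G) x := (Subgroup.mem_centralizer_iff.mp k.2 x hxP).symm
  set g : G := (k : G) * x with hg
  have hgord : orderOf g = 15 := by
    rw [hg, hkx.orderOf_mul_eq_mul_orderOf_of_coprime (by rw [hkord, hxord]; norm_num), hkord, hxord]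
  have hgC : g ∈ C := C.mul_mem k.2 hxC
  set A : Subgroup G := Subgroup.zpowers g with hA
  have hAC : A ≤ C := by rw [hA, Subgroup.zpowers_le]; exact hgC
  have hAcard : Nat.card A = 15 := by rw [hA, Nat.card_zpowers, hgord]
  have hidx : (A.subgroupOf C).index = 2 := by
    have h1 : Nat.card C = A.relIndex C * Nat.card A := Cfsg.Agent.H1.card_eq_relIndex_mul_card hAC
    rw [hc, hAcard] at h1
    change A.relIndex C = 2
    omega
  haveI hAn : (A.subgroupOf C).Normal := Subgroup.normal_of_index_eq_two hidx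
  -- `u` normalizes `⟨k⟩`
  have hconj : (u : G) * g * (u : G)⁻¹ ∈ A := by
    have hgA : (⟨g, hgC⟩ : C) ∈ A.subgroupOf C := by
      rw [Subgroup.mem_subgroupOf]; exact Subgroup.mem_zpowers g
    have := hAn.conj_mem _ hgA u
    rw [Subgroup.mem_subgroupOf] at this
    exact this
  obtain ⟨i, hi⟩ := Subgroup.mem_zpowers_iff.mp hconj
  have hg5 : g ^ 5 = (k : G) ^ 2 := by
    rw [hg, hkx.mul_pow, hx5, mul_one]
    calc (k : G) ^ 5 = (k : G) ^ 3 * (k : G) ^ 2 := by rw [← pow_add]
      _ = (k : G) ^ 2 := by rw [hk3, one_mul]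
  have hk2conj : (u : G) * (k : G) ^ 2 * (u : G)⁻¹ = ((k : G) ^ 2) ^ i := by
    rw [← hg5]
    have e0 : (u : G) * g ^ 5 * (u : G)⁻¹ = ((u : G) * g * (u : G)⁻¹) ^ 5 := (conj_pow).symm
    rw [e0, ← hi, ← zpow_natCast (g ^ i), ← zpow_mul, mul_comm, zpow_mul, zpow_natCast]
  have hkconj : ∃ j : ℤ, (u : G) * (k : G) * (u : G)⁻¹ = (k : G) ^ j := by
    refine ⟨2 * i * 2, ?_⟩
    have e1 : ((k : G) ^ 2) ^ 2 = (k : G) := by
      rw [← pow_mul]
      calc (k : G) ^ (2 * 2) = (k : G) ^ 3 * (k : G) := by rw [← pow_succ]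
        _ = (k : G) := by rw [hk3, one_mul]
    have e2 : (u : G) * (k : G) * (u : G)⁻¹ = ((u : G) * (k : G) ^ 2 * (u : G)⁻¹) ^ 2 := by
      rw [conj_pow, e1]
    rw [e2, hk2conj, zpow_mul, zpow_mul, zpow_ofNat, zpow_ofNat]
  obtain ⟨j, hj⟩ := hkconj
  -- fixed points of `k`
  have hfxk : fx (k : G) = 6 := fx_three h P k k.2 1 (by rw [pow_one]; exact hk3) hk1
  have hfxu : fx (u : G) = 1 := fx_involution_centralizer h P u u.2 hu2 hu1
  have huP : (u : G) • P = P := smul_self_of_mem_centralizer P u u.2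
  have hkP : (k : G) • P = P := smul_self_of_mem_centralizer P k k.2
  have huinv : (u : G)⁻¹ = u := by
    rw [inv_eq_iff_mul_eq_one, ← pow_two]; exact hu2
  have hinv : ∀ Q : Sylow 5 G, ((k : G) • Q = Q ∧ Q ≠ P) → ((k : G) • (u : G) • Q = (u : G) • Q ∧ (u : G) • Q ≠ P) := by
    rintro Q ⟨h1, h2⟩
    constructor
    · have e : (k : G) * (u : G) = (u : G) * ((u : G) * (k : G) * (u : G)⁻¹) := by
        rw [huinv]
        have : (u : G) * (u : G) = 1 := by rw [← pow_two]; exact hu2
        rw [← mul_assoc, ← mul_assoc, this, one_mul]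
      rw [← mul_smul, e, hj, mul_smul]
      congr 1
      have : ∀ n : ℤ, ((k : G) ^ n) • Q = Q := by
        intro n
        have hmem : (k : G) ∈ MulAction.stabilizer G Q := h1
        exact (MulAction.stabilizer G Q).zpow_mem hmem n
      exact this j
    · intro h3
      apply h2
      have : Q = (u : G)⁻¹ • P := eq_inv_smul_iff.mpr h3
      rw [this, huinv, huP]
  have hmod := card_modEq_of_invariant (u : G) (q := 2) (n := 1) (by rw [pow_one]; exact hu2)
    (fun Q : Sylow 5 G => (k : G) • Q = Q ∧ Q ≠ P) hinv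
  -- `card {Q // k • Q = Q ∧ Q ≠ P} = 5`
  have h5 : Nat.card {Q : Sylow 5 G // (k : G) • Q = Q ∧ Q ≠ P} = 5 := by
    classical
    haveI : Fintype (Sylow 5 G) := Fintype.ofFinite _
    have hfx : fx (k : G) = Nat.card {Q : Sylow 5 G // (k : G) • Q = Q ∧ Q ≠ P} + 1 := by
      unfold fx
      rw [Nat.card_eq_fintype_card, Nat.card_eq_fintype_card, Fintype.card_subtype, Fintype.card_subtype]
      have : Finset.univ.filter (fun Q : Sylow 5 G => (k : G) • Q = Q) =
          insert P (Finset.univ.filter (fun Q : Sylow 5 G => (k : G) • Q = Q ∧ Q ≠ P)) := by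
        ext Q
        simp only [Finset.mem_filter, Finset.mem_univ, true_and, Finset.mem_insert]
        constructor
        · intro hQ
          by_cases hQP : Q = P
          · left; exact hQP
          · right; exact ⟨hQ, hQP⟩
        · rintro (rfl | hQ)
          · exact hkP
          · exact hQ.1
      rw [this, Finset.card_insert_of_notMem (by simp)]
    omega
  rw [h5] at hmod
  have hne : Nat.card {Q : Sylow 5 G // ((k : G) • Q = Q ∧ Q ≠ P) ∧ (u : G) • Q = Q} ≠ 0 := by
    intro h0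
    rw [h0] at hmod
    exact absurd hmod (by decide)
  rw [Nat.card_ne_zero] at hne
  obtain ⟨⟨Q, ⟨_, hQP⟩, hQu⟩⟩ := hne.1
  exact hQP (eq_of_fx_eq_one P u hfxu huP Q hQu)

end Cfsg.Agent.H1.SylFiveE
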