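import Mathlib
import Cfsg.Agent.H1.SylFiveE

set_option autoImplicit false

namespace Cfsg.Agent.H1.SylFiveF

open SylNumA SylNumB SylNumC SylNumD SylNumE SylFiveA SylFiveB SylFiveC SylFiveD SylFiveE

universe u

variable {G : Type u} [Group G] [Finite G]

/-- a Klein four-group in the centralizer -/
structure Four (P : Sylow 5 G) (W : Subgroup G) : Prop where
  hWC : W ≤ Subgroup.centralizer ((P : Subgroup G) : Set G)
  hW4 : Nat.card W = 4
  hsq : ∀ w ∈ W, w ^ 2 = 1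

theorem exists_four (h : Hyp G) (P : Sylow 5 G)
    (h4 : 4 ∣ Nat.card (Subgroup.centralizer ((P : Subgroup G) : Set G))) :
    ∃ W : Subgroup G, Four P W := by
  set C := Subgroup.centralizer ((P : Subgroup G) : Set G) with hC
  obtain ⟨S⟩ := (Sylow.nonempty : Nonempty (Sylow 2 C))
  have hS : Nat.card (S : Subgroup C) = 2 ^ (Nat.card C).factorization 2 := Sylow.card_eq_multiplicity S
  have hkle : 2 ≤ (Nat.card C).factorization 2 :=
    (Nat.prime_two.pow_dvd_iff_le_factorization Nat.card_pos.ne').mp (by norm_num; exact h4)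
  set W : Subgroup G := (S : Subgroup C).map C.subtype with hW
  have hWcard : Nat.card W = Nat.card (S : Subgroup C) :=
    Subgroup.card_map_of_injective C.subtype_injective
  have hWC : W ≤ C := by
    rintro _ ⟨y, _, rfl⟩
    exact y.2
  have hW2 : IsPGroup 2 W := S.isPGroup'.map C.subtype
  have h1 := card_two_subgroup h P W hWC hW2
  have h2 : 4 ∣ Nat.card W := by
    rw [hWcard, hS]
    exact pow_dvd_pow 2 hkle
  refine ⟨W, hWC, Nat.dvd_antisymm h1 h2, ?_⟩
  intro w hw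
  obtain ⟨j, hj⟩ := hW2 ⟨w, hw⟩
  have hj' : w ^ 2 ^ j = 1 := congrArg Subtype.val hj
  exact two_element h P w (hWC hw) j hj'

variable {P : Sylow 5 G} {W : Subgroup G}

theorem Four.fix (hW : Four P W) (h : Hyp G) (w : G) (hw : w ∈ W) (hw1 : w ≠ 1) (Q : Sylow 5 G)
    (hQ : w • Q = Q) : Q = P :=
  eq_of_fx_eq_one P w (fx_involution_centralizer h P w (hW.hWC hw) (hW.hsq w hw) hw1)
    (smul_self_of_mem_centralizer P w (hW.hWC hw)) Q hQ

/-- an element of `P` whose square is trivial is trivial -/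
theorem eq_one_of_sq (h : Hyp G) (a : G) (ha : a ∈ (P : Subgroup G)) (ha2 : a ^ 2 = 1) : a = 1 := by
  have h5 := pow_five_eq_one h P a ha
  calc a = a ^ 5 * ((a ^ 2) ^ 2)⁻¹ := by rw [← pow_mul]; group
    _ = 1 := by rw [h5, ha2]; simp

/-- `PW` acts semiregularly off `P` -/
theorem Four.semireg (hW : Four P W) (h : Hyp G) (a b : G) (ha : a ∈ (P : Subgroup G)) (hb : b ∈ W)
    (Q : Sylow 5 G) (hQP : Q ≠ P) (hQ : (a * b) • Q = Q) : a = 1 ∧ b = 1 := by
  have hab : Commute a b := Subgroup.mem_centralizer_iff.mp (hW.hWC hb) a ha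
  have h2 : (a * b) ^ 2 = a ^ 2 := by rw [hab.mul_pow, hW.hsq b hb, mul_one]
  have h3 : (a ^ 2) • Q = Q := by
    rw [← h2, pow_two, mul_smul, hQ, hQ]
  have h4 : a ^ 2 = 1 := SylFiveC.semireg h P Q hQP _ (Subgroup.pow_mem _ ha 2) h3
  have ha1 : a = 1 := eq_one_of_sq h a ha h4
  refine ⟨ha1, ?_⟩
  by_contra hb1
  rw [ha1, one_mul] at hQ
  exact hQP (hW.fix h b hb hb1 Q hQ)

/-- `PW` is regular on the Sylow subgroups other than `P` -/
theorem Four.regular (hW : Four P W) (h : Hyp G) (Q0 : Sylow 5 G) (hQ0 : Q0 ≠ P) (Q : Sylow 5 G)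
    (hQ : Q ≠ P) : ∃ a ∈ (P : Subgroup G), ∃ b ∈ W, (a * b) • Q0 = Q := by
  classical
  haveI : Fintype (Sylow 5 G) := Fintype.ofFinite _
  have hnP : ∀ g : G, g ∈ Subgroup.normalizer ((P : Subgroup G) : Set G) → g • Q0 ≠ P := by
    intro g hg h1
    apply hQ0
    have : Q0 = g⁻¹ • P := eq_inv_smul_iff.mpr h1
    rw [this]
    exact Sylow.smul_eq_iff_mem_normalizer.mpr (Subgroup.inv_mem _ hg)
  have hmemN : ∀ a ∈ (P : Subgroup G), ∀ b ∈ W, a * b ∈ Subgroup.normalizer ((P : Subgroup G) : Set G) :=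
    fun a ha b hb => Subgroup.mul_mem _ (Subgroup.le_normalizer ha)
      (Subgroup.centralizer_le_normalizer _ (hW.hWC hb))
  let φ : ↥(P : Subgroup G) × ↥W → {R : Sylow 5 G // R ≠ P} := fun ab =>
    ⟨((ab.1 : G) * (ab.2 : G)) • Q0, hnP _ (hmemN _ ab.1.2 _ ab.2.2)⟩
  have hφ : Function.Injective φ := by
    rintro ⟨a, b⟩ ⟨a', b'⟩ hab
    have h0 : ((a : G) * (b : G)) • Q0 = ((a' : G) * (b' : G)) • Q0 := congrArg Subtype.val hab
    have hcomm : Commute ((a' : G)⁻¹ * (a : G)) (b' : G)⁻¹ :=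
      Subgroup.mem_centralizer_iff.mp (hW.hWC (W.inv_mem b'.2)) _
        (Subgroup.mul_mem _ (Subgroup.inv_mem _ a'.2) a.2)
    have h1 : (((a' : G)⁻¹ * (a : G)) * ((b' : G)⁻¹ * (b : G))) • Q0 = Q0 := by
      have e : ((a' : G)⁻¹ * (a : G)) * ((b' : G)⁻¹ * (b : G)) =
          ((a' : G) * (b' : G))⁻¹ * ((a : G) * (b : G)) := by
        calc ((a' : G)⁻¹ * (a : G)) * ((b' : G)⁻¹ * (b : G))
            = (((a' : G)⁻¹ * (a : G)) * (b' : G)⁻¹) * (b : G) := by group
          _ = ((b' : G)⁻¹ * ((a' : G)⁻¹ * (a : G))) * (b : G) := by rw [hcomm.eq]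
          _ = ((a' : G) * (b' : G))⁻¹ * ((a : G) * (b : G)) := by group
      rw [e, mul_smul, h0, inv_smul_smul]
    obtain ⟨e1, e2⟩ := hW.semireg h _ _ (Subgroup.mul_mem _ (Subgroup.inv_mem _ a'.2) a.2)
      (W.mul_mem (W.inv_mem b'.2) b.2) Q0 hQ0 h1
    rw [inv_mul_eq_one] at e1 e2
    exact Prod.ext (Subtype.ext e1.symm) (Subtype.ext e2.symm)
  have hcard : Nat.card (↥(P : Subgroup G) × ↥W) = Nat.card {R : Sylow 5 G // R ≠ P} := by
    rw [Nat.card_prod, hcard h P, hW.hW4, Nat.card_eq_fintype_card, Fintype.card_subtype_compl,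
      Fintype.card_subtype_eq, ← Nat.card_eq_fintype_card, h.hn]
  have hbij : Function.Bijective φ := by
    rw [Nat.bijective_iff_injective_and_card]
    exact ⟨hφ, hcard⟩
  obtain ⟨⟨a, b⟩, hab⟩ := hbij.2 ⟨Q, hQ⟩
  exact ⟨a, a.2, b, b.2, congrArg Subtype.val hab⟩



/-- the point stabilizer in the normalizer has order `|N| / 20` -/
theorem Four.card_stabilizer (hW : Four P W) (h : Hyp G) (Q1 : Sylow 5 G) (hQ1 : Q1 ≠ P) :
    Nat.card (MulAction.stabilizer ↥(Subgroup.normalizer ((P : Subgroup G) : Set G)) Q1) * 20 =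
      Nat.card ↥(Subgroup.normalizer ((P : Subgroup G) : Set G)) := by
  set N := Subgroup.normalizer ((P : Subgroup G) : Set G) with hN
  have h1 := MulAction.index_stabilizer ↥N Q1
  have h2 := Subgroup.card_mul_index (MulAction.stabilizer ↥N Q1)
  have h3 : MulAction.orbit ↥N Q1 = ({P} : Set (Sylow 5 G))ᶜ := by
    ext Q
    constructor
    · rintro ⟨n, rfl⟩
      intro hQ
      apply hQ1
      have hQ' : (n : G) • Q1 = P := hQ
      have : Q1 = (n : G)⁻¹ • P := eq_inv_smul_iff.mpr hQ'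
      rw [this]
      exact Sylow.smul_eq_iff_mem_normalizer.mpr (Subgroup.inv_mem _ n.2)
    · intro hQ
      obtain ⟨a, ha, b, hb, hab⟩ := hW.regular h Q1 hQ1 Q hQ
      exact ⟨⟨a * b, Subgroup.mul_mem _ (Subgroup.le_normalizer ha)
        (Subgroup.centralizer_le_normalizer _ (hW.hWC hb))⟩, hab⟩
  have h4 : (({P} : Set (Sylow 5 G))ᶜ).ncard = 20 := by
    rw [Set.ncard_compl, Set.ncard_singleton, h.hn]
  rw [← h2, h1, h3, h4]

omit [Finite G] in
/-- the order of the normalizer -/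
theorem card_normalizer (P : Sylow 5 G) :
    Nat.card ↥(Subgroup.normalizer ((P : Subgroup G) : Set G)) =
      (Subgroup.centralizer ((P : Subgroup G) : Set G)).relIndex
      (Subgroup.normalizer ((P : Subgroup G) : Set G)) *
      Nat.card (Subgroup.centralizer ((P : Subgroup G) : Set G)) :=
  Cfsg.Agent.H1.card_eq_relIndex_mul_card (Subgroup.centralizer_le_normalizer _)

theorem card_normalizer_dvd (h : Hyp G) (P : Sylow 5 G) :
    Nat.card ↥(Subgroup.normalizer ((P : Subgroup G) : Set G)) ∣ 240 := by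
  rw [card_normalizer P]
  have : (240 : ℕ) = 4 * 60 := by norm_num
  rw [this]
  exact Nat.mul_dvd_mul (relIndex_dvd h P) (card_centralizer_dvd h P)

/-- the two-point stabilizers have order at most `12` -/
theorem Four.card_stabilizer_le (hW : Four P W) (h : Hyp G) (Q1 : Sylow 5 G) (hQ1 : Q1 ≠ P) :
    Nat.card (MulAction.stabilizer ↥(Subgroup.normalizer ((P : Subgroup G) : Set G)) Q1) ≤ 12 := by
  have h1 := hW.card_stabilizer h Q1 hQ1
  have h2 := Nat.le_of_dvd (by norm_num) (card_normalizer_dvd h P)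
  omega

/-- an involution in the normalizer fixing a second point -/
theorem Four.exists_invol (hW : Four P W) (h : Hyp G) (Q0 : Sylow 5 G) (hQ0 : Q0 ≠ P) :
    ∃ z : G, z ^ 2 = 1 ∧ z ≠ 1 ∧ z ∈ Subgroup.normalizer ((P : Subgroup G) : Set G) ∧ z • Q0 = Q0 := by
  set N := Subgroup.normalizer ((P : Subgroup G) : Set G) with hN
  have h1 : Nat.card (MulAction.stabilizer ↥N Q0) * 20 = Nat.card ↥N := hW.card_stabilizer h Q0 hQ0
  have h8 : 8 ∣ Nat.card ↥N := by
    rw [card_normalizer P]; exact eight_dvd h P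
  have h2 : 2 ∣ Nat.card (MulAction.stabilizer ↥N Q0) := by
    obtain ⟨k, hk⟩ := h8
    rw [hk] at h1
    omega
  obtain ⟨z, hz⟩ := exists_prime_orderOf_dvd_card' (G := MulAction.stabilizer ↥N Q0) 2 h2
  have hz2 : z ^ 2 = 1 := by rw [← hz]; exact pow_orderOf_eq_one _
  have hz1 : z ≠ 1 := by
    intro h1
    rw [h1, orderOf_one] at hz
    norm_num at hz
  refine ⟨((z : ↥N) : G), ?_, ?_, (z : ↥N).2, ?_⟩
  · have := congrArg (fun y : MulAction.stabilizer ↥N Q0 => ((y : ↥N) : G)) hz2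
    simpa using this
  · intro h1
    apply hz1
    apply Subtype.ext
    apply Subtype.ext
    simpa using h1
  · have := z.2
    rw [MulAction.mem_stabilizer_iff] at this
    exact this



omit [Finite G] in
theorem inv_eq_self_of_sq {z : G} (hz2 : z ^ 2 = 1) : z⁻¹ = z := by
  rw [inv_eq_iff_mul_eq_one, ← pow_two]; exact hz2

/-- an involution of the normalizer outside the centralizer inverts `P` -/
theorem inverts (h : Hyp G) (z : G) (hz2 : z ^ 2 = 1)
    (hzN : z ∈ Subgroup.normalizer ((P : Subgroup G) : Set G))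
    (hzC : z ∉ Subgroup.centralizer ((P : Subgroup G) : Set G)) :
    ∀ p ∈ (P : Subgroup G), z * p * z⁻¹ = p⁻¹ := by
  intro p hp
  have hzinv : z⁻¹ = z := inv_eq_self_of_sq hz2
  have hq : z * p * z⁻¹ ∈ (P : Subgroup G) := (Subgroup.mem_normalizer_iff.mp hzN p).mp hp
  have hpq : p * (z * p * z⁻¹) = (z * p * z⁻¹) * p :=
    Subgroup.mem_centralizer_iff.mp (le_centralizer h P hq) p hp
  have hm : p * (z * p * z⁻¹) ∈ (P : Subgroup G) := Subgroup.mul_mem _ hp hq
  have hzq : z * (z * p * z⁻¹) * z⁻¹ = p := by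
    have e : z * (z * p * z⁻¹) * z⁻¹ = (z * z) * p * (z * z)⁻¹ := by group
    rw [e, ← pow_two, hz2]; simp
  have hzm : z * (p * (z * p * z⁻¹)) * z⁻¹ = p * (z * p * z⁻¹) := by
    calc z * (p * (z * p * z⁻¹)) * z⁻¹ = (z * p * z⁻¹) * (z * (z * p * z⁻¹) * z⁻¹) := by group
      _ = (z * p * z⁻¹) * p := by rw [hzq]
      _ = p * (z * p * z⁻¹) := hpq.symm
  by_contra hne
  have hm1 : p * (z * p * z⁻¹) ≠ 1 := fun hm1 => hne (eq_inv_of_mul_eq_one_right hm1)
  apply hzC
  rw [Subgroup.mem_centralizer_iff]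
  intro x hx
  haveI : Fact (Nat.Prime 5) := ⟨by norm_num⟩
  have hmem : (⟨x, hx⟩ : (P : Subgroup G)) ∈ Subgroup.zpowers (⟨p * (z * p * z⁻¹), hm⟩ : (P : Subgroup G)) :=
    mem_zpowers_of_prime_card (hcard h P) (fun h1 => hm1 (congrArg Subtype.val h1))
  obtain ⟨k, hk⟩ := Subgroup.mem_zpowers_iff.mp hmem
  have hk' : (p * (z * p * z⁻¹)) ^ k = x := by
    have := congrArg Subtype.val hk
    simpa using this
  have hcomm : Commute z (p * (z * p * z⁻¹)) := by
    have : z * (p * (z * p * z⁻¹)) = (p * (z * p * z⁻¹)) * z := by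
      calc z * (p * (z * p * z⁻¹)) = (z * (p * (z * p * z⁻¹)) * z⁻¹) * z := by group
        _ = (p * (z * p * z⁻¹)) * z := by rw [hzm]
    exact this
  rw [← hk']
  exact (hcomm.zpow_right k).eq.symm

/-- an involution of the normalizer fixing a second point is not in the centralizer -/
theorem not_mem_centralizer (h : Hyp G) (z : G) (hz2 : z ^ 2 = 1) (hz1 : z ≠ 1)
    (Q0 : Sylow 5 G) (hQ0 : Q0 ≠ P) (hzQ0 : z • Q0 = Q0) :
    z ∉ Subgroup.centralizer ((P : Subgroup G) : Set G) := by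
  intro hzC
  exact hQ0 (eq_of_fx_eq_one P z (fx_involution_centralizer h P z hzC hz2 hz1)
    (smul_self_of_mem_centralizer P z hzC) Q0 hzQ0)

omit [Finite G] in
theorem smul_ne_of_mem_normalizer (n : G) (hn : n ∈ Subgroup.normalizer ((P : Subgroup G) : Set G))
    (Q : Sylow 5 G) (hQ : Q ≠ P) : n • Q ≠ P := by
  intro h1
  apply hQ
  have : Q = n⁻¹ • P := eq_inv_smul_iff.mpr h1
  rw [this]
  exact Sylow.smul_eq_iff_mem_normalizer.mpr (Subgroup.inv_mem _ hn)

/-- the fixed points of an inverting involution meet every `P`-orbit -/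
theorem exists_fixed (h : Hyp G) (z : G) (hz2 : z ^ 2 = 1)
    (hinv : ∀ p ∈ (P : Subgroup G), z * p * z⁻¹ = p⁻¹)
    (Q0 : Sylow 5 G) (hQ0 : Q0 ≠ P) (hzQ0 : z • Q0 = Q0) (hzP : z • P = P)
    (Q : Sylow 5 G) (hQ : Q ≠ P) :
    ∃ a ∈ (P : Subgroup G), ∃ Q' : Sylow 5 G, z • Q' = Q' ∧ Q' ≠ P ∧ Q = a • Q' := by
  classical
  haveI : Fintype (Sylow 5 G) := Fintype.ofFinite _
  let φ : ↥(P : Subgroup G) × {R : Sylow 5 G // z • R = R ∧ R ≠ P} → {R : Sylow 5 G // R ≠ P} :=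
    fun x => ⟨(x.1 : G) • (x.2 : Sylow 5 G),
      smul_ne_of_mem_normalizer _ (Subgroup.le_normalizer x.1.2) _ x.2.2.2⟩
  have hφ : Function.Injective φ := by
    rintro ⟨a, R, hR1, hR2⟩ ⟨a', R', hR1', hR2'⟩ hab
    have h0 : (a : G) • R = (a' : G) • R' := congrArg Subtype.val hab
    have h1 : R' = ((a' : G)⁻¹ * (a : G)) • R := by
      rw [mul_smul, h0, inv_smul_smul]
    have hb : (a' : G)⁻¹ * (a : G) ∈ (P : Subgroup G) :=
      Subgroup.mul_mem _ (Subgroup.inv_mem _ a'.2) a.2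
    -- apply z
    have h2 : z • R' = ((a' : G)⁻¹ * (a : G))⁻¹ • R := by
      rw [h1, ← mul_smul]
      have e : z * ((a' : G)⁻¹ * (a : G)) = (z * ((a' : G)⁻¹ * (a : G)) * z⁻¹) * z := by group
      rw [e, hinv _ hb, mul_smul, hR1]
    rw [hR1', h1] at h2
    have h3 : (((a' : G)⁻¹ * (a : G)) ^ 2) • R = R := by
      rw [pow_two, mul_smul, h2, smul_inv_smul]
    have h4 : ((a' : G)⁻¹ * (a : G)) ^ 2 = 1 :=
      SylFiveC.semireg h P R hR2 _ (Subgroup.pow_mem _ hb 2) h3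
    have h5 : (a' : G)⁻¹ * (a : G) = 1 := eq_one_of_sq h _ hb h4
    have h6 : (a : G) = (a' : G) := (inv_mul_eq_one.mp h5).symm
    have h7 : R' = R := by rw [h1, h5, one_smul]
    exact Prod.ext (Subtype.ext h6) (Subtype.ext h7.symm)
  have hT : Nat.card {R : Sylow 5 G // R ≠ P} = 20 := by
    rw [Nat.card_eq_fintype_card, Fintype.card_subtype_compl,
      Fintype.card_subtype_eq, ← Nat.card_eq_fintype_card, h.hn]
  have hle : Nat.card (↥(P : Subgroup G) × {R : Sylow 5 G // z • R = R ∧ R ≠ P}) ≤ 20 := by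
    rw [← hT]
    exact Nat.card_le_card_of_injective φ hφ
  rw [Nat.card_prod, hcard h P] at hle
  have hfx : fx z = Nat.card {R : Sylow 5 G // z • R = R ∧ R ≠ P} + 1 := by
    unfold fx
    rw [Nat.card_eq_fintype_card, Nat.card_eq_fintype_card, Fintype.card_subtype, Fintype.card_subtype]
    have : (Finset.univ.filter (fun R : Sylow 5 G => z • R = R)) =
        insert P (Finset.univ.filter (fun R : Sylow 5 G => z • R = R ∧ R ≠ P)) := by
      ext R
      by_cases hRP : R = P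
      · simp [hRP, hzP]
      · simp [hRP]
    rw [this, Finset.card_insert_of_notMem (by simp)]
  have hmod := fx_involution h z hz2
  have hpos : 0 < Nat.card {R : Sylow 5 G // z • R = R ∧ R ≠ P} :=
    Nat.card_pos_iff.mpr ⟨⟨⟨Q0, hzQ0, hQ0⟩⟩, inferInstance⟩
  have hF : Nat.card {R : Sylow 5 G // z • R = R ∧ R ≠ P} = 4 := by omega
  have hbij : Function.Bijective φ := by
    rw [Nat.bijective_iff_injective_and_card]
    refine ⟨hφ, ?_⟩
    rw [Nat.card_prod, hcard h P, hF, hT]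
  obtain ⟨⟨a, R⟩, haR⟩ := hbij.2 ⟨Q, hQ⟩
  exact ⟨a, a.2, R, R.2.1, R.2.2, (congrArg Subtype.val haR).symm⟩

/-- the package of facts about the inverting involution -/
structure Inv (P : Sylow 5 G) (z : G) : Prop where
  hz2 : z ^ 2 = 1
  hzN : z ∈ Subgroup.normalizer ((P : Subgroup G) : Set G)
  hinv : ∀ p ∈ (P : Subgroup G), z * p * z⁻¹ = p⁻¹
  horb : ∀ Q : Sylow 5 G, Q ≠ P → ∃ p ∈ (P : Subgroup G), z • Q = p • Q

theorem Four.exists_inv (hW : Four P W) (h : Hyp G) : ∃ z : G, Inv P z := by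
  classical
  haveI : Fintype (Sylow 5 G) := Fintype.ofFinite _
  have hex : ∃ Q0 : Sylow 5 G, Q0 ≠ P := by
    by_contra hcon
    push Not at hcon
    have : Nat.card (Sylow 5 G) ≤ 1 := by
      rw [Nat.card_eq_fintype_card]
      exact Fintype.card_le_one_iff.mpr (fun a b => (hcon a).trans (hcon b).symm)
    rw [h.hn] at this
    omega
  obtain ⟨Q0, hQ0⟩ := hex
  obtain ⟨z, hz2, hz1, hzN, hzQ0⟩ := hW.exists_invol h Q0 hQ0
  have hzC := not_mem_centralizer h z hz2 hz1 Q0 hQ0 hzQ0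
  have hinv := inverts h z hz2 hzN hzC
  have hzP : z • P = P := Sylow.smul_eq_iff_mem_normalizer.mpr hzN
  refine ⟨z, hz2, hzN, hinv, ?_⟩
  intro Q hQ
  obtain ⟨a, ha, Q', hQ'1, hQ'2, rfl⟩ := exists_fixed h z hz2 hinv Q0 hQ0 hzQ0 hzP Q hQ
  refine ⟨a⁻¹ * a⁻¹, Subgroup.mul_mem _ (Subgroup.inv_mem _ ha) (Subgroup.inv_mem _ ha), ?_⟩
  rw [← mul_smul]
  have e : z * a = (z * a * z⁻¹) * z := by group
  rw [e, hinv a ha, mul_smul, hQ'1, ← mul_smul]
  congr 1
  group

end Cfsg.Agent.H1.SylFiveF
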