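import Mathlib
import Cfsg.Agent.H1.SylFiveF

set_option autoImplicit false

namespace Cfsg.Agent.H1.SylFiveF

open SylNumA SylNumB SylNumC SylNumD SylNumE SylFiveA SylFiveB SylFiveC SylFiveD SylFiveE

universe u

variable {G : Type u} [Group G] [Finite G]

omit [Finite G] in
/-- an element of order dividing `5` in the normalizer of `P` lies in `P` -/
theorem mem_of_pow_five (P : Sylow 5 G) (t : G) (ht : t ^ 5 = 1)
    (htN : t ∈ Subgroup.normalizer ((P : Subgroup G) : Set G)) : t ∈ (P : Subgroup G) := by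
  have hp : IsPGroup 5 (Subgroup.zpowers t) := by
    rintro ⟨g, hg⟩
    obtain ⟨k, rfl⟩ := Subgroup.mem_zpowers_iff.mp hg
    refine ⟨1, Subtype.ext ?_⟩
    simp only [pow_one, Subgroup.coe_pow, Subgroup.coe_one]
    rw [← zpow_natCast, ← zpow_mul, mul_comm, zpow_mul, zpow_natCast, ht, one_zpow]
  have h1 : t ∈ Subgroup.zpowers t ⊓ Subgroup.normalizer ((P : Subgroup G) : Set G) :=
    ⟨Subgroup.mem_zpowers t, htN⟩
  have h0 := hp.inf_normalizer_sylow P
  have h2 : t ∈ Subgroup.zpowers t ⊓ (P : Subgroup G) := h0 ▸ h1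
  exact h2.2

variable {P : Sylow 5 G} {W : Subgroup G} {z : G}

omit [Finite G] in
theorem Inv.mul_eq (hz : Inv P z) (x : G) (hx : x ∈ (P : Subgroup G)) : z * x = x⁻¹ * z :=
  mul_inv_eq_iff_eq_mul.mp (hz.hinv x hx)

omit [Finite G] in
theorem Inv.mul_inv_eq (hz : Inv P z) (x : G) (hx : x ∈ (P : Subgroup G)) : z * x⁻¹ = x * z := by
  have := hz.mul_eq x⁻¹ (Subgroup.inv_mem _ hx)
  rwa [inv_inv] at this

omit [Finite G] in
theorem pow_smul_of_commute (t a : G) (hta : Commute t a) (Q : Sylow 5 G) (hQ : t • Q = a • Q) (k : ℕ) :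
    t ^ k • Q = a ^ k • Q := by
  induction k with
  | zero => simp
  | succ k ih =>
    rw [pow_succ', mul_smul, ih, ← mul_smul, (hta.pow_right k).eq, mul_smul, hQ, ← mul_smul, ← pow_succ]

/-- the inverting involution centralizes every involution of the centralizer -/
theorem Inv.conj_eq (hz : Inv P z) (h : Hyp G) (v : G)
    (hvC : v ∈ Subgroup.centralizer ((P : Subgroup G) : Set G)) (hv2 : v ^ 2 = 1) :
    z * v * z⁻¹ = v := by
  have hzinv : z⁻¹ = z := inv_eq_self_of_sq hz.hz2
  have hvinv : v⁻¹ = v := inv_eq_self_of_sq hv2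
  have hvN : v ∈ Subgroup.normalizer ((P : Subgroup G) : Set G) :=
    Subgroup.centralizer_le_normalizer _ hvC
  have hv'C : z * v * z⁻¹ ∈ Subgroup.centralizer ((P : Subgroup G) : Set G) := by
    rw [Subgroup.mem_centralizer_iff]
    intro x hx
    have hc : x⁻¹ * v = v * x⁻¹ := Subgroup.mem_centralizer_iff.mp hvC x⁻¹ (Subgroup.inv_mem _ hx)
    calc x * (z * v * z⁻¹) = (x * z) * v * z⁻¹ := by group
      _ = (z * x⁻¹) * v * z⁻¹ := by rw [hz.mul_inv_eq x hx]
      _ = z * (x⁻¹ * v) * z⁻¹ := by group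
      _ = z * (v * x⁻¹) * z⁻¹ := by rw [hc]
      _ = z * v * (z * x)⁻¹ := by group
      _ = z * v * (x⁻¹ * z)⁻¹ := by rw [hz.mul_eq x hx]
      _ = z * v * z⁻¹ * x := by group
  have htC : z * v * z⁻¹ * v ∈ Subgroup.centralizer ((P : Subgroup G) : Set G) :=
    Subgroup.mul_mem _ hv'C hvC
  have htN : z * v * z⁻¹ * v ∈ Subgroup.normalizer ((P : Subgroup G) : Set G) :=
    Subgroup.centralizer_le_normalizer _ htC
  have horb : ∀ Q : Sylow 5 G, Q ≠ P → ∃ a ∈ (P : Subgroup G), (z * v * z⁻¹ * v) • Q = a • Q := by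
    intro Q hQ
    have hQ1 : v • Q ≠ P := smul_ne_of_mem_normalizer v hvN Q hQ
    obtain ⟨p1, hp1, e1⟩ := hz.horb (v • Q) hQ1
    have hQ2 : p1 • Q ≠ P := smul_ne_of_mem_normalizer p1 (Subgroup.le_normalizer hp1) Q hQ
    obtain ⟨p2, hp2, e2⟩ := hz.horb (p1 • Q) hQ2
    refine ⟨p2 * p1, Subgroup.mul_mem _ hp2 hp1, ?_⟩
    have hc : p1 * v = v * p1 := Subgroup.mem_centralizer_iff.mp hvC p1 hp1
    have hvv : v * v = 1 := by rw [← pow_two]; exact hv2
    calc (z * v * z⁻¹ * v) • Q = z • v • z • v • Q := by rw [hzinv]; simp only [mul_smul]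
      _ = z • v • p1 • v • Q := by rw [e1]
      _ = z • (v * p1 * v) • Q := by simp only [mul_smul]
      _ = z • (p1 * (v * v)) • Q := by rw [← hc]; simp only [mul_assoc]
      _ = z • p1 • Q := by rw [hvv, mul_one]
      _ = p2 • p1 • Q := e2
      _ = (p2 * p1) • Q := by rw [mul_smul]
  have ht5 : (z * v * z⁻¹ * v) ^ 5 = 1 := by
    apply h.hfaith
    intro Q
    by_cases hQ : Q = P
    · rw [hQ]
      exact Sylow.smul_eq_iff_mem_normalizer.mpr (Subgroup.pow_mem _ htN 5)
    · obtain ⟨a, ha, e⟩ := horb Q hQ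
      have hta : Commute (z * v * z⁻¹ * v) a :=
        (Subgroup.mem_centralizer_iff.mp htC a ha).symm
      rw [pow_smul_of_commute _ a hta Q e 5, pow_five_eq_one h P a ha, one_smul]
  have htP : z * v * z⁻¹ * v ∈ (P : Subgroup G) := mem_of_pow_five P _ ht5 htN
  have hsq1 : (z * v * z⁻¹) ^ 2 = 1 := by
    have : (z * v * z⁻¹) ^ 2 = z * v ^ 2 * z⁻¹ := by rw [pow_two, pow_two]; group
    rw [this, hv2]; group
  have hcomm : Commute (z * v * z⁻¹ * v) v :=
    Subgroup.mem_centralizer_iff.mp hvC _ htP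
  have hsq2 : (z * v * z⁻¹ * v) ^ 2 = 1 := by
    have e : z * v * z⁻¹ = (z * v * z⁻¹ * v) * v := by
      rw [mul_assoc (z * v * z⁻¹), ← pow_two, hv2, mul_one]
    have h1 : ((z * v * z⁻¹ * v) * v) ^ 2 = 1 := by rw [← e]; exact hsq1
    rw [hcomm.mul_pow, hv2, mul_one] at h1
    exact h1
  have ht1 : z * v * z⁻¹ * v = 1 := eq_one_of_sq h _ htP hsq2
  have : z * v * z⁻¹ = v⁻¹ := eq_inv_of_mul_eq_one_left ht1
  rw [this, hvinv]

/-- involutions with a unique fixed point -/
def UF (R : Sylow 5 G) (t : G) : Prop := t ^ 2 = 1 ∧ ∀ Q : Sylow 5 G, t • Q = Q ↔ Q = R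

theorem Inv.uf (hz : Inv P z) (hW : Four P W) (h : Hyp G) (p : G) (hp : p ∈ (P : Subgroup G))
    (w : G) (hw : w ∈ W) (hw1 : w ≠ 1) : UF P (z * p * w) := by
  have hzinv : z⁻¹ = z := inv_eq_self_of_sq hz.hz2
  have hwC := hW.hWC hw
  have hwN : w ∈ Subgroup.normalizer ((P : Subgroup G) : Set G) :=
    Subgroup.centralizer_le_normalizer _ hwC
  have hpN : p ∈ Subgroup.normalizer ((P : Subgroup G) : Set G) := Subgroup.le_normalizer hp
  have hzw : Commute z w := by
    have := hz.conj_eq h w hwC (hW.hsq w hw)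
    exact mul_inv_eq_iff_eq_mul.mp this
  have hpw : Commute p w := Subgroup.mem_centralizer_iff.mp hwC p hp
  have hzpw : Commute (z * p) w := hzw.mul_left hpw
  refine ⟨?_, ?_⟩
  · rw [hzpw.mul_pow, hW.hsq w hw, mul_one]
    calc (z * p) ^ 2 = z * p * (z * p) := pow_two _
      _ = z * p * (z⁻¹ * p) := by rw [hzinv]
      _ = (z * p * z⁻¹) * p := by group
      _ = p⁻¹ * p := by rw [hz.hinv p hp]
      _ = 1 := inv_mul_cancel p
  · intro Q
    constructor
    · intro hQ
      by_contra hQP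
      have hQ1 : w • Q ≠ P := smul_ne_of_mem_normalizer w hwN Q hQP
      have hQ2 : p • w • Q ≠ P := smul_ne_of_mem_normalizer p hpN _ hQ1
      obtain ⟨a, ha, e⟩ := hz.horb _ hQ2
      have h1 : ((a * p) * w) • Q = Q := by
        calc ((a * p) * w) • Q = a • p • w • Q := by simp only [mul_smul]
          _ = z • p • w • Q := e.symm
          _ = (z * p * w) • Q := by simp only [mul_smul]
          _ = Q := hQ
      exact hw1 (hW.semireg h (a * p) w (Subgroup.mul_mem _ ha hp) hw Q hQP h1).2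
    · rintro rfl
      exact Sylow.smul_eq_iff_mem_normalizer.mpr
        (Subgroup.mul_mem _ (Subgroup.mul_mem _ hz.hzN hpN) hwN)

/-- at least fifteen involutions have `P` as unique fixed point -/
theorem exists_uf (h : Hyp G) (P : Sylow 5 G)
    (h4 : 4 ∣ Nat.card (Subgroup.centralizer ((P : Subgroup G) : Set G))) :
    ∃ S : Finset G, S.card = 15 ∧ ∀ t ∈ S, UF P t := by
  classical
  obtain ⟨W, hW⟩ := exists_four h P h4
  obtain ⟨z, hz⟩ := hW.exists_inv h
  haveI : Fintype (↥(P : Subgroup G) × {w : ↥W // w ≠ 1}) := Fintype.ofFinite _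
  haveI : Fintype ↥W := Fintype.ofFinite _
  haveI : Fintype (Sylow 5 G) := Fintype.ofFinite _
  obtain ⟨Q0, hQ0⟩ : ∃ Q0 : Sylow 5 G, Q0 ≠ P := by
    by_contra hcon
    push Not at hcon
    have : Nat.card (Sylow 5 G) ≤ 1 := by
      rw [Nat.card_eq_fintype_card]
      exact Fintype.card_le_one_iff.mpr (fun a b => (hcon a).trans (hcon b).symm)
    rw [h.hn] at this
    omega
  let f : ↥(P : Subgroup G) × {w : ↥W // w ≠ 1} → G := fun x => z * (x.1 : G) * ((x.2 : ↥W) : G)
  have hf : Function.Injective f := by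
    rintro ⟨a, b, hb⟩ ⟨a', b', hb'⟩ hab
    have h0 : z * (a : G) * (b : G) = z * (a' : G) * (b' : G) := hab
    have h1 : (a : G) * (b : G) = (a' : G) * (b' : G) := by
      have := congrArg (fun y => z⁻¹ * y) h0
      simpa [mul_assoc] using this
    have hcomm : Commute ((a' : G)⁻¹ * (a : G)) (b' : G)⁻¹ :=
      Subgroup.mem_centralizer_iff.mp (hW.hWC (W.inv_mem b'.2)) _
        (Subgroup.mul_mem _ (Subgroup.inv_mem _ a'.2) a.2)
    have h2 : (((a' : G)⁻¹ * (a : G)) * ((b' : G)⁻¹ * (b : G))) • Q0 = Q0 := by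
      have e : ((a' : G)⁻¹ * (a : G)) * ((b' : G)⁻¹ * (b : G)) = 1 := by
        calc ((a' : G)⁻¹ * (a : G)) * ((b' : G)⁻¹ * (b : G))
            = (((a' : G)⁻¹ * (a : G)) * (b' : G)⁻¹) * (b : G) := by group
          _ = ((b' : G)⁻¹ * ((a' : G)⁻¹ * (a : G))) * (b : G) := by rw [hcomm.eq]
          _ = ((a' : G) * (b' : G))⁻¹ * ((a : G) * (b : G)) := by group
          _ = 1 := by rw [h1]; group
      rw [e, one_smul]
    obtain ⟨e1, e2⟩ := hW.semireg h _ _ (Subgroup.mul_mem _ (Subgroup.inv_mem _ a'.2) a.2)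
      (W.mul_mem (W.inv_mem b'.2) b.2) Q0 hQ0 h2
    rw [inv_mul_eq_one] at e1 e2
    have e3 : a = a' := Subtype.ext e1.symm
    have e4 : b = b' := Subtype.ext e2.symm
    subst e3 e4
    rfl
  refine ⟨Finset.univ.image f, ?_, ?_⟩
  · rw [Finset.card_image_of_injective _ hf, Finset.card_univ, ← Nat.card_eq_fintype_card,
      Nat.card_prod, hcard h P, Nat.card_eq_fintype_card (α := {w : ↥W // w ≠ 1}),
      Fintype.card_subtype_compl, Fintype.card_subtype_eq, ← Nat.card_eq_fintype_card, hW.hW4]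
  · intro t ht
    obtain ⟨⟨a, b, hb⟩, -, rfl⟩ := Finset.mem_image.mp ht
    exact hz.uf hW h a a.2 b b.2 (fun hb1 => hb (Subtype.ext hb1))



/-- the two-point stabilizers have at most `12` elements -/
theorem Four.card_two_point (hW : Four P W) (h : Hyp G) (Q1 : Sylow 5 G) (hQ1 : Q1 ≠ P) :
    Nat.card {g : G // g • P = P ∧ g • Q1 = Q1} ≤ 12 := by
  refine le_trans ?_ (hW.card_stabilizer_le h Q1 hQ1)
  let f : {g : G // g • P = P ∧ g • Q1 = Q1} →
      MulAction.stabilizer ↥(Subgroup.normalizer ((P : Subgroup G) : Set G)) Q1 :=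
    fun g => ⟨⟨g.1, Sylow.smul_eq_iff_mem_normalizer.mp g.2.1⟩, by
      rw [MulAction.mem_stabilizer_iff]; exact g.2.2⟩
  apply Nat.card_le_card_of_injective f
  intro g g' hgg
  apply Subtype.ext
  have := congrArg (fun y : MulAction.stabilizer
    ↥(Subgroup.normalizer ((P : Subgroup G) : Set G)) Q1 => ((y : ↥(Subgroup.normalizer
      ((P : Subgroup G) : Set G))) : G)) hgg
  exact this

/-- the final count -/
theorem final (h : Hyp G)
    (h4 : ∀ P : Sylow 5 G, 4 ∣ Nat.card (Subgroup.centralizer ((P : Subgroup G) : Set G))) :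
    False := by
  classical
  haveI : Fintype G := Fintype.ofFinite _
  haveI : Fintype (Sylow 5 G) := Fintype.ofFinite _
  obtain ⟨P⟩ := (Sylow.nonempty : Nonempty (Sylow 5 G))
  obtain ⟨W, hW⟩ := exists_four h P (h4 P)
  choose S hS15 hSuf using fun R => exists_uf h R (h4 R)
  set s : Finset (Sylow 5 G × G) := Finset.univ.filter (fun x => x.1 ≠ P ∧ UF x.1 x.2) with hs
  set T : Finset (Sylow 5 G) := Finset.univ.filter (fun R => R ≠ P) with hT
  have hTcard : T.card = 20 := by
    rw [hT, ← Fintype.card_subtype, Fintype.card_subtype_compl,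
      Fintype.card_subtype_eq, ← Nat.card_eq_fintype_card, h.hn]
  have hlow : 15 * T.card ≤ s.card := by
    apply Finset.mul_card_image_le_card_of_maps_to (f := Prod.fst)
    · intro x hx
      rw [hs, Finset.mem_filter] at hx
      rw [hT, Finset.mem_filter]
      exact ⟨Finset.mem_univ _, hx.2.1⟩
    · intro R hR
      rw [hT, Finset.mem_filter] at hR
      rw [← hS15 R]
      apply Finset.card_le_card_of_injOn (fun t => (R, t))
      · intro t ht
        rw [Finset.mem_coe, Finset.mem_filter, hs, Finset.mem_filter]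
        exact ⟨⟨Finset.mem_univ _, hR.2, hSuf R t ht⟩, rfl⟩
      · intro t _ t' _ e
        exact (Prod.ext_iff.mp e).2
  have hup : s.card ≤ 12 * T.card := by
    apply Finset.card_le_mul_card_image_of_maps_to (f := fun x => x.2 • P)
    · intro x hx
      rw [hs, Finset.mem_filter] at hx
      rw [hT, Finset.mem_filter]
      refine ⟨Finset.mem_univ _, ?_⟩
      intro hxP
      exact hx.2.1 ((hx.2.2.2 P).mp hxP).symm
    · intro Q1 hQ1
      rw [hT, Finset.mem_filter] at hQ1
      by_cases hne : (s.filter (fun x => x.2 • P = Q1)).Nonempty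
      · obtain ⟨x0, hx0⟩ := hne
        rw [Finset.mem_filter, hs, Finset.mem_filter] at hx0
        have hswap : ∀ t : G, t ^ 2 = 1 → t • P = Q1 → t • Q1 = P := by
          intro t ht2 htP
          rw [← htP, ← mul_smul, ← pow_two, ht2, one_smul]
        have hx0P : x0.2 • P = Q1 := hx0.2
        have hx0Q : x0.2 • Q1 = P := hswap _ hx0.1.2.2.1 hx0P
        have key : ∀ x ∈ s.filter (fun x => x.2 • P = Q1),
            (x0.2⁻¹ * x.2) • P = P ∧ (x0.2⁻¹ * x.2) • Q1 = Q1 := by
          intro x hx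
          rw [Finset.mem_filter, hs, Finset.mem_filter] at hx
          have hxP : x.2 • P = Q1 := hx.2
          have hxQ : x.2 • Q1 = P := hswap _ hx.1.2.2.1 hxP
          constructor
          · rw [mul_smul, hxP, inv_smul_eq_iff, hx0P]
          · rw [mul_smul, hxQ, inv_smul_eq_iff, hx0Q]
        rw [← Nat.card_eq_finsetCard]
        refine le_trans ?_ (hW.card_two_point h Q1 hQ1.2)
        apply Nat.card_le_card_of_injective
          (fun x : ↥(s.filter (fun x => x.2 • P = Q1)) =>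
            (⟨x0.2⁻¹ * x.1.2, key x.1 x.2⟩ : {g : G // g • P = P ∧ g • Q1 = Q1}))
        rintro ⟨x, hx⟩ ⟨y, hy⟩ hxy
        have h1 : x0.2⁻¹ * x.2 = x0.2⁻¹ * y.2 := congrArg Subtype.val hxy
        have h2 : x.2 = y.2 := mul_left_cancel h1
        rw [Finset.mem_filter, hs, Finset.mem_filter] at hx hy
        have h3 : x.2 • x.1 = x.1 := (hx.1.2.2.2 _).mpr rfl
        rw [h2] at h3
        have h4 : x.1 = y.1 := (hy.1.2.2.2 _).mp h3
        exact Subtype.ext (Prod.ext h4 h2)
      · rw [Finset.not_nonempty_iff_eq_empty] at hne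
        rw [hne, Finset.card_empty]
        norm_num
  rw [hTcard] at hlow hup
  omega

/-- a minimal counterexample does not exist -/
theorem no_min (G : Type u) [Group G] [Finite G] (hn : Nat.card (Sylow 5 G) = 21)
    (hmin : MinCE 5 21 G) : False := by
  have h : Hyp G := ⟨hn, faithful_of_min hn hmin, fun M _ hM => eq_top_of_min hn hmin M hM⟩
  apply final h
  intro P
  have hc := card_centralizer_dvd h P
  have h5 : 5 ∣ Nat.card (Subgroup.centralizer ((P : Subgroup G) : Set G)) := by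
    have := Subgroup.card_dvd_of_le (le_centralizer h P)
    rwa [hcard h P] at this
  have hd := relIndex_dvd h P
  have h8 := eight_dvd h P
  have h30 := card_centralizer_ne_30 h P
  have h840 := card_ne_840 h
  have hG := card_eq h P
  set c := Nat.card (Subgroup.centralizer ((P : Subgroup G) : Set G)) with hcdef
  set d := (Subgroup.centralizer ((P : Subgroup G) : Set G)).relIndex
      (Subgroup.normalizer ((P : Subgroup G) : Set G)) with hddef
  have hd' : d = 1 ∨ d = 2 ∨ d = 4 := by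
    have hmem : d ∈ Nat.divisors 4 := Nat.mem_divisors.mpr ⟨hd, by norm_num⟩
    have h44 : Nat.divisors 4 = {1, 2, 4} := by decide
    rw [h44] at hmem
    simpa using hmem
  have hc' : c ∈ ({5, 10, 15, 20, 30, 60} : Finset ℕ) := by
    have hmem : c ∈ Nat.divisors 60 := Nat.mem_divisors.mpr ⟨hc, by norm_num⟩
    have h60 : Nat.divisors 60 = {1, 2, 3, 4, 5, 6, 10, 12, 15, 20, 30, 60} := by decide
    rw [h60] at hmem
    simp only [Finset.mem_insert, Finset.mem_singleton] at hmem ⊢
    rcases hmem with h | h | h | h | h | h | h | h | h | h | h | h <;> rw [h] at h5 <;> omega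
  simp only [Finset.mem_insert, Finset.mem_singleton] at hc'
  rcases hc' with h | h | h | h | h | h
  · rcases hd' with h' | h' | h' <;> rw [h, h'] at h8 <;> omega
  · rcases hd' with h' | h' | h'
    · rw [h, h'] at h8; omega
    · rw [h, h'] at h8; omega
    · exfalso; apply h840; rw [hG, h, h']
  · rcases hd' with h' | h' | h' <;> rw [h, h'] at h8 <;> omega
  · rw [h]; norm_num
  · exact absurd h h30
  · rw [h]; norm_num

/-- **no finite group has exactly 21 Sylow 5-subgroups** -/
theorem main : ∀ (n : ℕ) (G : Type u) [Group G] [Finite G], Nat.card G = n →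
    Nat.card (Sylow 5 G) ≠ 21 := by
  intro n
  induction n using Nat.strong_induction_on with
  | _ n ih =>
    intro G _ _ hG hn
    apply no_min G hn
    intro H _ _ hlt
    exact ih (Nat.card H) (hG ▸ hlt) H rfl

end Cfsg.Agent.H1.SylFiveF
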