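import Mathlib
import Cfsg.Agent.H1.SylowMore
import Cfsg.Agent.H1.CliffordRestrict
import Cfsg.Agent.H2.SylowProduct
import Cfsg.Agent.Lib.Lead.ProdCard

set_option autoImplicit false

namespace Cfsg.Agent.H1

open scoped Pointwise

section
variable {G : Type*} [Group G] [Finite G] {p : ℕ} [Fact p.Prime]

/-- `M ⊓ N = ⊥`, `M`, `N` normal: `(P ⊔ M) ⊓ (P ⊔ N) = P` for a Sylow `p`-subgroup `P`. -/
lemma sylow_sup_inf_sup (P : Sylow p G) (M N : Subgroup G) [M.Normal] [N.Normal]
    (hMN : M ⊓ N = ⊥) :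
    ((P : Subgroup G) ⊔ M) ⊓ ((P : Subgroup G) ⊔ N) = P := by
  apply le_antisymm _ (le_inf le_sup_left le_sup_left)
  obtain ⟨D, hD⟩ : ∃ D, D = M ⊓ ((P : Subgroup G) ⊔ N) := ⟨_, rfl⟩
  have hDp : IsPGroup p D := by
    rintro ⟨d, hd⟩
    rw [hD] at hd
    have hdM : d ∈ M := (Subgroup.mem_inf.1 hd).1
    have hdPN : d ∈ (P : Subgroup G) ⊔ N := (Subgroup.mem_inf.1 hd).2
    rw [← SetLike.mem_coe, Subgroup.mul_normal] at hdPN
    obtain ⟨u, hu, n, hn, rfl⟩ := Set.mem_mul.1 hdPN
    obtain ⟨k, hk⟩ := P.2 ⟨u, hu⟩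
    have hk' : u ^ p ^ k = 1 := by
      have := congrArg Subtype.val hk
      simpa using this
    refine ⟨k, ?_⟩
    apply Subtype.ext
    show (u * n) ^ p ^ k = 1
    have h1 : (u * n) ^ p ^ k ∈ N := by
      rw [← QuotientGroup.eq_one_iff, QuotientGroup.mk_pow, QuotientGroup.mk_mul,
        (QuotientGroup.eq_one_iff n).2 hn, mul_one, ← QuotientGroup.mk_pow, hk']
      rfl
    have h2 : (u * n) ^ p ^ k ∈ M := pow_mem hdM _
    have : (u * n) ^ p ^ k ∈ M ⊓ N := ⟨h2, h1⟩
    rw [hMN] at this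
    exact Subgroup.mem_bot.1 this
  have hPD : (P : Subgroup G) ≤ Subgroup.normalizer (D : Set G) := by
    rw [hD]
    apply le_normalizer_inf
    · rw [Subgroup.normalizer_eq_top]; exact le_top
    · exact le_sup_left.trans Subgroup.le_normalizer
  have hDP : D ≤ (P : Subgroup G) := by
    have h1 : IsPGroup p ((P : Subgroup G) ⊔ D : Subgroup G) :=
      IsPGroup.to_sup_of_normal_right' P.2 hDp hPD
    have h2 := P.is_maximal' h1 le_sup_left
    rw [← h2]; exact le_sup_right
  intro x hx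
  have hx1 := (Subgroup.mem_inf.1 hx).1
  have hx2 := (Subgroup.mem_inf.1 hx).2
  rw [← SetLike.mem_coe, Subgroup.mul_normal] at hx1
  obtain ⟨u, hu, m, hm, rfl⟩ := Set.mem_mul.1 hx1
  have hmD : m ∈ D := by
    rw [hD]
    refine ⟨hm, ?_⟩
    have : m = u⁻¹ * (u * m) := by group
    rw [this]
    exact Subgroup.mul_mem _ (Subgroup.inv_mem _ (Subgroup.mem_sup_left hu)) hx2
  exact mul_mem hu (hDP hmD)

theorem card_sylow_mul_card_sylow_quotient_sup (p : ℕ) [Fact p.Prime] (M N : Subgroup G)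
    [M.Normal] [N.Normal] (hMN : M ⊓ N = ⊥) :
    Nat.card (Sylow p G) * Nat.card (Sylow p (G ⧸ (M ⊔ N))) =
      Nat.card (Sylow p (G ⧸ M)) * Nat.card (Sylow p (G ⧸ N)) := by
  obtain ⟨P⟩ : Nonempty (Sylow p G) := inferInstance
  have h0 : Nat.card (Sylow p G) = (Subgroup.normalizer ((P : Subgroup G) : Set G)).index :=
    Sylow.card_eq_index_normalizer P
  rw [h0, H2.SylProd.card_sylow_quotient (M ⊔ N) P,
    H2.SylProd.card_sylow_quotient M P, H2.SylProd.card_sylow_quotient N P]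
  obtain ⟨H, hH⟩ : ∃ H, H = Subgroup.normalizer ((P : Subgroup G) : Set G) := ⟨_, rfl⟩
  obtain ⟨A, hA⟩ : ∃ A, A = Subgroup.normalizer (((P : Subgroup G) ⊔ M : Subgroup G) : Set G) :=
    ⟨_, rfl⟩
  obtain ⟨B, hB⟩ : ∃ B, B = Subgroup.normalizer (((P : Subgroup G) ⊔ N : Subgroup G) : Set G) :=
    ⟨_, rfl⟩
  obtain ⟨C, hC⟩ : ∃ C, C = Subgroup.normalizer (((P : Subgroup G) ⊔ (M ⊔ N) : Subgroup G) : Set G) :=
    ⟨_, rfl⟩
  rw [← hH, ← hA, ← hB, ← hC]
  have hMtop : ∀ X : Subgroup G, X ≤ Subgroup.normalizer (M : Set G) := by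
    intro X; rw [Subgroup.normalizer_eq_top]; exact le_top
  have hNtop : ∀ X : Subgroup G, X ≤ Subgroup.normalizer (N : Set G) := by
    intro X; rw [Subgroup.normalizer_eq_top]; exact le_top
  have hHA : H ≤ A := by
    rw [hA]; exact le_normalizer_sup H _ _ (le_of_eq hH) (hMtop H)
  have hHB : H ≤ B := by
    rw [hB]; exact le_normalizer_sup H _ _ (le_of_eq hH) (hNtop H)
  have hAC : A ≤ C := by
    rw [hC, ← sup_assoc]; exact le_normalizer_sup A _ _ (le_of_eq hA) (hNtop A)
  have hBC : B ≤ C := by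
    rw [hC, sup_comm M N, ← sup_assoc]; exact le_normalizer_sup B _ _ (le_of_eq hB) (hMtop B)
  have hAB : A ⊓ B = H := by
    apply le_antisymm _ (le_inf hHA hHB)
    have := le_normalizer_inf (A ⊓ B) ((P : Subgroup G) ⊔ M) ((P : Subgroup G) ⊔ N)
      (inf_le_left.trans (le_of_eq hA)) (inf_le_right.trans (le_of_eq hB))
    rw [sylow_sup_inf_sup P M N hMN] at this
    rw [hH]; exact this
  have hMA : M ≤ A := by rw [hA]; exact le_sup_right.trans Subgroup.le_normalizer
  have hNB : N ≤ B := by rw [hB]; exact le_sup_right.trans Subgroup.le_normalizer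
  have hPH : (P : Subgroup G) ≤ H := by rw [hH]; exact Subgroup.le_normalizer
  have hset : (A : Set G) * (B : Set G) = (C : Set G) := by
    apply Set.Subset.antisymm
    · rintro _ ⟨a, ha, b, hb, rfl⟩
      exact mul_mem (hAC ha) (hBC hb)
    · intro g hg
      -- Frattini
      obtain ⟨K, hK⟩ : ∃ K, K = (P : Subgroup G) ⊔ (M ⊔ N) := ⟨_, rfl⟩
      have hgK : K.map (MulAut.conj g).toMonoidHom = K := by
        rw [map_conj_eq_self_iff, hK]; rw [hC] at hg; exact hg
      have hPK : (P : Subgroup G) ≤ K := by rw [hK]; exact le_sup_left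
      have hQK : (P : Subgroup G).map (MulAut.conj g).toMonoidHom ≤ K := by
        rw [← hgK]; exact Subgroup.map_mono hPK
      have hidx : ¬ p ∣ (P : Subgroup G).relIndex K := by
        intro hd
        have := Subgroup.relIndex_mul_index hPK
        exact P.not_dvd_index (this ▸ Dvd.dvd.mul_right hd _)
      obtain ⟨k, hkK, hle⟩ := exists_le_map_conj_of_pgroup K (P : Subgroup G)
        ((P : Subgroup G).map (MulAut.conj g).toMonoidHom) hPK P.2 hidx hQK
        (P.2.map _)
      -- k⁻¹ g normalizes P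
      have hkg : k⁻¹ * g ∈ H := by
        rw [hH]
        apply mem_normalizer_of_map_conj_le
        intro y hy
        obtain ⟨x, hx, rfl⟩ := Subgroup.mem_map.1 hy
        have h1 : (MulAut.conj g).toMonoidHom x ∈ (P : Subgroup G).map (MulAut.conj k).toMonoidHom :=
          hle (Subgroup.mem_map_of_mem _ hx)
        obtain ⟨z, hz, hzx⟩ := Subgroup.mem_map.1 h1
        have : (MulAut.conj (k⁻¹ * g)).toMonoidHom x = z := by
          simp only [MulEquiv.coe_toMonoidHom, MulAut.conj_apply] at hzx ⊢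
          calc k⁻¹ * g * x * (k⁻¹ * g)⁻¹ = k⁻¹ * (g * x * g⁻¹) * k := by group
            _ = k⁻¹ * (k * z * k⁻¹) * k := by rw [hzx]
            _ = z := by group
        rw [this]; exact hz
      -- k = u m n
      rw [hK, ← SetLike.mem_coe, Subgroup.mul_normal] at hkK
      obtain ⟨u, hu, mn, hmn, rfl⟩ := Set.mem_mul.1 hkK
      rw [Subgroup.mul_normal] at hmn
      obtain ⟨m, hm, n, hn, rfl⟩ := Set.mem_mul.1 hmn
      -- g = (u m n) h = u m (n h)
      obtain ⟨h, hh⟩ : ∃ h, h = (u * (m * n))⁻¹ * g := ⟨_, rfl⟩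
      rw [← hh] at hkg
      have hg' : g = (u * m) * (n * h) := by rw [hh]; group
      rw [hg']
      exact Set.mul_mem_mul (mul_mem (hHA (hPH hu)) (hMA hm)) (mul_mem (hNB hn) (hHB hkg))
  have hprod := Lib.Lead.ProdCard.card_mul_card_eq A B
  rw [hset, hAB] at hprod
  have hCc : (C : Set G).ncard = Nat.card C := by
    rw [← Nat.card_coe_set_eq]; rfl
  rw [hCc] at hprod
  -- index * card = |G|
  have e1 := H.index_mul_card
  have e2 := A.index_mul_card
  have e3 := B.index_mul_card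
  have e4 := C.index_mul_card
  have hpos : 0 < Nat.card H * Nat.card C := Nat.mul_pos Nat.card_pos Nat.card_pos
  apply Nat.eq_of_mul_eq_mul_right hpos
  calc H.index * C.index * (Nat.card H * Nat.card C)
      = (H.index * Nat.card H) * (C.index * Nat.card C) := by ring
    _ = (A.index * Nat.card A) * (B.index * Nat.card B) := by rw [e1, e2, e3, e4]
    _ = A.index * B.index * (Nat.card A * Nat.card B) := by ring
    _ = A.index * B.index * (Nat.card H * Nat.card C) := by rw [hprod]; ring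

end

end Cfsg.Agent.H1
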