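import Mathlib
import Cfsg.Agent.H1.Basic
import Cfsg.Agent.H1.Cores
import Cfsg.Agent.H1.CoprimeAction
import Cfsg.Agent.H1.InvolOdd
import Cfsg.Agent.H1.SylowMore

/-! Normal Sylow 2-subgroups from the absence of inverted odd-order elements (helper1). -/

set_option autoImplicit false
open scoped Pointwise commutatorElement

namespace Cfsg.Agent.H1

/-- lifting an inverted odd-order element through a normal 2-subgroup -/
lemma lift_inverted {G : Type*} [Group G] [Finite G] (O : Subgroup G) [hOn : O.Normal] (hO : IsPGroup 2 O)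
    (tq hq : G ⧸ O) (htq : orderOf tq = 2) (hq1 : hq ≠ 1) (hqodd : Odd (orderOf hq))
    (hinv : tq * hq * tq⁻¹ = hq⁻¹) :
    ∃ u h : G, (∃ k : ℕ, orderOf u = 2 ^ k) ∧ h ≠ 1 ∧ Odd (orderOf h) ∧ u * h * u⁻¹ = h⁻¹ := by
  haveI : Fact (Nat.Prime 2) := ⟨Nat.prime_two⟩
  obtain ⟨t, rfl⟩ := QuotientGroup.mk'_surjective O tq
  obtain ⟨h₀, rfl⟩ := QuotientGroup.mk'_surjective O hq
  obtain ⟨π, hπ⟩ : ∃ π : G →* G ⧸ O, π = QuotientGroup.mk' O := ⟨_, rfl⟩
  rw [← hπ] at htq hq1 hqodd hinv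
  have hker : ∀ x : G, π x = 1 ↔ x ∈ O := by
    intro x; rw [hπ]; exact QuotientGroup.eq_one_iff x
  -- make the lift of odd order
  obtain ⟨b, m', hm', hbm⟩ := Nat.exists_eq_two_pow_mul_odd (orderOf_pos h₀).ne'
  obtain ⟨h, hh⟩ : ∃ h, h = h₀ ^ (2 ^ b) := ⟨_, rfl⟩
  have hhord : orderOf h = m' := by
    rw [hh, orderOf_pow_of_dvd (pow_ne_zero _ two_ne_zero) (Dvd.intro _ hbm.symm), hbm,
      Nat.mul_div_cancel_left _ (pow_pos two_pos b)]
  have hhodd : Odd (orderOf h) := hhord ▸ hm'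
  have hπh : π h = (π h₀) ^ (2 ^ b) := by rw [hh, map_pow]
  have hπh1 : π h ≠ 1 := by
    intro h1
    rw [hπh] at h1
    have hd : orderOf (π h₀) ∣ 2 ^ b := orderOf_dvd_of_pow_eq_one h1
    obtain ⟨j, -, hj⟩ := (Nat.dvd_prime_pow Nat.prime_two).mp hd
    rw [hj] at hqodd
    rcases Nat.eq_zero_or_pos j with rfl | hjpos
    · rw [pow_zero, orderOf_eq_one_iff] at hj; exact hq1 hj
    · exact (Nat.not_even_iff_odd.mpr hqodd) ((Nat.even_pow' hjpos.ne').mpr even_two)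
  have hπinv : π t * π h * (π t)⁻¹ = (π h)⁻¹ := by
    rw [hπh, ← conj_pow, hinv, inv_pow]
  have hh1 : h ≠ 1 := fun h1 => hπh1 (by rw [h1, map_one])
  -- t is a 2-element
  have htO : t ^ 2 ∈ O := by
    rw [← hker, map_pow, ← htq, pow_orderOf_eq_one]
  obtain ⟨a, ha⟩ := hO.exists_card_eq
  have ht2 : IsPGroup 2 (Subgroup.zpowers t) := by
    have h1 : (t ^ 2) ^ (2 ^ a) = 1 := by
      have := pow_card_eq_one' (G := O) (x := ⟨t ^ 2, htO⟩)
      rw [ha] at this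
      have := congrArg Subtype.val this
      simpa using this
    rw [← pow_mul, ← pow_succ'] at h1
    obtain ⟨j, -, hj⟩ := (Nat.dvd_prime_pow Nat.prime_two).mp (orderOf_dvd_of_pow_eq_one h1)
    exact IsPGroup.of_card (n := j) (by rw [Nat.card_zpowers, hj])
  have hT : IsPGroup 2 ↥(O ⊔ Subgroup.zpowers t : Subgroup G) := hO.to_sup_of_normal_left ht2
  -- Schur–Zassenhaus conjugacy
  have hHcop : (Nat.card (Subgroup.zpowers h)).Coprime (Nat.card O) := by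
    rw [Nat.card_zpowers, ha]
    exact Nat.Coprime.pow_right _ (Nat.Coprime.symm (Nat.coprime_two_left.mpr hhodd))
  have hOtop : (⊤ : Subgroup G) ≤ Subgroup.normalizer (O : Set G) := by rw [Subgroup.normalizer_eq_top]
  have hB : MulAut.conj t • Subgroup.zpowers h ≤ O ⊔ Subgroup.zpowers h := by
    intro x hx
    rw [mem_conj_smul] at hx
    obtain ⟨j, hj⟩ := Subgroup.mem_zpowers_iff.mp hx
    -- x = t h^j t⁻¹ ≡ h^{-j}
    have hx' : x = t * h ^ j * t⁻¹ := by rw [hj]; group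
    have h1 : π (x * h ^ j) = 1 := by
      rw [hx', map_mul, map_mul, map_mul, map_zpow, map_inv, ← conj_zpow, hπinv, inv_zpow, inv_mul_cancel]
    have h2 : x * h ^ j ∈ O := (hker _).mp h1
    have e : x = (x * h ^ j) * (h ^ j)⁻¹ := by group
    rw [e]
    exact mul_mem (Subgroup.mem_sup_left h2) (Subgroup.mem_sup_right (inv_mem (Subgroup.zpow_mem_zpowers h j)))
  obtain ⟨n, hn, hnH⟩ := coprime_conj (Subgroup.zpowers h) O (MulAut.conj t • Subgroup.zpowers h)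
    (le_top.trans hOtop) hHcop (Or.inl inferInstance) hB (card_conj_smul _ _)
  refine ⟨n⁻¹ * t, h, ?_, hh1, hhodd, ?_⟩
  · have hu : n⁻¹ * t ∈ O ⊔ Subgroup.zpowers t :=
      mul_mem (Subgroup.mem_sup_left (inv_mem hn)) (Subgroup.mem_sup_right (Subgroup.mem_zpowers t))
    obtain ⟨k, hk⟩ := hT ⟨n⁻¹ * t, hu⟩
    have hk' : (n⁻¹ * t) ^ 2 ^ k = 1 := by
      have := congrArg Subtype.val hk
      simpa using this
    obtain ⟨j, -, hj⟩ := (Nat.dvd_prime_pow Nat.prime_two).mp (orderOf_dvd_of_pow_eq_one hk')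
    exact ⟨j, hj⟩
  · -- u normalizes ⟨h⟩
    have hfix : MulAut.conj (n⁻¹ * t) • Subgroup.zpowers h = Subgroup.zpowers h := by
      rw [map_mul, mul_smul, ← hnH, ← mul_smul, ← map_mul, inv_mul_cancel, map_one, one_smul]
    have h1 : (n⁻¹ * t) * h * (n⁻¹ * t)⁻¹ ∈ Subgroup.zpowers h := by
      have : (n⁻¹ * t) * h * (n⁻¹ * t)⁻¹ ∈ MulAut.conj (n⁻¹ * t) • Subgroup.zpowers h :=
        (conj_mem_conj_smul _ _ _).mpr (Subgroup.mem_zpowers h)
      rwa [hfix] at this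
    have h2 : (n⁻¹ * t) * h * (n⁻¹ * t)⁻¹ * h ∈ Subgroup.zpowers h := mul_mem h1 (Subgroup.mem_zpowers h)
    have h3 : (n⁻¹ * t) * h * (n⁻¹ * t)⁻¹ * h ∈ O := by
      rw [← hker]
      have hn1 : π n = 1 := (hker n).mpr hn
      simp only [map_mul, map_inv, hn1, inv_one, one_mul]
      rw [hπinv, inv_mul_cancel]
    have hdisj : Subgroup.zpowers h ⊓ O = ⊥ := (Subgroup.disjoint_of_coprime_natCard hHcop).eq_bot
    have h4 : (n⁻¹ * t) * h * (n⁻¹ * t)⁻¹ * h ∈ Subgroup.zpowers h ⊓ O := Subgroup.mem_inf.mpr ⟨h2, h3⟩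
    rw [hdisj, Subgroup.mem_bot] at h4
    exact eq_inv_of_mul_eq_one_left h4

/-- if no 2-element inverts a nontrivial element of odd order, the Sylow 2-subgroup is normal -/
theorem sylow_two_normal_of_no_inversion {G : Type*} [Group G] [Finite G]
    (hyp : ∀ u h : G, (∃ k : ℕ, orderOf u = 2 ^ k) → Odd (orderOf h) → u * h * u⁻¹ = h⁻¹ → h = 1)
    (P : Sylow 2 G) : (P : Subgroup G).Normal := by
  haveI : Fact (Nat.Prime 2) := ⟨Nat.prime_two⟩
  have hOp : IsPGroup 2 (Cfsg.pCore 2 G) := pCore_isPGroup 2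
  have hodd : ¬ 2 ∣ Nat.card (G ⧸ Cfsg.pCore 2 G) := by
    intro hdvd
    obtain ⟨tq, htq⟩ := exists_prime_orderOf_dvd_card' 2 hdvd
    have hnot : ∀ N : Subgroup (G ⧸ Cfsg.pCore 2 G), N.Normal → IsPGroup 2 N → tq ∉ N := by
      intro N hNn hNp htN
      have h1 : IsPGroup 2 (N.comap (QuotientGroup.mk' (Cfsg.pCore 2 G))) := by
        apply hNp.comap_of_ker_isPGroup
        rw [QuotientGroup.ker_mk']; exact hOp
      have h2 : N.comap (QuotientGroup.mk' (Cfsg.pCore 2 G)) ≤ Cfsg.pCore 2 G := le_pCore (hNn.comap _) h1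
      obtain ⟨t, rfl⟩ := QuotientGroup.mk'_surjective _ tq
      have h3 : t ∈ Cfsg.pCore 2 G := h2 htN
      have h4 : QuotientGroup.mk' (Cfsg.pCore 2 G) t = 1 := (QuotientGroup.eq_one_iff t).mpr h3
      rw [h4, orderOf_one] at htq
      omega
    obtain ⟨hq, hq1, hqodd, hinv⟩ := invol_inverts_odd tq htq hnot
    obtain ⟨u, h, hu, hh1, hhodd, huh⟩ := lift_inverted (Cfsg.pCore 2 G) hOp tq hq htq hq1 hqodd hinv
    exact hh1 (hyp u h hu hhodd huh)
  -- O is a Sylow 2-subgroup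
  have hle : Cfsg.pCore 2 G ≤ P := pCore_le_sylow P
  have heq : Cfsg.pCore 2 G = P := by
    apply Subgroup.eq_of_le_of_card_ge hle
    have h1 := Subgroup.card_eq_card_quotient_mul_card_subgroup (Cfsg.pCore 2 G)
    obtain ⟨a, ha⟩ := hOp.exists_card_eq
    obtain ⟨b, hb⟩ := P.isPGroup'.exists_card_eq
    have h2 : Nat.card P ∣ Nat.card G := Subgroup.card_subgroup_dvd_card _
    rw [h1, hb] at h2
    have h3 : (2 ^ b).Coprime (Nat.card (G ⧸ Cfsg.pCore 2 G)) :=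
      Nat.Coprime.pow_left _ ((Nat.Prime.coprime_iff_not_dvd Nat.prime_two).mpr hodd)
    have h4 : 2 ^ b ∣ Nat.card (Cfsg.pCore 2 G) := h3.dvd_of_dvd_mul_left h2
    rw [hb]
    exact Nat.le_of_dvd Nat.card_pos h4
  rw [← heq]
  infer_instance

lemma eq_one_of_mul_self_of_odd {G : Type*} [Group G] (h : G) (hodd : Odd (orderOf h)) (h2 : h * h = 1) : h = 1 := by
  have hd : orderOf h ∣ 2 := orderOf_dvd_of_pow_eq_one (by rw [pow_two]; exact h2)
  rcases (Nat.dvd_prime Nat.prime_two).mp hd with h1 | h1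
  · exact orderOf_eq_one_iff.mp h1
  · rw [h1] at hodd; exact absurd hodd (by decide)

lemma mem_of_two_pow_order_of_odd_relIndex {G : Type*} [Group G] [Finite G] (C N : Subgroup G)
    [hn : (C.subgroupOf N).Normal] (hodd : ¬ 2 ∣ C.relIndex N) (u : G) (huN : u ∈ N)
    (hu : ∃ k : ℕ, orderOf u = 2 ^ k) : u ∈ C := by
  obtain ⟨k, hk⟩ := hu
  have h1 : (QuotientGroup.mk' (C.subgroupOf N) ⟨u, huN⟩) ^ (2 ^ k) = 1 := by
    rw [← map_pow]
    have : (⟨u, huN⟩ : N) ^ (2 ^ k) = 1 := by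
      apply Subtype.ext
      simp only [Subgroup.coe_pow, Subgroup.coe_one]
      rw [← hk]; exact pow_orderOf_eq_one u
    rw [this, map_one]
  have h2 : orderOf (QuotientGroup.mk' (C.subgroupOf N) ⟨u, huN⟩) ∣ 2 ^ k := orderOf_dvd_of_pow_eq_one h1
  have h3 : orderOf (QuotientGroup.mk' (C.subgroupOf N) ⟨u, huN⟩) ∣ C.relIndex N := by
    rw [Subgroup.relIndex, Subgroup.index_eq_card]
    exact orderOf_dvd_natCard _
  obtain ⟨j, -, hj⟩ := (Nat.dvd_prime_pow Nat.prime_two).mp h2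
  rcases Nat.eq_zero_or_pos j with rfl | hjpos
  · rw [pow_zero, orderOf_eq_one_iff] at hj
    have := (QuotientGroup.eq_one_iff _).mp hj
    exact Subgroup.mem_subgroupOf.mp this
  · exfalso
    apply hodd
    rw [hj] at h3
    exact (dvd_pow_self 2 hjpos.ne').trans h3

lemma conj_pow_odd_inverts {G : Type*} [Group G] (g x : G) (hg : g * x * g⁻¹ = x⁻¹) (m : ℕ) (hm : Odd m) :
    g ^ m * x * (g ^ m)⁻¹ = x⁻¹ := by
  obtain ⟨i, rfl⟩ := hm
  have h2 : Commute (g ^ 2) x := by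
    have : g ^ 2 * x * (g ^ 2)⁻¹ = x := by
      calc g ^ 2 * x * (g ^ 2)⁻¹ = g * (g * x * g⁻¹) * g⁻¹ := by rw [pow_two]; group
        _ = g * x⁻¹ * g⁻¹ := by rw [hg]
        _ = (g * x * g⁻¹)⁻¹ := by group
        _ = x := by rw [hg, inv_inv]
    exact mul_inv_eq_iff_eq_mul.mp this
  have h3 : Commute ((g ^ 2) ^ i) x⁻¹ := (h2.pow_left i).inv_right
  calc g ^ (2 * i + 1) * x * (g ^ (2 * i + 1))⁻¹ = (g ^ 2) ^ i * (g * x * g⁻¹) * ((g ^ 2) ^ i)⁻¹ := by
        rw [pow_succ, pow_mul]; group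
    _ = (g ^ 2) ^ i * x⁻¹ * ((g ^ 2) ^ i)⁻¹ := by rw [hg]
    _ = x⁻¹ := by rw [h3.eq, mul_inv_cancel_right]

end Cfsg.Agent.H1
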