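import Mathlib
import Cfsg.Agent.H1.SylowMore
import Cfsg.Agent.H1.ConjMap

set_option autoImplicit false
set_option linter.unusedVariables false
set_option linter.unusedSectionVars false
set_option linter.style.haveILetI false

namespace Cfsg.Agent.H1

universe u

section sylowUniqueMax
variable {G : Type u} [Group G] [Finite G] {r : ℕ} [hr : Fact r.Prime]

lemma isCoatom_map_conj (g : G) {M : Subgroup G} (hM : IsCoatom M) :
    IsCoatom (M.map (MulAut.conj g).toMonoidHom) :=
  ((MulAut.conj g).mapSubgroup.isCoatom_iff (a := M)).2 hM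

/-- a subgroup of `r'`-index contains a conjugate of each Sylow `r`-subgroup -/
lemma exists_sylow_le_map_conj (R : Sylow r G) (M : Subgroup G) (hM : ¬ r ∣ M.index) :
    ∃ g : G, (R : Subgroup G) ≤ M.map (MulAut.conj g).toMonoidHom := by
  obtain ⟨S⟩ : Nonempty (Sylow r ↥M) := inferInstance
  have hSp : IsPGroup r ↥((S : Subgroup ↥M).map M.subtype) := S.isPGroup'.map _
  have hidx : ¬ r ∣ ((S : Subgroup ↥M).map M.subtype).relIndex ⊤ := by
    rw [Subgroup.relIndex_top_right, Subgroup.index_map_subtype]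
    intro h
    rcases (Nat.Prime.dvd_mul hr.out).1 h with h | h
    · exact S.not_dvd_index h
    · exact hM h
  obtain ⟨k, -, hk⟩ := exists_le_map_conj_of_pgroup ⊤ _ (R : Subgroup G) le_top hSp hidx le_top R.isPGroup'
  exact ⟨k, hk.trans (Subgroup.map_mono (Subgroup.map_subtype_le _))⟩

/-- a simple nilpotent group is commutative -/
lemma isMulCommutative_of_simple_of_pgroup {T : Type*} [Group T] [Finite T] (hT : IsSimpleGroup T)
    (hp : IsPGroup r T) : IsMulCommutative T := by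
  haveI := hT
  haveI : Nontrivial T := IsSimpleGroup.toNontrivial
  have h1 : Subgroup.center T ≠ ⊥ := by
    haveI := hp.center_nontrivial
    exact (Subgroup.nontrivial_iff_ne_bot _).1 inferInstance
  have h2 : Subgroup.center T = ⊤ :=
    (hT.eq_bot_or_eq_top_of_normal _ inferInstance).resolve_left h1
  exact ⟨⟨fun a b => (Subgroup.mem_center_iff.1 (h2 ▸ Subgroup.mem_top b) a)⟩⟩

/-- **Sylow subgroup in a unique maximal subgroup.** If the Sylow `r`-subgroup `R` is not normal, then `R` lies in a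
unique maximal subgroup iff the maximal subgroups of `r'`-index form one conjugacy class. -/
theorem sylow_unique_coatom_iff (R : Sylow r G)
    (hRn : Subgroup.normalizer ((R : Subgroup G) : Set G) ≠ ⊤) :
    (∃! M : Subgroup G, IsCoatom M ∧ (R : Subgroup G) ≤ M) ↔
      ((∃ M : Subgroup G, IsCoatom M ∧ ¬ r ∣ M.index) ∧
        ∀ M₁ M₂ : Subgroup G, IsCoatom M₁ → ¬ r ∣ M₁.index → IsCoatom M₂ → ¬ r ∣ M₂.index →
          ∃ g : G, M₂ = M₁.map (MulAut.conj g).toMonoidHom) := by
  have hA : ∀ M : Subgroup G, (R : Subgroup G) ≤ M → ¬ r ∣ M.index := by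
    intro M hRM h
    exact R.not_dvd_index (h.trans (Subgroup.index_dvd_of_le hRM))
  constructor
  · rintro ⟨M, ⟨hM, hRM⟩, huniq⟩
    refine ⟨⟨M, hM, hA M hRM⟩, ?_⟩
    intro M₁ M₂ hM₁ hr₁ hM₂ hr₂
    obtain ⟨g₁, hg₁⟩ := exists_sylow_le_map_conj R M₁ hr₁
    obtain ⟨g₂, hg₂⟩ := exists_sylow_le_map_conj R M₂ hr₂
    have e₁ := huniq _ ⟨isCoatom_map_conj g₁ hM₁, hg₁⟩
    have e₂ := huniq _ ⟨isCoatom_map_conj g₂ hM₂, hg₂⟩
    refine ⟨g₂⁻¹ * g₁, ?_⟩
    rw [← map_conj_map_conj, e₁, ← e₂, map_conj_map_conj, inv_mul_cancel, map_conj_one]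
  · rintro ⟨-, hconj⟩
    obtain ⟨M₃, hM₃, hNM₃⟩ := (eq_top_or_exists_le_coatom _).resolve_left hRn
    have hRM₃ : (R : Subgroup G) ≤ M₃ := Subgroup.le_normalizer.trans hNM₃
    refine ⟨M₃, ⟨hM₃, hRM₃⟩, ?_⟩
    rintro M ⟨hM, hRM⟩
    obtain ⟨g, hg⟩ := hconj M₃ M hM₃ (hA _ hRM₃) hM (hA _ hRM)
    have h1 : (R : Subgroup G).map (MulAut.conj g⁻¹).toMonoidHom ≤ M₃ := by
      have := Subgroup.map_mono (f := (MulAut.conj g⁻¹).toMonoidHom) hRM
      rw [hg, map_conj_map_conj, inv_mul_cancel, map_conj_one] at this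
      exact this
    have hidx : ¬ r ∣ (R : Subgroup G).relIndex M₃ := by
      intro h
      exact R.not_dvd_index (h.trans (Subgroup.relIndex_dvd_index_of_le hRM₃))
    obtain ⟨k, hk, hle⟩ := exists_le_map_conj_of_pgroup M₃ (R : Subgroup G) _ hRM₃ R.isPGroup' hidx h1
      (R.isPGroup'.map _)
    have h2 : (R : Subgroup G).map (MulAut.conj (k⁻¹ * g⁻¹)).toMonoidHom ≤ (R : Subgroup G) := by
      have := Subgroup.map_mono (f := (MulAut.conj k⁻¹).toMonoidHom) hle
      rw [map_conj_map_conj, map_conj_map_conj, inv_mul_cancel, map_conj_one] at this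
      exact this
    have h3 : k⁻¹ * g⁻¹ ∈ M₃ := hNM₃ (mem_normalizer_of_map_conj_le _ _ h2)
    have h4 : g ∈ M₃ := by
      have : g⁻¹ ∈ M₃ := by
        have := M₃.mul_mem hk h3
        simpa using this
      simpa using M₃.inv_mem this
    rw [hg, map_conj_of_mem M₃ g h4]

end sylowUniqueMax

end Cfsg.Agent.H1
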