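import Mathlib
import Cfsg.Agent.H1.SylowMore
import Cfsg.Agent.Lib.Lead.TISylow

set_option autoImplicit false

namespace Cfsg.Agent.H1

open scoped Pointwise
open Cfsg.Agent.Lib.Lead.TISylow

/-- TI Sylow subgroups pass to arbitrary quotients. -/
theorem ti_sylow_quotient {G : Type*} [Group G] [Finite G] (p : ℕ) [Fact p.Prime] (P : Sylow p G)
    (hTI : ∀ g : G, g ∉ Subgroup.normalizer ((P : Subgroup G) : Set G) →
      (P : Subgroup G) ⊓ (MulAut.conj g • (P : Subgroup G)) = ⊥)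
    (N : Subgroup G) [N.Normal] (Q : Sylow p (G ⧸ N)) :
    ∀ x : G ⧸ N, x ∉ Subgroup.normalizer ((Q : Subgroup (G ⧸ N)) : Set (G ⧸ N)) →
      (Q : Subgroup (G ⧸ N)) ⊓ (MulAut.conj x • (Q : Subgroup (G ⧸ N))) = ⊥ := by
  have hall := ti_all P hTI
  apply ti_of_all Q
  intro R hne
  have hsurj := QuotientGroup.mk'_surjective N
  obtain ⟨S₁, hS₁⟩ := Sylow.mapSurjective_surjective hsurj p Q
  obtain ⟨S₂, hS₂⟩ := Sylow.mapSurjective_surjective hsurj p R
  have hQ : (Q : Subgroup (G ⧸ N)) = (S₁ : Subgroup G).map (QuotientGroup.mk' N) := by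
    rw [← hS₁]; rfl
  have hR : (R : Subgroup (G ⧸ N)) = (S₂ : Subgroup G).map (QuotientGroup.mk' N) := by
    rw [← hS₂]; rfl
  by_contra hbot
  obtain ⟨⟨y, hy⟩, hy0⟩ := (Subgroup.ne_bot_iff_exists_ne_one).1 hbot
  have hy1 : y ≠ 1 := fun h => hy0 (Subtype.ext h)
  have hyQ := (Subgroup.mem_inf.1 hy).1
  have hyR := (Subgroup.mem_inf.1 hy).2
  rw [hQ] at hyQ
  rw [hR] at hyR
  obtain ⟨a, ha, hay⟩ := Subgroup.mem_map.1 hyQ
  obtain ⟨b, hb, hby⟩ := Subgroup.mem_map.1 hyR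
  have hb1 : b ≠ 1 := by
    rintro rfl
    apply hy1
    rw [← hby]; exact map_one _
  have hbK : b ∈ (S₁ : Subgroup G) ⊔ N := by
    have h1 : a⁻¹ * b ∈ N := by
      rw [← QuotientGroup.eq_one_iff]
      have : ((a⁻¹ * b : G) : G ⧸ N) = (QuotientGroup.mk' N a)⁻¹ * QuotientGroup.mk' N b := by
        simp
      rw [this, hay, hby, inv_mul_cancel]
    have : b = a * (a⁻¹ * b) := by group
    rw [this]
    exact Subgroup.mul_mem _ (Subgroup.mem_sup_left ha) (Subgroup.mem_sup_right h1)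
  have hidx : ¬ p ∣ (S₁ : Subgroup G).relIndex ((S₁ : Subgroup G) ⊔ N) := by
    intro hd
    have := Subgroup.relIndex_mul_index (le_sup_left : (S₁ : Subgroup G) ≤ (S₁ : Subgroup G) ⊔ N)
    exact S₁.not_dvd_index (this ▸ Dvd.dvd.mul_right hd _)
  obtain ⟨k, hkK, hle⟩ := exists_le_map_conj_of_pgroup ((S₁ : Subgroup G) ⊔ N) (S₁ : Subgroup G)
    (Subgroup.zpowers b) le_sup_left S₁.2 hidx ((Subgroup.zpowers_le).2 hbK)
    (S₂.2.to_le ((Subgroup.zpowers_le).2 hb))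
  have hbk : b ∈ ((k • S₁ : Sylow p G) : Subgroup G) := by
    apply (Cfsg.Agent.Lib.Lead.TISylow.mem_sylow_smul S₁ k b).2
    obtain ⟨z, hz, hzb⟩ := Subgroup.mem_map.1 (hle (Subgroup.mem_zpowers b))
    simp only [MulEquiv.coe_toMonoidHom, MulAut.conj_apply] at hzb
    rw [← hzb]
    have : k⁻¹ * (k * z * k⁻¹) * k = z := by group
    rw [this]; exact hz
  have hS : k • S₁ = S₂ := by
    by_contra hne'
    have h0 := hall _ _ hne'
    have : b ∈ ((k • S₁ : Sylow p G) : Subgroup G) ⊓ (S₂ : Subgroup G) := ⟨hbk, hb⟩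
    rw [h0] at this
    exact hb1 (Subgroup.mem_bot.1 this)
  have hkQ : QuotientGroup.mk' N k ∈ (Q : Subgroup (G ⧸ N)) := by
    rw [hQ]
    have : ((S₁ : Subgroup G) ⊔ N).map (QuotientGroup.mk' N) = (S₁ : Subgroup G).map (QuotientGroup.mk' N) := by
      rw [Subgroup.map_sup]
      have : N.map (QuotientGroup.mk' N) = ⊥ := by
        rw [← le_bot_iff, Subgroup.map_le_iff_le_comap]
        intro n hn
        rw [Subgroup.mem_comap, Subgroup.mem_bot]
        exact (QuotientGroup.eq_one_iff n).2 hn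
      rw [this, sup_bot_eq]
    rw [← this]
    exact Subgroup.mem_map_of_mem _ hkK
  have hRQ : (R : Subgroup (G ⧸ N)) ≤ (Q : Subgroup (G ⧸ N)) := by
    intro r hr
    rw [hR] at hr
    obtain ⟨s, hs, rfl⟩ := Subgroup.mem_map.1 hr
    rw [← hS] at hs
    replace hs := (Cfsg.Agent.Lib.Lead.TISylow.mem_sylow_smul S₁ k s).1 hs
    have h1 : QuotientGroup.mk' N (k⁻¹ * s * k) ∈ (Q : Subgroup (G ⧸ N)) := by
      rw [hQ]; exact Subgroup.mem_map_of_mem _ hs
    have h2 : QuotientGroup.mk' N s = QuotientGroup.mk' N k * QuotientGroup.mk' N (k⁻¹ * s * k) *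
        (QuotientGroup.mk' N k)⁻¹ := by
      rw [← map_inv, ← map_mul, ← map_mul]
      congr 1; group
    rw [h2]
    exact Subgroup.mul_mem _ (Subgroup.mul_mem _ hkQ h1) (Subgroup.inv_mem _ hkQ)
  exact hne (Sylow.ext (R.is_maximal' Q.2 hRQ)).symm |>.elim

end Cfsg.Agent.H1
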