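import Mathlib
import Cfsg.Prelude.Def_Transfer
import Cfsg.Prelude.Def_PLocal
import Cfsg.Agent.S0608
import Cfsg.Agent.S0601
import Cfsg.Agent.S0607
import Cfsg.Agent.H1.QuadStable5

set_option autoImplicit false
set_option linter.style.haveILetI false
set_option linter.unusedVariables false
set_option linter.unusedSectionVars false

open scoped commutatorElement Pointwise

namespace Cfsg.Agent.H1

section tf
variable {G : Type*} [Group G] [Finite G] {p : ℕ} [Fact p.Prime]

/-- if `G` acts `p`-stably on the normal elementary abelian `V` and `O_p(G/C_G(V)) = 1` then `J(G)` centralizes `V` -/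
theorem thompsonSubgroup_le_centralizer_of_pStable (V : Subgroup G) [V.Normal]
    (hV : Cfsg.IsElementaryAbelian p V) (hst : Cfsg.IsPStableOn p V)
    (hO : Cfsg.pCore p (G ⧸ Subgroup.centralizer (V : Set G)) = ⊥) :
    Cfsg.thompsonSubgroup p G ≤ Subgroup.centralizer (V : Set G) := by
  unfold Cfsg.thompsonSubgroup
  rw [sSup_le_iff]
  intro A hA
  obtain ⟨hA₀, hquad, hnt⟩ := Cfsg.Agent.S0607.result V hV A hA
  have hVA : ⁅V, A⁆ = ⊥ := by
    by_contra hne
    apply hnt hne
    rw [Subgroup.commutator_eq_bot_iff_le_centralizer]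
    intro v hv
    rw [Subgroup.mem_centralizer_iff]
    intro a ha
    have hq : ⁅⁅V, Subgroup.zpowers a⁆, Subgroup.zpowers a⁆ = ⊥ := by
      rw [eq_bot_iff, ← hquad]
      have hz : Subgroup.zpowers a ≤ ⁅V, A⁆ ⊔ A ⊓ Subgroup.centralizer ((⁅V, A⁆ : Subgroup G) : Set G) := by
        rw [Subgroup.zpowers_le]; exact ha
      exact Subgroup.commutator_mono (Subgroup.commutator_mono le_rfl hz) hz
    have h1 := hst a hq
    rw [hO, Subgroup.mem_bot, QuotientGroup.eq_one_iff] at h1
    exact (Subgroup.mem_centralizer_iff.mp h1 v hv).symm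
  rw [Subgroup.commutator_eq_bot_iff_le_centralizer] at hVA
  intro a ha
  rw [Subgroup.mem_centralizer_iff]
  intro v hv
  exact (Subgroup.mem_centralizer_iff.mp (hVA hv) a ha).symm

theorem pCore_quotient_centralizer_eq_bot (V : Subgroup G) [V.Normal]
    (hD : ∀ D : Subgroup G, D.Normal → Subgroup.centralizer (V : Set G) ≤ D →
      (∃ k : ℕ, (Subgroup.centralizer (V : Set G)).relIndex D = p ^ k) → D = Subgroup.centralizer (V : Set G)) :
    Cfsg.pCore p (G ⧸ Subgroup.centralizer (V : Set G)) = ⊥ := by
  obtain ⟨f, hf⟩ : ∃ f : G →* G ⧸ Subgroup.centralizer (V : Set G), f = QuotientGroup.mk' _ := ⟨_, rfl⟩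
  have hfs : Function.Surjective f := by rw [hf]; exact QuotientGroup.mk'_surjective _
  have hker : f.ker = Subgroup.centralizer (V : Set G) := by rw [hf, QuotientGroup.ker_mk']
  haveI : (Cfsg.pCore p (G ⧸ Subgroup.centralizer (V : Set G))).Normal := pCore_normal p
  have h1 := hD ((Cfsg.pCore p (G ⧸ Subgroup.centralizer (V : Set G))).comap f) inferInstance
    (by
      intro x hx
      have hx' : x ∈ f.ker := by rw [hker]; exact hx
      rw [Subgroup.mem_comap, MonoidHom.mem_ker.mp hx']
      exact one_mem _)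
    (by
      have e : (Subgroup.centralizer (V : Set G)).relIndex
          ((Cfsg.pCore p (G ⧸ Subgroup.centralizer (V : Set G))).comap f) =
          f.ker.relIndex ((Cfsg.pCore p (G ⧸ Subgroup.centralizer (V : Set G))).comap f) := by
        rw [hker]
      rw [e, Subgroup.relIndex_ker, Subgroup.map_comap_eq_self_of_surjective hfs]
      exact IsPGroup.iff_card.mp (pCore_isPGroup p))
  have h2 := congrArg (Subgroup.map f) h1
  rw [Subgroup.map_comap_eq_self_of_surjective hfs] at h2
  rw [h2]
  exact (Subgroup.map_eq_bot_iff _).mpr (le_of_eq hker.symm)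

end tf

end Cfsg.Agent.H1
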