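import Mathlib

set_option autoImplicit false

namespace Cfsg.Agent.H1.ThreeOrbAlg

open Polynomial



theorem ringHom_aeval {p : ℕ} {E : Type*} [Field E] [Algebra (ZMod p) E]
    (α : E →+* E) (ζ : E) (g : (ZMod p)[X]) : α (aeval ζ g) = aeval (α ζ) g := by
  rw [aeval_def, aeval_def, hom_eval₂]
  congr 1
  exact Subsingleton.elim _ _

theorem field_lemma {p q : ℕ} [hp : Fact p.Prime] [hq : Fact q.Prime] (hpq : p ≠ q)
    {E : Type*} [Field E] [Finite E] [Algebra (ZMod p) E] (ζ : E)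
    (hgen : ∀ u : E, ∃ g : (ZMod p)[X], aeval ζ g = u)
    (hζq : ζ ^ q = 1) (hζ1 : ζ ≠ 1)
    (hα : ∀ k, 0 < k → k < q → ∃ α : E →+* E, α ζ = ζ ^ k) :
    q - 1 ≤ orderOf (p : ZMod q) := by
  classical
  haveI : Fintype E := Fintype.ofFinite E
  haveI : CharP E p := charP_of_injective_algebraMap (algebraMap (ZMod p) E).injective p
  have hoz : orderOf ζ = q := orderOf_eq_prime hζq hζ1
  set d := orderOf (p : ZMod q) with hd
  have hp0 : (p : ZMod q) ≠ 0 := by
    intro h
    rw [ZMod.natCast_eq_zero_iff] at h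
    exact hpq ((Nat.prime_dvd_prime_iff_eq hq.out hp.out).mp h).symm
  have hdpos : 0 < d := by
    rw [hd, orderOf_pos_iff]
    rw [isOfFinOrder_iff_pow_eq_one]
    exact ⟨q - 1, by have := hq.out.two_le; omega, ZMod.pow_card_sub_one_eq_one hp0⟩
  have hpd : p ^ d ≡ 1 [MOD q] := by
    rw [← ZMod.natCast_eq_natCast_iff]
    push_cast
    exact pow_orderOf_eq_one _
  have hζpd : ζ ^ (p ^ d) = ζ := by
    have h1 : ζ ^ (p ^ d) = ζ ^ (p ^ d % orderOf ζ) := (pow_mod_orderOf ζ _).symm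
    rw [hoz, hpd, Nat.mod_eq_of_lt hq.out.one_lt, pow_one] at h1
    exact h1
  -- Frobenius^d is the identity
  have hfix : ∀ u : E, u ^ (p ^ d) = u := by
    intro u
    obtain ⟨g, rfl⟩ := hgen u
    have := ringHom_aeval (iterateFrobenius E p d) ζ g
    rw [iterateFrobenius_def, iterateFrobenius_def, hζpd] at this
    exact this
  -- card E ≤ p ^ d
  have hcard : Fintype.card E ≤ p ^ d := by
    have hne : (X ^ p ^ d - X : E[X]) ≠ 0 :=
      FiniteField.X_pow_card_pow_sub_X_ne_zero E hdpos.ne' hp.out.one_lt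
    have hsub : (Finset.univ : Finset E).val ⊆ (X ^ p ^ d - X : E[X]).roots := by
      intro u _
      rw [mem_roots hne]
      simp [hfix u]
    have := card_le_degree_of_subset_roots hsub
    rwa [FiniteField.X_pow_card_pow_sub_X_natDegree_eq E hdpos.ne' hp.out.one_lt,
      Finset.card_univ] at this
  -- finrank ≤ d
  have hfin : Module.finrank (ZMod p) E ≤ d := by
    have h1 := Module.card_eq_pow_finrank (K := ZMod p) (V := E)
    rw [ZMod.card] at h1
    rw [h1] at hcard
    exact (Nat.pow_le_pow_iff_right hp.out.one_lt).mp hcard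
  -- roots of the minimal polynomial
  have hint : IsIntegral (ZMod p) ζ := Algebra.IsIntegral.isIntegral ζ
  set m := minpoly (ZMod p) ζ with hm
  have hm0 : m ≠ 0 := minpoly.ne_zero hint
  have hmdeg : m.natDegree ≤ d := (minpoly.natDegree_le ζ).trans hfin
  have hm0' : m.map (algebraMap (ZMod p) E) ≠ 0 :=
    (Polynomial.map_ne_zero_iff (algebraMap (ZMod p) E).injective).mpr hm0
  let S : Finset E := (Finset.Ico 1 q).image (fun k => ζ ^ k)
  have hScard : S.card = q - 1 := by
    rw [Finset.card_image_of_injOn, Nat.card_Ico]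
    intro a ha b hb hab
    simp only [Finset.coe_Ico, Set.mem_Ico] at ha hb
    exact pow_injOn_Iio_orderOf (x := ζ) (by rw [hoz]; exact ha.2) (by rw [hoz]; exact hb.2) hab
  have hSsub : S.val ⊆ (m.map (algebraMap (ZMod p) E)).roots := by
    intro u hu
    have hu' : u ∈ S := hu
    simp only [S, Finset.mem_image, Finset.mem_Ico] at hu'
    obtain ⟨k, ⟨hk1, hk2⟩, rfl⟩ := hu'
    obtain ⟨α, hαk⟩ := hα k hk1 hk2
    rw [mem_roots hm0', IsRoot, eval_map, ← aeval_def, ← hαk, ← ringHom_aeval, hm, minpoly.aeval,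
      map_zero]
  have := card_le_degree_of_subset_roots hSsub
  rw [hScard, natDegree_map] at this
  exact this.trans hmdeg

section Ann

variable {p : ℕ} [Fact p.Prime]
  {V : Type*} [AddCommGroup V] [Module (ZMod p) V]

/-- The `(ZMod p)[X]`-module structure on `V` given by an endomorphism. -/
@[reducible] noncomputable def polyModule (Y : Module.End (ZMod p) V) : Module (ZMod p)[X] V :=
  Module.compHom V (aeval Y).toRingHom

/-- The annihilator of a vector. -/
noncomputable def ann (Y : Module.End (ZMod p) V) (v : V) : Ideal (ZMod p)[X] :=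
  @Ideal.torsionOf (ZMod p)[X] V _ _ (polyModule Y) v

theorem mem_ann (Y : Module.End (ZMod p) V) (v : V) (g : (ZMod p)[X]) :
    g ∈ ann Y v ↔ aeval Y g v = 0 := by
  letI := polyModule Y
  unfold ann
  rw [Ideal.mem_torsionOf_iff]
  rfl

theorem finite_quot_ann [Finite V] (Y : Module.End (ZMod p) V) (v : V) :
    Finite ((ZMod p)[X] ⧸ ann Y v) := by
  letI := polyModule Y
  exact Finite.of_equiv _ (Ideal.quotTorsionOfEquivSpanSingleton (ZMod p)[X] V v).symm.toEquiv

theorem ann_ne_top (Y : Module.End (ZMod p) V) {v : V} (hv : v ≠ 0) : ann Y v ≠ ⊤ := by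
  intro h
  have : (1 : (ZMod p)[X]) ∈ ann Y v := by rw [h]; trivial
  rw [mem_ann] at this
  simp at this
  exact hv this

theorem ann_neg (Y : Module.End (ZMod p) V) (v : V) : ann Y (-v) = ann Y v := by
  ext g
  rw [mem_ann, mem_ann, map_neg, neg_eq_zero]

theorem exists_prime_ann [Finite V] [Nontrivial V] (Y : Module.End (ZMod p) V) :
    ∃ v : V, v ≠ 0 ∧ (ann Y v).IsPrime := by
  obtain ⟨v1, hv1⟩ := exists_ne (0 : V)
  let S : Set (Ideal (ZMod p)[X]) := {I | ∃ v : V, v ≠ 0 ∧ I = ann Y v}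
  have hS : S.Nonempty := ⟨ann Y v1, v1, hv1, rfl⟩
  obtain ⟨I, ⟨v0, hv0, rfl⟩, hmax⟩ := WellFounded.has_min (wellFounded_gt) S hS
  refine ⟨v0, hv0, ?_⟩
  rw [Ideal.isPrime_iff]
  refine ⟨ann_ne_top Y hv0, ?_⟩
  intro a b hab
  by_contra hcon
  push_neg at hcon
  obtain ⟨ha, hb⟩ := hcon
  rw [mem_ann] at hab ha hb
  set w := aeval Y b v0 with hw
  have hle : ann Y v0 ≤ ann Y w := by
    intro g hg
    rw [mem_ann] at hg ⊢
    rw [hw, ← Module.End.mul_apply, ← map_mul, mul_comm, map_mul, Module.End.mul_apply, hg, map_zero]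
  have hnot := hmax (ann Y w) ⟨w, hb, rfl⟩
  have heq : ann Y w = ann Y v0 := by
    by_contra hne
    exact hnot (lt_of_le_of_ne hle (Ne.symm hne))
  have : a ∈ ann Y w := by
    rw [mem_ann, hw, ← Module.End.mul_apply, ← map_mul]
    exact hab
  rw [heq, mem_ann] at this
  exact ha this

theorem twist_aeval (Y : Module.End (ZMod p) V) (τ : V →+ V) (k : ℕ)
    (h : ∀ v, τ (Y v) = (Y ^ k) (τ v)) (g : (ZMod p)[X]) :
    ∀ v : V, τ (aeval Y g v) = aeval (Y ^ k) g (τ v) := by
  induction g using Polynomial.induction_on with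
  | C a =>
    intro v
    simp only [aeval_C, Module.algebraMap_end_apply]
    exact ZMod.map_smul τ a v
  | add f g hf hg =>
    intro v
    simp only [map_add, LinearMap.add_apply, hf v, hg v]
  | monomial n a ih =>
    intro v
    have e1 : (C a * X ^ (n + 1) : (ZMod p)[X]) = (C a * X ^ n) * X := by ring
    have l1 : aeval Y (C a * X ^ n * X) v = aeval Y (C a * X ^ n) (Y v) := by
      rw [map_mul (aeval Y) (C a * X ^ n) X, Module.End.mul_apply, aeval_X]
    have l2 : aeval (Y ^ k) (C a * X ^ n * X) (τ v) = aeval (Y ^ k) (C a * X ^ n) ((Y ^ k) (τ v)) := by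
      rw [map_mul (aeval (Y ^ k)) (C a * X ^ n) X, Module.End.mul_apply, aeval_X]
    rw [e1, l1, l2, ih (Y v), h v]

theorem ann_comap (Y : Module.End (ZMod p) V) (τ : V →+ V) (k : ℕ)
    (h : ∀ v, τ (Y v) = (Y ^ k) (τ v)) (hinj : Function.Injective τ) (v : V) :
    ann Y v = (ann Y (τ v)).comap ((expand (ZMod p) k : (ZMod p)[X] →ₐ[ZMod p] (ZMod p)[X]) : (ZMod p)[X] →+* (ZMod p)[X]) := by
  ext g
  rw [Ideal.mem_comap, mem_ann, mem_ann]
  have : ((expand (ZMod p) k : (ZMod p)[X] →ₐ[ZMod p] (ZMod p)[X]) : (ZMod p)[X] →+* (ZMod p)[X]) g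
      = expand (ZMod p) k g := rfl
  rw [this, expand_aeval, ← twist_aeval Y τ k h g v]
  constructor
  · intro h0; rw [h0, map_zero]
  · intro h0
    apply hinj
    rw [h0, map_zero]


theorem primitive_of_twists {q : ℕ} [Fact q.Prime] (hpq : p ≠ q) [Finite V] [Nontrivial V]
    (Y : Module.End (ZMod p) V)
    (hYq : Y ^ q = 1) (hfpf : ∀ v, Y v = v → v = 0)
    (T : (V →+ V) → ℕ → Prop)
    (hT : ∀ τ k, T τ k → Function.Injective τ ∧ ∀ v, τ (Y v) = (Y ^ k) (τ v))
    (htrans : ∀ v w, v ≠ 0 → w ≠ 0 → ∃ τ k, T τ k ∧ τ v = w)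
    (htw : ∀ k, 0 < k → k < q → ∃ τ, T τ k) :
    q - 1 ≤ orderOf (p : ZMod q) := by
  obtain ⟨v0, hv0, hprime0⟩ := exists_prime_ann Y
  have hprime : ∀ v, v ≠ 0 → (ann Y v).IsPrime := by
    intro v hv
    obtain ⟨τ, k, hτ, hτv⟩ := htrans v v0 hv hv0
    obtain ⟨hinj, hsem⟩ := hT τ k hτ
    rw [ann_comap Y τ k hsem hinj v, hτv]
    exact Ideal.comap_isPrime _ _
  have hmax : ∀ v, v ≠ 0 → (ann Y v).IsMaximal := by
    intro v hv
    haveI := hprime v hv
    haveI := finite_quot_ann Y v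
    exact Ideal.Quotient.maximal_of_isField _ (Finite.isField_of_domain _)
  have hstep : ∀ v w, v ≠ 0 → w ≠ 0 → v + w ≠ 0 → ann Y v ≤ ann Y (v + w) → ann Y v = ann Y w := by
    intro v w hv hw hvw h1
    have e1 : ann Y v = ann Y (v + w) := (hmax v hv).eq_of_le (ann_ne_top Y hvw) h1
    have h2 : ann Y (v + w) ≤ ann Y w := by
      intro g hg
      have hg' := hg
      rw [← e1] at hg'
      rw [mem_ann] at hg hg' ⊢
      rw [map_add, hg', zero_add] at hg
      exact hg
    have e2 := (hmax (v + w) hvw).eq_of_le (ann_ne_top Y hw) h2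
    rw [e1, e2]
  have heq : ∀ v w, v ≠ 0 → w ≠ 0 → ann Y v = ann Y w := by
    intro v w hv hw
    by_cases hvw : v + w = 0
    · have : w = -v := by rw [eq_neg_iff_add_eq_zero, add_comm]; exact hvw
      rw [this, ann_neg]
    · have hP := hprime (v + w) hvw
      have hle : ann Y v ⊓ ann Y w ≤ ann Y (v + w) := by
        intro g hg
        rw [Submodule.mem_inf, mem_ann, mem_ann] at hg
        rw [mem_ann, map_add, hg.1, hg.2, add_zero]
      rcases (Ideal.IsPrime.inf_le hP).mp hle with h1 | h1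
      · exact hstep v w hv hw hvw h1
      · rw [add_comm] at hvw h1
        exact (hstep w v hw hv hvw h1).symm
  haveI := hmax v0 hv0
  letI : Field ((ZMod p)[X] ⧸ ann Y v0) := Ideal.Quotient.field (ann Y v0)
  haveI := finite_quot_ann Y v0
  refine field_lemma hpq (E := (ZMod p)[X] ⧸ ann Y v0) (Ideal.Quotient.mk _ X) ?_ ?_ ?_ ?_
  · intro u
    obtain ⟨g, rfl⟩ := Ideal.Quotient.mk_surjective u
    refine ⟨g, ?_⟩
    have := aeval_algHom_apply (Ideal.Quotient.mkₐ (ZMod p) (ann Y v0)) X g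
    rw [aeval_X_left_apply] at this
    exact this
  · rw [← map_pow, ← map_one (Ideal.Quotient.mk (ann Y v0)), Ideal.Quotient.eq, mem_ann]
    simp [hYq]
  · intro h
    rw [← map_one (Ideal.Quotient.mk (ann Y v0)), Ideal.Quotient.eq, mem_ann] at h
    simp only [map_sub, aeval_X, map_one, LinearMap.sub_apply, Module.End.one_apply] at h
    exact hv0 (hfpf v0 (sub_eq_zero.mp h))
  · intro k hk1 hk2
    obtain ⟨τ, hτ⟩ := htw k hk1 hk2
    obtain ⟨hinj, hsem⟩ := hT τ k hτ
    have hτv : τ v0 ≠ 0 := by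
      intro h0
      exact hv0 (hinj (by rw [h0, map_zero]))
    have hc := ann_comap Y τ k hsem hinj v0
    rw [heq (τ v0) v0 hτv hv0] at hc
    refine ⟨Ideal.quotientMap (ann Y v0) _ (le_of_eq hc), ?_⟩
    rw [Ideal.quotientMap_mk, ← map_pow]
    congr 1
    simp

end Ann




theorem irreducible_cyclotomic_of_primitive {p q : ℕ} [hp : Fact p.Prime] [hq : Fact q.Prime]
    (hpq : p ≠ q) (hord : orderOf (p : ZMod q) = q - 1) :
    Irreducible (cyclotomic q (ZMod p)) := by
  classical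
  set f := cyclotomic q (ZMod p) with hf
  have hfdeg : f.natDegree = q - 1 := by
    rw [hf, natDegree_cyclotomic, Nat.totient_prime hq.out]
  have hq2 := hq.out.two_le
  have hf0 : f ≠ 0 := cyclotomic_ne_zero q (ZMod p)
  have hfu : ¬ IsUnit f := by
    intro hu
    have := natDegree_eq_zero_of_isUnit hu
    omega
  obtain ⟨m, hm, hmf⟩ := WfDvdMonoid.exists_irreducible_factor hfu hf0
  haveI : Fact (Irreducible m) := ⟨hm⟩
  have hm0 : m ≠ 0 := hm.ne_zero
  let K := AdjoinRoot m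
  let pb := AdjoinRoot.powerBasis hm0
  haveI : Module.Finite (ZMod p) K := pb.finite
  haveI : Finite K := Module.finite_of_finite (ZMod p)
  haveI : Fintype K := Fintype.ofFinite K
  have hcard : Fintype.card K = p ^ m.natDegree := by
    rw [Module.card_eq_pow_finrank (K := ZMod p) (V := K), ZMod.card, pb.finrank]
    rfl
  set ζ : K := AdjoinRoot.root m with hζ
  have hζf : aeval ζ f = 0 := by
    obtain ⟨c, hc⟩ := hmf
    rw [hc, map_mul, AdjoinRoot.aeval_eq, AdjoinRoot.mk_self, zero_mul]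
  haveI : CharP K p := charP_of_injective_algebraMap (algebraMap (ZMod p) K).injective p
  have hsum : ∑ i ∈ Finset.range q, ζ ^ i = 0 := by
    rw [hf, cyclotomic_prime] at hζf
    simpa using hζf
  have hζq : ζ ^ q = 1 := by
    have := mul_geom_sum ζ q
    rw [hsum, mul_zero] at this
    exact (sub_eq_zero.mp this.symm)
  have hζ1 : ζ ≠ 1 := by
    intro h1
    rw [h1] at hsum
    simp only [one_pow, Finset.sum_const, Finset.card_range, nsmul_eq_mul, mul_one] at hsum
    have := (CharP.cast_eq_zero_iff K p q).mp hsum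
    exact hpq ((Nat.prime_dvd_prime_iff_eq hp.out hq.out).mp this)
  have hoz : orderOf ζ = q := orderOf_eq_prime hζq hζ1
  have hζ0 : ζ ≠ 0 := by
    intro h0
    rw [h0, zero_pow hq.out.ne_zero] at hζq
    exact zero_ne_one hζq
  have h1 : q ∣ p ^ m.natDegree - 1 := by
    rw [← hoz, ← hcard]
    exact orderOf_dvd_of_pow_eq_one (FiniteField.pow_card_sub_one_eq_one ζ hζ0)
  have h2 : (p : ZMod q) ^ m.natDegree = 1 := by
    have hpos : 1 ≤ p ^ m.natDegree := Nat.one_le_pow _ _ hp.out.pos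
    have : ((p ^ m.natDegree - 1 : ℕ) : ZMod q) = 0 := (ZMod.natCast_eq_zero_iff _ _).mpr h1
    rw [Nat.cast_sub hpos] at this
    push_cast at this
    exact sub_eq_zero.mp this
  have h3 : q - 1 ∣ m.natDegree := by
    rw [← hord]
    exact orderOf_dvd_of_pow_eq_one h2
  have hmpos : 0 < m.natDegree := hm.natDegree_pos
  have h4 : m.natDegree ≤ q - 1 := hfdeg ▸ natDegree_le_of_dvd hmf hf0
  have h5 : m.natDegree = q - 1 := le_antisymm h4 (Nat.le_of_dvd hmpos h3)
  obtain ⟨c, hc⟩ := hmf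
  have hc0 : c ≠ 0 := by
    rintro rfl
    rw [mul_zero] at hc
    exact hf0 hc
  have hcdeg : c.natDegree = 0 := by
    have := natDegree_mul hm0 hc0
    rw [← hc, hfdeg, h5] at this
    omega
  have hcu : IsUnit c := by
    rw [eq_C_of_natDegree_eq_zero hcdeg] at hc0 ⊢
    rw [isUnit_C]
    exact isUnit_iff_ne_zero.mpr (fun h => hc0 (by rw [h, C_0]))
  rw [hc]
  exact (irreducible_mul_isUnit hcu).mpr hm




section FieldModule

variable {p q : ℕ} [Fact p.Prime] [Fact q.Prime]
  {V : Type*} [AddCommGroup V] [Module (ZMod p) V]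

/-- `V` as a module over `AdjoinRoot (cyclotomic q (ZMod p))`. -/
noncomputable def cycHom (Y : Module.End (ZMod p) V)
    (hY : aeval Y (cyclotomic q (ZMod p)) = 0) :
    AdjoinRoot (cyclotomic q (ZMod p)) →+* Module.End (ZMod p) V :=
  Ideal.Quotient.lift (Ideal.span {cyclotomic q (ZMod p)})
    ((aeval Y : (ZMod p)[X] →ₐ[ZMod p] Module.End (ZMod p) V) : (ZMod p)[X] →+* Module.End (ZMod p) V)
    (by
      intro a ha
      obtain ⟨c, rfl⟩ := Ideal.mem_span_singleton'.mp ha
      show aeval Y (c * cyclotomic q (ZMod p)) = 0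
      rw [map_mul, hY, mul_zero])

omit [Fact (Nat.Prime q)] in
theorem cycHom_root (Y : Module.End (ZMod p) V)
    (hY : aeval Y (cyclotomic q (ZMod p)) = 0) :
    cycHom Y hY (AdjoinRoot.root (cyclotomic q (ZMod p))) = Y := by
  show Ideal.Quotient.lift _ _ _ (Ideal.Quotient.mk _ X) = Y
  rw [Ideal.Quotient.lift_mk]
  exact aeval_X Y

@[reducible] noncomputable def cycModule (Y : Module.End (ZMod p) V)
    (hY : aeval Y (cyclotomic q (ZMod p)) = 0) : Module (AdjoinRoot (cyclotomic q (ZMod p))) V :=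
  Module.compHom V (cycHom Y hY)

omit [Fact (Nat.Prime q)] in
theorem cyc_root_pow_smul (Y : Module.End (ZMod p) V)
    (hY : aeval Y (cyclotomic q (ZMod p)) = 0) (n : ℕ) (v : V) :
    letI := cycModule Y hY
    (AdjoinRoot.root (cyclotomic q (ZMod p)) ^ n) • v = (Y ^ n) v := by
  show (cycHom Y hY (AdjoinRoot.root (cyclotomic q (ZMod p)) ^ n)) v = (Y ^ n) v
  rw [map_pow, cycHom_root]

omit [Fact (Nat.Prime q)] in
theorem cyc_root_smul (Y : Module.End (ZMod p) V)
    (hY : aeval Y (cyclotomic q (ZMod p)) = 0) (v : V) :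
    letI := cycModule Y hY
    (AdjoinRoot.root (cyclotomic q (ZMod p))) • v = Y v := by
  have := cyc_root_pow_smul Y hY 1 v
  simpa using this

theorem exists_commuting_equiv [Fact (Irreducible (cyclotomic q (ZMod p)))]
    (Y : Module.End (ZMod p) V) (hY : aeval Y (cyclotomic q (ZMod p)) = 0)
    (v w : V) (hv : v ≠ 0) (hw : w ≠ 0) :
    ∃ T : V ≃+ V, (∀ u, T (Y u) = Y (T u)) ∧ T v = w := by
  letI := cycModule Y hY
  let f : (Submodule.span (AdjoinRoot (cyclotomic q (ZMod p))) {v}) ≃ₗ[AdjoinRoot (cyclotomic q (ZMod p))]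
      (Submodule.span (AdjoinRoot (cyclotomic q (ZMod p))) {w}) :=
    (LinearEquiv.toSpanNonzeroSingleton _ V v hv).symm ≪≫ₗ
      (LinearEquiv.toSpanNonzeroSingleton _ V w hw)
  obtain ⟨g, hg⟩ := Submodule.exists_linearEquiv_restrict_eq f
  refine ⟨g.toAddEquiv, ?_, ?_⟩
  · intro u
    rw [← cyc_root_smul Y hY, ← cyc_root_smul Y hY]
    exact g.map_smul _ _
  · have h1 := hg ⟨v, Submodule.mem_span_singleton_self v⟩
    have h2 : f ⟨v, Submodule.mem_span_singleton_self v⟩ = ⟨w, Submodule.mem_span_singleton_self w⟩ := by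
      show (LinearEquiv.toSpanNonzeroSingleton _ V w hw)
        ((LinearEquiv.toSpanNonzeroSingleton _ V v hv).symm ⟨v, Submodule.mem_span_singleton_self v⟩) = _
      rw [LinearEquiv.coord_self, LinearEquiv.toSpanNonzeroSingleton_one]
    rw [h2] at h1
    exact h1.symm

theorem exists_frobenius_twist [Finite V] [Fact (Irreducible (cyclotomic q (ZMod p)))]
    (Y : Module.End (ZMod p) V) (hY : aeval Y (cyclotomic q (ZMod p)) = 0) (j : ℕ) :
    ∃ T : V ≃+ V, ∀ u, T (Y u) = (Y ^ (p ^ j)) (T u) := by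
  letI := cycModule Y hY
  haveI : CharP (AdjoinRoot (cyclotomic q (ZMod p))) p :=
    charP_of_injective_algebraMap (algebraMap (ZMod p) _).injective p
  let b := Module.Free.chooseBasis (AdjoinRoot (cyclotomic q (ZMod p))) V
  let φ : AdjoinRoot (cyclotomic q (ZMod p)) →+* AdjoinRoot (cyclotomic q (ZMod p)) :=
    iterateFrobenius _ p j
  have hφinj : Function.Injective φ := φ.injective
  let T : V →+ V := (b.repr.symm.toLinearMap.toAddMonoidHom).comp
    ((Finsupp.mapRange.addMonoidHom φ.toAddMonoidHom).comp b.repr.toLinearMap.toAddMonoidHom)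
  have hTapply : ∀ u, T u = b.repr.symm (Finsupp.mapRange φ (map_zero φ) (b.repr u)) := fun u => rfl
  have hTinj : Function.Injective T := by
    intro u u' h
    rw [hTapply, hTapply] at h
    have h2 := Finsupp.mapRange_injective φ (map_zero φ) hφinj (b.repr.symm.injective h)
    exact b.repr.injective h2
  have hTsemi : ∀ (c : AdjoinRoot (cyclotomic q (ZMod p))) (u : V), T (c • u) = φ c • T u := by
    intro c u
    rw [hTapply, hTapply]
    have e1 : b.repr (c • u) = c • b.repr u := map_smul _ _ _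
    have e2 : Finsupp.mapRange φ (map_zero φ) (c • b.repr u)
        = φ c • Finsupp.mapRange φ (map_zero φ) (b.repr u) := by
      ext i
      simp [Finsupp.mapRange_apply]
    rw [e1, e2, map_smul]
  have hTbij : Function.Bijective T := Finite.injective_iff_bijective.mp hTinj
  refine ⟨AddEquiv.ofBijective T hTbij, ?_⟩
  intro u
  show T (Y u) = (Y ^ (p ^ j)) (T u)
  rw [← cyc_root_smul Y hY, hTsemi, ← cyc_root_pow_smul Y hY]
  rfl

end FieldModule

theorem exists_pow_eq_of_primitive {p q : ℕ} [hp : Fact p.Prime] [hq : Fact q.Prime]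
    (hpq : p ≠ q) (hord : orderOf (p : ZMod q) = q - 1) (k : ℕ) (hk : ¬ q ∣ k) :
    ∃ j : ℕ, p ^ j ≡ k [MOD q] := by
  have hcop : Nat.Coprime p q := (Nat.coprime_primes hp.out hq.out).mpr hpq
  let u : (ZMod q)ˣ := ZMod.unitOfCoprime p hcop
  have hu : (u : ZMod q) = p := rfl
  have hou : orderOf u = q - 1 := by
    rw [← orderOf_units, hu, hord]
  have htop : Subgroup.zpowers u = ⊤ := by
    apply Subgroup.eq_top_of_card_eq
    rw [Nat.card_zpowers, hou, Nat.card_eq_fintype_card, ZMod.card_units]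
  have hkc : Nat.Coprime k q := by
    rw [Nat.coprime_comm]
    exact (Nat.Prime.coprime_iff_not_dvd hq.out).mpr hk
  let w : (ZMod q)ˣ := ZMod.unitOfCoprime k hkc
  have hw : w ∈ Subgroup.zpowers u := by rw [htop]; trivial
  rw [← mem_powers_iff_mem_zpowers] at hw
  obtain ⟨j, hj⟩ := hw
  refine ⟨j, ?_⟩
  rw [← ZMod.natCast_eq_natCast_iff]
  push_cast
  have := congrArg (fun x : (ZMod q)ˣ => (x : ZMod q)) hj
  simpa [u, w] using this

theorem exists_equivs_of_primitive {p q : ℕ} [hp : Fact p.Prime] [hq : Fact q.Prime]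
    {V : Type*} [AddCommGroup V] [Module (ZMod p) V] [Finite V]
    (hirr : Irreducible (cyclotomic q (ZMod p)))
    (hpow : ∀ k : ℕ, ¬ q ∣ k → ∃ j : ℕ, p ^ j ≡ k [MOD q])
    (Y : Module.End (ZMod p) V) (hY : ∑ i ∈ Finset.range q, Y ^ i = 0) :
    (∀ v w : V, v ≠ 0 → w ≠ 0 → ∃ T : V ≃+ V, (∀ u, T (Y u) = Y (T u)) ∧ T v = w) ∧
    (∀ k : ℕ, ¬ q ∣ k → ∃ T : V ≃+ V, ∀ u, T (Y u) = (Y ^ k) (T u)) := by
  haveI : Fact (Irreducible (cyclotomic q (ZMod p))) := ⟨hirr⟩
  have hY' : aeval Y (cyclotomic q (ZMod p)) = 0 := by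
    rw [cyclotomic_prime, map_sum]
    simpa using hY
  have hYq : Y ^ q = 1 := by
    have := mul_geom_sum Y q
    rw [hY, mul_zero] at this
    exact sub_eq_zero.mp this.symm
  refine ⟨fun v w hv hw => exists_commuting_equiv Y hY' v w hv hw, ?_⟩
  intro k hk
  obtain ⟨j, hj⟩ := hpow k hk
  obtain ⟨T, hT⟩ := exists_frobenius_twist Y hY' j
  refine ⟨T, ?_⟩
  intro u
  rw [hT u, pow_eq_pow_mod (p ^ j) hYq, pow_eq_pow_mod k hYq, hj]

end Cfsg.Agent.H1.ThreeOrbAlg
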