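import Mathlib
import Cfsg.Agent.H1.ThreeOrbAlg

set_option autoImplicit false

namespace Cfsg.Agent.H1.ThreeOrb

open scoped IsMulCommutative

variable {G : Type*} [Group G]

section Setup

variable (p : ℕ) (N : Subgroup G) [IsMulCommutative N]

/-- The `ZMod p`-module structure on an abelian subgroup of exponent `p`, written additively. -/
noncomputable instance modN [hNp : Fact (∀ g ∈ N, g ^ p = 1)] : Module (ZMod p) (Additive N) :=
  AddCommGroup.zmodModule (n := p) (by
    intro x
    apply Additive.toMul.injective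
    rw [toMul_nsmul, toMul_zero]
    exact Subtype.ext (by simpa using hNp.out _ (Additive.toMul x).2))

/-- Conjugation as a monoid hom into the endomorphism ring. -/
noncomputable def cjN [N.Normal] [Fact (∀ g ∈ N, g ^ p = 1)] :
    G →* Module.End (ZMod p) (Additive N) where
  toFun g := AddMonoidHom.toZModLinearMap p
    (MonoidHom.toAdditive (MulAut.conjNormal g : N ≃* N).toMonoidHom)
  map_one' := by
    refine LinearMap.ext fun v => ?_
    apply Additive.toMul.injective
    apply Subtype.ext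
    simp
  map_mul' a b := by
    refine LinearMap.ext fun v => ?_
    apply Additive.toMul.injective
    apply Subtype.ext
    simp [mul_assoc]

theorem cjN_apply [N.Normal] [Fact (∀ g ∈ N, g ^ p = 1)] (g : G) (v : Additive N) :
    ((Additive.toMul (cjN p N g v) : N) : G) = g * ((Additive.toMul v : N) : G) * g⁻¹ := by
  simp [cjN]

omit [IsMulCommutative N] in
theorem addN_ext {N : Subgroup G} {a b : Additive N}
    (h : ((Additive.toMul a : N) : G) = ((Additive.toMul b : N) : G)) : a = b :=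
  Additive.toMul.injective (Subtype.ext h)

/-- If `g ^ s = 1` and `g` acts fixed-point-freely on `N`, then `1 + g + ... + g^(s-1)` kills `N`. -/
theorem geom_sum_cjN_eq_zero {p : ℕ} (N : Subgroup G) [IsMulCommutative N] [N.Normal]
    [Fact (∀ g ∈ N, g ^ p = 1)] (s : ℕ) (g : G) (hg : g ^ s = 1)
    (hfpf : ∀ v ∈ N, g * v * g⁻¹ = v → v = 1) :
    ∑ k ∈ Finset.range s, (cjN p N g) ^ k = 0 := by
  refine LinearMap.ext fun v => ?_
  set S := ∑ k ∈ Finset.range s, (cjN p N g) ^ k with hS
  have h1 : cjN p N g * S = S := by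
    have := mul_geom_sum (cjN p N g) s
    rw [← map_pow, hg, map_one, sub_self, sub_mul, one_mul, sub_eq_zero] at this
    exact this
  have h2 : cjN p N g (S v) = S v := by
    rw [← Module.End.mul_apply, h1]
  have h3 := cjN_apply p N g (S v)
  rw [h2] at h3
  have h4 := hfpf _ (Additive.toMul (S v) : N).2 h3.symm
  rw [LinearMap.zero_apply]
  apply addN_ext
  rw [h4]
  rfl

theorem eq_bot_of_fpf_noncyclic {p s : ℕ} (hps : Nat.Coprime p s)
    (N : Subgroup G) [N.Normal] [IsMulCommutative N] (hNp : ∀ g ∈ N, g ^ p = 1)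
    (z x : G) (hz : z ^ s = 1) (hx : x ^ s = 1) (hzx : Commute z x)
    (h1 : ∀ i, i < s → ∀ v ∈ N, (x * z ^ i) * v * (x * z ^ i)⁻¹ = v → v = 1)
    (h2 : ∀ k, 0 < k → k < s → ∀ v ∈ N, z ^ k * v * (z ^ k)⁻¹ = v → v = 1) :
    N = ⊥ := by
  haveI : Fact (∀ g ∈ N, g ^ p = 1) := ⟨hNp⟩
  have key : ∑ i ∈ Finset.range s, ∑ k ∈ Finset.range s, (cjN p N (x * z ^ i)) ^ k = 0 := by
    refine Finset.sum_eq_zero (fun i hi => ?_)
    refine geom_sum_cjN_eq_zero N s _ ?_ (h1 i (Finset.mem_range.mp hi))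
    rw [(hzx.symm.pow_right i).mul_pow, hx, ← pow_mul, mul_comm, pow_mul, hz, one_pow, one_mul]
  rw [Finset.sum_comm] at key
  have e : ∀ k ∈ Finset.range s, ∑ i ∈ Finset.range s, (cjN p N (x * z ^ i)) ^ k
      = (cjN p N x) ^ k * ∑ i ∈ Finset.range s, (cjN p N (z ^ k)) ^ i := by
    intro k _
    rw [Finset.mul_sum]
    refine Finset.sum_congr rfl (fun i _ => ?_)
    rw [← map_pow, ← map_pow, ← map_pow, ← map_mul]
    congr 1
    rw [(hzx.symm.pow_right i).mul_pow, ← pow_mul, ← pow_mul, mul_comm i k]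
  rw [Finset.sum_congr rfl e] at key
  by_cases hs0 : s = 0
  · -- then p = 1 (coprime to 0)
    subst hs0
    rw [Nat.coprime_zero_right] at hps
    subst hps
    rw [Subgroup.eq_bot_iff_forall]
    intro g hg
    simpa using hNp g hg
  have hs : 0 < s := Nat.pos_of_ne_zero hs0
  rw [Finset.sum_eq_single 0] at key
  · simp only [pow_zero, map_one, one_pow, Finset.sum_const, Finset.card_range, one_mul] at key
    rw [Subgroup.eq_bot_iff_forall]
    intro g hg
    have h3 : s • (Additive.ofMul (⟨g, hg⟩ : N)) = 0 := by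
      have := congrArg (fun f : Module.End (ZMod p) (Additive N) => f (Additive.ofMul (⟨g, hg⟩ : N))) key
      simpa using this
    have h4 : (⟨g, hg⟩ : N) ^ s = 1 := by
      have := congrArg Additive.toMul h3
      simpa using this
    have h5 : g ^ s = 1 := by
      have := congrArg (Subtype.val) h4
      simpa using this
    have h6 : g ^ p = 1 := hNp g hg
    have h7 : orderOf g ∣ Nat.gcd p s := Nat.dvd_gcd (orderOf_dvd_of_pow_eq_one h6) (orderOf_dvd_of_pow_eq_one h5)
    rw [hps, Nat.dvd_one, orderOf_eq_one_iff] at h7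
    exact h7
  · intro k hk hk0
    rw [geom_sum_cjN_eq_zero N s (z ^ k) ?_ (h2 k (Nat.pos_of_ne_zero hk0) (Finset.mem_range.mp hk)),
      mul_zero]
    rw [← pow_mul, mul_comm, pow_mul, hz, one_pow]
  · intro h0
    exact absurd (Finset.mem_range.mpr hs) h0

end Setup



theorem exists_decomp [Finite G] {N : Subgroup G} {y : G}
    (hc : N.IsComplement' (Subgroup.zpowers y)) (g : G) :
    ∃ n ∈ N, ∃ k < orderOf y, g = n * y ^ k := by
  classical
  obtain ⟨⟨n, z⟩, hx, -⟩ := (Subgroup.isComplement'_def.mp hc).existsUnique g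
  have hz : (z : G) ∈ Subgroup.zpowers y := z.2
  rw [mem_zpowers_iff_mem_range_orderOf] at hz
  simp only [Finset.mem_image, Finset.mem_range] at hz
  obtain ⟨k, hk, hkz⟩ := hz
  exact ⟨n, n.2, k, hk, by rw [hkz]; exact hx.symm⟩

theorem exists_conj_eq [Finite G] {N : Subgroup G} [N.Normal] (z : G)
    (hfpf : ∀ v ∈ N, z * v * z⁻¹ = v → v = 1) (n : G) (hn : n ∈ N) :
    ∃ m ∈ N, m * z * m⁻¹ = n * z := by
  let f : N → N := fun m => ⟨m * (z * (m : G)⁻¹ * z⁻¹),
    N.mul_mem m.2 (Subgroup.Normal.conj_mem inferInstance _ (N.inv_mem m.2) z)⟩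
  have hinj : Function.Injective f := by
    intro a b hab
    have h1 : (a : G) * (z * (a : G)⁻¹ * z⁻¹) = b * (z * (b : G)⁻¹ * z⁻¹) := congrArg Subtype.val hab
    have h2 : z * ((b : G)⁻¹ * a) * z⁻¹ = (b : G)⁻¹ * a := by
      have : (a : G) * z * (a : G)⁻¹ = b * z * (b : G)⁻¹ := by
        have := congrArg (fun t => t * z) h1
        simpa [mul_assoc] using this
      calc z * ((b : G)⁻¹ * a) * z⁻¹ = (b : G)⁻¹ * (b * z * (b : G)⁻¹) * a * z⁻¹ := by group
        _ = (b : G)⁻¹ * (a * z * (a : G)⁻¹) * a * z⁻¹ := by rw [this]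
        _ = (b : G)⁻¹ * a := by group
    have h3 := hfpf _ (N.mul_mem (N.inv_mem b.2) a.2) h2
    apply Subtype.ext
    exact (inv_mul_eq_one.mp h3).symm
  have hsurj : Function.Surjective f := Finite.injective_iff_surjective.mp hinj
  obtain ⟨m, hm⟩ := hsurj ⟨n, hn⟩
  refine ⟨m, m.2, ?_⟩
  have : (m : G) * (z * (m : G)⁻¹ * z⁻¹) = n := congrArg Subtype.val hm
  rw [← this]
  group



theorem exists_aut_of_twist [Finite G] {N : Subgroup G} [N.Normal] {y : G}
    (hc : N.IsComplement' (Subgroup.zpowers y)) (k : ℕ) (hk : (orderOf y).Coprime k)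
    (τ : MulAut N)
    (hτ : SemiconjBy τ (MulAut.conjNormal y) (MulAut.conjNormal (y ^ k))) :
    ∃ σ : MulAut G, (∀ v : N, σ v = τ v) ∧ σ y = y ^ k := by
  classical
  -- the power map on `zpowers y`
  have hcardK : (Nat.card (Subgroup.zpowers y)).Coprime k := by
    rw [Nat.card_zpowers]; exact hk
  let pk : Subgroup.zpowers y →* Subgroup.zpowers y :=
    { toFun := fun z => z ^ k
      map_one' := one_pow k
      map_mul' := fun a b => by
        have : Commute a b := by
          obtain ⟨i, hi⟩ := Subgroup.mem_zpowers_iff.mp a.2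
          obtain ⟨j, hj⟩ := Subgroup.mem_zpowers_iff.mp b.2
          apply Subtype.ext
          show (a : G) * b = b * a
          rw [← hi, ← hj, ← zpow_add, ← zpow_add, add_comm]
        exact this.mul_pow k }
  let fg : Subgroup.zpowers y ≃* Subgroup.zpowers y :=
    MulEquiv.ofBijective pk (powCoprime hcardK).bijective
  have hfg : ∀ z : Subgroup.zpowers y, ((fg z : Subgroup.zpowers y) : G) = (z : G) ^ k := fun z => rfl
  let e := SemidirectProduct.mulEquivSubgroup hc
  have hφ : ∀ g : Subgroup.zpowers y,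
      ((N.normalizerMonoidHom).comp (Subgroup.inclusion (N.normalizer_eq_top ▸ le_top))) g
        = MulAut.conjNormal (g : G) := by
    intro g
    ext n
    simp
  have hcomp : ∀ g : Subgroup.zpowers y,
      (((N.normalizerMonoidHom).comp (Subgroup.inclusion (N.normalizer_eq_top ▸ le_top))) g).trans τ
        = τ.trans (((N.normalizerMonoidHom).comp
            (Subgroup.inclusion (N.normalizer_eq_top ▸ le_top))) (fg g)) := by
    intro g
    rw [hφ, hφ, hfg]
    obtain ⟨i, hi⟩ := Subgroup.mem_zpowers_iff.mp g.2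
    have h1 : SemiconjBy τ (MulAut.conjNormal ((g : G))) (MulAut.conjNormal ((g : G) ^ k)) := by
      rw [← hi, ← zpow_natCast, ← zpow_mul, mul_comm, zpow_mul, zpow_natCast, map_zpow, map_zpow]
      exact hτ.zpow_right i
    exact h1.eq
  let σ : MulAut G := e.symm.trans ((SemidirectProduct.congr τ fg hcomp).trans e)
  have he1 : ∀ v : N, e (SemidirectProduct.inl v) = v := by
    intro v; simp [e]
  have he2 : ∀ z : Subgroup.zpowers y, e (SemidirectProduct.inr z) = z := by
    intro z; simp [e]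
  refine ⟨σ, ?_, ?_⟩
  · intro v
    show e ((SemidirectProduct.congr τ fg hcomp) (e.symm v)) = τ v
    rw [← he1 v, e.symm_apply_apply, ← he1 (τ v)]
    congr 1
    ext <;> simp
  · have hy : y ∈ Subgroup.zpowers y := Subgroup.mem_zpowers y
    show e ((SemidirectProduct.congr τ fg hcomp) (e.symm y)) = y ^ k
    have h3 : e.symm y = SemidirectProduct.inr ⟨y, hy⟩ := by
      rw [MulEquiv.symm_apply_eq]
      exact (he2 ⟨y, hy⟩).symm
    have h2 : y ^ k = e (SemidirectProduct.inr (fg ⟨y, hy⟩)) := by rw [he2]; rfl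
    rw [h3, h2]
    congr 1
    ext <;> simp


section Bridges

theorem primitive_root_of_orbits [Finite G] {p q : ℕ} [Fact p.Prime] [Fact q.Prime] (hpq : p ≠ q)
    (N : Subgroup G) [N.Normal] [IsMulCommutative N] (hNp : ∀ g ∈ N, g ^ p = 1) (hN1 : N ≠ ⊥)
    (y : G) (hy : orderOf y = q) (hc : N.IsComplement' (Subgroup.zpowers y))
    (hNchar : ∀ σ : MulAut G, ∀ g ∈ N, σ g ∈ N)
    (hfpf : ∀ v ∈ N, y * v * y⁻¹ = v → v = 1)
    (htransN : ∀ v ∈ N, ∀ w ∈ N, v ≠ 1 → w ≠ 1 → ∃ σ : MulAut G, σ v = w)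
    (htransQ : ∀ k, 0 < k → k < q → ∃ σ : MulAut G, σ y = y ^ k) :
    q - 1 ≤ orderOf (p : ZMod q) := by
  haveI : Fact (∀ g ∈ N, g ^ p = 1) := ⟨hNp⟩
  let res : MulAut G → (Additive N →+ Additive N) := fun σ =>
    MonoidHom.toAdditive ((σ.toMonoidHom.comp N.subtype).codRestrict N (fun v => hNchar σ v v.2))
  have hres : ∀ σ (v : Additive N),
      ((Additive.toMul (res σ v) : N) : G) = σ ((Additive.toMul v : N) : G) := fun _ _ => rfl
  haveI : Finite (Additive N) := inferInstanceAs (Finite N)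
  haveI : Nontrivial (Additive N) := by
    obtain ⟨g, hg1⟩ := (Subgroup.ne_bot_iff_exists_ne_one).mp hN1
    exact ⟨Additive.ofMul g, 0, fun h => hg1 (Additive.ofMul.injective h)⟩
  refine ThreeOrbAlg.primitive_of_twists hpq (cjN p N y) ?_ ?_
    (fun τ k => ∃ σ : MulAut G, ∃ n ∈ N, σ y = n * y ^ k ∧ τ = res σ) ?_ ?_ ?_
  · rw [← map_pow, ← hy, pow_orderOf_eq_one, map_one]
  · intro v hv
    have h1 := cjN_apply p N y v
    rw [hv] at h1
    have := hfpf _ (Additive.toMul v : N).2 h1.symm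
    apply addN_ext
    rw [this]
    rfl
  · rintro τ k ⟨σ, n, hn, hσy, rfl⟩
    constructor
    · intro a b hab
      apply addN_ext
      have := congrArg (fun t : Additive N => ((Additive.toMul t : N) : G)) hab
      simp only [hres] at this
      exact σ.injective this
    · intro v
      apply addN_ext
      rw [hres, cjN_apply, ← map_pow, cjN_apply, hres, map_mul, map_mul, map_inv, hσy]
      have hw : y ^ k * σ ((Additive.toMul v : N) : G) * (y ^ k)⁻¹ ∈ N :=
        Subgroup.Normal.conj_mem inferInstance _ (hNchar σ _ (Additive.toMul v : N).2) _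
      have hcomm := setLike_mul_comm hn hw
      calc n * y ^ k * σ ((Additive.toMul v : N) : G) * (n * y ^ k)⁻¹
          = n * (y ^ k * σ ((Additive.toMul v : N) : G) * (y ^ k)⁻¹) * n⁻¹ := by group
        _ = y ^ k * σ ((Additive.toMul v : N) : G) * (y ^ k)⁻¹ := by
          rw [hcomm, mul_assoc, mul_inv_cancel, mul_one]
  · intro v w hv hw
    have hv1 : ((Additive.toMul v : N) : G) ≠ 1 := by
      intro h
      apply hv
      apply addN_ext
      rw [h]; rfl
    have hw1 : ((Additive.toMul w : N) : G) ≠ 1 := by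
      intro h
      apply hw
      apply addN_ext
      rw [h]; rfl
    obtain ⟨σ, hσ⟩ := htransN _ (Additive.toMul v : N).2 _ (Additive.toMul w : N).2 hv1 hw1
    obtain ⟨n, hn, k, hk, hσy⟩ := exists_decomp hc (σ y)
    exact ⟨res σ, k, ⟨σ, n, hn, hσy, rfl⟩, addN_ext (by rw [hres]; exact hσ)⟩
  · intro k hk1 hk2
    obtain ⟨σ, hσ⟩ := htransQ k hk1 hk2
    exact ⟨res σ, σ, 1, N.one_mem, by rw [one_mul]; exact hσ, rfl⟩

theorem exists_auts [Finite G] {p q : ℕ} [Fact p.Prime] [hq : Fact q.Prime] (hpq : p ≠ q)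
    (hord : orderOf (p : ZMod q) = q - 1)
    (N : Subgroup G) [N.Normal] [IsMulCommutative N] (hNp : ∀ g ∈ N, g ^ p = 1)
    (y : G) (hy : orderOf y = q) (hc : N.IsComplement' (Subgroup.zpowers y))
    (hfpf : ∀ v ∈ N, y * v * y⁻¹ = v → v = 1) :
    (∀ v ∈ N, ∀ w ∈ N, v ≠ 1 → w ≠ 1 → ∃ σ : MulAut G, σ v = w) ∧
    (∀ k, ¬ q ∣ k → ∃ σ : MulAut G, σ y = y ^ k) := by
  haveI : Fact (∀ g ∈ N, g ^ p = 1) := ⟨hNp⟩
  haveI : Finite (Additive N) := inferInstanceAs (Finite N)
  have hsum : ∑ i ∈ Finset.range q, (cjN p N y) ^ i = 0 :=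
    geom_sum_cjN_eq_zero N q y (hy ▸ pow_orderOf_eq_one y) hfpf
  obtain ⟨h1, h2⟩ := ThreeOrbAlg.exists_equivs_of_primitive
    (ThreeOrbAlg.irreducible_cyclotomic_of_primitive hpq hord)
    (ThreeOrbAlg.exists_pow_eq_of_primitive hpq hord) (cjN p N y) hsum
  have conv : ∀ (k : ℕ) (T : Additive N ≃+ Additive N),
      (∀ u, T (cjN p N y u) = ((cjN p N y) ^ k) (T u)) →
      SemiconjBy (MulEquiv.toAdditive.symm T : MulAut N) (MulAut.conjNormal y)
        (MulAut.conjNormal (y ^ k)) := by
    intro k T hT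
    refine MulEquiv.ext fun v => ?_
    have := hT (Additive.ofMul v)
    rw [← map_pow] at this
    have h3 := congrArg (fun t : Additive N => ((Additive.toMul t : N) : G)) this
    simp only [cjN_apply] at h3
    apply Subtype.ext
    simp only [MulAut.mul_apply, MulAut.conjNormal_apply]
    exact h3
  constructor
  · intro v hv w hw hv1 hw1
    have hv0 : Additive.ofMul (⟨v, hv⟩ : N) ≠ 0 := by
      intro h
      apply hv1
      have := congrArg (fun t : Additive N => ((Additive.toMul t : N) : G)) h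
      exact this
    have hw0 : Additive.ofMul (⟨w, hw⟩ : N) ≠ 0 := by
      intro h
      apply hw1
      have := congrArg (fun t : Additive N => ((Additive.toMul t : N) : G)) h
      exact this
    obtain ⟨T, hT, hTv⟩ := h1 _ _ hv0 hw0
    have hT' : ∀ u, T (cjN p N y u) = ((cjN p N y) ^ 1) (T u) := by
      intro u; rw [pow_one]; exact hT u
    obtain ⟨σ, hσ1, -⟩ := exists_aut_of_twist hc 1 (Nat.coprime_one_right _) _ (conv 1 T hT')
    refine ⟨σ, ?_⟩
    have h4 := hσ1 ⟨v, hv⟩
    rw [h4]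
    have h5 := congrArg (fun t : Additive N => ((Additive.toMul t : N) : G)) hTv
    exact h5
  · intro k hk
    obtain ⟨T, hT⟩ := h2 k hk
    have hcop : (orderOf y).Coprime k := by
      rw [hy]
      exact (Nat.Prime.coprime_iff_not_dvd hq.out).mpr hk
    obtain ⟨σ, -, hσ2⟩ := exists_aut_of_twist hc k hcop _ (conv k T hT)
    exact ⟨σ, hσ2⟩

end Bridges

end Cfsg.Agent.H1.ThreeOrb
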