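import Mathlib
import Cfsg.Prelude.Def_Transfer
import Cfsg.Agent.H1.ThreeOrbGrp
import Cfsg.Agent.S0144

set_option autoImplicit false

namespace Cfsg.Agent.H1.ThreeOrbMain

open Cfsg.Agent.H1.ThreeOrb
open scoped commutatorElement

variable {G : Type*} [Group G]

theorem two_prime_card {n r s : ℕ} (hr : r.Prime) (hs : s.Prime) (hrs : r ≠ s) (hn : n ≠ 0)
    (h : ∀ l : ℕ, l.Prime → l ∣ n → l = r ∨ l = s) :
    n = r ^ n.factorization r * s ^ n.factorization s := by
  have h1 := Nat.ordProj_mul_ordCompl_eq_self n r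
  set m := n / r ^ n.factorization r with hm
  have hm0 : m ≠ 0 := by
    intro h0
    rw [h0, mul_zero] at h1
    exact hn h1.symm
  have h2 := Nat.ordProj_mul_ordCompl_eq_self m s
  have hfs : m.factorization s = n.factorization s := by
    rw [hm, Nat.factorization_ordCompl, Finsupp.erase_ne hrs.symm]
  have hm' : m / s ^ m.factorization s = 1 := by
    rw [Nat.eq_one_iff_not_exists_prime_dvd]
    intro l hl hdvd
    have hlm : l ∣ m := dvd_trans hdvd (Nat.ordCompl_dvd m s)
    have hln : l ∣ n := dvd_trans hlm (Nat.ordCompl_dvd n r)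
    rcases h l hl hln with rfl | rfl
    · exact Nat.not_dvd_ordCompl hr hn hlm
    · exact Nat.not_dvd_ordCompl hs hm0 hdvd
  rw [hm', mul_one, hfs] at h2
  rw [← h2] at h1
  exact h1.symm

theorem structure_of_orbits [Finite G] {r s : ℕ} [hr : Fact r.Prime] [hs : Fact s.Prime] (hrs : r ≠ s)
    (hord : ∀ g : G, orderOf g = 1 ∨ orderOf g = r ∨ orderOf g = s)
    (htrans : ∀ g h : G, orderOf g = orderOf h → ∃ σ : MulAut G, σ g = h)
    (N : Subgroup G) [N.Normal] (hN : ∀ g, g ∈ N ↔ g ^ r = 1)
    (hN1 : N ≠ ⊥) (x0 : G) (hx0 : orderOf x0 = s) :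
    ∃ n : ℕ, 1 ≤ n ∧ Nat.card G = r ^ n * s ∧
      (∀ P : Sylow r G, (P : Subgroup G).Normal ∧ Cfsg.IsElementaryAbelian r (P : Subgroup G)) ∧
      orderOf (r : ZMod s) = s - 1 ∧
      ∀ x y : G, orderOf x = s → orderOf y = r → x * y * x⁻¹ ≠ y := by
  classical
  have hr2 := hr.out.two_le
  have hs2 := hs.out.two_le
  have hcop : Nat.Coprime r s := (Nat.coprime_primes hr.out hs.out).mpr hrs
  -- (0) N is invariant
  have hNchar : ∀ σ : MulAut G, ∀ g ∈ N, σ g ∈ N := by
    intro σ g hg
    rw [hN] at hg ⊢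
    rw [← map_pow, hg, map_one]
  -- (1) fixed-point-freeness
  have hfpf : ∀ x v : G, orderOf x = s → orderOf v = r → x * v * x⁻¹ ≠ v := by
    intro x v hx hv hxv
    have hcomm : Commute x v := by
      have : x * v = v * x := by
        have := congrArg (fun t => t * x) hxv
        simpa using this
      exact this
    have h1 := hcomm.orderOf_mul_eq_mul_orderOf_of_coprime (by rw [hx, hv]; exact hcop.symm)
    rw [hx, hv] at h1
    rcases hord (x * v) with h2 | h2 | h2
    · rw [h2] at h1
      have := Nat.eq_one_of_mul_eq_one_left h1.symm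
      omega
    · rw [h2] at h1
      have : s * r = 1 * r := by rw [one_mul]; exact h1.symm
      have := Nat.eq_of_mul_eq_mul_right (by omega) this
      omega
    · rw [h2] at h1
      have : s * r = s * 1 := by rw [mul_one]; exact h1.symm
      have := Nat.eq_of_mul_eq_mul_left (by omega) this
      omega
  -- nonidentity elements of N have order r
  have hNord : ∀ v ∈ N, v ≠ 1 → orderOf v = r := by
    intro v hv hv1
    exact orderOf_eq_prime ((hN v).mp hv) hv1
  -- (2) N is an r-group
  have hNp : IsPGroup r N := by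
    intro g
    refine ⟨1, ?_⟩
    apply Subtype.ext
    rw [pow_one, Subgroup.coe_pow]
    exact (hN g).mp g.2
  -- elements of prime-power order
  have hpow_r : ∀ g : G, (∃ k, g ^ r ^ k = 1) → g ∈ N := by
    rintro g ⟨k, hk⟩
    rw [hN]
    rcases hord g with h | h | h
    · rw [orderOf_eq_one_iff] at h; rw [h, one_pow]
    · rw [← h]; exact pow_orderOf_eq_one g
    · exfalso
      have h1 : s ∣ r ^ k := h ▸ orderOf_dvd_of_pow_eq_one hk
      have h2 := (Nat.prime_dvd_prime_iff_eq hs.out hr.out).mp (hs.out.dvd_of_dvd_pow h1)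
      exact hrs h2.symm
  have hpow_s : ∀ g : G, (∃ k, g ^ s ^ k = 1) → g ≠ 1 → orderOf g = s := by
    rintro g ⟨k, hk⟩ hg1
    rcases hord g with h | h | h
    · rw [orderOf_eq_one_iff] at h; exact absurd h hg1
    · exfalso
      have h1 : r ∣ s ^ k := h ▸ orderOf_dvd_of_pow_eq_one hk
      have h2 := (Nat.prime_dvd_prime_iff_eq hr.out hs.out).mp (hr.out.dvd_of_dvd_pow h1)
      exact hrs h2
    · exact h
  -- (3) every Sylow r-subgroup is N
  have hSyl : ∀ P : Sylow r G, (P : Subgroup G) = N := by
    intro P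
    have hle : (P : Subgroup G) ≤ N := by
      intro g hg
      apply hpow_r
      obtain ⟨k, hk⟩ := P.isPGroup' ⟨g, hg⟩
      refine ⟨k, ?_⟩
      have := congrArg Subtype.val hk
      simpa using this
    exact (P.is_maximal' hNp hle).symm
  -- (4) N is commutative
  have hNcomm : ∀ v ∈ N, ∀ w ∈ N, v * w = w * v := by
    haveI : Nontrivial N := by
      obtain ⟨g, hg1⟩ := (Subgroup.ne_bot_iff_exists_ne_one).mp hN1
      exact ⟨g, 1, hg1⟩
    haveI := hNp.center_nontrivial
    obtain ⟨z, hz1⟩ := exists_ne (1 : Subgroup.center N)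
    have hzN : ((z : N) : G) ∈ N := (z : N).2
    have hz1' : ((z : N) : G) ≠ 1 := by
      intro h
      apply hz1
      apply Subtype.ext
      apply Subtype.ext
      exact h
    have hzc : ∀ w ∈ N, ((z : N) : G) * w = w * ((z : N) : G) := by
      intro w hw
      have := (Subgroup.mem_center_iff.mp z.2) ⟨w, hw⟩
      have := congrArg Subtype.val this
      simpa using this.symm
    intro v hv w hw
    by_cases hv1 : v = 1
    · rw [hv1, one_mul, mul_one]
    obtain ⟨σ, hσ⟩ := htrans ((z : N) : G) v (by rw [hNord _ hzN hz1', hNord v hv hv1])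
    have hw' : σ.symm w ∈ N := hNchar σ.symm w hw
    have := hzc _ hw'
    have := congrArg σ this
    rw [map_mul, map_mul, hσ, MulEquiv.apply_symm_apply] at this
    exact this
  haveI : IsMulCommutative N := IsMulCommutative.of_setLike_mul_comm hNcomm
  -- cardinalities
  have hG0 : Nat.card G ≠ 0 := Nat.card_pos.ne'
  have hprimes : ∀ l : ℕ, l.Prime → l ∣ Nat.card G → l = r ∨ l = s := by
    intro l hl hdvd
    haveI : Fact l.Prime := ⟨hl⟩
    obtain ⟨g, hg⟩ := exists_prime_orderOf_dvd_card' l hdvd
    rcases hord g with h | h | h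
    · rw [hg] at h; exact absurd h hl.one_lt.ne'
    · left; rw [← hg, h]
    · right; rw [← hg, h]
  have hcardG := two_prime_card hr.out hs.out hrs hG0 hprimes
  obtain ⟨P⟩ : Nonempty (Sylow r G) := inferInstance
  obtain ⟨Q⟩ : Nonempty (Sylow s G) := inferInstance
  have hcardN : Nat.card N = r ^ (Nat.card G).factorization r := by
    rw [← hSyl P]; exact P.card_eq_multiplicity
  have hcardQ : Nat.card Q = s ^ (Nat.card G).factorization s := Q.card_eq_multiplicity
  set a := (Nat.card G).factorization r with ha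
  set b := (Nat.card G).factorization s with hb
  have ha1 : 1 ≤ a := by
    by_contra hcon
    have : a = 0 := by omega
    rw [this, pow_zero] at hcardN
    have := (Subgroup.card_eq_one).mp hcardN
    exact hN1 this
  have hb1 : 1 ≤ b := by
    have : s ∣ Nat.card G := hx0 ▸ orderOf_dvd_natCard x0
    exact (hs.out.dvd_iff_one_le_factorization hG0).mp this
  -- elements of Q
  have hQord : ∀ g ∈ (Q : Subgroup G), g ≠ 1 → orderOf g = s := by
    intro g hg hg1
    apply hpow_s g _ hg1
    obtain ⟨k, hk⟩ := Q.isPGroup' ⟨g, hg⟩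
    refine ⟨k, ?_⟩
    have := congrArg Subtype.val hk
    simpa using this
  have hQfpf : ∀ g ∈ (Q : Subgroup G), g ≠ 1 → ∀ v ∈ N, g * v * g⁻¹ = v → v = 1 := by
    intro g hg hg1 v hv hgv
    by_contra hv1
    exact hfpf g v (hQord g hg hg1) (hNord v hv hv1) hgv
  -- (6) b = 1
  have hb_le : b ≤ 1 := by
    by_contra hcon
    have hb2 : 2 ≤ b := by omega
    haveI : Nontrivial Q := by
      rw [← Finite.one_lt_card_iff_nontrivial, hcardQ]
      exact Nat.one_lt_pow (by omega) hs.out.one_lt
    haveI := Q.isPGroup'.center_nontrivial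
    obtain ⟨z, hz1⟩ := exists_ne (1 : Subgroup.center Q)
    have hzQ : ((z : Q) : G) ∈ (Q : Subgroup G) := (z : Q).2
    set z' : G := ((z : Q) : G) with hz'
    have hz1' : z' ≠ 1 := by
      intro h
      apply hz1
      apply Subtype.ext
      apply Subtype.ext
      exact h
    have hzord : orderOf z' = s := hQord z' hzQ hz1'
    -- an element outside ⟨z'⟩
    have hlt : Nat.card (Subgroup.zpowers z') < Nat.card Q := by
      rw [Nat.card_zpowers, hzord, hcardQ]
      calc s = s ^ 1 := (pow_one s).symm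
        _ < s ^ b := Nat.pow_lt_pow_right hs.out.one_lt (by omega)
    have hex : ∃ x ∈ (Q : Subgroup G), x ∉ Subgroup.zpowers z' := by
      by_contra hcon2
      push_neg at hcon2
      have : (Q : Subgroup G) ≤ Subgroup.zpowers z' := hcon2
      have := Subgroup.card_le_of_le this
      omega
    obtain ⟨x, hxQ, hxz⟩ := hex
    have hx1 : x ≠ 1 := by
      intro h
      apply hxz
      rw [h]
      exact Subgroup.one_mem _
    have hxord : orderOf x = s := hQord x hxQ hx1
    have hzx : Commute z' x := by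
      have := (Subgroup.mem_center_iff.mp z.2) ⟨x, hxQ⟩
      have := congrArg Subtype.val this
      exact this.symm
    have := eq_bot_of_fpf_noncyclic hcop N (fun g hg => (hN g).mp hg) z' x
      (hzord ▸ pow_orderOf_eq_one z') (hxord ▸ pow_orderOf_eq_one x) hzx ?_ ?_
    · exact hN1 this
    · intro i _
      apply hQfpf _ ((Q : Subgroup G).mul_mem hxQ ((Q : Subgroup G).pow_mem hzQ i))
      intro h
      apply hxz
      have : x = (z' ^ i)⁻¹ := eq_inv_of_mul_eq_one_left h
      rw [this]
      exact Subgroup.inv_mem _ (Subgroup.pow_mem _ (Subgroup.mem_zpowers z') i)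
    · intro k hk0 hks
      apply hQfpf _ ((Q : Subgroup G).pow_mem hzQ k)
      intro h
      have := orderOf_dvd_of_pow_eq_one h
      rw [hzord] at this
      have := Nat.le_of_dvd hk0 this
      omega
  have hb_eq : b = 1 := le_antisymm hb_le hb1
  rw [hb_eq, pow_one] at hcardG
  -- complement
  have hc : N.IsComplement' (Subgroup.zpowers x0) := by
    apply Subgroup.isComplement'_of_coprime
    · rw [Nat.card_zpowers, hx0, hcardN]; exact hcardG.symm
    · rw [Nat.card_zpowers, hx0, hcardN]; exact Nat.Coprime.pow_left a hcop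
  -- primitive root
  have hprim : orderOf (r : ZMod s) = s - 1 := by
    have hge := primitive_root_of_orbits hrs N (fun g hg => (hN g).mp hg) hN1 x0 hx0 hc hNchar
      (fun v hv hxv => by
        by_contra hv1
        exact hfpf x0 v hx0 (hNord v hv hv1) hxv)
      (fun v hv w hw hv1 hw1 => htrans v w (by rw [hNord v hv hv1, hNord w hw hw1]))
      (fun k hk0 hks => htrans x0 (x0 ^ k) (by
        rw [hx0]
        symm
        apply orderOf_eq_prime
        · rw [← pow_mul, mul_comm, pow_mul, ← hx0, pow_orderOf_eq_one, one_pow]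
        · intro h
          have := orderOf_dvd_of_pow_eq_one h
          rw [hx0] at this
          have := Nat.le_of_dvd hk0 this
          omega))
    have hr0 : (r : ZMod s) ≠ 0 := by
      intro h
      rw [ZMod.natCast_eq_zero_iff] at h
      exact hrs ((Nat.prime_dvd_prime_iff_eq hs.out hr.out).mp h).symm
    have hdvd := ZMod.orderOf_dvd_card_sub_one hr0
    have := Nat.le_of_dvd (by omega) hdvd
    omega
  refine ⟨a, ha1, hcardG, ?_, hprim, fun x y hx hy => hfpf x y hx hy⟩
  intro P
  rw [hSyl P]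
  exact ⟨inferInstance, inferInstance, fun g hg => (hN g).mp hg⟩

theorem forward_aux [Finite G] {r s : ℕ} [hr : Fact r.Prime] [hs : Fact s.Prime] (hrs : r ≠ s)
    (hord : ∀ g : G, orderOf g = 1 ∨ orderOf g = r ∨ orderOf g = s)
    (htrans : ∀ g h : G, orderOf g = orderOf h → ∃ σ : MulAut G, σ g = h)
    (N : Subgroup G) [hNc : N.Characteristic] (hNtop : N ≠ ⊤) (c : G) (hc : c ∈ N)
    (hcr : orderOf c = r) (x0 : G) (hx0 : orderOf x0 = s) :
    ∃ n : ℕ, 1 ≤ n ∧ Nat.card G = r ^ n * s ∧
      (∀ P : Sylow r G, (P : Subgroup G).Normal ∧ Cfsg.IsElementaryAbelian r (P : Subgroup G)) ∧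
      orderOf (r : ZMod s) = s - 1 ∧
      ∀ x y : G, orderOf x = s → orderOf y = r → x * y * x⁻¹ ≠ y := by
  have hmem : ∀ (σ : MulAut G) (g : G), g ∈ N → σ g ∈ N := by
    intro σ g hg
    have h1 := hNc.fixed σ.symm
    have : σ g ∈ N.comap σ.symm.toMonoidHom := by
      rw [Subgroup.mem_comap]
      show σ.symm (σ g) ∈ N
      rw [MulEquiv.symm_apply_apply]
      exact hg
    rw [h1] at this
    exact this
  have hall_r : ∀ g : G, orderOf g = r → g ∈ N := by
    intro g hg
    obtain ⟨σ, hσ⟩ := htrans c g (by rw [hcr, hg])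
    rw [← hσ]
    exact hmem σ c hc
  have hN : ∀ g, g ∈ N ↔ g ^ r = 1 := by
    intro g
    constructor
    · intro hg
      rcases hord g with h | h | h
      · rw [orderOf_eq_one_iff] at h; rw [h, one_pow]
      · rw [← h]; exact pow_orderOf_eq_one g
      · exfalso
        apply hNtop
        rw [eq_top_iff]
        intro g' _
        rcases hord g' with h' | h' | h'
        · rw [orderOf_eq_one_iff] at h'; rw [h']; exact N.one_mem
        · exact hall_r g' h'
        · obtain ⟨σ, hσ⟩ := htrans g g' (by rw [h, h'])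
          rw [← hσ]
          exact hmem σ g hg
    · intro hg
      have := orderOf_dvd_of_pow_eq_one hg
      rcases (Nat.dvd_prime hr.out).mp this with h | h
      · rw [orderOf_eq_one_iff] at h; rw [h]; exact N.one_mem
      · exact hall_r g h
  have hN1 : N ≠ ⊥ := by
    intro h
    rw [h, Subgroup.mem_bot] at hc
    rw [hc, orderOf_one] at hcr
    exact hr.out.one_lt.ne hcr
  exact structure_of_orbits hrs hord htrans N hN hN1 x0 hx0

theorem forward [Finite G] (hnpp : ¬ IsPrimePow (Nat.card G)) (hnt : Nat.card G ≠ 1)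
    (h3 : Nat.card (MulAction.orbitRel.Quotient (MulAut G) G) = 3) :
    ∃ (p q n : ℕ) (_ : Fact p.Prime) (_ : Fact q.Prime), p ≠ q ∧ 1 ≤ n ∧ Nat.card G = p ^ n * q ∧
      (∀ P : Sylow p G, (P : Subgroup G).Normal ∧ Cfsg.IsElementaryAbelian p (P : Subgroup G)) ∧
      orderOf (p : ZMod q) = q - 1 ∧
      ∀ x y : G, orderOf x = q → orderOf y = p → x * y * x⁻¹ ≠ y := by
  classical
  have hG0 : Nat.card G ≠ 0 := Nat.card_pos.ne'
  -- two primes
  obtain ⟨p1, hp1, hp1d⟩ := Nat.exists_prime_and_dvd hnt
  have hex2 : ∃ p2 : ℕ, p2.Prime ∧ p2 ∣ Nat.card G ∧ p2 ≠ p1 := by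
    by_contra hcon
    push_neg at hcon
    apply hnpp
    rw [isPrimePow_iff_unique_prime_dvd]
    exact ⟨p1, ⟨hp1, hp1d⟩, fun l hl => hcon l hl.1 hl.2⟩
  obtain ⟨p2, hp2, hp2d, hne⟩ := hex2
  haveI : Fact p1.Prime := ⟨hp1⟩
  haveI : Fact p2.Prime := ⟨hp2⟩
  obtain ⟨a, ha⟩ := exists_prime_orderOf_dvd_card' p1 hp1d
  obtain ⟨b, hb⟩ := exists_prime_orderOf_dvd_card' p2 hp2d
  -- the order function on orbits
  let ord : MulAction.orbitRel.Quotient (MulAut G) G → ℕ :=
    Quotient.lift (fun g => orderOf g) (by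
      intro x y hxy
      obtain ⟨σ, hσ⟩ := hxy
      show orderOf x = orderOf y
      rw [← hσ]
      exact MulEquiv.orderOf_eq σ y)
  have hord_mk : ∀ g : G, ord (Quotient.mk'' g) = orderOf g := fun g => rfl
  haveI : Finite (MulAction.orbitRel.Quotient (MulAut G) G) := Nat.finite_of_card_ne_zero (by omega)
  haveI : Fintype (MulAction.orbitRel.Quotient (MulAut G) G) := Fintype.ofFinite _
  set c1 : MulAction.orbitRel.Quotient (MulAut G) G := Quotient.mk'' 1 with hc1
  set ca : MulAction.orbitRel.Quotient (MulAut G) G := Quotient.mk'' a with hca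
  set cb : MulAction.orbitRel.Quotient (MulAut G) G := Quotient.mk'' b with hcb
  have h1a : c1 ≠ ca := by
    intro h
    have := congrArg ord h
    rw [hord_mk, hord_mk, orderOf_one, ha] at this
    exact hp1.one_lt.ne this
  have h1b : c1 ≠ cb := by
    intro h
    have := congrArg ord h
    rw [hord_mk, hord_mk, orderOf_one, hb] at this
    exact hp2.one_lt.ne this
  have hab : ca ≠ cb := by
    intro h
    have := congrArg ord h
    rw [hord_mk, hord_mk, ha, hb] at this
    exact hne this.symm
  have huniv : ({c1, ca, cb} : Finset _) = Finset.univ := by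
    apply Finset.eq_univ_of_card
    rw [Finset.card_insert_of_notMem, Finset.card_insert_of_notMem, Finset.card_singleton,
      ← Nat.card_eq_fintype_card, h3]
    · simpa using hab
    · simp only [Finset.mem_insert, Finset.mem_singleton, not_or]
      exact ⟨h1a, h1b⟩
  have hcases : ∀ c : MulAction.orbitRel.Quotient (MulAut G) G, c = c1 ∨ c = ca ∨ c = cb := by
    intro c
    have : c ∈ ({c1, ca, cb} : Finset _) := by rw [huniv]; exact Finset.mem_univ c
    simpa using this
  have hord : ∀ g : G, orderOf g = 1 ∨ orderOf g = p1 ∨ orderOf g = p2 := by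
    intro g
    rcases hcases (Quotient.mk'' g) with h | h | h
    · left; rw [← hord_mk, h, hord_mk, orderOf_one]
    · right; left; rw [← hord_mk, h, hord_mk, ha]
    · right; right; rw [← hord_mk, h, hord_mk, hb]
  have hclass : ∀ g h : G, orderOf g = orderOf h →
      (Quotient.mk'' g : MulAction.orbitRel.Quotient (MulAut G) G) = Quotient.mk'' h := by
    intro g h hgh
    have key : ∀ x : G, ((Quotient.mk'' x : MulAction.orbitRel.Quotient (MulAut G) G) = c1 ↔ orderOf x = 1) ∧
        ((Quotient.mk'' x : MulAction.orbitRel.Quotient (MulAut G) G) = ca ↔ orderOf x = p1) ∧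
        ((Quotient.mk'' x : MulAction.orbitRel.Quotient (MulAut G) G) = cb ↔ orderOf x = p2) := by
      intro x
      have e1 : ∀ c, (Quotient.mk'' x : MulAction.orbitRel.Quotient (MulAut G) G) = c → orderOf x = ord c := by
        intro c hc; rw [← hc, hord_mk]
      refine ⟨⟨fun h => by rw [e1 _ h, hord_mk, orderOf_one], fun h => ?_⟩,
        ⟨fun h => by rw [e1 _ h, hord_mk, ha], fun h => ?_⟩,
        ⟨fun h => by rw [e1 _ h, hord_mk, hb], fun h => ?_⟩⟩
      · rcases hcases (Quotient.mk'' x) with h' | h' | h'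
        · exact h'
        · rw [e1 _ h', hord_mk, ha] at h; exact absurd h hp1.one_lt.ne'
        · rw [e1 _ h', hord_mk, hb] at h; exact absurd h hp2.one_lt.ne'
      · rcases hcases (Quotient.mk'' x) with h' | h' | h'
        · rw [e1 _ h', hord_mk, orderOf_one] at h; exact absurd h hp1.one_lt.ne
        · exact h'
        · rw [e1 _ h', hord_mk, hb] at h; exact absurd h hne
      · rcases hcases (Quotient.mk'' x) with h' | h' | h'
        · rw [e1 _ h', hord_mk, orderOf_one] at h; exact absurd h hp2.one_lt.ne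
        · rw [e1 _ h', hord_mk, ha] at h; exact absurd h.symm hne
        · exact h'
    rcases hcases (Quotient.mk'' g) with h' | h' | h'
    · rw [h']; symm; rw [(key h).1, ← hgh, ← (key g).1]; exact h'
    · rw [h']; symm; rw [(key h).2.1, ← hgh, ← (key g).2.1]; exact h'
    · rw [h']; symm; rw [(key h).2.2, ← hgh, ← (key g).2.2]; exact h'
  have htrans : ∀ g h : G, orderOf g = orderOf h → ∃ σ : MulAut G, σ g = h := by
    intro g h hgh
    have := Quotient.exact (hclass h g hgh.symm)
    obtain ⟨σ, hσ⟩ := this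
    exact ⟨σ, hσ⟩
  -- solvable
  have hprimes : ∀ l : ℕ, l.Prime → l ∣ Nat.card G → l = p1 ∨ l = p2 := by
    intro l hl hdvd
    haveI : Fact l.Prime := ⟨hl⟩
    obtain ⟨g, hg⟩ := exists_prime_orderOf_dvd_card' l hdvd
    rcases hord g with h | h | h
    · rw [hg] at h; exact absurd h hl.one_lt.ne'
    · left; rw [← hg, h]
    · right; rw [← hg, h]
  have hcardG := two_prime_card hp1 hp2 hne.symm hG0 hprimes
  haveI hsolv : Group.IsSolvable G := Cfsg.Agent.S0144.result p1 p2 _ _ hp1 hp2 hcardG
  haveI : Nontrivial G := by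
    rw [← Finite.one_lt_card_iff_nontrivial]
    omega
  have hlt : commutator G < ⊤ := Group.IsSolvable.commutator_lt_top_of_nontrivial G
  have hNtop : commutator G ≠ ⊤ := ne_of_lt hlt
  have hNbot : commutator G ≠ ⊥ := by
    intro hbot
    have hcomm : Commute a b := by
      have : ⁅a, b⁆ ∈ commutator G := Subgroup.commutator_mem_commutator (Subgroup.mem_top a) (Subgroup.mem_top b)
      rw [hbot, Subgroup.mem_bot, commutatorElement_eq_one_iff_commute] at this
      exact this
    have h1 := hcomm.orderOf_mul_eq_mul_orderOf_of_coprime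
      (by rw [ha, hb]; exact (Nat.coprime_primes hp1 hp2).mpr hne.symm)
    rw [ha, hb] at h1
    have hp1' := hp1.two_le
    have hp2' := hp2.two_le
    rcases hord (a * b) with h2 | h2 | h2
    · rw [h2] at h1
      have := Nat.eq_one_of_mul_eq_one_left h1.symm
      omega
    · rw [h2] at h1
      have : p1 * p2 = p1 * 1 := by rw [mul_one]; exact h1.symm
      have := Nat.eq_of_mul_eq_mul_left (by omega) this
      omega
    · rw [h2] at h1
      have : p1 * p2 = 1 * p2 := by rw [one_mul]; exact h1.symm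
      have := Nat.eq_of_mul_eq_mul_right (by omega) this
      omega
  obtain ⟨c, hc1⟩ := (Subgroup.ne_bot_iff_exists_ne_one).mp hNbot
  have hcN : (c : G) ∈ commutator G := c.2
  have hc1' : (c : G) ≠ 1 := fun h => hc1 (Subtype.ext h)
  rcases hord (c : G) with h | h | h
  · rw [orderOf_eq_one_iff] at h; exact absurd h hc1'
  · obtain ⟨n, hn⟩ := forward_aux hne.symm hord htrans (commutator G) hNtop (c : G) hcN h b hb
    exact ⟨p1, p2, n, inferInstance, inferInstance, hne.symm, hn⟩
  · have hord' : ∀ g : G, orderOf g = 1 ∨ orderOf g = p2 ∨ orderOf g = p1 := by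
      intro g
      rcases hord g with h' | h' | h'
      · exact Or.inl h'
      · exact Or.inr (Or.inr h')
      · exact Or.inr (Or.inl h')
    obtain ⟨n, hn⟩ := forward_aux hne hord' htrans (commutator G) hNtop (c : G) hcN h a ha
    exact ⟨p2, p1, n, inferInstance, inferInstance, hne, hn⟩

theorem backward [Finite G] {p q n : ℕ} [hp : Fact p.Prime] [hq : Fact q.Prime] (hpq : p ≠ q)
    (hn : 1 ≤ n) (hcard : Nat.card G = p ^ n * q)
    (hSyl : ∀ P : Sylow p G, (P : Subgroup G).Normal ∧ Cfsg.IsElementaryAbelian p (P : Subgroup G))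
    (hord : orderOf (p : ZMod q) = q - 1)
    (hfpf : ∀ x y : G, orderOf x = q → orderOf y = p → x * y * x⁻¹ ≠ y) :
    Nat.card (MulAction.orbitRel.Quotient (MulAut G) G) = 3 := by
  classical
  obtain ⟨P⟩ : Nonempty (Sylow p G) := inferInstance
  set N : Subgroup G := (P : Subgroup G) with hNdef
  haveI hNn : N.Normal := (hSyl P).1
  haveI hNcm : IsMulCommutative N := (hSyl P).2.1
  have hNp : ∀ g ∈ N, g ^ p = 1 := (hSyl P).2.2
  have hcop : Nat.Coprime p q := (Nat.coprime_primes hp.out hq.out).mpr hpq
  have hcardN : Nat.card N = p ^ n := by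
    rw [hNdef, P.card_eq_multiplicity, hcard]
    congr 1
    rw [Nat.factorization_mul (pow_ne_zero _ hp.out.ne_zero) hq.out.ne_zero,
      Nat.Prime.factorization_pow hp.out, hq.out.factorization]
    simp [hpq]
  obtain ⟨y, hy⟩ := exists_prime_orderOf_dvd_card' (G := G) q (by rw [hcard]; exact dvd_mul_left _ _)
  have hc : N.IsComplement' (Subgroup.zpowers y) := by
    apply Subgroup.isComplement'_of_coprime
    · rw [Nat.card_zpowers, hy, hcardN]; exact hcard.symm
    · rw [Nat.card_zpowers, hy, hcardN]; exact Nat.Coprime.pow_left n hcop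
  have hNord : ∀ v ∈ N, v ≠ 1 → orderOf v = p := fun v hv hv1 => orderOf_eq_prime (hNp v hv) hv1
  have hfpf' : ∀ x : G, orderOf x = q → ∀ v ∈ N, x * v * x⁻¹ = v → v = 1 := by
    intro x hx v hv hxv
    by_contra hv1
    exact hfpf x v hx (hNord v hv hv1) hxv
  obtain ⟨hA, hB⟩ := exists_auts hpq hord N hNp y hy hc (hfpf' y hy)
  -- elements outside N are images of y
  have hout : ∀ g : G, g ∉ N → ∃ σ : MulAut G, σ y = g := by
    intro g hg
    obtain ⟨n', hn', k, hk, hgk⟩ := exists_decomp hc g
    rw [hy] at hk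
    have hk0 : 0 < k := by
      rcases Nat.eq_zero_or_pos k with h | h
      · exfalso
        apply hg
        rw [hgk, h, pow_zero, mul_one]
        exact hn'
      · exact h
    have hqk : ¬ q ∣ k := fun h => by
      have := Nat.le_of_dvd hk0 h
      omega
    have hyk : orderOf (y ^ k) = q := by
      apply orderOf_eq_prime
      · rw [← pow_mul, mul_comm, pow_mul, ← hy, pow_orderOf_eq_one, one_pow]
      · intro h
        have := orderOf_dvd_of_pow_eq_one h
        rw [hy] at this
        exact hqk this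
    obtain ⟨m, hm, hmk⟩ := exists_conj_eq (N := N) (y ^ k) (hfpf' _ hyk) n' hn'
    obtain ⟨σ, hσ⟩ := hB k hqk
    refine ⟨MulAut.conj m * σ, ?_⟩
    rw [MulAut.mul_apply, hσ, MulAut.conj_apply, hmk, hgk]
  have hyN : y ∉ N := by
    intro h
    have := orderOf_dvd_of_pow_eq_one (hNp y h)
    rw [hy] at this
    exact hpq ((Nat.prime_dvd_prime_iff_eq hq.out hp.out).mp this).symm
  have hNmem : ∀ g, g ∈ N ↔ g ^ p = 1 := by
    intro g
    refine ⟨hNp g, fun hg => ?_⟩
    by_contra hgN
    obtain ⟨σ, hσ⟩ := hout g hgN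
    have h1 : orderOf g = q := by rw [← hσ, MulEquiv.orderOf_eq, hy]
    have := orderOf_dvd_of_pow_eq_one hg
    rw [h1] at this
    exact hpq ((Nat.prime_dvd_prime_iff_eq hq.out hp.out).mp this).symm
  have hNinv : ∀ (σ : MulAut G) (g : G), σ g ∈ N ↔ g ∈ N := by
    intro σ g
    rw [hNmem, hNmem, ← map_pow]
    exact ⟨fun h => σ.injective (by rw [h, map_one]), fun h => by rw [h, map_one]⟩
  -- the classifying map
  let c : G → Fin 3 := fun g => if g = 1 then 0 else if g ∈ N then 1 else 2
  have hc0 : ∀ g, c g = 0 ↔ g = 1 := by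
    intro g
    simp only [c]
    split_ifs <;> simp_all
  have hc1 : ∀ g, c g = 1 ↔ g ≠ 1 ∧ g ∈ N := by
    intro g
    simp only [c]
    split_ifs <;> simp_all
  have hc2 : ∀ g, c g = 2 ↔ g ∉ N := by
    intro g
    simp only [c]
    split_ifs with h1 h2
    · simp [h1, N.one_mem]
    · simp [h2]
    · simp [h2]
  have hwell : ∀ (σ : MulAut G) (g : G), c (σ g) = c g := by
    intro σ g
    simp only [c, hNinv σ g, map_eq_one_iff σ σ.injective]
  let f : MulAction.orbitRel.Quotient (MulAut G) G → Fin 3 :=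
    Quotient.lift c (by
      intro x z hxz
      obtain ⟨σ, hσ⟩ := hxz
      show c x = c z
      rw [← hσ]
      exact hwell σ z)
  have hf_mk : ∀ g : G, f (Quotient.mk'' g) = c g := fun g => rfl
  have hrel : ∀ g h : G, (∃ σ : MulAut G, σ g = h) →
      (Quotient.mk'' g : MulAction.orbitRel.Quotient (MulAut G) G) = Quotient.mk'' h := by
    rintro g h ⟨σ, hσ⟩
    apply Quotient.sound
    exact ⟨σ⁻¹, by rw [← hσ]; simp⟩
  have hbij : Function.Bijective f := by
    constructor
    · intro a b hab
      induction a using Quotient.inductionOn with | _ a => ?_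
      induction b using Quotient.inductionOn with | _ b => ?_
      change f (Quotient.mk'' a) = f (Quotient.mk'' b) at hab
      rw [hf_mk, hf_mk] at hab
      change (Quotient.mk'' a : MulAction.orbitRel.Quotient (MulAut G) G) = Quotient.mk'' b
      have h3 : c b = 0 ∨ c b = 1 ∨ c b = 2 := by
        have := (c b).2
        rcases hcb : c b with ⟨v, hv⟩
        interval_cases v
        · left; rfl
        · right; left; rfl
        · right; right; rfl
      rcases h3 with h | h | h
      · rw [h] at hab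
        rw [(hc0 a).mp hab, (hc0 b).mp h]
      · rw [h] at hab
        obtain ⟨ha1, haN⟩ := (hc1 a).mp hab
        obtain ⟨hb1, hbN⟩ := (hc1 b).mp h
        exact hrel a b (hA a haN b hbN ha1 hb1)
      · rw [h] at hab
        obtain ⟨σa, hσa⟩ := hout a ((hc2 a).mp hab)
        obtain ⟨σb, hσb⟩ := hout b ((hc2 b).mp h)
        refine hrel a b ⟨σb * σa⁻¹, ?_⟩
        rw [MulAut.mul_apply, ← hσa]
        simp [hσb]
    · intro i
      have h3 : i = 0 ∨ i = 1 ∨ i = 2 := by
        rcases i with ⟨v, hv⟩
        interval_cases v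
        · left; rfl
        · right; left; rfl
        · right; right; rfl
      rcases h3 with rfl | rfl | rfl
      · exact ⟨Quotient.mk'' 1, by rw [hf_mk, hc0]⟩
      · have hN1 : N ≠ ⊥ := by
          intro h
          have : Nat.card N = 1 := by rw [h]; exact Subgroup.card_bot
          rw [hcardN] at this
          have := Nat.one_lt_pow (by omega : n ≠ 0) hp.out.one_lt
          omega
        obtain ⟨v, hv1⟩ := (Subgroup.ne_bot_iff_exists_ne_one).mp hN1
        refine ⟨Quotient.mk'' (v : G), ?_⟩
        rw [hf_mk, hc1]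
        exact ⟨fun h => hv1 (Subtype.ext h), v.2⟩
      · exact ⟨Quotient.mk'' y, by rw [hf_mk, hc2]; exact hyN⟩
  rw [Nat.card_eq_of_bijective f hbij, Nat.card_eq_fintype_card, Fintype.card_fin]

end Cfsg.Agent.H1.ThreeOrbMain
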