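import Mathlib
import Cfsg.Agent.H1.Basic

/-! Helper lemmas on the transfer homomorphism (helper1). -/

namespace Cfsg.Agent.H1

open scoped IsMulCommutative

/-- a central element lying in the derived subgroup is killed by the index of any abelian subgroup -/
theorem transfer_central_pow {G : Type*} [Group G] [Finite G] (H : Subgroup G) (hc : IsMulCommutative H)
    (z : G) (hzZ : z ∈ Subgroup.center G) (hzC : z ∈ commutator G) : z ^ H.index = 1 := by
  have key : ∀ (k : ℕ) (g₀ : G), g₀⁻¹ * z ^ k * g₀ ∈ H → g₀⁻¹ * z ^ k * g₀ = z ^ k := by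
    intro k g₀ _
    have hzk : z ^ k ∈ Subgroup.center G := pow_mem hzZ k
    rw [Subgroup.mem_center_iff] at hzk
    rw [mul_assoc, ← hzk g₀, inv_mul_cancel_left]
  have h1 := MonoidHom.transfer_eq_pow (MonoidHom.id H) z key
  have h2 : MonoidHom.transfer (MonoidHom.id H) z = 1 :=
    Abelianization.commutator_subset_ker (MonoidHom.transfer (MonoidHom.id H)) hzC
  rw [h2] at h1
  have := congrArg Subtype.val h1
  simpa using this.symm

end Cfsg.Agent.H1
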