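import Mathlib
import Cfsg.Agent.H1.SylowMore
import Cfsg.Agent.H1.SylowUniqueMax

set_option autoImplicit false
set_option linter.unusedVariables false
set_option linter.unusedSectionVars false
set_option linter.style.haveILetI false

namespace Cfsg.Agent.H1

open scoped Pointwise

/-- an involution on a finset with exactly one fixed point forces odd cardinality -/
lemma odd_card_of_involution {α : Type*} [DecidableEq α] (s : Finset α) (f : α → α) (i : α) (hi : i ∈ s)
    (hmem : ∀ a ∈ s, f a ∈ s) (hinv : ∀ a ∈ s, f (f a) = a) (hfix : ∀ a ∈ s, f a = a ↔ a = i) :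
    Odd s.card := by
  have hfi : f i = i := (hfix i hi).2 rfl
  have h1 : (∑ a ∈ s.erase i, (1 : ZMod 2)) = 0 := by
    refine Finset.sum_involution (fun a _ => f a) ?_ ?_ ?_ ?_
    · intro a ha; decide
    · intro a ha _ h
      exact (Finset.mem_erase.1 ha).1 ((hfix a (Finset.mem_of_mem_erase ha)).1 h)
    · intro a ha
      refine Finset.mem_erase.2 ⟨?_, hmem a (Finset.mem_of_mem_erase ha)⟩
      intro h
      have : a = i := by rw [← hinv a (Finset.mem_of_mem_erase ha), h, hfi]
      exact (Finset.mem_erase.1 ha).1 this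
    · intro a ha; exact hinv a (Finset.mem_of_mem_erase ha)
  rw [Finset.sum_const, nsmul_one] at h1
  have h2 : Even (s.erase i).card := ZMod.natCast_eq_zero_iff_even.1 h1
  rw [Finset.card_erase_of_mem hi] at h2
  have hpos : 0 < s.card := Finset.card_pos.2 ⟨i, hi⟩
  obtain ⟨k, hk⟩ := h2
  exact ⟨k, by omega⟩

/-- odd-order elements with equal squares are equal -/
lemma eq_of_sq_eq_of_odd {G : Type*} [Group G] {x y : G} (hx : Odd (orderOf x)) (hy : Odd (orderOf y))
    (h : x ^ 2 = y ^ 2) : x = y := by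
  obtain ⟨r, hr⟩ := hx
  obtain ⟨s, hs⟩ := hy
  have hx' : x = (x ^ 2) ^ (r + 1) := by
    rw [← pow_mul, show 2 * (r + 1) = orderOf x + 1 by omega, pow_succ, pow_orderOf_eq_one, one_mul]
  have hy' : y = (x ^ 2) ^ (s + 1) := by
    rw [h, ← pow_mul, show 2 * (s + 1) = orderOf y + 1 by omega, pow_succ, pow_orderOf_eq_one, one_mul]
  have hcomm : Commute x y := by
    have : Commute ((x ^ 2) ^ (r + 1)) ((x ^ 2) ^ (s + 1)) := (Commute.refl (x ^ 2)).pow_pow _ _
    rwa [← hx', ← hy'] at this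
  have h1 : (x * y⁻¹) ^ 2 = 1 := by
    rw [hcomm.inv_right.mul_pow, inv_pow, h, mul_inv_cancel]
  have h2 : (x * y⁻¹) ^ (orderOf x * orderOf y) = 1 := by
    rw [hcomm.inv_right.mul_pow, pow_mul, pow_orderOf_eq_one, one_pow, inv_pow, mul_comm (orderOf x),
      pow_mul, pow_orderOf_eq_one, one_pow, inv_one, mul_one]
  have h3 : orderOf (x * y⁻¹) ∣ Nat.gcd 2 (orderOf x * orderOf y) :=
    Nat.dvd_gcd (orderOf_dvd_of_pow_eq_one h1) (orderOf_dvd_of_pow_eq_one h2)
  have h4 : Nat.gcd 2 (orderOf x * orderOf y) = 1 := by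
    have : Odd (orderOf x * orderOf y) := Odd.mul ⟨r, hr⟩ ⟨s, hs⟩
    exact (Nat.coprime_two_left.2 this)
  rw [h4, Nat.dvd_one, orderOf_eq_one_iff] at h3
  exact mul_inv_eq_one.1 h3

section uniqueFixedPoint
variable {G : Type*} [Group G] (H : Subgroup G)

/-- `x` fixes exactly the point `γ` of `G ⧸ H`. -/
def UF (x : G) (γ : G ⧸ H) : Prop := ∀ ω : G ⧸ H, x • ω = ω ↔ ω = γ

lemma smul_coset_eq_iff (x g : G) : x • (g : G ⧸ H) = (g : G ⧸ H) ↔ g⁻¹ * x * g ∈ H := by
  rw [MulAction.Quotient.smul_coe, QuotientGroup.eq, ← H.inv_mem_iff]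
  have : ((x • g)⁻¹ * g)⁻¹ = g⁻¹ * x * g := by simp [smul_eq_mul, mul_assoc]
  rw [this]

variable {H}

lemma UF.conj {x : G} {γ : G ⧸ H} (h : UF H x γ) (w : G) : UF H (w * x * w⁻¹) (w • γ) := by
  intro ω
  rw [mul_smul, mul_smul, smul_eq_iff_eq_inv_smul, h (w⁻¹ • ω), inv_smul_eq_iff]

lemma UF.eq {x : G} {γ δ : G ⧸ H} (h : UF H x γ) (h' : UF H x δ) : γ = δ := (h' γ).1 ((h γ).2 rfl)

lemma UF.self {x : G} {γ : G ⧸ H} (h : UF H x γ) : x • γ = γ := (h γ).2 rfl

lemma UF.fix_of_commute {x c : G} {γ : G ⧸ H} (h : UF H x γ) (hc : Commute c x) : c • γ = γ := by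
  apply (h _).1
  rw [← mul_smul, ← hc.eq, mul_smul, h.self]

variable (H)

/-- the standing hypotheses: `z` is an involution fixing a unique point, and so do products of distinct commuting
conjugates -/
structure UFData (z : G) : Prop where
  sq : z * z = 1
  uf : UF H z ((1 : G) : G ⧸ H)
  prod : ∀ t : G, IsConj z t → t ≠ z → t * z = z * t → UF H (z * t) ((1 : G) : G ⧸ H)

variable {H} {z : G}

lemma UFData.conj_sq (D : UFData H z) {a : G} (ha : IsConj z a) : a * a = 1 := by
  obtain ⟨w, rfl⟩ := isConj_iff.1 ha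
  have : w * z * w⁻¹ * (w * z * w⁻¹) = w * (z * z) * w⁻¹ := by group
  rw [this, D.sq]; group

lemma UFData.conj_inv (D : UFData H z) {a : G} (ha : IsConj z a) : a⁻¹ = a :=
  inv_eq_of_mul_eq_one_left (D.conj_sq ha)

lemma UFData.exists_uf (D : UFData H z) {a : G} (ha : IsConj z a) : ∃ γ, UF H a γ := by
  obtain ⟨w, rfl⟩ := isConj_iff.1 ha
  exact ⟨_, D.uf.conj w⟩

lemma UFData.prod' (D : UFData H z) {a b : G} (ha : IsConj z a) (hb : IsConj z b) (hne : a ≠ b)
    (hab : Commute a b) {γ : G ⧸ H} (hγ : UF H a γ) : UF H (a * b) γ := by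
  obtain ⟨w, rfl⟩ := isConj_iff.1 ha
  have hγ' : γ = w • ((1 : G) : G ⧸ H) := hγ.eq (D.uf.conj w)
  have ht : IsConj z (w⁻¹ * b * w) := by
    refine hb.trans (isConj_iff.2 ⟨w⁻¹, by group⟩)
  have htne : w⁻¹ * b * w ≠ z := by
    intro h
    apply hne
    rw [← h]; group
  have htc : w⁻¹ * b * w * z = z * (w⁻¹ * b * w) := by
    calc w⁻¹ * b * w * z = w⁻¹ * (b * (w * z * w⁻¹)) * w := by group
      _ = w⁻¹ * ((w * z * w⁻¹) * b) * w := by rw [hab.eq]
      _ = z * (w⁻¹ * b * w) := by group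
  have := (D.prod _ ht htne htc).conj w
  rw [hγ']
  have e : w * (z * (w⁻¹ * b * w)) * w⁻¹ = w * z * w⁻¹ * b := by group
  rwa [e] at this

lemma UFData.odd_orderOf [Finite G] (D : UFData H z) {a b : G} (ha : IsConj z a) (hb : IsConj z b)
    {γ δ : G ⧸ H} (hγ : UF H a γ) (hδ : UF H b δ) (hne : γ ≠ δ) : Odd (orderOf (a * b)) := by
  by_contra hodd
  rw [Nat.not_odd_iff_even] at hodd
  obtain ⟨k, hk⟩ := hodd
  have ha2 := D.conj_sq ha
  have hb2 := D.conj_sq hb
  have hai := D.conj_inv ha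
  have hbi := D.conj_inv hb
  set d := a * b with hd
  have hdinv : d⁻¹ = b * a := by rw [hd, mul_inv_rev, hai, hbi]
  have had : SemiconjBy a d d⁻¹ := by
    show a * d = d⁻¹ * a
    rw [hdinv, hd, ← mul_assoc, ha2, one_mul, mul_assoc, ha2, mul_one]
  have hbd : SemiconjBy b d d⁻¹ := by
    show b * d = d⁻¹ * b
    rw [hdinv, hd, mul_assoc]
  have hkpos : 0 < k := by
    have := orderOf_pos d
    omega
  set c := d ^ k with hc
  have hc2 : c * c = 1 := by rw [hc, ← pow_add, ← hk, pow_orderOf_eq_one]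
  have hc1 : c ≠ 1 := by
    intro h
    have h1 : orderOf d ∣ k := orderOf_dvd_of_pow_eq_one h
    have := Nat.le_of_dvd hkpos h1
    omega
  have hci : c⁻¹ = c := inv_eq_of_mul_eq_one_left hc2
  have hac : a * c = c * a := by
    have := had.pow_right k
    rw [inv_pow, ← hc, hci] at this
    exact this
  have hbc : b * c = c * b := by
    have := hbd.pow_right k
    rw [inv_pow, ← hc, hci] at this
    exact this
  -- `a * c` is conjugate to `z`
  have hconj : IsConj z (a * c) := by
    rcases Nat.even_or_odd' k with ⟨l, hl | hl⟩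
    · -- k = 2 l
      refine ha.trans (isConj_iff.2 ⟨(d ^ l)⁻¹, ?_⟩)
      have h1 : a * d ^ l = (d ^ l)⁻¹ * a := by
        have := had.pow_right l
        rw [inv_pow] at this
        exact this
      rw [inv_inv, hc, hl, two_mul, pow_add, ← mul_assoc, h1]
    · -- k = 2 l + 1
      refine hb.trans (isConj_iff.2 ⟨(d ^ l)⁻¹, ?_⟩)
      have h1 : b * d ^ l = (d ^ l)⁻¹ * b := by
        have := hbd.pow_right l
        rw [inv_pow] at this
        exact this
      have h2 : a * d = b := by rw [hd, ← mul_assoc, ha2, one_mul]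
      rw [inv_inv, hc, hl, pow_succ', two_mul, pow_add, ← mul_assoc, ← mul_assoc, h2, h1]
  have hne2 : a ≠ a * c := by
    intro h
    apply hc1
    have : a * 1 = a * c := by rw [mul_one]; exact h
    exact (mul_left_cancel this).symm
  have hcomm : Commute a (a * c) := by
    show a * (a * c) = a * c * a
    rw [mul_assoc, hac]
  have hUc : UF H c γ := by
    have := D.prod' ha hconj hne2 hcomm hγ
    rwa [← mul_assoc, ha2, one_mul] at this
  have hcδ : c • δ = δ := hδ.fix_of_commute (show c * b = b * c from hbc.symm)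
  exact hne ((hUc δ).1 hcδ).symm

lemma UFData.conj_inj [Finite G] (D : UFData H z) {a : G} (ha : IsConj z a) {γ : G ⧸ H} (hγ : UF H a γ)
    {j j' : G} (hj : IsConj z j) (hj' : IsConj z j') (hjγ : j • γ ≠ γ) (hj'γ : j' • γ ≠ γ)
    (h : j * a * j⁻¹ = j' * a * j'⁻¹) : j = j' := by
  obtain ⟨δ, hδ⟩ := D.exists_uf hj
  obtain ⟨δ', hδ'⟩ := D.exists_uf hj'
  have hne : γ ≠ δ := by
    rintro rfl
    exact hjγ hδ.self
  have hne' : γ ≠ δ' := by
    rintro rfl
    exact hj'γ hδ'.self
  have o1 := D.odd_orderOf ha hj hγ hδ hne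
  have o2 := D.odd_orderOf ha hj' hγ hδ' hne'
  have e1 : (a * j) ^ 2 = a * (j * a * j⁻¹) := by
    rw [D.conj_inv hj, pow_two]; group
  have e2 : (a * j') ^ 2 = a * (j' * a * j'⁻¹) := by
    rw [D.conj_inv hj', pow_two]; group
  have := eq_of_sq_eq_of_odd o1 o2 (by rw [e1, e2, h])
  exact mul_left_cancel this

lemma UFData.conj_surj [Finite G] (D : UFData H z) {a : G} (ha : IsConj z a) {γ : G ⧸ H} (hγ : UF H a γ)
    {b : G} (hb : IsConj z b) {ω : G ⧸ H} (hω : UF H b ω) (hne : ω ≠ γ) :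
    ∃ j, IsConj z j ∧ j • γ = ω ∧ j * a * j⁻¹ = b := by
  let J := {j : G // IsConj z j ∧ j • γ ≠ γ}
  have hmap : ∀ j : J, IsConj z (j.1 * a * j.1⁻¹) ∧ (j.1 * a * j.1⁻¹) • γ ≠ γ := by
    intro j
    refine ⟨ha.trans (isConj_iff.2 ⟨j.1, rfl⟩), ?_⟩
    intro h
    have := ((hγ.conj j.1) γ).1 h
    exact j.2.2 this.symm
  let ψ : J → J := fun j => ⟨j.1 * a * j.1⁻¹, hmap j⟩
  have hinj : Function.Injective ψ := by
    intro j j' h
    have h' : j.1 * a * j.1⁻¹ = j'.1 * a * j'.1⁻¹ := congrArg Subtype.val h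
    exact Subtype.ext (D.conj_inj ha hγ j.2.1 j'.2.1 j.2.2 j'.2.2 h')
  have hsurj : Function.Surjective ψ := Finite.surjective_of_injective hinj
  have hbJ : b • γ ≠ γ := fun h => hne ((hω γ).1 h).symm
  obtain ⟨j, hj⟩ := hsurj ⟨b, hb, hbJ⟩
  have hj' : j.1 * a * j.1⁻¹ = b := congrArg Subtype.val hj
  refine ⟨j.1, j.2.1, ?_, hj'⟩
  have := hγ.conj j.1
  rw [hj'] at this
  exact this.eq hω

open Classical in
lemma UFData.odd_sigma [Fintype G] (D : UFData H z) {γ : G ⧸ H} {i : G} (hi : IsConj z i)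
    (hiγ : i • γ ≠ γ) :
    Odd (Finset.univ.filter (fun j : G => IsConj z j ∧ j • γ = i • γ)).card := by
  have hi2 := D.conj_sq hi
  have hii := D.conj_inv hi
  refine odd_card_of_involution _ (fun j => i * j * i⁻¹) i ?_ ?_ ?_ ?_
  · exact Finset.mem_filter.2 ⟨Finset.mem_univ _, hi, rfl⟩
  · intro j hj
    simp only [Finset.mem_filter, Finset.mem_univ, true_and] at hj ⊢
    refine ⟨hj.1.trans (isConj_iff.2 ⟨i, rfl⟩), ?_⟩
    have hj2 := D.conj_sq hj.1
    rw [hii, mul_smul, mul_smul, ← hj.2, ← mul_smul j j, hj2, one_smul, hj.2]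
  · intro j hj
    show i * (i * j * i⁻¹) * i⁻¹ = j
    rw [hii]
    calc i * (i * j * i) * i = (i * i) * j * (i * i) := by group
      _ = j := by rw [hi2, one_mul, mul_one]
  · intro j hj
    simp only [Finset.mem_filter, Finset.mem_univ, true_and] at hj
    constructor
    · intro h
      by_contra hne
      have hcomm : Commute i j := by
        show i * j = j * i
        have : i * j * i⁻¹ * i = j * i := by rw [h]
        rwa [inv_mul_cancel_right] at this
      obtain ⟨δ, hδ⟩ := D.exists_uf hi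
      have hU := D.prod' hi hj.1 (Ne.symm hne) hcomm hδ
      have hj2 := D.conj_sq hj.1
      have h1 : (i * j) • γ = γ := by
        rw [mul_smul, hj.2, ← mul_smul, hi2, one_smul]
      have h2 : (i * j) • (i • γ) = i • γ := by
        rw [mul_smul, ← hj.2, ← mul_smul j j, hj2, one_smul, hj.2]
      have e1 := (hU γ).1 h1
      have e2 := (hU (i • γ)).1 h2
      exact hiγ (e2.trans e1.symm)
    · rintro rfl
      rw [mul_inv_cancel_right]

open Classical in
lemma UFData.odd_fiber [Fintype G] (D : UFData H z) {a : G} (ha : IsConj z a) {γ : G ⧸ H} (hγ : UF H a γ)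
    {ω : G ⧸ H} (hne : ω ≠ γ) :
    Odd (Finset.univ.filter (fun b : G => IsConj z b ∧ b • ω = ω)).card := by
  -- a conjugate fixing `ω`
  obtain ⟨b₀, hb₀, hb₀ω⟩ : ∃ b₀, IsConj z b₀ ∧ UF H b₀ ω := by
    induction ω using QuotientGroup.induction_on with
    | H g =>
      refine ⟨g * z * g⁻¹, isConj_iff.2 ⟨g, rfl⟩, ?_⟩
      have := D.uf.conj g
      rwa [MulAction.Quotient.smul_coe, smul_eq_mul, mul_one] at this
  obtain ⟨i, hi, hiγ, -⟩ := D.conj_surj ha hγ hb₀ hb₀ω hne
  have hiγ' : i • γ ≠ γ := by rw [hiγ]; exact hne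
  have hodd := D.odd_sigma hi hiγ'
  rw [hiγ] at hodd
  have hcard : (Finset.univ.filter (fun j : G => IsConj z j ∧ j • γ = ω)).card =
      (Finset.univ.filter (fun b : G => IsConj z b ∧ b • ω = ω)).card := by
    refine Finset.card_bij (fun j _ => j * a * j⁻¹) ?_ ?_ ?_
    · intro j hj
      simp only [Finset.mem_filter, Finset.mem_univ, true_and] at hj ⊢
      refine ⟨ha.trans (isConj_iff.2 ⟨j, rfl⟩), ?_⟩
      have := hγ.conj j
      rw [hj.2] at this
      exact this.self
    · intro j hj j' hj' h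
      simp only [Finset.mem_filter, Finset.mem_univ, true_and] at hj hj'
      refine D.conj_inj ha hγ hj.1 hj'.1 ?_ ?_ h
      · rw [hj.2]; exact hne
      · rw [hj'.2]; exact hne
    · intro b hb
      simp only [Finset.mem_filter, Finset.mem_univ, true_and] at hb
      obtain ⟨δ, hδ⟩ := D.exists_uf hb.1
      have : ω = δ := (hδ ω).1 hb.2
      subst this
      obtain ⟨j, hj, hjγ, hjb⟩ := D.conj_surj ha hγ hb.1 hδ hne
      refine ⟨j, ?_, hjb⟩
      simp only [Finset.mem_filter, Finset.mem_univ, true_and]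
      exact ⟨hj, hjγ⟩
  rw [← hcard]
  exact hodd

open Classical in
lemma UFData.odd_index_centralizer [Finite G] (D : UFData H z) (hH : H ≠ ⊤) :
    Odd (Subgroup.centralizer ({z} : Set G)).index := by
  haveI : Fintype G := Fintype.ofFinite G
  haveI : Fintype (G ⧸ H) := Fintype.ofFinite _
  -- all fibres are odd
  obtain ⟨x, hx⟩ : ∃ x : G, x ∉ H := by
    by_contra h
    push_neg at h
    exact hH (eq_top_iff.2 fun g _ => h g)
  have hzz : IsConj z z := IsConj.refl z
  have hxα : x • ((1 : G) : G ⧸ H) ≠ ((1 : G) : G ⧸ H) := by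
    rw [MulAction.Quotient.smul_coe, smul_eq_mul, mul_one]
    intro h
    rw [QuotientGroup.eq, mul_one, H.inv_mem_iff] at h
    exact hx h
  have hfib : ∀ ω : G ⧸ H, Odd (Finset.univ.filter (fun b : G => IsConj z b ∧ b • ω = ω)).card := by
    intro ω
    by_cases hω : ω = ((1 : G) : G ⧸ H)
    · subst hω
      exact D.odd_fiber (isConj_iff.2 ⟨x, rfl⟩) (D.uf.conj x) (Ne.symm hxα)
    · exact D.odd_fiber hzz D.uf hω
  -- the number of points is odd
  have hΩ : Odd (Finset.univ : Finset (G ⧸ H)).card := by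
    refine odd_card_of_involution _ (fun ω => z • ω) ((1 : G) : G ⧸ H) (Finset.mem_univ _)
      (fun _ _ => Finset.mem_univ _) ?_ ?_
    · intro ω _
      show z • z • ω = ω
      rw [← mul_smul, D.sq, one_smul]
    · intro ω _
      exact D.uf ω
  -- the class is the disjoint union of the fibres
  have hI : (Finset.univ.filter (fun b : G => IsConj z b)) =
      (Finset.univ : Finset (G ⧸ H)).biUnion
        (fun ω => Finset.univ.filter (fun b : G => IsConj z b ∧ b • ω = ω)) := by
    ext b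
    simp only [Finset.mem_filter, Finset.mem_univ, true_and, Finset.mem_biUnion]
    constructor
    · intro hb
      obtain ⟨δ, hδ⟩ := D.exists_uf hb
      exact ⟨δ, hb, hδ.self⟩
    · rintro ⟨ω, hb, -⟩
      exact hb
  have hcard : (Finset.univ.filter (fun b : G => IsConj z b)).card =
      ∑ ω : G ⧸ H, (Finset.univ.filter (fun b : G => IsConj z b ∧ b • ω = ω)).card := by
    rw [hI, Finset.card_biUnion]
    intro ω _ ω' _ hne
    show Disjoint _ _
    rw [Finset.disjoint_left]
    intro b hb hb'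
    simp only [Finset.mem_filter, Finset.mem_univ, true_and] at hb hb'
    obtain ⟨δ, hδ⟩ := D.exists_uf hb.1
    exact hne (((hδ ω).1 hb.2).trans ((hδ ω').1 hb'.2).symm)
  have hoddI : Odd (Finset.univ.filter (fun b : G => IsConj z b)).card := by
    rw [hcard, Finset.odd_sum_iff_odd_card_odd]
    have : (Finset.univ.filter (fun ω : G ⧸ H =>
        Odd (Finset.univ.filter (fun b : G => IsConj z b ∧ b • ω = ω)).card)) = Finset.univ :=
      Finset.filter_true_of_mem (fun ω _ => hfib ω)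
    rw [this]
    exact hΩ
  -- index of the centralizer = class size
  have hidx : (Subgroup.centralizer ({z} : Set G)).index =
      (Finset.univ.filter (fun b : G => IsConj z b)).card := by
    have h1 : ((MulAction.stabilizer (ConjAct G) z).comap (ConjAct.toConjAct (G := G)).toMonoidHom).index =
        (MulAction.stabilizer (ConjAct G) z).index :=
      Subgroup.index_comap_of_surjective _ (ConjAct.toConjAct (G := G)).surjective
    have h2 : (Subgroup.centralizer ({z} : Set G)).index = (MulAction.stabilizer (ConjAct G) z).index := by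
      rw [Subgroup.centralizer_eq_comap_stabilizer]
      exact h1
    rw [h2, MulAction.index_stabilizer]
    have : MulAction.orbit (ConjAct G) z =
        ((Finset.univ.filter (fun b : G => IsConj z b) : Finset G) : Set G) := by
      ext b
      simp only [ConjAct.mem_orbit_conjAct, Finset.coe_filter, Finset.mem_univ, true_and,
        Set.mem_ofPred_eq]
      exact isConj_comm
    rw [this, Set.ncard_coe_finset]
  rw [hidx]
  exact hoddI

theorem UFData.exists_sylow_center [Finite G] (D : UFData H z) (hH : H ≠ ⊤) :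
    ∃ P : Sylow 2 G, z ∈ (P : Subgroup G) ∧ ∀ x ∈ (P : Subgroup G), x * z = z * x := by
  have hodd := D.odd_index_centralizer hH
  have hidx : ¬ 2 ∣ (Subgroup.centralizer ({z} : Set G)).index := by
    intro h
    exact (Nat.not_even_iff_odd.2 hodd) (even_iff_two_dvd.2 h)
  obtain ⟨R⟩ : Nonempty (Sylow 2 G) := inferInstance
  obtain ⟨g, hg⟩ := exists_sylow_le_map_conj R _ hidx
  have hPC : ∀ x ∈ ((g⁻¹ • R : Sylow 2 G) : Subgroup G), x * z = z * x := by
    intro x hx
    have hx' : g⁻¹⁻¹ * x * g⁻¹ ∈ R := (mem_sylow_smul g⁻¹ x R).1 hx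
    rw [inv_inv] at hx'
    have := hg hx'
    rw [mem_map_conj_iff] at this
    have e : g⁻¹ * (g * x * g⁻¹) * g = x := by group
    rw [e, Subgroup.mem_centralizer_iff] at this
    exact (this z rfl).symm
  refine ⟨g⁻¹ • R, ?_, hPC⟩
  set P : Sylow 2 G := g⁻¹ • R with hP
  have hzp : IsPGroup 2 (Subgroup.zpowers z) := by
    rintro ⟨y, hy⟩
    obtain ⟨m, rfl⟩ := Subgroup.mem_zpowers_iff.1 hy
    refine ⟨1, ?_⟩
    ext
    simp only [pow_one, Subgroup.coe_pow, Subgroup.coe_one]
    rw [← zpow_natCast, ← zpow_mul, mul_comm, zpow_mul, zpow_natCast, pow_two, D.sq, one_zpow]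
  have hPn : (P : Subgroup G) ≤ Subgroup.normalizer ((Subgroup.zpowers z : Subgroup G) : Set G) := by
    intro x hx
    have hxz := hPC x hx
    refine (Subgroup.centralizer_le_normalizer _) ?_
    rw [Subgroup.mem_centralizer_iff]
    intro y hy
    obtain ⟨m, rfl⟩ := Subgroup.mem_zpowers_iff.1 hy
    exact ((show Commute z x from hxz.symm).zpow_left m).eq
  have hsup : IsPGroup 2 ((P : Subgroup G) ⊔ Subgroup.zpowers z : Subgroup G) :=
    IsPGroup.to_sup_of_normal_right' P.isPGroup' hzp hPn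
  have := P.is_maximal' hsup le_sup_left
  have hz : z ∈ (P : Subgroup G) ⊔ Subgroup.zpowers z :=
    (le_sup_right : Subgroup.zpowers z ≤ _) (Subgroup.mem_zpowers z)
  rwa [this] at hz

end uniqueFixedPoint

end Cfsg.Agent.H1
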