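import Mathlib
import Cfsg.Agent.H1.Basic
import Cfsg.Agent.H1.BaerTrick
import Cfsg.Agent.H1.PerfectCover

set_option autoImplicit false

namespace Cfsg.Agent.H1

open Cfsg
open scoped commutatorElement

universe u v

section univCentral

/-- A central extension of `Q` by a free group modulo `[R, F]`, which maps to every central extension. -/
theorem exists_free_central {Q : Type u} [Group Q] :
    ∃ (P : Type u) (_ : Group P) (ψ : P →* Q), Function.Surjective ψ ∧ ψ.ker ≤ Subgroup.center P ∧
      ∀ (X : Type u) [Group X] (ξ : X →* Q), Function.Surjective ξ → ξ.ker ≤ Subgroup.center X →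
        ∃ θ : P →* X, ξ.comp θ = ψ := by
  classical
  let F := FreeGroup Q
  let φ : F →* Q := FreeGroup.lift id
  have hφs : Function.Surjective φ := fun q => ⟨FreeGroup.of q, FreeGroup.lift_apply_of⟩
  let N : Subgroup F := ⁅φ.ker, (⊤ : Subgroup F)⁆
  have hNle : N ≤ φ.ker := Subgroup.commutator_le_left _ _
  let ψ : F ⧸ N →* Q := QuotientGroup.lift N φ hNle
  have hψmk : ∀ f : F, ψ (QuotientGroup.mk f) = φ f := fun f => rfl
  refine ⟨F ⧸ N, inferInstance, ψ, ?_, ?_, ?_⟩
  · intro q
    obtain ⟨f, hf⟩ := hφs q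
    exact ⟨QuotientGroup.mk f, hf⟩
  · intro x hx
    obtain ⟨r, rfl⟩ := QuotientGroup.mk_surjective x
    rw [MonoidHom.mem_ker, hψmk] at hx
    rw [Subgroup.mem_center_iff]
    intro y
    obtain ⟨f, rfl⟩ := QuotientGroup.mk_surjective y
    have h1 : ⁅r, f⁆ ∈ N := Subgroup.commutator_mem_commutator (MonoidHom.mem_ker.2 hx) trivial
    have h2 : ((⁅r, f⁆ : F) : F ⧸ N) = 1 := (QuotientGroup.eq_one_iff _).2 h1
    have h3 : ⁅((r : F) : F ⧸ N), ((f : F) : F ⧸ N)⁆ = 1 := by
      rw [← h2]; rfl
    rw [commutatorElement_eq_one_iff_mul_comm] at h3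
    exact h3.symm
  · intro X _ ξ hξs hξc
    choose s hs using hξs
    let θ : F →* X := FreeGroup.lift s
    have hθ : ξ.comp θ = φ := by
      apply FreeGroup.ext_hom
      intro q
      show ξ (FreeGroup.lift s (FreeGroup.of q)) = FreeGroup.lift id (FreeGroup.of q)
      rw [FreeGroup.lift_apply_of, FreeGroup.lift_apply_of, hs]; rfl
    have hθN : N ≤ θ.ker := by
      show ⁅φ.ker, (⊤ : Subgroup F)⁆ ≤ θ.ker
      rw [Subgroup.commutator_le]
      intro r hr f _
      rw [MonoidHom.mem_ker, map_commutatorElement]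
      apply comm_central_left
      apply hξc
      rw [MonoidHom.mem_ker]
      have : ξ (θ r) = φ r := DFunLike.congr_fun hθ r
      rw [this]
      exact hr
    refine ⟨QuotientGroup.lift N θ hθN, ?_⟩
    apply MonoidHom.ext
    intro x
    obtain ⟨f, rfl⟩ := QuotientGroup.mk_surjective x
    show ξ (θ f) = φ f
    exact DFunLike.congr_fun hθ f

end univCentral

end Cfsg.Agent.H1
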