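import Mathlib
import Cfsg.Prelude.Def_Characters
import Cfsg.Agent.Lib.helper3.Irr17
import Cfsg.Agent.Lib.helper3.Lin
import Cfsg.Agent.Lib.helper3.CentralChar

set_option autoImplicit false
set_option linter.style.haveILetI false
set_option linter.unusedSectionVars false
set_option linter.unusedVariables false

/-!
# Winter's theorem, part A: arithmetic, the class-two square lemma, fixed points on a section
-/

namespace Cfsg.Agent.H1.Winter

open Cfsg Cfsg.Agent.Lib.helper3.Irr Cfsg.Agent.Lib.helper3.IndFun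
open scoped ComplexConjugate

/-! ### Arithmetic -/

/-- The conclusion of Winter's theorem. -/
def Good (p n : ℕ) : Prop :=
  ∃ q : ℕ, IsPrimePow q ∧ q ∣ n ∧
    ((q : ℤ) ≡ -1 [ZMOD p] ∨ (q : ℤ) ≡ 0 [ZMOD p] ∨ (q : ℤ) ≡ 1 [ZMOD p])

theorem Good.mono {p n n' : ℕ} (h : Good p n) (hd : n ∣ n') : Good p n' := by
  obtain ⟨q, hq, hqn, hc⟩ := h
  exact ⟨q, hq, hqn.trans hd, hc⟩

theorem good_of_pow_self {p n j : ℕ} (hp : p.Prime) (hj : 1 ≤ j) (hd : p ^ j ∣ n) : Good p n := by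
  refine ⟨p ^ j, hp.isPrimePow.pow (by omega), hd, Or.inr (Or.inl ?_)⟩
  rw [Int.modEq_zero_iff_dvd]
  exact_mod_cast dvd_pow_self p (by omega : j ≠ 0)

theorem good_of_pow_modEq_one {p n r j : ℕ} (hr : r.Prime) (hj : 1 ≤ j)
    (h : r ^ j ≡ 1 [MOD p]) (hd : r ^ j ∣ n) : Good p n := by
  refine ⟨r ^ j, hr.isPrimePow.pow (by omega), hd, Or.inr (Or.inr ?_)⟩
  have h1 := (Int.natCast_modEq_iff).mpr h
  simpa using h1

theorem good_of_sq_modEq_one {p n r j : ℕ} (hp : p.Prime) (hr : r.Prime) (hj : 1 ≤ j)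
    (h : (r ^ j) ^ 2 ≡ 1 [MOD p]) (hd : r ^ j ∣ n) : Good p n := by
  have h1 : (((r ^ j : ℕ) : ℤ)) ^ 2 ≡ 1 [ZMOD p] := by
    have h0 := (Int.natCast_modEq_iff).mpr h
    simpa using h0
  have h2 : (p : ℤ) ∣ ((r ^ j : ℕ) : ℤ) ^ 2 - 1 := Int.modEq_iff_dvd.mp h1.symm
  have h3 : ((r ^ j : ℕ) : ℤ) ^ 2 - 1 = (((r ^ j : ℕ) : ℤ) - 1) * (((r ^ j : ℕ) : ℤ) + 1) := by
    ring
  rw [h3] at h2
  rcases (Nat.prime_iff_prime_int.mp hp).dvd_or_dvd h2 with h4 | h4
  · refine ⟨r ^ j, hr.isPrimePow.pow (by omega), hd, Or.inr (Or.inr ?_)⟩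
    exact (Int.modEq_iff_dvd.mpr h4).symm
  · refine ⟨r ^ j, hr.isPrimePow.pow (by omega), hd, Or.inl ?_⟩
    have h5 : (p : ℤ) ∣ ((r ^ j : ℕ) : ℤ) - (-1) := by
      rw [sub_neg_eq_add]
      exact h4
    exact (Int.modEq_iff_dvd.mpr h5).symm

theorem good_of_pow_modEq_pow {p n r d i : ℕ} (hp : p.Prime) (hr : r.Prime) (hrp : r ≠ p)
    (hid : i < d) (h : r ^ d ≡ r ^ i [MOD p]) (hd : r ^ d ∣ n) : Good p n := by
  have hcop : Nat.gcd p (r ^ i) = 1 := by
    apply Nat.Coprime.pow_right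
    exact (Nat.coprime_primes hp hr).mpr (Ne.symm hrp)
  have h1 : r ^ i * r ^ (d - i) ≡ r ^ i * 1 [MOD p] := by
    rw [← pow_add, mul_one, Nat.add_sub_cancel' hid.le]
    exact h
  have h2 := Nat.ModEq.cancel_left_of_coprime hcop h1
  exact good_of_pow_modEq_one hr (by omega) h2 ((pow_dvd_pow r (Nat.sub_le d i)).trans hd)

theorem good_of_sq_pow {p n r m c : ℕ} (hp : p.Prime) (hr : r.Prime) (hrp : r ≠ p)
    (hcm : c < m) (h : r ^ (2 * m) ≡ r ^ (2 * c) [MOD p]) (hd : r ^ m ∣ n) : Good p n := by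
  have hcop : Nat.gcd p (r ^ (2 * c)) = 1 := by
    apply Nat.Coprime.pow_right
    exact (Nat.coprime_primes hp hr).mpr (Ne.symm hrp)
  have h1 : r ^ (2 * c) * (r ^ (m - c)) ^ 2 ≡ r ^ (2 * c) * 1 [MOD p] := by
    rw [← pow_mul, ← pow_add, mul_one]
    have e : 2 * c + (m - c) * 2 = 2 * m := by omega
    rw [e]
    exact h
  have h2 := Nat.ModEq.cancel_left_of_coprime hcop h1
  exact good_of_sq_modEq_one hp hr (by omega) h2 ((pow_dvd_pow r (Nat.sub_le m c)).trans hd)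

theorem sq_eq_prime_pow {r k j : ℕ} (hr : r.Prime) (h : k ^ 2 = r ^ j) :
    ∃ i, k = r ^ i ∧ j = 2 * i := by
  have hk : k ∣ r ^ j := ⟨k, by rw [← h, sq]⟩
  obtain ⟨i, _, rfl⟩ := (Nat.dvd_prime_pow hr).mp hk
  refine ⟨i, rfl, ?_⟩
  rw [← pow_mul] at h
  have := Nat.pow_right_injective hr.two_le h
  omega

/-! ### The square lemma -/

/-- If `D' ≤ Z = Z(D)` and `Z` has a faithful linear character `ψ`, then an irreducible character
of `D` over `ψ` vanishes off `Z` and `|D : Z| = φ(1)²`. -/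
theorem sq_index {D : Type*} [Group D] [Fintype D] (Z : Subgroup D) [Fintype Z]
    (hZ : Z ≤ Subgroup.center D) {ψ : Z → ℂ} (hψ : IsIrrCharacter Z ψ)
    (hψf : ∀ z : Z, ψ z = 1 → z = 1)
    (hcomm : ∀ a b : D, a * b * a⁻¹ * b⁻¹ ∈ Z)
    (hcen : ∀ d : D, (∀ y : D, d * y = y * d) → d ∈ Z)
    {φ : D → ℂ} (hφ : IsIrrCharacter D φ) (hover : classInner (fun z : Z => φ z) ψ ≠ 0) :
    ∃ k : ℕ, 0 < k ∧ φ 1 = k ∧ Z.index = k ^ 2 := by
  classical
  have hmul := Cfsg.Agent.Lib.helper3.Central.apply_mul_central Z hZ hψ hφ hover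
  have hφc := isCharacter_of_isIrrCharacter hφ
  have hψc := isCharacter_of_isIrrCharacter hψ
  have hZcomm : ∀ a b : Z, a * b = b * a := by
    intro a b
    apply Subtype.ext
    have h := (Subgroup.mem_center_iff.mp (hZ a.2)) (b : D)
    exact h.symm
  have hψ1 : ψ 1 = 1 := apply_one_eq_one_of_comm hZcomm hψ
  have hψmul := Cfsg.Agent.Lib.helper3.Lin.map_mul_of_apply_one_eq_one hψc hψ1
  have hψnorm : ∀ z : Z, ψ z * conj (ψ z) = 1 := by
    intro z
    rw [← isCharacter_apply_inv hψc z, ← hψmul, mul_inv_cancel, hψ1]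
  have hvan : ∀ d : D, d ∉ Z → φ d = 0 := by
    intro d hd
    have hex : ∃ y : D, d * y ≠ y * d := by
      by_contra hcon
      push Not at hcon
      exact hd (hcen d hcon)
    obtain ⟨y, hy⟩ := hex
    have hcZ : y * d * y⁻¹ * d⁻¹ ∈ Z := hcomm y d
    have hc1 : (⟨y * d * y⁻¹ * d⁻¹, hcZ⟩ : Z) ≠ 1 := by
      intro h
      have h' : y * d * y⁻¹ * d⁻¹ = 1 := congrArg Subtype.val h
      apply hy
      have e : y * d = d * y := by
        calc y * d = (y * d * y⁻¹ * d⁻¹) * (d * y) := by group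
          _ = d * y := by rw [h', one_mul]
      exact e.symm
    have hψc1 : ψ ⟨y * d * y⁻¹ * d⁻¹, hcZ⟩ ≠ 1 := fun h => hc1 (hψf _ h)
    have h1 : φ (y * d * y⁻¹) = φ d := isClassFunction_of_isCharacter hφc d y
    have h2 : y * d * y⁻¹ = d * (y * d * y⁻¹ * d⁻¹) := by
      have hcc := Subgroup.mem_center_iff.mp (hZ hcZ) d
      rw [hcc]
      group
    have h2' : φ (y * d * y⁻¹) = ψ ⟨y * d * y⁻¹ * d⁻¹, hcZ⟩ * φ d := by
      have h6 := hmul d ⟨y * d * y⁻¹ * d⁻¹, hcZ⟩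
      have h7 : φ (d * (y * d * y⁻¹ * d⁻¹)) = φ (y * d * y⁻¹) := by rw [← h2]
      rw [← h7]
      exact h6
    rw [h2'] at h1
    have h3 : (ψ ⟨y * d * y⁻¹ * d⁻¹, hcZ⟩ - 1) * φ d = 0 := by
      rw [sub_mul, h1, one_mul, sub_self]
    rcases mul_eq_zero.mp h3 with h4 | h4
    · exact absurd (sub_eq_zero.mp h4) hψc1
    · exact h4
  obtain ⟨k, hk0, hk⟩ := exists_pos_nat_apply_one hφ
  have hself := irr_classInner_self hφ
  rw [classInner_apply] at hself
  have hsum : ∑ d : D, φ d * conj (φ d) = (Nat.card Z : ℂ) * (k : ℂ) ^ 2 := by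
    have h1 : ∑ d : D, φ d * conj (φ d)
        = ∑ d ∈ Finset.univ.filter (fun d : D => d ∈ Z), φ d * conj (φ d) := by
      symm
      apply Finset.sum_filter_of_ne
      intro d _ hne
      by_contra hd
      exact hne (by rw [hvan d hd, zero_mul])
    rw [h1]
    have h2 : ∑ d ∈ Finset.univ.filter (fun d : D => d ∈ Z), φ d * conj (φ d)
        = ∑ z : Z, φ z * conj (φ z) := by
      apply Finset.sum_subtype
      intro x
      simp
    rw [h2]
    have h3 : ∀ z : Z, φ z * conj (φ z) = (k : ℂ) ^ 2 := by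
      intro z
      have h5 := hmul 1 z
      rw [one_mul] at h5
      rw [h5, map_mul, hk, Complex.conj_natCast]
      calc ψ z * k * (conj (ψ z) * k) = (ψ z * conj (ψ z)) * (k : ℂ) ^ 2 := by ring
        _ = (k : ℂ) ^ 2 := by rw [hψnorm, one_mul]
    rw [Finset.sum_congr rfl (fun z _ => h3 z), Finset.sum_const, Finset.card_univ,
      nsmul_eq_mul, Nat.card_eq_fintype_card]
  have hD0 : (Nat.card D : ℂ) ≠ 0 := by exact_mod_cast Nat.card_pos.ne'
  have h4 : (Nat.card D : ℂ) = (Nat.card Z : ℂ) * (k : ℂ) ^ 2 := by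
    rw [← hsum]
    exact (inv_mul_eq_one₀ hD0).mp hself
  have h5 : Nat.card D = Nat.card Z * k ^ 2 := by exact_mod_cast h4
  have h6 := Z.card_mul_index
  refine ⟨k, hk0, hk, ?_⟩
  exact Nat.eq_of_mul_eq_mul_left Nat.card_pos (h6.trans h5)

/-! ### Fixed points on a section -/

/-- The fixed-point congruence for a `p`-group acting by conjugation on a section `W / Z`. -/
theorem relIndex_modEq_fixed {G : Type*} [Group G] [Finite G] (p : ℕ) [Fact p.Prime]
    (P Z W D : Subgroup G) (hP : IsPGroup p P) (hZW : Z ≤ W)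
    (hZn : ∀ y ∈ P, ∀ z ∈ Z, y * z * y⁻¹ ∈ Z) (hWn : ∀ y ∈ P, ∀ w ∈ W, y * w * y⁻¹ ∈ W)
    (hD : ∀ x, x ∈ D ↔ x ∈ W ∧ ∀ y ∈ P, x⁻¹ * (y * x * y⁻¹) ∈ Z) :
    Z.relIndex W ≡ Z.relIndex D [MOD p] := by
  classical
  letI act : MulAction P W :=
    { smul := fun y w => ⟨(y : G) * (w : G) * (y : G)⁻¹, hWn y y.2 w w.2⟩
      one_smul := fun w => Subtype.ext (by
        show ((1 : P) : G) * (w : G) * ((1 : P) : G)⁻¹ = w
        simp)
      mul_smul := fun a b w => Subtype.ext (by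
        show ((a * b : P) : G) * (w : G) * ((a * b : P) : G)⁻¹
          = (a : G) * ((b : G) * (w : G) * (b : G)⁻¹) * (a : G)⁻¹
        simp [mul_assoc]) }
  have hsmul : ∀ (y : P) (w : W), ((y • w : W) : G) = (y : G) * (w : G) * (y : G)⁻¹ :=
    fun _ _ => rfl
  haveI : MulAction.QuotientAction P (Z.subgroupOf W) := ⟨by
    intro b a a' h
    rw [Subgroup.mem_subgroupOf] at h ⊢
    have h1 := hZn b b.2 _ h
    have e : (((b • a)⁻¹ * b • a' : W) : G) = (b : G) * ((a⁻¹ * a' : W) : G) * (b : G)⁻¹ := by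
      rw [Subgroup.coe_mul, Subgroup.coe_inv, hsmul, hsmul, Subgroup.coe_mul, Subgroup.coe_inv]
      group
    rw [e]
    exact h1⟩
  have hcong := hP.card_modEq_card_fixedPoints (W ⧸ Z.subgroupOf W)
  have hcard1 : Nat.card (W ⧸ Z.subgroupOf W) = Z.relIndex W := by
    rw [← Subgroup.index_eq_card]
    rfl
  -- `Z ≤ D ≤ W`
  have hZD : Z ≤ D := by
    intro z hz
    rw [hD]
    refine ⟨hZW hz, fun y hy => Z.mul_mem (Z.inv_mem hz) (hZn y hy z hz)⟩
  have hDW : D ≤ W := fun x hx => ((hD x).mp hx).1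
  -- the preimage of the fixed points
  have hpre : (QuotientGroup.mk ⁻¹' (MulAction.fixedPoints P (W ⧸ Z.subgroupOf W)) : Set W)
      = ((D.subgroupOf W : Subgroup W) : Set W) := by
    ext w
    rw [Set.mem_preimage, MulAction.mem_fixedPoints, SetLike.mem_coe, Subgroup.mem_subgroupOf, hD]
    constructor
    · intro h
      refine ⟨w.2, fun y hy => ?_⟩
      have h1 := h ⟨y, hy⟩
      rw [MulAction.Quotient.smul_mk, eq_comm, QuotientGroup.eq, Subgroup.mem_subgroupOf] at h1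
      have e : ((w⁻¹ * (⟨y, hy⟩ : P) • w : W) : G) = (w : G)⁻¹ * (y * (w : G) * y⁻¹) := by
        rw [Subgroup.coe_mul, Subgroup.coe_inv, hsmul]
      rw [e] at h1
      exact h1
    · rintro ⟨_, h⟩ y
      rw [MulAction.Quotient.smul_mk, eq_comm, QuotientGroup.eq, Subgroup.mem_subgroupOf]
      have e : ((w⁻¹ * y • w : W) : G) = (w : G)⁻¹ * ((y : G) * (w : G) * (y : G)⁻¹) := by
        rw [Subgroup.coe_mul, Subgroup.coe_inv, hsmul]
      rw [e]
      exact h y y.2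
  have hcount := QuotientGroup.card_preimage_mk (Z.subgroupOf W)
    (MulAction.fixedPoints P (W ⧸ Z.subgroupOf W))
  rw [hpre] at hcount
  have hc1 : Nat.card ((D.subgroupOf W : Subgroup W) : Set W) = Nat.card D :=
    Nat.card_congr (Subgroup.subgroupOfEquivOfLe hDW).toEquiv
  have hc2 : Nat.card (Z.subgroupOf W) = Nat.card Z :=
    Nat.card_congr (Subgroup.subgroupOfEquivOfLe hZW).toEquiv
  have hc3 : Nat.card (Z.subgroupOf D) = Nat.card Z :=
    Nat.card_congr (Subgroup.subgroupOfEquivOfLe hZD).toEquiv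
  rw [hc1, hc2] at hcount
  have hc4 := (Z.subgroupOf D).card_mul_index
  rw [hc3] at hc4
  have hfix : Nat.card (MulAction.fixedPoints P (W ⧸ Z.subgroupOf W)) = Z.relIndex D := by
    have h7 : Nat.card Z * Nat.card (MulAction.fixedPoints P (W ⧸ Z.subgroupOf W))
        = Nat.card Z * Z.relIndex D := by
      rw [← hcount]
      exact hc4.symm
    exact Nat.eq_of_mul_eq_mul_left Nat.card_pos h7
  rw [hcard1, hfix] at hcong
  exact hcong

end Cfsg.Agent.H1.Winter
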