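import Mathlib
import Cfsg.Prelude.Def_Characters
import Cfsg.Agent.H1.WinterA
import Cfsg.Agent.Lib.helper3.Clifford2
import Cfsg.Agent.Lib.helper3.PDeg5
import Cfsg.Agent.Lib.Helper5.FieldVal7

set_option autoImplicit false
set_option linter.style.haveILetI false
set_option linter.unusedSectionVars false
set_option linter.unusedVariables false

/-!
# Winter's theorem, part B: reduction to a proper normal subgroup containing the Sylow subgroup
-/

namespace Cfsg.Agent.H1.Winter

open Cfsg Cfsg.Agent.Lib.helper3.Irr Cfsg.Agent.Lib.helper3.IndFun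
open Cfsg.Agent.Lib.helper3.PDeg Cfsg.Agent.Lib.Helper5.FieldVal
open scoped ComplexConjugate

universe u

/-- The inductive hypothesis: Winter's theorem for all solvable groups of order less than `c`. -/
def IH (p : ℕ) (c : ℕ) : Prop :=
  ∀ (X : Type u) [Group X] [Finite X], Group.IsSolvable X → Nat.card X < c →
    ∀ θ : X → ℂ, IsIrrCharacter X θ → (∀ x, θ x = θ 1 → x = 1) →
    ∀ Q : Subgroup X, IsPGroup p Q → ¬ p ∣ Q.index → ¬ Q.Normal → ∀ d : ℕ, θ 1 = d → Good p d

/-- A `p`-subgroup of `p'`-index is a maximal `p`-subgroup. -/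
theorem eq_of_pgroup_le {X : Type*} [Group X] [Finite X] {p : ℕ} [hp : Fact p.Prime]
    {Q T : Subgroup X} (hT : IsPGroup p T) (hQi : ¬ p ∣ Q.index) (hQT : Q ≤ T) : T = Q := by
  have h1 := Subgroup.relIndex_mul_index hQT
  have h2 : ¬ p ∣ Q.relIndex T := fun h => hQi (h1 ▸ Dvd.dvd.mul_right h _)
  obtain ⟨n, hn⟩ := hT.index (Q.subgroupOf T)
  have h3 : Q.relIndex T = p ^ n := hn
  have hn0 : n = 0 := by
    by_contra h
    apply h2
    rw [h3]
    exact dvd_pow_self p h
  rw [hn0, pow_zero] at h3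
  exact le_antisymm (Subgroup.relIndex_eq_one.mp h3) hQT

/-- A normal `p`-subgroup of `p'`-index in a normal subgroup is normal in the whole group. -/
theorem normal_of_normal_subgroupOf {G : Type*} [Group G] [Finite G] {p : ℕ} [hp : Fact p.Prime]
    (Q N : Subgroup G) [hN : N.Normal] (hQ : IsPGroup p Q) (hQN : Q ≤ N)
    (hQi : ¬ p ∣ (Q.subgroupOf N).index) (hn : (Q.subgroupOf N).Normal) : Q.Normal := by
  constructor
  intro x hx g
  set R : Subgroup G := Q.map (MulAut.conj g).toMonoidHom with hR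
  have hRp : IsPGroup p R := hQ.map _
  have hRN : R ≤ N := by
    rintro y ⟨z, hz, rfl⟩
    exact hN.conj_mem z (hQN hz) g
  have hR'p : IsPGroup p (R.subgroupOf N) := hRp.comap_subtype
  have hQ'p : IsPGroup p (Q.subgroupOf N) := hQ.comap_subtype
  haveI := hn
  have hsup : IsPGroup p (Q.subgroupOf N ⊔ R.subgroupOf N : Subgroup N) :=
    hQ'p.to_sup_of_normal_left hR'p
  have heq := eq_of_pgroup_le hsup hQi le_sup_left
  have hle : R.subgroupOf N ≤ Q.subgroupOf N := by
    rw [← heq]
    exact le_sup_right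
  have hu : g * x * g⁻¹ ∈ R := ⟨x, hx, rfl⟩
  have h1 : (⟨g * x * g⁻¹, hRN hu⟩ : N) ∈ R.subgroupOf N := Subgroup.mem_subgroupOf.mpr hu
  exact Subgroup.mem_subgroupOf.mp (hle h1)

theorem conjFun_apply_one {G : Type*} [Group G] (N : Subgroup G) [hN : N.Normal] (θ : N → ℂ)
    (g : G) : conjFun N θ g 1 = θ 1 := by
  unfold conjFun
  congr 1
  apply Subtype.ext
  simp

/-- Reduction: if the Sylow `p`-subgroup lies in a proper normal subgroup, induction applies. -/
theorem reduction {G : Type u} [Group G] [Finite G] (hsolv : Group.IsSolvable G) (p : ℕ)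
    [hp : Fact p.Prime] (hIH : IH.{u} p (Nat.card G)) {χ : G → ℂ} (hχ : IsIrrCharacter G χ)
    (hfaith : ∀ g, χ g = χ 1 → g = 1)
    (Q : Subgroup G) (hQ : IsPGroup p Q) (hQi : ¬ p ∣ Q.index) (hQn : ¬ Q.Normal)
    (N : Subgroup G) [hN : N.Normal] (hNtop : N ≠ ⊤) (hQN : Q ≤ N) (d : ℕ) (hd : χ 1 = d) :
    Good p d := by
  classical
  haveI := hsolv
  letI : Fintype G := Fintype.ofFinite G
  letI : Fintype N := Fintype.ofFinite N
  have hχc := isCharacter_of_isIrrCharacter hχ
  have hres := isCharacter_restrict hχc N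
  have hres0 : (fun n : N => χ n) ≠ 0 := by
    intro h
    have h1 := congrFun h 1
    exact apply_one_ne_zero hχ h1
  obtain ⟨θ, hθcon⟩ := exists_constituent hres hres0
  obtain ⟨dθ, hdθ0, hdθ⟩ := exists_pos_nat_apply_one θ.2
  have hdvd : dθ ∣ d := constituent_degree_dvd N χ hχ θ θ.2 hθcon d dθ hd hdθ
  have hcl := clifford N χ hχ θ θ.2 hθcon
  rw [setOf_conj_eq, finsum_mem_coe_finset] at hcl
  have hirrg : ∀ g : G, IsIrrCharacter N (conjFun N (θ : N → ℂ) g) :=
    fun g => isIrrCharacter_conjFun N θ.2 g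
  -- the intersection of the kernels is trivial
  have hker : ∀ x : N, (∀ g : G, conjFun N (θ : N → ℂ) g x = conjFun N (θ : N → ℂ) g 1) →
      x = 1 := by
    intro x hx
    have h1 := congrFun hcl x
    have h2 := congrFun hcl 1
    simp only [Pi.smul_apply, Finset.sum_apply] at h1 h2
    have h3 : ∑ ψ ∈ Finset.univ.image (conjFun N (θ : N → ℂ)), ψ x
        = ∑ ψ ∈ Finset.univ.image (conjFun N (θ : N → ℂ)), ψ 1 := by
      apply Finset.sum_congr rfl
      intro ψ hψ
      obtain ⟨g, -, rfl⟩ := Finset.mem_image.mp hψ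
      exact hx g
    have h4 : χ (x : G) = χ 1 := by
      have h5 : χ ((1 : N) : G) = χ 1 := rfl
      rw [← h5, h1, h2, h3]
    exact Subtype.ext (hfaith (x : G) h4)
  -- the Sylow subgroup of `N`
  have hQ'p : IsPGroup p (Q.subgroupOf N) := hQ.comap_subtype
  have hQ'i : ¬ p ∣ (Q.subgroupOf N).index := by
    intro h
    apply hQi
    rw [← Subgroup.relIndex_mul_index hQN]
    exact Dvd.dvd.mul_right h _
  have hQ'n : ¬ (Q.subgroupOf N).Normal := fun h =>
    hQn (normal_of_normal_subgroupOf Q N hQ hQN hQ'i h)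
  -- some image is not normal
  have hex : ∃ g : G, ¬ ((Q.subgroupOf N).map
      (QuotientGroup.mk' (kerSub (isCharacter_of_isIrrCharacter (hirrg g))))).Normal := by
    by_contra hcon
    push Not at hcon
    apply hQ'n
    set T : Subgroup N := ⨅ g : G, ((Q.subgroupOf N).map
      (QuotientGroup.mk' (kerSub (isCharacter_of_isIrrCharacter (hirrg g))))).comap
      (QuotientGroup.mk' (kerSub (isCharacter_of_isIrrCharacter (hirrg g)))) with hT
    have hTn : T.Normal := Subgroup.normal_iInf_normal (fun g => (hcon g).comap _)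
    have hQT : Q.subgroupOf N ≤ T := le_iInf (fun g => Subgroup.le_comap_map _ _)
    obtain ⟨k, hk⟩ := hQ'p.exists_card_eq
    have hTp : IsPGroup p T := by
      intro x
      refine ⟨k, ?_⟩
      apply Subtype.ext
      rw [Subgroup.coe_pow, Subgroup.coe_one]
      apply hker
      intro g
      have hxg : (x : N) ∈ ((Q.subgroupOf N).map
          (QuotientGroup.mk' (kerSub (isCharacter_of_isIrrCharacter (hirrg g))))).comap
          (QuotientGroup.mk' (kerSub (isCharacter_of_isIrrCharacter (hirrg g)))) :=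
        (Subgroup.mem_iInf.mp x.2) g
      rw [Subgroup.mem_comap] at hxg
      obtain ⟨u, hu, hux⟩ := hxg
      have hu1 : u ^ p ^ k = 1 := by
        have h6 : (⟨u, hu⟩ : Q.subgroupOf N) ^ Nat.card (Q.subgroupOf N) = 1 := pow_card_eq_one'
        rw [hk] at h6
        have h7 := congrArg Subtype.val h6
        simpa using h7
      have h8 : (QuotientGroup.mk' (kerSub (isCharacter_of_isIrrCharacter (hirrg g))))
          ((x : N) ^ p ^ k) = 1 := by
        rw [map_pow, ← hux, ← map_pow, hu1, map_one]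
      have h9 : (x : N) ^ p ^ k ∈ kerSub (isCharacter_of_isIrrCharacter (hirrg g)) := by
        rw [QuotientGroup.mk'_apply, QuotientGroup.eq_one_iff] at h8
        exact h8
      exact (mem_kerSub _ _).mp h9
    have heq := eq_of_pgroup_le hTp hQ'i hQT
    rw [← heq]
    exact hTn
  obtain ⟨g, hg⟩ := hex
  obtain ⟨θ', hθ'irr, hθ'f, hθ'1, -⟩ := exists_deflation (hirrg g)
  have hcardN : Nat.card N < Nat.card G := by
    apply lt_of_le_of_ne (Subgroup.card_le_card_group N)
    intro h
    exact hNtop (Subgroup.eq_top_of_card_eq N h)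
  have hcardX : Nat.card (N ⧸ kerSub (isCharacter_of_isIrrCharacter (hirrg g))) < Nat.card G :=
    lt_of_le_of_lt (Nat.card_le_card_of_surjective _ (QuotientGroup.mk'_surjective _)) hcardN
  have hQ''p : IsPGroup p ((Q.subgroupOf N).map
      (QuotientGroup.mk' (kerSub (isCharacter_of_isIrrCharacter (hirrg g))))) := hQ'p.map _
  have hQ''i : ¬ p ∣ ((Q.subgroupOf N).map
      (QuotientGroup.mk' (kerSub (isCharacter_of_isIrrCharacter (hirrg g))))).index := by
    intro h
    exact hQ'i (h.trans (Subgroup.index_map_dvd _ (QuotientGroup.mk'_surjective _)))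
  have hdeg : θ' 1 = dθ := by
    rw [hθ'1, conjFun_apply_one, hdθ]
  have hgood := hIH (N ⧸ kerSub (isCharacter_of_isIrrCharacter (hirrg g))) inferInstance hcardX
    θ' hθ'irr hθ'f _ hQ''p hQ''i hg dθ hdeg
  exact hgood.mono hdvd

end Cfsg.Agent.H1.Winter
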