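import Mathlib
import Cfsg.Prelude.Def_Characters
import Cfsg.Agent.H1.WinterB
import Cfsg.Agent.S0547
import Cfsg.Agent.S0548

set_option autoImplicit false
set_option linter.style.haveILetI false
set_option linter.unusedSectionVars false
set_option linter.unusedVariables false

/-!
# Winter's theorem, part C: the imprimitive case (degree divisible by the index of a maximal
subgroup)
-/

namespace Cfsg.Agent.H1.Winter

open Cfsg Cfsg.Agent.Lib.helper3.Irr Cfsg.Agent.Lib.helper3.IndFun
open scoped ComplexConjugate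

universe u

/-- A nontrivial finite group has a minimal normal subgroup. -/
theorem exists_minimal_normal (X : Type*) [Group X] [Finite X] [Nontrivial X] :
    ∃ M : Subgroup X, M.Normal ∧ M ≠ ⊥ ∧
      ∀ K : Subgroup X, K.Normal → K ≤ M → K = ⊥ ∨ K = M := by
  classical
  have hex : ∃ n : ℕ, ∃ K : Subgroup X, K.Normal ∧ K ≠ ⊥ ∧ Nat.card K = n :=
    ⟨Nat.card (⊤ : Subgroup X), ⊤, inferInstance, top_ne_bot, rfl⟩
  obtain ⟨M, hMn, hMb, hMc⟩ := Nat.find_spec hex
  refine ⟨M, hMn, hMb, ?_⟩
  intro K hKn hKM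
  by_cases hKb : K = ⊥
  · exact Or.inl hKb
  · right
    have h1 : Nat.find hex ≤ Nat.card K := Nat.find_min' hex ⟨K, hKn, hKb, rfl⟩
    rw [← hMc] at h1
    exact Subgroup.eq_of_le_of_card_ge hKM h1

/-- A `p`-subgroup lies in every normal subgroup of index prime to `p`. -/
theorem le_ker_of_not_dvd {G : Type*} [Group G] [Finite G] {p : ℕ} [hp : Fact p.Prime]
    {H : Type*} [Group H] (φ : G →* H) (hc : ¬ p ∣ Nat.card φ.range) (Q : Subgroup G)
    (hQ : IsPGroup p Q) : Q ≤ φ.ker := by
  intro x hx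
  obtain ⟨k, hk⟩ := hQ ⟨x, hx⟩
  have hxk : x ^ p ^ k = 1 := by
    have := congrArg Subtype.val hk
    simpa using this
  have h1 : orderOf (φ.rangeRestrict x) ∣ p ^ k := by
    apply orderOf_dvd_of_pow_eq_one
    rw [← map_pow, hxk, map_one]
  have h2 : orderOf (φ.rangeRestrict x) ∣ Nat.card φ.range := orderOf_dvd_natCard _
  have hcop : Nat.Coprime (p ^ k) (Nat.card φ.range) :=
    Nat.Coprime.pow_left k ((Nat.Prime.coprime_iff_not_dvd hp.out).mpr hc)
  have h3 : orderOf (φ.rangeRestrict x) = 1 := Nat.eq_one_of_dvd_coprimes hcop h1 h2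
  have h4 : φ.rangeRestrict x = 1 := orderOf_eq_one_iff.mp h3
  rw [MonoidHom.mem_ker]
  have h5 := congrArg Subtype.val h4
  exact h5

theorem caseA {G : Type u} [Group G] [Finite G] (hsolv : Group.IsSolvable G) (p : ℕ)
    [hp : Fact p.Prime] (hIH : IH.{u} p (Nat.card G)) {χ : G → ℂ} (hχ : IsIrrCharacter G χ)
    (hfaith : ∀ g, χ g = χ 1 → g = 1)
    (Q : Subgroup G) (hQ : IsPGroup p Q) (hQi : ¬ p ∣ Q.index) (hQn : ¬ Q.Normal)
    (d : ℕ) (hd : χ 1 = d) (L : Subgroup G) (hL : IsCoatom L) (hLd : L.index ∣ d) :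
    Good p d := by
  classical
  haveI := hsolv
  have hLtop : L ≠ ⊤ := hL.1
  have hidx1 : L.index ≠ 1 := fun h => hLtop (Subgroup.index_eq_one.mp h)
  have hidx0 : L.index ≠ 0 := Subgroup.index_ne_zero_of_finite
  haveI : Nontrivial (G ⧸ L) := by
    rw [← Finite.one_lt_card_iff_nontrivial, ← Subgroup.index_eq_card]
    omega
  have hstab : MulAction.stabilizer G ((1 : G) : G ⧸ L) = L := MulAction.stabilizer_quotient L
  have hprim : MulAction.IsPreprimitive G (G ⧸ L) := by
    rw [← MulAction.isCoatom_stabilizer_iff_preprimitive G ((1 : G) : G ⧸ L), hstab]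
    exact hL
  set φ : G →* Equiv.Perm (G ⧸ L) := MulAction.toPermHom G (G ⧸ L) with hφ
  have hker : φ.ker ≤ L := by
    rw [hφ, ← Subgroup.normalCore_eq_ker]
    exact Subgroup.normalCore_le L
  have hkertop : φ.ker ≠ ⊤ := fun h => hLtop (top_le_iff.mp (h ▸ hker))
  by_cases hpc : p ∣ Nat.card φ.range
  swap
  · exact reduction hsolv p hIH hχ hfaith Q hQ hQi hQn φ.ker hkertop
      (le_ker_of_not_dvd φ hpc Q hQ) d hd
  -- the primitive group
  haveI : Group.IsSolvable φ.range :=
    Group.isSolvable_of_surjective (f := φ.rangeRestrict) φ.rangeRestrict_surjective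
  have hprim' : MulAction.IsPreprimitive φ.range (G ⧸ L) := by
    let f : (G ⧸ L) →ₑ[φ.rangeRestrict] (G ⧸ L) :=
      { toFun := id
        map_smul' := fun g x => rfl }
    haveI := hprim
    exact MulAction.IsPreprimitive.of_surjective (f := f) Function.surjective_id
  haveI : Nontrivial φ.range := by
    rw [← Finite.one_lt_card_iff_nontrivial]
    have h1 : Nat.card φ.range ≠ 0 := Nat.card_pos.ne'
    have h2 : Nat.card φ.range ≠ 1 := by
      intro h
      rw [h] at hpc
      exact hp.out.one_lt.ne' (Nat.dvd_one.mp hpc)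
    omega
  obtain ⟨M, hMn, hMb, hMmin⟩ := exists_minimal_normal φ.range
  haveI := hMn
  obtain ⟨-, -, r, e, hr, he, hΩ, hMcard⟩ := Cfsg.Agent.S0547.result hprim' M hMb hMmin
  obtain ⟨-, hstabC, -⟩ := Cfsg.Agent.S0548.result hprim' M hMb hMmin ((1 : G) : G ⧸ L)
  have hre : r ^ e = L.index := by
    rw [← hΩ, Subgroup.index_eq_card]
  have hred : r ^ e ∣ d := hre ▸ hLd
  by_cases hrp : r = p
  · rw [hrp] at hred
    exact good_of_pow_self hp.out he hred
  -- `p` divides the order of the stabilizer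
  haveI := hprim'.toIsPretransitive
  have hidx : (MulAction.stabilizer φ.range ((1 : G) : G ⧸ L)).index = r ^ e := by
    rw [MulAction.index_stabilizer_of_transitive, hΩ]
  have hmul := (MulAction.stabilizer φ.range ((1 : G) : G ⧸ L)).card_mul_index
  rw [hidx] at hmul
  have hpstab : p ∣ Nat.card (MulAction.stabilizer φ.range ((1 : G) : G ⧸ L)) := by
    rw [← hmul] at hpc
    rcases (Nat.Prime.dvd_mul hp.out).mp hpc with h | h
    · exact h
    · exfalso
      have h1 := hp.out.dvd_of_dvd_pow h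
      exact hrp ((Nat.prime_dvd_prime_iff_eq hp.out hr).mp h1).symm
  obtain ⟨x, hx⟩ := exists_prime_orderOf_dvd_card' p hpstab
  have hx' : orderOf ((x : φ.range)) = p := by
    rw [Subgroup.orderOf_coe]
    exact hx
  -- the fixed points of `x` on `M`
  set P : Subgroup φ.range := Subgroup.zpowers (x : φ.range) with hPdef
  have hPp : IsPGroup p P := by
    apply IsPGroup.of_card (n := 1)
    rw [pow_one, hPdef, Nat.card_zpowers, hx']
  set D : Subgroup φ.range := M ⊓ Subgroup.centralizer (P : Set φ.range) with hDdef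
  have hDmem : ∀ z, z ∈ D ↔ z ∈ M ∧ ∀ y ∈ P, z⁻¹ * (y * z * y⁻¹) ∈ (⊥ : Subgroup φ.range) := by
    intro z
    rw [hDdef, Subgroup.mem_inf, Subgroup.mem_centralizer_iff]
    constructor
    · rintro ⟨h1, h2⟩
      refine ⟨h1, fun y hy => ?_⟩
      rw [Subgroup.mem_bot]
      have h3 := h2 y hy
      calc z⁻¹ * (y * z * y⁻¹) = z⁻¹ * (z * y * y⁻¹) := by rw [h3]
        _ = 1 := by group
    · rintro ⟨h1, h2⟩
      refine ⟨h1, fun y hy => ?_⟩
      have h3 := h2 y hy
      rw [Subgroup.mem_bot] at h3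
      have h4 : y * z * y⁻¹ = z := by
        calc y * z * y⁻¹ = z * (z⁻¹ * (y * z * y⁻¹)) := by group
          _ = z := by rw [h3, mul_one]
      calc y * z = (y * z * y⁻¹) * y := by group
        _ = z * y := by rw [h4]
  have hcong := relIndex_modEq_fixed p P ⊥ M D hPp bot_le
    (fun y _ z hz => by
      rw [Subgroup.mem_bot] at hz ⊢
      rw [hz]
      group)
    (fun y _ w hw => hMn.conj_mem w hw y) hDmem
  rw [Subgroup.relIndex_bot_left, Subgroup.relIndex_bot_left, hMcard] at hcong
  have hDM : D ≤ M := inf_le_left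
  have hDdvd : Nat.card D ∣ r ^ e := hMcard ▸ Subgroup.card_dvd_of_le hDM
  obtain ⟨i, hie, hDi⟩ := (Nat.dvd_prime_pow hr).mp hDdvd
  have hilt : i < e := by
    rcases Nat.lt_or_ge i e with h | h
    · exact h
    · exfalso
      have hie' : i = e := le_antisymm hie h
      have hDcard : Nat.card M ≤ Nat.card D := by rw [hMcard, hDi, hie']
      have hDeq : D = M := Subgroup.eq_of_le_of_card_ge hDM hDcard
      have hxC : (x : φ.range) ∈ Subgroup.centralizer (M : Set φ.range) := by
        rw [Subgroup.mem_centralizer_iff]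
        intro m hm
        have hmD : m ∈ D := hDeq ▸ hm
        have h5 := (Subgroup.mem_centralizer_iff.mp (Subgroup.mem_inf.mp hmD).2)
          (x : φ.range) (Subgroup.mem_zpowers _)
        exact h5.symm
      have hxbot : (x : φ.range) ∈ MulAction.stabilizer φ.range ((1 : G) : G ⧸ L) ⊓
          Subgroup.centralizer (M : Set φ.range) := Subgroup.mem_inf.mpr ⟨x.2, hxC⟩
      rw [hstabC, Subgroup.mem_bot] at hxbot
      rw [hxbot, orderOf_one] at hx'
      exact hp.out.one_lt.ne hx'
  rw [hDi] at hcong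
  exact good_of_pow_modEq_pow hp.out hr hrp hilt hcong hred

end Cfsg.Agent.H1.Winter
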