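import Mathlib
import Cfsg.Prelude.Def_Characters
import Cfsg.Agent.H1.WinterC
import Cfsg.Agent.Lib.helper3.Ito
import Cfsg.Agent.Lib.helper3.CliffCorr
import Cfsg.Agent.Lib.Lead.SSSolv

set_option autoImplicit false
set_option linter.style.haveILetI false
set_option linter.unusedSectionVars false
set_option linter.unusedVariables false

/-!
# Winter's theorem, part D: tools for the primitive case
-/

namespace Cfsg.Agent.H1.Winter

open Cfsg Cfsg.Agent.Lib.helper3.Irr Cfsg.Agent.Lib.helper3.IndFun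
open scoped ComplexConjugate

universe u

section prim

variable {G : Type u} [Group G] [Fintype G]

/-- In a primitive character, restrictions to normal subgroups are homogeneous. -/
theorem homogeneous_of_prim {χ : G → ℂ} (hχ : IsIrrCharacter G χ)
    (hprim : ∀ (H : Subgroup G) (ψ : H → ℂ), IsIrrCharacter H ψ → indFun H ψ = χ → H = ⊤)
    (M : Subgroup G) [hM : M.Normal] [Fintype M] (η : M → ℂ) (hη : IsIrrCharacter M η)
    (hcon : classInner (fun m : M => χ m) η ≠ 0) :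
    (∀ g : G, conjFun M η g = η) ∧ ∃ e : ℕ, 0 < e ∧ ∀ m : M, χ m = e * η m := by
  classical
  letI : Fintype (inertia M η) := Fintype.ofFinite _
  have hMT : M ≤ inertia M η :=
    le_inertia M η (isClassFunction_of_isCharacter (isCharacter_of_isIrrCharacter hη))
  obtain ⟨ψ, hψ, hind, -⟩ := clifford_corr_surjective M η hη (inertia M η) (mem_inertia_iff M η)
    hMT χ hχ hcon
  have hTtop : inertia M η = ⊤ := hprim _ ψ hψ hind
  have hinv : ∀ g : G, conjFun M η g = η := by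
    intro g
    have h1 : g ∈ inertia M η := by
      rw [hTtop]
      exact Subgroup.mem_top g
    exact h1
  refine ⟨hinv, ?_⟩
  have hcl := clifford M χ hχ η hη hcon
  rw [setOf_conj_eq, finsum_mem_coe_finset] at hcl
  have himg : Finset.univ.image (conjFun M η) = {η} := by
    have h2 : conjFun M η = fun _ => η := funext hinv
    rw [h2, Finset.image_const Finset.univ_nonempty]
  rw [himg, Finset.sum_singleton] at hcl
  obtain ⟨e, he⟩ := exists_nat_classInner_of_isCharacter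
    (isCharacter_restrict (isCharacter_of_isIrrCharacter hχ) M) ⟨η, hη⟩
  simp only at he
  refine ⟨e, ?_, ?_⟩
  · rcases Nat.eq_zero_or_pos e with h0 | h0
    · exfalso
      apply hcon
      rw [he, h0]
      simp
    · exact h0
  · intro m
    have h3 := congrFun hcl m
    rw [he] at h3
    simpa using h3

/-- For a faithful primitive character every abelian normal subgroup is central. -/
theorem le_center_of_abelian_normal {χ : G → ℂ} (hχ : IsIrrCharacter G χ)
    (hfaith : ∀ g, χ g = χ 1 → g = 1)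
    (hprim : ∀ (H : Subgroup G) (ψ : H → ℂ), IsIrrCharacter H ψ → indFun H ψ = χ → H = ⊤)
    (A : Subgroup G) [hA : A.Normal] (hab : ∀ a ∈ A, ∀ b ∈ A, a * b = b * a) :
    A ≤ Subgroup.center G := by
  classical
  letI : Fintype A := Fintype.ofFinite A
  have hχc := isCharacter_of_isIrrCharacter hχ
  have hres := isCharacter_restrict hχc A
  have hres0 : (fun n : A => χ n) ≠ 0 := by
    intro h
    have h1 := congrFun h 1
    exact apply_one_ne_zero hχ h1
  obtain ⟨θ, hθcon⟩ := exists_constituent hres hres0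
  obtain ⟨hinv, e, he0, hχe⟩ := homogeneous_of_prim hχ hprim A θ θ.2 hθcon
  have hθ1 : (θ : A → ℂ) 1 = 1 :=
    apply_one_eq_one_of_comm (fun a b => Subtype.ext (hab a a.2 b b.2)) θ.2
  have hθmul := Cfsg.Agent.Lib.helper3.Lin.map_mul_of_apply_one_eq_one
    (isCharacter_of_isIrrCharacter θ.2) hθ1
  intro a ha
  rw [Subgroup.mem_center_iff]
  intro g
  have hc : g * a⁻¹ * g⁻¹ ∈ A := hA.conj_mem a⁻¹ (A.inv_mem ha) g
  have h1 : (θ : A → ℂ) ((⟨a, ha⟩ : A) * ⟨g * a⁻¹ * g⁻¹, hc⟩) = 1 := by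
    rw [hθmul]
    have h2 : (θ : A → ℂ) ⟨g * a⁻¹ * g⁻¹, hc⟩ = (θ : A → ℂ) ⟨a⁻¹, A.inv_mem ha⟩ :=
      congrFun (hinv g) ⟨a⁻¹, A.inv_mem ha⟩
    rw [h2, ← hθmul]
    have h3 : (⟨a, ha⟩ : A) * ⟨a⁻¹, A.inv_mem ha⟩ = 1 := Subtype.ext (mul_inv_cancel a)
    rw [h3, hθ1]
  have h3 : χ (a * (g * a⁻¹ * g⁻¹)) = χ 1 := by
    have h4 := hχe ((⟨a, ha⟩ : A) * ⟨g * a⁻¹ * g⁻¹, hc⟩)
    have h5 := hχe 1
    rw [h1] at h4
    rw [hθ1] at h5
    have e1 : (((⟨a, ha⟩ : A) * ⟨g * a⁻¹ * g⁻¹, hc⟩ : A) : G) = a * (g * a⁻¹ * g⁻¹) := rfl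
    have e2 : ((1 : A) : G) = 1 := rfl
    rw [e1] at h4
    rw [e2] at h5
    rw [h4, h5]
  have h6 := hfaith _ h3
  calc g * a = (a * (g * a⁻¹ * g⁻¹)) * (g * a) := by rw [h6, one_mul]
    _ = a * g := by group

/-- The central character of a faithful irreducible character is faithful. -/
theorem exists_central_char {χ : G → ℂ} (hχ : IsIrrCharacter G χ)
    (hfaith : ∀ g, χ g = χ 1 → g = 1) :
    ∃ ψ : Subgroup.center G → ℂ, IsIrrCharacter (Subgroup.center G) ψ ∧
      (∀ (g : G) (z : Subgroup.center G), χ (g * z) = ψ z * χ g) ∧ (∀ z, ψ z = 1 → z = 1) := by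
  classical
  letI : Fintype (Subgroup.center G) := Fintype.ofFinite _
  have hχc := isCharacter_of_isIrrCharacter hχ
  have hres := isCharacter_restrict hχc (Subgroup.center G)
  have hres0 : (fun n : Subgroup.center G => χ n) ≠ 0 := by
    intro h
    have h1 := congrFun h 1
    exact apply_one_ne_zero hχ h1
  obtain ⟨ψ, hψcon⟩ := exists_constituent hres hres0
  have hmul := Cfsg.Agent.Lib.helper3.Central.apply_mul_central (Subgroup.center G) le_rfl ψ.2 hχ
    hψcon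
  refine ⟨ψ, ψ.2, hmul, ?_⟩
  intro z hz
  have h1 := hmul 1 z
  rw [hz, one_mul, one_mul] at h1
  exact Subtype.ext (hfaith _ h1)

/-- The centre of a normal subgroup is central. -/
theorem mem_center_of_central_in_normal
    (hB1 : ∀ A : Subgroup G, A.Normal → (∀ a ∈ A, ∀ b ∈ A, a * b = b * a) →
      A ≤ Subgroup.center G)
    (E : Subgroup G) [hE : E.Normal] : ∀ x ∈ E, (∀ y ∈ E, x * y = y * x) →
      x ∈ Subgroup.center G := by
  intro x hx hxc
  have hAn : (E ⊓ Subgroup.centralizer (E : Set G)).Normal := inferInstance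
  apply hB1 (E ⊓ Subgroup.centralizer (E : Set G)) hAn
  · intro a ha b hb
    have h1 := Subgroup.mem_centralizer_iff.mp (Subgroup.mem_inf.mp hb).2 a (Subgroup.mem_inf.mp ha).1
    exact h1
  · refine Subgroup.mem_inf.mpr ⟨hx, ?_⟩
    rw [Subgroup.mem_centralizer_iff]
    intro y hy
    exact (hxc y hy).symm

end prim

section sect

variable {G : Type u} [Group G] [Finite G]

/-- An elementary abelian normal section above the centre of a solvable group. -/
theorem exists_section (hsolv : Group.IsSolvable G) (hZ : Subgroup.center G ≠ ⊤) :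
    ∃ (E : Subgroup G) (r : ℕ), E.Normal ∧ r.Prime ∧ Subgroup.center G ≤ E ∧
      ¬ E ≤ Subgroup.center G ∧ (∀ x ∈ E, x ^ r ∈ Subgroup.center G) ∧
      (∀ a ∈ E, ∀ b ∈ E, a * b * a⁻¹ * b⁻¹ ∈ Subgroup.center G) ∧
      ∃ j, (Subgroup.center G).relIndex E = r ^ j := by
  classical
  haveI := hsolv
  have hidx1 : (Subgroup.center G).index ≠ 1 := fun h => hZ (Subgroup.index_eq_one.mp h)
  have hidx0 : (Subgroup.center G).index ≠ 0 := Subgroup.index_ne_zero_of_finite
  haveI : Nontrivial (G ⧸ Subgroup.center G) := by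
    rw [← Finite.one_lt_card_iff_nontrivial, ← Subgroup.index_eq_card]
    omega
  obtain ⟨M, hMn, hMb, hMmin⟩ := exists_minimal_normal (G ⧸ Subgroup.center G)
  haveI := hMn
  have hab := Cfsg.Agent.Lead.SSSolv.min_normal_abelian M hMb hMmin
  obtain ⟨r, hr, hexp⟩ := Cfsg.Agent.Lead.SSSolv.min_normal_exponent M hMb hab hMmin
  haveI : Fact r.Prime := ⟨hr⟩
  refine ⟨M.comap (QuotientGroup.mk' (Subgroup.center G)), r, inferInstance, hr, ?_, ?_, ?_, ?_, ?_⟩
  · intro z hz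
    rw [Subgroup.mem_comap, QuotientGroup.mk'_apply, (QuotientGroup.eq_one_iff z).mpr hz]
    exact M.one_mem
  · intro hle
    obtain ⟨x, hx⟩ := (Subgroup.ne_bot_iff_exists_ne_one).mp hMb
    obtain ⟨g, hg⟩ := QuotientGroup.mk'_surjective (Subgroup.center G) (x : G ⧸ Subgroup.center G)
    have hgE : g ∈ M.comap (QuotientGroup.mk' (Subgroup.center G)) := by
      rw [Subgroup.mem_comap, hg]
      exact x.2
    have h1 := hle hgE
    apply hx
    apply Subtype.ext
    rw [← hg, QuotientGroup.mk'_apply, (QuotientGroup.eq_one_iff g).mpr h1]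
    rfl
  · intro x hx
    rw [Subgroup.mem_comap] at hx
    have h1 := hexp _ hx
    rw [← map_pow, QuotientGroup.mk'_apply] at h1
    exact (QuotientGroup.eq_one_iff _).mp h1
  · intro a ha b hb
    rw [Subgroup.mem_comap] at ha hb
    have h1 := hab _ ha _ hb
    have h2 : (QuotientGroup.mk' (Subgroup.center G)) (a * b * a⁻¹ * b⁻¹) = 1 := by
      rw [map_mul, map_mul, map_mul, map_inv, map_inv, h1]
      group
    rw [QuotientGroup.mk'_apply] at h2
    exact (QuotientGroup.eq_one_iff _).mp h2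
  · have hMp : IsPGroup r M := by
      intro x
      refine ⟨1, ?_⟩
      apply Subtype.ext
      rw [pow_one, Subgroup.coe_pow, Subgroup.coe_one]
      exact hexp _ x.2
    obtain ⟨j, hj⟩ := hMp.exists_card_eq
    refine ⟨j, ?_⟩
    have h1 := Subgroup.relIndex_comap (H := (⊥ : Subgroup (G ⧸ Subgroup.center G)))
      (QuotientGroup.mk' (Subgroup.center G)) (M.comap (QuotientGroup.mk' (Subgroup.center G)))
    rw [MonoidHom.comap_bot, QuotientGroup.ker_mk',
      Subgroup.map_comap_eq_self_of_surjective (QuotientGroup.mk'_surjective _),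
      Subgroup.relIndex_bot_left, hj] at h1
    exact h1

/-- The square lemma for a subgroup `W` containing a central subgroup `Z` of the ambient group. -/
theorem sq_relIndex (Z W : Subgroup G) (hZc : Z ≤ Subgroup.center G) (hZW : Z ≤ W)
    {ψ : Z → ℂ} (hψ : IsIrrCharacter Z ψ) (hψf : ∀ z : Z, ψ z = 1 → z = 1)
    (hcomm : ∀ a ∈ W, ∀ b ∈ W, a * b * a⁻¹ * b⁻¹ ∈ Z)
    (hcen : ∀ x ∈ W, (∀ y ∈ W, x * y = y * x) → x ∈ Z)
    {φ : W → ℂ} (hφ : IsIrrCharacter W φ) [Fintype (Z.subgroupOf W)]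
    (hover : classInner (fun z : Z.subgroupOf W => φ z)
      (fun z : Z.subgroupOf W => ψ (Subgroup.subgroupOfEquivOfLe hZW z)) ≠ 0) :
    ∃ k : ℕ, 0 < k ∧ φ 1 = k ∧ Z.relIndex W = k ^ 2 := by
  classical
  letI : Fintype W := Fintype.ofFinite W
  haveI : Finite Z := inferInstance
  have hψ' : IsIrrCharacter (Z.subgroupOf W)
      (fun z : Z.subgroupOf W => ψ (Subgroup.subgroupOfEquivOfLe hZW z)) :=
    isIrrCharacter_comp_mulEquiv (Subgroup.subgroupOfEquivOfLe hZW) hψ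
  have hZ' : Z.subgroupOf W ≤ Subgroup.center W := by
    intro z hz
    rw [Subgroup.mem_center_iff]
    intro g
    apply Subtype.ext
    have h1 := Subgroup.mem_center_iff.mp (hZc (Subgroup.mem_subgroupOf.mp hz)) (g : G)
    exact h1
  have hf' : ∀ z : Z.subgroupOf W, ψ (Subgroup.subgroupOfEquivOfLe hZW z) = 1 → z = 1 := by
    intro z hz
    have h1 := hψf _ hz
    exact (Subgroup.subgroupOfEquivOfLe hZW).injective (h1.trans (map_one _).symm)
  have hcomm' : ∀ a b : W, a * b * a⁻¹ * b⁻¹ ∈ Z.subgroupOf W := by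
    intro a b
    rw [Subgroup.mem_subgroupOf]
    exact hcomm a a.2 b b.2
  have hcen' : ∀ d : W, (∀ y : W, d * y = y * d) → d ∈ Z.subgroupOf W := by
    intro d hd
    rw [Subgroup.mem_subgroupOf]
    apply hcen d d.2
    intro y hy
    exact congrArg Subtype.val (hd ⟨y, hy⟩)
  obtain ⟨k, hk0, hk, hidx⟩ := sq_index (Z.subgroupOf W) hZ' hψ' hf' hcomm' hcen' hφ hover
  exact ⟨k, hk0, hk, hidx⟩

/-- Elements of `W` fixed modulo the central subgroup `Z` under conjugation by `Q`. -/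
def fixMod (Q Z W : Subgroup G) (hZc : Z ≤ Subgroup.center G) : Subgroup G where
  carrier := {x | x ∈ W ∧ ∀ y ∈ Q, x⁻¹ * (y * x * y⁻¹) ∈ Z}
  one_mem' := ⟨W.one_mem, fun y _ => by
    have e : (1 : G)⁻¹ * (y * 1 * y⁻¹) = 1 := by group
    rw [e]
    exact Z.one_mem⟩
  mul_mem' := by
    rintro a b ⟨ha, ha'⟩ ⟨hb, hb'⟩
    refine ⟨W.mul_mem ha hb, fun y hy => ?_⟩
    have h1 := ha' y hy
    have h2 := hb' y hy
    have hc := Subgroup.mem_center_iff.mp (hZc h1) b⁻¹
    have e : (a * b)⁻¹ * (y * (a * b) * y⁻¹)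
        = (a⁻¹ * (y * a * y⁻¹)) * (b⁻¹ * (y * b * y⁻¹)) := by
      calc (a * b)⁻¹ * (y * (a * b) * y⁻¹)
          = b⁻¹ * (a⁻¹ * (y * a * y⁻¹)) * (y * b * y⁻¹) := by group
        _ = (a⁻¹ * (y * a * y⁻¹)) * b⁻¹ * (y * b * y⁻¹) := by rw [hc]
        _ = (a⁻¹ * (y * a * y⁻¹)) * (b⁻¹ * (y * b * y⁻¹)) := by group
    rw [e]
    exact Z.mul_mem h1 h2
  inv_mem' := by
    rintro a ⟨ha, ha'⟩
    refine ⟨W.inv_mem ha, fun y hy => ?_⟩
    have h1 := Z.inv_mem (ha' y hy)
    have hc := Subgroup.mem_center_iff.mp (hZc h1) a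
    have e : a⁻¹⁻¹ * (y * a⁻¹ * y⁻¹) = a * (a⁻¹ * (y * a * y⁻¹))⁻¹ * a⁻¹ := by group
    rw [e, hc]
    have e2 : (a⁻¹ * (y * a * y⁻¹))⁻¹ * a * a⁻¹ = (a⁻¹ * (y * a * y⁻¹))⁻¹ := by group
    rw [e2]
    exact h1

theorem mem_fixMod (Q Z W : Subgroup G) (hZc : Z ≤ Subgroup.center G) (x : G) :
    x ∈ fixMod Q Z W hZc ↔ x ∈ W ∧ ∀ y ∈ Q, x⁻¹ * (y * x * y⁻¹) ∈ Z := Iff.rfl

/-- If `Q` acts trivially on `E / Z` with `E / Z` of exponent `r ≠ p`, then `Q` centralizes `E`. -/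
theorem centralizes_of_fixMod {p r : ℕ} [hp : Fact p.Prime] (hr : r.Prime) (hrp : r ≠ p)
    (Q Z E : Subgroup G) (hQ : IsPGroup p Q) (hZc : Z ≤ Subgroup.center G)
    (hexp : ∀ x ∈ E, x ^ r ∈ Z)
    (hfix : ∀ x ∈ E, ∀ y ∈ Q, x⁻¹ * (y * x * y⁻¹) ∈ Z) :
    ∀ y ∈ Q, ∀ x ∈ E, y * x = x * y := by
  intro y hy x hx
  -- the commutator function
  have hmulc : ∀ a ∈ E, ∀ b ∈ E, (a * b)⁻¹ * (y * (a * b) * y⁻¹)
      = (a⁻¹ * (y * a * y⁻¹)) * (b⁻¹ * (y * b * y⁻¹)) := by
    intro a ha b hb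
    have hc := Subgroup.mem_center_iff.mp (hZc (hfix a ha y hy)) b⁻¹
    calc (a * b)⁻¹ * (y * (a * b) * y⁻¹)
        = b⁻¹ * (a⁻¹ * (y * a * y⁻¹)) * (y * b * y⁻¹) := by group
      _ = (a⁻¹ * (y * a * y⁻¹)) * b⁻¹ * (y * b * y⁻¹) := by rw [hc]
      _ = (a⁻¹ * (y * a * y⁻¹)) * (b⁻¹ * (y * b * y⁻¹)) := by group
  have hpow : ∀ n : ℕ, (x ^ n)⁻¹ * (y * x ^ n * y⁻¹) = (x⁻¹ * (y * x * y⁻¹)) ^ n := by
    intro n
    induction n with
    | zero => simp
    | succ n ih =>
      rw [pow_succ, hmulc (x ^ n) (E.pow_mem hx n) x hx, ih, pow_succ]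
  have hcr : (x⁻¹ * (y * x * y⁻¹)) ^ r = 1 := by
    rw [← hpow r]
    have h1 := Subgroup.mem_center_iff.mp (hZc (hexp x hx)) y
    -- y * z = z * y
    calc (x ^ r)⁻¹ * (y * x ^ r * y⁻¹) = (x ^ r)⁻¹ * (x ^ r * y * y⁻¹) := by rw [h1]
      _ = 1 := by group
  -- conjugation by powers of `y`
  obtain ⟨c, hcdef⟩ : ∃ c, c = x⁻¹ * (y * x * y⁻¹) := ⟨_, rfl⟩
  rw [← hcdef] at hcr
  have hyx : y * x * y⁻¹ = x * c := by
    rw [hcdef]
    group
  have hcz : c ∈ Subgroup.center G := by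
    rw [hcdef]
    exact hZc (hfix x hx y hy)
  have hconj : ∀ n : ℕ, y ^ n * x * (y ^ n)⁻¹ = x * c ^ n := by
    intro n
    induction n with
    | zero => simp
    | succ n ih =>
      have hcn : c ^ n ∈ Subgroup.center G := (Subgroup.center G).pow_mem hcz n
      have h2 := Subgroup.mem_center_iff.mp hcn y
      calc y ^ (n + 1) * x * (y ^ (n + 1))⁻¹ = y * (y ^ n * x * (y ^ n)⁻¹) * y⁻¹ := by
            rw [pow_succ']
            group
        _ = y * (x * c ^ n) * y⁻¹ := by rw [ih]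
        _ = (y * x * y⁻¹) * (y * c ^ n) * y⁻¹ := by group
        _ = (x * c) * (c ^ n * y) * y⁻¹ := by rw [hyx, h2]
        _ = x * (c * c ^ n) := by group
        _ = x * c ^ (n + 1) := by rw [← pow_succ']
  have hco : c ^ orderOf y = 1 := by
    have h3 := hconj (orderOf y)
    rw [pow_orderOf_eq_one, one_mul, inv_one, mul_one] at h3
    exact mul_left_cancel (a := x) (by rw [← h3, mul_one])
  obtain ⟨k, hk⟩ := hQ ⟨y, hy⟩
  have hyk : y ^ p ^ k = 1 := by
    have := congrArg Subtype.val hk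
    simpa using this
  have h4 : orderOf c ∣ r := orderOf_dvd_of_pow_eq_one hcr
  have h5 : orderOf c ∣ p ^ k :=
    (orderOf_dvd_of_pow_eq_one hco).trans (orderOf_dvd_of_pow_eq_one hyk)
  have hcop : Nat.Coprime r (p ^ k) :=
    Nat.Coprime.pow_right k ((Nat.coprime_primes hr hp.out).mpr hrp)
  have h6 : orderOf c = 1 := Nat.eq_one_of_dvd_coprimes hcop h4 h5
  have h7 : c = 1 := orderOf_eq_one_iff.mp h6
  calc y * x = (y * x * y⁻¹) * y := by group
    _ = x * y := by rw [hyx, h7, mul_one]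

end sect

end Cfsg.Agent.H1.Winter
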