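import Mathlib
import Cfsg.Prelude.Def_Characters
import Cfsg.Agent.H1.WinterD

set_option autoImplicit false
set_option linter.style.haveILetI false
set_option linter.unusedSectionVars false
set_option linter.unusedVariables false
set_option maxHeartbeats 1000000

/-!
# Winter's theorem, part E: the primitive case and the induction
-/

namespace Cfsg.Agent.H1.Winter

open Cfsg Cfsg.Agent.Lib.helper3.Irr Cfsg.Agent.Lib.helper3.IndFun
open scoped ComplexConjugate

universe u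

/-- The centralizer in `E` of a noncentral element has index `r`, when `E / Z` has exponent `r`
and `Z` carries a faithful linear character. -/
theorem relIndex_centralizer_eq {G : Type u} [Group G] [Finite G] {r : ℕ} (hr : r.Prime)
    (Z E : Subgroup G) (hZc : Z ≤ Subgroup.center G)
    {ψ : Z → ℂ} (hψmul : ∀ a b : Z, ψ (a * b) = ψ a * ψ b) (hψ1 : ψ 1 = 1)
    (hψf : ∀ z, ψ z = 1 → z = 1)
    (hexp : ∀ x ∈ E, x ^ r ∈ Z) (hcomm : ∀ a ∈ E, ∀ b ∈ E, a * b * a⁻¹ * b⁻¹ ∈ Z)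
    (d₀ : G) (hd₀ : d₀ ∈ E) (hne : ∃ y ∈ E, d₀ * y ≠ y * d₀) :
    (E ⊓ Subgroup.centralizer {d₀}).relIndex E = r := by
  classical
  haveI : Fact r.Prime := ⟨hr⟩
  have hβZ : ∀ x : E, d₀ * (x : G) * d₀⁻¹ * (x : G)⁻¹ ∈ Z := fun x => hcomm d₀ hd₀ x x.2
  let β : E →* G := MonoidHom.mk' (fun x => d₀ * (x : G) * d₀⁻¹ * (x : G)⁻¹) (by
    intro a b
    have hc := Subgroup.mem_center_iff.mp (hZc (hβZ b)) (a : G)⁻¹
    show d₀ * ((a : G) * (b : G)) * d₀⁻¹ * ((a : G) * (b : G))⁻¹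
      = (d₀ * (a : G) * d₀⁻¹ * (a : G)⁻¹) * (d₀ * (b : G) * d₀⁻¹ * (b : G)⁻¹)
    calc d₀ * ((a : G) * (b : G)) * d₀⁻¹ * ((a : G) * (b : G))⁻¹
        = d₀ * (a : G) * d₀⁻¹ * ((d₀ * (b : G) * d₀⁻¹ * (b : G)⁻¹) * (a : G)⁻¹) := by group
      _ = d₀ * (a : G) * d₀⁻¹ * ((a : G)⁻¹ * (d₀ * (b : G) * d₀⁻¹ * (b : G)⁻¹)) := by rw [hc]
      _ = _ := by group)
  have hβ : ∀ x : E, β x = d₀ * (x : G) * d₀⁻¹ * (x : G)⁻¹ := fun _ => rfl
  have hker : (E ⊓ Subgroup.centralizer {d₀}).subgroupOf E = β.ker := by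
    ext x
    rw [Subgroup.mem_subgroupOf, Subgroup.mem_inf, Subgroup.mem_centralizer_singleton_iff,
      MonoidHom.mem_ker, hβ]
    constructor
    · rintro ⟨-, h⟩
      calc d₀ * (x : G) * d₀⁻¹ * (x : G)⁻¹ = ((x : G) * d₀) * d₀⁻¹ * (x : G)⁻¹ := by rw [h]
        _ = 1 := by group
    · intro h
      refine ⟨x.2, ?_⟩
      calc (x : G) * d₀ = (d₀ * (x : G) * d₀⁻¹ * (x : G)⁻¹)⁻¹ * (d₀ * (x : G)) := by group
        _ = d₀ * (x : G) := by rw [h, inv_one, one_mul]
  have hidx : (E ⊓ Subgroup.centralizer {d₀}).relIndex E = Nat.card β.range := by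
    show ((E ⊓ Subgroup.centralizer {d₀}).subgroupOf E).index = _
    rw [hker, Subgroup.index_ker]
  rw [hidx]
  -- elements of the range
  have hrZ : ∀ c : β.range, (c : G) ∈ Z := by
    rintro ⟨c, x, rfl⟩
    exact hβZ x
  have hrpow : ∀ c : β.range, c ^ r = 1 := by
    rintro ⟨c, x, rfl⟩
    apply Subtype.ext
    rw [Subgroup.coe_pow, Subgroup.coe_one]
    show (β x) ^ r = 1
    rw [← map_pow, hβ]
    have hz := Subgroup.mem_center_iff.mp (hZc (hexp x x.2)) d₀
    have e : ((x ^ r : E) : G) = (x : G) ^ r := rfl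
    rw [e, hz]
    group
  -- nontrivial
  obtain ⟨y, hyE, hy⟩ := hne
  have hc1 : (⟨β ⟨y, hyE⟩, ⟨⟨y, hyE⟩, rfl⟩⟩ : β.range) ≠ 1 := by
    intro h
    have h1 : β ⟨y, hyE⟩ = 1 := congrArg Subtype.val h
    rw [hβ] at h1
    apply hy
    calc d₀ * y = (d₀ * y * d₀⁻¹ * y⁻¹) * (y * d₀) := by group
      _ = y * d₀ := by rw [h1, one_mul]
  have hord : orderOf (⟨β ⟨y, hyE⟩, ⟨⟨y, hyE⟩, rfl⟩⟩ : β.range) = r :=
    orderOf_eq_prime (hrpow _) hc1
  have hdvd : r ∣ Nat.card β.range := hord ▸ orderOf_dvd_natCard _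
  -- at most `r` elements
  have hle : Nat.card β.range ≤ r := by
    have hfmem : ∀ c : β.range, ψ ⟨(c : G), hrZ c⟩ ∈ Polynomial.nthRootsFinset r (1 : ℂ) := by
      intro c
      rw [Polynomial.mem_nthRootsFinset hr.pos]
      have hpow : ∀ n : ℕ, ψ ⟨(c : G), hrZ c⟩ ^ n = ψ (⟨(c : G), hrZ c⟩ ^ n) := by
        intro n
        induction n with
        | zero => rw [pow_zero, pow_zero, hψ1]
        | succ n ih => rw [pow_succ, pow_succ, hψmul, ih]
      rw [hpow]
      have e : (⟨(c : G), hrZ c⟩ : Z) ^ r = 1 := by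
        apply Subtype.ext
        rw [Subgroup.coe_pow, Subgroup.coe_one]
        have := congrArg Subtype.val (hrpow c)
        simpa using this
      rw [e, hψ1]
    have hinj : Function.Injective (fun c : β.range =>
        (⟨ψ ⟨(c : G), hrZ c⟩, hfmem c⟩ : Polynomial.nthRootsFinset r (1 : ℂ))) := by
      intro a b hab
      have h1 : ψ ⟨(a : G), hrZ a⟩ = ψ ⟨(b : G), hrZ b⟩ := congrArg Subtype.val hab
      have h2 : ψ (⟨(a : G), hrZ a⟩ * (⟨(b : G), hrZ b⟩ : Z)⁻¹) = 1 := by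
        rw [hψmul, h1, ← hψmul, mul_inv_cancel, hψ1]
      have h3 := hψf _ h2
      have h4 : (⟨(a : G), hrZ a⟩ : Z) = ⟨(b : G), hrZ b⟩ := mul_inv_eq_one.mp h3
      apply Subtype.ext
      have h6 : (a : G) = (b : G) := congrArg (fun z : Z => (z : G)) h4
      exact h6
    have h5 := Nat.card_le_card_of_injective _ hinj
    rw [Nat.card_eq_fintype_card (α := (Polynomial.nthRootsFinset r (1 : ℂ))),
      Fintype.card_coe] at h5
    refine h5.trans ?_
    rw [Polynomial.nthRootsFinset_def]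
    exact (Multiset.toFinset_card_le _).trans (Polynomial.card_nthRoots r 1)
  exact le_antisymm hle (Nat.le_of_dvd Nat.card_pos hdvd)

theorem caseB {G : Type u} [Group G] [Fintype G] (hsolv : Group.IsSolvable G) (p : ℕ)
    [hp : Fact p.Prime] (hIH : IH.{u} p (Nat.card G)) {χ : G → ℂ} (hχ : IsIrrCharacter G χ)
    (hfaith : ∀ g, χ g = χ 1 → g = 1)
    (hprim : ∀ (H : Subgroup G) (ψ : H → ℂ), IsIrrCharacter H ψ → indFun H ψ = χ → H = ⊤)
    (Q : Subgroup G) (hQ : IsPGroup p Q) (hQi : ¬ p ∣ Q.index) (hQn : ¬ Q.Normal)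
    (d : ℕ) (hd : χ 1 = d) : Good p d := by
  classical
  haveI := hsolv
  have hB1 : ∀ A : Subgroup G, A.Normal → (∀ a ∈ A, ∀ b ∈ A, a * b = b * a) →
      A ≤ Subgroup.center G := fun A hA hab =>
    @le_center_of_abelian_normal G _ _ χ hχ hfaith hprim A hA hab
  have hZtop : Subgroup.center G ≠ ⊤ := by
    intro h
    apply hQn
    constructor
    intro x hx g
    have hg : g ∈ Subgroup.center G := h ▸ Subgroup.mem_top g
    have h1 := Subgroup.mem_center_iff.mp hg x
    have e : g * x * g⁻¹ = x := by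
      rw [← h1]
      group
    rw [e]
    exact hx
  obtain ⟨ψ, hψ, hψmul, hψf⟩ := exists_central_char hχ hfaith
  have hψc := isCharacter_of_isIrrCharacter hψ
  have hψ1 : ψ 1 = 1 := by
    apply apply_one_eq_one_of_comm _ hψ
    intro a b
    apply Subtype.ext
    exact (Subgroup.mem_center_iff.mp a.2 (b : G)).symm
  have hψm := Cfsg.Agent.Lib.helper3.Lin.map_mul_of_apply_one_eq_one hψc hψ1
  obtain ⟨E, r, hEn, hr, hZE, hEZ, hexp, hcomm, j, hj⟩ := exists_section hsolv hZtop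
  haveI := hEn
  letI : Fintype E := Fintype.ofFinite E
  have hχc := isCharacter_of_isIrrCharacter hχ
  have hres0 : (fun n : E => χ n) ≠ 0 := by
    intro h
    have h1 := congrFun h 1
    exact apply_one_ne_zero hχ h1
  obtain ⟨η, hηcon⟩ := exists_constituent (isCharacter_restrict hχc E) hres0
  obtain ⟨hηinv, e₀, he₀, hχe⟩ := homogeneous_of_prim hχ hprim E η η.2 hηcon
  have hcenE : ∀ x ∈ E, (∀ y ∈ E, x * y = y * x) → x ∈ Subgroup.center G :=
    mem_center_of_central_in_normal hB1 E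
  letI : Fintype ((Subgroup.center G).subgroupOf E) := Fintype.ofFinite _
  have he0 : (e₀ : ℂ) ≠ 0 := by exact_mod_cast he₀.ne'
  have hηmul : ∀ (x : E) (z : (Subgroup.center G).subgroupOf E),
      (η : E → ℂ) (x * z) = ψ (Subgroup.subgroupOfEquivOfLe hZE z) * (η : E → ℂ) x := by
    intro x z
    have h1 := hχe (x * z)
    have h2 := hχe x
    have h3 := hψmul (x : G) (Subgroup.subgroupOfEquivOfLe hZE z)
    have e1 : ((x * (z : E) : E) : G)
        = (x : G) * ((Subgroup.subgroupOfEquivOfLe hZE z : Subgroup.center G) : G) := rfl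
    rw [e1, h3, h2] at h1
    apply mul_left_cancel₀ he0
    rw [← h1]
    ring
  have hψE := isIrrCharacter_comp_mulEquiv (Subgroup.subgroupOfEquivOfLe hZE) hψ
  have hover : classInner (fun z : (Subgroup.center G).subgroupOf E => (η : E → ℂ) z)
      (fun z : (Subgroup.center G).subgroupOf E => ψ (Subgroup.subgroupOfEquivOfLe hZE z)) ≠ 0 := by
    have h1 : (fun z : (Subgroup.center G).subgroupOf E => (η : E → ℂ) z)
        = ((η : E → ℂ) 1) • (fun z : (Subgroup.center G).subgroupOf E =>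
          ψ (Subgroup.subgroupOfEquivOfLe hZE z)) := by
      funext z
      have h2 := hηmul 1 z
      rw [one_mul] at h2
      rw [Pi.smul_apply, smul_eq_mul, h2, mul_comm]
    rw [h1, classInner_smul_left, irr_classInner_self hψE, mul_one]
    exact apply_one_ne_zero η.2
  obtain ⟨kE, hkE0, hkE, hidxE⟩ :=
    sq_relIndex (Subgroup.center G) E le_rfl hZE hψ hψf hcomm hcenE η.2 hover
  -- the exponents
  obtain ⟨m, hkm, hjm⟩ := sq_eq_prime_pow hr (hidxE.symm.trans hj)
  have hm : 1 ≤ m := by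
    rcases Nat.eq_zero_or_pos m with h0 | h0
    · exfalso
      rw [h0, pow_zero] at hkm
      rw [hkm, one_pow] at hidxE
      exact hEZ (Subgroup.relIndex_eq_one.mp hidxE)
    · exact h0
  have hkd : r ^ m ∣ d := by
    have h1 := hχe 1
    have e2 : ((1 : E) : G) = 1 := rfl
    rw [e2, hd, hkE, hkm] at h1
    have h2 : d = e₀ * r ^ m := by exact_mod_cast h1
    rw [h2]
    exact Dvd.intro_left _ rfl
  have hEidx : (Subgroup.center G).relIndex E = r ^ (2 * m) := by rw [hj, hjm]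
  by_cases hrp : r = p
  · rw [hrp] at hkd
    exact good_of_pow_self hp.out hm hkd
  -- the fixed points
  have hZn : ∀ y ∈ Q, ∀ z ∈ Subgroup.center G, y * z * y⁻¹ ∈ Subgroup.center G :=
    fun y _ z hz => (inferInstance : (Subgroup.center G).Normal).conj_mem z hz y
  have hEconj : ∀ y ∈ Q, ∀ w ∈ E, y * w * y⁻¹ ∈ E := fun y _ w hw => hEn.conj_mem w hw y
  have hcong := relIndex_modEq_fixed p Q (Subgroup.center G) E
    (fixMod Q (Subgroup.center G) E le_rfl) hQ hZE hZn hEconj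
    (mem_fixMod Q (Subgroup.center G) E le_rfl)
  have hDE : fixMod Q (Subgroup.center G) E le_rfl ≤ E := fun x hx => hx.1
  have hZD : Subgroup.center G ≤ fixMod Q (Subgroup.center G) E le_rfl := by
    intro z hz
    refine ⟨hZE hz, fun y hy => (Subgroup.center G).mul_mem ((Subgroup.center G).inv_mem hz)
      (hZn y hy z hz)⟩
  by_cases hDeq : fixMod Q (Subgroup.center G) E le_rfl = E
  · -- `Q` centralizes `E`
    have hfix : ∀ x ∈ E, ∀ y ∈ Q, x⁻¹ * (y * x * y⁻¹) ∈ Subgroup.center G := by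
      intro x hx y hy
      have hxD : x ∈ fixMod Q (Subgroup.center G) E le_rfl := by
        rw [hDeq]
        exact hx
      exact hxD.2 y hy
    have hcent := centralizes_of_fixMod hr hrp Q (Subgroup.center G) E hQ le_rfl hexp hfix
    have hQC : Q ≤ Subgroup.centralizer (E : Set G) := by
      intro y hy
      rw [Subgroup.mem_centralizer_iff]
      intro x hx
      exact (hcent y hy x hx).symm
    have hCtop : Subgroup.centralizer (E : Set G) ≠ ⊤ := by
      intro h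
      apply hEZ
      intro x hx
      rw [Subgroup.mem_center_iff]
      intro g
      have hg : g ∈ Subgroup.centralizer (E : Set G) := h ▸ Subgroup.mem_top g
      exact (Subgroup.mem_centralizer_iff.mp hg x hx).symm
    exact reduction hsolv p hIH hχ hfaith Q hQ hQi hQn (Subgroup.centralizer (E : Set G)) hCtop
      hQC d hd
  -- `D < E`
  have hmulidx := Subgroup.relIndex_mul_relIndex (Subgroup.center G)
    (fixMod Q (Subgroup.center G) E le_rfl) E hZD hDE
  have hDE1 : (fixMod Q (Subgroup.center G) E le_rfl).relIndex E ≠ 1 := by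
    intro h
    exact hDeq (le_antisymm hDE (Subgroup.relIndex_eq_one.mp h))
  have hDdvd : (Subgroup.center G).relIndex (fixMod Q (Subgroup.center G) E le_rfl) ∣ r ^ (2 * m) :=
    hEidx ▸ Dvd.intro _ hmulidx
  obtain ⟨f, hf2m, hDf⟩ := (Nat.dvd_prime_pow hr).mp hDdvd
  have hflt : f < 2 * m := by
    rcases Nat.lt_or_ge f (2 * m) with h | h
    · exact h
    · exfalso
      have hfe : f = 2 * m := le_antisymm hf2m h
      rw [hDf, hfe, hEidx] at hmulidx
      have hpos : 0 < r ^ (2 * m) := pow_pos hr.pos _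
      have h1 : (fixMod Q (Subgroup.center G) E le_rfl).relIndex E = 1 := by
        have h2 : r ^ (2 * m) * (fixMod Q (Subgroup.center G) E le_rfl).relIndex E
            = r ^ (2 * m) * 1 := by rw [hmulidx, mul_one]
        exact Nat.eq_of_mul_eq_mul_left hpos h2
      exact hDE1 h1
  rw [hEidx, hDf] at hcong
  by_cases hcenD : ∀ x ∈ fixMod Q (Subgroup.center G) E le_rfl,
      (∀ y ∈ fixMod Q (Subgroup.center G) E le_rfl, x * y = y * x) → x ∈ Subgroup.center G
  · -- the square lemma for `D`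
    letI : Fintype (fixMod Q (Subgroup.center G) E le_rfl) := Fintype.ofFinite _
    letI : Fintype ((Subgroup.center G).subgroupOf (fixMod Q (Subgroup.center G) E le_rfl)) :=
      Fintype.ofFinite _
    have hψD := isIrrCharacter_comp_mulEquiv (Subgroup.subgroupOfEquivOfLe hZD) hψ
    obtain ⟨φD, hφD⟩ := exists_irr_over
      ((Subgroup.center G).subgroupOf (fixMod Q (Subgroup.center G) E le_rfl)) _ hψD
    have hcommD : ∀ a ∈ fixMod Q (Subgroup.center G) E le_rfl,
        ∀ b ∈ fixMod Q (Subgroup.center G) E le_rfl, a * b * a⁻¹ * b⁻¹ ∈ Subgroup.center G :=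
      fun a ha b hb => hcomm a (hDE ha) b (hDE hb)
    obtain ⟨kD, hkD0, hkD, hidxD⟩ := sq_relIndex (Subgroup.center G)
      (fixMod Q (Subgroup.center G) E le_rfl) le_rfl hZD hψ hψf hcommD hcenD φD.2 hφD
    obtain ⟨c, hkc, hfc⟩ := sq_eq_prime_pow hr (hidxD.symm.trans hDf)
    have hcm : c < m := by omega
    rw [hfc] at hcong
    exact good_of_sq_pow hp.out hr hrp hcm hcong hkd
  · -- a noncentral element of `Z(D)`
    push Not at hcenD
    obtain ⟨d₀, hd₀D, hd₀c, hd₀Z⟩ := hcenD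
    have hd₀E : d₀ ∈ E := hDE hd₀D
    have hne : ∃ y ∈ E, d₀ * y ≠ y * d₀ := by
      by_contra hcon
      push Not at hcon
      exact hd₀Z (hcenE d₀ hd₀E hcon)
    have hidxr := relIndex_centralizer_eq hr (Subgroup.center G) E le_rfl hψm hψ1 hψf hexp hcomm
      d₀ hd₀E hne
    have hZE₁ : Subgroup.center G ≤ E ⊓ Subgroup.centralizer {d₀} := by
      intro z hz
      refine Subgroup.mem_inf.mpr ⟨hZE hz, ?_⟩
      rw [Subgroup.mem_centralizer_singleton_iff]
      exact (Subgroup.mem_center_iff.mp hz d₀).symm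
    have hE₁conj : ∀ y ∈ Q, ∀ w ∈ E ⊓ Subgroup.centralizer {d₀},
        y * w * y⁻¹ ∈ E ⊓ Subgroup.centralizer {d₀} := by
      intro y hy w hw
      obtain ⟨hwE, hwc⟩ := Subgroup.mem_inf.mp hw
      rw [Subgroup.mem_centralizer_singleton_iff] at hwc
      refine Subgroup.mem_inf.mpr ⟨hEconj y hy w hwE, ?_⟩
      rw [Subgroup.mem_centralizer_singleton_iff]
      have hz' := hd₀D.2 y⁻¹ (Q.inv_mem hy)
      have hzc := Subgroup.mem_center_iff.mp hz' w
      -- `y⁻¹ d₀ y = d₀ z'`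
      have e1 : y⁻¹ * d₀ * y = d₀ * (d₀⁻¹ * (y⁻¹ * d₀ * y⁻¹⁻¹)) := by group
      calc y * w * y⁻¹ * d₀ = y * w * (y⁻¹ * d₀ * y) * y⁻¹ := by group
        _ = y * w * (d₀ * (d₀⁻¹ * (y⁻¹ * d₀ * y⁻¹⁻¹))) * y⁻¹ := by rw [e1]
        _ = y * (w * d₀) * (d₀⁻¹ * (y⁻¹ * d₀ * y⁻¹⁻¹)) * y⁻¹ := by group
        _ = y * (d₀ * w) * (d₀⁻¹ * (y⁻¹ * d₀ * y⁻¹⁻¹)) * y⁻¹ := by rw [hwc]
        _ = y * d₀ * (w * (d₀⁻¹ * (y⁻¹ * d₀ * y⁻¹⁻¹))) * y⁻¹ := by group
        _ = y * d₀ * ((d₀⁻¹ * (y⁻¹ * d₀ * y⁻¹⁻¹)) * w) * y⁻¹ := by rw [hzc]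
        _ = d₀ * (y * w * y⁻¹) := by group
    have hcong₁ := relIndex_modEq_fixed p Q (Subgroup.center G) (E ⊓ Subgroup.centralizer {d₀})
      (fixMod Q (Subgroup.center G) (E ⊓ Subgroup.centralizer {d₀}) le_rfl) hQ hZE₁ hZn hE₁conj
      (mem_fixMod Q (Subgroup.center G) (E ⊓ Subgroup.centralizer {d₀}) le_rfl)
    have hDD : fixMod Q (Subgroup.center G) (E ⊓ Subgroup.centralizer {d₀}) le_rfl
        = fixMod Q (Subgroup.center G) E le_rfl := by
      apply le_antisymm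
      · intro x hx
        exact ⟨(Subgroup.mem_inf.mp hx.1).1, hx.2⟩
      · intro x hx
        refine ⟨Subgroup.mem_inf.mpr ⟨hx.1, ?_⟩, hx.2⟩
        rw [Subgroup.mem_centralizer_singleton_iff]
        exact (hd₀c x hx).symm
    rw [hDD, hDf] at hcong₁
    have hmul₁ := Subgroup.relIndex_mul_relIndex (Subgroup.center G)
      (E ⊓ Subgroup.centralizer {d₀}) E hZE₁ inf_le_left
    rw [hidxr, hEidx] at hmul₁
    have hwdvd : (Subgroup.center G).relIndex (E ⊓ Subgroup.centralizer {d₀}) ∣ r ^ (2 * m) :=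
      Dvd.intro _ hmul₁
    obtain ⟨w, -, hw⟩ := (Nat.dvd_prime_pow hr).mp hwdvd
    rw [hw] at hmul₁ hcong₁
    rw [← hmul₁] at hcong
    have hcop : Nat.gcd p (r ^ w) = 1 := by
      apply Nat.Coprime.pow_right
      exact (Nat.coprime_primes hp.out hr).mpr (Ne.symm hrp)
    have h1 : r ^ w * r ≡ r ^ w * 1 [MOD p] := by
      rw [mul_one]
      exact hcong.trans hcong₁.symm
    have h2 := Nat.ModEq.cancel_left_of_coprime hcop h1
    have hr1 : r ^ 1 ∣ d := by
      rw [pow_one]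
      exact (dvd_pow_self r (by omega : m ≠ 0)).trans hkd
    exact good_of_pow_modEq_one hr (le_refl 1) (by rw [pow_one]; exact h2) hr1

/-- One step of the induction. -/
theorem winter_step {G : Type u} [Group G] [Finite G] (hsolv : Group.IsSolvable G) (p : ℕ)
    [hp : Fact p.Prime] (hIH : IH.{u} p (Nat.card G)) {χ : G → ℂ} (hχ : IsIrrCharacter G χ)
    (hfaith : ∀ g, χ g = χ 1 → g = 1)
    (Q : Subgroup G) (hQ : IsPGroup p Q) (hQi : ¬ p ∣ Q.index) (hQn : ¬ Q.Normal)
    (d : ℕ) (hd : χ 1 = d) : Good p d := by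
  classical
  letI : Fintype G := Fintype.ofFinite G
  by_cases hind : ∃ (H : Subgroup G) (ψ : H → ℂ), H ≠ ⊤ ∧ IsIrrCharacter H ψ ∧ indFun H ψ = χ
  · obtain ⟨H, ψ, hH, hψ, hψχ⟩ := hind
    obtain ⟨L, hL, hHL⟩ := (eq_top_or_exists_le_coatom H).resolve_left hH
    obtain ⟨k, -, hk⟩ := exists_pos_nat_apply_one hψ
    have h1 := indFun_apply_one H ψ
    rw [hψχ, hd, hk] at h1
    have h2 : d = H.index * k := by exact_mod_cast h1
    have hLd : L.index ∣ d := by
      rw [h2]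
      exact (Subgroup.index_dvd_of_le hHL).trans (Dvd.intro _ rfl)
    exact caseA hsolv p hIH hχ hfaith Q hQ hQi hQn d hd L hL hLd
  · have hprim : ∀ (H : Subgroup G) (ψ : H → ℂ), IsIrrCharacter H ψ → indFun H ψ = χ → H = ⊤ := by
      intro H ψ hψ hψχ
      by_contra hH
      exact hind ⟨H, ψ, hH, hψ, hψχ⟩
    exact caseB hsolv p hIH hχ hfaith hprim Q hQ hQi hQn d hd

theorem winter_all (p : ℕ) [hp : Fact p.Prime] : ∀ c : ℕ, IH.{u} p c := by
  intro c
  induction c with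
  | zero =>
    intro X _ _ _ hlt
    exact absurd hlt (Nat.not_lt_zero _)
  | succ c ih =>
    intro X _ _ hsolv hlt θ hθ hf Q hQ hQi hQn d hd
    by_cases hc : Nat.card X < c
    · exact ih X hsolv hc θ hθ hf Q hQ hQi hQn d hd
    · have hcard : Nat.card X = c := by omega
      have hIH : IH.{u} p (Nat.card X) := hcard ▸ ih
      exact winter_step hsolv p hIH hθ hf Q hQ hQi hQn d hd

/-- Winter's theorem. -/
theorem winter {G : Type u} [Group G] [Finite G] (hsolv : Group.IsSolvable G) (p : ℕ)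
    [hp : Fact p.Prime] {χ : G → ℂ} (hχ : IsIrrCharacter G χ) (hfaith : ∀ g, χ g = χ 1 → g = 1)
    (P : Sylow p G) (hP : ¬ (P : Subgroup G).Normal) (d : ℕ) (hd : χ 1 = d) : Good p d :=
  winter_all p (Nat.card G + 1) G hsolv (Nat.lt_succ_self _) χ hχ hfaith (P : Subgroup G)
    P.isPGroup' P.not_dvd_index hP d hd

end Cfsg.Agent.H1.Winter
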